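import Cfsg.Agent.Lib.Helper35.Fi24a.Data

set_option Elab.async false

namespace Cfsg.Agent.Lib.Helper35.Fi24a

open Cfsg.Agent.Lib.Helper35

theorem s0c319 : allBelow (fun k => fs0 (Nat.add (Nat.succ 106690) k)) 442 = true := by decide +kernel
theorem s0c320 : allBelow (fun k => fs0 (Nat.add (Nat.succ 107132) k)) 416 = true := by decide +kernel
theorem s0c321 : allBelow (fun k => fs0 (Nat.add (Nat.succ 107548) k)) 276 = true := by decide +kernel
theorem s0c322 : allBelow (fun k => fs0 (Nat.add (Nat.succ 107824) k)) 332 = true := by decide +kernel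
theorem s0c323 : allBelow (fun k => fs0 (Nat.add (Nat.succ 108156) k)) 353 = true := by decide +kernel
theorem s0c324 : allBelow (fun k => fs0 (Nat.add (Nat.succ 108509) k)) 302 = true := by decide +kernel
theorem s0c325 : allBelow (fun k => fs0 (Nat.add (Nat.succ 108811) k)) 305 = true := by decide +kernel
theorem s0c326 : allBelow (fun k => fs0 (Nat.add (Nat.succ 109116) k)) 439 = true := by decide +kernel
theorem s0c327 : allBelow (fun k => fs0 (Nat.add (Nat.succ 109555) k)) 354 = true := by decide +kernel
theorem s0c328 : allBelow (fun k => fs0 (Nat.add (Nat.succ 109909) k)) 306 = true := by decide +kernel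
theorem s0c329 : allBelow (fun k => fs0 (Nat.add (Nat.succ 110215) k)) 332 = true := by decide +kernel
theorem s0c330 : allBelow (fun k => fs0 (Nat.add (Nat.succ 110547) k)) 382 = true := by decide +kernel
theorem s0c331 : allBelow (fun k => fs0 (Nat.add (Nat.succ 110929) k)) 312 = true := by decide +kernel
theorem s0c332 : allBelow (fun k => fs0 (Nat.add (Nat.succ 111241) k)) 359 = true := by decide +kernel
theorem s0c333 : allBelow (fun k => fs0 (Nat.add (Nat.succ 111600) k)) 302 = true := by decide +kernel
theorem s0c334 : allBelow (fun k => fs0 (Nat.add (Nat.succ 111902) k)) 316 = true := by decide +kernel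
theorem s0c335 : allBelow (fun k => fs0 (Nat.add (Nat.succ 112218) k)) 308 = true := by decide +kernel
theorem s0c336 : allBelow (fun k => fs0 (Nat.add (Nat.succ 112526) k)) 309 = true := by decide +kernel
theorem s0c337 : allBelow (fun k => fs0 (Nat.add (Nat.succ 112835) k)) 325 = true := by decide +kernel
theorem s0c338 : allBelow (fun k => fs0 (Nat.add (Nat.succ 113160) k)) 337 = true := by decide +kernel
theorem s0c339 : allBelow (fun k => fs0 (Nat.add (Nat.succ 113497) k)) 350 = true := by decide +kernel
theorem s0c340 : allBelow (fun k => fs0 (Nat.add (Nat.succ 113847) k)) 341 = true := by decide +kernel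
theorem s0c341 : allBelow (fun k => fs0 (Nat.add (Nat.succ 114188) k)) 370 = true := by decide +kernel
theorem s0c342 : allBelow (fun k => fs0 (Nat.add (Nat.succ 114558) k)) 459 = true := by decide +kernel
theorem s0c343 : allBelow (fun k => fs0 (Nat.add (Nat.succ 115017) k)) 455 = true := by decide +kernel
theorem s0c344 : allBelow (fun k => fs0 (Nat.add (Nat.succ 115472) k)) 411 = true := by decide +kernel
theorem s0c345 : allBelow (fun k => fs0 (Nat.add (Nat.succ 115883) k)) 446 = true := by decide +kernel
theorem s0c346 : allBelow (fun k => fs0 (Nat.add (Nat.succ 116329) k)) 444 = true := by decide +kernel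
theorem s0c347 : allBelow (fun k => fs0 (Nat.add (Nat.succ 116773) k)) 554 = true := by decide +kernel
theorem s0c348 : allBelow (fun k => fs0 (Nat.add (Nat.succ 117327) k)) 392 = true := by decide +kernel
theorem s0c349 : allBelow (fun k => fs0 (Nat.add (Nat.succ 117719) k)) 413 = true := by decide +kernel
theorem s0c350 : allBelow (fun k => fs0 (Nat.add (Nat.succ 118132) k)) 411 = true := by decide +kernel
theorem s0c351 : allBelow (fun k => fs0 (Nat.add (Nat.succ 118543) k)) 357 = true := by decide +kernel
theorem s0c352 : allBelow (fun k => fs0 (Nat.add (Nat.succ 118900) k)) 361 = true := by decide +kernel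
theorem s0c353 : allBelow (fun k => fs0 (Nat.add (Nat.succ 119261) k)) 487 = true := by decide +kernel
theorem s0c354 : allBelow (fun k => fs0 (Nat.add (Nat.succ 119748) k)) 636 = true := by decide +kernel
theorem s0c355 : allBelow (fun k => fs0 (Nat.add (Nat.succ 120384) k)) 365 = true := by decide +kernel
theorem s0c356 : allBelow (fun k => fs0 (Nat.add (Nat.succ 120749) k)) 290 = true := by decide +kernel
theorem s0c357 : allBelow (fun k => fs0 (Nat.add (Nat.succ 121039) k)) 289 = true := by decide +kernel
theorem s0c358 : allBelow (fun k => fs0 (Nat.add (Nat.succ 121328) k)) 361 = true := by decide +kernel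
theorem s0c359 : allBelow (fun k => fs0 (Nat.add (Nat.succ 121689) k)) 336 = true := by decide +kernel
theorem s0c360 : allBelow (fun k => fs0 (Nat.add (Nat.succ 122025) k)) 293 = true := by decide +kernel
theorem s0c361 : allBelow (fun k => fs0 (Nat.add (Nat.succ 122318) k)) 334 = true := by decide +kernel
theorem s0c362 : allBelow (fun k => fs0 (Nat.add (Nat.succ 122652) k)) 313 = true := by decide +kernel
theorem s0c363 : allBelow (fun k => fs0 (Nat.add (Nat.succ 122965) k)) 582 = true := by decide +kernel
theorem s0c364 : allBelow (fun k => fs0 (Nat.add (Nat.succ 123547) k)) 476 = true := by decide +kernel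
theorem s0c365 : allBelow (fun k => fs0 (Nat.add (Nat.succ 124023) k)) 521 = true := by decide +kernel
theorem s0c366 : allBelow (fun k => fs0 (Nat.add (Nat.succ 124544) k)) 342 = true := by decide +kernel
theorem s0c367 : allBelow (fun k => fs0 (Nat.add (Nat.succ 124886) k)) 239 = true := by decide +kernel
theorem s0c368 : allBelow (fun k => fs0 (Nat.add (Nat.succ 125125) k)) 238 = true := by decide +kernel
theorem s0c369 : allBelow (fun k => fs0 (Nat.add (Nat.succ 125363) k)) 242 = true := by decide +kernel
theorem s0c370 : allBelow (fun k => fs0 (Nat.add (Nat.succ 125605) k)) 233 = true := by decide +kernel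
theorem s0c371 : allBelow (fun k => fs0 (Nat.add (Nat.succ 125838) k)) 228 = true := by decide +kernel
theorem s0c372 : allBelow (fun k => fs0 (Nat.add (Nat.succ 126066) k)) 238 = true := by decide +kernel
theorem s0c373 : allBelow (fun k => fs0 (Nat.add (Nat.succ 126304) k)) 236 = true := by decide +kernel
theorem s0c374 : allBelow (fun k => fs0 (Nat.add (Nat.succ 126540) k)) 230 = true := by decide +kernel
theorem s0c375 : allBelow (fun k => fs0 (Nat.add (Nat.succ 126770) k)) 228 = true := by decide +kernel
theorem s0c376 : allBelow (fun k => fs0 (Nat.add (Nat.succ 126998) k)) 229 = true := by decide +kernel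
theorem s0c377 : allBelow (fun k => fs0 (Nat.add (Nat.succ 127227) k)) 228 = true := by decide +kernel
theorem s0c378 : allBelow (fun k => fs0 (Nat.add (Nat.succ 127455) k)) 232 = true := by decide +kernel
theorem s0c379 : allBelow (fun k => fs0 (Nat.add (Nat.succ 127687) k)) 238 = true := by decide +kernel
theorem s0c380 : allBelow (fun k => fs0 (Nat.add (Nat.succ 127925) k)) 231 = true := by decide +kernel
theorem s0c381 : allBelow (fun k => fs0 (Nat.add (Nat.succ 128156) k)) 235 = true := by decide +kernel
theorem s0c382 : allBelow (fun k => fs0 (Nat.add (Nat.succ 128391) k)) 230 = true := by decide +kernel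
theorem s0c383 : allBelow (fun k => fs0 (Nat.add (Nat.succ 128621) k)) 241 = true := by decide +kernel
theorem s0c384 : allBelow (fun k => fs0 (Nat.add (Nat.succ 128862) k)) 238 = true := by decide +kernel
theorem s0c385 : allBelow (fun k => fs0 (Nat.add (Nat.succ 129100) k)) 229 = true := by decide +kernel
theorem s0c386 : allBelow (fun k => fs0 (Nat.add (Nat.succ 129329) k)) 229 = true := by decide +kernel
theorem s0c387 : allBelow (fun k => fs0 (Nat.add (Nat.succ 129558) k)) 232 = true := by decide +kernel
theorem s0c388 : allBelow (fun k => fs0 (Nat.add (Nat.succ 129790) k)) 231 = true := by decide +kernel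
theorem s0c389 : allBelow (fun k => fs0 (Nat.add (Nat.succ 130021) k)) 228 = true := by decide +kernel
theorem s0c390 : allBelow (fun k => fs0 (Nat.add (Nat.succ 130249) k)) 229 = true := by decide +kernel
theorem s0c391 : allBelow (fun k => fs0 (Nat.add (Nat.succ 130478) k)) 238 = true := by decide +kernel
theorem s0c392 : allBelow (fun k => fs0 (Nat.add (Nat.succ 130716) k)) 241 = true := by decide +kernel
theorem s0c393 : allBelow (fun k => fs0 (Nat.add (Nat.succ 130957) k)) 298 = true := by decide +kernel
theorem s0c394 : allBelow (fun k => fs0 (Nat.add (Nat.succ 131255) k)) 300 = true := by decide +kernel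
theorem s0c395 : allBelow (fun k => fs0 (Nat.add (Nat.succ 131555) k)) 305 = true := by decide +kernel
theorem s0c396 : allBelow (fun k => fs0 (Nat.add (Nat.succ 131860) k)) 311 = true := by decide +kernel
theorem s0c397 : allBelow (fun k => fs0 (Nat.add (Nat.succ 132171) k)) 318 = true := by decide +kernel
theorem s0c398 : allBelow (fun k => fs0 (Nat.add (Nat.succ 132489) k)) 300 = true := by decide +kernel
theorem s0c399 : allBelow (fun k => fs0 (Nat.add (Nat.succ 132789) k)) 304 = true := by decide +kernel
theorem s0c400 : allBelow (fun k => fs0 (Nat.add (Nat.succ 133093) k)) 317 = true := by decide +kernel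
theorem s0c401 : allBelow (fun k => fs0 (Nat.add (Nat.succ 133410) k)) 299 = true := by decide +kernel
theorem s0c402 : allBelow (fun k => fs0 (Nat.add (Nat.succ 133709) k)) 297 = true := by decide +kernel
theorem s0c403 : allBelow (fun k => fs0 (Nat.add (Nat.succ 134006) k)) 299 = true := by decide +kernel
theorem s0c404 : allBelow (fun k => fs0 (Nat.add (Nat.succ 134305) k)) 282 = true := by decide +kernel
theorem s0c405 : allBelow (fun k => fs0 (Nat.add (Nat.succ 134587) k)) 303 = true := by decide +kernel
theorem s0c406 : allBelow (fun k => fs0 (Nat.add (Nat.succ 134890) k)) 306 = true := by decide +kernel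
theorem s0c407 : allBelow (fun k => fs0 (Nat.add (Nat.succ 135196) k)) 301 = true := by decide +kernel
theorem s0c408 : allBelow (fun k => fs0 (Nat.add (Nat.succ 135497) k)) 299 = true := by decide +kernel
theorem s0c409 : allBelow (fun k => fs0 (Nat.add (Nat.succ 135796) k)) 303 = true := by decide +kernel
theorem s0c410 : allBelow (fun k => fs0 (Nat.add (Nat.succ 136099) k)) 316 = true := by decide +kernel
theorem s0c411 : allBelow (fun k => fs0 (Nat.add (Nat.succ 136415) k)) 304 = true := by decide +kernel
theorem s0c412 : allBelow (fun k => fs0 (Nat.add (Nat.succ 136719) k)) 310 = true := by decide +kernel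
theorem s0c413 : allBelow (fun k => fs0 (Nat.add (Nat.succ 137029) k)) 301 = true := by decide +kernel
theorem s0c414 : allBelow (fun k => fs0 (Nat.add (Nat.succ 137330) k)) 299 = true := by decide +kernel
theorem s0c415 : allBelow (fun k => fs0 (Nat.add (Nat.succ 137629) k)) 313 = true := by decide +kernel
theorem s0c416 : allBelow (fun k => fs0 (Nat.add (Nat.succ 137942) k)) 300 = true := by decide +kernel
theorem s0c417 : allBelow (fun k => fs0 (Nat.add (Nat.succ 138242) k)) 306 = true := by decide +kernel
theorem s0c418 : allBelow (fun k => fs0 (Nat.add (Nat.succ 138548) k)) 287 = true := by decide +kernel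
theorem s0c419 : allBelow (fun k => fs0 (Nat.add (Nat.succ 138835) k)) 305 = true := by decide +kernel
theorem s0c420 : allBelow (fun k => fs0 (Nat.add (Nat.succ 139140) k)) 239 = true := by decide +kernel
theorem s0c421 : allBelow (fun k => fs0 (Nat.add (Nat.succ 139379) k)) 229 = true := by decide +kernel
theorem s0c422 : allBelow (fun k => fs0 (Nat.add (Nat.succ 139608) k)) 228 = true := by decide +kernel
theorem s0c423 : allBelow (fun k => fs0 (Nat.add (Nat.succ 139836) k)) 228 = true := by decide +kernel
theorem s0c424 : allBelow (fun k => fs0 (Nat.add (Nat.succ 140064) k)) 228 = true := by decide +kernel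
theorem s0c425 : allBelow (fun k => fs0 (Nat.add (Nat.succ 140292) k)) 233 = true := by decide +kernel
theorem s0c426 : allBelow (fun k => fs0 (Nat.add (Nat.succ 140525) k)) 232 = true := by decide +kernel
theorem s0c427 : allBelow (fun k => fs0 (Nat.add (Nat.succ 140757) k)) 233 = true := by decide +kernel
theorem s0c428 : allBelow (fun k => fs0 (Nat.add (Nat.succ 140990) k)) 228 = true := by decide +kernel
theorem s0c429 : allBelow (fun k => fs0 (Nat.add (Nat.succ 141218) k)) 229 = true := by decide +kernel
theorem s0c430 : allBelow (fun k => fs0 (Nat.add (Nat.succ 141447) k)) 244 = true := by decide +kernel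
theorem s0c431 : allBelow (fun k => fs0 (Nat.add (Nat.succ 141691) k)) 240 = true := by decide +kernel
theorem s0c432 : allBelow (fun k => fs0 (Nat.add (Nat.succ 141931) k)) 242 = true := by decide +kernel
theorem s0c433 : allBelow (fun k => fs0 (Nat.add (Nat.succ 142173) k)) 232 = true := by decide +kernel
theorem s0c434 : allBelow (fun k => fs0 (Nat.add (Nat.succ 142405) k)) 228 = true := by decide +kernel
theorem s0c435 : allBelow (fun k => fs0 (Nat.add (Nat.succ 142633) k)) 228 = true := by decide +kernel
theorem s0c436 : allBelow (fun k => fs0 (Nat.add (Nat.succ 142861) k)) 241 = true := by decide +kernel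
theorem s0c437 : allBelow (fun k => fs0 (Nat.add (Nat.succ 143102) k)) 237 = true := by decide +kernel
theorem s0c438 : allBelow (fun k => fs0 (Nat.add (Nat.succ 143339) k)) 230 = true := by decide +kernel
theorem s0c439 : allBelow (fun k => fs0 (Nat.add (Nat.succ 143569) k)) 229 = true := by decide +kernel
theorem s0c440 : allBelow (fun k => fs0 (Nat.add (Nat.succ 143798) k)) 229 = true := by decide +kernel
theorem s0c441 : allBelow (fun k => fs0 (Nat.add (Nat.succ 144027) k)) 230 = true := by decide +kernel
theorem s0c442 : allBelow (fun k => fs0 (Nat.add (Nat.succ 144257) k)) 228 = true := by decide +kernel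
theorem s0c443 : allBelow (fun k => fs0 (Nat.add (Nat.succ 144485) k)) 231 = true := by decide +kernel
theorem s0c444 : allBelow (fun k => fs0 (Nat.add (Nat.succ 144716) k)) 232 = true := by decide +kernel
theorem s0c445 : allBelow (fun k => fs0 (Nat.add (Nat.succ 144948) k)) 242 = true := by decide +kernel
theorem s0c446 : allBelow (fun k => fs0 (Nat.add (Nat.succ 145190) k)) 233 = true := by decide +kernel
theorem s0c447 : allBelow (fun k => fs0 (Nat.add (Nat.succ 145423) k)) 235 = true := by decide +kernel
theorem s0c448 : allBelow (fun k => fs0 (Nat.add (Nat.succ 145658) k)) 229 = true := by decide +kernel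
theorem s0c449 : allBelow (fun k => fs0 (Nat.add (Nat.succ 145887) k)) 241 = true := by decide +kernel
theorem s0c450 : allBelow (fun k => fs0 (Nat.add (Nat.succ 146128) k)) 241 = true := by decide +kernel
theorem s0c451 : allBelow (fun k => fs0 (Nat.add (Nat.succ 146369) k)) 229 = true := by decide +kernel
theorem s0c452 : allBelow (fun k => fs0 (Nat.add (Nat.succ 146598) k)) 229 = true := by decide +kernel
theorem s0c453 : allBelow (fun k => fs0 (Nat.add (Nat.succ 146827) k)) 228 = true := by decide +kernel
theorem s0c454 : allBelow (fun k => fs0 (Nat.add (Nat.succ 147055) k)) 231 = true := by decide +kernel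
theorem s0c455 : allBelow (fun k => fs0 (Nat.add (Nat.succ 147286) k)) 231 = true := by decide +kernel
theorem s0c456 : allBelow (fun k => fs0 (Nat.add (Nat.succ 147517) k)) 229 = true := by decide +kernel
theorem s0c457 : allBelow (fun k => fs0 (Nat.add (Nat.succ 147746) k)) 235 = true := by decide +kernel
theorem s0c458 : allBelow (fun k => fs0 (Nat.add (Nat.succ 147981) k)) 262 = true := by decide +kernel
theorem s0c459 : allBelow (fun k => fs0 (Nat.add (Nat.succ 148243) k)) 291 = true := by decide +kernel
theorem s0c460 : allBelow (fun k => fs0 (Nat.add (Nat.succ 148534) k)) 313 = true := by decide +kernel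
theorem s0c461 : allBelow (fun k => fs0 (Nat.add (Nat.succ 148847) k)) 296 = true := by decide +kernel
theorem s0c462 : allBelow (fun k => fs0 (Nat.add (Nat.succ 149143) k)) 309 = true := by decide +kernel
theorem s0c463 : allBelow (fun k => fs0 (Nat.add (Nat.succ 149452) k)) 316 = true := by decide +kernel
theorem s0c464 : allBelow (fun k => fs0 (Nat.add (Nat.succ 149768) k)) 293 = true := by decide +kernel
theorem s0c465 : allBelow (fun k => fs0 (Nat.add (Nat.succ 150061) k)) 318 = true := by decide +kernel
theorem s0c466 : allBelow (fun k => fs0 (Nat.add (Nat.succ 150379) k)) 301 = true := by decide +kernel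
theorem s0c467 : allBelow (fun k => fs0 (Nat.add (Nat.succ 150680) k)) 316 = true := by decide +kernel
theorem s0c468 : allBelow (fun k => fs0 (Nat.add (Nat.succ 150996) k)) 301 = true := by decide +kernel
theorem s0c469 : allBelow (fun k => fs0 (Nat.add (Nat.succ 151297) k)) 284 = true := by decide +kernel
theorem s0c470 : allBelow (fun k => fs0 (Nat.add (Nat.succ 151581) k)) 315 = true := by decide +kernel
theorem s0c471 : allBelow (fun k => fs0 (Nat.add (Nat.succ 151896) k)) 278 = true := by decide +kernel
theorem s0c472 : allBelow (fun k => fs0 (Nat.add (Nat.succ 152174) k)) 284 = true := by decide +kernel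
theorem s0c473 : allBelow (fun k => fs0 (Nat.add (Nat.succ 152458) k)) 317 = true := by decide +kernel
theorem s0c474 : allBelow (fun k => fs0 (Nat.add (Nat.succ 152775) k)) 285 = true := by decide +kernel
theorem s0c475 : allBelow (fun k => fs0 (Nat.add (Nat.succ 153060) k)) 289 = true := by decide +kernel
theorem s0c476 : allBelow (fun k => fs0 (Nat.add (Nat.succ 153349) k)) 317 = true := by decide +kernel
theorem s0c477 : allBelow (fun k => fs0 (Nat.add (Nat.succ 153666) k)) 305 = true := by decide +kernel
theorem s0c478 : allBelow (fun k => fs0 (Nat.add (Nat.succ 153971) k)) 296 = true := by decide +kernel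
theorem s0c479 : allBelow (fun k => fs0 (Nat.add (Nat.succ 154267) k)) 315 = true := by decide +kernel
theorem s0c480 : allBelow (fun k => fs0 (Nat.add (Nat.succ 154582) k)) 315 = true := by decide +kernel
theorem s0c481 : allBelow (fun k => fs0 (Nat.add (Nat.succ 154897) k)) 303 = true := by decide +kernel
theorem s0c482 : allBelow (fun k => fs0 (Nat.add (Nat.succ 155200) k)) 306 = true := by decide +kernel
theorem s0c483 : allBelow (fun k => fs0 (Nat.add (Nat.succ 155506) k)) 302 = true := by decide +kernel
theorem s0c484 : allBelow (fun k => fs0 (Nat.add (Nat.succ 155808) k)) 306 = true := by decide +kernel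
theorem s0c485 : allBelow (fun k => fs0 (Nat.add (Nat.succ 156114) k)) 310 = true := by decide +kernel
theorem s0c486 : allBelow (fun k => fs0 (Nat.add (Nat.succ 156424) k)) 301 = true := by decide +kernel
theorem s0c487 : allBelow (fun k => fs0 (Nat.add (Nat.succ 156725) k)) 285 = true := by decide +kernel
theorem s0c488 : allBelow (fun k => fs0 (Nat.add (Nat.succ 157010) k)) 309 = true := by decide +kernel
theorem s0c489 : allBelow (fun k => fs0 (Nat.add (Nat.succ 157319) k)) 233 = true := by decide +kernel
theorem s0c490 : allBelow (fun k => fs0 (Nat.add (Nat.succ 157552) k)) 230 = true := by decide +kernel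
theorem s0c491 : allBelow (fun k => fs0 (Nat.add (Nat.succ 157782) k)) 229 = true := by decide +kernel
theorem s0c492 : allBelow (fun k => fs0 (Nat.add (Nat.succ 158011) k)) 228 = true := by decide +kernel
theorem s0c493 : allBelow (fun k => fs0 (Nat.add (Nat.succ 158239) k)) 228 = true := by decide +kernel
theorem s0c494 : allBelow (fun k => fs0 (Nat.add (Nat.succ 158467) k)) 233 = true := by decide +kernel
theorem s0c495 : allBelow (fun k => fs0 (Nat.add (Nat.succ 158700) k)) 235 = true := by decide +kernel
theorem s0c496 : allBelow (fun k => fs0 (Nat.add (Nat.succ 158935) k)) 232 = true := by decide +kernel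
theorem s0c497 : allBelow (fun k => fs0 (Nat.add (Nat.succ 159167) k)) 229 = true := by decide +kernel
theorem s0c498 : allBelow (fun k => fs0 (Nat.add (Nat.succ 159396) k)) 230 = true := by decide +kernel
theorem s0c499 : allBelow (fun k => fs0 (Nat.add (Nat.succ 159626) k)) 249 = true := by decide +kernel
theorem s0c500 : allBelow (fun k => fs0 (Nat.add (Nat.succ 159875) k)) 233 = true := by decide +kernel
theorem s0c501 : allBelow (fun k => fs0 (Nat.add (Nat.succ 160108) k)) 238 = true := by decide +kernel
theorem s0c502 : allBelow (fun k => fs0 (Nat.add (Nat.succ 160346) k)) 239 = true := by decide +kernel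
theorem s0c503 : allBelow (fun k => fs0 (Nat.add (Nat.succ 160585) k)) 229 = true := by decide +kernel
theorem s0c504 : allBelow (fun k => fs0 (Nat.add (Nat.succ 160814) k)) 228 = true := by decide +kernel
theorem s0c505 : allBelow (fun k => fs0 (Nat.add (Nat.succ 161042) k)) 228 = true := by decide +kernel
theorem s0c506 : allBelow (fun k => fs0 (Nat.add (Nat.succ 161270) k)) 247 = true := by decide +kernel
theorem s0c507 : allBelow (fun k => fs0 (Nat.add (Nat.succ 161517) k)) 229 = true := by decide +kernel
theorem s0c508 : allBelow (fun k => fs0 (Nat.add (Nat.succ 161746) k)) 240 = true := by decide +kernel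
theorem s0c509 : allBelow (fun k => fs0 (Nat.add (Nat.succ 161986) k)) 229 = true := by decide +kernel
theorem s0c510 : allBelow (fun k => fs0 (Nat.add (Nat.succ 162215) k)) 228 = true := by decide +kernel
theorem s0c511 : allBelow (fun k => fs0 (Nat.add (Nat.succ 162443) k)) 229 = true := by decide +kernel
theorem s0c512 : allBelow (fun k => fs0 (Nat.add (Nat.succ 162672) k)) 228 = true := by decide +kernel
theorem s0c513 : allBelow (fun k => fs0 (Nat.add (Nat.succ 162900) k)) 230 = true := by decide +kernel
theorem s0c514 : allBelow (fun k => fs0 (Nat.add (Nat.succ 163130) k)) 228 = true := by decide +kernel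
theorem s0c515 : allBelow (fun k => fs0 (Nat.add (Nat.succ 163358) k)) 232 = true := by decide +kernel
theorem s0c516 : allBelow (fun k => fs0 (Nat.add (Nat.succ 163590) k)) 238 = true := by decide +kernel
theorem s0c517 : allBelow (fun k => fs0 (Nat.add (Nat.succ 163828) k)) 243 = true := by decide +kernel
theorem s0c518 : allBelow (fun k => fs0 (Nat.add (Nat.succ 164071) k)) 236 = true := by decide +kernel
theorem s0c519 : allBelow (fun k => fs0 (Nat.add (Nat.succ 164307) k)) 236 = true := by decide +kernel
theorem s0c520 : allBelow (fun k => fs0 (Nat.add (Nat.succ 164543) k)) 228 = true := by decide +kernel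
theorem s0c521 : allBelow (fun k => fs0 (Nat.add (Nat.succ 164771) k)) 229 = true := by decide +kernel
theorem s0c522 : allBelow (fun k => fs0 (Nat.add (Nat.succ 165000) k)) 242 = true := by decide +kernel
theorem s0c523 : allBelow (fun k => fs0 (Nat.add (Nat.succ 165242) k)) 238 = true := by decide +kernel
theorem s0c524 : allBelow (fun k => fs0 (Nat.add (Nat.succ 165480) k)) 229 = true := by decide +kernel
theorem s0c525 : allBelow (fun k => fs0 (Nat.add (Nat.succ 165709) k)) 231 = true := by decide +kernel
theorem s0c526 : allBelow (fun k => fs0 (Nat.add (Nat.succ 165940) k)) 230 = true := by decide +kernel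
theorem s0c527 : allBelow (fun k => fs0 (Nat.add (Nat.succ 166170) k)) 230 = true := by decide +kernel
theorem s0c528 : allBelow (fun k => fs0 (Nat.add (Nat.succ 166400) k)) 228 = true := by decide +kernel
theorem s0c529 : allBelow (fun k => fs0 (Nat.add (Nat.succ 166628) k)) 233 = true := by decide +kernel
theorem s0c530 : allBelow (fun k => fs0 (Nat.add (Nat.succ 166861) k)) 278 = true := by decide +kernel
theorem s0c531 : allBelow (fun k => fs0 (Nat.add (Nat.succ 167139) k)) 283 = true := by decide +kernel
theorem s0c532 : allBelow (fun k => fs0 (Nat.add (Nat.succ 167422) k)) 319 = true := by decide +kernel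
theorem s0c533 : allBelow (fun k => fs0 (Nat.add (Nat.succ 167741) k)) 296 = true := by decide +kernel
theorem s0c534 : allBelow (fun k => fs0 (Nat.add (Nat.succ 168037) k)) 306 = true := by decide +kernel
theorem s0c535 : allBelow (fun k => fs0 (Nat.add (Nat.succ 168343) k)) 313 = true := by decide +kernel
theorem s0c536 : allBelow (fun k => fs0 (Nat.add (Nat.succ 168656) k)) 316 = true := by decide +kernel
theorem s0c537 : allBelow (fun k => fs0 (Nat.add (Nat.succ 168972) k)) 284 = true := by decide +kernel
theorem s0c538 : allBelow (fun k => fs0 (Nat.add (Nat.succ 169256) k)) 317 = true := by decide +kernel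
theorem s0c539 : allBelow (fun k => fs0 (Nat.add (Nat.succ 169573) k)) 296 = true := by decide +kernel
theorem s0c540 : allBelow (fun k => fs0 (Nat.add (Nat.succ 169869) k)) 317 = true := by decide +kernel
theorem s0c541 : allBelow (fun k => fs0 (Nat.add (Nat.succ 170186) k)) 311 = true := by decide +kernel
theorem s0c542 : allBelow (fun k => fs0 (Nat.add (Nat.succ 170497) k)) 285 = true := by decide +kernel
theorem s0c543 : allBelow (fun k => fs0 (Nat.add (Nat.succ 170782) k)) 285 = true := by decide +kernel
theorem s0c544 : allBelow (fun k => fs0 (Nat.add (Nat.succ 171067) k)) 319 = true := by decide +kernel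
theorem s0c545 : allBelow (fun k => fs0 (Nat.add (Nat.succ 171386) k)) 277 = true := by decide +kernel
theorem s0c546 : allBelow (fun k => fs0 (Nat.add (Nat.succ 171663) k)) 270 = true := by decide +kernel
theorem s0c547 : allBelow (fun k => fs0 (Nat.add (Nat.succ 171933) k)) 314 = true := by decide +kernel
theorem s0c548 : allBelow (fun k => fs0 (Nat.add (Nat.succ 172247) k)) 288 = true := by decide +kernel
theorem s0c549 : allBelow (fun k => fs0 (Nat.add (Nat.succ 172535) k)) 302 = true := by decide +kernel
theorem s0c550 : allBelow (fun k => fs0 (Nat.add (Nat.succ 172837) k)) 283 = true := by decide +kernel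
theorem s0c551 : allBelow (fun k => fs0 (Nat.add (Nat.succ 173120) k)) 309 = true := by decide +kernel
theorem s0c552 : allBelow (fun k => fs0 (Nat.add (Nat.succ 173429) k)) 319 = true := by decide +kernel
theorem s0c553 : allBelow (fun k => fs0 (Nat.add (Nat.succ 173748) k)) 293 = true := by decide +kernel
theorem s0c554 : allBelow (fun k => fs0 (Nat.add (Nat.succ 174041) k)) 304 = true := by decide +kernel
theorem s0c555 : allBelow (fun k => fs0 (Nat.add (Nat.succ 174345) k)) 315 = true := by decide +kernel
theorem s0c556 : allBelow (fun k => fs0 (Nat.add (Nat.succ 174660) k)) 316 = true := by decide +kernel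
theorem s0c557 : allBelow (fun k => fs0 (Nat.add (Nat.succ 174976) k)) 300 = true := by decide +kernel
theorem s0c558 : allBelow (fun k => fs0 (Nat.add (Nat.succ 175276) k)) 305 = true := by decide +kernel
theorem s0c559 : allBelow (fun k => fs0 (Nat.add (Nat.succ 175581) k)) 309 = true := by decide +kernel
theorem s0c560 : allBelow (fun k => fs0 (Nat.add (Nat.succ 175890) k)) 314 = true := by decide +kernel
theorem s0c561 : allBelow (fun k => fs0 (Nat.add (Nat.succ 176204) k)) 306 = true := by decide +kernel
theorem s0c562 : allBelow (fun k => fs0 (Nat.add (Nat.succ 176510) k)) 284 = true := by decide +kernel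
theorem s0c563 : allBelow (fun k => fs0 (Nat.add (Nat.succ 176794) k)) 307 = true := by decide +kernel
theorem s0c564 : allBelow (fun k => fs0 (Nat.add (Nat.succ 177101) k)) 246 = true := by decide +kernel
theorem s0c565 : allBelow (fun k => fs0 (Nat.add (Nat.succ 177347) k)) 230 = true := by decide +kernel
theorem s0c566 : allBelow (fun k => fs0 (Nat.add (Nat.succ 177577) k)) 229 = true := by decide +kernel
theorem s0c567 : allBelow (fun k => fs0 (Nat.add (Nat.succ 177806) k)) 228 = true := by decide +kernel
theorem s0c568 : allBelow (fun k => fs0 (Nat.add (Nat.succ 178034) k)) 230 = true := by decide +kernel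
theorem s0c569 : allBelow (fun k => fs0 (Nat.add (Nat.succ 178264) k)) 233 = true := by decide +kernel
theorem s0c570 : allBelow (fun k => fs0 (Nat.add (Nat.succ 178497) k)) 233 = true := by decide +kernel
theorem s0c571 : allBelow (fun k => fs0 (Nat.add (Nat.succ 178730) k)) 230 = true := by decide +kernel
theorem s0c572 : allBelow (fun k => fs0 (Nat.add (Nat.succ 178960) k)) 231 = true := by decide +kernel
theorem s0c573 : allBelow (fun k => fs0 (Nat.add (Nat.succ 179191) k)) 228 = true := by decide +kernel
theorem s0c574 : allBelow (fun k => fs0 (Nat.add (Nat.succ 179419) k)) 254 = true := by decide +kernel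
theorem s0c575 : allBelow (fun k => fs0 (Nat.add (Nat.succ 179673) k)) 231 = true := by decide +kernel
theorem s0c576 : allBelow (fun k => fs0 (Nat.add (Nat.succ 179904) k)) 240 = true := by decide +kernel
theorem s0c577 : allBelow (fun k => fs0 (Nat.add (Nat.succ 180144) k)) 230 = true := by decide +kernel
theorem s0c578 : allBelow (fun k => fs0 (Nat.add (Nat.succ 180374) k)) 233 = true := by decide +kernel
theorem s0c579 : allBelow (fun k => fs0 (Nat.add (Nat.succ 180607) k)) 227 = true := by decide +kernel
theorem s0c580 : allBelow (fun k => fs0 (Nat.add (Nat.succ 180834) k)) 228 = true := by decide +kernel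
theorem s0c581 : allBelow (fun k => fs0 (Nat.add (Nat.succ 181062) k)) 228 = true := by decide +kernel
theorem s0c582 : allBelow (fun k => fs0 (Nat.add (Nat.succ 181290) k)) 254 = true := by decide +kernel
theorem s0c583 : allBelow (fun k => fs0 (Nat.add (Nat.succ 181544) k)) 230 = true := by decide +kernel
theorem s0c584 : allBelow (fun k => fs0 (Nat.add (Nat.succ 181774) k)) 233 = true := by decide +kernel
theorem s0c585 : allBelow (fun k => fs0 (Nat.add (Nat.succ 182007) k)) 237 = true := by decide +kernel
theorem s0c586 : allBelow (fun k => fs0 (Nat.add (Nat.succ 182244) k)) 228 = true := by decide +kernel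
theorem s0c587 : allBelow (fun k => fs0 (Nat.add (Nat.succ 182472) k)) 228 = true := by decide +kernel
theorem s0c588 : allBelow (fun k => fs0 (Nat.add (Nat.succ 182700) k)) 228 = true := by decide +kernel
theorem s0c589 : allBelow (fun k => fs0 (Nat.add (Nat.succ 182928) k)) 228 = true := by decide +kernel
theorem s0c590 : allBelow (fun k => fs0 (Nat.add (Nat.succ 183156) k)) 230 = true := by decide +kernel
theorem s0c591 : allBelow (fun k => fs0 (Nat.add (Nat.succ 183386) k)) 228 = true := by decide +kernel
theorem s0c592 : allBelow (fun k => fs0 (Nat.add (Nat.succ 183614) k)) 232 = true := by decide +kernel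
theorem s0c593 : allBelow (fun k => fs0 (Nat.add (Nat.succ 183846) k)) 235 = true := by decide +kernel
theorem s0c594 : allBelow (fun k => fs0 (Nat.add (Nat.succ 184081) k)) 252 = true := by decide +kernel
theorem s0c595 : allBelow (fun k => fs0 (Nat.add (Nat.succ 184333) k)) 233 = true := by decide +kernel
theorem s0c596 : allBelow (fun k => fs0 (Nat.add (Nat.succ 184566) k)) 236 = true := by decide +kernel
theorem s0c597 : allBelow (fun k => fs0 (Nat.add (Nat.succ 184802) k)) 235 = true := by decide +kernel
theorem s0c598 : allBelow (fun k => fs0 (Nat.add (Nat.succ 185037) k)) 228 = true := by decide +kernel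
theorem s0c599 : allBelow (fun k => fs0 (Nat.add (Nat.succ 185265) k)) 229 = true := by decide +kernel
theorem s0c600 : allBelow (fun k => fs0 (Nat.add (Nat.succ 185494) k)) 238 = true := by decide +kernel
theorem s0c601 : allBelow (fun k => fs0 (Nat.add (Nat.succ 185732) k)) 237 = true := by decide +kernel
theorem s0c602 : allBelow (fun k => fs0 (Nat.add (Nat.succ 185969) k)) 230 = true := by decide +kernel
theorem s0c603 : allBelow (fun k => fs0 (Nat.add (Nat.succ 186199) k)) 231 = true := by decide +kernel
theorem s0c604 : allBelow (fun k => fs0 (Nat.add (Nat.succ 186430) k)) 229 = true := by decide +kernel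
theorem s0c605 : allBelow (fun k => fs0 (Nat.add (Nat.succ 186659) k)) 231 = true := by decide +kernel
theorem s0c606 : allBelow (fun k => fs0 (Nat.add (Nat.succ 186890) k)) 229 = true := by decide +kernel
theorem s0c607 : allBelow (fun k => fs0 (Nat.add (Nat.succ 187119) k)) 247 = true := by decide +kernel
theorem s0c608 : allBelow (fun k => fs0 (Nat.add (Nat.succ 187366) k)) 317 = true := by decide +kernel
theorem s0c609 : allBelow (fun k => fs0 (Nat.add (Nat.succ 187683) k)) 277 = true := by decide +kernel
theorem s0c610 : allBelow (fun k => fs0 (Nat.add (Nat.succ 187960) k)) 318 = true := by decide +kernel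
theorem s0c611 : allBelow (fun k => fs0 (Nat.add (Nat.succ 188278) k)) 294 = true := by decide +kernel
theorem s0c612 : allBelow (fun k => fs0 (Nat.add (Nat.succ 188572) k)) 308 = true := by decide +kernel
theorem s0c613 : allBelow (fun k => fs0 (Nat.add (Nat.succ 188880) k)) 311 = true := by decide +kernel
theorem s0c614 : allBelow (fun k => fs0 (Nat.add (Nat.succ 189191) k)) 314 = true := by decide +kernel
theorem s0c615 : allBelow (fun k => fs0 (Nat.add (Nat.succ 189505) k)) 273 = true := by decide +kernel
theorem s0c616 : allBelow (fun k => fs0 (Nat.add (Nat.succ 189778) k)) 315 = true := by decide +kernel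
theorem s0c617 : allBelow (fun k => fs0 (Nat.add (Nat.succ 190093) k)) 315 = true := by decide +kernel
theorem s0c618 : allBelow (fun k => fs0 (Nat.add (Nat.succ 190408) k)) 290 = true := by decide +kernel
theorem s0c619 : allBelow (fun k => fs0 (Nat.add (Nat.succ 190698) k)) 315 = true := by decide +kernel
theorem s0c620 : allBelow (fun k => fs0 (Nat.add (Nat.succ 191013) k)) 309 = true := by decide +kernel
theorem s0c621 : allBelow (fun k => fs0 (Nat.add (Nat.succ 191322) k)) 278 = true := by decide +kernel
theorem s0c622 : allBelow (fun k => fs0 (Nat.add (Nat.succ 191600) k)) 289 = true := by decide +kernel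
theorem s0c623 : allBelow (fun k => fs0 (Nat.add (Nat.succ 191889) k)) 309 = true := by decide +kernel
theorem s0c624 : allBelow (fun k => fs0 (Nat.add (Nat.succ 192198) k)) 287 = true := by decide +kernel
theorem s0c625 : allBelow (fun k => fs0 (Nat.add (Nat.succ 192485) k)) 259 = true := by decide +kernel
theorem s0c626 : allBelow (fun k => fs0 (Nat.add (Nat.succ 192744) k)) 302 = true := by decide +kernel
theorem s0c627 : allBelow (fun k => fs0 (Nat.add (Nat.succ 193046) k)) 313 = true := by decide +kernel
theorem s0c628 : allBelow (fun k => fs0 (Nat.add (Nat.succ 193359) k)) 285 = true := by decide +kernel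
theorem s0c629 : allBelow (fun k => fs0 (Nat.add (Nat.succ 193644) k)) 294 = true := by decide +kernel
theorem s0c630 : allBelow (fun k => fs0 (Nat.add (Nat.succ 193938) k)) 314 = true := by decide +kernel
theorem s0c631 : allBelow (fun k => fs0 (Nat.add (Nat.succ 194252) k)) 271 = true := by decide +kernel
theorem s0c632 : allBelow (fun k => fs0 (Nat.add (Nat.succ 194523) k)) 314 = true := by decide +kernel
theorem s0c633 : allBelow (fun k => fs0 (Nat.add (Nat.succ 194837) k)) 316 = true := by decide +kernel
theorem s0c634 : allBelow (fun k => fs0 (Nat.add (Nat.succ 195153) k)) 292 = true := by decide +kernel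
theorem s0c635 : allBelow (fun k => fs0 (Nat.add (Nat.succ 195445) k)) 303 = true := by decide +kernel
theorem s0c636 : allBelow (fun k => fs0 (Nat.add (Nat.succ 195748) k)) 316 = true := by decide +kernel
theorem s0c637 : allBelow (fun k => fs0 (Nat.add (Nat.succ 196064) k)) 319 = true := by decide +kernel

end Cfsg.Agent.Lib.Helper35.Fi24a
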