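import Cfsg.Agent.Lib.Helper35.Fi24a.Data

set_option Elab.async false

namespace Cfsg.Agent.Lib.Helper35.Fi24a

open Cfsg.Agent.Lib.Helper35

theorem s2c986 : allBelow (fun k => fs2 (Nat.add (Nat.succ 285280) k)) 245 = true := by decide +kernel
theorem s2c987 : allBelow (fun k => fs2 (Nat.add (Nat.succ 285525) k)) 260 = true := by decide +kernel
theorem s2c988 : allBelow (fun k => fs2 (Nat.add (Nat.succ 285785) k)) 277 = true := by decide +kernel
theorem s2c989 : allBelow (fun k => fs2 (Nat.add (Nat.succ 286062) k)) 277 = true := by decide +kernel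
theorem s2c990 : allBelow (fun k => fs2 (Nat.add (Nat.succ 286339) k)) 279 = true := by decide +kernel
theorem s2c991 : allBelow (fun k => fs2 (Nat.add (Nat.succ 286618) k)) 275 = true := by decide +kernel
theorem s2c992 : allBelow (fun k => fs2 (Nat.add (Nat.succ 286893) k)) 256 = true := by decide +kernel
theorem s2c993 : allBelow (fun k => fs2 (Nat.add (Nat.succ 287149) k)) 273 = true := by decide +kernel
theorem s2c994 : allBelow (fun k => fs2 (Nat.add (Nat.succ 287422) k)) 274 = true := by decide +kernel
theorem s2c995 : allBelow (fun k => fs2 (Nat.add (Nat.succ 287696) k)) 277 = true := by decide +kernel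
theorem s2c996 : allBelow (fun k => fs2 (Nat.add (Nat.succ 287973) k)) 266 = true := by decide +kernel
theorem s2c997 : allBelow (fun k => fs2 (Nat.add (Nat.succ 288239) k)) 261 = true := by decide +kernel
theorem s2c998 : allBelow (fun k => fs2 (Nat.add (Nat.succ 288500) k)) 257 = true := by decide +kernel
theorem s2c999 : allBelow (fun k => fs2 (Nat.add (Nat.succ 288757) k)) 251 = true := by decide +kernel
theorem s2c1000 : allBelow (fun k => fs2 (Nat.add (Nat.succ 289008) k)) 253 = true := by decide +kernel
theorem s2c1001 : allBelow (fun k => fs2 (Nat.add (Nat.succ 289261) k)) 257 = true := by decide +kernel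
theorem s2c1002 : allBelow (fun k => fs2 (Nat.add (Nat.succ 289518) k)) 254 = true := by decide +kernel
theorem s2c1003 : allBelow (fun k => fs2 (Nat.add (Nat.succ 289772) k)) 260 = true := by decide +kernel
theorem s2c1004 : allBelow (fun k => fs2 (Nat.add (Nat.succ 290032) k)) 269 = true := by decide +kernel
theorem s2c1005 : allBelow (fun k => fs2 (Nat.add (Nat.succ 290301) k)) 258 = true := by decide +kernel
theorem s2c1006 : allBelow (fun k => fs2 (Nat.add (Nat.succ 290559) k)) 268 = true := by decide +kernel
theorem s2c1007 : allBelow (fun k => fs2 (Nat.add (Nat.succ 290827) k)) 263 = true := by decide +kernel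
theorem s2c1008 : allBelow (fun k => fs2 (Nat.add (Nat.succ 291090) k)) 260 = true := by decide +kernel
theorem s2c1009 : allBelow (fun k => fs2 (Nat.add (Nat.succ 291350) k)) 264 = true := by decide +kernel
theorem s2c1010 : allBelow (fun k => fs2 (Nat.add (Nat.succ 291614) k)) 277 = true := by decide +kernel
theorem s2c1011 : allBelow (fun k => fs2 (Nat.add (Nat.succ 291891) k)) 275 = true := by decide +kernel
theorem s2c1012 : allBelow (fun k => fs2 (Nat.add (Nat.succ 292166) k)) 261 = true := by decide +kernel
theorem s2c1013 : allBelow (fun k => fs2 (Nat.add (Nat.succ 292427) k)) 268 = true := by decide +kernel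
theorem s2c1014 : allBelow (fun k => fs2 (Nat.add (Nat.succ 292695) k)) 271 = true := by decide +kernel
theorem s2c1015 : allBelow (fun k => fs2 (Nat.add (Nat.succ 292966) k)) 281 = true := by decide +kernel
theorem s2c1016 : allBelow (fun k => fs2 (Nat.add (Nat.succ 293247) k)) 260 = true := by decide +kernel
theorem s2c1017 : allBelow (fun k => fs2 (Nat.add (Nat.succ 293507) k)) 261 = true := by decide +kernel
theorem s2c1018 : allBelow (fun k => fs2 (Nat.add (Nat.succ 293768) k)) 284 = true := by decide +kernel
theorem s2c1019 : allBelow (fun k => fs2 (Nat.add (Nat.succ 294052) k)) 279 = true := by decide +kernel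
theorem s2c1020 : allBelow (fun k => fs2 (Nat.add (Nat.succ 294331) k)) 256 = true := by decide +kernel
theorem s2c1021 : allBelow (fun k => fs2 (Nat.add (Nat.succ 294587) k)) 275 = true := by decide +kernel
theorem s2c1022 : allBelow (fun k => fs2 (Nat.add (Nat.succ 294862) k)) 279 = true := by decide +kernel
theorem s2c1023 : allBelow (fun k => fs2 (Nat.add (Nat.succ 295141) k)) 298 = true := by decide +kernel
theorem s2c1024 : allBelow (fun k => fs2 (Nat.add (Nat.succ 295439) k)) 275 = true := by decide +kernel
theorem s2c1025 : allBelow (fun k => fs2 (Nat.add (Nat.succ 295714) k)) 271 = true := by decide +kernel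
theorem s2c1026 : allBelow (fun k => fs2 (Nat.add (Nat.succ 295985) k)) 273 = true := by decide +kernel
theorem s2c1027 : allBelow (fun k => fs2 (Nat.add (Nat.succ 296258) k)) 256 = true := by decide +kernel
theorem s2c1028 : allBelow (fun k => fs2 (Nat.add (Nat.succ 296514) k)) 282 = true := by decide +kernel
theorem s2c1029 : allBelow (fun k => fs2 (Nat.add (Nat.succ 296796) k)) 278 = true := by decide +kernel
theorem s2c1030 : allBelow (fun k => fs2 (Nat.add (Nat.succ 297074) k)) 260 = true := by decide +kernel
theorem s2c1031 : allBelow (fun k => fs2 (Nat.add (Nat.succ 297334) k)) 235 = true := by decide +kernel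
theorem s2c1032 : allBelow (fun k => fs2 (Nat.add (Nat.succ 297569) k)) 255 = true := by decide +kernel
theorem s2c1033 : allBelow (fun k => fs2 (Nat.add (Nat.succ 297824) k)) 243 = true := by decide +kernel
theorem s2c1034 : allBelow (fun k => fs2 (Nat.add (Nat.succ 298067) k)) 242 = true := by decide +kernel
theorem s2c1035 : allBelow (fun k => fs2 (Nat.add (Nat.succ 298309) k)) 246 = true := by decide +kernel
theorem s2c1036 : allBelow (fun k => fs2 (Nat.add (Nat.succ 298555) k)) 243 = true := by decide +kernel
theorem s2c1037 : allBelow (fun k => fs2 (Nat.add (Nat.succ 298798) k)) 267 = true := by decide +kernel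
theorem s2c1038 : allBelow (fun k => fs2 (Nat.add (Nat.succ 299065) k)) 241 = true := by decide +kernel
theorem s2c1039 : allBelow (fun k => fs2 (Nat.add (Nat.succ 299306) k)) 263 = true := by decide +kernel
theorem s2c1040 : allBelow (fun k => fs2 (Nat.add (Nat.succ 299569) k)) 244 = true := by decide +kernel
theorem s2c1041 : allBelow (fun k => fs2 (Nat.add (Nat.succ 299813) k)) 233 = true := by decide +kernel
theorem s2c1042 : allBelow (fun k => fs2 (Nat.add (Nat.succ 300046) k)) 234 = true := by decide +kernel
theorem s2c1043 : allBelow (fun k => fs2 (Nat.add (Nat.succ 300280) k)) 247 = true := by decide +kernel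
theorem s2c1044 : allBelow (fun k => fs2 (Nat.add (Nat.succ 300527) k)) 251 = true := by decide +kernel
theorem s2c1045 : allBelow (fun k => fs2 (Nat.add (Nat.succ 300778) k)) 239 = true := by decide +kernel
theorem s2c1046 : allBelow (fun k => fs2 (Nat.add (Nat.succ 301017) k)) 248 = true := by decide +kernel
theorem s2c1047 : allBelow (fun k => fs2 (Nat.add (Nat.succ 301265) k)) 253 = true := by decide +kernel
theorem s2c1048 : allBelow (fun k => fs2 (Nat.add (Nat.succ 301518) k)) 246 = true := by decide +kernel
theorem s2c1049 : allBelow (fun k => fs2 (Nat.add (Nat.succ 301764) k)) 261 = true := by decide +kernel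
theorem s2c1050 : allBelow (fun k => fs2 (Nat.add (Nat.succ 302025) k)) 232 = true := by decide +kernel
theorem s2c1051 : allBelow (fun k => fs2 (Nat.add (Nat.succ 302257) k)) 256 = true := by decide +kernel
theorem s2c1052 : allBelow (fun k => fs2 (Nat.add (Nat.succ 302513) k)) 247 = true := by decide +kernel
theorem s2c1053 : allBelow (fun k => fs2 (Nat.add (Nat.succ 302760) k)) 252 = true := by decide +kernel
theorem s2c1054 : allBelow (fun k => fs2 (Nat.add (Nat.succ 303012) k)) 237 = true := by decide +kernel
theorem s2c1055 : allBelow (fun k => fs2 (Nat.add (Nat.succ 303249) k)) 243 = true := by decide +kernel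
theorem s2c1056 : allBelow (fun k => fs2 (Nat.add (Nat.succ 303492) k)) 260 = true := by decide +kernel
theorem s2c1057 : allBelow (fun k => fs2 (Nat.add (Nat.succ 303752) k)) 261 = true := by decide +kernel
theorem s2c1058 : allBelow (fun k => fs2 (Nat.add (Nat.succ 304013) k)) 262 = true := by decide +kernel
theorem s2c1059 : allBelow (fun k => fs2 (Nat.add (Nat.succ 304275) k)) 257 = true := by decide +kernel
theorem s2c1060 : allBelow (fun k => fs2 (Nat.add (Nat.succ 304532) k)) 258 = true := by decide +kernel
theorem s2c1061 : allBelow (fun k => fs2 (Nat.add (Nat.succ 304790) k)) 261 = true := by decide +kernel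
theorem s2c1062 : allBelow (fun k => fs2 (Nat.add (Nat.succ 305051) k)) 244 = true := by decide +kernel
theorem s2c1063 : allBelow (fun k => fs2 (Nat.add (Nat.succ 305295) k)) 256 = true := by decide +kernel
theorem s2c1064 : allBelow (fun k => fs2 (Nat.add (Nat.succ 305551) k)) 265 = true := by decide +kernel
theorem s2c1065 : allBelow (fun k => fs2 (Nat.add (Nat.succ 305816) k)) 251 = true := by decide +kernel
theorem s2c1066 : allBelow (fun k => fs2 (Nat.add (Nat.succ 306067) k)) 252 = true := by decide +kernel
theorem s2c1067 : allBelow (fun k => fs2 (Nat.add (Nat.succ 306319) k)) 260 = true := by decide +kernel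
theorem s2c1068 : allBelow (fun k => fs2 (Nat.add (Nat.succ 306579) k)) 258 = true := by decide +kernel
theorem s2c1069 : allBelow (fun k => fs2 (Nat.add (Nat.succ 306837) k)) 249 = true := by decide +kernel
theorem s2c1070 : allBelow (fun k => fs2 (Nat.add (Nat.succ 307086) k)) 254 = true := by decide +kernel
theorem s2c1071 : allBelow (fun k => fs2 (Nat.add (Nat.succ 307340) k)) 292 = true := by decide +kernel
theorem s2c1072 : allBelow (fun k => fs2 (Nat.add (Nat.succ 307632) k)) 254 = true := by decide +kernel
theorem s2c1073 : allBelow (fun k => fs2 (Nat.add (Nat.succ 307886) k)) 263 = true := by decide +kernel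
theorem s2c1074 : allBelow (fun k => fs2 (Nat.add (Nat.succ 308149) k)) 259 = true := by decide +kernel
theorem s2c1075 : allBelow (fun k => fs2 (Nat.add (Nat.succ 308408) k)) 280 = true := by decide +kernel
theorem s2c1076 : allBelow (fun k => fs2 (Nat.add (Nat.succ 308688) k)) 280 = true := by decide +kernel
theorem s2c1077 : allBelow (fun k => fs2 (Nat.add (Nat.succ 308968) k)) 250 = true := by decide +kernel
theorem s2c1078 : allBelow (fun k => fs2 (Nat.add (Nat.succ 309218) k)) 237 = true := by decide +kernel
theorem s2c1079 : allBelow (fun k => fs2 (Nat.add (Nat.succ 309455) k)) 244 = true := by decide +kernel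
theorem s2c1080 : allBelow (fun k => fs2 (Nat.add (Nat.succ 309699) k)) 255 = true := by decide +kernel
theorem s2c1081 : allBelow (fun k => fs2 (Nat.add (Nat.succ 309954) k)) 279 = true := by decide +kernel
theorem s2c1082 : allBelow (fun k => fs2 (Nat.add (Nat.succ 310233) k)) 274 = true := by decide +kernel
theorem s2c1083 : allBelow (fun k => fs2 (Nat.add (Nat.succ 310507) k)) 278 = true := by decide +kernel
theorem s2c1084 : allBelow (fun k => fs2 (Nat.add (Nat.succ 310785) k)) 270 = true := by decide +kernel
theorem s2c1085 : allBelow (fun k => fs2 (Nat.add (Nat.succ 311055) k)) 253 = true := by decide +kernel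
theorem s2c1086 : allBelow (fun k => fs2 (Nat.add (Nat.succ 311308) k)) 265 = true := by decide +kernel
theorem s2c1087 : allBelow (fun k => fs2 (Nat.add (Nat.succ 311573) k)) 270 = true := by decide +kernel
theorem s2c1088 : allBelow (fun k => fs2 (Nat.add (Nat.succ 311843) k)) 271 = true := by decide +kernel
theorem s2c1089 : allBelow (fun k => fs2 (Nat.add (Nat.succ 312114) k)) 263 = true := by decide +kernel
theorem s2c1090 : allBelow (fun k => fs2 (Nat.add (Nat.succ 312377) k)) 254 = true := by decide +kernel
theorem s2c1091 : allBelow (fun k => fs2 (Nat.add (Nat.succ 312631) k)) 247 = true := by decide +kernel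
theorem s2c1092 : allBelow (fun k => fs2 (Nat.add (Nat.succ 312878) k)) 245 = true := by decide +kernel
theorem s2c1093 : allBelow (fun k => fs2 (Nat.add (Nat.succ 313123) k)) 252 = true := by decide +kernel
theorem s2c1094 : allBelow (fun k => fs2 (Nat.add (Nat.succ 313375) k)) 259 = true := by decide +kernel
theorem s2c1095 : allBelow (fun k => fs2 (Nat.add (Nat.succ 313634) k)) 265 = true := by decide +kernel
theorem s2c1096 : allBelow (fun k => fs2 (Nat.add (Nat.succ 313899) k)) 266 = true := by decide +kernel
theorem s2c1097 : allBelow (fun k => fs2 (Nat.add (Nat.succ 314165) k)) 253 = true := by decide +kernel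
theorem s2c1098 : allBelow (fun k => fs2 (Nat.add (Nat.succ 314418) k)) 261 = true := by decide +kernel
theorem s2c1099 : allBelow (fun k => fs2 (Nat.add (Nat.succ 314679) k)) 254 = true := by decide +kernel
theorem s2c1100 : allBelow (fun k => fs2 (Nat.add (Nat.succ 314933) k)) 279 = true := by decide +kernel
theorem s2c1101 : allBelow (fun k => fs2 (Nat.add (Nat.succ 315212) k)) 270 = true := by decide +kernel
theorem s2c1102 : allBelow (fun k => fs2 (Nat.add (Nat.succ 315482) k)) 263 = true := by decide +kernel
theorem s2c1103 : allBelow (fun k => fs2 (Nat.add (Nat.succ 315745) k)) 266 = true := by decide +kernel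
theorem s2c1104 : allBelow (fun k => fs2 (Nat.add (Nat.succ 316011) k)) 274 = true := by decide +kernel
theorem s2c1105 : allBelow (fun k => fs2 (Nat.add (Nat.succ 316285) k)) 255 = true := by decide +kernel
theorem s2c1106 : allBelow (fun k => fs2 (Nat.add (Nat.succ 316540) k)) 281 = true := by decide +kernel
theorem s2c1107 : allBelow (fun k => fs2 (Nat.add (Nat.succ 316821) k)) 266 = true := by decide +kernel
theorem s2c1108 : allBelow (fun k => fs2 (Nat.add (Nat.succ 317087) k)) 266 = true := by decide +kernel
theorem s2c1109 : allBelow (fun k => fs2 (Nat.add (Nat.succ 317353) k)) 288 = true := by decide +kernel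
theorem s2c1110 : allBelow (fun k => fs2 (Nat.add (Nat.succ 317641) k)) 298 = true := by decide +kernel
theorem s2c1111 : allBelow (fun k => fs2 (Nat.add (Nat.succ 317939) k)) 270 = true := by decide +kernel
theorem s2c1112 : allBelow (fun k => fs2 (Nat.add (Nat.succ 318209) k)) 279 = true := by decide +kernel
theorem s2c1113 : allBelow (fun k => fs2 (Nat.add (Nat.succ 318488) k)) 262 = true := by decide +kernel
theorem s2c1114 : allBelow (fun k => fs2 (Nat.add (Nat.succ 318750) k)) 283 = true := by decide +kernel
theorem s2c1115 : allBelow (fun k => fs2 (Nat.add (Nat.succ 319033) k)) 286 = true := by decide +kernel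
theorem s2c1116 : allBelow (fun k => fs2 (Nat.add (Nat.succ 319319) k)) 267 = true := by decide +kernel
theorem s2c1117 : allBelow (fun k => fs2 (Nat.add (Nat.succ 319586) k)) 234 = true := by decide +kernel
theorem s2c1118 : allBelow (fun k => fs2 (Nat.add (Nat.succ 319820) k)) 250 = true := by decide +kernel
theorem s2c1119 : allBelow (fun k => fs2 (Nat.add (Nat.succ 320070) k)) 246 = true := by decide +kernel
theorem s2c1120 : allBelow (fun k => fs2 (Nat.add (Nat.succ 320316) k)) 240 = true := by decide +kernel
theorem s2c1121 : allBelow (fun k => fs2 (Nat.add (Nat.succ 320556) k)) 243 = true := by decide +kernel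
theorem s2c1122 : allBelow (fun k => fs2 (Nat.add (Nat.succ 320799) k)) 240 = true := by decide +kernel
theorem s2c1123 : allBelow (fun k => fs2 (Nat.add (Nat.succ 321039) k)) 238 = true := by decide +kernel
theorem s2c1124 : allBelow (fun k => fs2 (Nat.add (Nat.succ 321277) k)) 235 = true := by decide +kernel
theorem s2c1125 : allBelow (fun k => fs2 (Nat.add (Nat.succ 321512) k)) 259 = true := by decide +kernel
theorem s2c1126 : allBelow (fun k => fs2 (Nat.add (Nat.succ 321771) k)) 233 = true := by decide +kernel
theorem s2c1127 : allBelow (fun k => fs2 (Nat.add (Nat.succ 322004) k)) 235 = true := by decide +kernel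
theorem s2c1128 : allBelow (fun k => fs2 (Nat.add (Nat.succ 322239) k)) 243 = true := by decide +kernel
theorem s2c1129 : allBelow (fun k => fs2 (Nat.add (Nat.succ 322482) k)) 238 = true := by decide +kernel
theorem s2c1130 : allBelow (fun k => fs2 (Nat.add (Nat.succ 322720) k)) 240 = true := by decide +kernel
theorem s2c1131 : allBelow (fun k => fs2 (Nat.add (Nat.succ 322960) k)) 241 = true := by decide +kernel
theorem s2c1132 : allBelow (fun k => fs2 (Nat.add (Nat.succ 323201) k)) 248 = true := by decide +kernel
theorem s2c1133 : allBelow (fun k => fs2 (Nat.add (Nat.succ 323449) k)) 239 = true := by decide +kernel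
theorem s2c1134 : allBelow (fun k => fs2 (Nat.add (Nat.succ 323688) k)) 250 = true := by decide +kernel
theorem s2c1135 : allBelow (fun k => fs2 (Nat.add (Nat.succ 323938) k)) 247 = true := by decide +kernel
theorem s2c1136 : allBelow (fun k => fs2 (Nat.add (Nat.succ 324185) k)) 243 = true := by decide +kernel
theorem s2c1137 : allBelow (fun k => fs2 (Nat.add (Nat.succ 324428) k)) 242 = true := by decide +kernel
theorem s2c1138 : allBelow (fun k => fs2 (Nat.add (Nat.succ 324670) k)) 239 = true := by decide +kernel
theorem s2c1139 : allBelow (fun k => fs2 (Nat.add (Nat.succ 324909) k)) 257 = true := by decide +kernel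
theorem s2c1140 : allBelow (fun k => fs2 (Nat.add (Nat.succ 325166) k)) 259 = true := by decide +kernel
theorem s2c1141 : allBelow (fun k => fs2 (Nat.add (Nat.succ 325425) k)) 246 = true := by decide +kernel
theorem s2c1142 : allBelow (fun k => fs2 (Nat.add (Nat.succ 325671) k)) 257 = true := by decide +kernel
theorem s2c1143 : allBelow (fun k => fs2 (Nat.add (Nat.succ 325928) k)) 243 = true := by decide +kernel
theorem s2c1144 : allBelow (fun k => fs2 (Nat.add (Nat.succ 326171) k)) 256 = true := by decide +kernel
theorem s2c1145 : allBelow (fun k => fs2 (Nat.add (Nat.succ 326427) k)) 253 = true := by decide +kernel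
theorem s2c1146 : allBelow (fun k => fs2 (Nat.add (Nat.succ 326680) k)) 248 = true := by decide +kernel
theorem s2c1147 : allBelow (fun k => fs2 (Nat.add (Nat.succ 326928) k)) 255 = true := by decide +kernel
theorem s2c1148 : allBelow (fun k => fs2 (Nat.add (Nat.succ 327183) k)) 255 = true := by decide +kernel
theorem s2c1149 : allBelow (fun k => fs2 (Nat.add (Nat.succ 327438) k)) 250 = true := by decide +kernel
theorem s2c1150 : allBelow (fun k => fs2 (Nat.add (Nat.succ 327688) k)) 279 = true := by decide +kernel
theorem s2c1151 : allBelow (fun k => fs2 (Nat.add (Nat.succ 327967) k)) 261 = true := by decide +kernel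
theorem s2c1152 : allBelow (fun k => fs2 (Nat.add (Nat.succ 328228) k)) 265 = true := by decide +kernel
theorem s2c1153 : allBelow (fun k => fs2 (Nat.add (Nat.succ 328493) k)) 272 = true := by decide +kernel
theorem s2c1154 : allBelow (fun k => fs2 (Nat.add (Nat.succ 328765) k)) 266 = true := by decide +kernel
theorem s2c1155 : allBelow (fun k => fs2 (Nat.add (Nat.succ 329031) k)) 243 = true := by decide +kernel
theorem s2c1156 : allBelow (fun k => fs2 (Nat.add (Nat.succ 329274) k)) 211 = true := by decide +kernel
theorem s2c1157 : allBelow (fun k => fs2 (Nat.add (Nat.succ 329485) k)) 268 = true := by decide +kernel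
theorem s2c1158 : allBelow (fun k => fs2 (Nat.add (Nat.succ 329753) k)) 270 = true := by decide +kernel
theorem s2c1159 : allBelow (fun k => fs2 (Nat.add (Nat.succ 330023) k)) 273 = true := by decide +kernel
theorem s2c1160 : allBelow (fun k => fs2 (Nat.add (Nat.succ 330296) k)) 262 = true := by decide +kernel
theorem s2c1161 : allBelow (fun k => fs2 (Nat.add (Nat.succ 330558) k)) 249 = true := by decide +kernel
theorem s2c1162 : allBelow (fun k => fs2 (Nat.add (Nat.succ 330807) k)) 265 = true := by decide +kernel
theorem s2c1163 : allBelow (fun k => fs2 (Nat.add (Nat.succ 331072) k)) 267 = true := by decide +kernel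
theorem s2c1164 : allBelow (fun k => fs2 (Nat.add (Nat.succ 331339) k)) 262 = true := by decide +kernel
theorem s2c1165 : allBelow (fun k => fs2 (Nat.add (Nat.succ 331601) k)) 244 = true := by decide +kernel
theorem s2c1166 : allBelow (fun k => fs2 (Nat.add (Nat.succ 331845) k)) 247 = true := by decide +kernel
theorem s2c1167 : allBelow (fun k => fs2 (Nat.add (Nat.succ 332092) k)) 252 = true := by decide +kernel
theorem s2c1168 : allBelow (fun k => fs2 (Nat.add (Nat.succ 332344) k)) 257 = true := by decide +kernel
theorem s2c1169 : allBelow (fun k => fs2 (Nat.add (Nat.succ 332601) k)) 268 = true := by decide +kernel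
theorem s2c1170 : allBelow (fun k => fs2 (Nat.add (Nat.succ 332869) k)) 249 = true := by decide +kernel
theorem s2c1171 : allBelow (fun k => fs2 (Nat.add (Nat.succ 333118) k)) 263 = true := by decide +kernel
theorem s2c1172 : allBelow (fun k => fs2 (Nat.add (Nat.succ 333381) k)) 269 = true := by decide +kernel
theorem s2c1173 : allBelow (fun k => fs2 (Nat.add (Nat.succ 333650) k)) 265 = true := by decide +kernel
theorem s2c1174 : allBelow (fun k => fs2 (Nat.add (Nat.succ 333915) k)) 259 = true := by decide +kernel
theorem s2c1175 : allBelow (fun k => fs2 (Nat.add (Nat.succ 334174) k)) 277 = true := by decide +kernel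
theorem s2c1176 : allBelow (fun k => fs2 (Nat.add (Nat.succ 334451) k)) 269 = true := by decide +kernel
theorem s2c1177 : allBelow (fun k => fs2 (Nat.add (Nat.succ 334720) k)) 287 = true := by decide +kernel
theorem s2c1178 : allBelow (fun k => fs2 (Nat.add (Nat.succ 335007) k)) 280 = true := by decide +kernel
theorem s2c1179 : allBelow (fun k => fs2 (Nat.add (Nat.succ 335287) k)) 283 = true := by decide +kernel
theorem s2c1180 : allBelow (fun k => fs2 (Nat.add (Nat.succ 335570) k)) 272 = true := by decide +kernel
theorem s2c1181 : allBelow (fun k => fs2 (Nat.add (Nat.succ 335842) k)) 286 = true := by decide +kernel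
theorem s2c1182 : allBelow (fun k => fs2 (Nat.add (Nat.succ 336128) k)) 281 = true := by decide +kernel
theorem s2c1183 : allBelow (fun k => fs2 (Nat.add (Nat.succ 336409) k)) 232 = true := by decide +kernel
theorem s2c1184 : allBelow (fun k => fs2 (Nat.add (Nat.succ 336641) k)) 247 = true := by decide +kernel
theorem s2c1185 : allBelow (fun k => fs2 (Nat.add (Nat.succ 336888) k)) 250 = true := by decide +kernel
theorem s2c1186 : allBelow (fun k => fs2 (Nat.add (Nat.succ 337138) k)) 238 = true := by decide +kernel
theorem s2c1187 : allBelow (fun k => fs2 (Nat.add (Nat.succ 337376) k)) 237 = true := by decide +kernel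
theorem s2c1188 : allBelow (fun k => fs2 (Nat.add (Nat.succ 337613) k)) 233 = true := by decide +kernel
theorem s2c1189 : allBelow (fun k => fs2 (Nat.add (Nat.succ 337846) k)) 247 = true := by decide +kernel
theorem s2c1190 : allBelow (fun k => fs2 (Nat.add (Nat.succ 338093) k)) 199 = true := by decide +kernel
theorem s2c1191 : allBelow (fun k => fs2 (Nat.add (Nat.succ 338292) k)) 237 = true := by decide +kernel
theorem s2c1192 : allBelow (fun k => fs2 (Nat.add (Nat.succ 338529) k)) 227 = true := by decide +kernel
theorem s2c1193 : allBelow (fun k => fs2 (Nat.add (Nat.succ 338756) k)) 241 = true := by decide +kernel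
theorem s2c1194 : allBelow (fun k => fs2 (Nat.add (Nat.succ 338997) k)) 244 = true := by decide +kernel
theorem s2c1195 : allBelow (fun k => fs2 (Nat.add (Nat.succ 339241) k)) 247 = true := by decide +kernel
theorem s2c1196 : allBelow (fun k => fs2 (Nat.add (Nat.succ 339488) k)) 228 = true := by decide +kernel
theorem s2c1197 : allBelow (fun k => fs2 (Nat.add (Nat.succ 339716) k)) 240 = true := by decide +kernel
theorem s2c1198 : allBelow (fun k => fs2 (Nat.add (Nat.succ 339956) k)) 243 = true := by decide +kernel
theorem s2c1199 : allBelow (fun k => fs2 (Nat.add (Nat.succ 340199) k)) 254 = true := by decide +kernel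
theorem s2c1200 : allBelow (fun k => fs2 (Nat.add (Nat.succ 340453) k)) 253 = true := by decide +kernel
theorem s2c1201 : allBelow (fun k => fs2 (Nat.add (Nat.succ 340706) k)) 247 = true := by decide +kernel
theorem s2c1202 : allBelow (fun k => fs2 (Nat.add (Nat.succ 340953) k)) 254 = true := by decide +kernel
theorem s2c1203 : allBelow (fun k => fs2 (Nat.add (Nat.succ 341207) k)) 249 = true := by decide +kernel
theorem s2c1204 : allBelow (fun k => fs2 (Nat.add (Nat.succ 341456) k)) 255 = true := by decide +kernel
theorem s2c1205 : allBelow (fun k => fs2 (Nat.add (Nat.succ 341711) k)) 249 = true := by decide +kernel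
theorem s2c1206 : allBelow (fun k => fs2 (Nat.add (Nat.succ 341960) k)) 276 = true := by decide +kernel
theorem s2c1207 : allBelow (fun k => fs2 (Nat.add (Nat.succ 342236) k)) 261 = true := by decide +kernel
theorem s2c1208 : allBelow (fun k => fs2 (Nat.add (Nat.succ 342497) k)) 263 = true := by decide +kernel
theorem s2c1209 : allBelow (fun k => fs2 (Nat.add (Nat.succ 342760) k)) 250 = true := by decide +kernel
theorem s2c1210 : allBelow (fun k => fs2 (Nat.add (Nat.succ 343010) k)) 260 = true := by decide +kernel
theorem s2c1211 : allBelow (fun k => fs2 (Nat.add (Nat.succ 343270) k)) 263 = true := by decide +kernel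
theorem s2c1212 : allBelow (fun k => fs2 (Nat.add (Nat.succ 343533) k)) 258 = true := by decide +kernel
theorem s2c1213 : allBelow (fun k => fs2 (Nat.add (Nat.succ 343791) k)) 248 = true := by decide +kernel
theorem s2c1214 : allBelow (fun k => fs2 (Nat.add (Nat.succ 344039) k)) 258 = true := by decide +kernel
theorem s2c1215 : allBelow (fun k => fs2 (Nat.add (Nat.succ 344297) k)) 260 = true := by decide +kernel
theorem s2c1216 : allBelow (fun k => fs2 (Nat.add (Nat.succ 344557) k)) 246 = true := by decide +kernel
theorem s2c1217 : allBelow (fun k => fs2 (Nat.add (Nat.succ 344803) k)) 260 = true := by decide +kernel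
theorem s2c1218 : allBelow (fun k => fs2 (Nat.add (Nat.succ 345063) k)) 249 = true := by decide +kernel
theorem s2c1219 : allBelow (fun k => fs2 (Nat.add (Nat.succ 345312) k)) 263 = true := by decide +kernel
theorem s2c1220 : allBelow (fun k => fs2 (Nat.add (Nat.succ 345575) k)) 263 = true := by decide +kernel
theorem s2c1221 : allBelow (fun k => fs2 (Nat.add (Nat.succ 345838) k)) 279 = true := by decide +kernel
theorem s2c1222 : allBelow (fun k => fs2 (Nat.add (Nat.succ 346117) k)) 272 = true := by decide +kernel
theorem s2c1223 : allBelow (fun k => fs2 (Nat.add (Nat.succ 346389) k)) 277 = true := by decide +kernel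
theorem s2c1224 : allBelow (fun k => fs2 (Nat.add (Nat.succ 346666) k)) 276 = true := by decide +kernel
theorem s2c1225 : allBelow (fun k => fs2 (Nat.add (Nat.succ 346942) k)) 272 = true := by decide +kernel
theorem s2c1226 : allBelow (fun k => fs2 (Nat.add (Nat.succ 347214) k)) 237 = true := by decide +kernel
theorem s2c1227 : allBelow (fun k => fs2 (Nat.add (Nat.succ 347451) k)) 245 = true := by decide +kernel
theorem s2c1228 : allBelow (fun k => fs2 (Nat.add (Nat.succ 347696) k)) 239 = true := by decide +kernel
theorem s2c1229 : allBelow (fun k => fs2 (Nat.add (Nat.succ 347935) k)) 242 = true := by decide +kernel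
theorem s2c1230 : allBelow (fun k => fs2 (Nat.add (Nat.succ 348177) k)) 233 = true := by decide +kernel
theorem s2c1231 : allBelow (fun k => fs2 (Nat.add (Nat.succ 348410) k)) 233 = true := by decide +kernel
theorem s2c1232 : allBelow (fun k => fs2 (Nat.add (Nat.succ 348643) k)) 240 = true := by decide +kernel
theorem s2c1233 : allBelow (fun k => fs2 (Nat.add (Nat.succ 348883) k)) 247 = true := by decide +kernel
theorem s2c1234 : allBelow (fun k => fs2 (Nat.add (Nat.succ 349130) k)) 243 = true := by decide +kernel
theorem s2c1235 : allBelow (fun k => fs2 (Nat.add (Nat.succ 349373) k)) 250 = true := by decide +kernel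
theorem s2c1236 : allBelow (fun k => fs2 (Nat.add (Nat.succ 349623) k)) 250 = true := by decide +kernel
theorem s2c1237 : allBelow (fun k => fs2 (Nat.add (Nat.succ 349873) k)) 236 = true := by decide +kernel
theorem s2c1238 : allBelow (fun k => fs2 (Nat.add (Nat.succ 350109) k)) 252 = true := by decide +kernel
theorem s2c1239 : allBelow (fun k => fs2 (Nat.add (Nat.succ 350361) k)) 261 = true := by decide +kernel
theorem s2c1240 : allBelow (fun k => fs2 (Nat.add (Nat.succ 350622) k)) 251 = true := by decide +kernel
theorem s2c1241 : allBelow (fun k => fs2 (Nat.add (Nat.succ 350873) k)) 200 = true := by decide +kernel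
theorem s2c1242 : allBelow (fun k => fs2 (Nat.add (Nat.succ 351073) k)) 258 = true := by decide +kernel
theorem s2c1243 : allBelow (fun k => fs2 (Nat.add (Nat.succ 351331) k)) 254 = true := by decide +kernel
theorem s2c1244 : allBelow (fun k => fs2 (Nat.add (Nat.succ 351585) k)) 254 = true := by decide +kernel
theorem s2c1245 : allBelow (fun k => fs2 (Nat.add (Nat.succ 351839) k)) 250 = true := by decide +kernel
theorem s2c1246 : allBelow (fun k => fs2 (Nat.add (Nat.succ 352089) k)) 263 = true := by decide +kernel
theorem s2c1247 : allBelow (fun k => fs2 (Nat.add (Nat.succ 352352) k)) 271 = true := by decide +kernel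
theorem s2c1248 : allBelow (fun k => fs2 (Nat.add (Nat.succ 352623) k)) 266 = true := by decide +kernel
theorem s2c1249 : allBelow (fun k => fs2 (Nat.add (Nat.succ 352889) k)) 263 = true := by decide +kernel
theorem s2c1250 : allBelow (fun k => fs2 (Nat.add (Nat.succ 353152) k)) 238 = true := by decide +kernel
theorem s2c1251 : allBelow (fun k => fs2 (Nat.add (Nat.succ 353390) k)) 228 = true := by decide +kernel
theorem s2c1252 : allBelow (fun k => fs2 (Nat.add (Nat.succ 353618) k)) 232 = true := by decide +kernel
theorem s2c1253 : allBelow (fun k => fs2 (Nat.add (Nat.succ 353850) k)) 237 = true := by decide +kernel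
theorem s2c1254 : allBelow (fun k => fs2 (Nat.add (Nat.succ 354087) k)) 238 = true := by decide +kernel
theorem s2c1255 : allBelow (fun k => fs2 (Nat.add (Nat.succ 354325) k)) 248 = true := by decide +kernel
theorem s2c1256 : allBelow (fun k => fs2 (Nat.add (Nat.succ 354573) k)) 252 = true := by decide +kernel
theorem s2c1257 : allBelow (fun k => fs2 (Nat.add (Nat.succ 354825) k)) 246 = true := by decide +kernel
theorem s2c1258 : allBelow (fun k => fs2 (Nat.add (Nat.succ 355071) k)) 249 = true := by decide +kernel
theorem s2c1259 : allBelow (fun k => fs2 (Nat.add (Nat.succ 355320) k)) 256 = true := by decide +kernel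
theorem s2c1260 : allBelow (fun k => fs2 (Nat.add (Nat.succ 355576) k)) 260 = true := by decide +kernel
theorem s2c1261 : allBelow (fun k => fs2 (Nat.add (Nat.succ 355836) k)) 237 = true := by decide +kernel
theorem s2c1262 : allBelow (fun k => fs2 (Nat.add (Nat.succ 356073) k)) 234 = true := by decide +kernel
theorem s2c1263 : allBelow (fun k => fs2 (Nat.add (Nat.succ 356307) k)) 244 = true := by decide +kernel
theorem s2c1264 : allBelow (fun k => fs2 (Nat.add (Nat.succ 356551) k)) 247 = true := by decide +kernel
theorem s2c1265 : allBelow (fun k => fs2 (Nat.add (Nat.succ 356798) k)) 231 = true := by decide +kernel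
theorem s2c1266 : allBelow (fun k => fs2 (Nat.add (Nat.succ 357029) k)) 229 = true := by decide +kernel
theorem s2c1267 : allBelow (fun k => fs2 (Nat.add (Nat.succ 357258) k)) 207 = true := by decide +kernel
theorem s3c0 : allBelow (fun k => fs3 (Nat.add (Nat.succ 0) k)) 258 = true := by decide +kernel
theorem s3c1 : allBelow (fun k => fs3 (Nat.add (Nat.succ 258) k)) 274 = true := by decide +kernel
theorem s3c2 : allBelow (fun k => fs3 (Nat.add (Nat.succ 532) k)) 263 = true := by decide +kernel
theorem s3c3 : allBelow (fun k => fs3 (Nat.add (Nat.succ 795) k)) 269 = true := by decide +kernel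
theorem s3c4 : allBelow (fun k => fs3 (Nat.add (Nat.succ 1064) k)) 269 = true := by decide +kernel
theorem s3c5 : allBelow (fun k => fs3 (Nat.add (Nat.succ 1333) k)) 277 = true := by decide +kernel
theorem s3c6 : allBelow (fun k => fs3 (Nat.add (Nat.succ 1610) k)) 284 = true := by decide +kernel
theorem s3c7 : allBelow (fun k => fs3 (Nat.add (Nat.succ 1894) k)) 275 = true := by decide +kernel
theorem s3c8 : allBelow (fun k => fs3 (Nat.add (Nat.succ 2169) k)) 280 = true := by decide +kernel
theorem s3c9 : allBelow (fun k => fs3 (Nat.add (Nat.succ 2449) k)) 278 = true := by decide +kernel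
theorem s3c10 : allBelow (fun k => fs3 (Nat.add (Nat.succ 2727) k)) 282 = true := by decide +kernel
theorem s3c11 : allBelow (fun k => fs3 (Nat.add (Nat.succ 3009) k)) 283 = true := by decide +kernel
theorem s3c12 : allBelow (fun k => fs3 (Nat.add (Nat.succ 3292) k)) 290 = true := by decide +kernel
theorem s3c13 : allBelow (fun k => fs3 (Nat.add (Nat.succ 3582) k)) 269 = true := by decide +kernel
theorem s3c14 : allBelow (fun k => fs3 (Nat.add (Nat.succ 3851) k)) 286 = true := by decide +kernel
theorem s3c15 : allBelow (fun k => fs3 (Nat.add (Nat.succ 4137) k)) 294 = true := by decide +kernel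
theorem s3c16 : allBelow (fun k => fs3 (Nat.add (Nat.succ 4431) k)) 283 = true := by decide +kernel
theorem s3c17 : allBelow (fun k => fs3 (Nat.add (Nat.succ 4714) k)) 305 = true := by decide +kernel
theorem s3c18 : allBelow (fun k => fs3 (Nat.add (Nat.succ 5019) k)) 267 = true := by decide +kernel
theorem s3c19 : allBelow (fun k => fs3 (Nat.add (Nat.succ 5286) k)) 292 = true := by decide +kernel
theorem s3c20 : allBelow (fun k => fs3 (Nat.add (Nat.succ 5578) k)) 282 = true := by decide +kernel
theorem s3c21 : allBelow (fun k => fs3 (Nat.add (Nat.succ 5860) k)) 314 = true := by decide +kernel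
theorem s3c22 : allBelow (fun k => fs3 (Nat.add (Nat.succ 6174) k)) 275 = true := by decide +kernel
theorem s3c23 : allBelow (fun k => fs3 (Nat.add (Nat.succ 6449) k)) 293 = true := by decide +kernel
theorem s3c24 : allBelow (fun k => fs3 (Nat.add (Nat.succ 6742) k)) 328 = true := by decide +kernel
theorem s3c25 : allBelow (fun k => fs3 (Nat.add (Nat.succ 7070) k)) 275 = true := by decide +kernel
theorem s3c26 : allBelow (fun k => fs3 (Nat.add (Nat.succ 7345) k)) 314 = true := by decide +kernel
theorem s3c27 : allBelow (fun k => fs3 (Nat.add (Nat.succ 7659) k)) 271 = true := by decide +kernel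
theorem s3c28 : allBelow (fun k => fs3 (Nat.add (Nat.succ 7930) k)) 287 = true := by decide +kernel
theorem s3c29 : allBelow (fun k => fs3 (Nat.add (Nat.succ 8217) k)) 329 = true := by decide +kernel
theorem s3c30 : allBelow (fun k => fs3 (Nat.add (Nat.succ 8546) k)) 275 = true := by decide +kernel
theorem s3c31 : allBelow (fun k => fs3 (Nat.add (Nat.succ 8821) k)) 300 = true := by decide +kernel
theorem s3c32 : allBelow (fun k => fs3 (Nat.add (Nat.succ 9121) k)) 308 = true := by decide +kernel
theorem s3c33 : allBelow (fun k => fs3 (Nat.add (Nat.succ 9429) k)) 346 = true := by decide +kernel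
theorem s3c34 : allBelow (fun k => fs3 (Nat.add (Nat.succ 9775) k)) 281 = true := by decide +kernel
theorem s3c35 : allBelow (fun k => fs3 (Nat.add (Nat.succ 10056) k)) 296 = true := by decide +kernel
theorem s3c36 : allBelow (fun k => fs3 (Nat.add (Nat.succ 10352) k)) 270 = true := by decide +kernel

end Cfsg.Agent.Lib.Helper35.Fi24a
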