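import Cfsg.Agent.Lib.Helper35.Fi24a.Data

set_option Elab.async false

namespace Cfsg.Agent.Lib.Helper35.Fi24a

open Cfsg.Agent.Lib.Helper35

theorem s3c37 : allBelow (fun k => fs3 (Nat.add (Nat.succ 10622) k)) 265 = true := by decide +kernel
theorem s3c38 : allBelow (fun k => fs3 (Nat.add (Nat.succ 10887) k)) 276 = true := by decide +kernel
theorem s3c39 : allBelow (fun k => fs3 (Nat.add (Nat.succ 11163) k)) 253 = true := by decide +kernel
theorem s3c40 : allBelow (fun k => fs3 (Nat.add (Nat.succ 11416) k)) 288 = true := by decide +kernel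
theorem s3c41 : allBelow (fun k => fs3 (Nat.add (Nat.succ 11704) k)) 263 = true := by decide +kernel
theorem s3c42 : allBelow (fun k => fs3 (Nat.add (Nat.succ 11967) k)) 279 = true := by decide +kernel
theorem s3c43 : allBelow (fun k => fs3 (Nat.add (Nat.succ 12246) k)) 305 = true := by decide +kernel
theorem s3c44 : allBelow (fun k => fs3 (Nat.add (Nat.succ 12551) k)) 281 = true := by decide +kernel
theorem s3c45 : allBelow (fun k => fs3 (Nat.add (Nat.succ 12832) k)) 287 = true := by decide +kernel
theorem s3c46 : allBelow (fun k => fs3 (Nat.add (Nat.succ 13119) k)) 286 = true := by decide +kernel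
theorem s3c47 : allBelow (fun k => fs3 (Nat.add (Nat.succ 13405) k)) 262 = true := by decide +kernel
theorem s3c48 : allBelow (fun k => fs3 (Nat.add (Nat.succ 13667) k)) 275 = true := by decide +kernel
theorem s3c49 : allBelow (fun k => fs3 (Nat.add (Nat.succ 13942) k)) 271 = true := by decide +kernel
theorem s3c50 : allBelow (fun k => fs3 (Nat.add (Nat.succ 14213) k)) 305 = true := by decide +kernel
theorem s3c51 : allBelow (fun k => fs3 (Nat.add (Nat.succ 14518) k)) 264 = true := by decide +kernel
theorem s3c52 : allBelow (fun k => fs3 (Nat.add (Nat.succ 14782) k)) 287 = true := by decide +kernel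
theorem s3c53 : allBelow (fun k => fs3 (Nat.add (Nat.succ 15069) k)) 284 = true := by decide +kernel
theorem s3c54 : allBelow (fun k => fs3 (Nat.add (Nat.succ 15353) k)) 276 = true := by decide +kernel
theorem s3c55 : allBelow (fun k => fs3 (Nat.add (Nat.succ 15629) k)) 289 = true := by decide +kernel
theorem s3c56 : allBelow (fun k => fs3 (Nat.add (Nat.succ 15918) k)) 328 = true := by decide +kernel
theorem s3c57 : allBelow (fun k => fs3 (Nat.add (Nat.succ 16246) k)) 324 = true := by decide +kernel
theorem s3c58 : allBelow (fun k => fs3 (Nat.add (Nat.succ 16570) k)) 256 = true := by decide +kernel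
theorem s3c59 : allBelow (fun k => fs3 (Nat.add (Nat.succ 16826) k)) 321 = true := by decide +kernel
theorem s3c60 : allBelow (fun k => fs3 (Nat.add (Nat.succ 17147) k)) 312 = true := by decide +kernel
theorem s3c61 : allBelow (fun k => fs3 (Nat.add (Nat.succ 17459) k)) 255 = true := by decide +kernel
theorem s3c62 : allBelow (fun k => fs3 (Nat.add (Nat.succ 17714) k)) 270 = true := by decide +kernel
theorem s3c63 : allBelow (fun k => fs3 (Nat.add (Nat.succ 17984) k)) 300 = true := by decide +kernel
theorem s3c64 : allBelow (fun k => fs3 (Nat.add (Nat.succ 18284) k)) 283 = true := by decide +kernel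
theorem s3c65 : allBelow (fun k => fs3 (Nat.add (Nat.succ 18567) k)) 300 = true := by decide +kernel
theorem s3c66 : allBelow (fun k => fs3 (Nat.add (Nat.succ 18867) k)) 303 = true := by decide +kernel
theorem s3c67 : allBelow (fun k => fs3 (Nat.add (Nat.succ 19170) k)) 279 = true := by decide +kernel
theorem s3c68 : allBelow (fun k => fs3 (Nat.add (Nat.succ 19449) k)) 292 = true := by decide +kernel
theorem s3c69 : allBelow (fun k => fs3 (Nat.add (Nat.succ 19741) k)) 300 = true := by decide +kernel
theorem s3c70 : allBelow (fun k => fs3 (Nat.add (Nat.succ 20041) k)) 292 = true := by decide +kernel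
theorem s3c71 : allBelow (fun k => fs3 (Nat.add (Nat.succ 20333) k)) 288 = true := by decide +kernel
theorem s3c72 : allBelow (fun k => fs3 (Nat.add (Nat.succ 20621) k)) 293 = true := by decide +kernel
theorem s3c73 : allBelow (fun k => fs3 (Nat.add (Nat.succ 20914) k)) 341 = true := by decide +kernel
theorem s3c74 : allBelow (fun k => fs3 (Nat.add (Nat.succ 21255) k)) 335 = true := by decide +kernel
theorem s3c75 : allBelow (fun k => fs3 (Nat.add (Nat.succ 21590) k)) 338 = true := by decide +kernel
theorem s3c76 : allBelow (fun k => fs3 (Nat.add (Nat.succ 21928) k)) 265 = true := by decide +kernel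
theorem s3c77 : allBelow (fun k => fs3 (Nat.add (Nat.succ 22193) k)) 341 = true := by decide +kernel
theorem s3c78 : allBelow (fun k => fs3 (Nat.add (Nat.succ 22534) k)) 308 = true := by decide +kernel
theorem s3c79 : allBelow (fun k => fs3 (Nat.add (Nat.succ 22842) k)) 335 = true := by decide +kernel
theorem s3c80 : allBelow (fun k => fs3 (Nat.add (Nat.succ 23177) k)) 258 = true := by decide +kernel
theorem s3c81 : allBelow (fun k => fs3 (Nat.add (Nat.succ 23435) k)) 277 = true := by decide +kernel
theorem s3c82 : allBelow (fun k => fs3 (Nat.add (Nat.succ 23712) k)) 304 = true := by decide +kernel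
theorem s3c83 : allBelow (fun k => fs3 (Nat.add (Nat.succ 24016) k)) 317 = true := by decide +kernel
theorem s3c84 : allBelow (fun k => fs3 (Nat.add (Nat.succ 24333) k)) 296 = true := by decide +kernel
theorem s3c85 : allBelow (fun k => fs3 (Nat.add (Nat.succ 24629) k)) 279 = true := by decide +kernel
theorem s3c86 : allBelow (fun k => fs3 (Nat.add (Nat.succ 24908) k)) 382 = true := by decide +kernel
theorem s3c87 : allBelow (fun k => fs3 (Nat.add (Nat.succ 25290) k)) 258 = true := by decide +kernel
theorem s3c88 : allBelow (fun k => fs3 (Nat.add (Nat.succ 25548) k)) 291 = true := by decide +kernel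
theorem s3c89 : allBelow (fun k => fs3 (Nat.add (Nat.succ 25839) k)) 293 = true := by decide +kernel
theorem s3c90 : allBelow (fun k => fs3 (Nat.add (Nat.succ 26132) k)) 287 = true := by decide +kernel
theorem s3c91 : allBelow (fun k => fs3 (Nat.add (Nat.succ 26419) k)) 320 = true := by decide +kernel
theorem s3c92 : allBelow (fun k => fs3 (Nat.add (Nat.succ 26739) k)) 317 = true := by decide +kernel
theorem s3c93 : allBelow (fun k => fs3 (Nat.add (Nat.succ 27056) k)) 332 = true := by decide +kernel
theorem s3c94 : allBelow (fun k => fs3 (Nat.add (Nat.succ 27388) k)) 286 = true := by decide +kernel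
theorem s3c95 : allBelow (fun k => fs3 (Nat.add (Nat.succ 27674) k)) 291 = true := by decide +kernel
theorem s3c96 : allBelow (fun k => fs3 (Nat.add (Nat.succ 27965) k)) 348 = true := by decide +kernel
theorem s3c97 : allBelow (fun k => fs3 (Nat.add (Nat.succ 28313) k)) 371 = true := by decide +kernel
theorem s3c98 : allBelow (fun k => fs3 (Nat.add (Nat.succ 28684) k)) 409 = true := by decide +kernel
theorem s3c99 : allBelow (fun k => fs3 (Nat.add (Nat.succ 29093) k)) 303 = true := by decide +kernel
theorem s3c100 : allBelow (fun k => fs3 (Nat.add (Nat.succ 29396) k)) 266 = true := by decide +kernel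
theorem s3c101 : allBelow (fun k => fs3 (Nat.add (Nat.succ 29662) k)) 370 = true := by decide +kernel
theorem s3c102 : allBelow (fun k => fs3 (Nat.add (Nat.succ 30032) k)) 362 = true := by decide +kernel
theorem s3c103 : allBelow (fun k => fs3 (Nat.add (Nat.succ 30394) k)) 332 = true := by decide +kernel
theorem s3c104 : allBelow (fun k => fs3 (Nat.add (Nat.succ 30726) k)) 318 = true := by decide +kernel
theorem s3c105 : allBelow (fun k => fs3 (Nat.add (Nat.succ 31044) k)) 259 = true := by decide +kernel
theorem s3c106 : allBelow (fun k => fs3 (Nat.add (Nat.succ 31303) k)) 282 = true := by decide +kernel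
theorem s3c107 : allBelow (fun k => fs3 (Nat.add (Nat.succ 31585) k)) 277 = true := by decide +kernel
theorem s3c108 : allBelow (fun k => fs3 (Nat.add (Nat.succ 31862) k)) 321 = true := by decide +kernel
theorem s3c109 : allBelow (fun k => fs3 (Nat.add (Nat.succ 32183) k)) 355 = true := by decide +kernel
theorem s3c110 : allBelow (fun k => fs3 (Nat.add (Nat.succ 32538) k)) 344 = true := by decide +kernel
theorem s3c111 : allBelow (fun k => fs3 (Nat.add (Nat.succ 32882) k)) 278 = true := by decide +kernel
theorem s3c112 : allBelow (fun k => fs3 (Nat.add (Nat.succ 33160) k)) 301 = true := by decide +kernel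
theorem s3c113 : allBelow (fun k => fs3 (Nat.add (Nat.succ 33461) k)) 434 = true := by decide +kernel
theorem s3c114 : allBelow (fun k => fs3 (Nat.add (Nat.succ 33895) k)) 273 = true := by decide +kernel
theorem s3c115 : allBelow (fun k => fs3 (Nat.add (Nat.succ 34168) k)) 284 = true := by decide +kernel
theorem s3c116 : allBelow (fun k => fs3 (Nat.add (Nat.succ 34452) k)) 295 = true := by decide +kernel
theorem s3c117 : allBelow (fun k => fs3 (Nat.add (Nat.succ 34747) k)) 295 = true := by decide +kernel
theorem s3c118 : allBelow (fun k => fs3 (Nat.add (Nat.succ 35042) k)) 293 = true := by decide +kernel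
theorem s3c119 : allBelow (fun k => fs3 (Nat.add (Nat.succ 35335) k)) 287 = true := by decide +kernel
theorem s3c120 : allBelow (fun k => fs3 (Nat.add (Nat.succ 35622) k)) 325 = true := by decide +kernel
theorem s3c121 : allBelow (fun k => fs3 (Nat.add (Nat.succ 35947) k)) 336 = true := by decide +kernel
theorem s3c122 : allBelow (fun k => fs3 (Nat.add (Nat.succ 36283) k)) 345 = true := by decide +kernel
theorem s3c123 : allBelow (fun k => fs3 (Nat.add (Nat.succ 36628) k)) 363 = true := by decide +kernel
theorem s3c124 : allBelow (fun k => fs3 (Nat.add (Nat.succ 36991) k)) 293 = true := by decide +kernel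
theorem s3c125 : allBelow (fun k => fs3 (Nat.add (Nat.succ 37284) k)) 295 = true := by decide +kernel
theorem s3c126 : allBelow (fun k => fs3 (Nat.add (Nat.succ 37579) k)) 297 = true := by decide +kernel
theorem s3c127 : allBelow (fun k => fs3 (Nat.add (Nat.succ 37876) k)) 389 = true := by decide +kernel
theorem s3c128 : allBelow (fun k => fs3 (Nat.add (Nat.succ 38265) k)) 401 = true := by decide +kernel
theorem s3c129 : allBelow (fun k => fs3 (Nat.add (Nat.succ 38666) k)) 464 = true := by decide +kernel
theorem s3c130 : allBelow (fun k => fs3 (Nat.add (Nat.succ 39130) k)) 321 = true := by decide +kernel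
theorem s3c131 : allBelow (fun k => fs3 (Nat.add (Nat.succ 39451) k)) 295 = true := by decide +kernel
theorem s3c132 : allBelow (fun k => fs3 (Nat.add (Nat.succ 39746) k)) 282 = true := by decide +kernel
theorem s3c133 : allBelow (fun k => fs3 (Nat.add (Nat.succ 40028) k)) 400 = true := by decide +kernel
theorem s3c134 : allBelow (fun k => fs3 (Nat.add (Nat.succ 40428) k)) 435 = true := by decide +kernel
theorem s3c135 : allBelow (fun k => fs3 (Nat.add (Nat.succ 40863) k)) 315 = true := by decide +kernel
theorem s3c136 : allBelow (fun k => fs3 (Nat.add (Nat.succ 41178) k)) 420 = true := by decide +kernel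
theorem s3c137 : allBelow (fun k => fs3 (Nat.add (Nat.succ 41598) k)) 278 = true := by decide +kernel
theorem s3c138 : allBelow (fun k => fs3 (Nat.add (Nat.succ 41876) k)) 269 = true := by decide +kernel
theorem s3c139 : allBelow (fun k => fs3 (Nat.add (Nat.succ 42145) k)) 284 = true := by decide +kernel
theorem s3c140 : allBelow (fun k => fs3 (Nat.add (Nat.succ 42429) k)) 284 = true := by decide +kernel
theorem s3c141 : allBelow (fun k => fs3 (Nat.add (Nat.succ 42713) k)) 286 = true := by decide +kernel
theorem s3c142 : allBelow (fun k => fs3 (Nat.add (Nat.succ 42999) k)) 301 = true := by decide +kernel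
theorem s3c143 : allBelow (fun k => fs3 (Nat.add (Nat.succ 43300) k)) 375 = true := by decide +kernel
theorem s3c144 : allBelow (fun k => fs3 (Nat.add (Nat.succ 43675) k)) 390 = true := by decide +kernel
theorem s3c145 : allBelow (fun k => fs3 (Nat.add (Nat.succ 44065) k)) 378 = true := by decide +kernel
theorem s3c146 : allBelow (fun k => fs3 (Nat.add (Nat.succ 44443) k)) 287 = true := by decide +kernel
theorem s3c147 : allBelow (fun k => fs3 (Nat.add (Nat.succ 44730) k)) 291 = true := by decide +kernel
theorem s3c148 : allBelow (fun k => fs3 (Nat.add (Nat.succ 45021) k)) 384 = true := by decide +kernel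
theorem s3c149 : allBelow (fun k => fs3 (Nat.add (Nat.succ 45405) k)) 443 = true := by decide +kernel
theorem s3c150 : allBelow (fun k => fs3 (Nat.add (Nat.succ 45848) k)) 277 = true := by decide +kernel
theorem s3c151 : allBelow (fun k => fs3 (Nat.add (Nat.succ 46125) k)) 274 = true := by decide +kernel
theorem s3c152 : allBelow (fun k => fs3 (Nat.add (Nat.succ 46399) k)) 313 = true := by decide +kernel
theorem s3c153 : allBelow (fun k => fs3 (Nat.add (Nat.succ 46712) k)) 281 = true := by decide +kernel
theorem s3c154 : allBelow (fun k => fs3 (Nat.add (Nat.succ 46993) k)) 316 = true := by decide +kernel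
theorem s3c155 : allBelow (fun k => fs3 (Nat.add (Nat.succ 47309) k)) 284 = true := by decide +kernel
theorem s3c156 : allBelow (fun k => fs3 (Nat.add (Nat.succ 47593) k)) 286 = true := by decide +kernel
theorem s3c157 : allBelow (fun k => fs3 (Nat.add (Nat.succ 47879) k)) 299 = true := by decide +kernel
theorem s3c158 : allBelow (fun k => fs3 (Nat.add (Nat.succ 48178) k)) 308 = true := by decide +kernel
theorem s3c159 : allBelow (fun k => fs3 (Nat.add (Nat.succ 48486) k)) 365 = true := by decide +kernel
theorem s3c160 : allBelow (fun k => fs3 (Nat.add (Nat.succ 48851) k)) 357 = true := by decide +kernel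
theorem s3c161 : allBelow (fun k => fs3 (Nat.add (Nat.succ 49208) k)) 355 = true := by decide +kernel
theorem s3c162 : allBelow (fun k => fs3 (Nat.add (Nat.succ 49563) k)) 347 = true := by decide +kernel
theorem s3c163 : allBelow (fun k => fs3 (Nat.add (Nat.succ 49910) k)) 389 = true := by decide +kernel
theorem s3c164 : allBelow (fun k => fs3 (Nat.add (Nat.succ 50299) k)) 311 = true := by decide +kernel
theorem s3c165 : allBelow (fun k => fs3 (Nat.add (Nat.succ 50610) k)) 317 = true := by decide +kernel
theorem s3c166 : allBelow (fun k => fs3 (Nat.add (Nat.succ 50927) k)) 283 = true := by decide +kernel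
theorem s3c167 : allBelow (fun k => fs3 (Nat.add (Nat.succ 51210) k)) 317 = true := by decide +kernel
theorem s3c168 : allBelow (fun k => fs3 (Nat.add (Nat.succ 51527) k)) 444 = true := by decide +kernel
theorem s3c169 : allBelow (fun k => fs3 (Nat.add (Nat.succ 51971) k)) 438 = true := by decide +kernel
theorem s3c170 : allBelow (fun k => fs3 (Nat.add (Nat.succ 52409) k)) 509 = true := by decide +kernel
theorem s3c171 : allBelow (fun k => fs3 (Nat.add (Nat.succ 52918) k)) 347 = true := by decide +kernel
theorem s3c172 : allBelow (fun k => fs3 (Nat.add (Nat.succ 53265) k)) 293 = true := by decide +kernel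
theorem s3c173 : allBelow (fun k => fs3 (Nat.add (Nat.succ 53558) k)) 308 = true := by decide +kernel
theorem s3c174 : allBelow (fun k => fs3 (Nat.add (Nat.succ 53866) k)) 303 = true := by decide +kernel
theorem s3c175 : allBelow (fun k => fs3 (Nat.add (Nat.succ 54169) k)) 419 = true := by decide +kernel
theorem s3c176 : allBelow (fun k => fs3 (Nat.add (Nat.succ 54588) k)) 462 = true := by decide +kernel
theorem s3c177 : allBelow (fun k => fs3 (Nat.add (Nat.succ 55050) k)) 387 = true := by decide +kernel
theorem s3c178 : allBelow (fun k => fs3 (Nat.add (Nat.succ 55437) k)) 389 = true := by decide +kernel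
theorem s3c179 : allBelow (fun k => fs3 (Nat.add (Nat.succ 55826) k)) 434 = true := by decide +kernel
theorem s3c180 : allBelow (fun k => fs3 (Nat.add (Nat.succ 56260) k)) 269 = true := by decide +kernel
theorem s3c181 : allBelow (fun k => fs3 (Nat.add (Nat.succ 56529) k)) 285 = true := by decide +kernel
theorem s3c182 : allBelow (fun k => fs3 (Nat.add (Nat.succ 56814) k)) 271 = true := by decide +kernel
theorem s3c183 : allBelow (fun k => fs3 (Nat.add (Nat.succ 57085) k)) 296 = true := by decide +kernel
theorem s3c184 : allBelow (fun k => fs3 (Nat.add (Nat.succ 57381) k)) 290 = true := by decide +kernel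
theorem s3c185 : allBelow (fun k => fs3 (Nat.add (Nat.succ 57671) k)) 299 = true := by decide +kernel
theorem s3c186 : allBelow (fun k => fs3 (Nat.add (Nat.succ 57970) k)) 295 = true := by decide +kernel
theorem s3c187 : allBelow (fun k => fs3 (Nat.add (Nat.succ 58265) k)) 307 = true := by decide +kernel
theorem s3c188 : allBelow (fun k => fs3 (Nat.add (Nat.succ 58572) k)) 396 = true := by decide +kernel
theorem s3c189 : allBelow (fun k => fs3 (Nat.add (Nat.succ 58968) k)) 405 = true := by decide +kernel
theorem s3c190 : allBelow (fun k => fs3 (Nat.add (Nat.succ 59373) k)) 416 = true := by decide +kernel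
theorem s3c191 : allBelow (fun k => fs3 (Nat.add (Nat.succ 59789) k)) 405 = true := by decide +kernel
theorem s3c192 : allBelow (fun k => fs3 (Nat.add (Nat.succ 60194) k)) 285 = true := by decide +kernel
theorem s3c193 : allBelow (fun k => fs3 (Nat.add (Nat.succ 60479) k)) 318 = true := by decide +kernel
theorem s3c194 : allBelow (fun k => fs3 (Nat.add (Nat.succ 60797) k)) 361 = true := by decide +kernel
theorem s3c195 : allBelow (fun k => fs3 (Nat.add (Nat.succ 61158) k)) 475 = true := by decide +kernel
theorem s3c196 : allBelow (fun k => fs3 (Nat.add (Nat.succ 61633) k)) 419 = true := by decide +kernel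
theorem s3c197 : allBelow (fun k => fs3 (Nat.add (Nat.succ 62052) k)) 270 = true := by decide +kernel
theorem s3c198 : allBelow (fun k => fs3 (Nat.add (Nat.succ 62322) k)) 286 = true := by decide +kernel
theorem s3c199 : allBelow (fun k => fs3 (Nat.add (Nat.succ 62608) k)) 278 = true := by decide +kernel
theorem s3c200 : allBelow (fun k => fs3 (Nat.add (Nat.succ 62886) k)) 335 = true := by decide +kernel
theorem s3c201 : allBelow (fun k => fs3 (Nat.add (Nat.succ 63221) k)) 286 = true := by decide +kernel
theorem s3c202 : allBelow (fun k => fs3 (Nat.add (Nat.succ 63507) k)) 329 = true := by decide +kernel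
theorem s3c203 : allBelow (fun k => fs3 (Nat.add (Nat.succ 63836) k)) 311 = true := by decide +kernel
theorem s3c204 : allBelow (fun k => fs3 (Nat.add (Nat.succ 64147) k)) 278 = true := by decide +kernel
theorem s3c205 : allBelow (fun k => fs3 (Nat.add (Nat.succ 64425) k)) 283 = true := by decide +kernel
theorem s3c206 : allBelow (fun k => fs3 (Nat.add (Nat.succ 64708) k)) 303 = true := by decide +kernel
theorem s3c207 : allBelow (fun k => fs3 (Nat.add (Nat.succ 65011) k)) 307 = true := by decide +kernel
theorem s3c208 : allBelow (fun k => fs3 (Nat.add (Nat.succ 65318) k)) 307 = true := by decide +kernel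
theorem s3c209 : allBelow (fun k => fs3 (Nat.add (Nat.succ 65625) k)) 375 = true := by decide +kernel
theorem s3c210 : allBelow (fun k => fs3 (Nat.add (Nat.succ 66000) k)) 392 = true := by decide +kernel
theorem s3c211 : allBelow (fun k => fs3 (Nat.add (Nat.succ 66392) k)) 363 = true := by decide +kernel
theorem s3c212 : allBelow (fun k => fs3 (Nat.add (Nat.succ 66755) k)) 391 = true := by decide +kernel
theorem s3c213 : allBelow (fun k => fs3 (Nat.add (Nat.succ 67146) k)) 386 = true := by decide +kernel
theorem s3c214 : allBelow (fun k => fs3 (Nat.add (Nat.succ 67532) k)) 448 = true := by decide +kernel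
theorem s3c215 : allBelow (fun k => fs3 (Nat.add (Nat.succ 67980) k)) 301 = true := by decide +kernel
theorem s3c216 : allBelow (fun k => fs3 (Nat.add (Nat.succ 68281) k)) 318 = true := by decide +kernel
theorem s3c217 : allBelow (fun k => fs3 (Nat.add (Nat.succ 68599) k)) 346 = true := by decide +kernel
theorem s3c218 : allBelow (fun k => fs3 (Nat.add (Nat.succ 68945) k)) 309 = true := by decide +kernel
theorem s3c219 : allBelow (fun k => fs3 (Nat.add (Nat.succ 69254) k)) 338 = true := by decide +kernel
theorem s3c220 : allBelow (fun k => fs3 (Nat.add (Nat.succ 69592) k)) 456 = true := by decide +kernel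
theorem s3c221 : allBelow (fun k => fs3 (Nat.add (Nat.succ 70048) k)) 466 = true := by decide +kernel
theorem s3c222 : allBelow (fun k => fs3 (Nat.add (Nat.succ 70514) k)) 481 = true := by decide +kernel
theorem s3c223 : allBelow (fun k => fs3 (Nat.add (Nat.succ 70995) k)) 451 = true := by decide +kernel
theorem s3c224 : allBelow (fun k => fs3 (Nat.add (Nat.succ 71446) k)) 291 = true := by decide +kernel
theorem s3c225 : allBelow (fun k => fs3 (Nat.add (Nat.succ 71737) k)) 323 = true := by decide +kernel
theorem s3c226 : allBelow (fun k => fs3 (Nat.add (Nat.succ 72060) k)) 317 = true := by decide +kernel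
theorem s3c227 : allBelow (fun k => fs3 (Nat.add (Nat.succ 72377) k)) 328 = true := by decide +kernel
theorem s3c228 : allBelow (fun k => fs3 (Nat.add (Nat.succ 72705) k)) 341 = true := by decide +kernel
theorem s3c229 : allBelow (fun k => fs3 (Nat.add (Nat.succ 73046) k)) 519 = true := by decide +kernel
theorem s3c230 : allBelow (fun k => fs3 (Nat.add (Nat.succ 73565) k)) 506 = true := by decide +kernel
theorem s3c231 : allBelow (fun k => fs3 (Nat.add (Nat.succ 74071) k)) 367 = true := by decide +kernel
theorem s3c232 : allBelow (fun k => fs3 (Nat.add (Nat.succ 74438) k)) 421 = true := by decide +kernel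
theorem s3c233 : allBelow (fun k => fs3 (Nat.add (Nat.succ 74859) k)) 481 = true := by decide +kernel
theorem s3c234 : allBelow (fun k => fs3 (Nat.add (Nat.succ 75340) k)) 276 = true := by decide +kernel
theorem s3c235 : allBelow (fun k => fs3 (Nat.add (Nat.succ 75616) k)) 283 = true := by decide +kernel
theorem s3c236 : allBelow (fun k => fs3 (Nat.add (Nat.succ 75899) k)) 306 = true := by decide +kernel
theorem s3c237 : allBelow (fun k => fs3 (Nat.add (Nat.succ 76205) k)) 276 = true := by decide +kernel
theorem s3c238 : allBelow (fun k => fs3 (Nat.add (Nat.succ 76481) k)) 302 = true := by decide +kernel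
theorem s3c239 : allBelow (fun k => fs3 (Nat.add (Nat.succ 76783) k)) 322 = true := by decide +kernel
theorem s3c240 : allBelow (fun k => fs3 (Nat.add (Nat.succ 77105) k)) 283 = true := by decide +kernel
theorem s3c241 : allBelow (fun k => fs3 (Nat.add (Nat.succ 77388) k)) 308 = true := by decide +kernel
theorem s3c242 : allBelow (fun k => fs3 (Nat.add (Nat.succ 77696) k)) 309 = true := by decide +kernel
theorem s3c243 : allBelow (fun k => fs3 (Nat.add (Nat.succ 78005) k)) 304 = true := by decide +kernel
theorem s3c244 : allBelow (fun k => fs3 (Nat.add (Nat.succ 78309) k)) 331 = true := by decide +kernel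
theorem s3c245 : allBelow (fun k => fs3 (Nat.add (Nat.succ 78640) k)) 397 = true := by decide +kernel
theorem s3c246 : allBelow (fun k => fs3 (Nat.add (Nat.succ 79037) k)) 459 = true := by decide +kernel
theorem s3c247 : allBelow (fun k => fs3 (Nat.add (Nat.succ 79496) k)) 423 = true := by decide +kernel
theorem s3c248 : allBelow (fun k => fs3 (Nat.add (Nat.succ 79919) k)) 495 = true := by decide +kernel
theorem s3c249 : allBelow (fun k => fs3 (Nat.add (Nat.succ 80414) k)) 319 = true := by decide +kernel
theorem s3c250 : allBelow (fun k => fs3 (Nat.add (Nat.succ 80733) k)) 309 = true := by decide +kernel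
theorem s3c251 : allBelow (fun k => fs3 (Nat.add (Nat.succ 81042) k)) 339 = true := by decide +kernel
theorem s3c252 : allBelow (fun k => fs3 (Nat.add (Nat.succ 81381) k)) 390 = true := by decide +kernel
theorem s3c253 : allBelow (fun k => fs3 (Nat.add (Nat.succ 81771) k)) 443 = true := by decide +kernel
theorem s3c254 : allBelow (fun k => fs3 (Nat.add (Nat.succ 82214) k)) 474 = true := by decide +kernel
theorem s3c255 : allBelow (fun k => fs3 (Nat.add (Nat.succ 82688) k)) 305 = true := by decide +kernel
theorem s3c256 : allBelow (fun k => fs3 (Nat.add (Nat.succ 82993) k)) 285 = true := by decide +kernel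
theorem s3c257 : allBelow (fun k => fs3 (Nat.add (Nat.succ 83278) k)) 295 = true := by decide +kernel
theorem s3c258 : allBelow (fun k => fs3 (Nat.add (Nat.succ 83573) k)) 285 = true := by decide +kernel
theorem s3c259 : allBelow (fun k => fs3 (Nat.add (Nat.succ 83858) k)) 325 = true := by decide +kernel
theorem s3c260 : allBelow (fun k => fs3 (Nat.add (Nat.succ 84183) k)) 330 = true := by decide +kernel
theorem s3c261 : allBelow (fun k => fs3 (Nat.add (Nat.succ 84513) k)) 276 = true := by decide +kernel
theorem s3c262 : allBelow (fun k => fs3 (Nat.add (Nat.succ 84789) k)) 313 = true := by decide +kernel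
theorem s3c263 : allBelow (fun k => fs3 (Nat.add (Nat.succ 85102) k)) 335 = true := by decide +kernel
theorem s3c264 : allBelow (fun k => fs3 (Nat.add (Nat.succ 85437) k)) 330 = true := by decide +kernel
theorem s3c265 : allBelow (fun k => fs3 (Nat.add (Nat.succ 85767) k)) 273 = true := by decide +kernel
theorem s3c266 : allBelow (fun k => fs3 (Nat.add (Nat.succ 86040) k)) 285 = true := by decide +kernel
theorem s3c267 : allBelow (fun k => fs3 (Nat.add (Nat.succ 86325) k)) 296 = true := by decide +kernel
theorem s3c268 : allBelow (fun k => fs3 (Nat.add (Nat.succ 86621) k)) 301 = true := by decide +kernel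
theorem s3c269 : allBelow (fun k => fs3 (Nat.add (Nat.succ 86922) k)) 301 = true := by decide +kernel
theorem s3c270 : allBelow (fun k => fs3 (Nat.add (Nat.succ 87223) k)) 323 = true := by decide +kernel
theorem s3c271 : allBelow (fun k => fs3 (Nat.add (Nat.succ 87546) k)) 330 = true := by decide +kernel
theorem s3c272 : allBelow (fun k => fs3 (Nat.add (Nat.succ 87876) k)) 408 = true := by decide +kernel
theorem s3c273 : allBelow (fun k => fs3 (Nat.add (Nat.succ 88284) k)) 396 = true := by decide +kernel
theorem s3c274 : allBelow (fun k => fs3 (Nat.add (Nat.succ 88680) k)) 381 = true := by decide +kernel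
theorem s3c275 : allBelow (fun k => fs3 (Nat.add (Nat.succ 89061) k)) 373 = true := by decide +kernel
theorem s3c276 : allBelow (fun k => fs3 (Nat.add (Nat.succ 89434) k)) 428 = true := by decide +kernel
theorem s3c277 : allBelow (fun k => fs3 (Nat.add (Nat.succ 89862) k)) 422 = true := by decide +kernel
theorem s3c278 : allBelow (fun k => fs3 (Nat.add (Nat.succ 90284) k)) 456 = true := by decide +kernel
theorem s3c279 : allBelow (fun k => fs3 (Nat.add (Nat.succ 90740) k)) 322 = true := by decide +kernel
theorem s3c280 : allBelow (fun k => fs3 (Nat.add (Nat.succ 91062) k)) 336 = true := by decide +kernel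
theorem s3c281 : allBelow (fun k => fs3 (Nat.add (Nat.succ 91398) k)) 370 = true := by decide +kernel
theorem s3c282 : allBelow (fun k => fs3 (Nat.add (Nat.succ 91768) k)) 304 = true := by decide +kernel
theorem s3c283 : allBelow (fun k => fs3 (Nat.add (Nat.succ 92072) k)) 334 = true := by decide +kernel
theorem s3c284 : allBelow (fun k => fs3 (Nat.add (Nat.succ 92406) k)) 381 = true := by decide +kernel
theorem s3c285 : allBelow (fun k => fs3 (Nat.add (Nat.succ 92787) k)) 499 = true := by decide +kernel
theorem s3c286 : allBelow (fun k => fs3 (Nat.add (Nat.succ 93286) k)) 465 = true := by decide +kernel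
theorem s3c287 : allBelow (fun k => fs3 (Nat.add (Nat.succ 93751) k)) 534 = true := by decide +kernel
theorem s3c288 : allBelow (fun k => fs3 (Nat.add (Nat.succ 94285) k)) 337 = true := by decide +kernel
theorem s3c289 : allBelow (fun k => fs3 (Nat.add (Nat.succ 94622) k)) 294 = true := by decide +kernel
theorem s3c290 : allBelow (fun k => fs3 (Nat.add (Nat.succ 94916) k)) 337 = true := by decide +kernel
theorem s3c291 : allBelow (fun k => fs3 (Nat.add (Nat.succ 95253) k)) 334 = true := by decide +kernel
theorem s3c292 : allBelow (fun k => fs3 (Nat.add (Nat.succ 95587) k)) 339 = true := by decide +kernel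
theorem s3c293 : allBelow (fun k => fs3 (Nat.add (Nat.succ 95926) k)) 322 = true := by decide +kernel
theorem s3c294 : allBelow (fun k => fs3 (Nat.add (Nat.succ 96248) k)) 415 = true := by decide +kernel
theorem s3c295 : allBelow (fun k => fs3 (Nat.add (Nat.succ 96663) k)) 512 = true := by decide +kernel
theorem s3c296 : allBelow (fun k => fs3 (Nat.add (Nat.succ 97175) k)) 466 = true := by decide +kernel
theorem s3c297 : allBelow (fun k => fs3 (Nat.add (Nat.succ 97641) k)) 394 = true := by decide +kernel
theorem s3c298 : allBelow (fun k => fs3 (Nat.add (Nat.succ 98035) k)) 486 = true := by decide +kernel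
theorem s3c299 : allBelow (fun k => fs3 (Nat.add (Nat.succ 98521) k)) 414 = true := by decide +kernel
theorem s3c300 : allBelow (fun k => fs3 (Nat.add (Nat.succ 98935) k)) 287 = true := by decide +kernel
theorem s3c301 : allBelow (fun k => fs3 (Nat.add (Nat.succ 99222) k)) 291 = true := by decide +kernel
theorem s3c302 : allBelow (fun k => fs3 (Nat.add (Nat.succ 99513) k)) 317 = true := by decide +kernel
theorem s3c303 : allBelow (fun k => fs3 (Nat.add (Nat.succ 99830) k)) 296 = true := by decide +kernel
theorem s3c304 : allBelow (fun k => fs3 (Nat.add (Nat.succ 100126) k)) 293 = true := by decide +kernel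
theorem s3c305 : allBelow (fun k => fs3 (Nat.add (Nat.succ 100419) k)) 283 = true := by decide +kernel
theorem s3c306 : allBelow (fun k => fs3 (Nat.add (Nat.succ 100702) k)) 339 = true := by decide +kernel
theorem s3c307 : allBelow (fun k => fs3 (Nat.add (Nat.succ 101041) k)) 326 = true := by decide +kernel
theorem s3c308 : allBelow (fun k => fs3 (Nat.add (Nat.succ 101367) k)) 286 = true := by decide +kernel
theorem s3c309 : allBelow (fun k => fs3 (Nat.add (Nat.succ 101653) k)) 310 = true := by decide +kernel
theorem s3c310 : allBelow (fun k => fs3 (Nat.add (Nat.succ 101963) k)) 322 = true := by decide +kernel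
theorem s3c311 : allBelow (fun k => fs3 (Nat.add (Nat.succ 102285) k)) 297 = true := by decide +kernel
theorem s3c312 : allBelow (fun k => fs3 (Nat.add (Nat.succ 102582) k)) 310 = true := by decide +kernel
theorem s3c313 : allBelow (fun k => fs3 (Nat.add (Nat.succ 102892) k)) 329 = true := by decide +kernel
theorem s3c314 : allBelow (fun k => fs3 (Nat.add (Nat.succ 103221) k)) 402 = true := by decide +kernel
theorem s3c315 : allBelow (fun k => fs3 (Nat.add (Nat.succ 103623) k)) 436 = true := by decide +kernel
theorem s3c316 : allBelow (fun k => fs3 (Nat.add (Nat.succ 104059) k)) 425 = true := by decide +kernel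
theorem s3c317 : allBelow (fun k => fs3 (Nat.add (Nat.succ 104484) k)) 460 = true := by decide +kernel
theorem s3c318 : allBelow (fun k => fs3 (Nat.add (Nat.succ 104944) k)) 384 = true := by decide +kernel
theorem s3c319 : allBelow (fun k => fs3 (Nat.add (Nat.succ 105328) k)) 331 = true := by decide +kernel
theorem s3c320 : allBelow (fun k => fs3 (Nat.add (Nat.succ 105659) k)) 366 = true := by decide +kernel
theorem s3c321 : allBelow (fun k => fs3 (Nat.add (Nat.succ 106025) k)) 363 = true := by decide +kernel
theorem s3c322 : allBelow (fun k => fs3 (Nat.add (Nat.succ 106388) k)) 408 = true := by decide +kernel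
theorem s3c323 : allBelow (fun k => fs3 (Nat.add (Nat.succ 106796) k)) 456 = true := by decide +kernel
theorem s3c324 : allBelow (fun k => fs3 (Nat.add (Nat.succ 107252) k)) 377 = true := by decide +kernel
theorem s3c325 : allBelow (fun k => fs3 (Nat.add (Nat.succ 107629) k)) 283 = true := by decide +kernel
theorem s3c326 : allBelow (fun k => fs3 (Nat.add (Nat.succ 107912) k)) 301 = true := by decide +kernel
theorem s3c327 : allBelow (fun k => fs3 (Nat.add (Nat.succ 108213) k)) 302 = true := by decide +kernel
theorem s3c328 : allBelow (fun k => fs3 (Nat.add (Nat.succ 108515) k)) 283 = true := by decide +kernel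
theorem s3c329 : allBelow (fun k => fs3 (Nat.add (Nat.succ 108798) k)) 292 = true := by decide +kernel
theorem s3c330 : allBelow (fun k => fs3 (Nat.add (Nat.succ 109090) k)) 356 = true := by decide +kernel
theorem s3c331 : allBelow (fun k => fs3 (Nat.add (Nat.succ 109446) k)) 350 = true := by decide +kernel
theorem s3c332 : allBelow (fun k => fs3 (Nat.add (Nat.succ 109796) k)) 282 = true := by decide +kernel
theorem s3c333 : allBelow (fun k => fs3 (Nat.add (Nat.succ 110078) k)) 278 = true := by decide +kernel
theorem s3c334 : allBelow (fun k => fs3 (Nat.add (Nat.succ 110356) k)) 316 = true := by decide +kernel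
theorem s3c335 : allBelow (fun k => fs3 (Nat.add (Nat.succ 110672) k)) 353 = true := by decide +kernel
theorem s3c336 : allBelow (fun k => fs3 (Nat.add (Nat.succ 111025) k)) 276 = true := by decide +kernel
theorem s3c337 : allBelow (fun k => fs3 (Nat.add (Nat.succ 111301) k)) 350 = true := by decide +kernel
theorem s3c338 : allBelow (fun k => fs3 (Nat.add (Nat.succ 111651) k)) 278 = true := by decide +kernel
theorem s3c339 : allBelow (fun k => fs3 (Nat.add (Nat.succ 111929) k)) 273 = true := by decide +kernel
theorem s3c340 : allBelow (fun k => fs3 (Nat.add (Nat.succ 112202) k)) 302 = true := by decide +kernel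
theorem s3c341 : allBelow (fun k => fs3 (Nat.add (Nat.succ 112504) k)) 293 = true := by decide +kernel
theorem s3c342 : allBelow (fun k => fs3 (Nat.add (Nat.succ 112797) k)) 320 = true := by decide +kernel
theorem s3c343 : allBelow (fun k => fs3 (Nat.add (Nat.succ 113117) k)) 292 = true := by decide +kernel
theorem s3c344 : allBelow (fun k => fs3 (Nat.add (Nat.succ 113409) k)) 338 = true := by decide +kernel
theorem s3c345 : allBelow (fun k => fs3 (Nat.add (Nat.succ 113747) k)) 303 = true := by decide +kernel
theorem s3c346 : allBelow (fun k => fs3 (Nat.add (Nat.succ 114050) k)) 345 = true := by decide +kernel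
theorem s3c347 : allBelow (fun k => fs3 (Nat.add (Nat.succ 114395) k)) 372 = true := by decide +kernel
theorem s3c348 : allBelow (fun k => fs3 (Nat.add (Nat.succ 114767) k)) 374 = true := by decide +kernel
theorem s3c349 : allBelow (fun k => fs3 (Nat.add (Nat.succ 115141) k)) 444 = true := by decide +kernel
theorem s3c350 : allBelow (fun k => fs3 (Nat.add (Nat.succ 115585) k)) 368 = true := by decide +kernel
theorem s3c351 : allBelow (fun k => fs3 (Nat.add (Nat.succ 115953) k)) 408 = true := by decide +kernel
theorem s3c352 : allBelow (fun k => fs3 (Nat.add (Nat.succ 116361) k)) 385 = true := by decide +kernel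
theorem s3c353 : allBelow (fun k => fs3 (Nat.add (Nat.succ 116746) k)) 446 = true := by decide +kernel
theorem s3c354 : allBelow (fun k => fs3 (Nat.add (Nat.succ 117192) k)) 392 = true := by decide +kernel
theorem s3c355 : allBelow (fun k => fs3 (Nat.add (Nat.succ 117584) k)) 371 = true := by decide +kernel

end Cfsg.Agent.Lib.Helper35.Fi24a
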