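import Cfsg.Agent.Lib.Helper35.Fi24a.Data

set_option Elab.async false

namespace Cfsg.Agent.Lib.Helper35.Fi24a

open Cfsg.Agent.Lib.Helper35

theorem s3c356 : allBelow (fun k => fs3 (Nat.add (Nat.succ 117955) k)) 296 = true := by decide +kernel
theorem s3c357 : allBelow (fun k => fs3 (Nat.add (Nat.succ 118251) k)) 397 = true := by decide +kernel
theorem s3c358 : allBelow (fun k => fs3 (Nat.add (Nat.succ 118648) k)) 328 = true := by decide +kernel
theorem s3c359 : allBelow (fun k => fs3 (Nat.add (Nat.succ 118976) k)) 350 = true := by decide +kernel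
theorem s3c360 : allBelow (fun k => fs3 (Nat.add (Nat.succ 119326) k)) 471 = true := by decide +kernel
theorem s3c361 : allBelow (fun k => fs3 (Nat.add (Nat.succ 119797) k)) 475 = true := by decide +kernel
theorem s3c362 : allBelow (fun k => fs3 (Nat.add (Nat.succ 120272) k)) 412 = true := by decide +kernel
theorem s3c363 : allBelow (fun k => fs3 (Nat.add (Nat.succ 120684) k)) 290 = true := by decide +kernel
theorem s3c364 : allBelow (fun k => fs3 (Nat.add (Nat.succ 120974) k)) 301 = true := by decide +kernel
theorem s3c365 : allBelow (fun k => fs3 (Nat.add (Nat.succ 121275) k)) 343 = true := by decide +kernel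
theorem s3c366 : allBelow (fun k => fs3 (Nat.add (Nat.succ 121618) k)) 330 = true := by decide +kernel
theorem s3c367 : allBelow (fun k => fs3 (Nat.add (Nat.succ 121948) k)) 313 = true := by decide +kernel
theorem s3c368 : allBelow (fun k => fs3 (Nat.add (Nat.succ 122261) k)) 347 = true := by decide +kernel
theorem s3c369 : allBelow (fun k => fs3 (Nat.add (Nat.succ 122608) k)) 312 = true := by decide +kernel
theorem s3c370 : allBelow (fun k => fs3 (Nat.add (Nat.succ 122920) k)) 439 = true := by decide +kernel
theorem s3c371 : allBelow (fun k => fs3 (Nat.add (Nat.succ 123359) k)) 496 = true := by decide +kernel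
theorem s3c372 : allBelow (fun k => fs3 (Nat.add (Nat.succ 123855) k)) 365 = true := by decide +kernel
theorem s3c373 : allBelow (fun k => fs3 (Nat.add (Nat.succ 124220) k)) 496 = true := by decide +kernel
theorem s3c374 : allBelow (fun k => fs3 (Nat.add (Nat.succ 124716) k)) 259 = true := by decide +kernel
theorem s3c375 : allBelow (fun k => fs3 (Nat.add (Nat.succ 124975) k)) 265 = true := by decide +kernel
theorem s3c376 : allBelow (fun k => fs3 (Nat.add (Nat.succ 125240) k)) 274 = true := by decide +kernel
theorem s3c377 : allBelow (fun k => fs3 (Nat.add (Nat.succ 125514) k)) 255 = true := by decide +kernel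
theorem s3c378 : allBelow (fun k => fs3 (Nat.add (Nat.succ 125769) k)) 254 = true := by decide +kernel
theorem s3c379 : allBelow (fun k => fs3 (Nat.add (Nat.succ 126023) k)) 265 = true := by decide +kernel
theorem s3c380 : allBelow (fun k => fs3 (Nat.add (Nat.succ 126288) k)) 273 = true := by decide +kernel
theorem s3c381 : allBelow (fun k => fs3 (Nat.add (Nat.succ 126561) k)) 274 = true := by decide +kernel
theorem s3c382 : allBelow (fun k => fs3 (Nat.add (Nat.succ 126835) k)) 266 = true := by decide +kernel
theorem s3c383 : allBelow (fun k => fs3 (Nat.add (Nat.succ 127101) k)) 264 = true := by decide +kernel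
theorem s3c384 : allBelow (fun k => fs3 (Nat.add (Nat.succ 127365) k)) 259 = true := by decide +kernel
theorem s3c385 : allBelow (fun k => fs3 (Nat.add (Nat.succ 127624) k)) 272 = true := by decide +kernel
theorem s3c386 : allBelow (fun k => fs3 (Nat.add (Nat.succ 127896) k)) 288 = true := by decide +kernel
theorem s3c387 : allBelow (fun k => fs3 (Nat.add (Nat.succ 128184) k)) 277 = true := by decide +kernel
theorem s3c388 : allBelow (fun k => fs3 (Nat.add (Nat.succ 128461) k)) 271 = true := by decide +kernel
theorem s3c389 : allBelow (fun k => fs3 (Nat.add (Nat.succ 128732) k)) 263 = true := by decide +kernel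
theorem s3c390 : allBelow (fun k => fs3 (Nat.add (Nat.succ 128995) k)) 260 = true := by decide +kernel
theorem s3c391 : allBelow (fun k => fs3 (Nat.add (Nat.succ 129255) k)) 257 = true := by decide +kernel
theorem s3c392 : allBelow (fun k => fs3 (Nat.add (Nat.succ 129512) k)) 260 = true := by decide +kernel
theorem s3c393 : allBelow (fun k => fs3 (Nat.add (Nat.succ 129772) k)) 258 = true := by decide +kernel
theorem s3c394 : allBelow (fun k => fs3 (Nat.add (Nat.succ 130030) k)) 264 = true := by decide +kernel
theorem s3c395 : allBelow (fun k => fs3 (Nat.add (Nat.succ 130294) k)) 260 = true := by decide +kernel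
theorem s3c396 : allBelow (fun k => fs3 (Nat.add (Nat.succ 130554) k)) 281 = true := by decide +kernel
theorem s3c397 : allBelow (fun k => fs3 (Nat.add (Nat.succ 130835) k)) 262 = true := by decide +kernel
theorem s3c398 : allBelow (fun k => fs3 (Nat.add (Nat.succ 131097) k)) 264 = true := by decide +kernel
theorem s3c399 : allBelow (fun k => fs3 (Nat.add (Nat.succ 131361) k)) 273 = true := by decide +kernel
theorem s3c400 : allBelow (fun k => fs3 (Nat.add (Nat.succ 131634) k)) 277 = true := by decide +kernel
theorem s3c401 : allBelow (fun k => fs3 (Nat.add (Nat.succ 131911) k)) 271 = true := by decide +kernel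
theorem s3c402 : allBelow (fun k => fs3 (Nat.add (Nat.succ 132182) k)) 268 = true := by decide +kernel
theorem s3c403 : allBelow (fun k => fs3 (Nat.add (Nat.succ 132450) k)) 258 = true := by decide +kernel
theorem s3c404 : allBelow (fun k => fs3 (Nat.add (Nat.succ 132708) k)) 281 = true := by decide +kernel
theorem s3c405 : allBelow (fun k => fs3 (Nat.add (Nat.succ 132989) k)) 268 = true := by decide +kernel
theorem s3c406 : allBelow (fun k => fs3 (Nat.add (Nat.succ 133257) k)) 273 = true := by decide +kernel
theorem s3c407 : allBelow (fun k => fs3 (Nat.add (Nat.succ 133530) k)) 274 = true := by decide +kernel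
theorem s3c408 : allBelow (fun k => fs3 (Nat.add (Nat.succ 133804) k)) 256 = true := by decide +kernel
theorem s3c409 : allBelow (fun k => fs3 (Nat.add (Nat.succ 134060) k)) 266 = true := by decide +kernel
theorem s3c410 : allBelow (fun k => fs3 (Nat.add (Nat.succ 134326) k)) 262 = true := by decide +kernel
theorem s3c411 : allBelow (fun k => fs3 (Nat.add (Nat.succ 134588) k)) 267 = true := by decide +kernel
theorem s3c412 : allBelow (fun k => fs3 (Nat.add (Nat.succ 134855) k)) 280 = true := by decide +kernel
theorem s3c413 : allBelow (fun k => fs3 (Nat.add (Nat.succ 135135) k)) 268 = true := by decide +kernel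
theorem s3c414 : allBelow (fun k => fs3 (Nat.add (Nat.succ 135403) k)) 285 = true := by decide +kernel
theorem s3c415 : allBelow (fun k => fs3 (Nat.add (Nat.succ 135688) k)) 267 = true := by decide +kernel
theorem s3c416 : allBelow (fun k => fs3 (Nat.add (Nat.succ 135955) k)) 249 = true := by decide +kernel
theorem s3c417 : allBelow (fun k => fs3 (Nat.add (Nat.succ 136204) k)) 287 = true := by decide +kernel
theorem s3c418 : allBelow (fun k => fs3 (Nat.add (Nat.succ 136491) k)) 269 = true := by decide +kernel
theorem s3c419 : allBelow (fun k => fs3 (Nat.add (Nat.succ 136760) k)) 267 = true := by decide +kernel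
theorem s3c420 : allBelow (fun k => fs3 (Nat.add (Nat.succ 137027) k)) 271 = true := by decide +kernel
theorem s3c421 : allBelow (fun k => fs3 (Nat.add (Nat.succ 137298) k)) 249 = true := by decide +kernel
theorem s3c422 : allBelow (fun k => fs3 (Nat.add (Nat.succ 137547) k)) 269 = true := by decide +kernel
theorem s3c423 : allBelow (fun k => fs3 (Nat.add (Nat.succ 137816) k)) 267 = true := by decide +kernel
theorem s3c424 : allBelow (fun k => fs3 (Nat.add (Nat.succ 138083) k)) 271 = true := by decide +kernel
theorem s3c425 : allBelow (fun k => fs3 (Nat.add (Nat.succ 138354) k)) 262 = true := by decide +kernel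
theorem s3c426 : allBelow (fun k => fs3 (Nat.add (Nat.succ 138616) k)) 264 = true := by decide +kernel
theorem s3c427 : allBelow (fun k => fs3 (Nat.add (Nat.succ 138880) k)) 269 = true := by decide +kernel
theorem s3c428 : allBelow (fun k => fs3 (Nat.add (Nat.succ 139149) k)) 244 = true := by decide +kernel
theorem s3c429 : allBelow (fun k => fs3 (Nat.add (Nat.succ 139393) k)) 265 = true := by decide +kernel
theorem s3c430 : allBelow (fun k => fs3 (Nat.add (Nat.succ 139658) k)) 267 = true := by decide +kernel
theorem s3c431 : allBelow (fun k => fs3 (Nat.add (Nat.succ 139925) k)) 250 = true := by decide +kernel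
theorem s3c432 : allBelow (fun k => fs3 (Nat.add (Nat.succ 140175) k)) 278 = true := by decide +kernel
theorem s3c433 : allBelow (fun k => fs3 (Nat.add (Nat.succ 140453) k)) 267 = true := by decide +kernel
theorem s3c434 : allBelow (fun k => fs3 (Nat.add (Nat.succ 140720) k)) 255 = true := by decide +kernel
theorem s3c435 : allBelow (fun k => fs3 (Nat.add (Nat.succ 140975) k)) 259 = true := by decide +kernel
theorem s3c436 : allBelow (fun k => fs3 (Nat.add (Nat.succ 141234) k)) 258 = true := by decide +kernel
theorem s3c437 : allBelow (fun k => fs3 (Nat.add (Nat.succ 141492) k)) 273 = true := by decide +kernel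
theorem s3c438 : allBelow (fun k => fs3 (Nat.add (Nat.succ 141765) k)) 260 = true := by decide +kernel
theorem s3c439 : allBelow (fun k => fs3 (Nat.add (Nat.succ 142025) k)) 263 = true := by decide +kernel
theorem s3c440 : allBelow (fun k => fs3 (Nat.add (Nat.succ 142288) k)) 254 = true := by decide +kernel
theorem s3c441 : allBelow (fun k => fs3 (Nat.add (Nat.succ 142542) k)) 258 = true := by decide +kernel
theorem s3c442 : allBelow (fun k => fs3 (Nat.add (Nat.succ 142800) k)) 255 = true := by decide +kernel
theorem s3c443 : allBelow (fun k => fs3 (Nat.add (Nat.succ 143055) k)) 275 = true := by decide +kernel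
theorem s3c444 : allBelow (fun k => fs3 (Nat.add (Nat.succ 143330) k)) 273 = true := by decide +kernel
theorem s3c445 : allBelow (fun k => fs3 (Nat.add (Nat.succ 143603) k)) 260 = true := by decide +kernel
theorem s3c446 : allBelow (fun k => fs3 (Nat.add (Nat.succ 143863) k)) 264 = true := by decide +kernel
theorem s3c447 : allBelow (fun k => fs3 (Nat.add (Nat.succ 144127) k)) 262 = true := by decide +kernel
theorem s3c448 : allBelow (fun k => fs3 (Nat.add (Nat.succ 144389) k)) 261 = true := by decide +kernel
theorem s3c449 : allBelow (fun k => fs3 (Nat.add (Nat.succ 144650) k)) 274 = true := by decide +kernel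
theorem s3c450 : allBelow (fun k => fs3 (Nat.add (Nat.succ 144924) k)) 275 = true := by decide +kernel
theorem s3c451 : allBelow (fun k => fs3 (Nat.add (Nat.succ 145199) k)) 278 = true := by decide +kernel
theorem s3c452 : allBelow (fun k => fs3 (Nat.add (Nat.succ 145477) k)) 269 = true := by decide +kernel
theorem s3c453 : allBelow (fun k => fs3 (Nat.add (Nat.succ 145746) k)) 270 = true := by decide +kernel
theorem s3c454 : allBelow (fun k => fs3 (Nat.add (Nat.succ 146016) k)) 261 = true := by decide +kernel
theorem s3c455 : allBelow (fun k => fs3 (Nat.add (Nat.succ 146277) k)) 262 = true := by decide +kernel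
theorem s3c456 : allBelow (fun k => fs3 (Nat.add (Nat.succ 146539) k)) 252 = true := by decide +kernel
theorem s3c457 : allBelow (fun k => fs3 (Nat.add (Nat.succ 146791) k)) 264 = true := by decide +kernel
theorem s3c458 : allBelow (fun k => fs3 (Nat.add (Nat.succ 147055) k)) 254 = true := by decide +kernel
theorem s3c459 : allBelow (fun k => fs3 (Nat.add (Nat.succ 147309) k)) 260 = true := by decide +kernel
theorem s3c460 : allBelow (fun k => fs3 (Nat.add (Nat.succ 147569) k)) 258 = true := by decide +kernel
theorem s3c461 : allBelow (fun k => fs3 (Nat.add (Nat.succ 147827) k)) 281 = true := by decide +kernel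
theorem s3c462 : allBelow (fun k => fs3 (Nat.add (Nat.succ 148108) k)) 262 = true := by decide +kernel
theorem s3c463 : allBelow (fun k => fs3 (Nat.add (Nat.succ 148370) k)) 269 = true := by decide +kernel
theorem s3c464 : allBelow (fun k => fs3 (Nat.add (Nat.succ 148639) k)) 273 = true := by decide +kernel
theorem s3c465 : allBelow (fun k => fs3 (Nat.add (Nat.succ 148912) k)) 276 = true := by decide +kernel
theorem s3c466 : allBelow (fun k => fs3 (Nat.add (Nat.succ 149188) k)) 274 = true := by decide +kernel
theorem s3c467 : allBelow (fun k => fs3 (Nat.add (Nat.succ 149462) k)) 259 = true := by decide +kernel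
theorem s3c468 : allBelow (fun k => fs3 (Nat.add (Nat.succ 149721) k)) 262 = true := by decide +kernel
theorem s3c469 : allBelow (fun k => fs3 (Nat.add (Nat.succ 149983) k)) 267 = true := by decide +kernel
theorem s3c470 : allBelow (fun k => fs3 (Nat.add (Nat.succ 150250) k)) 278 = true := by decide +kernel
theorem s3c471 : allBelow (fun k => fs3 (Nat.add (Nat.succ 150528) k)) 262 = true := by decide +kernel
theorem s3c472 : allBelow (fun k => fs3 (Nat.add (Nat.succ 150790) k)) 281 = true := by decide +kernel
theorem s3c473 : allBelow (fun k => fs3 (Nat.add (Nat.succ 151071) k)) 269 = true := by decide +kernel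
theorem s3c474 : allBelow (fun k => fs3 (Nat.add (Nat.succ 151340) k)) 249 = true := by decide +kernel
theorem s3c475 : allBelow (fun k => fs3 (Nat.add (Nat.succ 151589) k)) 274 = true := by decide +kernel
theorem s3c476 : allBelow (fun k => fs3 (Nat.add (Nat.succ 151863) k)) 267 = true := by decide +kernel
theorem s3c477 : allBelow (fun k => fs3 (Nat.add (Nat.succ 152130) k)) 264 = true := by decide +kernel
theorem s3c478 : allBelow (fun k => fs3 (Nat.add (Nat.succ 152394) k)) 263 = true := by decide +kernel
theorem s3c479 : allBelow (fun k => fs3 (Nat.add (Nat.succ 152657) k)) 267 = true := by decide +kernel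
theorem s3c480 : allBelow (fun k => fs3 (Nat.add (Nat.succ 152924) k)) 279 = true := by decide +kernel
theorem s3c481 : allBelow (fun k => fs3 (Nat.add (Nat.succ 153203) k)) 271 = true := by decide +kernel
theorem s3c482 : allBelow (fun k => fs3 (Nat.add (Nat.succ 153474) k)) 268 = true := by decide +kernel
theorem s3c483 : allBelow (fun k => fs3 (Nat.add (Nat.succ 153742) k)) 280 = true := by decide +kernel
theorem s3c484 : allBelow (fun k => fs3 (Nat.add (Nat.succ 154022) k)) 269 = true := by decide +kernel
theorem s3c485 : allBelow (fun k => fs3 (Nat.add (Nat.succ 154291) k)) 267 = true := by decide +kernel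
theorem s3c486 : allBelow (fun k => fs3 (Nat.add (Nat.succ 154558) k)) 285 = true := by decide +kernel
theorem s3c487 : allBelow (fun k => fs3 (Nat.add (Nat.succ 154843) k)) 269 = true := by decide +kernel
theorem s3c488 : allBelow (fun k => fs3 (Nat.add (Nat.succ 155112) k)) 271 = true := by decide +kernel
theorem s3c489 : allBelow (fun k => fs3 (Nat.add (Nat.succ 155383) k)) 272 = true := by decide +kernel
theorem s3c490 : allBelow (fun k => fs3 (Nat.add (Nat.succ 155655) k)) 252 = true := by decide +kernel
theorem s3c491 : allBelow (fun k => fs3 (Nat.add (Nat.succ 155907) k)) 262 = true := by decide +kernel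
theorem s3c492 : allBelow (fun k => fs3 (Nat.add (Nat.succ 156169) k)) 271 = true := by decide +kernel
theorem s3c493 : allBelow (fun k => fs3 (Nat.add (Nat.succ 156440) k)) 265 = true := by decide +kernel
theorem s3c494 : allBelow (fun k => fs3 (Nat.add (Nat.succ 156705) k)) 264 = true := by decide +kernel
theorem s3c495 : allBelow (fun k => fs3 (Nat.add (Nat.succ 156969) k)) 269 = true := by decide +kernel
theorem s3c496 : allBelow (fun k => fs3 (Nat.add (Nat.succ 157238) k)) 247 = true := by decide +kernel
theorem s3c497 : allBelow (fun k => fs3 (Nat.add (Nat.succ 157485) k)) 252 = true := by decide +kernel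
theorem s3c498 : allBelow (fun k => fs3 (Nat.add (Nat.succ 157737) k)) 276 = true := by decide +kernel
theorem s3c499 : allBelow (fun k => fs3 (Nat.add (Nat.succ 158013) k)) 238 = true := by decide +kernel
theorem s3c500 : allBelow (fun k => fs3 (Nat.add (Nat.succ 158251) k)) 260 = true := by decide +kernel
theorem s3c501 : allBelow (fun k => fs3 (Nat.add (Nat.succ 158511) k)) 269 = true := by decide +kernel
theorem s3c502 : allBelow (fun k => fs3 (Nat.add (Nat.succ 158780) k)) 260 = true := by decide +kernel
theorem s3c503 : allBelow (fun k => fs3 (Nat.add (Nat.succ 159040) k)) 240 = true := by decide +kernel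
theorem s3c504 : allBelow (fun k => fs3 (Nat.add (Nat.succ 159280) k)) 263 = true := by decide +kernel
theorem s3c505 : allBelow (fun k => fs3 (Nat.add (Nat.succ 159543) k)) 263 = true := by decide +kernel
theorem s3c506 : allBelow (fun k => fs3 (Nat.add (Nat.succ 159806) k)) 273 = true := by decide +kernel
theorem s3c507 : allBelow (fun k => fs3 (Nat.add (Nat.succ 160079) k)) 258 = true := by decide +kernel
theorem s3c508 : allBelow (fun k => fs3 (Nat.add (Nat.succ 160337) k)) 260 = true := by decide +kernel
theorem s3c509 : allBelow (fun k => fs3 (Nat.add (Nat.succ 160597) k)) 253 = true := by decide +kernel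
theorem s3c510 : allBelow (fun k => fs3 (Nat.add (Nat.succ 160850) k)) 259 = true := by decide +kernel
theorem s3c511 : allBelow (fun k => fs3 (Nat.add (Nat.succ 161109) k)) 261 = true := by decide +kernel
theorem s3c512 : allBelow (fun k => fs3 (Nat.add (Nat.succ 161370) k)) 267 = true := by decide +kernel
theorem s3c513 : allBelow (fun k => fs3 (Nat.add (Nat.succ 161637) k)) 264 = true := by decide +kernel
theorem s3c514 : allBelow (fun k => fs3 (Nat.add (Nat.succ 161901) k)) 268 = true := by decide +kernel
theorem s3c515 : allBelow (fun k => fs3 (Nat.add (Nat.succ 162169) k)) 266 = true := by decide +kernel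
theorem s3c516 : allBelow (fun k => fs3 (Nat.add (Nat.succ 162435) k)) 257 = true := by decide +kernel
theorem s3c517 : allBelow (fun k => fs3 (Nat.add (Nat.succ 162692) k)) 264 = true := by decide +kernel
theorem s3c518 : allBelow (fun k => fs3 (Nat.add (Nat.succ 162956) k)) 260 = true := by decide +kernel
theorem s3c519 : allBelow (fun k => fs3 (Nat.add (Nat.succ 163216) k)) 262 = true := by decide +kernel
theorem s3c520 : allBelow (fun k => fs3 (Nat.add (Nat.succ 163478) k)) 278 = true := by decide +kernel
theorem s3c521 : allBelow (fun k => fs3 (Nat.add (Nat.succ 163756) k)) 267 = true := by decide +kernel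
theorem s3c522 : allBelow (fun k => fs3 (Nat.add (Nat.succ 164023) k)) 280 = true := by decide +kernel
theorem s3c523 : allBelow (fun k => fs3 (Nat.add (Nat.succ 164303) k)) 266 = true := by decide +kernel
theorem s3c524 : allBelow (fun k => fs3 (Nat.add (Nat.succ 164569) k)) 279 = true := by decide +kernel
theorem s3c525 : allBelow (fun k => fs3 (Nat.add (Nat.succ 164848) k)) 259 = true := by decide +kernel
theorem s3c526 : allBelow (fun k => fs3 (Nat.add (Nat.succ 165107) k)) 260 = true := by decide +kernel
theorem s3c527 : allBelow (fun k => fs3 (Nat.add (Nat.succ 165367) k)) 262 = true := by decide +kernel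
theorem s3c528 : allBelow (fun k => fs3 (Nat.add (Nat.succ 165629) k)) 244 = true := by decide +kernel
theorem s3c529 : allBelow (fun k => fs3 (Nat.add (Nat.succ 165873) k)) 263 = true := by decide +kernel
theorem s3c530 : allBelow (fun k => fs3 (Nat.add (Nat.succ 166136) k)) 257 = true := by decide +kernel
theorem s3c531 : allBelow (fun k => fs3 (Nat.add (Nat.succ 166393) k)) 255 = true := by decide +kernel
theorem s3c532 : allBelow (fun k => fs3 (Nat.add (Nat.succ 166648) k)) 282 = true := by decide +kernel
theorem s3c533 : allBelow (fun k => fs3 (Nat.add (Nat.succ 166930) k)) 261 = true := by decide +kernel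
theorem s3c534 : allBelow (fun k => fs3 (Nat.add (Nat.succ 167191) k)) 272 = true := by decide +kernel
theorem s3c535 : allBelow (fun k => fs3 (Nat.add (Nat.succ 167463) k)) 270 = true := by decide +kernel
theorem s3c536 : allBelow (fun k => fs3 (Nat.add (Nat.succ 167733) k)) 269 = true := by decide +kernel
theorem s3c537 : allBelow (fun k => fs3 (Nat.add (Nat.succ 168002) k)) 283 = true := by decide +kernel
theorem s3c538 : allBelow (fun k => fs3 (Nat.add (Nat.succ 168285) k)) 273 = true := by decide +kernel
theorem s3c539 : allBelow (fun k => fs3 (Nat.add (Nat.succ 168558) k)) 257 = true := by decide +kernel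
theorem s3c540 : allBelow (fun k => fs3 (Nat.add (Nat.succ 168815) k)) 262 = true := by decide +kernel
theorem s3c541 : allBelow (fun k => fs3 (Nat.add (Nat.succ 169077) k)) 258 = true := by decide +kernel
theorem s3c542 : allBelow (fun k => fs3 (Nat.add (Nat.succ 169335) k)) 281 = true := by decide +kernel
theorem s3c543 : allBelow (fun k => fs3 (Nat.add (Nat.succ 169616) k)) 268 = true := by decide +kernel
theorem s3c544 : allBelow (fun k => fs3 (Nat.add (Nat.succ 169884) k)) 266 = true := by decide +kernel
theorem s3c545 : allBelow (fun k => fs3 (Nat.add (Nat.succ 170150) k)) 285 = true := by decide +kernel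
theorem s3c546 : allBelow (fun k => fs3 (Nat.add (Nat.succ 170435) k)) 264 = true := by decide +kernel
theorem s3c547 : allBelow (fun k => fs3 (Nat.add (Nat.succ 170699) k)) 254 = true := by decide +kernel
theorem s3c548 : allBelow (fun k => fs3 (Nat.add (Nat.succ 170953) k)) 261 = true := by decide +kernel
theorem s3c549 : allBelow (fun k => fs3 (Nat.add (Nat.succ 171214) k)) 267 = true := by decide +kernel
theorem s3c550 : allBelow (fun k => fs3 (Nat.add (Nat.succ 171481) k)) 266 = true := by decide +kernel
theorem s3c551 : allBelow (fun k => fs3 (Nat.add (Nat.succ 171747) k)) 260 = true := by decide +kernel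
theorem s3c552 : allBelow (fun k => fs3 (Nat.add (Nat.succ 172007) k)) 262 = true := by decide +kernel
theorem s3c553 : allBelow (fun k => fs3 (Nat.add (Nat.succ 172269) k)) 269 = true := by decide +kernel
theorem s3c554 : allBelow (fun k => fs3 (Nat.add (Nat.succ 172538) k)) 269 = true := by decide +kernel
theorem s3c555 : allBelow (fun k => fs3 (Nat.add (Nat.succ 172807) k)) 275 = true := by decide +kernel
theorem s3c556 : allBelow (fun k => fs3 (Nat.add (Nat.succ 173082) k)) 271 = true := by decide +kernel
theorem s3c557 : allBelow (fun k => fs3 (Nat.add (Nat.succ 173353) k)) 266 = true := by decide +kernel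
theorem s3c558 : allBelow (fun k => fs3 (Nat.add (Nat.succ 173619) k)) 284 = true := by decide +kernel
theorem s3c559 : allBelow (fun k => fs3 (Nat.add (Nat.succ 173903) k)) 268 = true := by decide +kernel
theorem s3c560 : allBelow (fun k => fs3 (Nat.add (Nat.succ 174171) k)) 271 = true := by decide +kernel
theorem s3c561 : allBelow (fun k => fs3 (Nat.add (Nat.succ 174442) k)) 273 = true := by decide +kernel
theorem s3c562 : allBelow (fun k => fs3 (Nat.add (Nat.succ 174715) k)) 284 = true := by decide +kernel
theorem s3c563 : allBelow (fun k => fs3 (Nat.add (Nat.succ 174999) k)) 268 = true := by decide +kernel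
theorem s3c564 : allBelow (fun k => fs3 (Nat.add (Nat.succ 175267) k)) 272 = true := by decide +kernel
theorem s3c565 : allBelow (fun k => fs3 (Nat.add (Nat.succ 175539) k)) 272 = true := by decide +kernel
theorem s3c566 : allBelow (fun k => fs3 (Nat.add (Nat.succ 175811) k)) 261 = true := by decide +kernel
theorem s3c567 : allBelow (fun k => fs3 (Nat.add (Nat.succ 176072) k)) 260 = true := by decide +kernel
theorem s3c568 : allBelow (fun k => fs3 (Nat.add (Nat.succ 176332) k)) 267 = true := by decide +kernel
theorem s3c569 : allBelow (fun k => fs3 (Nat.add (Nat.succ 176599) k)) 264 = true := by decide +kernel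
theorem s3c570 : allBelow (fun k => fs3 (Nat.add (Nat.succ 176863) k)) 274 = true := by decide +kernel
theorem s3c571 : allBelow (fun k => fs3 (Nat.add (Nat.succ 177137) k)) 230 = true := by decide +kernel
theorem s3c572 : allBelow (fun k => fs3 (Nat.add (Nat.succ 177367) k)) 265 = true := by decide +kernel
theorem s3c573 : allBelow (fun k => fs3 (Nat.add (Nat.succ 177632) k)) 261 = true := by decide +kernel
theorem s3c574 : allBelow (fun k => fs3 (Nat.add (Nat.succ 177893) k)) 247 = true := by decide +kernel
theorem s3c575 : allBelow (fun k => fs3 (Nat.add (Nat.succ 178140) k)) 266 = true := by decide +kernel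
theorem s3c576 : allBelow (fun k => fs3 (Nat.add (Nat.succ 178406) k)) 269 = true := by decide +kernel
theorem s3c577 : allBelow (fun k => fs3 (Nat.add (Nat.succ 178675) k)) 249 = true := by decide +kernel
theorem s3c578 : allBelow (fun k => fs3 (Nat.add (Nat.succ 178924) k)) 260 = true := by decide +kernel
theorem s3c579 : allBelow (fun k => fs3 (Nat.add (Nat.succ 179184) k)) 260 = true := by decide +kernel
theorem s3c580 : allBelow (fun k => fs3 (Nat.add (Nat.succ 179444) k)) 263 = true := by decide +kernel
theorem s3c581 : allBelow (fun k => fs3 (Nat.add (Nat.succ 179707) k)) 271 = true := by decide +kernel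
theorem s3c582 : allBelow (fun k => fs3 (Nat.add (Nat.succ 179978) k)) 248 = true := by decide +kernel
theorem s3c583 : allBelow (fun k => fs3 (Nat.add (Nat.succ 180226) k)) 270 = true := by decide +kernel
theorem s3c584 : allBelow (fun k => fs3 (Nat.add (Nat.succ 180496) k)) 254 = true := by decide +kernel
theorem s3c585 : allBelow (fun k => fs3 (Nat.add (Nat.succ 180750) k)) 259 = true := by decide +kernel
theorem s3c586 : allBelow (fun k => fs3 (Nat.add (Nat.succ 181009) k)) 259 = true := by decide +kernel
theorem s3c587 : allBelow (fun k => fs3 (Nat.add (Nat.succ 181268) k)) 264 = true := by decide +kernel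
theorem s3c588 : allBelow (fun k => fs3 (Nat.add (Nat.succ 181532) k)) 267 = true := by decide +kernel
theorem s3c589 : allBelow (fun k => fs3 (Nat.add (Nat.succ 181799) k)) 262 = true := by decide +kernel
theorem s3c590 : allBelow (fun k => fs3 (Nat.add (Nat.succ 182061) k)) 265 = true := by decide +kernel
theorem s3c591 : allBelow (fun k => fs3 (Nat.add (Nat.succ 182326) k)) 276 = true := by decide +kernel
theorem s3c592 : allBelow (fun k => fs3 (Nat.add (Nat.succ 182602) k)) 258 = true := by decide +kernel
theorem s3c593 : allBelow (fun k => fs3 (Nat.add (Nat.succ 182860) k)) 261 = true := by decide +kernel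
theorem s3c594 : allBelow (fun k => fs3 (Nat.add (Nat.succ 183121) k)) 262 = true := by decide +kernel
theorem s3c595 : allBelow (fun k => fs3 (Nat.add (Nat.succ 183383) k)) 258 = true := by decide +kernel
theorem s3c596 : allBelow (fun k => fs3 (Nat.add (Nat.succ 183641) k)) 267 = true := by decide +kernel
theorem s3c597 : allBelow (fun k => fs3 (Nat.add (Nat.succ 183908) k)) 269 = true := by decide +kernel
theorem s3c598 : allBelow (fun k => fs3 (Nat.add (Nat.succ 184177) k)) 265 = true := by decide +kernel
theorem s3c599 : allBelow (fun k => fs3 (Nat.add (Nat.succ 184442) k)) 275 = true := by decide +kernel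
theorem s3c600 : allBelow (fun k => fs3 (Nat.add (Nat.succ 184717) k)) 271 = true := by decide +kernel
theorem s3c601 : allBelow (fun k => fs3 (Nat.add (Nat.succ 184988) k)) 267 = true := by decide +kernel
theorem s3c602 : allBelow (fun k => fs3 (Nat.add (Nat.succ 185255) k)) 276 = true := by decide +kernel
theorem s3c603 : allBelow (fun k => fs3 (Nat.add (Nat.succ 185531) k)) 254 = true := by decide +kernel
theorem s3c604 : allBelow (fun k => fs3 (Nat.add (Nat.succ 185785) k)) 272 = true := by decide +kernel
theorem s3c605 : allBelow (fun k => fs3 (Nat.add (Nat.succ 186057) k)) 247 = true := by decide +kernel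
theorem s3c606 : allBelow (fun k => fs3 (Nat.add (Nat.succ 186304) k)) 258 = true := by decide +kernel
theorem s3c607 : allBelow (fun k => fs3 (Nat.add (Nat.succ 186562) k)) 257 = true := by decide +kernel
theorem s3c608 : allBelow (fun k => fs3 (Nat.add (Nat.succ 186819) k)) 260 = true := by decide +kernel
theorem s3c609 : allBelow (fun k => fs3 (Nat.add (Nat.succ 187079) k)) 280 = true := by decide +kernel
theorem s3c610 : allBelow (fun k => fs3 (Nat.add (Nat.succ 187359) k)) 266 = true := by decide +kernel
theorem s3c611 : allBelow (fun k => fs3 (Nat.add (Nat.succ 187625) k)) 272 = true := by decide +kernel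
theorem s3c612 : allBelow (fun k => fs3 (Nat.add (Nat.succ 187897) k)) 268 = true := by decide +kernel
theorem s3c613 : allBelow (fun k => fs3 (Nat.add (Nat.succ 188165) k)) 271 = true := by decide +kernel
theorem s3c614 : allBelow (fun k => fs3 (Nat.add (Nat.succ 188436) k)) 280 = true := by decide +kernel
theorem s3c615 : allBelow (fun k => fs3 (Nat.add (Nat.succ 188716) k)) 270 = true := by decide +kernel
theorem s3c616 : allBelow (fun k => fs3 (Nat.add (Nat.succ 188986) k)) 260 = true := by decide +kernel
theorem s3c617 : allBelow (fun k => fs3 (Nat.add (Nat.succ 189246) k)) 270 = true := by decide +kernel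
theorem s3c618 : allBelow (fun k => fs3 (Nat.add (Nat.succ 189516) k)) 265 = true := by decide +kernel
theorem s3c619 : allBelow (fun k => fs3 (Nat.add (Nat.succ 189781) k)) 261 = true := by decide +kernel
theorem s3c620 : allBelow (fun k => fs3 (Nat.add (Nat.succ 190042) k)) 275 = true := by decide +kernel
theorem s3c621 : allBelow (fun k => fs3 (Nat.add (Nat.succ 190317) k)) 274 = true := by decide +kernel
theorem s3c622 : allBelow (fun k => fs3 (Nat.add (Nat.succ 190591) k)) 267 = true := by decide +kernel
theorem s3c623 : allBelow (fun k => fs3 (Nat.add (Nat.succ 190858) k)) 268 = true := by decide +kernel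
theorem s3c624 : allBelow (fun k => fs3 (Nat.add (Nat.succ 191126) k)) 282 = true := by decide +kernel
theorem s3c625 : allBelow (fun k => fs3 (Nat.add (Nat.succ 191408) k)) 269 = true := by decide +kernel
theorem s3c626 : allBelow (fun k => fs3 (Nat.add (Nat.succ 191677) k)) 257 = true := by decide +kernel
theorem s3c627 : allBelow (fun k => fs3 (Nat.add (Nat.succ 191934) k)) 261 = true := by decide +kernel
theorem s3c628 : allBelow (fun k => fs3 (Nat.add (Nat.succ 192195) k)) 264 = true := by decide +kernel
theorem s3c629 : allBelow (fun k => fs3 (Nat.add (Nat.succ 192459) k)) 266 = true := by decide +kernel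
theorem s3c630 : allBelow (fun k => fs3 (Nat.add (Nat.succ 192725) k)) 259 = true := by decide +kernel
theorem s3c631 : allBelow (fun k => fs3 (Nat.add (Nat.succ 192984) k)) 259 = true := by decide +kernel
theorem s3c632 : allBelow (fun k => fs3 (Nat.add (Nat.succ 193243) k)) 277 = true := by decide +kernel
theorem s3c633 : allBelow (fun k => fs3 (Nat.add (Nat.succ 193520) k)) 264 = true := by decide +kernel
theorem s3c634 : allBelow (fun k => fs3 (Nat.add (Nat.succ 193784) k)) 265 = true := by decide +kernel
theorem s3c635 : allBelow (fun k => fs3 (Nat.add (Nat.succ 194049) k)) 272 = true := by decide +kernel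
theorem s3c636 : allBelow (fun k => fs3 (Nat.add (Nat.succ 194321) k)) 265 = true := by decide +kernel
theorem s3c637 : allBelow (fun k => fs3 (Nat.add (Nat.succ 194586) k)) 273 = true := by decide +kernel
theorem s3c638 : allBelow (fun k => fs3 (Nat.add (Nat.succ 194859) k)) 266 = true := by decide +kernel
theorem s3c639 : allBelow (fun k => fs3 (Nat.add (Nat.succ 195125) k)) 290 = true := by decide +kernel
theorem s3c640 : allBelow (fun k => fs3 (Nat.add (Nat.succ 195415) k)) 271 = true := by decide +kernel
theorem s3c641 : allBelow (fun k => fs3 (Nat.add (Nat.succ 195686) k)) 273 = true := by decide +kernel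
theorem s3c642 : allBelow (fun k => fs3 (Nat.add (Nat.succ 195959) k)) 279 = true := by decide +kernel
theorem s3c643 : allBelow (fun k => fs3 (Nat.add (Nat.succ 196238) k)) 290 = true := by decide +kernel
theorem s3c644 : allBelow (fun k => fs3 (Nat.add (Nat.succ 196528) k)) 264 = true := by decide +kernel
theorem s3c645 : allBelow (fun k => fs3 (Nat.add (Nat.succ 196792) k)) 274 = true := by decide +kernel
theorem s3c646 : allBelow (fun k => fs3 (Nat.add (Nat.succ 197066) k)) 276 = true := by decide +kernel
theorem s3c647 : allBelow (fun k => fs3 (Nat.add (Nat.succ 197342) k)) 262 = true := by decide +kernel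
theorem s3c648 : allBelow (fun k => fs3 (Nat.add (Nat.succ 197604) k)) 263 = true := by decide +kernel
theorem s3c649 : allBelow (fun k => fs3 (Nat.add (Nat.succ 197867) k)) 274 = true := by decide +kernel
theorem s3c650 : allBelow (fun k => fs3 (Nat.add (Nat.succ 198141) k)) 273 = true := by decide +kernel
theorem s3c651 : allBelow (fun k => fs3 (Nat.add (Nat.succ 198414) k)) 247 = true := by decide +kernel
theorem s3c652 : allBelow (fun k => fs3 (Nat.add (Nat.succ 198661) k)) 254 = true := by decide +kernel
theorem s3c653 : allBelow (fun k => fs3 (Nat.add (Nat.succ 198915) k)) 262 = true := by decide +kernel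
theorem s3c654 : allBelow (fun k => fs3 (Nat.add (Nat.succ 199177) k)) 245 = true := by decide +kernel
theorem s3c655 : allBelow (fun k => fs3 (Nat.add (Nat.succ 199422) k)) 264 = true := by decide +kernel
theorem s3c656 : allBelow (fun k => fs3 (Nat.add (Nat.succ 199686) k)) 264 = true := by decide +kernel
theorem s3c657 : allBelow (fun k => fs3 (Nat.add (Nat.succ 199950) k)) 248 = true := by decide +kernel
theorem s3c658 : allBelow (fun k => fs3 (Nat.add (Nat.succ 200198) k)) 256 = true := by decide +kernel
theorem s3c659 : allBelow (fun k => fs3 (Nat.add (Nat.succ 200454) k)) 263 = true := by decide +kernel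
theorem s3c660 : allBelow (fun k => fs3 (Nat.add (Nat.succ 200717) k)) 259 = true := by decide +kernel
theorem s3c661 : allBelow (fun k => fs3 (Nat.add (Nat.succ 200976) k)) 261 = true := by decide +kernel
theorem s3c662 : allBelow (fun k => fs3 (Nat.add (Nat.succ 201237) k)) 264 = true := by decide +kernel
theorem s3c663 : allBelow (fun k => fs3 (Nat.add (Nat.succ 201501) k)) 256 = true := by decide +kernel
theorem s3c664 : allBelow (fun k => fs3 (Nat.add (Nat.succ 201757) k)) 268 = true := by decide +kernel
theorem s3c665 : allBelow (fun k => fs3 (Nat.add (Nat.succ 202025) k)) 254 = true := by decide +kernel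
theorem s3c666 : allBelow (fun k => fs3 (Nat.add (Nat.succ 202279) k)) 253 = true := by decide +kernel
theorem s3c667 : allBelow (fun k => fs3 (Nat.add (Nat.succ 202532) k)) 261 = true := by decide +kernel
theorem s3c668 : allBelow (fun k => fs3 (Nat.add (Nat.succ 202793) k)) 263 = true := by decide +kernel
theorem s3c669 : allBelow (fun k => fs3 (Nat.add (Nat.succ 203056) k)) 262 = true := by decide +kernel
theorem s3c670 : allBelow (fun k => fs3 (Nat.add (Nat.succ 203318) k)) 272 = true := by decide +kernel
theorem s3c671 : allBelow (fun k => fs3 (Nat.add (Nat.succ 203590) k)) 259 = true := by decide +kernel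
theorem s3c672 : allBelow (fun k => fs3 (Nat.add (Nat.succ 203849) k)) 269 = true := by decide +kernel
theorem s3c673 : allBelow (fun k => fs3 (Nat.add (Nat.succ 204118) k)) 266 = true := by decide +kernel
theorem s3c674 : allBelow (fun k => fs3 (Nat.add (Nat.succ 204384) k)) 257 = true := by decide +kernel

end Cfsg.Agent.Lib.Helper35.Fi24a
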