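import Cfsg.Agent.Lib.Helper35.Fi24a.Data

set_option Elab.async false

namespace Cfsg.Agent.Lib.Helper35.Fi24a

open Cfsg.Agent.Lib.Helper35

theorem s3c675 : allBelow (fun k => fs3 (Nat.add (Nat.succ 204641) k)) 263 = true := by decide +kernel
theorem s3c676 : allBelow (fun k => fs3 (Nat.add (Nat.succ 204904) k)) 257 = true := by decide +kernel
theorem s3c677 : allBelow (fun k => fs3 (Nat.add (Nat.succ 205161) k)) 264 = true := by decide +kernel
theorem s3c678 : allBelow (fun k => fs3 (Nat.add (Nat.succ 205425) k)) 263 = true := by decide +kernel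
theorem s3c679 : allBelow (fun k => fs3 (Nat.add (Nat.succ 205688) k)) 269 = true := by decide +kernel
theorem s3c680 : allBelow (fun k => fs3 (Nat.add (Nat.succ 205957) k)) 261 = true := by decide +kernel
theorem s3c681 : allBelow (fun k => fs3 (Nat.add (Nat.succ 206218) k)) 259 = true := by decide +kernel
theorem s3c682 : allBelow (fun k => fs3 (Nat.add (Nat.succ 206477) k)) 282 = true := by decide +kernel
theorem s3c683 : allBelow (fun k => fs3 (Nat.add (Nat.succ 206759) k)) 269 = true := by decide +kernel
theorem s3c684 : allBelow (fun k => fs3 (Nat.add (Nat.succ 207028) k)) 277 = true := by decide +kernel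
theorem s3c685 : allBelow (fun k => fs3 (Nat.add (Nat.succ 207305) k)) 271 = true := by decide +kernel
theorem s3c686 : allBelow (fun k => fs3 (Nat.add (Nat.succ 207576) k)) 257 = true := by decide +kernel
theorem s3c687 : allBelow (fun k => fs3 (Nat.add (Nat.succ 207833) k)) 269 = true := by decide +kernel
theorem s3c688 : allBelow (fun k => fs3 (Nat.add (Nat.succ 208102) k)) 247 = true := by decide +kernel
theorem s3c689 : allBelow (fun k => fs3 (Nat.add (Nat.succ 208349) k)) 253 = true := by decide +kernel
theorem s3c690 : allBelow (fun k => fs3 (Nat.add (Nat.succ 208602) k)) 260 = true := by decide +kernel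
theorem s3c691 : allBelow (fun k => fs3 (Nat.add (Nat.succ 208862) k)) 284 = true := by decide +kernel
theorem s3c692 : allBelow (fun k => fs3 (Nat.add (Nat.succ 209146) k)) 261 = true := by decide +kernel
theorem s3c693 : allBelow (fun k => fs3 (Nat.add (Nat.succ 209407) k)) 271 = true := by decide +kernel
theorem s3c694 : allBelow (fun k => fs3 (Nat.add (Nat.succ 209678) k)) 269 = true := by decide +kernel
theorem s3c695 : allBelow (fun k => fs3 (Nat.add (Nat.succ 209947) k)) 270 = true := by decide +kernel
theorem s3c696 : allBelow (fun k => fs3 (Nat.add (Nat.succ 210217) k)) 263 = true := by decide +kernel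
theorem s3c697 : allBelow (fun k => fs3 (Nat.add (Nat.succ 210480) k)) 292 = true := by decide +kernel
theorem s3c698 : allBelow (fun k => fs3 (Nat.add (Nat.succ 210772) k)) 264 = true := by decide +kernel
theorem s3c699 : allBelow (fun k => fs3 (Nat.add (Nat.succ 211036) k)) 257 = true := by decide +kernel
theorem s3c700 : allBelow (fun k => fs3 (Nat.add (Nat.succ 211293) k)) 271 = true := by decide +kernel
theorem s3c701 : allBelow (fun k => fs3 (Nat.add (Nat.succ 211564) k)) 265 = true := by decide +kernel
theorem s3c702 : allBelow (fun k => fs3 (Nat.add (Nat.succ 211829) k)) 267 = true := by decide +kernel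
theorem s3c703 : allBelow (fun k => fs3 (Nat.add (Nat.succ 212096) k)) 267 = true := by decide +kernel
theorem s3c704 : allBelow (fun k => fs3 (Nat.add (Nat.succ 212363) k)) 274 = true := by decide +kernel
theorem s3c705 : allBelow (fun k => fs3 (Nat.add (Nat.succ 212637) k)) 271 = true := by decide +kernel
theorem s3c706 : allBelow (fun k => fs3 (Nat.add (Nat.succ 212908) k)) 265 = true := by decide +kernel
theorem s3c707 : allBelow (fun k => fs3 (Nat.add (Nat.succ 213173) k)) 267 = true := by decide +kernel
theorem s3c708 : allBelow (fun k => fs3 (Nat.add (Nat.succ 213440) k)) 282 = true := by decide +kernel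
theorem s3c709 : allBelow (fun k => fs3 (Nat.add (Nat.succ 213722) k)) 266 = true := by decide +kernel
theorem s3c710 : allBelow (fun k => fs3 (Nat.add (Nat.succ 213988) k)) 269 = true := by decide +kernel
theorem s3c711 : allBelow (fun k => fs3 (Nat.add (Nat.succ 214257) k)) 256 = true := by decide +kernel
theorem s3c712 : allBelow (fun k => fs3 (Nat.add (Nat.succ 214513) k)) 257 = true := by decide +kernel
theorem s3c713 : allBelow (fun k => fs3 (Nat.add (Nat.succ 214770) k)) 268 = true := by decide +kernel
theorem s3c714 : allBelow (fun k => fs3 (Nat.add (Nat.succ 215038) k)) 264 = true := by decide +kernel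
theorem s3c715 : allBelow (fun k => fs3 (Nat.add (Nat.succ 215302) k)) 265 = true := by decide +kernel
theorem s3c716 : allBelow (fun k => fs3 (Nat.add (Nat.succ 215567) k)) 262 = true := by decide +kernel
theorem s3c717 : allBelow (fun k => fs3 (Nat.add (Nat.succ 215829) k)) 279 = true := by decide +kernel
theorem s3c718 : allBelow (fun k => fs3 (Nat.add (Nat.succ 216108) k)) 263 = true := by decide +kernel
theorem s3c719 : allBelow (fun k => fs3 (Nat.add (Nat.succ 216371) k)) 264 = true := by decide +kernel
theorem s3c720 : allBelow (fun k => fs3 (Nat.add (Nat.succ 216635) k)) 255 = true := by decide +kernel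
theorem s3c721 : allBelow (fun k => fs3 (Nat.add (Nat.succ 216890) k)) 280 = true := by decide +kernel
theorem s3c722 : allBelow (fun k => fs3 (Nat.add (Nat.succ 217170) k)) 268 = true := by decide +kernel
theorem s3c723 : allBelow (fun k => fs3 (Nat.add (Nat.succ 217438) k)) 273 = true := by decide +kernel
theorem s3c724 : allBelow (fun k => fs3 (Nat.add (Nat.succ 217711) k)) 263 = true := by decide +kernel
theorem s3c725 : allBelow (fun k => fs3 (Nat.add (Nat.succ 217974) k)) 294 = true := by decide +kernel
theorem s3c726 : allBelow (fun k => fs3 (Nat.add (Nat.succ 218268) k)) 270 = true := by decide +kernel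
theorem s3c727 : allBelow (fun k => fs3 (Nat.add (Nat.succ 218538) k)) 271 = true := by decide +kernel
theorem s3c728 : allBelow (fun k => fs3 (Nat.add (Nat.succ 218809) k)) 285 = true := by decide +kernel
theorem s3c729 : allBelow (fun k => fs3 (Nat.add (Nat.succ 219094) k)) 272 = true := by decide +kernel
theorem s3c730 : allBelow (fun k => fs3 (Nat.add (Nat.succ 219366) k)) 275 = true := by decide +kernel
theorem s3c731 : allBelow (fun k => fs3 (Nat.add (Nat.succ 219641) k)) 267 = true := by decide +kernel
theorem s3c732 : allBelow (fun k => fs3 (Nat.add (Nat.succ 219908) k)) 277 = true := by decide +kernel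
theorem s3c733 : allBelow (fun k => fs3 (Nat.add (Nat.succ 220185) k)) 273 = true := by decide +kernel
theorem s3c734 : allBelow (fun k => fs3 (Nat.add (Nat.succ 220458) k)) 263 = true := by decide +kernel
theorem s3c735 : allBelow (fun k => fs3 (Nat.add (Nat.succ 220721) k)) 271 = true := by decide +kernel
theorem s3c736 : allBelow (fun k => fs3 (Nat.add (Nat.succ 220992) k)) 277 = true := by decide +kernel
theorem s3c737 : allBelow (fun k => fs3 (Nat.add (Nat.succ 221269) k)) 258 = true := by decide +kernel
theorem s3c738 : allBelow (fun k => fs3 (Nat.add (Nat.succ 221527) k)) 248 = true := by decide +kernel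
theorem s3c739 : allBelow (fun k => fs3 (Nat.add (Nat.succ 221775) k)) 252 = true := by decide +kernel
theorem s3c740 : allBelow (fun k => fs3 (Nat.add (Nat.succ 222027) k)) 261 = true := by decide +kernel
theorem s3c741 : allBelow (fun k => fs3 (Nat.add (Nat.succ 222288) k)) 262 = true := by decide +kernel
theorem s3c742 : allBelow (fun k => fs3 (Nat.add (Nat.succ 222550) k)) 266 = true := by decide +kernel
theorem s3c743 : allBelow (fun k => fs3 (Nat.add (Nat.succ 222816) k)) 257 = true := by decide +kernel
theorem s3c744 : allBelow (fun k => fs3 (Nat.add (Nat.succ 223073) k)) 257 = true := by decide +kernel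
theorem s3c745 : allBelow (fun k => fs3 (Nat.add (Nat.succ 223330) k)) 256 = true := by decide +kernel
theorem s3c746 : allBelow (fun k => fs3 (Nat.add (Nat.succ 223586) k)) 257 = true := by decide +kernel
theorem s3c747 : allBelow (fun k => fs3 (Nat.add (Nat.succ 223843) k)) 261 = true := by decide +kernel
theorem s3c748 : allBelow (fun k => fs3 (Nat.add (Nat.succ 224104) k)) 266 = true := by decide +kernel
theorem s3c749 : allBelow (fun k => fs3 (Nat.add (Nat.succ 224370) k)) 246 = true := by decide +kernel
theorem s3c750 : allBelow (fun k => fs3 (Nat.add (Nat.succ 224616) k)) 268 = true := by decide +kernel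
theorem s3c751 : allBelow (fun k => fs3 (Nat.add (Nat.succ 224884) k)) 253 = true := by decide +kernel
theorem s3c752 : allBelow (fun k => fs3 (Nat.add (Nat.succ 225137) k)) 252 = true := by decide +kernel
theorem s3c753 : allBelow (fun k => fs3 (Nat.add (Nat.succ 225389) k)) 259 = true := by decide +kernel
theorem s3c754 : allBelow (fun k => fs3 (Nat.add (Nat.succ 225648) k)) 255 = true := by decide +kernel
theorem s3c755 : allBelow (fun k => fs3 (Nat.add (Nat.succ 225903) k)) 260 = true := by decide +kernel
theorem s3c756 : allBelow (fun k => fs3 (Nat.add (Nat.succ 226163) k)) 261 = true := by decide +kernel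
theorem s3c757 : allBelow (fun k => fs3 (Nat.add (Nat.succ 226424) k)) 271 = true := by decide +kernel
theorem s3c758 : allBelow (fun k => fs3 (Nat.add (Nat.succ 226695) k)) 261 = true := by decide +kernel
theorem s3c759 : allBelow (fun k => fs3 (Nat.add (Nat.succ 226956) k)) 267 = true := by decide +kernel
theorem s3c760 : allBelow (fun k => fs3 (Nat.add (Nat.succ 227223) k)) 274 = true := by decide +kernel
theorem s3c761 : allBelow (fun k => fs3 (Nat.add (Nat.succ 227497) k)) 260 = true := by decide +kernel
theorem s3c762 : allBelow (fun k => fs3 (Nat.add (Nat.succ 227757) k)) 258 = true := by decide +kernel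
theorem s3c763 : allBelow (fun k => fs3 (Nat.add (Nat.succ 228015) k)) 260 = true := by decide +kernel
theorem s3c764 : allBelow (fun k => fs3 (Nat.add (Nat.succ 228275) k)) 257 = true := by decide +kernel
theorem s3c765 : allBelow (fun k => fs3 (Nat.add (Nat.succ 228532) k)) 269 = true := by decide +kernel
theorem s3c766 : allBelow (fun k => fs3 (Nat.add (Nat.succ 228801) k)) 254 = true := by decide +kernel
theorem s3c767 : allBelow (fun k => fs3 (Nat.add (Nat.succ 229055) k)) 266 = true := by decide +kernel
theorem s3c768 : allBelow (fun k => fs3 (Nat.add (Nat.succ 229321) k)) 261 = true := by decide +kernel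
theorem s3c769 : allBelow (fun k => fs3 (Nat.add (Nat.succ 229582) k)) 259 = true := by decide +kernel
theorem s3c770 : allBelow (fun k => fs3 (Nat.add (Nat.succ 229841) k)) 278 = true := by decide +kernel
theorem s3c771 : allBelow (fun k => fs3 (Nat.add (Nat.succ 230119) k)) 266 = true := by decide +kernel
theorem s3c772 : allBelow (fun k => fs3 (Nat.add (Nat.succ 230385) k)) 268 = true := by decide +kernel
theorem s3c773 : allBelow (fun k => fs3 (Nat.add (Nat.succ 230653) k)) 278 = true := by decide +kernel
theorem s3c774 : allBelow (fun k => fs3 (Nat.add (Nat.succ 230931) k)) 257 = true := by decide +kernel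
theorem s3c775 : allBelow (fun k => fs3 (Nat.add (Nat.succ 231188) k)) 265 = true := by decide +kernel
theorem s3c776 : allBelow (fun k => fs3 (Nat.add (Nat.succ 231453) k)) 258 = true := by decide +kernel
theorem s3c777 : allBelow (fun k => fs3 (Nat.add (Nat.succ 231711) k)) 258 = true := by decide +kernel
theorem s3c778 : allBelow (fun k => fs3 (Nat.add (Nat.succ 231969) k)) 254 = true := by decide +kernel
theorem s3c779 : allBelow (fun k => fs3 (Nat.add (Nat.succ 232223) k)) 274 = true := by decide +kernel
theorem s3c780 : allBelow (fun k => fs3 (Nat.add (Nat.succ 232497) k)) 271 = true := by decide +kernel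
theorem s3c781 : allBelow (fun k => fs3 (Nat.add (Nat.succ 232768) k)) 277 = true := by decide +kernel
theorem s3c782 : allBelow (fun k => fs3 (Nat.add (Nat.succ 233045) k)) 266 = true := by decide +kernel
theorem s3c783 : allBelow (fun k => fs3 (Nat.add (Nat.succ 233311) k)) 269 = true := by decide +kernel
theorem s3c784 : allBelow (fun k => fs3 (Nat.add (Nat.succ 233580) k)) 270 = true := by decide +kernel
theorem s3c785 : allBelow (fun k => fs3 (Nat.add (Nat.succ 233850) k)) 269 = true := by decide +kernel
theorem s3c786 : allBelow (fun k => fs3 (Nat.add (Nat.succ 234119) k)) 279 = true := by decide +kernel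
theorem s3c787 : allBelow (fun k => fs3 (Nat.add (Nat.succ 234398) k)) 256 = true := by decide +kernel
theorem s3c788 : allBelow (fun k => fs3 (Nat.add (Nat.succ 234654) k)) 257 = true := by decide +kernel
theorem s3c789 : allBelow (fun k => fs3 (Nat.add (Nat.succ 234911) k)) 270 = true := by decide +kernel
theorem s3c790 : allBelow (fun k => fs3 (Nat.add (Nat.succ 235181) k)) 272 = true := by decide +kernel
theorem s3c791 : allBelow (fun k => fs3 (Nat.add (Nat.succ 235453) k)) 266 = true := by decide +kernel
theorem s3c792 : allBelow (fun k => fs3 (Nat.add (Nat.succ 235719) k)) 267 = true := by decide +kernel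
theorem s3c793 : allBelow (fun k => fs3 (Nat.add (Nat.succ 235986) k)) 266 = true := by decide +kernel
theorem s3c794 : allBelow (fun k => fs3 (Nat.add (Nat.succ 236252) k)) 283 = true := by decide +kernel
theorem s3c795 : allBelow (fun k => fs3 (Nat.add (Nat.succ 236535) k)) 262 = true := by decide +kernel
theorem s3c796 : allBelow (fun k => fs3 (Nat.add (Nat.succ 236797) k)) 270 = true := by decide +kernel
theorem s3c797 : allBelow (fun k => fs3 (Nat.add (Nat.succ 237067) k)) 265 = true := by decide +kernel
theorem s3c798 : allBelow (fun k => fs3 (Nat.add (Nat.succ 237332) k)) 282 = true := by decide +kernel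
theorem s3c799 : allBelow (fun k => fs3 (Nat.add (Nat.succ 237614) k)) 268 = true := by decide +kernel
theorem s3c800 : allBelow (fun k => fs3 (Nat.add (Nat.succ 237882) k)) 271 = true := by decide +kernel
theorem s3c801 : allBelow (fun k => fs3 (Nat.add (Nat.succ 238153) k)) 261 = true := by decide +kernel
theorem s3c802 : allBelow (fun k => fs3 (Nat.add (Nat.succ 238414) k)) 252 = true := by decide +kernel
theorem s3c803 : allBelow (fun k => fs3 (Nat.add (Nat.succ 238666) k)) 272 = true := by decide +kernel
theorem s3c804 : allBelow (fun k => fs3 (Nat.add (Nat.succ 238938) k)) 265 = true := by decide +kernel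
theorem s3c805 : allBelow (fun k => fs3 (Nat.add (Nat.succ 239203) k)) 267 = true := by decide +kernel
theorem s3c806 : allBelow (fun k => fs3 (Nat.add (Nat.succ 239470) k)) 265 = true := by decide +kernel
theorem s3c807 : allBelow (fun k => fs3 (Nat.add (Nat.succ 239735) k)) 260 = true := by decide +kernel
theorem s3c808 : allBelow (fun k => fs3 (Nat.add (Nat.succ 239995) k)) 284 = true := by decide +kernel
theorem s3c809 : allBelow (fun k => fs3 (Nat.add (Nat.succ 240279) k)) 265 = true := by decide +kernel
theorem s3c810 : allBelow (fun k => fs3 (Nat.add (Nat.succ 240544) k)) 261 = true := by decide +kernel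
theorem s3c811 : allBelow (fun k => fs3 (Nat.add (Nat.succ 240805) k)) 254 = true := by decide +kernel
theorem s3c812 : allBelow (fun k => fs3 (Nat.add (Nat.succ 241059) k)) 280 = true := by decide +kernel
theorem s3c813 : allBelow (fun k => fs3 (Nat.add (Nat.succ 241339) k)) 265 = true := by decide +kernel
theorem s3c814 : allBelow (fun k => fs3 (Nat.add (Nat.succ 241604) k)) 275 = true := by decide +kernel
theorem s3c815 : allBelow (fun k => fs3 (Nat.add (Nat.succ 241879) k)) 277 = true := by decide +kernel
theorem s3c816 : allBelow (fun k => fs3 (Nat.add (Nat.succ 242156) k)) 267 = true := by decide +kernel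
theorem s3c817 : allBelow (fun k => fs3 (Nat.add (Nat.succ 242423) k)) 285 = true := by decide +kernel
theorem s3c818 : allBelow (fun k => fs3 (Nat.add (Nat.succ 242708) k)) 266 = true := by decide +kernel
theorem s3c819 : allBelow (fun k => fs3 (Nat.add (Nat.succ 242974) k)) 274 = true := by decide +kernel
theorem s3c820 : allBelow (fun k => fs3 (Nat.add (Nat.succ 243248) k)) 282 = true := by decide +kernel
theorem s3c821 : allBelow (fun k => fs3 (Nat.add (Nat.succ 243530) k)) 279 = true := by decide +kernel
theorem s3c822 : allBelow (fun k => fs3 (Nat.add (Nat.succ 243809) k)) 266 = true := by decide +kernel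
theorem s3c823 : allBelow (fun k => fs3 (Nat.add (Nat.succ 244075) k)) 268 = true := by decide +kernel
theorem s3c824 : allBelow (fun k => fs3 (Nat.add (Nat.succ 244343) k)) 277 = true := by decide +kernel
theorem s3c825 : allBelow (fun k => fs3 (Nat.add (Nat.succ 244620) k)) 269 = true := by decide +kernel
theorem s3c826 : allBelow (fun k => fs3 (Nat.add (Nat.succ 244889) k)) 274 = true := by decide +kernel
theorem s3c827 : allBelow (fun k => fs3 (Nat.add (Nat.succ 245163) k)) 273 = true := by decide +kernel
theorem s3c828 : allBelow (fun k => fs3 (Nat.add (Nat.succ 245436) k)) 280 = true := by decide +kernel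
theorem s3c829 : allBelow (fun k => fs3 (Nat.add (Nat.succ 245716) k)) 254 = true := by decide +kernel
theorem s3c830 : allBelow (fun k => fs3 (Nat.add (Nat.succ 245970) k)) 252 = true := by decide +kernel
theorem s3c831 : allBelow (fun k => fs3 (Nat.add (Nat.succ 246222) k)) 269 = true := by decide +kernel
theorem s3c832 : allBelow (fun k => fs3 (Nat.add (Nat.succ 246491) k)) 272 = true := by decide +kernel
theorem s3c833 : allBelow (fun k => fs3 (Nat.add (Nat.succ 246763) k)) 274 = true := by decide +kernel
theorem s3c834 : allBelow (fun k => fs3 (Nat.add (Nat.succ 247037) k)) 252 = true := by decide +kernel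
theorem s3c835 : allBelow (fun k => fs3 (Nat.add (Nat.succ 247289) k)) 258 = true := by decide +kernel
theorem s3c836 : allBelow (fun k => fs3 (Nat.add (Nat.succ 247547) k)) 259 = true := by decide +kernel
theorem s3c837 : allBelow (fun k => fs3 (Nat.add (Nat.succ 247806) k)) 251 = true := by decide +kernel
theorem s3c838 : allBelow (fun k => fs3 (Nat.add (Nat.succ 248057) k)) 259 = true := by decide +kernel
theorem s3c839 : allBelow (fun k => fs3 (Nat.add (Nat.succ 248316) k)) 254 = true := by decide +kernel
theorem s3c840 : allBelow (fun k => fs3 (Nat.add (Nat.succ 248570) k)) 257 = true := by decide +kernel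
theorem s3c841 : allBelow (fun k => fs3 (Nat.add (Nat.succ 248827) k)) 251 = true := by decide +kernel
theorem s3c842 : allBelow (fun k => fs3 (Nat.add (Nat.succ 249078) k)) 262 = true := by decide +kernel
theorem s3c843 : allBelow (fun k => fs3 (Nat.add (Nat.succ 249340) k)) 251 = true := by decide +kernel
theorem s3c844 : allBelow (fun k => fs3 (Nat.add (Nat.succ 249591) k)) 249 = true := by decide +kernel
theorem s3c845 : allBelow (fun k => fs3 (Nat.add (Nat.succ 249840) k)) 260 = true := by decide +kernel
theorem s3c846 : allBelow (fun k => fs3 (Nat.add (Nat.succ 250100) k)) 253 = true := by decide +kernel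
theorem s3c847 : allBelow (fun k => fs3 (Nat.add (Nat.succ 250353) k)) 259 = true := by decide +kernel
theorem s3c848 : allBelow (fun k => fs3 (Nat.add (Nat.succ 250612) k)) 256 = true := by decide +kernel
theorem s3c849 : allBelow (fun k => fs3 (Nat.add (Nat.succ 250868) k)) 263 = true := by decide +kernel
theorem s3c850 : allBelow (fun k => fs3 (Nat.add (Nat.succ 251131) k)) 269 = true := by decide +kernel
theorem s3c851 : allBelow (fun k => fs3 (Nat.add (Nat.succ 251400) k)) 262 = true := by decide +kernel
theorem s3c852 : allBelow (fun k => fs3 (Nat.add (Nat.succ 251662) k)) 268 = true := by decide +kernel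
theorem s3c853 : allBelow (fun k => fs3 (Nat.add (Nat.succ 251930) k)) 276 = true := by decide +kernel
theorem s3c854 : allBelow (fun k => fs3 (Nat.add (Nat.succ 252206) k)) 254 = true := by decide +kernel
theorem s3c855 : allBelow (fun k => fs3 (Nat.add (Nat.succ 252460) k)) 254 = true := by decide +kernel
theorem s3c856 : allBelow (fun k => fs3 (Nat.add (Nat.succ 252714) k)) 260 = true := by decide +kernel
theorem s3c857 : allBelow (fun k => fs3 (Nat.add (Nat.succ 252974) k)) 254 = true := by decide +kernel
theorem s3c858 : allBelow (fun k => fs3 (Nat.add (Nat.succ 253228) k)) 273 = true := by decide +kernel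
theorem s3c859 : allBelow (fun k => fs3 (Nat.add (Nat.succ 253501) k)) 252 = true := by decide +kernel
theorem s3c860 : allBelow (fun k => fs3 (Nat.add (Nat.succ 253753) k)) 263 = true := by decide +kernel
theorem s3c861 : allBelow (fun k => fs3 (Nat.add (Nat.succ 254016) k)) 256 = true := by decide +kernel
theorem s3c862 : allBelow (fun k => fs3 (Nat.add (Nat.succ 254272) k)) 264 = true := by decide +kernel
theorem s3c863 : allBelow (fun k => fs3 (Nat.add (Nat.succ 254536) k)) 250 = true := by decide +kernel
theorem s3c864 : allBelow (fun k => fs3 (Nat.add (Nat.succ 254786) k)) 282 = true := by decide +kernel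
theorem s3c865 : allBelow (fun k => fs3 (Nat.add (Nat.succ 255068) k)) 275 = true := by decide +kernel
theorem s3c866 : allBelow (fun k => fs3 (Nat.add (Nat.succ 255343) k)) 270 = true := by decide +kernel
theorem s3c867 : allBelow (fun k => fs3 (Nat.add (Nat.succ 255613) k)) 268 = true := by decide +kernel
theorem s3c868 : allBelow (fun k => fs3 (Nat.add (Nat.succ 255881) k)) 254 = true := by decide +kernel
theorem s3c869 : allBelow (fun k => fs3 (Nat.add (Nat.succ 256135) k)) 274 = true := by decide +kernel
theorem s3c870 : allBelow (fun k => fs3 (Nat.add (Nat.succ 256409) k)) 260 = true := by decide +kernel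
theorem s3c871 : allBelow (fun k => fs3 (Nat.add (Nat.succ 256669) k)) 251 = true := by decide +kernel
theorem s3c872 : allBelow (fun k => fs3 (Nat.add (Nat.succ 256920) k)) 263 = true := by decide +kernel
theorem s3c873 : allBelow (fun k => fs3 (Nat.add (Nat.succ 257183) k)) 285 = true := by decide +kernel
theorem s3c874 : allBelow (fun k => fs3 (Nat.add (Nat.succ 257468) k)) 273 = true := by decide +kernel
theorem s3c875 : allBelow (fun k => fs3 (Nat.add (Nat.succ 257741) k)) 270 = true := by decide +kernel
theorem s3c876 : allBelow (fun k => fs3 (Nat.add (Nat.succ 258011) k)) 268 = true := by decide +kernel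
theorem s3c877 : allBelow (fun k => fs3 (Nat.add (Nat.succ 258279) k)) 268 = true := by decide +kernel
theorem s3c878 : allBelow (fun k => fs3 (Nat.add (Nat.succ 258547) k)) 266 = true := by decide +kernel
theorem s3c879 : allBelow (fun k => fs3 (Nat.add (Nat.succ 258813) k)) 276 = true := by decide +kernel
theorem s3c880 : allBelow (fun k => fs3 (Nat.add (Nat.succ 259089) k)) 258 = true := by decide +kernel
theorem s3c881 : allBelow (fun k => fs3 (Nat.add (Nat.succ 259347) k)) 262 = true := by decide +kernel
theorem s3c882 : allBelow (fun k => fs3 (Nat.add (Nat.succ 259609) k)) 251 = true := by decide +kernel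
theorem s3c883 : allBelow (fun k => fs3 (Nat.add (Nat.succ 259860) k)) 274 = true := by decide +kernel
theorem s3c884 : allBelow (fun k => fs3 (Nat.add (Nat.succ 260134) k)) 274 = true := by decide +kernel
theorem s3c885 : allBelow (fun k => fs3 (Nat.add (Nat.succ 260408) k)) 271 = true := by decide +kernel
theorem s3c886 : allBelow (fun k => fs3 (Nat.add (Nat.succ 260679) k)) 262 = true := by decide +kernel
theorem s3c887 : allBelow (fun k => fs3 (Nat.add (Nat.succ 260941) k)) 272 = true := by decide +kernel
theorem s3c888 : allBelow (fun k => fs3 (Nat.add (Nat.succ 261213) k)) 258 = true := by decide +kernel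
theorem s3c889 : allBelow (fun k => fs3 (Nat.add (Nat.succ 261471) k)) 281 = true := by decide +kernel
theorem s3c890 : allBelow (fun k => fs3 (Nat.add (Nat.succ 261752) k)) 265 = true := by decide +kernel
theorem s3c891 : allBelow (fun k => fs3 (Nat.add (Nat.succ 262017) k)) 273 = true := by decide +kernel
theorem s3c892 : allBelow (fun k => fs3 (Nat.add (Nat.succ 262290) k)) 265 = true := by decide +kernel
theorem s3c893 : allBelow (fun k => fs3 (Nat.add (Nat.succ 262555) k)) 270 = true := by decide +kernel
theorem s3c894 : allBelow (fun k => fs3 (Nat.add (Nat.succ 262825) k)) 274 = true := by decide +kernel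
theorem s3c895 : allBelow (fun k => fs3 (Nat.add (Nat.succ 263099) k)) 255 = true := by decide +kernel
theorem s3c896 : allBelow (fun k => fs3 (Nat.add (Nat.succ 263354) k)) 270 = true := by decide +kernel
theorem s3c897 : allBelow (fun k => fs3 (Nat.add (Nat.succ 263624) k)) 254 = true := by decide +kernel
theorem s3c898 : allBelow (fun k => fs3 (Nat.add (Nat.succ 263878) k)) 266 = true := by decide +kernel
theorem s3c899 : allBelow (fun k => fs3 (Nat.add (Nat.succ 264144) k)) 267 = true := by decide +kernel
theorem s3c900 : allBelow (fun k => fs3 (Nat.add (Nat.succ 264411) k)) 266 = true := by decide +kernel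
theorem s3c901 : allBelow (fun k => fs3 (Nat.add (Nat.succ 264677) k)) 265 = true := by decide +kernel
theorem s3c902 : allBelow (fun k => fs3 (Nat.add (Nat.succ 264942) k)) 269 = true := by decide +kernel
theorem s3c903 : allBelow (fun k => fs3 (Nat.add (Nat.succ 265211) k)) 266 = true := by decide +kernel
theorem s3c904 : allBelow (fun k => fs3 (Nat.add (Nat.succ 265477) k)) 267 = true := by decide +kernel
theorem s3c905 : allBelow (fun k => fs3 (Nat.add (Nat.succ 265744) k)) 262 = true := by decide +kernel
theorem s3c906 : allBelow (fun k => fs3 (Nat.add (Nat.succ 266006) k)) 263 = true := by decide +kernel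
theorem s3c907 : allBelow (fun k => fs3 (Nat.add (Nat.succ 266269) k)) 259 = true := by decide +kernel
theorem s3c908 : allBelow (fun k => fs3 (Nat.add (Nat.succ 266528) k)) 270 = true := by decide +kernel
theorem s3c909 : allBelow (fun k => fs3 (Nat.add (Nat.succ 266798) k)) 261 = true := by decide +kernel
theorem s3c910 : allBelow (fun k => fs3 (Nat.add (Nat.succ 267059) k)) 274 = true := by decide +kernel
theorem s3c911 : allBelow (fun k => fs3 (Nat.add (Nat.succ 267333) k)) 282 = true := by decide +kernel
theorem s3c912 : allBelow (fun k => fs3 (Nat.add (Nat.succ 267615) k)) 258 = true := by decide +kernel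
theorem s3c913 : allBelow (fun k => fs3 (Nat.add (Nat.succ 267873) k)) 289 = true := by decide +kernel
theorem s3c914 : allBelow (fun k => fs3 (Nat.add (Nat.succ 268162) k)) 263 = true := by decide +kernel
theorem s3c915 : allBelow (fun k => fs3 (Nat.add (Nat.succ 268425) k)) 274 = true := by decide +kernel
theorem s3c916 : allBelow (fun k => fs3 (Nat.add (Nat.succ 268699) k)) 283 = true := by decide +kernel
theorem s3c917 : allBelow (fun k => fs3 (Nat.add (Nat.succ 268982) k)) 273 = true := by decide +kernel
theorem s3c918 : allBelow (fun k => fs3 (Nat.add (Nat.succ 269255) k)) 265 = true := by decide +kernel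
theorem s3c919 : allBelow (fun k => fs3 (Nat.add (Nat.succ 269520) k)) 271 = true := by decide +kernel
theorem s3c920 : allBelow (fun k => fs3 (Nat.add (Nat.succ 269791) k)) 280 = true := by decide +kernel
theorem s3c921 : allBelow (fun k => fs3 (Nat.add (Nat.succ 270071) k)) 270 = true := by decide +kernel
theorem s3c922 : allBelow (fun k => fs3 (Nat.add (Nat.succ 270341) k)) 271 = true := by decide +kernel
theorem s3c923 : allBelow (fun k => fs3 (Nat.add (Nat.succ 270612) k)) 271 = true := by decide +kernel
theorem s3c924 : allBelow (fun k => fs3 (Nat.add (Nat.succ 270883) k)) 278 = true := by decide +kernel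
theorem s3c925 : allBelow (fun k => fs3 (Nat.add (Nat.succ 271161) k)) 252 = true := by decide +kernel
theorem s3c926 : allBelow (fun k => fs3 (Nat.add (Nat.succ 271413) k)) 274 = true := by decide +kernel
theorem s3c927 : allBelow (fun k => fs3 (Nat.add (Nat.succ 271687) k)) 287 = true := by decide +kernel
theorem s3c928 : allBelow (fun k => fs3 (Nat.add (Nat.succ 271974) k)) 276 = true := by decide +kernel
theorem s3c929 : allBelow (fun k => fs3 (Nat.add (Nat.succ 272250) k)) 249 = true := by decide +kernel
theorem s3c930 : allBelow (fun k => fs3 (Nat.add (Nat.succ 272499) k)) 257 = true := by decide +kernel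
theorem s3c931 : allBelow (fun k => fs3 (Nat.add (Nat.succ 272756) k)) 255 = true := by decide +kernel
theorem s3c932 : allBelow (fun k => fs3 (Nat.add (Nat.succ 273011) k)) 255 = true := by decide +kernel
theorem s3c933 : allBelow (fun k => fs3 (Nat.add (Nat.succ 273266) k)) 253 = true := by decide +kernel
theorem s3c934 : allBelow (fun k => fs3 (Nat.add (Nat.succ 273519) k)) 256 = true := by decide +kernel
theorem s3c935 : allBelow (fun k => fs3 (Nat.add (Nat.succ 273775) k)) 251 = true := by decide +kernel
theorem s3c936 : allBelow (fun k => fs3 (Nat.add (Nat.succ 274026) k)) 250 = true := by decide +kernel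
theorem s3c937 : allBelow (fun k => fs3 (Nat.add (Nat.succ 274276) k)) 250 = true := by decide +kernel
theorem s3c938 : allBelow (fun k => fs3 (Nat.add (Nat.succ 274526) k)) 255 = true := by decide +kernel
theorem s3c939 : allBelow (fun k => fs3 (Nat.add (Nat.succ 274781) k)) 250 = true := by decide +kernel
theorem s3c940 : allBelow (fun k => fs3 (Nat.add (Nat.succ 275031) k)) 243 = true := by decide +kernel
theorem s3c941 : allBelow (fun k => fs3 (Nat.add (Nat.succ 275274) k)) 261 = true := by decide +kernel
theorem s3c942 : allBelow (fun k => fs3 (Nat.add (Nat.succ 275535) k)) 249 = true := by decide +kernel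
theorem s3c943 : allBelow (fun k => fs3 (Nat.add (Nat.succ 275784) k)) 258 = true := by decide +kernel
theorem s3c944 : allBelow (fun k => fs3 (Nat.add (Nat.succ 276042) k)) 253 = true := by decide +kernel
theorem s3c945 : allBelow (fun k => fs3 (Nat.add (Nat.succ 276295) k)) 264 = true := by decide +kernel
theorem s3c946 : allBelow (fun k => fs3 (Nat.add (Nat.succ 276559) k)) 255 = true := by decide +kernel
theorem s3c947 : allBelow (fun k => fs3 (Nat.add (Nat.succ 276814) k)) 273 = true := by decide +kernel
theorem s3c948 : allBelow (fun k => fs3 (Nat.add (Nat.succ 277087) k)) 262 = true := by decide +kernel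
theorem s3c949 : allBelow (fun k => fs3 (Nat.add (Nat.succ 277349) k)) 262 = true := by decide +kernel
theorem s3c950 : allBelow (fun k => fs3 (Nat.add (Nat.succ 277611) k)) 273 = true := by decide +kernel
theorem s3c951 : allBelow (fun k => fs3 (Nat.add (Nat.succ 277884) k)) 255 = true := by decide +kernel
theorem s3c952 : allBelow (fun k => fs3 (Nat.add (Nat.succ 278139) k)) 254 = true := by decide +kernel
theorem s3c953 : allBelow (fun k => fs3 (Nat.add (Nat.succ 278393) k)) 251 = true := by decide +kernel
theorem s3c954 : allBelow (fun k => fs3 (Nat.add (Nat.succ 278644) k)) 256 = true := by decide +kernel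
theorem s3c955 : allBelow (fun k => fs3 (Nat.add (Nat.succ 278900) k)) 269 = true := by decide +kernel
theorem s3c956 : allBelow (fun k => fs3 (Nat.add (Nat.succ 279169) k)) 243 = true := by decide +kernel
theorem s3c957 : allBelow (fun k => fs3 (Nat.add (Nat.succ 279412) k)) 258 = true := by decide +kernel
theorem s3c958 : allBelow (fun k => fs3 (Nat.add (Nat.succ 279670) k)) 260 = true := by decide +kernel
theorem s3c959 : allBelow (fun k => fs3 (Nat.add (Nat.succ 279930) k)) 260 = true := by decide +kernel
theorem s3c960 : allBelow (fun k => fs3 (Nat.add (Nat.succ 280190) k)) 252 = true := by decide +kernel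
theorem s3c961 : allBelow (fun k => fs3 (Nat.add (Nat.succ 280442) k)) 280 = true := by decide +kernel
theorem s3c962 : allBelow (fun k => fs3 (Nat.add (Nat.succ 280722) k)) 279 = true := by decide +kernel
theorem s3c963 : allBelow (fun k => fs3 (Nat.add (Nat.succ 281001) k)) 272 = true := by decide +kernel
theorem s3c964 : allBelow (fun k => fs3 (Nat.add (Nat.succ 281273) k)) 258 = true := by decide +kernel
theorem s3c965 : allBelow (fun k => fs3 (Nat.add (Nat.succ 281531) k)) 257 = true := by decide +kernel
theorem s3c966 : allBelow (fun k => fs3 (Nat.add (Nat.succ 281788) k)) 266 = true := by decide +kernel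
theorem s3c967 : allBelow (fun k => fs3 (Nat.add (Nat.succ 282054) k)) 265 = true := by decide +kernel
theorem s3c968 : allBelow (fun k => fs3 (Nat.add (Nat.succ 282319) k)) 251 = true := by decide +kernel
theorem s3c969 : allBelow (fun k => fs3 (Nat.add (Nat.succ 282570) k)) 276 = true := by decide +kernel
theorem s3c970 : allBelow (fun k => fs3 (Nat.add (Nat.succ 282846) k)) 274 = true := by decide +kernel
theorem s3c971 : allBelow (fun k => fs3 (Nat.add (Nat.succ 283120) k)) 272 = true := by decide +kernel
theorem s3c972 : allBelow (fun k => fs3 (Nat.add (Nat.succ 283392) k)) 269 = true := by decide +kernel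
theorem s3c973 : allBelow (fun k => fs3 (Nat.add (Nat.succ 283661) k)) 267 = true := by decide +kernel
theorem s3c974 : allBelow (fun k => fs3 (Nat.add (Nat.succ 283928) k)) 264 = true := by decide +kernel
theorem s3c975 : allBelow (fun k => fs3 (Nat.add (Nat.succ 284192) k)) 264 = true := by decide +kernel
theorem s3c976 : allBelow (fun k => fs3 (Nat.add (Nat.succ 284456) k)) 272 = true := by decide +kernel
theorem s3c977 : allBelow (fun k => fs3 (Nat.add (Nat.succ 284728) k)) 245 = true := by decide +kernel
theorem s3c978 : allBelow (fun k => fs3 (Nat.add (Nat.succ 284973) k)) 259 = true := by decide +kernel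
theorem s3c979 : allBelow (fun k => fs3 (Nat.add (Nat.succ 285232) k)) 243 = true := by decide +kernel
theorem s3c980 : allBelow (fun k => fs3 (Nat.add (Nat.succ 285475) k)) 275 = true := by decide +kernel
theorem s3c981 : allBelow (fun k => fs3 (Nat.add (Nat.succ 285750) k)) 274 = true := by decide +kernel
theorem s3c982 : allBelow (fun k => fs3 (Nat.add (Nat.succ 286024) k)) 274 = true := by decide +kernel
theorem s3c983 : allBelow (fun k => fs3 (Nat.add (Nat.succ 286298) k)) 260 = true := by decide +kernel
theorem s3c984 : allBelow (fun k => fs3 (Nat.add (Nat.succ 286558) k)) 269 = true := by decide +kernel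
theorem s3c985 : allBelow (fun k => fs3 (Nat.add (Nat.succ 286827) k)) 252 = true := by decide +kernel
theorem s3c986 : allBelow (fun k => fs3 (Nat.add (Nat.succ 287079) k)) 272 = true := by decide +kernel
theorem s3c987 : allBelow (fun k => fs3 (Nat.add (Nat.succ 287351) k)) 270 = true := by decide +kernel
theorem s3c988 : allBelow (fun k => fs3 (Nat.add (Nat.succ 287621) k)) 263 = true := by decide +kernel
theorem s3c989 : allBelow (fun k => fs3 (Nat.add (Nat.succ 287884) k)) 271 = true := by decide +kernel
theorem s3c990 : allBelow (fun k => fs3 (Nat.add (Nat.succ 288155) k)) 254 = true := by decide +kernel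
theorem s3c991 : allBelow (fun k => fs3 (Nat.add (Nat.succ 288409) k)) 272 = true := by decide +kernel
theorem s3c992 : allBelow (fun k => fs3 (Nat.add (Nat.succ 288681) k)) 261 = true := by decide +kernel
theorem s3c993 : allBelow (fun k => fs3 (Nat.add (Nat.succ 288942) k)) 263 = true := by decide +kernel

end Cfsg.Agent.Lib.Helper35.Fi24a
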