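import Cfsg.Agent.Lib.Helper35.Fi24a.Data

set_option Elab.async false

namespace Cfsg.Agent.Lib.Helper35.Fi24a

open Cfsg.Agent.Lib.Helper35

theorem s3c994 : allBelow (fun k => fs3 (Nat.add (Nat.succ 289205) k)) 264 = true := by decide +kernel
theorem s3c995 : allBelow (fun k => fs3 (Nat.add (Nat.succ 289469) k)) 246 = true := by decide +kernel
theorem s3c996 : allBelow (fun k => fs3 (Nat.add (Nat.succ 289715) k)) 266 = true := by decide +kernel
theorem s3c997 : allBelow (fun k => fs3 (Nat.add (Nat.succ 289981) k)) 264 = true := by decide +kernel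
theorem s3c998 : allBelow (fun k => fs3 (Nat.add (Nat.succ 290245) k)) 269 = true := by decide +kernel
theorem s3c999 : allBelow (fun k => fs3 (Nat.add (Nat.succ 290514) k)) 271 = true := by decide +kernel
theorem s3c1000 : allBelow (fun k => fs3 (Nat.add (Nat.succ 290785) k)) 264 = true := by decide +kernel
theorem s3c1001 : allBelow (fun k => fs3 (Nat.add (Nat.succ 291049) k)) 257 = true := by decide +kernel
theorem s3c1002 : allBelow (fun k => fs3 (Nat.add (Nat.succ 291306) k)) 263 = true := by decide +kernel
theorem s3c1003 : allBelow (fun k => fs3 (Nat.add (Nat.succ 291569) k)) 262 = true := by decide +kernel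
theorem s3c1004 : allBelow (fun k => fs3 (Nat.add (Nat.succ 291831) k)) 265 = true := by decide +kernel
theorem s3c1005 : allBelow (fun k => fs3 (Nat.add (Nat.succ 292096) k)) 258 = true := by decide +kernel
theorem s3c1006 : allBelow (fun k => fs3 (Nat.add (Nat.succ 292354) k)) 265 = true := by decide +kernel
theorem s3c1007 : allBelow (fun k => fs3 (Nat.add (Nat.succ 292619) k)) 269 = true := by decide +kernel
theorem s3c1008 : allBelow (fun k => fs3 (Nat.add (Nat.succ 292888) k)) 284 = true := by decide +kernel
theorem s3c1009 : allBelow (fun k => fs3 (Nat.add (Nat.succ 293172) k)) 261 = true := by decide +kernel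
theorem s3c1010 : allBelow (fun k => fs3 (Nat.add (Nat.succ 293433) k)) 271 = true := by decide +kernel
theorem s3c1011 : allBelow (fun k => fs3 (Nat.add (Nat.succ 293704) k)) 270 = true := by decide +kernel
theorem s3c1012 : allBelow (fun k => fs3 (Nat.add (Nat.succ 293974) k)) 281 = true := by decide +kernel
theorem s3c1013 : allBelow (fun k => fs3 (Nat.add (Nat.succ 294255) k)) 268 = true := by decide +kernel
theorem s3c1014 : allBelow (fun k => fs3 (Nat.add (Nat.succ 294523) k)) 265 = true := by decide +kernel
theorem s3c1015 : allBelow (fun k => fs3 (Nat.add (Nat.succ 294788) k)) 280 = true := by decide +kernel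
theorem s3c1016 : allBelow (fun k => fs3 (Nat.add (Nat.succ 295068) k)) 278 = true := by decide +kernel
theorem s3c1017 : allBelow (fun k => fs3 (Nat.add (Nat.succ 295346) k)) 273 = true := by decide +kernel
theorem s3c1018 : allBelow (fun k => fs3 (Nat.add (Nat.succ 295619) k)) 265 = true := by decide +kernel
theorem s3c1019 : allBelow (fun k => fs3 (Nat.add (Nat.succ 295884) k)) 281 = true := by decide +kernel
theorem s3c1020 : allBelow (fun k => fs3 (Nat.add (Nat.succ 296165) k)) 267 = true := by decide +kernel
theorem s3c1021 : allBelow (fun k => fs3 (Nat.add (Nat.succ 296432) k)) 280 = true := by decide +kernel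
theorem s3c1022 : allBelow (fun k => fs3 (Nat.add (Nat.succ 296712) k)) 287 = true := by decide +kernel
theorem s3c1023 : allBelow (fun k => fs3 (Nat.add (Nat.succ 296999) k)) 274 = true := by decide +kernel
theorem s3c1024 : allBelow (fun k => fs3 (Nat.add (Nat.succ 297273) k)) 246 = true := by decide +kernel
theorem s3c1025 : allBelow (fun k => fs3 (Nat.add (Nat.succ 297519) k)) 253 = true := by decide +kernel
theorem s3c1026 : allBelow (fun k => fs3 (Nat.add (Nat.succ 297772) k)) 258 = true := by decide +kernel
theorem s3c1027 : allBelow (fun k => fs3 (Nat.add (Nat.succ 298030) k)) 255 = true := by decide +kernel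
theorem s3c1028 : allBelow (fun k => fs3 (Nat.add (Nat.succ 298285) k)) 245 = true := by decide +kernel
theorem s3c1029 : allBelow (fun k => fs3 (Nat.add (Nat.succ 298530) k)) 252 = true := by decide +kernel
theorem s3c1030 : allBelow (fun k => fs3 (Nat.add (Nat.succ 298782) k)) 251 = true := by decide +kernel
theorem s3c1031 : allBelow (fun k => fs3 (Nat.add (Nat.succ 299033) k)) 249 = true := by decide +kernel
theorem s3c1032 : allBelow (fun k => fs3 (Nat.add (Nat.succ 299282) k)) 247 = true := by decide +kernel
theorem s3c1033 : allBelow (fun k => fs3 (Nat.add (Nat.succ 299529) k)) 249 = true := by decide +kernel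
theorem s3c1034 : allBelow (fun k => fs3 (Nat.add (Nat.succ 299778) k)) 243 = true := by decide +kernel
theorem s3c1035 : allBelow (fun k => fs3 (Nat.add (Nat.succ 300021) k)) 240 = true := by decide +kernel
theorem s3c1036 : allBelow (fun k => fs3 (Nat.add (Nat.succ 300261) k)) 256 = true := by decide +kernel
theorem s3c1037 : allBelow (fun k => fs3 (Nat.add (Nat.succ 300517) k)) 242 = true := by decide +kernel
theorem s3c1038 : allBelow (fun k => fs3 (Nat.add (Nat.succ 300759) k)) 246 = true := by decide +kernel
theorem s3c1039 : allBelow (fun k => fs3 (Nat.add (Nat.succ 301005) k)) 254 = true := by decide +kernel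
theorem s3c1040 : allBelow (fun k => fs3 (Nat.add (Nat.succ 301259) k)) 253 = true := by decide +kernel
theorem s3c1041 : allBelow (fun k => fs3 (Nat.add (Nat.succ 301512) k)) 254 = true := by decide +kernel
theorem s3c1042 : allBelow (fun k => fs3 (Nat.add (Nat.succ 301766) k)) 261 = true := by decide +kernel
theorem s3c1043 : allBelow (fun k => fs3 (Nat.add (Nat.succ 302027) k)) 266 = true := by decide +kernel
theorem s3c1044 : allBelow (fun k => fs3 (Nat.add (Nat.succ 302293) k)) 263 = true := by decide +kernel
theorem s3c1045 : allBelow (fun k => fs3 (Nat.add (Nat.succ 302556) k)) 259 = true := by decide +kernel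
theorem s3c1046 : allBelow (fun k => fs3 (Nat.add (Nat.succ 302815) k)) 256 = true := by decide +kernel
theorem s3c1047 : allBelow (fun k => fs3 (Nat.add (Nat.succ 303071) k)) 243 = true := by decide +kernel
theorem s3c1048 : allBelow (fun k => fs3 (Nat.add (Nat.succ 303314) k)) 254 = true := by decide +kernel
theorem s3c1049 : allBelow (fun k => fs3 (Nat.add (Nat.succ 303568) k)) 260 = true := by decide +kernel
theorem s3c1050 : allBelow (fun k => fs3 (Nat.add (Nat.succ 303828) k)) 258 = true := by decide +kernel
theorem s3c1051 : allBelow (fun k => fs3 (Nat.add (Nat.succ 304086) k)) 247 = true := by decide +kernel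
theorem s3c1052 : allBelow (fun k => fs3 (Nat.add (Nat.succ 304333) k)) 256 = true := by decide +kernel
theorem s3c1053 : allBelow (fun k => fs3 (Nat.add (Nat.succ 304589) k)) 261 = true := by decide +kernel
theorem s3c1054 : allBelow (fun k => fs3 (Nat.add (Nat.succ 304850) k)) 247 = true := by decide +kernel
theorem s3c1055 : allBelow (fun k => fs3 (Nat.add (Nat.succ 305097) k)) 268 = true := by decide +kernel
theorem s3c1056 : allBelow (fun k => fs3 (Nat.add (Nat.succ 305365) k)) 270 = true := by decide +kernel
theorem s3c1057 : allBelow (fun k => fs3 (Nat.add (Nat.succ 305635) k)) 268 = true := by decide +kernel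
theorem s3c1058 : allBelow (fun k => fs3 (Nat.add (Nat.succ 305903) k)) 256 = true := by decide +kernel
theorem s3c1059 : allBelow (fun k => fs3 (Nat.add (Nat.succ 306159) k)) 256 = true := by decide +kernel
theorem s3c1060 : allBelow (fun k => fs3 (Nat.add (Nat.succ 306415) k)) 261 = true := by decide +kernel
theorem s3c1061 : allBelow (fun k => fs3 (Nat.add (Nat.succ 306676) k)) 263 = true := by decide +kernel
theorem s3c1062 : allBelow (fun k => fs3 (Nat.add (Nat.succ 306939) k)) 248 = true := by decide +kernel
theorem s3c1063 : allBelow (fun k => fs3 (Nat.add (Nat.succ 307187) k)) 278 = true := by decide +kernel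
theorem s3c1064 : allBelow (fun k => fs3 (Nat.add (Nat.succ 307465) k)) 265 = true := by decide +kernel
theorem s3c1065 : allBelow (fun k => fs3 (Nat.add (Nat.succ 307730) k)) 265 = true := by decide +kernel
theorem s3c1066 : allBelow (fun k => fs3 (Nat.add (Nat.succ 307995) k)) 261 = true := by decide +kernel
theorem s3c1067 : allBelow (fun k => fs3 (Nat.add (Nat.succ 308256) k)) 267 = true := by decide +kernel
theorem s3c1068 : allBelow (fun k => fs3 (Nat.add (Nat.succ 308523) k)) 257 = true := by decide +kernel
theorem s3c1069 : allBelow (fun k => fs3 (Nat.add (Nat.succ 308780) k)) 265 = true := by decide +kernel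
theorem s3c1070 : allBelow (fun k => fs3 (Nat.add (Nat.succ 309045) k)) 241 = true := by decide +kernel
theorem s3c1071 : allBelow (fun k => fs3 (Nat.add (Nat.succ 309286) k)) 256 = true := by decide +kernel
theorem s3c1072 : allBelow (fun k => fs3 (Nat.add (Nat.succ 309542) k)) 249 = true := by decide +kernel
theorem s3c1073 : allBelow (fun k => fs3 (Nat.add (Nat.succ 309791) k)) 274 = true := by decide +kernel
theorem s3c1074 : allBelow (fun k => fs3 (Nat.add (Nat.succ 310065) k)) 279 = true := by decide +kernel
theorem s3c1075 : allBelow (fun k => fs3 (Nat.add (Nat.succ 310344) k)) 255 = true := by decide +kernel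
theorem s3c1076 : allBelow (fun k => fs3 (Nat.add (Nat.succ 310599) k)) 258 = true := by decide +kernel
theorem s3c1077 : allBelow (fun k => fs3 (Nat.add (Nat.succ 310857) k)) 263 = true := by decide +kernel
theorem s3c1078 : allBelow (fun k => fs3 (Nat.add (Nat.succ 311120) k)) 246 = true := by decide +kernel
theorem s3c1079 : allBelow (fun k => fs3 (Nat.add (Nat.succ 311366) k)) 269 = true := by decide +kernel
theorem s3c1080 : allBelow (fun k => fs3 (Nat.add (Nat.succ 311635) k)) 269 = true := by decide +kernel
theorem s3c1081 : allBelow (fun k => fs3 (Nat.add (Nat.succ 311904) k)) 263 = true := by decide +kernel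
theorem s3c1082 : allBelow (fun k => fs3 (Nat.add (Nat.succ 312167) k)) 250 = true := by decide +kernel
theorem s3c1083 : allBelow (fun k => fs3 (Nat.add (Nat.succ 312417) k)) 270 = true := by decide +kernel
theorem s3c1084 : allBelow (fun k => fs3 (Nat.add (Nat.succ 312687) k)) 255 = true := by decide +kernel
theorem s3c1085 : allBelow (fun k => fs3 (Nat.add (Nat.succ 312942) k)) 255 = true := by decide +kernel
theorem s3c1086 : allBelow (fun k => fs3 (Nat.add (Nat.succ 313197) k)) 248 = true := by decide +kernel
theorem s3c1087 : allBelow (fun k => fs3 (Nat.add (Nat.succ 313445) k)) 257 = true := by decide +kernel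
theorem s3c1088 : allBelow (fun k => fs3 (Nat.add (Nat.succ 313702) k)) 270 = true := by decide +kernel
theorem s3c1089 : allBelow (fun k => fs3 (Nat.add (Nat.succ 313972) k)) 269 = true := by decide +kernel
theorem s3c1090 : allBelow (fun k => fs3 (Nat.add (Nat.succ 314241) k)) 258 = true := by decide +kernel
theorem s3c1091 : allBelow (fun k => fs3 (Nat.add (Nat.succ 314499) k)) 259 = true := by decide +kernel
theorem s3c1092 : allBelow (fun k => fs3 (Nat.add (Nat.succ 314758) k)) 257 = true := by decide +kernel
theorem s3c1093 : allBelow (fun k => fs3 (Nat.add (Nat.succ 315015) k)) 274 = true := by decide +kernel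
theorem s3c1094 : allBelow (fun k => fs3 (Nat.add (Nat.succ 315289) k)) 246 = true := by decide +kernel
theorem s3c1095 : allBelow (fun k => fs3 (Nat.add (Nat.succ 315535) k)) 262 = true := by decide +kernel
theorem s3c1096 : allBelow (fun k => fs3 (Nat.add (Nat.succ 315797) k)) 272 = true := by decide +kernel
theorem s3c1097 : allBelow (fun k => fs3 (Nat.add (Nat.succ 316069) k)) 270 = true := by decide +kernel
theorem s3c1098 : allBelow (fun k => fs3 (Nat.add (Nat.succ 316339) k)) 265 = true := by decide +kernel
theorem s3c1099 : allBelow (fun k => fs3 (Nat.add (Nat.succ 316604) k)) 276 = true := by decide +kernel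
theorem s3c1100 : allBelow (fun k => fs3 (Nat.add (Nat.succ 316880) k)) 254 = true := by decide +kernel
theorem s3c1101 : allBelow (fun k => fs3 (Nat.add (Nat.succ 317134) k)) 270 = true := by decide +kernel
theorem s3c1102 : allBelow (fun k => fs3 (Nat.add (Nat.succ 317404) k)) 276 = true := by decide +kernel
theorem s3c1103 : allBelow (fun k => fs3 (Nat.add (Nat.succ 317680) k)) 282 = true := by decide +kernel
theorem s3c1104 : allBelow (fun k => fs3 (Nat.add (Nat.succ 317962) k)) 261 = true := by decide +kernel
theorem s3c1105 : allBelow (fun k => fs3 (Nat.add (Nat.succ 318223) k)) 275 = true := by decide +kernel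
theorem s3c1106 : allBelow (fun k => fs3 (Nat.add (Nat.succ 318498) k)) 276 = true := by decide +kernel
theorem s3c1107 : allBelow (fun k => fs3 (Nat.add (Nat.succ 318774) k)) 274 = true := by decide +kernel
theorem s3c1108 : allBelow (fun k => fs3 (Nat.add (Nat.succ 319048) k)) 281 = true := by decide +kernel
theorem s3c1109 : allBelow (fun k => fs3 (Nat.add (Nat.succ 319329) k)) 264 = true := by decide +kernel
theorem s3c1110 : allBelow (fun k => fs3 (Nat.add (Nat.succ 319593) k)) 220 = true := by decide +kernel
theorem s3c1111 : allBelow (fun k => fs3 (Nat.add (Nat.succ 319813) k)) 246 = true := by decide +kernel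
theorem s3c1112 : allBelow (fun k => fs3 (Nat.add (Nat.succ 320059) k)) 254 = true := by decide +kernel
theorem s3c1113 : allBelow (fun k => fs3 (Nat.add (Nat.succ 320313) k)) 246 = true := by decide +kernel
theorem s3c1114 : allBelow (fun k => fs3 (Nat.add (Nat.succ 320559) k)) 242 = true := by decide +kernel
theorem s3c1115 : allBelow (fun k => fs3 (Nat.add (Nat.succ 320801) k)) 246 = true := by decide +kernel
theorem s3c1116 : allBelow (fun k => fs3 (Nat.add (Nat.succ 321047) k)) 236 = true := by decide +kernel
theorem s3c1117 : allBelow (fun k => fs3 (Nat.add (Nat.succ 321283) k)) 239 = true := by decide +kernel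
theorem s3c1118 : allBelow (fun k => fs3 (Nat.add (Nat.succ 321522) k)) 257 = true := by decide +kernel
theorem s3c1119 : allBelow (fun k => fs3 (Nat.add (Nat.succ 321779) k)) 237 = true := by decide +kernel
theorem s3c1120 : allBelow (fun k => fs3 (Nat.add (Nat.succ 322016) k)) 240 = true := by decide +kernel
theorem s3c1121 : allBelow (fun k => fs3 (Nat.add (Nat.succ 322256) k)) 246 = true := by decide +kernel
theorem s3c1122 : allBelow (fun k => fs3 (Nat.add (Nat.succ 322502) k)) 244 = true := by decide +kernel
theorem s3c1123 : allBelow (fun k => fs3 (Nat.add (Nat.succ 322746) k)) 244 = true := by decide +kernel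
theorem s3c1124 : allBelow (fun k => fs3 (Nat.add (Nat.succ 322990) k)) 250 = true := by decide +kernel
theorem s3c1125 : allBelow (fun k => fs3 (Nat.add (Nat.succ 323240) k)) 254 = true := by decide +kernel
theorem s3c1126 : allBelow (fun k => fs3 (Nat.add (Nat.succ 323494) k)) 247 = true := by decide +kernel
theorem s3c1127 : allBelow (fun k => fs3 (Nat.add (Nat.succ 323741) k)) 267 = true := by decide +kernel
theorem s3c1128 : allBelow (fun k => fs3 (Nat.add (Nat.succ 324008) k)) 253 = true := by decide +kernel
theorem s3c1129 : allBelow (fun k => fs3 (Nat.add (Nat.succ 324261) k)) 260 = true := by decide +kernel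
theorem s3c1130 : allBelow (fun k => fs3 (Nat.add (Nat.succ 324521) k)) 241 = true := by decide +kernel
theorem s3c1131 : allBelow (fun k => fs3 (Nat.add (Nat.succ 324762) k)) 250 = true := by decide +kernel
theorem s3c1132 : allBelow (fun k => fs3 (Nat.add (Nat.succ 325012) k)) 251 = true := by decide +kernel
theorem s3c1133 : allBelow (fun k => fs3 (Nat.add (Nat.succ 325263) k)) 241 = true := by decide +kernel
theorem s3c1134 : allBelow (fun k => fs3 (Nat.add (Nat.succ 325504) k)) 251 = true := by decide +kernel
theorem s3c1135 : allBelow (fun k => fs3 (Nat.add (Nat.succ 325755) k)) 250 = true := by decide +kernel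
theorem s3c1136 : allBelow (fun k => fs3 (Nat.add (Nat.succ 326005) k)) 257 = true := by decide +kernel
theorem s3c1137 : allBelow (fun k => fs3 (Nat.add (Nat.succ 326262) k)) 264 = true := by decide +kernel
theorem s3c1138 : allBelow (fun k => fs3 (Nat.add (Nat.succ 326526) k)) 250 = true := by decide +kernel
theorem s3c1139 : allBelow (fun k => fs3 (Nat.add (Nat.succ 326776) k)) 251 = true := by decide +kernel
theorem s3c1140 : allBelow (fun k => fs3 (Nat.add (Nat.succ 327027) k)) 258 = true := by decide +kernel
theorem s3c1141 : allBelow (fun k => fs3 (Nat.add (Nat.succ 327285) k)) 258 = true := by decide +kernel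
theorem s3c1142 : allBelow (fun k => fs3 (Nat.add (Nat.succ 327543) k)) 247 = true := by decide +kernel
theorem s3c1143 : allBelow (fun k => fs3 (Nat.add (Nat.succ 327790) k)) 277 = true := by decide +kernel
theorem s3c1144 : allBelow (fun k => fs3 (Nat.add (Nat.succ 328067) k)) 256 = true := by decide +kernel
theorem s3c1145 : allBelow (fun k => fs3 (Nat.add (Nat.succ 328323) k)) 263 = true := by decide +kernel
theorem s3c1146 : allBelow (fun k => fs3 (Nat.add (Nat.succ 328586) k)) 259 = true := by decide +kernel
theorem s3c1147 : allBelow (fun k => fs3 (Nat.add (Nat.succ 328845) k)) 260 = true := by decide +kernel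
theorem s3c1148 : allBelow (fun k => fs3 (Nat.add (Nat.succ 329105) k)) 247 = true := by decide +kernel
theorem s3c1149 : allBelow (fun k => fs3 (Nat.add (Nat.succ 329352) k)) 258 = true := by decide +kernel
theorem s3c1150 : allBelow (fun k => fs3 (Nat.add (Nat.succ 329610) k)) 276 = true := by decide +kernel
theorem s3c1151 : allBelow (fun k => fs3 (Nat.add (Nat.succ 329886) k)) 250 = true := by decide +kernel
theorem s3c1152 : allBelow (fun k => fs3 (Nat.add (Nat.succ 330136) k)) 254 = true := by decide +kernel
theorem s3c1153 : allBelow (fun k => fs3 (Nat.add (Nat.succ 330390) k)) 255 = true := by decide +kernel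
theorem s3c1154 : allBelow (fun k => fs3 (Nat.add (Nat.succ 330645) k)) 252 = true := by decide +kernel
theorem s3c1155 : allBelow (fun k => fs3 (Nat.add (Nat.succ 330897) k)) 264 = true := by decide +kernel
theorem s3c1156 : allBelow (fun k => fs3 (Nat.add (Nat.succ 331161) k)) 264 = true := by decide +kernel
theorem s3c1157 : allBelow (fun k => fs3 (Nat.add (Nat.succ 331425) k)) 251 = true := by decide +kernel
theorem s3c1158 : allBelow (fun k => fs3 (Nat.add (Nat.succ 331676) k)) 252 = true := by decide +kernel
theorem s3c1159 : allBelow (fun k => fs3 (Nat.add (Nat.succ 331928) k)) 240 = true := by decide +kernel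
theorem s3c1160 : allBelow (fun k => fs3 (Nat.add (Nat.succ 332168) k)) 251 = true := by decide +kernel
theorem s3c1161 : allBelow (fun k => fs3 (Nat.add (Nat.succ 332419) k)) 263 = true := by decide +kernel
theorem s3c1162 : allBelow (fun k => fs3 (Nat.add (Nat.succ 332682) k)) 253 = true := by decide +kernel
theorem s3c1163 : allBelow (fun k => fs3 (Nat.add (Nat.succ 332935) k)) 259 = true := by decide +kernel
theorem s3c1164 : allBelow (fun k => fs3 (Nat.add (Nat.succ 333194) k)) 261 = true := by decide +kernel
theorem s3c1165 : allBelow (fun k => fs3 (Nat.add (Nat.succ 333455) k)) 246 = true := by decide +kernel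
theorem s3c1166 : allBelow (fun k => fs3 (Nat.add (Nat.succ 333701) k)) 262 = true := by decide +kernel
theorem s3c1167 : allBelow (fun k => fs3 (Nat.add (Nat.succ 333963) k)) 273 = true := by decide +kernel
theorem s3c1168 : allBelow (fun k => fs3 (Nat.add (Nat.succ 334236) k)) 259 = true := by decide +kernel
theorem s3c1169 : allBelow (fun k => fs3 (Nat.add (Nat.succ 334495) k)) 268 = true := by decide +kernel
theorem s3c1170 : allBelow (fun k => fs3 (Nat.add (Nat.succ 334763) k)) 282 = true := by decide +kernel
theorem s3c1171 : allBelow (fun k => fs3 (Nat.add (Nat.succ 335045) k)) 266 = true := by decide +kernel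
theorem s3c1172 : allBelow (fun k => fs3 (Nat.add (Nat.succ 335311) k)) 262 = true := by decide +kernel
theorem s3c1173 : allBelow (fun k => fs3 (Nat.add (Nat.succ 335573) k)) 270 = true := by decide +kernel
theorem s3c1174 : allBelow (fun k => fs3 (Nat.add (Nat.succ 335843) k)) 262 = true := by decide +kernel
theorem s3c1175 : allBelow (fun k => fs3 (Nat.add (Nat.succ 336105) k)) 268 = true := by decide +kernel
theorem s3c1176 : allBelow (fun k => fs3 (Nat.add (Nat.succ 336373) k)) 222 = true := by decide +kernel
theorem s3c1177 : allBelow (fun k => fs3 (Nat.add (Nat.succ 336595) k)) 226 = true := by decide +kernel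
theorem s3c1178 : allBelow (fun k => fs3 (Nat.add (Nat.succ 336821) k)) 242 = true := by decide +kernel
theorem s3c1179 : allBelow (fun k => fs3 (Nat.add (Nat.succ 337063) k)) 243 = true := by decide +kernel
theorem s3c1180 : allBelow (fun k => fs3 (Nat.add (Nat.succ 337306) k)) 240 = true := by decide +kernel
theorem s3c1181 : allBelow (fun k => fs3 (Nat.add (Nat.succ 337546) k)) 237 = true := by decide +kernel
theorem s3c1182 : allBelow (fun k => fs3 (Nat.add (Nat.succ 337783) k)) 253 = true := by decide +kernel
theorem s3c1183 : allBelow (fun k => fs3 (Nat.add (Nat.succ 338036) k)) 243 = true := by decide +kernel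
theorem s3c1184 : allBelow (fun k => fs3 (Nat.add (Nat.succ 338279) k)) 235 = true := by decide +kernel
theorem s3c1185 : allBelow (fun k => fs3 (Nat.add (Nat.succ 338514) k)) 236 = true := by decide +kernel
theorem s3c1186 : allBelow (fun k => fs3 (Nat.add (Nat.succ 338750) k)) 251 = true := by decide +kernel
theorem s3c1187 : allBelow (fun k => fs3 (Nat.add (Nat.succ 339001) k)) 247 = true := by decide +kernel
theorem s3c1188 : allBelow (fun k => fs3 (Nat.add (Nat.succ 339248) k)) 250 = true := by decide +kernel
theorem s3c1189 : allBelow (fun k => fs3 (Nat.add (Nat.succ 339498) k)) 258 = true := by decide +kernel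
theorem s3c1190 : allBelow (fun k => fs3 (Nat.add (Nat.succ 339756) k)) 247 = true := by decide +kernel
theorem s3c1191 : allBelow (fun k => fs3 (Nat.add (Nat.succ 340003) k)) 247 = true := by decide +kernel
theorem s3c1192 : allBelow (fun k => fs3 (Nat.add (Nat.succ 340250) k)) 241 = true := by decide +kernel
theorem s3c1193 : allBelow (fun k => fs3 (Nat.add (Nat.succ 340491) k)) 246 = true := by decide +kernel
theorem s3c1194 : allBelow (fun k => fs3 (Nat.add (Nat.succ 340737) k)) 259 = true := by decide +kernel
theorem s3c1195 : allBelow (fun k => fs3 (Nat.add (Nat.succ 340996) k)) 250 = true := by decide +kernel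
theorem s3c1196 : allBelow (fun k => fs3 (Nat.add (Nat.succ 341246) k)) 242 = true := by decide +kernel
theorem s3c1197 : allBelow (fun k => fs3 (Nat.add (Nat.succ 341488) k)) 258 = true := by decide +kernel
theorem s3c1198 : allBelow (fun k => fs3 (Nat.add (Nat.succ 341746) k)) 250 = true := by decide +kernel
theorem s3c1199 : allBelow (fun k => fs3 (Nat.add (Nat.succ 341996) k)) 266 = true := by decide +kernel
theorem s3c1200 : allBelow (fun k => fs3 (Nat.add (Nat.succ 342262) k)) 251 = true := by decide +kernel
theorem s3c1201 : allBelow (fun k => fs3 (Nat.add (Nat.succ 342513) k)) 262 = true := by decide +kernel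
theorem s3c1202 : allBelow (fun k => fs3 (Nat.add (Nat.succ 342775) k)) 245 = true := by decide +kernel
theorem s3c1203 : allBelow (fun k => fs3 (Nat.add (Nat.succ 343020) k)) 255 = true := by decide +kernel
theorem s3c1204 : allBelow (fun k => fs3 (Nat.add (Nat.succ 343275) k)) 254 = true := by decide +kernel
theorem s3c1205 : allBelow (fun k => fs3 (Nat.add (Nat.succ 343529) k)) 256 = true := by decide +kernel
theorem s3c1206 : allBelow (fun k => fs3 (Nat.add (Nat.succ 343785) k)) 242 = true := by decide +kernel
theorem s3c1207 : allBelow (fun k => fs3 (Nat.add (Nat.succ 344027) k)) 255 = true := by decide +kernel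
theorem s3c1208 : allBelow (fun k => fs3 (Nat.add (Nat.succ 344282) k)) 254 = true := by decide +kernel
theorem s3c1209 : allBelow (fun k => fs3 (Nat.add (Nat.succ 344536) k)) 242 = true := by decide +kernel
theorem s3c1210 : allBelow (fun k => fs3 (Nat.add (Nat.succ 344778) k)) 246 = true := by decide +kernel
theorem s3c1211 : allBelow (fun k => fs3 (Nat.add (Nat.succ 345024) k)) 251 = true := by decide +kernel
theorem s3c1212 : allBelow (fun k => fs3 (Nat.add (Nat.succ 345275) k)) 249 = true := by decide +kernel
theorem s3c1213 : allBelow (fun k => fs3 (Nat.add (Nat.succ 345524) k)) 265 = true := by decide +kernel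
theorem s3c1214 : allBelow (fun k => fs3 (Nat.add (Nat.succ 345789) k)) 261 = true := by decide +kernel
theorem s3c1215 : allBelow (fun k => fs3 (Nat.add (Nat.succ 346050) k)) 270 = true := by decide +kernel
theorem s3c1216 : allBelow (fun k => fs3 (Nat.add (Nat.succ 346320) k)) 255 = true := by decide +kernel
theorem s3c1217 : allBelow (fun k => fs3 (Nat.add (Nat.succ 346575) k)) 254 = true := by decide +kernel
theorem s3c1218 : allBelow (fun k => fs3 (Nat.add (Nat.succ 346829) k)) 249 = true := by decide +kernel
theorem s3c1219 : allBelow (fun k => fs3 (Nat.add (Nat.succ 347078) k)) 232 = true := by decide +kernel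
theorem s3c1220 : allBelow (fun k => fs3 (Nat.add (Nat.succ 347310) k)) 243 = true := by decide +kernel
theorem s3c1221 : allBelow (fun k => fs3 (Nat.add (Nat.succ 347553) k)) 242 = true := by decide +kernel
theorem s3c1222 : allBelow (fun k => fs3 (Nat.add (Nat.succ 347795) k)) 244 = true := by decide +kernel
theorem s3c1223 : allBelow (fun k => fs3 (Nat.add (Nat.succ 348039) k)) 243 = true := by decide +kernel
theorem s3c1224 : allBelow (fun k => fs3 (Nat.add (Nat.succ 348282) k)) 244 = true := by decide +kernel
theorem s3c1225 : allBelow (fun k => fs3 (Nat.add (Nat.succ 348526) k)) 245 = true := by decide +kernel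
theorem s3c1226 : allBelow (fun k => fs3 (Nat.add (Nat.succ 348771) k)) 241 = true := by decide +kernel
theorem s3c1227 : allBelow (fun k => fs3 (Nat.add (Nat.succ 349012) k)) 245 = true := by decide +kernel
theorem s3c1228 : allBelow (fun k => fs3 (Nat.add (Nat.succ 349257) k)) 239 = true := by decide +kernel
theorem s3c1229 : allBelow (fun k => fs3 (Nat.add (Nat.succ 349496) k)) 233 = true := by decide +kernel
theorem s3c1230 : allBelow (fun k => fs3 (Nat.add (Nat.succ 349729) k)) 234 = true := by decide +kernel
theorem s3c1231 : allBelow (fun k => fs3 (Nat.add (Nat.succ 349963) k)) 254 = true := by decide +kernel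
theorem s3c1232 : allBelow (fun k => fs3 (Nat.add (Nat.succ 350217) k)) 250 = true := by decide +kernel
theorem s3c1233 : allBelow (fun k => fs3 (Nat.add (Nat.succ 350467) k)) 254 = true := by decide +kernel
theorem s3c1234 : allBelow (fun k => fs3 (Nat.add (Nat.succ 350721) k)) 246 = true := by decide +kernel
theorem s3c1235 : allBelow (fun k => fs3 (Nat.add (Nat.succ 350967) k)) 248 = true := by decide +kernel
theorem s3c1236 : allBelow (fun k => fs3 (Nat.add (Nat.succ 351215) k)) 250 = true := by decide +kernel
theorem s3c1237 : allBelow (fun k => fs3 (Nat.add (Nat.succ 351465) k)) 239 = true := by decide +kernel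
theorem s3c1238 : allBelow (fun k => fs3 (Nat.add (Nat.succ 351704) k)) 242 = true := by decide +kernel
theorem s3c1239 : allBelow (fun k => fs3 (Nat.add (Nat.succ 351946) k)) 252 = true := by decide +kernel
theorem s3c1240 : allBelow (fun k => fs3 (Nat.add (Nat.succ 352198) k)) 253 = true := by decide +kernel
theorem s3c1241 : allBelow (fun k => fs3 (Nat.add (Nat.succ 352451) k)) 253 = true := by decide +kernel
theorem s3c1242 : allBelow (fun k => fs3 (Nat.add (Nat.succ 352704) k)) 242 = true := by decide +kernel
theorem s3c1243 : allBelow (fun k => fs3 (Nat.add (Nat.succ 352946) k)) 241 = true := by decide +kernel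
theorem s3c1244 : allBelow (fun k => fs3 (Nat.add (Nat.succ 353187) k)) 238 = true := by decide +kernel
theorem s3c1245 : allBelow (fun k => fs3 (Nat.add (Nat.succ 353425) k)) 237 = true := by decide +kernel
theorem s3c1246 : allBelow (fun k => fs3 (Nat.add (Nat.succ 353662) k)) 235 = true := by decide +kernel
theorem s3c1247 : allBelow (fun k => fs3 (Nat.add (Nat.succ 353897) k)) 234 = true := by decide +kernel
theorem s3c1248 : allBelow (fun k => fs3 (Nat.add (Nat.succ 354131) k)) 230 = true := by decide +kernel
theorem s3c1249 : allBelow (fun k => fs3 (Nat.add (Nat.succ 354361) k)) 234 = true := by decide +kernel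
theorem s3c1250 : allBelow (fun k => fs3 (Nat.add (Nat.succ 354595) k)) 252 = true := by decide +kernel
theorem s3c1251 : allBelow (fun k => fs3 (Nat.add (Nat.succ 354847) k)) 241 = true := by decide +kernel
theorem s3c1252 : allBelow (fun k => fs3 (Nat.add (Nat.succ 355088) k)) 233 = true := by decide +kernel
theorem s3c1253 : allBelow (fun k => fs3 (Nat.add (Nat.succ 355321) k)) 247 = true := by decide +kernel
theorem s3c1254 : allBelow (fun k => fs3 (Nat.add (Nat.succ 355568) k)) 240 = true := by decide +kernel
theorem s3c1255 : allBelow (fun k => fs3 (Nat.add (Nat.succ 355808) k)) 242 = true := by decide +kernel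
theorem s3c1256 : allBelow (fun k => fs3 (Nat.add (Nat.succ 356050) k)) 226 = true := by decide +kernel
theorem s3c1257 : allBelow (fun k => fs3 (Nat.add (Nat.succ 356276) k)) 238 = true := by decide +kernel
theorem s3c1258 : allBelow (fun k => fs3 (Nat.add (Nat.succ 356514) k)) 249 = true := by decide +kernel
theorem s3c1259 : allBelow (fun k => fs3 (Nat.add (Nat.succ 356763) k)) 262 = true := by decide +kernel
theorem s3c1260 : allBelow (fun k => fs3 (Nat.add (Nat.succ 357025) k)) 257 = true := by decide +kernel
theorem s3c1261 : allBelow (fun k => fs3 (Nat.add (Nat.succ 357282) k)) 183 = true := by decide +kernel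
theorem s4c0 : allBelow (fun k => fs4 (Nat.add (Nat.succ 0) k)) 261 = true := by decide +kernel
theorem s4c1 : allBelow (fun k => fs4 (Nat.add (Nat.succ 261) k)) 262 = true := by decide +kernel
theorem s4c2 : allBelow (fun k => fs4 (Nat.add (Nat.succ 523) k)) 266 = true := by decide +kernel
theorem s4c3 : allBelow (fun k => fs4 (Nat.add (Nat.succ 789) k)) 277 = true := by decide +kernel
theorem s4c4 : allBelow (fun k => fs4 (Nat.add (Nat.succ 1066) k)) 279 = true := by decide +kernel
theorem s4c5 : allBelow (fun k => fs4 (Nat.add (Nat.succ 1345) k)) 276 = true := by decide +kernel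
theorem s4c6 : allBelow (fun k => fs4 (Nat.add (Nat.succ 1621) k)) 286 = true := by decide +kernel
theorem s4c7 : allBelow (fun k => fs4 (Nat.add (Nat.succ 1907) k)) 275 = true := by decide +kernel
theorem s4c8 : allBelow (fun k => fs4 (Nat.add (Nat.succ 2182) k)) 284 = true := by decide +kernel
theorem s4c9 : allBelow (fun k => fs4 (Nat.add (Nat.succ 2466) k)) 273 = true := by decide +kernel
theorem s4c10 : allBelow (fun k => fs4 (Nat.add (Nat.succ 2739) k)) 271 = true := by decide +kernel
theorem s4c11 : allBelow (fun k => fs4 (Nat.add (Nat.succ 3010) k)) 280 = true := by decide +kernel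
theorem s4c12 : allBelow (fun k => fs4 (Nat.add (Nat.succ 3290) k)) 288 = true := by decide +kernel
theorem s4c13 : allBelow (fun k => fs4 (Nat.add (Nat.succ 3578) k)) 270 = true := by decide +kernel
theorem s4c14 : allBelow (fun k => fs4 (Nat.add (Nat.succ 3848) k)) 276 = true := by decide +kernel
theorem s4c15 : allBelow (fun k => fs4 (Nat.add (Nat.succ 4124) k)) 306 = true := by decide +kernel
theorem s4c16 : allBelow (fun k => fs4 (Nat.add (Nat.succ 4430) k)) 278 = true := by decide +kernel
theorem s4c17 : allBelow (fun k => fs4 (Nat.add (Nat.succ 4708) k)) 314 = true := by decide +kernel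
theorem s4c18 : allBelow (fun k => fs4 (Nat.add (Nat.succ 5022) k)) 271 = true := by decide +kernel
theorem s4c19 : allBelow (fun k => fs4 (Nat.add (Nat.succ 5293) k)) 285 = true := by decide +kernel
theorem s4c20 : allBelow (fun k => fs4 (Nat.add (Nat.succ 5578) k)) 289 = true := by decide +kernel
theorem s4c21 : allBelow (fun k => fs4 (Nat.add (Nat.succ 5867) k)) 318 = true := by decide +kernel
theorem s4c22 : allBelow (fun k => fs4 (Nat.add (Nat.succ 6185) k)) 287 = true := by decide +kernel
theorem s4c23 : allBelow (fun k => fs4 (Nat.add (Nat.succ 6472) k)) 289 = true := by decide +kernel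
theorem s4c24 : allBelow (fun k => fs4 (Nat.add (Nat.succ 6761) k)) 352 = true := by decide +kernel
theorem s4c25 : allBelow (fun k => fs4 (Nat.add (Nat.succ 7113) k)) 268 = true := by decide +kernel
theorem s4c26 : allBelow (fun k => fs4 (Nat.add (Nat.succ 7381) k)) 316 = true := by decide +kernel
theorem s4c27 : allBelow (fun k => fs4 (Nat.add (Nat.succ 7697) k)) 287 = true := by decide +kernel
theorem s4c28 : allBelow (fun k => fs4 (Nat.add (Nat.succ 7984) k)) 329 = true := by decide +kernel
theorem s4c29 : allBelow (fun k => fs4 (Nat.add (Nat.succ 8313) k)) 295 = true := by decide +kernel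
theorem s4c30 : allBelow (fun k => fs4 (Nat.add (Nat.succ 8608) k)) 282 = true := by decide +kernel
theorem s4c31 : allBelow (fun k => fs4 (Nat.add (Nat.succ 8890) k)) 312 = true := by decide +kernel
theorem s4c32 : allBelow (fun k => fs4 (Nat.add (Nat.succ 9202) k)) 379 = true := by decide +kernel
theorem s4c33 : allBelow (fun k => fs4 (Nat.add (Nat.succ 9581) k)) 299 = true := by decide +kernel
theorem s4c34 : allBelow (fun k => fs4 (Nat.add (Nat.succ 9880) k)) 281 = true := by decide +kernel
theorem s4c35 : allBelow (fun k => fs4 (Nat.add (Nat.succ 10161) k)) 308 = true := by decide +kernel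
theorem s4c36 : allBelow (fun k => fs4 (Nat.add (Nat.succ 10469) k)) 272 = true := by decide +kernel
theorem s4c37 : allBelow (fun k => fs4 (Nat.add (Nat.succ 10741) k)) 270 = true := by decide +kernel
theorem s4c38 : allBelow (fun k => fs4 (Nat.add (Nat.succ 11011) k)) 279 = true := by decide +kernel
theorem s4c39 : allBelow (fun k => fs4 (Nat.add (Nat.succ 11290) k)) 263 = true := by decide +kernel
theorem s4c40 : allBelow (fun k => fs4 (Nat.add (Nat.succ 11553) k)) 287 = true := by decide +kernel
theorem s4c41 : allBelow (fun k => fs4 (Nat.add (Nat.succ 11840) k)) 273 = true := by decide +kernel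
theorem s4c42 : allBelow (fun k => fs4 (Nat.add (Nat.succ 12113) k)) 291 = true := by decide +kernel
theorem s4c43 : allBelow (fun k => fs4 (Nat.add (Nat.succ 12404) k)) 309 = true := by decide +kernel
theorem s4c44 : allBelow (fun k => fs4 (Nat.add (Nat.succ 12713) k)) 266 = true := by decide +kernel
theorem s4c45 : allBelow (fun k => fs4 (Nat.add (Nat.succ 12979) k)) 283 = true := by decide +kernel
theorem s4c46 : allBelow (fun k => fs4 (Nat.add (Nat.succ 13262) k)) 284 = true := by decide +kernel
theorem s4c47 : allBelow (fun k => fs4 (Nat.add (Nat.succ 13546) k)) 276 = true := by decide +kernel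
theorem s4c48 : allBelow (fun k => fs4 (Nat.add (Nat.succ 13822) k)) 290 = true := by decide +kernel
theorem s4c49 : allBelow (fun k => fs4 (Nat.add (Nat.succ 14112) k)) 287 = true := by decide +kernel
theorem s4c50 : allBelow (fun k => fs4 (Nat.add (Nat.succ 14399) k)) 284 = true := by decide +kernel

end Cfsg.Agent.Lib.Helper35.Fi24a
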