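import Cfsg.Agent.Lib.Helper35.Fi24a.Data

set_option Elab.async false

namespace Cfsg.Agent.Lib.Helper35.Fi24a

open Cfsg.Agent.Lib.Helper35

theorem s4c51 : allBelow (fun k => fs4 (Nat.add (Nat.succ 14683) k)) 267 = true := by decide +kernel
theorem s4c52 : allBelow (fun k => fs4 (Nat.add (Nat.succ 14950) k)) 287 = true := by decide +kernel
theorem s4c53 : allBelow (fun k => fs4 (Nat.add (Nat.succ 15237) k)) 282 = true := by decide +kernel
theorem s4c54 : allBelow (fun k => fs4 (Nat.add (Nat.succ 15519) k)) 280 = true := by decide +kernel
theorem s4c55 : allBelow (fun k => fs4 (Nat.add (Nat.succ 15799) k)) 299 = true := by decide +kernel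
theorem s4c56 : allBelow (fun k => fs4 (Nat.add (Nat.succ 16098) k)) 325 = true := by decide +kernel
theorem s4c57 : allBelow (fun k => fs4 (Nat.add (Nat.succ 16423) k)) 303 = true := by decide +kernel
theorem s4c58 : allBelow (fun k => fs4 (Nat.add (Nat.succ 16726) k)) 295 = true := by decide +kernel
theorem s4c59 : allBelow (fun k => fs4 (Nat.add (Nat.succ 17021) k)) 310 = true := by decide +kernel
theorem s4c60 : allBelow (fun k => fs4 (Nat.add (Nat.succ 17331) k)) 307 = true := by decide +kernel
theorem s4c61 : allBelow (fun k => fs4 (Nat.add (Nat.succ 17638) k)) 266 = true := by decide +kernel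
theorem s4c62 : allBelow (fun k => fs4 (Nat.add (Nat.succ 17904) k)) 302 = true := by decide +kernel
theorem s4c63 : allBelow (fun k => fs4 (Nat.add (Nat.succ 18206) k)) 303 = true := by decide +kernel
theorem s4c64 : allBelow (fun k => fs4 (Nat.add (Nat.succ 18509) k)) 289 = true := by decide +kernel
theorem s4c65 : allBelow (fun k => fs4 (Nat.add (Nat.succ 18798) k)) 316 = true := by decide +kernel
theorem s4c66 : allBelow (fun k => fs4 (Nat.add (Nat.succ 19114) k)) 275 = true := by decide +kernel
theorem s4c67 : allBelow (fun k => fs4 (Nat.add (Nat.succ 19389) k)) 271 = true := by decide +kernel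
theorem s4c68 : allBelow (fun k => fs4 (Nat.add (Nat.succ 19660) k)) 291 = true := by decide +kernel
theorem s4c69 : allBelow (fun k => fs4 (Nat.add (Nat.succ 19951) k)) 292 = true := by decide +kernel
theorem s4c70 : allBelow (fun k => fs4 (Nat.add (Nat.succ 20243) k)) 308 = true := by decide +kernel
theorem s4c71 : allBelow (fun k => fs4 (Nat.add (Nat.succ 20551) k)) 275 = true := by decide +kernel
theorem s4c72 : allBelow (fun k => fs4 (Nat.add (Nat.succ 20826) k)) 299 = true := by decide +kernel
theorem s4c73 : allBelow (fun k => fs4 (Nat.add (Nat.succ 21125) k)) 331 = true := by decide +kernel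
theorem s4c74 : allBelow (fun k => fs4 (Nat.add (Nat.succ 21456) k)) 382 = true := by decide +kernel
theorem s4c75 : allBelow (fun k => fs4 (Nat.add (Nat.succ 21838) k)) 267 = true := by decide +kernel
theorem s4c76 : allBelow (fun k => fs4 (Nat.add (Nat.succ 22105) k)) 308 = true := by decide +kernel
theorem s4c77 : allBelow (fun k => fs4 (Nat.add (Nat.succ 22413) k)) 340 = true := by decide +kernel
theorem s4c78 : allBelow (fun k => fs4 (Nat.add (Nat.succ 22753) k)) 356 = true := by decide +kernel
theorem s4c79 : allBelow (fun k => fs4 (Nat.add (Nat.succ 23109) k)) 271 = true := by decide +kernel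
theorem s4c80 : allBelow (fun k => fs4 (Nat.add (Nat.succ 23380) k)) 272 = true := by decide +kernel
theorem s4c81 : allBelow (fun k => fs4 (Nat.add (Nat.succ 23652) k)) 296 = true := by decide +kernel
theorem s4c82 : allBelow (fun k => fs4 (Nat.add (Nat.succ 23948) k)) 317 = true := by decide +kernel
theorem s4c83 : allBelow (fun k => fs4 (Nat.add (Nat.succ 24265) k)) 318 = true := by decide +kernel
theorem s4c84 : allBelow (fun k => fs4 (Nat.add (Nat.succ 24583) k)) 278 = true := by decide +kernel
theorem s4c85 : allBelow (fun k => fs4 (Nat.add (Nat.succ 24861) k)) 356 = true := by decide +kernel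
theorem s4c86 : allBelow (fun k => fs4 (Nat.add (Nat.succ 25217) k)) 286 = true := by decide +kernel
theorem s4c87 : allBelow (fun k => fs4 (Nat.add (Nat.succ 25503) k)) 281 = true := by decide +kernel
theorem s4c88 : allBelow (fun k => fs4 (Nat.add (Nat.succ 25784) k)) 272 = true := by decide +kernel
theorem s4c89 : allBelow (fun k => fs4 (Nat.add (Nat.succ 26056) k)) 278 = true := by decide +kernel
theorem s4c90 : allBelow (fun k => fs4 (Nat.add (Nat.succ 26334) k)) 305 = true := by decide +kernel
theorem s4c91 : allBelow (fun k => fs4 (Nat.add (Nat.succ 26639) k)) 299 = true := by decide +kernel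
theorem s4c92 : allBelow (fun k => fs4 (Nat.add (Nat.succ 26938) k)) 318 = true := by decide +kernel
theorem s4c93 : allBelow (fun k => fs4 (Nat.add (Nat.succ 27256) k)) 309 = true := by decide +kernel
theorem s4c94 : allBelow (fun k => fs4 (Nat.add (Nat.succ 27565) k)) 280 = true := by decide +kernel
theorem s4c95 : allBelow (fun k => fs4 (Nat.add (Nat.succ 27845) k)) 299 = true := by decide +kernel
theorem s4c96 : allBelow (fun k => fs4 (Nat.add (Nat.succ 28144) k)) 326 = true := by decide +kernel
theorem s4c97 : allBelow (fun k => fs4 (Nat.add (Nat.succ 28470) k)) 385 = true := by decide +kernel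
theorem s4c98 : allBelow (fun k => fs4 (Nat.add (Nat.succ 28855) k)) 389 = true := by decide +kernel
theorem s4c99 : allBelow (fun k => fs4 (Nat.add (Nat.succ 29244) k)) 276 = true := by decide +kernel
theorem s4c100 : allBelow (fun k => fs4 (Nat.add (Nat.succ 29520) k)) 302 = true := by decide +kernel
theorem s4c101 : allBelow (fun k => fs4 (Nat.add (Nat.succ 29822) k)) 416 = true := by decide +kernel
theorem s4c102 : allBelow (fun k => fs4 (Nat.add (Nat.succ 30238) k)) 289 = true := by decide +kernel
theorem s4c103 : allBelow (fun k => fs4 (Nat.add (Nat.succ 30527) k)) 385 = true := by decide +kernel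
theorem s4c104 : allBelow (fun k => fs4 (Nat.add (Nat.succ 30912) k)) 269 = true := by decide +kernel
theorem s4c105 : allBelow (fun k => fs4 (Nat.add (Nat.succ 31181) k)) 278 = true := by decide +kernel
theorem s4c106 : allBelow (fun k => fs4 (Nat.add (Nat.succ 31459) k)) 274 = true := by decide +kernel
theorem s4c107 : allBelow (fun k => fs4 (Nat.add (Nat.succ 31733) k)) 302 = true := by decide +kernel
theorem s4c108 : allBelow (fun k => fs4 (Nat.add (Nat.succ 32035) k)) 342 = true := by decide +kernel
theorem s4c109 : allBelow (fun k => fs4 (Nat.add (Nat.succ 32377) k)) 365 = true := by decide +kernel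
theorem s4c110 : allBelow (fun k => fs4 (Nat.add (Nat.succ 32742) k)) 284 = true := by decide +kernel
theorem s4c111 : allBelow (fun k => fs4 (Nat.add (Nat.succ 33026) k)) 278 = true := by decide +kernel
theorem s4c112 : allBelow (fun k => fs4 (Nat.add (Nat.succ 33304) k)) 342 = true := by decide +kernel
theorem s4c113 : allBelow (fun k => fs4 (Nat.add (Nat.succ 33646) k)) 363 = true := by decide +kernel
theorem s4c114 : allBelow (fun k => fs4 (Nat.add (Nat.succ 34009) k)) 272 = true := by decide +kernel
theorem s4c115 : allBelow (fun k => fs4 (Nat.add (Nat.succ 34281) k)) 293 = true := by decide +kernel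
theorem s4c116 : allBelow (fun k => fs4 (Nat.add (Nat.succ 34574) k)) 283 = true := by decide +kernel
theorem s4c117 : allBelow (fun k => fs4 (Nat.add (Nat.succ 34857) k)) 274 = true := by decide +kernel
theorem s4c118 : allBelow (fun k => fs4 (Nat.add (Nat.succ 35131) k)) 281 = true := by decide +kernel
theorem s4c119 : allBelow (fun k => fs4 (Nat.add (Nat.succ 35412) k)) 297 = true := by decide +kernel
theorem s4c120 : allBelow (fun k => fs4 (Nat.add (Nat.succ 35709) k)) 349 = true := by decide +kernel
theorem s4c121 : allBelow (fun k => fs4 (Nat.add (Nat.succ 36058) k)) 294 = true := by decide +kernel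
theorem s4c122 : allBelow (fun k => fs4 (Nat.add (Nat.succ 36352) k)) 324 = true := by decide +kernel
theorem s4c123 : allBelow (fun k => fs4 (Nat.add (Nat.succ 36676) k)) 365 = true := by decide +kernel
theorem s4c124 : allBelow (fun k => fs4 (Nat.add (Nat.succ 37041) k)) 291 = true := by decide +kernel
theorem s4c125 : allBelow (fun k => fs4 (Nat.add (Nat.succ 37332) k)) 284 = true := by decide +kernel
theorem s4c126 : allBelow (fun k => fs4 (Nat.add (Nat.succ 37616) k)) 298 = true := by decide +kernel
theorem s4c127 : allBelow (fun k => fs4 (Nat.add (Nat.succ 37914) k)) 378 = true := by decide +kernel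
theorem s4c128 : allBelow (fun k => fs4 (Nat.add (Nat.succ 38292) k)) 381 = true := by decide +kernel
theorem s4c129 : allBelow (fun k => fs4 (Nat.add (Nat.succ 38673) k)) 452 = true := by decide +kernel
theorem s4c130 : allBelow (fun k => fs4 (Nat.add (Nat.succ 39125) k)) 324 = true := by decide +kernel
theorem s4c131 : allBelow (fun k => fs4 (Nat.add (Nat.succ 39449) k)) 285 = true := by decide +kernel
theorem s4c132 : allBelow (fun k => fs4 (Nat.add (Nat.succ 39734) k)) 310 = true := by decide +kernel
theorem s4c133 : allBelow (fun k => fs4 (Nat.add (Nat.succ 40044) k)) 394 = true := by decide +kernel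
theorem s4c134 : allBelow (fun k => fs4 (Nat.add (Nat.succ 40438) k)) 427 = true := by decide +kernel
theorem s4c135 : allBelow (fun k => fs4 (Nat.add (Nat.succ 40865) k)) 312 = true := by decide +kernel
theorem s4c136 : allBelow (fun k => fs4 (Nat.add (Nat.succ 41177) k)) 415 = true := by decide +kernel
theorem s4c137 : allBelow (fun k => fs4 (Nat.add (Nat.succ 41592) k)) 281 = true := by decide +kernel
theorem s4c138 : allBelow (fun k => fs4 (Nat.add (Nat.succ 41873) k)) 277 = true := by decide +kernel
theorem s4c139 : allBelow (fun k => fs4 (Nat.add (Nat.succ 42150) k)) 294 = true := by decide +kernel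
theorem s4c140 : allBelow (fun k => fs4 (Nat.add (Nat.succ 42444) k)) 273 = true := by decide +kernel
theorem s4c141 : allBelow (fun k => fs4 (Nat.add (Nat.succ 42717) k)) 285 = true := by decide +kernel
theorem s4c142 : allBelow (fun k => fs4 (Nat.add (Nat.succ 43002) k)) 317 = true := by decide +kernel
theorem s4c143 : allBelow (fun k => fs4 (Nat.add (Nat.succ 43319) k)) 383 = true := by decide +kernel
theorem s4c144 : allBelow (fun k => fs4 (Nat.add (Nat.succ 43702) k)) 347 = true := by decide +kernel
theorem s4c145 : allBelow (fun k => fs4 (Nat.add (Nat.succ 44049) k)) 383 = true := by decide +kernel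
theorem s4c146 : allBelow (fun k => fs4 (Nat.add (Nat.succ 44432) k)) 267 = true := by decide +kernel
theorem s4c147 : allBelow (fun k => fs4 (Nat.add (Nat.succ 44699) k)) 295 = true := by decide +kernel
theorem s4c148 : allBelow (fun k => fs4 (Nat.add (Nat.succ 44994) k)) 342 = true := by decide +kernel
theorem s4c149 : allBelow (fun k => fs4 (Nat.add (Nat.succ 45336) k)) 413 = true := by decide +kernel
theorem s4c150 : allBelow (fun k => fs4 (Nat.add (Nat.succ 45749) k)) 317 = true := by decide +kernel
theorem s4c151 : allBelow (fun k => fs4 (Nat.add (Nat.succ 46066) k)) 276 = true := by decide +kernel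
theorem s4c152 : allBelow (fun k => fs4 (Nat.add (Nat.succ 46342) k)) 299 = true := by decide +kernel
theorem s4c153 : allBelow (fun k => fs4 (Nat.add (Nat.succ 46641) k)) 287 = true := by decide +kernel
theorem s4c154 : allBelow (fun k => fs4 (Nat.add (Nat.succ 46928) k)) 295 = true := by decide +kernel
theorem s4c155 : allBelow (fun k => fs4 (Nat.add (Nat.succ 47223) k)) 284 = true := by decide +kernel
theorem s4c156 : allBelow (fun k => fs4 (Nat.add (Nat.succ 47507) k)) 271 = true := by decide +kernel
theorem s4c157 : allBelow (fun k => fs4 (Nat.add (Nat.succ 47778) k)) 279 = true := by decide +kernel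
theorem s4c158 : allBelow (fun k => fs4 (Nat.add (Nat.succ 48057) k)) 321 = true := by decide +kernel
theorem s4c159 : allBelow (fun k => fs4 (Nat.add (Nat.succ 48378) k)) 336 = true := by decide +kernel
theorem s4c160 : allBelow (fun k => fs4 (Nat.add (Nat.succ 48714) k)) 350 = true := by decide +kernel
theorem s4c161 : allBelow (fun k => fs4 (Nat.add (Nat.succ 49064) k)) 316 = true := by decide +kernel
theorem s4c162 : allBelow (fun k => fs4 (Nat.add (Nat.succ 49380) k)) 330 = true := by decide +kernel
theorem s4c163 : allBelow (fun k => fs4 (Nat.add (Nat.succ 49710) k)) 402 = true := by decide +kernel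
theorem s4c164 : allBelow (fun k => fs4 (Nat.add (Nat.succ 50112) k)) 329 = true := by decide +kernel
theorem s4c165 : allBelow (fun k => fs4 (Nat.add (Nat.succ 50441) k)) 303 = true := by decide +kernel
theorem s4c166 : allBelow (fun k => fs4 (Nat.add (Nat.succ 50744) k)) 309 = true := by decide +kernel
theorem s4c167 : allBelow (fun k => fs4 (Nat.add (Nat.succ 51053) k)) 293 = true := by decide +kernel
theorem s4c168 : allBelow (fun k => fs4 (Nat.add (Nat.succ 51346) k)) 398 = true := by decide +kernel
theorem s4c169 : allBelow (fun k => fs4 (Nat.add (Nat.succ 51744) k)) 392 = true := by decide +kernel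
theorem s4c170 : allBelow (fun k => fs4 (Nat.add (Nat.succ 52136) k)) 416 = true := by decide +kernel
theorem s4c171 : allBelow (fun k => fs4 (Nat.add (Nat.succ 52552) k)) 474 = true := by decide +kernel
theorem s4c172 : allBelow (fun k => fs4 (Nat.add (Nat.succ 53026) k)) 307 = true := by decide +kernel
theorem s4c173 : allBelow (fun k => fs4 (Nat.add (Nat.succ 53333) k)) 308 = true := by decide +kernel
theorem s4c174 : allBelow (fun k => fs4 (Nat.add (Nat.succ 53641) k)) 292 = true := by decide +kernel
theorem s4c175 : allBelow (fun k => fs4 (Nat.add (Nat.succ 53933) k)) 324 = true := by decide +kernel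
theorem s4c176 : allBelow (fun k => fs4 (Nat.add (Nat.succ 54257) k)) 466 = true := by decide +kernel
theorem s4c177 : allBelow (fun k => fs4 (Nat.add (Nat.succ 54723) k)) 467 = true := by decide +kernel
theorem s4c178 : allBelow (fun k => fs4 (Nat.add (Nat.succ 55190) k)) 336 = true := by decide +kernel
theorem s4c179 : allBelow (fun k => fs4 (Nat.add (Nat.succ 55526) k)) 399 = true := by decide +kernel
theorem s4c180 : allBelow (fun k => fs4 (Nat.add (Nat.succ 55925) k)) 404 = true := by decide +kernel
theorem s4c181 : allBelow (fun k => fs4 (Nat.add (Nat.succ 56329) k)) 256 = true := by decide +kernel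
theorem s4c182 : allBelow (fun k => fs4 (Nat.add (Nat.succ 56585) k)) 290 = true := by decide +kernel
theorem s4c183 : allBelow (fun k => fs4 (Nat.add (Nat.succ 56875) k)) 270 = true := by decide +kernel
theorem s4c184 : allBelow (fun k => fs4 (Nat.add (Nat.succ 57145) k)) 314 = true := by decide +kernel
theorem s4c185 : allBelow (fun k => fs4 (Nat.add (Nat.succ 57459) k)) 283 = true := by decide +kernel
theorem s4c186 : allBelow (fun k => fs4 (Nat.add (Nat.succ 57742) k)) 281 = true := by decide +kernel
theorem s4c187 : allBelow (fun k => fs4 (Nat.add (Nat.succ 58023) k)) 293 = true := by decide +kernel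
theorem s4c188 : allBelow (fun k => fs4 (Nat.add (Nat.succ 58316) k)) 324 = true := by decide +kernel
theorem s4c189 : allBelow (fun k => fs4 (Nat.add (Nat.succ 58640) k)) 434 = true := by decide +kernel
theorem s4c190 : allBelow (fun k => fs4 (Nat.add (Nat.succ 59074) k)) 362 = true := by decide +kernel
theorem s4c191 : allBelow (fun k => fs4 (Nat.add (Nat.succ 59436) k)) 384 = true := by decide +kernel
theorem s4c192 : allBelow (fun k => fs4 (Nat.add (Nat.succ 59820) k)) 364 = true := by decide +kernel
theorem s4c193 : allBelow (fun k => fs4 (Nat.add (Nat.succ 60184) k)) 277 = true := by decide +kernel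
theorem s4c194 : allBelow (fun k => fs4 (Nat.add (Nat.succ 60461) k)) 325 = true := by decide +kernel
theorem s4c195 : allBelow (fun k => fs4 (Nat.add (Nat.succ 60786) k)) 326 = true := by decide +kernel
theorem s4c196 : allBelow (fun k => fs4 (Nat.add (Nat.succ 61112) k)) 426 = true := by decide +kernel
theorem s4c197 : allBelow (fun k => fs4 (Nat.add (Nat.succ 61538) k)) 426 = true := by decide +kernel
theorem s4c198 : allBelow (fun k => fs4 (Nat.add (Nat.succ 61964) k)) 297 = true := by decide +kernel
theorem s4c199 : allBelow (fun k => fs4 (Nat.add (Nat.succ 62261) k)) 293 = true := by decide +kernel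
theorem s4c200 : allBelow (fun k => fs4 (Nat.add (Nat.succ 62554) k)) 276 = true := by decide +kernel
theorem s4c201 : allBelow (fun k => fs4 (Nat.add (Nat.succ 62830) k)) 341 = true := by decide +kernel
theorem s4c202 : allBelow (fun k => fs4 (Nat.add (Nat.succ 63171) k)) 276 = true := by decide +kernel
theorem s4c203 : allBelow (fun k => fs4 (Nat.add (Nat.succ 63447) k)) 293 = true := by decide +kernel
theorem s4c204 : allBelow (fun k => fs4 (Nat.add (Nat.succ 63740) k)) 307 = true := by decide +kernel
theorem s4c205 : allBelow (fun k => fs4 (Nat.add (Nat.succ 64047) k)) 292 = true := by decide +kernel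
theorem s4c206 : allBelow (fun k => fs4 (Nat.add (Nat.succ 64339) k)) 276 = true := by decide +kernel
theorem s4c207 : allBelow (fun k => fs4 (Nat.add (Nat.succ 64615) k)) 290 = true := by decide +kernel
theorem s4c208 : allBelow (fun k => fs4 (Nat.add (Nat.succ 64905) k)) 291 = true := by decide +kernel
theorem s4c209 : allBelow (fun k => fs4 (Nat.add (Nat.succ 65196) k)) 327 = true := by decide +kernel
theorem s4c210 : allBelow (fun k => fs4 (Nat.add (Nat.succ 65523) k)) 343 = true := by decide +kernel
theorem s4c211 : allBelow (fun k => fs4 (Nat.add (Nat.succ 65866) k)) 377 = true := by decide +kernel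
theorem s4c212 : allBelow (fun k => fs4 (Nat.add (Nat.succ 66243) k)) 356 = true := by decide +kernel
theorem s4c213 : allBelow (fun k => fs4 (Nat.add (Nat.succ 66599) k)) 328 = true := by decide +kernel
theorem s4c214 : allBelow (fun k => fs4 (Nat.add (Nat.succ 66927) k)) 358 = true := by decide +kernel
theorem s4c215 : allBelow (fun k => fs4 (Nat.add (Nat.succ 67285) k)) 428 = true := by decide +kernel
theorem s4c216 : allBelow (fun k => fs4 (Nat.add (Nat.succ 67713) k)) 404 = true := by decide +kernel
theorem s4c217 : allBelow (fun k => fs4 (Nat.add (Nat.succ 68117) k)) 319 = true := by decide +kernel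
theorem s4c218 : allBelow (fun k => fs4 (Nat.add (Nat.succ 68436) k)) 289 = true := by decide +kernel
theorem s4c219 : allBelow (fun k => fs4 (Nat.add (Nat.succ 68725) k)) 335 = true := by decide +kernel
theorem s4c220 : allBelow (fun k => fs4 (Nat.add (Nat.succ 69060) k)) 324 = true := by decide +kernel
theorem s4c221 : allBelow (fun k => fs4 (Nat.add (Nat.succ 69384) k)) 364 = true := by decide +kernel
theorem s4c222 : allBelow (fun k => fs4 (Nat.add (Nat.succ 69748) k)) 406 = true := by decide +kernel
theorem s4c223 : allBelow (fun k => fs4 (Nat.add (Nat.succ 70154) k)) 443 = true := by decide +kernel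
theorem s4c224 : allBelow (fun k => fs4 (Nat.add (Nat.succ 70597) k)) 461 = true := by decide +kernel
theorem s4c225 : allBelow (fun k => fs4 (Nat.add (Nat.succ 71058) k)) 401 = true := by decide +kernel
theorem s4c226 : allBelow (fun k => fs4 (Nat.add (Nat.succ 71459) k)) 296 = true := by decide +kernel
theorem s4c227 : allBelow (fun k => fs4 (Nat.add (Nat.succ 71755) k)) 329 = true := by decide +kernel
theorem s4c228 : allBelow (fun k => fs4 (Nat.add (Nat.succ 72084) k)) 313 = true := by decide +kernel
theorem s4c229 : allBelow (fun k => fs4 (Nat.add (Nat.succ 72397) k)) 330 = true := by decide +kernel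
theorem s4c230 : allBelow (fun k => fs4 (Nat.add (Nat.succ 72727) k)) 367 = true := by decide +kernel
theorem s4c231 : allBelow (fun k => fs4 (Nat.add (Nat.succ 73094) k)) 506 = true := by decide +kernel
theorem s4c232 : allBelow (fun k => fs4 (Nat.add (Nat.succ 73600) k)) 474 = true := by decide +kernel
theorem s4c233 : allBelow (fun k => fs4 (Nat.add (Nat.succ 74074) k)) 375 = true := by decide +kernel
theorem s4c234 : allBelow (fun k => fs4 (Nat.add (Nat.succ 74449) k)) 404 = true := by decide +kernel
theorem s4c235 : allBelow (fun k => fs4 (Nat.add (Nat.succ 74853) k)) 482 = true := by decide +kernel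
theorem s4c236 : allBelow (fun k => fs4 (Nat.add (Nat.succ 75335) k)) 272 = true := by decide +kernel
theorem s4c237 : allBelow (fun k => fs4 (Nat.add (Nat.succ 75607) k)) 268 = true := by decide +kernel
theorem s4c238 : allBelow (fun k => fs4 (Nat.add (Nat.succ 75875) k)) 302 = true := by decide +kernel
theorem s4c239 : allBelow (fun k => fs4 (Nat.add (Nat.succ 76177) k)) 278 = true := by decide +kernel
theorem s4c240 : allBelow (fun k => fs4 (Nat.add (Nat.succ 76455) k)) 290 = true := by decide +kernel
theorem s4c241 : allBelow (fun k => fs4 (Nat.add (Nat.succ 76745) k)) 336 = true := by decide +kernel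
theorem s4c242 : allBelow (fun k => fs4 (Nat.add (Nat.succ 77081) k)) 295 = true := by decide +kernel
theorem s4c243 : allBelow (fun k => fs4 (Nat.add (Nat.succ 77376) k)) 285 = true := by decide +kernel
theorem s4c244 : allBelow (fun k => fs4 (Nat.add (Nat.succ 77661) k)) 292 = true := by decide +kernel
theorem s4c245 : allBelow (fun k => fs4 (Nat.add (Nat.succ 77953) k)) 311 = true := by decide +kernel
theorem s4c246 : allBelow (fun k => fs4 (Nat.add (Nat.succ 78264) k)) 313 = true := by decide +kernel
theorem s4c247 : allBelow (fun k => fs4 (Nat.add (Nat.succ 78577) k)) 397 = true := by decide +kernel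
theorem s4c248 : allBelow (fun k => fs4 (Nat.add (Nat.succ 78974) k)) 453 = true := by decide +kernel
theorem s4c249 : allBelow (fun k => fs4 (Nat.add (Nat.succ 79427) k)) 383 = true := by decide +kernel
theorem s4c250 : allBelow (fun k => fs4 (Nat.add (Nat.succ 79810) k)) 409 = true := by decide +kernel
theorem s4c251 : allBelow (fun k => fs4 (Nat.add (Nat.succ 80219) k)) 360 = true := by decide +kernel
theorem s4c252 : allBelow (fun k => fs4 (Nat.add (Nat.succ 80579) k)) 296 = true := by decide +kernel
theorem s4c253 : allBelow (fun k => fs4 (Nat.add (Nat.succ 80875) k)) 342 = true := by decide +kernel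
theorem s4c254 : allBelow (fun k => fs4 (Nat.add (Nat.succ 81217) k)) 341 = true := by decide +kernel
theorem s4c255 : allBelow (fun k => fs4 (Nat.add (Nat.succ 81558) k)) 371 = true := by decide +kernel
theorem s4c256 : allBelow (fun k => fs4 (Nat.add (Nat.succ 81929) k)) 410 = true := by decide +kernel
theorem s4c257 : allBelow (fun k => fs4 (Nat.add (Nat.succ 82339) k)) 432 = true := by decide +kernel
theorem s4c258 : allBelow (fun k => fs4 (Nat.add (Nat.succ 82771) k)) 292 = true := by decide +kernel
theorem s4c259 : allBelow (fun k => fs4 (Nat.add (Nat.succ 83063) k)) 330 = true := by decide +kernel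
theorem s4c260 : allBelow (fun k => fs4 (Nat.add (Nat.succ 83393) k)) 261 = true := by decide +kernel
theorem s4c261 : allBelow (fun k => fs4 (Nat.add (Nat.succ 83654) k)) 289 = true := by decide +kernel
theorem s4c262 : allBelow (fun k => fs4 (Nat.add (Nat.succ 83943) k)) 344 = true := by decide +kernel
theorem s4c263 : allBelow (fun k => fs4 (Nat.add (Nat.succ 84287) k)) 314 = true := by decide +kernel
theorem s4c264 : allBelow (fun k => fs4 (Nat.add (Nat.succ 84601) k)) 276 = true := by decide +kernel
theorem s4c265 : allBelow (fun k => fs4 (Nat.add (Nat.succ 84877) k)) 301 = true := by decide +kernel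
theorem s4c266 : allBelow (fun k => fs4 (Nat.add (Nat.succ 85178) k)) 316 = true := by decide +kernel
theorem s4c267 : allBelow (fun k => fs4 (Nat.add (Nat.succ 85494) k)) 330 = true := by decide +kernel
theorem s4c268 : allBelow (fun k => fs4 (Nat.add (Nat.succ 85824) k)) 279 = true := by decide +kernel
theorem s4c269 : allBelow (fun k => fs4 (Nat.add (Nat.succ 86103) k)) 291 = true := by decide +kernel
theorem s4c270 : allBelow (fun k => fs4 (Nat.add (Nat.succ 86394) k)) 281 = true := by decide +kernel
theorem s4c271 : allBelow (fun k => fs4 (Nat.add (Nat.succ 86675) k)) 307 = true := by decide +kernel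
theorem s4c272 : allBelow (fun k => fs4 (Nat.add (Nat.succ 86982) k)) 310 = true := by decide +kernel
theorem s4c273 : allBelow (fun k => fs4 (Nat.add (Nat.succ 87292) k)) 308 = true := by decide +kernel
theorem s4c274 : allBelow (fun k => fs4 (Nat.add (Nat.succ 87600) k)) 343 = true := by decide +kernel
theorem s4c275 : allBelow (fun k => fs4 (Nat.add (Nat.succ 87943) k)) 410 = true := by decide +kernel
theorem s4c276 : allBelow (fun k => fs4 (Nat.add (Nat.succ 88353) k)) 408 = true := by decide +kernel
theorem s4c277 : allBelow (fun k => fs4 (Nat.add (Nat.succ 88761) k)) 350 = true := by decide +kernel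
theorem s4c278 : allBelow (fun k => fs4 (Nat.add (Nat.succ 89111) k)) 339 = true := by decide +kernel
theorem s4c279 : allBelow (fun k => fs4 (Nat.add (Nat.succ 89450) k)) 409 = true := by decide +kernel
theorem s4c280 : allBelow (fun k => fs4 (Nat.add (Nat.succ 89859) k)) 391 = true := by decide +kernel
theorem s4c281 : allBelow (fun k => fs4 (Nat.add (Nat.succ 90250) k)) 452 = true := by decide +kernel
theorem s4c282 : allBelow (fun k => fs4 (Nat.add (Nat.succ 90702) k)) 295 = true := by decide +kernel
theorem s4c283 : allBelow (fun k => fs4 (Nat.add (Nat.succ 90997) k)) 343 = true := by decide +kernel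
theorem s4c284 : allBelow (fun k => fs4 (Nat.add (Nat.succ 91340) k)) 328 = true := by decide +kernel
theorem s4c285 : allBelow (fun k => fs4 (Nat.add (Nat.succ 91668) k)) 351 = true := by decide +kernel
theorem s4c286 : allBelow (fun k => fs4 (Nat.add (Nat.succ 92019) k)) 348 = true := by decide +kernel
theorem s4c287 : allBelow (fun k => fs4 (Nat.add (Nat.succ 92367) k)) 346 = true := by decide +kernel
theorem s4c288 : allBelow (fun k => fs4 (Nat.add (Nat.succ 92713) k)) 416 = true := by decide +kernel
theorem s4c289 : allBelow (fun k => fs4 (Nat.add (Nat.succ 93129) k)) 447 = true := by decide +kernel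
theorem s4c290 : allBelow (fun k => fs4 (Nat.add (Nat.succ 93576) k)) 472 = true := by decide +kernel
theorem s4c291 : allBelow (fun k => fs4 (Nat.add (Nat.succ 94048) k)) 410 = true := by decide +kernel
theorem s4c292 : allBelow (fun k => fs4 (Nat.add (Nat.succ 94458) k)) 310 = true := by decide +kernel
theorem s4c293 : allBelow (fun k => fs4 (Nat.add (Nat.succ 94768) k)) 322 = true := by decide +kernel
theorem s4c294 : allBelow (fun k => fs4 (Nat.add (Nat.succ 95090) k)) 371 = true := by decide +kernel
theorem s4c295 : allBelow (fun k => fs4 (Nat.add (Nat.succ 95461) k)) 322 = true := by decide +kernel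
theorem s4c296 : allBelow (fun k => fs4 (Nat.add (Nat.succ 95783) k)) 342 = true := by decide +kernel
theorem s4c297 : allBelow (fun k => fs4 (Nat.add (Nat.succ 96125) k)) 341 = true := by decide +kernel
theorem s4c298 : allBelow (fun k => fs4 (Nat.add (Nat.succ 96466) k)) 534 = true := by decide +kernel
theorem s4c299 : allBelow (fun k => fs4 (Nat.add (Nat.succ 97000) k)) 485 = true := by decide +kernel
theorem s4c300 : allBelow (fun k => fs4 (Nat.add (Nat.succ 97485) k)) 376 = true := by decide +kernel
theorem s4c301 : allBelow (fun k => fs4 (Nat.add (Nat.succ 97861) k)) 425 = true := by decide +kernel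
theorem s4c302 : allBelow (fun k => fs4 (Nat.add (Nat.succ 98286) k)) 503 = true := by decide +kernel
theorem s4c303 : allBelow (fun k => fs4 (Nat.add (Nat.succ 98789) k)) 296 = true := by decide +kernel
theorem s4c304 : allBelow (fun k => fs4 (Nat.add (Nat.succ 99085) k)) 257 = true := by decide +kernel
theorem s4c305 : allBelow (fun k => fs4 (Nat.add (Nat.succ 99342) k)) 290 = true := by decide +kernel
theorem s4c306 : allBelow (fun k => fs4 (Nat.add (Nat.succ 99632) k)) 297 = true := by decide +kernel
theorem s4c307 : allBelow (fun k => fs4 (Nat.add (Nat.succ 99929) k)) 291 = true := by decide +kernel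
theorem s4c308 : allBelow (fun k => fs4 (Nat.add (Nat.succ 100220) k)) 278 = true := by decide +kernel
theorem s4c309 : allBelow (fun k => fs4 (Nat.add (Nat.succ 100498) k)) 294 = true := by decide +kernel
theorem s4c310 : allBelow (fun k => fs4 (Nat.add (Nat.succ 100792) k)) 333 = true := by decide +kernel
theorem s4c311 : allBelow (fun k => fs4 (Nat.add (Nat.succ 101125) k)) 352 = true := by decide +kernel
theorem s4c312 : allBelow (fun k => fs4 (Nat.add (Nat.succ 101477) k)) 273 = true := by decide +kernel
theorem s4c313 : allBelow (fun k => fs4 (Nat.add (Nat.succ 101750) k)) 302 = true := by decide +kernel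
theorem s4c314 : allBelow (fun k => fs4 (Nat.add (Nat.succ 102052) k)) 315 = true := by decide +kernel
theorem s4c315 : allBelow (fun k => fs4 (Nat.add (Nat.succ 102367) k)) 298 = true := by decide +kernel
theorem s4c316 : allBelow (fun k => fs4 (Nat.add (Nat.succ 102665) k)) 308 = true := by decide +kernel
theorem s4c317 : allBelow (fun k => fs4 (Nat.add (Nat.succ 102973) k)) 325 = true := by decide +kernel
theorem s4c318 : allBelow (fun k => fs4 (Nat.add (Nat.succ 103298) k)) 418 = true := by decide +kernel
theorem s4c319 : allBelow (fun k => fs4 (Nat.add (Nat.succ 103716) k)) 449 = true := by decide +kernel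
theorem s4c320 : allBelow (fun k => fs4 (Nat.add (Nat.succ 104165) k)) 424 = true := by decide +kernel
theorem s4c321 : allBelow (fun k => fs4 (Nat.add (Nat.succ 104589) k)) 433 = true := by decide +kernel
theorem s4c322 : allBelow (fun k => fs4 (Nat.add (Nat.succ 105022) k)) 330 = true := by decide +kernel
theorem s4c323 : allBelow (fun k => fs4 (Nat.add (Nat.succ 105352) k)) 302 = true := by decide +kernel
theorem s4c324 : allBelow (fun k => fs4 (Nat.add (Nat.succ 105654) k)) 352 = true := by decide +kernel
theorem s4c325 : allBelow (fun k => fs4 (Nat.add (Nat.succ 106006) k)) 365 = true := by decide +kernel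
theorem s4c326 : allBelow (fun k => fs4 (Nat.add (Nat.succ 106371) k)) 371 = true := by decide +kernel
theorem s4c327 : allBelow (fun k => fs4 (Nat.add (Nat.succ 106742) k)) 436 = true := by decide +kernel
theorem s4c328 : allBelow (fun k => fs4 (Nat.add (Nat.succ 107178) k)) 420 = true := by decide +kernel
theorem s4c329 : allBelow (fun k => fs4 (Nat.add (Nat.succ 107598) k)) 279 = true := by decide +kernel
theorem s4c330 : allBelow (fun k => fs4 (Nat.add (Nat.succ 107877) k)) 309 = true := by decide +kernel
theorem s4c331 : allBelow (fun k => fs4 (Nat.add (Nat.succ 108186) k)) 294 = true := by decide +kernel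
theorem s4c332 : allBelow (fun k => fs4 (Nat.add (Nat.succ 108480) k)) 271 = true := by decide +kernel
theorem s4c333 : allBelow (fun k => fs4 (Nat.add (Nat.succ 108751) k)) 284 = true := by decide +kernel
theorem s4c334 : allBelow (fun k => fs4 (Nat.add (Nat.succ 109035) k)) 326 = true := by decide +kernel
theorem s4c335 : allBelow (fun k => fs4 (Nat.add (Nat.succ 109361) k)) 367 = true := by decide +kernel
theorem s4c336 : allBelow (fun k => fs4 (Nat.add (Nat.succ 109728) k)) 281 = true := by decide +kernel
theorem s4c337 : allBelow (fun k => fs4 (Nat.add (Nat.succ 110009) k)) 279 = true := by decide +kernel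
theorem s4c338 : allBelow (fun k => fs4 (Nat.add (Nat.succ 110288) k)) 280 = true := by decide +kernel
theorem s4c339 : allBelow (fun k => fs4 (Nat.add (Nat.succ 110568) k)) 335 = true := by decide +kernel
theorem s4c340 : allBelow (fun k => fs4 (Nat.add (Nat.succ 110903) k)) 315 = true := by decide +kernel
theorem s4c341 : allBelow (fun k => fs4 (Nat.add (Nat.succ 111218) k)) 334 = true := by decide +kernel
theorem s4c342 : allBelow (fun k => fs4 (Nat.add (Nat.succ 111552) k)) 303 = true := by decide +kernel
theorem s4c343 : allBelow (fun k => fs4 (Nat.add (Nat.succ 111855) k)) 282 = true := by decide +kernel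
theorem s4c344 : allBelow (fun k => fs4 (Nat.add (Nat.succ 112137) k)) 300 = true := by decide +kernel
theorem s4c345 : allBelow (fun k => fs4 (Nat.add (Nat.succ 112437) k)) 283 = true := by decide +kernel
theorem s4c346 : allBelow (fun k => fs4 (Nat.add (Nat.succ 112720) k)) 315 = true := by decide +kernel
theorem s4c347 : allBelow (fun k => fs4 (Nat.add (Nat.succ 113035) k)) 314 = true := by decide +kernel
theorem s4c348 : allBelow (fun k => fs4 (Nat.add (Nat.succ 113349) k)) 323 = true := by decide +kernel
theorem s4c349 : allBelow (fun k => fs4 (Nat.add (Nat.succ 113672) k)) 329 = true := by decide +kernel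
theorem s4c350 : allBelow (fun k => fs4 (Nat.add (Nat.succ 114001) k)) 319 = true := by decide +kernel
theorem s4c351 : allBelow (fun k => fs4 (Nat.add (Nat.succ 114320) k)) 341 = true := by decide +kernel
theorem s4c352 : allBelow (fun k => fs4 (Nat.add (Nat.succ 114661) k)) 402 = true := by decide +kernel
theorem s4c353 : allBelow (fun k => fs4 (Nat.add (Nat.succ 115063) k)) 399 = true := by decide +kernel
theorem s4c354 : allBelow (fun k => fs4 (Nat.add (Nat.succ 115462) k)) 364 = true := by decide +kernel
theorem s4c355 : allBelow (fun k => fs4 (Nat.add (Nat.succ 115826) k)) 364 = true := by decide +kernel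
theorem s4c356 : allBelow (fun k => fs4 (Nat.add (Nat.succ 116190) k)) 430 = true := by decide +kernel
theorem s4c357 : allBelow (fun k => fs4 (Nat.add (Nat.succ 116620) k)) 385 = true := by decide +kernel
theorem s4c358 : allBelow (fun k => fs4 (Nat.add (Nat.succ 117005) k)) 433 = true := by decide +kernel
theorem s4c359 : allBelow (fun k => fs4 (Nat.add (Nat.succ 117438) k)) 337 = true := by decide +kernel
theorem s4c360 : allBelow (fun k => fs4 (Nat.add (Nat.succ 117775) k)) 349 = true := by decide +kernel
theorem s4c361 : allBelow (fun k => fs4 (Nat.add (Nat.succ 118124) k)) 375 = true := by decide +kernel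
theorem s4c362 : allBelow (fun k => fs4 (Nat.add (Nat.succ 118499) k)) 317 = true := by decide +kernel
theorem s4c363 : allBelow (fun k => fs4 (Nat.add (Nat.succ 118816) k)) 366 = true := by decide +kernel
theorem s4c364 : allBelow (fun k => fs4 (Nat.add (Nat.succ 119182) k)) 353 = true := by decide +kernel
theorem s4c365 : allBelow (fun k => fs4 (Nat.add (Nat.succ 119535) k)) 456 = true := by decide +kernel
theorem s4c366 : allBelow (fun k => fs4 (Nat.add (Nat.succ 119991) k)) 458 = true := by decide +kernel
theorem s4c367 : allBelow (fun k => fs4 (Nat.add (Nat.succ 120449) k)) 313 = true := by decide +kernel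
theorem s4c368 : allBelow (fun k => fs4 (Nat.add (Nat.succ 120762) k)) 312 = true := by decide +kernel
theorem s4c369 : allBelow (fun k => fs4 (Nat.add (Nat.succ 121074) k)) 315 = true := by decide +kernel

end Cfsg.Agent.Lib.Helper35.Fi24a
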