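import Cfsg.Agent.Lib.Helper35.Fi24a.Data

set_option Elab.async false

namespace Cfsg.Agent.Lib.Helper35.Fi24a

open Cfsg.Agent.Lib.Helper35

theorem s4c370 : allBelow (fun k => fs4 (Nat.add (Nat.succ 121389) k)) 377 = true := by decide +kernel
theorem s4c371 : allBelow (fun k => fs4 (Nat.add (Nat.succ 121766) k)) 351 = true := by decide +kernel
theorem s4c372 : allBelow (fun k => fs4 (Nat.add (Nat.succ 122117) k)) 335 = true := by decide +kernel
theorem s4c373 : allBelow (fun k => fs4 (Nat.add (Nat.succ 122452) k)) 317 = true := by decide +kernel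
theorem s4c374 : allBelow (fun k => fs4 (Nat.add (Nat.succ 122769) k)) 362 = true := by decide +kernel
theorem s4c375 : allBelow (fun k => fs4 (Nat.add (Nat.succ 123131) k)) 518 = true := by decide +kernel
theorem s4c376 : allBelow (fun k => fs4 (Nat.add (Nat.succ 123649) k)) 369 = true := by decide +kernel
theorem s4c377 : allBelow (fun k => fs4 (Nat.add (Nat.succ 124018) k)) 430 = true := by decide +kernel
theorem s4c378 : allBelow (fun k => fs4 (Nat.add (Nat.succ 124448) k)) 385 = true := by decide +kernel
theorem s4c379 : allBelow (fun k => fs4 (Nat.add (Nat.succ 124833) k)) 259 = true := by decide +kernel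
theorem s4c380 : allBelow (fun k => fs4 (Nat.add (Nat.succ 125092) k)) 251 = true := by decide +kernel
theorem s4c381 : allBelow (fun k => fs4 (Nat.add (Nat.succ 125343) k)) 262 = true := by decide +kernel
theorem s4c382 : allBelow (fun k => fs4 (Nat.add (Nat.succ 125605) k)) 242 = true := by decide +kernel
theorem s4c383 : allBelow (fun k => fs4 (Nat.add (Nat.succ 125847) k)) 268 = true := by decide +kernel
theorem s4c384 : allBelow (fun k => fs4 (Nat.add (Nat.succ 126115) k)) 266 = true := by decide +kernel
theorem s4c385 : allBelow (fun k => fs4 (Nat.add (Nat.succ 126381) k)) 263 = true := by decide +kernel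
theorem s4c386 : allBelow (fun k => fs4 (Nat.add (Nat.succ 126644) k)) 261 = true := by decide +kernel
theorem s4c387 : allBelow (fun k => fs4 (Nat.add (Nat.succ 126905) k)) 275 = true := by decide +kernel
theorem s4c388 : allBelow (fun k => fs4 (Nat.add (Nat.succ 127180) k)) 272 = true := by decide +kernel
theorem s4c389 : allBelow (fun k => fs4 (Nat.add (Nat.succ 127452) k)) 269 = true := by decide +kernel
theorem s4c390 : allBelow (fun k => fs4 (Nat.add (Nat.succ 127721) k)) 277 = true := by decide +kernel
theorem s4c391 : allBelow (fun k => fs4 (Nat.add (Nat.succ 127998) k)) 267 = true := by decide +kernel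
theorem s4c392 : allBelow (fun k => fs4 (Nat.add (Nat.succ 128265) k)) 271 = true := by decide +kernel
theorem s4c393 : allBelow (fun k => fs4 (Nat.add (Nat.succ 128536) k)) 260 = true := by decide +kernel
theorem s4c394 : allBelow (fun k => fs4 (Nat.add (Nat.succ 128796) k)) 258 = true := by decide +kernel
theorem s4c395 : allBelow (fun k => fs4 (Nat.add (Nat.succ 129054) k)) 267 = true := by decide +kernel
theorem s4c396 : allBelow (fun k => fs4 (Nat.add (Nat.succ 129321) k)) 269 = true := by decide +kernel
theorem s4c397 : allBelow (fun k => fs4 (Nat.add (Nat.succ 129590) k)) 259 = true := by decide +kernel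
theorem s4c398 : allBelow (fun k => fs4 (Nat.add (Nat.succ 129849) k)) 261 = true := by decide +kernel
theorem s4c399 : allBelow (fun k => fs4 (Nat.add (Nat.succ 130110) k)) 261 = true := by decide +kernel
theorem s4c400 : allBelow (fun k => fs4 (Nat.add (Nat.succ 130371) k)) 272 = true := by decide +kernel
theorem s4c401 : allBelow (fun k => fs4 (Nat.add (Nat.succ 130643) k)) 270 = true := by decide +kernel
theorem s4c402 : allBelow (fun k => fs4 (Nat.add (Nat.succ 130913) k)) 269 = true := by decide +kernel
theorem s4c403 : allBelow (fun k => fs4 (Nat.add (Nat.succ 131182) k)) 270 = true := by decide +kernel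
theorem s4c404 : allBelow (fun k => fs4 (Nat.add (Nat.succ 131452) k)) 275 = true := by decide +kernel
theorem s4c405 : allBelow (fun k => fs4 (Nat.add (Nat.succ 131727) k)) 259 = true := by decide +kernel
theorem s4c406 : allBelow (fun k => fs4 (Nat.add (Nat.succ 131986) k)) 264 = true := by decide +kernel
theorem s4c407 : allBelow (fun k => fs4 (Nat.add (Nat.succ 132250) k)) 269 = true := by decide +kernel
theorem s4c408 : allBelow (fun k => fs4 (Nat.add (Nat.succ 132519) k)) 276 = true := by decide +kernel
theorem s4c409 : allBelow (fun k => fs4 (Nat.add (Nat.succ 132795) k)) 271 = true := by decide +kernel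
theorem s4c410 : allBelow (fun k => fs4 (Nat.add (Nat.succ 133066) k)) 275 = true := by decide +kernel
theorem s4c411 : allBelow (fun k => fs4 (Nat.add (Nat.succ 133341) k)) 263 = true := by decide +kernel
theorem s4c412 : allBelow (fun k => fs4 (Nat.add (Nat.succ 133604) k)) 278 = true := by decide +kernel
theorem s4c413 : allBelow (fun k => fs4 (Nat.add (Nat.succ 133882) k)) 272 = true := by decide +kernel
theorem s4c414 : allBelow (fun k => fs4 (Nat.add (Nat.succ 134154) k)) 275 = true := by decide +kernel
theorem s4c415 : allBelow (fun k => fs4 (Nat.add (Nat.succ 134429) k)) 281 = true := by decide +kernel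
theorem s4c416 : allBelow (fun k => fs4 (Nat.add (Nat.succ 134710) k)) 277 = true := by decide +kernel
theorem s4c417 : allBelow (fun k => fs4 (Nat.add (Nat.succ 134987) k)) 281 = true := by decide +kernel
theorem s4c418 : allBelow (fun k => fs4 (Nat.add (Nat.succ 135268) k)) 280 = true := by decide +kernel
theorem s4c419 : allBelow (fun k => fs4 (Nat.add (Nat.succ 135548) k)) 287 = true := by decide +kernel
theorem s4c420 : allBelow (fun k => fs4 (Nat.add (Nat.succ 135835) k)) 282 = true := by decide +kernel
theorem s4c421 : allBelow (fun k => fs4 (Nat.add (Nat.succ 136117) k)) 288 = true := by decide +kernel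
theorem s4c422 : allBelow (fun k => fs4 (Nat.add (Nat.succ 136405) k)) 276 = true := by decide +kernel
theorem s4c423 : allBelow (fun k => fs4 (Nat.add (Nat.succ 136681) k)) 256 = true := by decide +kernel
theorem s4c424 : allBelow (fun k => fs4 (Nat.add (Nat.succ 136937) k)) 279 = true := by decide +kernel
theorem s4c425 : allBelow (fun k => fs4 (Nat.add (Nat.succ 137216) k)) 276 = true := by decide +kernel
theorem s4c426 : allBelow (fun k => fs4 (Nat.add (Nat.succ 137492) k)) 273 = true := by decide +kernel
theorem s4c427 : allBelow (fun k => fs4 (Nat.add (Nat.succ 137765) k)) 275 = true := by decide +kernel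
theorem s4c428 : allBelow (fun k => fs4 (Nat.add (Nat.succ 138040) k)) 278 = true := by decide +kernel
theorem s4c429 : allBelow (fun k => fs4 (Nat.add (Nat.succ 138318) k)) 273 = true := by decide +kernel
theorem s4c430 : allBelow (fun k => fs4 (Nat.add (Nat.succ 138591) k)) 269 = true := by decide +kernel
theorem s4c431 : allBelow (fun k => fs4 (Nat.add (Nat.succ 138860) k)) 264 = true := by decide +kernel
theorem s4c432 : allBelow (fun k => fs4 (Nat.add (Nat.succ 139124) k)) 248 = true := by decide +kernel
theorem s4c433 : allBelow (fun k => fs4 (Nat.add (Nat.succ 139372) k)) 262 = true := by decide +kernel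
theorem s4c434 : allBelow (fun k => fs4 (Nat.add (Nat.succ 139634) k)) 263 = true := by decide +kernel
theorem s4c435 : allBelow (fun k => fs4 (Nat.add (Nat.succ 139897) k)) 264 = true := by decide +kernel
theorem s4c436 : allBelow (fun k => fs4 (Nat.add (Nat.succ 140161) k)) 269 = true := by decide +kernel
theorem s4c437 : allBelow (fun k => fs4 (Nat.add (Nat.succ 140430) k)) 263 = true := by decide +kernel
theorem s4c438 : allBelow (fun k => fs4 (Nat.add (Nat.succ 140693) k)) 241 = true := by decide +kernel
theorem s4c439 : allBelow (fun k => fs4 (Nat.add (Nat.succ 140934) k)) 262 = true := by decide +kernel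
theorem s4c440 : allBelow (fun k => fs4 (Nat.add (Nat.succ 141196) k)) 260 = true := by decide +kernel
theorem s4c441 : allBelow (fun k => fs4 (Nat.add (Nat.succ 141456) k)) 262 = true := by decide +kernel
theorem s4c442 : allBelow (fun k => fs4 (Nat.add (Nat.succ 141718) k)) 255 = true := by decide +kernel
theorem s4c443 : allBelow (fun k => fs4 (Nat.add (Nat.succ 141973) k)) 258 = true := by decide +kernel
theorem s4c444 : allBelow (fun k => fs4 (Nat.add (Nat.succ 142231) k)) 245 = true := by decide +kernel
theorem s4c445 : allBelow (fun k => fs4 (Nat.add (Nat.succ 142476) k)) 263 = true := by decide +kernel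
theorem s4c446 : allBelow (fun k => fs4 (Nat.add (Nat.succ 142739) k)) 264 = true := by decide +kernel
theorem s4c447 : allBelow (fun k => fs4 (Nat.add (Nat.succ 143003) k)) 264 = true := by decide +kernel
theorem s4c448 : allBelow (fun k => fs4 (Nat.add (Nat.succ 143267) k)) 267 = true := by decide +kernel
theorem s4c449 : allBelow (fun k => fs4 (Nat.add (Nat.succ 143534) k)) 266 = true := by decide +kernel
theorem s4c450 : allBelow (fun k => fs4 (Nat.add (Nat.succ 143800) k)) 272 = true := by decide +kernel
theorem s4c451 : allBelow (fun k => fs4 (Nat.add (Nat.succ 144072) k)) 261 = true := by decide +kernel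
theorem s4c452 : allBelow (fun k => fs4 (Nat.add (Nat.succ 144333) k)) 272 = true := by decide +kernel
theorem s4c453 : allBelow (fun k => fs4 (Nat.add (Nat.succ 144605) k)) 271 = true := by decide +kernel
theorem s4c454 : allBelow (fun k => fs4 (Nat.add (Nat.succ 144876) k)) 278 = true := by decide +kernel
theorem s4c455 : allBelow (fun k => fs4 (Nat.add (Nat.succ 145154) k)) 273 = true := by decide +kernel
theorem s4c456 : allBelow (fun k => fs4 (Nat.add (Nat.succ 145427) k)) 271 = true := by decide +kernel
theorem s4c457 : allBelow (fun k => fs4 (Nat.add (Nat.succ 145698) k)) 270 = true := by decide +kernel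
theorem s4c458 : allBelow (fun k => fs4 (Nat.add (Nat.succ 145968) k)) 236 = true := by decide +kernel
theorem s4c459 : allBelow (fun k => fs4 (Nat.add (Nat.succ 146204) k)) 263 = true := by decide +kernel
theorem s4c460 : allBelow (fun k => fs4 (Nat.add (Nat.succ 146467) k)) 265 = true := by decide +kernel
theorem s4c461 : allBelow (fun k => fs4 (Nat.add (Nat.succ 146732) k)) 267 = true := by decide +kernel
theorem s4c462 : allBelow (fun k => fs4 (Nat.add (Nat.succ 146999) k)) 257 = true := by decide +kernel
theorem s4c463 : allBelow (fun k => fs4 (Nat.add (Nat.succ 147256) k)) 259 = true := by decide +kernel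
theorem s4c464 : allBelow (fun k => fs4 (Nat.add (Nat.succ 147515) k)) 261 = true := by decide +kernel
theorem s4c465 : allBelow (fun k => fs4 (Nat.add (Nat.succ 147776) k)) 278 = true := by decide +kernel
theorem s4c466 : allBelow (fun k => fs4 (Nat.add (Nat.succ 148054) k)) 265 = true := by decide +kernel
theorem s4c467 : allBelow (fun k => fs4 (Nat.add (Nat.succ 148319) k)) 274 = true := by decide +kernel
theorem s4c468 : allBelow (fun k => fs4 (Nat.add (Nat.succ 148593) k)) 276 = true := by decide +kernel
theorem s4c469 : allBelow (fun k => fs4 (Nat.add (Nat.succ 148869) k)) 277 = true := by decide +kernel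
theorem s4c470 : allBelow (fun k => fs4 (Nat.add (Nat.succ 149146) k)) 260 = true := by decide +kernel
theorem s4c471 : allBelow (fun k => fs4 (Nat.add (Nat.succ 149406) k)) 264 = true := by decide +kernel
theorem s4c472 : allBelow (fun k => fs4 (Nat.add (Nat.succ 149670) k)) 269 = true := by decide +kernel
theorem s4c473 : allBelow (fun k => fs4 (Nat.add (Nat.succ 149939) k)) 280 = true := by decide +kernel
theorem s4c474 : allBelow (fun k => fs4 (Nat.add (Nat.succ 150219) k)) 273 = true := by decide +kernel
theorem s4c475 : allBelow (fun k => fs4 (Nat.add (Nat.succ 150492) k)) 276 = true := by decide +kernel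
theorem s4c476 : allBelow (fun k => fs4 (Nat.add (Nat.succ 150768) k)) 284 = true := by decide +kernel
theorem s4c477 : allBelow (fun k => fs4 (Nat.add (Nat.succ 151052) k)) 265 = true := by decide +kernel
theorem s4c478 : allBelow (fun k => fs4 (Nat.add (Nat.succ 151317) k)) 274 = true := by decide +kernel
theorem s4c479 : allBelow (fun k => fs4 (Nat.add (Nat.succ 151591) k)) 277 = true := by decide +kernel
theorem s4c480 : allBelow (fun k => fs4 (Nat.add (Nat.succ 151868) k)) 269 = true := by decide +kernel
theorem s4c481 : allBelow (fun k => fs4 (Nat.add (Nat.succ 152137) k)) 277 = true := by decide +kernel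
theorem s4c482 : allBelow (fun k => fs4 (Nat.add (Nat.succ 152414) k)) 277 = true := by decide +kernel
theorem s4c483 : allBelow (fun k => fs4 (Nat.add (Nat.succ 152691) k)) 281 = true := by decide +kernel
theorem s4c484 : allBelow (fun k => fs4 (Nat.add (Nat.succ 152972) k)) 274 = true := by decide +kernel
theorem s4c485 : allBelow (fun k => fs4 (Nat.add (Nat.succ 153246) k)) 283 = true := by decide +kernel
theorem s4c486 : allBelow (fun k => fs4 (Nat.add (Nat.succ 153529) k)) 279 = true := by decide +kernel
theorem s4c487 : allBelow (fun k => fs4 (Nat.add (Nat.succ 153808) k)) 287 = true := by decide +kernel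
theorem s4c488 : allBelow (fun k => fs4 (Nat.add (Nat.succ 154095) k)) 272 = true := by decide +kernel
theorem s4c489 : allBelow (fun k => fs4 (Nat.add (Nat.succ 154367) k)) 279 = true := by decide +kernel
theorem s4c490 : allBelow (fun k => fs4 (Nat.add (Nat.succ 154646) k)) 289 = true := by decide +kernel
theorem s4c491 : allBelow (fun k => fs4 (Nat.add (Nat.succ 154935) k)) 265 = true := by decide +kernel
theorem s4c492 : allBelow (fun k => fs4 (Nat.add (Nat.succ 155200) k)) 260 = true := by decide +kernel
theorem s4c493 : allBelow (fun k => fs4 (Nat.add (Nat.succ 155460) k)) 285 = true := by decide +kernel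
theorem s4c494 : allBelow (fun k => fs4 (Nat.add (Nat.succ 155745) k)) 276 = true := by decide +kernel
theorem s4c495 : allBelow (fun k => fs4 (Nat.add (Nat.succ 156021) k)) 275 = true := by decide +kernel
theorem s4c496 : allBelow (fun k => fs4 (Nat.add (Nat.succ 156296) k)) 271 = true := by decide +kernel
theorem s4c497 : allBelow (fun k => fs4 (Nat.add (Nat.succ 156567) k)) 266 = true := by decide +kernel
theorem s4c498 : allBelow (fun k => fs4 (Nat.add (Nat.succ 156833) k)) 263 = true := by decide +kernel
theorem s4c499 : allBelow (fun k => fs4 (Nat.add (Nat.succ 157096) k)) 265 = true := by decide +kernel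
theorem s4c500 : allBelow (fun k => fs4 (Nat.add (Nat.succ 157361) k)) 235 = true := by decide +kernel
theorem s4c501 : allBelow (fun k => fs4 (Nat.add (Nat.succ 157596) k)) 256 = true := by decide +kernel
theorem s4c502 : allBelow (fun k => fs4 (Nat.add (Nat.succ 157852) k)) 264 = true := by decide +kernel
theorem s4c503 : allBelow (fun k => fs4 (Nat.add (Nat.succ 158116) k)) 259 = true := by decide +kernel
theorem s4c504 : allBelow (fun k => fs4 (Nat.add (Nat.succ 158375) k)) 263 = true := by decide +kernel
theorem s4c505 : allBelow (fun k => fs4 (Nat.add (Nat.succ 158638) k)) 269 = true := by decide +kernel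
theorem s4c506 : allBelow (fun k => fs4 (Nat.add (Nat.succ 158907) k)) 252 = true := by decide +kernel
theorem s4c507 : allBelow (fun k => fs4 (Nat.add (Nat.succ 159159) k)) 259 = true := by decide +kernel
theorem s4c508 : allBelow (fun k => fs4 (Nat.add (Nat.succ 159418) k)) 265 = true := by decide +kernel
theorem s4c509 : allBelow (fun k => fs4 (Nat.add (Nat.succ 159683) k)) 267 = true := by decide +kernel
theorem s4c510 : allBelow (fun k => fs4 (Nat.add (Nat.succ 159950) k)) 261 = true := by decide +kernel
theorem s4c511 : allBelow (fun k => fs4 (Nat.add (Nat.succ 160211) k)) 253 = true := by decide +kernel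
theorem s4c512 : allBelow (fun k => fs4 (Nat.add (Nat.succ 160464) k)) 256 = true := by decide +kernel
theorem s4c513 : allBelow (fun k => fs4 (Nat.add (Nat.succ 160720) k)) 252 = true := by decide +kernel
theorem s4c514 : allBelow (fun k => fs4 (Nat.add (Nat.succ 160972) k)) 262 = true := by decide +kernel
theorem s4c515 : allBelow (fun k => fs4 (Nat.add (Nat.succ 161234) k)) 261 = true := by decide +kernel
theorem s4c516 : allBelow (fun k => fs4 (Nat.add (Nat.succ 161495) k)) 267 = true := by decide +kernel
theorem s4c517 : allBelow (fun k => fs4 (Nat.add (Nat.succ 161762) k)) 262 = true := by decide +kernel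
theorem s4c518 : allBelow (fun k => fs4 (Nat.add (Nat.succ 162024) k)) 283 = true := by decide +kernel
theorem s4c519 : allBelow (fun k => fs4 (Nat.add (Nat.succ 162307) k)) 261 = true := by decide +kernel
theorem s4c520 : allBelow (fun k => fs4 (Nat.add (Nat.succ 162568) k)) 273 = true := by decide +kernel
theorem s4c521 : allBelow (fun k => fs4 (Nat.add (Nat.succ 162841) k)) 263 = true := by decide +kernel
theorem s4c522 : allBelow (fun k => fs4 (Nat.add (Nat.succ 163104) k)) 268 = true := by decide +kernel
theorem s4c523 : allBelow (fun k => fs4 (Nat.add (Nat.succ 163372) k)) 270 = true := by decide +kernel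
theorem s4c524 : allBelow (fun k => fs4 (Nat.add (Nat.succ 163642) k)) 276 = true := by decide +kernel
theorem s4c525 : allBelow (fun k => fs4 (Nat.add (Nat.succ 163918) k)) 272 = true := by decide +kernel
theorem s4c526 : allBelow (fun k => fs4 (Nat.add (Nat.succ 164190) k)) 272 = true := by decide +kernel
theorem s4c527 : allBelow (fun k => fs4 (Nat.add (Nat.succ 164462) k)) 270 = true := by decide +kernel
theorem s4c528 : allBelow (fun k => fs4 (Nat.add (Nat.succ 164732) k)) 273 = true := by decide +kernel
theorem s4c529 : allBelow (fun k => fs4 (Nat.add (Nat.succ 165005) k)) 234 = true := by decide +kernel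
theorem s4c530 : allBelow (fun k => fs4 (Nat.add (Nat.succ 165239) k)) 259 = true := by decide +kernel
theorem s4c531 : allBelow (fun k => fs4 (Nat.add (Nat.succ 165498) k)) 267 = true := by decide +kernel
theorem s4c532 : allBelow (fun k => fs4 (Nat.add (Nat.succ 165765) k)) 267 = true := by decide +kernel
theorem s4c533 : allBelow (fun k => fs4 (Nat.add (Nat.succ 166032) k)) 251 = true := by decide +kernel
theorem s4c534 : allBelow (fun k => fs4 (Nat.add (Nat.succ 166283) k)) 257 = true := by decide +kernel
theorem s4c535 : allBelow (fun k => fs4 (Nat.add (Nat.succ 166540) k)) 278 = true := by decide +kernel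
theorem s4c536 : allBelow (fun k => fs4 (Nat.add (Nat.succ 166818) k)) 274 = true := by decide +kernel
theorem s4c537 : allBelow (fun k => fs4 (Nat.add (Nat.succ 167092) k)) 274 = true := by decide +kernel
theorem s4c538 : allBelow (fun k => fs4 (Nat.add (Nat.succ 167366) k)) 268 = true := by decide +kernel
theorem s4c539 : allBelow (fun k => fs4 (Nat.add (Nat.succ 167634) k)) 280 = true := by decide +kernel
theorem s4c540 : allBelow (fun k => fs4 (Nat.add (Nat.succ 167914) k)) 277 = true := by decide +kernel
theorem s4c541 : allBelow (fun k => fs4 (Nat.add (Nat.succ 168191) k)) 260 = true := by decide +kernel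
theorem s4c542 : allBelow (fun k => fs4 (Nat.add (Nat.succ 168451) k)) 265 = true := by decide +kernel
theorem s4c543 : allBelow (fun k => fs4 (Nat.add (Nat.succ 168716) k)) 255 = true := by decide +kernel
theorem s4c544 : allBelow (fun k => fs4 (Nat.add (Nat.succ 168971) k)) 278 = true := by decide +kernel
theorem s4c545 : allBelow (fun k => fs4 (Nat.add (Nat.succ 169249) k)) 278 = true := by decide +kernel
theorem s4c546 : allBelow (fun k => fs4 (Nat.add (Nat.succ 169527) k)) 271 = true := by decide +kernel
theorem s4c547 : allBelow (fun k => fs4 (Nat.add (Nat.succ 169798) k)) 270 = true := by decide +kernel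
theorem s4c548 : allBelow (fun k => fs4 (Nat.add (Nat.succ 170068) k)) 293 = true := by decide +kernel
theorem s4c549 : allBelow (fun k => fs4 (Nat.add (Nat.succ 170361) k)) 260 = true := by decide +kernel
theorem s4c550 : allBelow (fun k => fs4 (Nat.add (Nat.succ 170621) k)) 265 = true := by decide +kernel
theorem s4c551 : allBelow (fun k => fs4 (Nat.add (Nat.succ 170886) k)) 273 = true := by decide +kernel
theorem s4c552 : allBelow (fun k => fs4 (Nat.add (Nat.succ 171159) k)) 270 = true := by decide +kernel
theorem s4c553 : allBelow (fun k => fs4 (Nat.add (Nat.succ 171429) k)) 279 = true := by decide +kernel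
theorem s4c554 : allBelow (fun k => fs4 (Nat.add (Nat.succ 171708) k)) 274 = true := by decide +kernel
theorem s4c555 : allBelow (fun k => fs4 (Nat.add (Nat.succ 171982) k)) 275 = true := by decide +kernel
theorem s4c556 : allBelow (fun k => fs4 (Nat.add (Nat.succ 172257) k)) 284 = true := by decide +kernel
theorem s4c557 : allBelow (fun k => fs4 (Nat.add (Nat.succ 172541) k)) 272 = true := by decide +kernel
theorem s4c558 : allBelow (fun k => fs4 (Nat.add (Nat.succ 172813) k)) 278 = true := by decide +kernel
theorem s4c559 : allBelow (fun k => fs4 (Nat.add (Nat.succ 173091) k)) 275 = true := by decide +kernel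
theorem s4c560 : allBelow (fun k => fs4 (Nat.add (Nat.succ 173366) k)) 277 = true := by decide +kernel
theorem s4c561 : allBelow (fun k => fs4 (Nat.add (Nat.succ 173643) k)) 293 = true := by decide +kernel
theorem s4c562 : allBelow (fun k => fs4 (Nat.add (Nat.succ 173936) k)) 268 = true := by decide +kernel
theorem s4c563 : allBelow (fun k => fs4 (Nat.add (Nat.succ 174204) k)) 268 = true := by decide +kernel
theorem s4c564 : allBelow (fun k => fs4 (Nat.add (Nat.succ 174472) k)) 280 = true := by decide +kernel
theorem s4c565 : allBelow (fun k => fs4 (Nat.add (Nat.succ 174752) k)) 287 = true := by decide +kernel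
theorem s4c566 : allBelow (fun k => fs4 (Nat.add (Nat.succ 175039) k)) 267 = true := by decide +kernel
theorem s4c567 : allBelow (fun k => fs4 (Nat.add (Nat.succ 175306) k)) 257 = true := by decide +kernel
theorem s4c568 : allBelow (fun k => fs4 (Nat.add (Nat.succ 175563) k)) 286 = true := by decide +kernel
theorem s4c569 : allBelow (fun k => fs4 (Nat.add (Nat.succ 175849) k)) 276 = true := by decide +kernel
theorem s4c570 : allBelow (fun k => fs4 (Nat.add (Nat.succ 176125) k)) 276 = true := by decide +kernel
theorem s4c571 : allBelow (fun k => fs4 (Nat.add (Nat.succ 176401) k)) 262 = true := by decide +kernel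
theorem s4c572 : allBelow (fun k => fs4 (Nat.add (Nat.succ 176663) k)) 266 = true := by decide +kernel
theorem s4c573 : allBelow (fun k => fs4 (Nat.add (Nat.succ 176929) k)) 269 = true := by decide +kernel
theorem s4c574 : allBelow (fun k => fs4 (Nat.add (Nat.succ 177198) k)) 217 = true := by decide +kernel
theorem s4c575 : allBelow (fun k => fs4 (Nat.add (Nat.succ 177415) k)) 254 = true := by decide +kernel
theorem s4c576 : allBelow (fun k => fs4 (Nat.add (Nat.succ 177669) k)) 272 = true := by decide +kernel
theorem s4c577 : allBelow (fun k => fs4 (Nat.add (Nat.succ 177941) k)) 255 = true := by decide +kernel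
theorem s4c578 : allBelow (fun k => fs4 (Nat.add (Nat.succ 178196) k)) 258 = true := by decide +kernel
theorem s4c579 : allBelow (fun k => fs4 (Nat.add (Nat.succ 178454) k)) 257 = true := by decide +kernel
theorem s4c580 : allBelow (fun k => fs4 (Nat.add (Nat.succ 178711) k)) 237 = true := by decide +kernel
theorem s4c581 : allBelow (fun k => fs4 (Nat.add (Nat.succ 178948) k)) 262 = true := by decide +kernel
theorem s4c582 : allBelow (fun k => fs4 (Nat.add (Nat.succ 179210) k)) 268 = true := by decide +kernel
theorem s4c583 : allBelow (fun k => fs4 (Nat.add (Nat.succ 179478) k)) 258 = true := by decide +kernel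
theorem s4c584 : allBelow (fun k => fs4 (Nat.add (Nat.succ 179736) k)) 263 = true := by decide +kernel
theorem s4c585 : allBelow (fun k => fs4 (Nat.add (Nat.succ 179999) k)) 262 = true := by decide +kernel
theorem s4c586 : allBelow (fun k => fs4 (Nat.add (Nat.succ 180261) k)) 250 = true := by decide +kernel
theorem s4c587 : allBelow (fun k => fs4 (Nat.add (Nat.succ 180511) k)) 253 = true := by decide +kernel
theorem s4c588 : allBelow (fun k => fs4 (Nat.add (Nat.succ 180764) k)) 253 = true := by decide +kernel
theorem s4c589 : allBelow (fun k => fs4 (Nat.add (Nat.succ 181017) k)) 258 = true := by decide +kernel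
theorem s4c590 : allBelow (fun k => fs4 (Nat.add (Nat.succ 181275) k)) 256 = true := by decide +kernel
theorem s4c591 : allBelow (fun k => fs4 (Nat.add (Nat.succ 181531) k)) 267 = true := by decide +kernel
theorem s4c592 : allBelow (fun k => fs4 (Nat.add (Nat.succ 181798) k)) 261 = true := by decide +kernel
theorem s4c593 : allBelow (fun k => fs4 (Nat.add (Nat.succ 182059) k)) 272 = true := by decide +kernel
theorem s4c594 : allBelow (fun k => fs4 (Nat.add (Nat.succ 182331) k)) 277 = true := by decide +kernel
theorem s4c595 : allBelow (fun k => fs4 (Nat.add (Nat.succ 182608) k)) 260 = true := by decide +kernel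
theorem s4c596 : allBelow (fun k => fs4 (Nat.add (Nat.succ 182868) k)) 267 = true := by decide +kernel
theorem s4c597 : allBelow (fun k => fs4 (Nat.add (Nat.succ 183135) k)) 262 = true := by decide +kernel
theorem s4c598 : allBelow (fun k => fs4 (Nat.add (Nat.succ 183397) k)) 272 = true := by decide +kernel
theorem s4c599 : allBelow (fun k => fs4 (Nat.add (Nat.succ 183669) k)) 268 = true := by decide +kernel
theorem s4c600 : allBelow (fun k => fs4 (Nat.add (Nat.succ 183937) k)) 266 = true := by decide +kernel
theorem s4c601 : allBelow (fun k => fs4 (Nat.add (Nat.succ 184203) k)) 263 = true := by decide +kernel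
theorem s4c602 : allBelow (fun k => fs4 (Nat.add (Nat.succ 184466) k)) 282 = true := by decide +kernel
theorem s4c603 : allBelow (fun k => fs4 (Nat.add (Nat.succ 184748) k)) 267 = true := by decide +kernel
theorem s4c604 : allBelow (fun k => fs4 (Nat.add (Nat.succ 185015) k)) 275 = true := by decide +kernel
theorem s4c605 : allBelow (fun k => fs4 (Nat.add (Nat.succ 185290) k)) 273 = true := by decide +kernel
theorem s4c606 : allBelow (fun k => fs4 (Nat.add (Nat.succ 185563) k)) 241 = true := by decide +kernel
theorem s4c607 : allBelow (fun k => fs4 (Nat.add (Nat.succ 185804) k)) 273 = true := by decide +kernel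
theorem s4c608 : allBelow (fun k => fs4 (Nat.add (Nat.succ 186077) k)) 269 = true := by decide +kernel
theorem s4c609 : allBelow (fun k => fs4 (Nat.add (Nat.succ 186346) k)) 266 = true := by decide +kernel
theorem s4c610 : allBelow (fun k => fs4 (Nat.add (Nat.succ 186612) k)) 260 = true := by decide +kernel
theorem s4c611 : allBelow (fun k => fs4 (Nat.add (Nat.succ 186872) k)) 271 = true := by decide +kernel
theorem s4c612 : allBelow (fun k => fs4 (Nat.add (Nat.succ 187143) k)) 276 = true := by decide +kernel
theorem s4c613 : allBelow (fun k => fs4 (Nat.add (Nat.succ 187419) k)) 274 = true := by decide +kernel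
theorem s4c614 : allBelow (fun k => fs4 (Nat.add (Nat.succ 187693) k)) 271 = true := by decide +kernel
theorem s4c615 : allBelow (fun k => fs4 (Nat.add (Nat.succ 187964) k)) 277 = true := by decide +kernel
theorem s4c616 : allBelow (fun k => fs4 (Nat.add (Nat.succ 188241) k)) 278 = true := by decide +kernel
theorem s4c617 : allBelow (fun k => fs4 (Nat.add (Nat.succ 188519) k)) 274 = true := by decide +kernel
theorem s4c618 : allBelow (fun k => fs4 (Nat.add (Nat.succ 188793) k)) 267 = true := by decide +kernel
theorem s4c619 : allBelow (fun k => fs4 (Nat.add (Nat.succ 189060) k)) 264 = true := by decide +kernel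
theorem s4c620 : allBelow (fun k => fs4 (Nat.add (Nat.succ 189324) k)) 263 = true := by decide +kernel
theorem s4c621 : allBelow (fun k => fs4 (Nat.add (Nat.succ 189587) k)) 277 = true := by decide +kernel
theorem s4c622 : allBelow (fun k => fs4 (Nat.add (Nat.succ 189864) k)) 273 = true := by decide +kernel
theorem s4c623 : allBelow (fun k => fs4 (Nat.add (Nat.succ 190137) k)) 276 = true := by decide +kernel
theorem s4c624 : allBelow (fun k => fs4 (Nat.add (Nat.succ 190413) k)) 273 = true := by decide +kernel
theorem s4c625 : allBelow (fun k => fs4 (Nat.add (Nat.succ 190686) k)) 263 = true := by decide +kernel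
theorem s4c626 : allBelow (fun k => fs4 (Nat.add (Nat.succ 190949) k)) 300 = true := by decide +kernel
theorem s4c627 : allBelow (fun k => fs4 (Nat.add (Nat.succ 191249) k)) 263 = true := by decide +kernel
theorem s4c628 : allBelow (fun k => fs4 (Nat.add (Nat.succ 191512) k)) 255 = true := by decide +kernel
theorem s4c629 : allBelow (fun k => fs4 (Nat.add (Nat.succ 191767) k)) 276 = true := by decide +kernel
theorem s4c630 : allBelow (fun k => fs4 (Nat.add (Nat.succ 192043) k)) 275 = true := by decide +kernel
theorem s4c631 : allBelow (fun k => fs4 (Nat.add (Nat.succ 192318) k)) 270 = true := by decide +kernel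
theorem s4c632 : allBelow (fun k => fs4 (Nat.add (Nat.succ 192588) k)) 265 = true := by decide +kernel
theorem s4c633 : allBelow (fun k => fs4 (Nat.add (Nat.succ 192853) k)) 265 = true := by decide +kernel
theorem s4c634 : allBelow (fun k => fs4 (Nat.add (Nat.succ 193118) k)) 289 = true := by decide +kernel
theorem s4c635 : allBelow (fun k => fs4 (Nat.add (Nat.succ 193407) k)) 280 = true := by decide +kernel
theorem s4c636 : allBelow (fun k => fs4 (Nat.add (Nat.succ 193687) k)) 259 = true := by decide +kernel
theorem s4c637 : allBelow (fun k => fs4 (Nat.add (Nat.succ 193946) k)) 282 = true := by decide +kernel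
theorem s4c638 : allBelow (fun k => fs4 (Nat.add (Nat.succ 194228) k)) 271 = true := by decide +kernel
theorem s4c639 : allBelow (fun k => fs4 (Nat.add (Nat.succ 194499) k)) 275 = true := by decide +kernel
theorem s4c640 : allBelow (fun k => fs4 (Nat.add (Nat.succ 194774) k)) 279 = true := by decide +kernel
theorem s4c641 : allBelow (fun k => fs4 (Nat.add (Nat.succ 195053) k)) 296 = true := by decide +kernel
theorem s4c642 : allBelow (fun k => fs4 (Nat.add (Nat.succ 195349) k)) 261 = true := by decide +kernel
theorem s4c643 : allBelow (fun k => fs4 (Nat.add (Nat.succ 195610) k)) 271 = true := by decide +kernel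
theorem s4c644 : allBelow (fun k => fs4 (Nat.add (Nat.succ 195881) k)) 263 = true := by decide +kernel
theorem s4c645 : allBelow (fun k => fs4 (Nat.add (Nat.succ 196144) k)) 302 = true := by decide +kernel
theorem s4c646 : allBelow (fun k => fs4 (Nat.add (Nat.succ 196446) k)) 269 = true := by decide +kernel
theorem s4c647 : allBelow (fun k => fs4 (Nat.add (Nat.succ 196715) k)) 272 = true := by decide +kernel
theorem s4c648 : allBelow (fun k => fs4 (Nat.add (Nat.succ 196987) k)) 289 = true := by decide +kernel
theorem s4c649 : allBelow (fun k => fs4 (Nat.add (Nat.succ 197276) k)) 273 = true := by decide +kernel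
theorem s4c650 : allBelow (fun k => fs4 (Nat.add (Nat.succ 197549) k)) 286 = true := by decide +kernel
theorem s4c651 : allBelow (fun k => fs4 (Nat.add (Nat.succ 197835) k)) 274 = true := by decide +kernel
theorem s4c652 : allBelow (fun k => fs4 (Nat.add (Nat.succ 198109) k)) 269 = true := by decide +kernel
theorem s4c653 : allBelow (fun k => fs4 (Nat.add (Nat.succ 198378) k)) 254 = true := by decide +kernel
theorem s4c654 : allBelow (fun k => fs4 (Nat.add (Nat.succ 198632) k)) 247 = true := by decide +kernel
theorem s4c655 : allBelow (fun k => fs4 (Nat.add (Nat.succ 198879) k)) 267 = true := by decide +kernel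
theorem s4c656 : allBelow (fun k => fs4 (Nat.add (Nat.succ 199146) k)) 254 = true := by decide +kernel
theorem s4c657 : allBelow (fun k => fs4 (Nat.add (Nat.succ 199400) k)) 244 = true := by decide +kernel
theorem s4c658 : allBelow (fun k => fs4 (Nat.add (Nat.succ 199644) k)) 276 = true := by decide +kernel
theorem s4c659 : allBelow (fun k => fs4 (Nat.add (Nat.succ 199920) k)) 253 = true := by decide +kernel
theorem s4c660 : allBelow (fun k => fs4 (Nat.add (Nat.succ 200173) k)) 258 = true := by decide +kernel
theorem s4c661 : allBelow (fun k => fs4 (Nat.add (Nat.succ 200431) k)) 271 = true := by decide +kernel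
theorem s4c662 : allBelow (fun k => fs4 (Nat.add (Nat.succ 200702) k)) 260 = true := by decide +kernel
theorem s4c663 : allBelow (fun k => fs4 (Nat.add (Nat.succ 200962) k)) 264 = true := by decide +kernel
theorem s4c664 : allBelow (fun k => fs4 (Nat.add (Nat.succ 201226) k)) 266 = true := by decide +kernel
theorem s4c665 : allBelow (fun k => fs4 (Nat.add (Nat.succ 201492) k)) 267 = true := by decide +kernel
theorem s4c666 : allBelow (fun k => fs4 (Nat.add (Nat.succ 201759) k)) 250 = true := by decide +kernel
theorem s4c667 : allBelow (fun k => fs4 (Nat.add (Nat.succ 202009) k)) 253 = true := by decide +kernel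
theorem s4c668 : allBelow (fun k => fs4 (Nat.add (Nat.succ 202262) k)) 262 = true := by decide +kernel
theorem s4c669 : allBelow (fun k => fs4 (Nat.add (Nat.succ 202524) k)) 254 = true := by decide +kernel
theorem s4c670 : allBelow (fun k => fs4 (Nat.add (Nat.succ 202778) k)) 267 = true := by decide +kernel
theorem s4c671 : allBelow (fun k => fs4 (Nat.add (Nat.succ 203045) k)) 269 = true := by decide +kernel
theorem s4c672 : allBelow (fun k => fs4 (Nat.add (Nat.succ 203314) k)) 260 = true := by decide +kernel
theorem s4c673 : allBelow (fun k => fs4 (Nat.add (Nat.succ 203574) k)) 264 = true := by decide +kernel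
theorem s4c674 : allBelow (fun k => fs4 (Nat.add (Nat.succ 203838) k)) 282 = true := by decide +kernel
theorem s4c675 : allBelow (fun k => fs4 (Nat.add (Nat.succ 204120) k)) 264 = true := by decide +kernel
theorem s4c676 : allBelow (fun k => fs4 (Nat.add (Nat.succ 204384) k)) 254 = true := by decide +kernel
theorem s4c677 : allBelow (fun k => fs4 (Nat.add (Nat.succ 204638) k)) 266 = true := by decide +kernel
theorem s4c678 : allBelow (fun k => fs4 (Nat.add (Nat.succ 204904) k)) 265 = true := by decide +kernel
theorem s4c679 : allBelow (fun k => fs4 (Nat.add (Nat.succ 205169) k)) 285 = true := by decide +kernel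
theorem s4c680 : allBelow (fun k => fs4 (Nat.add (Nat.succ 205454) k)) 261 = true := by decide +kernel
theorem s4c681 : allBelow (fun k => fs4 (Nat.add (Nat.succ 205715) k)) 265 = true := by decide +kernel
theorem s4c682 : allBelow (fun k => fs4 (Nat.add (Nat.succ 205980) k)) 259 = true := by decide +kernel
theorem s4c683 : allBelow (fun k => fs4 (Nat.add (Nat.succ 206239) k)) 284 = true := by decide +kernel
theorem s4c684 : allBelow (fun k => fs4 (Nat.add (Nat.succ 206523) k)) 274 = true := by decide +kernel
theorem s4c685 : allBelow (fun k => fs4 (Nat.add (Nat.succ 206797) k)) 263 = true := by decide +kernel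
theorem s4c686 : allBelow (fun k => fs4 (Nat.add (Nat.succ 207060) k)) 294 = true := by decide +kernel
theorem s4c687 : allBelow (fun k => fs4 (Nat.add (Nat.succ 207354) k)) 274 = true := by decide +kernel
theorem s4c688 : allBelow (fun k => fs4 (Nat.add (Nat.succ 207628) k)) 260 = true := by decide +kernel

end Cfsg.Agent.Lib.Helper35.Fi24a
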