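import Cfsg.Agent.Lib.Helper35.Fi24a.Data

set_option Elab.async false

namespace Cfsg.Agent.Lib.Helper35.Fi24a

open Cfsg.Agent.Lib.Helper35

theorem s4c689 : allBelow (fun k => fs4 (Nat.add (Nat.succ 207888) k)) 279 = true := by decide +kernel
theorem s4c690 : allBelow (fun k => fs4 (Nat.add (Nat.succ 208167) k)) 276 = true := by decide +kernel
theorem s4c691 : allBelow (fun k => fs4 (Nat.add (Nat.succ 208443) k)) 268 = true := by decide +kernel
theorem s4c692 : allBelow (fun k => fs4 (Nat.add (Nat.succ 208711) k)) 277 = true := by decide +kernel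
theorem s4c693 : allBelow (fun k => fs4 (Nat.add (Nat.succ 208988) k)) 278 = true := by decide +kernel
theorem s4c694 : allBelow (fun k => fs4 (Nat.add (Nat.succ 209266) k)) 275 = true := by decide +kernel
theorem s4c695 : allBelow (fun k => fs4 (Nat.add (Nat.succ 209541) k)) 270 = true := by decide +kernel
theorem s4c696 : allBelow (fun k => fs4 (Nat.add (Nat.succ 209811) k)) 270 = true := by decide +kernel
theorem s4c697 : allBelow (fun k => fs4 (Nat.add (Nat.succ 210081) k)) 291 = true := by decide +kernel
theorem s4c698 : allBelow (fun k => fs4 (Nat.add (Nat.succ 210372) k)) 291 = true := by decide +kernel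
theorem s4c699 : allBelow (fun k => fs4 (Nat.add (Nat.succ 210663) k)) 268 = true := by decide +kernel
theorem s4c700 : allBelow (fun k => fs4 (Nat.add (Nat.succ 210931) k)) 261 = true := by decide +kernel
theorem s4c701 : allBelow (fun k => fs4 (Nat.add (Nat.succ 211192) k)) 275 = true := by decide +kernel
theorem s4c702 : allBelow (fun k => fs4 (Nat.add (Nat.succ 211467) k)) 265 = true := by decide +kernel
theorem s4c703 : allBelow (fun k => fs4 (Nat.add (Nat.succ 211732) k)) 274 = true := by decide +kernel
theorem s4c704 : allBelow (fun k => fs4 (Nat.add (Nat.succ 212006) k)) 264 = true := by decide +kernel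
theorem s4c705 : allBelow (fun k => fs4 (Nat.add (Nat.succ 212270) k)) 286 = true := by decide +kernel
theorem s4c706 : allBelow (fun k => fs4 (Nat.add (Nat.succ 212556) k)) 262 = true := by decide +kernel
theorem s4c707 : allBelow (fun k => fs4 (Nat.add (Nat.succ 212818) k)) 268 = true := by decide +kernel
theorem s4c708 : allBelow (fun k => fs4 (Nat.add (Nat.succ 213086) k)) 225 = true := by decide +kernel
theorem s4c709 : allBelow (fun k => fs4 (Nat.add (Nat.succ 213311) k)) 299 = true := by decide +kernel
theorem s4c710 : allBelow (fun k => fs4 (Nat.add (Nat.succ 213610) k)) 270 = true := by decide +kernel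
theorem s4c711 : allBelow (fun k => fs4 (Nat.add (Nat.succ 213880) k)) 256 = true := by decide +kernel
theorem s4c712 : allBelow (fun k => fs4 (Nat.add (Nat.succ 214136) k)) 259 = true := by decide +kernel
theorem s4c713 : allBelow (fun k => fs4 (Nat.add (Nat.succ 214395) k)) 274 = true := by decide +kernel
theorem s4c714 : allBelow (fun k => fs4 (Nat.add (Nat.succ 214669) k)) 281 = true := by decide +kernel
theorem s4c715 : allBelow (fun k => fs4 (Nat.add (Nat.succ 214950) k)) 268 = true := by decide +kernel
theorem s4c716 : allBelow (fun k => fs4 (Nat.add (Nat.succ 215218) k)) 273 = true := by decide +kernel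
theorem s4c717 : allBelow (fun k => fs4 (Nat.add (Nat.succ 215491) k)) 264 = true := by decide +kernel
theorem s4c718 : allBelow (fun k => fs4 (Nat.add (Nat.succ 215755) k)) 303 = true := by decide +kernel
theorem s4c719 : allBelow (fun k => fs4 (Nat.add (Nat.succ 216058) k)) 267 = true := by decide +kernel
theorem s4c720 : allBelow (fun k => fs4 (Nat.add (Nat.succ 216325) k)) 255 = true := by decide +kernel
theorem s4c721 : allBelow (fun k => fs4 (Nat.add (Nat.succ 216580) k)) 274 = true := by decide +kernel
theorem s4c722 : allBelow (fun k => fs4 (Nat.add (Nat.succ 216854) k)) 270 = true := by decide +kernel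
theorem s4c723 : allBelow (fun k => fs4 (Nat.add (Nat.succ 217124) k)) 266 = true := by decide +kernel
theorem s4c724 : allBelow (fun k => fs4 (Nat.add (Nat.succ 217390) k)) 272 = true := by decide +kernel
theorem s4c725 : allBelow (fun k => fs4 (Nat.add (Nat.succ 217662) k)) 288 = true := by decide +kernel
theorem s4c726 : allBelow (fun k => fs4 (Nat.add (Nat.succ 217950) k)) 296 = true := by decide +kernel
theorem s4c727 : allBelow (fun k => fs4 (Nat.add (Nat.succ 218246) k)) 263 = true := by decide +kernel
theorem s4c728 : allBelow (fun k => fs4 (Nat.add (Nat.succ 218509) k)) 273 = true := by decide +kernel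
theorem s4c729 : allBelow (fun k => fs4 (Nat.add (Nat.succ 218782) k)) 258 = true := by decide +kernel
theorem s4c730 : allBelow (fun k => fs4 (Nat.add (Nat.succ 219040) k)) 290 = true := by decide +kernel
theorem s4c731 : allBelow (fun k => fs4 (Nat.add (Nat.succ 219330) k)) 292 = true := by decide +kernel
theorem s4c732 : allBelow (fun k => fs4 (Nat.add (Nat.succ 219622) k)) 274 = true := by decide +kernel
theorem s4c733 : allBelow (fun k => fs4 (Nat.add (Nat.succ 219896) k)) 280 = true := by decide +kernel
theorem s4c734 : allBelow (fun k => fs4 (Nat.add (Nat.succ 220176) k)) 273 = true := by decide +kernel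
theorem s4c735 : allBelow (fun k => fs4 (Nat.add (Nat.succ 220449) k)) 291 = true := by decide +kernel
theorem s4c736 : allBelow (fun k => fs4 (Nat.add (Nat.succ 220740) k)) 276 = true := by decide +kernel
theorem s4c737 : allBelow (fun k => fs4 (Nat.add (Nat.succ 221016) k)) 278 = true := by decide +kernel
theorem s4c738 : allBelow (fun k => fs4 (Nat.add (Nat.succ 221294) k)) 264 = true := by decide +kernel
theorem s4c739 : allBelow (fun k => fs4 (Nat.add (Nat.succ 221558) k)) 236 = true := by decide +kernel
theorem s4c740 : allBelow (fun k => fs4 (Nat.add (Nat.succ 221794) k)) 264 = true := by decide +kernel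
theorem s4c741 : allBelow (fun k => fs4 (Nat.add (Nat.succ 222058) k)) 266 = true := by decide +kernel
theorem s4c742 : allBelow (fun k => fs4 (Nat.add (Nat.succ 222324) k)) 256 = true := by decide +kernel
theorem s4c743 : allBelow (fun k => fs4 (Nat.add (Nat.succ 222580) k)) 275 = true := by decide +kernel
theorem s4c744 : allBelow (fun k => fs4 (Nat.add (Nat.succ 222855) k)) 257 = true := by decide +kernel
theorem s4c745 : allBelow (fun k => fs4 (Nat.add (Nat.succ 223112) k)) 264 = true := by decide +kernel
theorem s4c746 : allBelow (fun k => fs4 (Nat.add (Nat.succ 223376) k)) 272 = true := by decide +kernel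
theorem s4c747 : allBelow (fun k => fs4 (Nat.add (Nat.succ 223648) k)) 261 = true := by decide +kernel
theorem s4c748 : allBelow (fun k => fs4 (Nat.add (Nat.succ 223909) k)) 260 = true := by decide +kernel
theorem s4c749 : allBelow (fun k => fs4 (Nat.add (Nat.succ 224169) k)) 269 = true := by decide +kernel
theorem s4c750 : allBelow (fun k => fs4 (Nat.add (Nat.succ 224438) k)) 267 = true := by decide +kernel
theorem s4c751 : allBelow (fun k => fs4 (Nat.add (Nat.succ 224705) k)) 260 = true := by decide +kernel
theorem s4c752 : allBelow (fun k => fs4 (Nat.add (Nat.succ 224965) k)) 259 = true := by decide +kernel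
theorem s4c753 : allBelow (fun k => fs4 (Nat.add (Nat.succ 225224) k)) 260 = true := by decide +kernel
theorem s4c754 : allBelow (fun k => fs4 (Nat.add (Nat.succ 225484) k)) 259 = true := by decide +kernel
theorem s4c755 : allBelow (fun k => fs4 (Nat.add (Nat.succ 225743) k)) 267 = true := by decide +kernel
theorem s4c756 : allBelow (fun k => fs4 (Nat.add (Nat.succ 226010) k)) 253 = true := by decide +kernel
theorem s4c757 : allBelow (fun k => fs4 (Nat.add (Nat.succ 226263) k)) 288 = true := by decide +kernel
theorem s4c758 : allBelow (fun k => fs4 (Nat.add (Nat.succ 226551) k)) 254 = true := by decide +kernel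
theorem s4c759 : allBelow (fun k => fs4 (Nat.add (Nat.succ 226805) k)) 264 = true := by decide +kernel
theorem s4c760 : allBelow (fun k => fs4 (Nat.add (Nat.succ 227069) k)) 279 = true := by decide +kernel
theorem s4c761 : allBelow (fun k => fs4 (Nat.add (Nat.succ 227348) k)) 274 = true := by decide +kernel
theorem s4c762 : allBelow (fun k => fs4 (Nat.add (Nat.succ 227622) k)) 253 = true := by decide +kernel
theorem s4c763 : allBelow (fun k => fs4 (Nat.add (Nat.succ 227875) k)) 268 = true := by decide +kernel
theorem s4c764 : allBelow (fun k => fs4 (Nat.add (Nat.succ 228143) k)) 268 = true := by decide +kernel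
theorem s4c765 : allBelow (fun k => fs4 (Nat.add (Nat.succ 228411) k)) 288 = true := by decide +kernel
theorem s4c766 : allBelow (fun k => fs4 (Nat.add (Nat.succ 228699) k)) 258 = true := by decide +kernel
theorem s4c767 : allBelow (fun k => fs4 (Nat.add (Nat.succ 228957) k)) 273 = true := by decide +kernel
theorem s4c768 : allBelow (fun k => fs4 (Nat.add (Nat.succ 229230) k)) 270 = true := by decide +kernel
theorem s4c769 : allBelow (fun k => fs4 (Nat.add (Nat.succ 229500) k)) 254 = true := by decide +kernel
theorem s4c770 : allBelow (fun k => fs4 (Nat.add (Nat.succ 229754) k)) 296 = true := by decide +kernel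
theorem s4c771 : allBelow (fun k => fs4 (Nat.add (Nat.succ 230050) k)) 274 = true := by decide +kernel
theorem s4c772 : allBelow (fun k => fs4 (Nat.add (Nat.succ 230324) k)) 255 = true := by decide +kernel
theorem s4c773 : allBelow (fun k => fs4 (Nat.add (Nat.succ 230579) k)) 295 = true := by decide +kernel
theorem s4c774 : allBelow (fun k => fs4 (Nat.add (Nat.succ 230874) k)) 278 = true := by decide +kernel
theorem s4c775 : allBelow (fun k => fs4 (Nat.add (Nat.succ 231152) k)) 272 = true := by decide +kernel
theorem s4c776 : allBelow (fun k => fs4 (Nat.add (Nat.succ 231424) k)) 277 = true := by decide +kernel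
theorem s4c777 : allBelow (fun k => fs4 (Nat.add (Nat.succ 231701) k)) 282 = true := by decide +kernel
theorem s4c778 : allBelow (fun k => fs4 (Nat.add (Nat.succ 231983) k)) 271 = true := by decide +kernel
theorem s4c779 : allBelow (fun k => fs4 (Nat.add (Nat.succ 232254) k)) 283 = true := by decide +kernel
theorem s4c780 : allBelow (fun k => fs4 (Nat.add (Nat.succ 232537) k)) 274 = true := by decide +kernel
theorem s4c781 : allBelow (fun k => fs4 (Nat.add (Nat.succ 232811) k)) 278 = true := by decide +kernel
theorem s4c782 : allBelow (fun k => fs4 (Nat.add (Nat.succ 233089) k)) 273 = true := by decide +kernel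
theorem s4c783 : allBelow (fun k => fs4 (Nat.add (Nat.succ 233362) k)) 275 = true := by decide +kernel
theorem s4c784 : allBelow (fun k => fs4 (Nat.add (Nat.succ 233637) k)) 288 = true := by decide +kernel
theorem s4c785 : allBelow (fun k => fs4 (Nat.add (Nat.succ 233925) k)) 280 = true := by decide +kernel
theorem s4c786 : allBelow (fun k => fs4 (Nat.add (Nat.succ 234205) k)) 275 = true := by decide +kernel
theorem s4c787 : allBelow (fun k => fs4 (Nat.add (Nat.succ 234480) k)) 263 = true := by decide +kernel
theorem s4c788 : allBelow (fun k => fs4 (Nat.add (Nat.succ 234743) k)) 276 = true := by decide +kernel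
theorem s4c789 : allBelow (fun k => fs4 (Nat.add (Nat.succ 235019) k)) 272 = true := by decide +kernel
theorem s4c790 : allBelow (fun k => fs4 (Nat.add (Nat.succ 235291) k)) 274 = true := by decide +kernel
theorem s4c791 : allBelow (fun k => fs4 (Nat.add (Nat.succ 235565) k)) 254 = true := by decide +kernel
theorem s4c792 : allBelow (fun k => fs4 (Nat.add (Nat.succ 235819) k)) 285 = true := by decide +kernel
theorem s4c793 : allBelow (fun k => fs4 (Nat.add (Nat.succ 236104) k)) 277 = true := by decide +kernel
theorem s4c794 : allBelow (fun k => fs4 (Nat.add (Nat.succ 236381) k)) 261 = true := by decide +kernel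
theorem s4c795 : allBelow (fun k => fs4 (Nat.add (Nat.succ 236642) k)) 267 = true := by decide +kernel
theorem s4c796 : allBelow (fun k => fs4 (Nat.add (Nat.succ 236909) k)) 263 = true := by decide +kernel
theorem s4c797 : allBelow (fun k => fs4 (Nat.add (Nat.succ 237172) k)) 284 = true := by decide +kernel
theorem s4c798 : allBelow (fun k => fs4 (Nat.add (Nat.succ 237456) k)) 288 = true := by decide +kernel
theorem s4c799 : allBelow (fun k => fs4 (Nat.add (Nat.succ 237744) k)) 254 = true := by decide +kernel
theorem s4c800 : allBelow (fun k => fs4 (Nat.add (Nat.succ 237998) k)) 259 = true := by decide +kernel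
theorem s4c801 : allBelow (fun k => fs4 (Nat.add (Nat.succ 238257) k)) 270 = true := by decide +kernel
theorem s4c802 : allBelow (fun k => fs4 (Nat.add (Nat.succ 238527) k)) 282 = true := by decide +kernel
theorem s4c803 : allBelow (fun k => fs4 (Nat.add (Nat.succ 238809) k)) 265 = true := by decide +kernel
theorem s4c804 : allBelow (fun k => fs4 (Nat.add (Nat.succ 239074) k)) 265 = true := by decide +kernel
theorem s4c805 : allBelow (fun k => fs4 (Nat.add (Nat.succ 239339) k)) 286 = true := by decide +kernel
theorem s4c806 : allBelow (fun k => fs4 (Nat.add (Nat.succ 239625) k)) 272 = true := by decide +kernel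
theorem s4c807 : allBelow (fun k => fs4 (Nat.add (Nat.succ 239897) k)) 286 = true := by decide +kernel
theorem s4c808 : allBelow (fun k => fs4 (Nat.add (Nat.succ 240183) k)) 254 = true := by decide +kernel
theorem s4c809 : allBelow (fun k => fs4 (Nat.add (Nat.succ 240437) k)) 269 = true := by decide +kernel
theorem s4c810 : allBelow (fun k => fs4 (Nat.add (Nat.succ 240706) k)) 260 = true := by decide +kernel
theorem s4c811 : allBelow (fun k => fs4 (Nat.add (Nat.succ 240966) k)) 290 = true := by decide +kernel
theorem s4c812 : allBelow (fun k => fs4 (Nat.add (Nat.succ 241256) k)) 262 = true := by decide +kernel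
theorem s4c813 : allBelow (fun k => fs4 (Nat.add (Nat.succ 241518) k)) 276 = true := by decide +kernel
theorem s4c814 : allBelow (fun k => fs4 (Nat.add (Nat.succ 241794) k)) 258 = true := by decide +kernel
theorem s4c815 : allBelow (fun k => fs4 (Nat.add (Nat.succ 242052) k)) 291 = true := by decide +kernel
theorem s4c816 : allBelow (fun k => fs4 (Nat.add (Nat.succ 242343) k)) 291 = true := by decide +kernel
theorem s4c817 : allBelow (fun k => fs4 (Nat.add (Nat.succ 242634) k)) 272 = true := by decide +kernel
theorem s4c818 : allBelow (fun k => fs4 (Nat.add (Nat.succ 242906) k)) 269 = true := by decide +kernel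
theorem s4c819 : allBelow (fun k => fs4 (Nat.add (Nat.succ 243175) k)) 272 = true := by decide +kernel
theorem s4c820 : allBelow (fun k => fs4 (Nat.add (Nat.succ 243447) k)) 278 = true := by decide +kernel
theorem s4c821 : allBelow (fun k => fs4 (Nat.add (Nat.succ 243725) k)) 297 = true := by decide +kernel
theorem s4c822 : allBelow (fun k => fs4 (Nat.add (Nat.succ 244022) k)) 275 = true := by decide +kernel
theorem s4c823 : allBelow (fun k => fs4 (Nat.add (Nat.succ 244297) k)) 278 = true := by decide +kernel
theorem s4c824 : allBelow (fun k => fs4 (Nat.add (Nat.succ 244575) k)) 266 = true := by decide +kernel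
theorem s4c825 : allBelow (fun k => fs4 (Nat.add (Nat.succ 244841) k)) 291 = true := by decide +kernel
theorem s4c826 : allBelow (fun k => fs4 (Nat.add (Nat.succ 245132) k)) 275 = true := by decide +kernel
theorem s4c827 : allBelow (fun k => fs4 (Nat.add (Nat.succ 245407) k)) 278 = true := by decide +kernel
theorem s4c828 : allBelow (fun k => fs4 (Nat.add (Nat.succ 245685) k)) 259 = true := by decide +kernel
theorem s4c829 : allBelow (fun k => fs4 (Nat.add (Nat.succ 245944) k)) 244 = true := by decide +kernel
theorem s4c830 : allBelow (fun k => fs4 (Nat.add (Nat.succ 246188) k)) 277 = true := by decide +kernel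
theorem s4c831 : allBelow (fun k => fs4 (Nat.add (Nat.succ 246465) k)) 278 = true := by decide +kernel
theorem s4c832 : allBelow (fun k => fs4 (Nat.add (Nat.succ 246743) k)) 275 = true := by decide +kernel
theorem s4c833 : allBelow (fun k => fs4 (Nat.add (Nat.succ 247018) k)) 262 = true := by decide +kernel
theorem s4c834 : allBelow (fun k => fs4 (Nat.add (Nat.succ 247280) k)) 265 = true := by decide +kernel
theorem s4c835 : allBelow (fun k => fs4 (Nat.add (Nat.succ 247545) k)) 276 = true := by decide +kernel
theorem s4c836 : allBelow (fun k => fs4 (Nat.add (Nat.succ 247821) k)) 252 = true := by decide +kernel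
theorem s4c837 : allBelow (fun k => fs4 (Nat.add (Nat.succ 248073) k)) 266 = true := by decide +kernel
theorem s4c838 : allBelow (fun k => fs4 (Nat.add (Nat.succ 248339) k)) 274 = true := by decide +kernel
theorem s4c839 : allBelow (fun k => fs4 (Nat.add (Nat.succ 248613) k)) 264 = true := by decide +kernel
theorem s4c840 : allBelow (fun k => fs4 (Nat.add (Nat.succ 248877) k)) 269 = true := by decide +kernel
theorem s4c841 : allBelow (fun k => fs4 (Nat.add (Nat.succ 249146) k)) 262 = true := by decide +kernel
theorem s4c842 : allBelow (fun k => fs4 (Nat.add (Nat.succ 249408) k)) 262 = true := by decide +kernel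
theorem s4c843 : allBelow (fun k => fs4 (Nat.add (Nat.succ 249670) k)) 269 = true := by decide +kernel
theorem s4c844 : allBelow (fun k => fs4 (Nat.add (Nat.succ 249939) k)) 260 = true := by decide +kernel
theorem s4c845 : allBelow (fun k => fs4 (Nat.add (Nat.succ 250199) k)) 266 = true := by decide +kernel
theorem s4c846 : allBelow (fun k => fs4 (Nat.add (Nat.succ 250465) k)) 259 = true := by decide +kernel
theorem s4c847 : allBelow (fun k => fs4 (Nat.add (Nat.succ 250724) k)) 281 = true := by decide +kernel
theorem s4c848 : allBelow (fun k => fs4 (Nat.add (Nat.succ 251005) k)) 275 = true := by decide +kernel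
theorem s4c849 : allBelow (fun k => fs4 (Nat.add (Nat.succ 251280) k)) 258 = true := by decide +kernel
theorem s4c850 : allBelow (fun k => fs4 (Nat.add (Nat.succ 251538) k)) 264 = true := by decide +kernel
theorem s4c851 : allBelow (fun k => fs4 (Nat.add (Nat.succ 251802) k)) 278 = true := by decide +kernel
theorem s4c852 : allBelow (fun k => fs4 (Nat.add (Nat.succ 252080) k)) 268 = true := by decide +kernel
theorem s4c853 : allBelow (fun k => fs4 (Nat.add (Nat.succ 252348) k)) 254 = true := by decide +kernel
theorem s4c854 : allBelow (fun k => fs4 (Nat.add (Nat.succ 252602) k)) 279 = true := by decide +kernel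
theorem s4c855 : allBelow (fun k => fs4 (Nat.add (Nat.succ 252881) k)) 269 = true := by decide +kernel
theorem s4c856 : allBelow (fun k => fs4 (Nat.add (Nat.succ 253150) k)) 285 = true := by decide +kernel
theorem s4c857 : allBelow (fun k => fs4 (Nat.add (Nat.succ 253435) k)) 257 = true := by decide +kernel
theorem s4c858 : allBelow (fun k => fs4 (Nat.add (Nat.succ 253692) k)) 277 = true := by decide +kernel
theorem s4c859 : allBelow (fun k => fs4 (Nat.add (Nat.succ 253969) k)) 275 = true := by decide +kernel
theorem s4c860 : allBelow (fun k => fs4 (Nat.add (Nat.succ 254244) k)) 253 = true := by decide +kernel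
theorem s4c861 : allBelow (fun k => fs4 (Nat.add (Nat.succ 254497) k)) 286 = true := by decide +kernel
theorem s4c862 : allBelow (fun k => fs4 (Nat.add (Nat.succ 254783) k)) 285 = true := by decide +kernel
theorem s4c863 : allBelow (fun k => fs4 (Nat.add (Nat.succ 255068) k)) 261 = true := by decide +kernel
theorem s4c864 : allBelow (fun k => fs4 (Nat.add (Nat.succ 255329) k)) 274 = true := by decide +kernel
theorem s4c865 : allBelow (fun k => fs4 (Nat.add (Nat.succ 255603) k)) 288 = true := by decide +kernel
theorem s4c866 : allBelow (fun k => fs4 (Nat.add (Nat.succ 255891) k)) 273 = true := by decide +kernel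
theorem s4c867 : allBelow (fun k => fs4 (Nat.add (Nat.succ 256164) k)) 274 = true := by decide +kernel
theorem s4c868 : allBelow (fun k => fs4 (Nat.add (Nat.succ 256438) k)) 276 = true := by decide +kernel
theorem s4c869 : allBelow (fun k => fs4 (Nat.add (Nat.succ 256714) k)) 265 = true := by decide +kernel
theorem s4c870 : allBelow (fun k => fs4 (Nat.add (Nat.succ 256979) k)) 276 = true := by decide +kernel
theorem s4c871 : allBelow (fun k => fs4 (Nat.add (Nat.succ 257255) k)) 282 = true := by decide +kernel
theorem s4c872 : allBelow (fun k => fs4 (Nat.add (Nat.succ 257537) k)) 272 = true := by decide +kernel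
theorem s4c873 : allBelow (fun k => fs4 (Nat.add (Nat.succ 257809) k)) 270 = true := by decide +kernel
theorem s4c874 : allBelow (fun k => fs4 (Nat.add (Nat.succ 258079) k)) 275 = true := by decide +kernel
theorem s4c875 : allBelow (fun k => fs4 (Nat.add (Nat.succ 258354) k)) 283 = true := by decide +kernel
theorem s4c876 : allBelow (fun k => fs4 (Nat.add (Nat.succ 258637) k)) 271 = true := by decide +kernel
theorem s4c877 : allBelow (fun k => fs4 (Nat.add (Nat.succ 258908) k)) 279 = true := by decide +kernel
theorem s4c878 : allBelow (fun k => fs4 (Nat.add (Nat.succ 259187) k)) 270 = true := by decide +kernel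
theorem s4c879 : allBelow (fun k => fs4 (Nat.add (Nat.succ 259457) k)) 267 = true := by decide +kernel
theorem s4c880 : allBelow (fun k => fs4 (Nat.add (Nat.succ 259724) k)) 276 = true := by decide +kernel
theorem s4c881 : allBelow (fun k => fs4 (Nat.add (Nat.succ 260000) k)) 272 = true := by decide +kernel
theorem s4c882 : allBelow (fun k => fs4 (Nat.add (Nat.succ 260272) k)) 271 = true := by decide +kernel
theorem s4c883 : allBelow (fun k => fs4 (Nat.add (Nat.succ 260543) k)) 262 = true := by decide +kernel
theorem s4c884 : allBelow (fun k => fs4 (Nat.add (Nat.succ 260805) k)) 267 = true := by decide +kernel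
theorem s4c885 : allBelow (fun k => fs4 (Nat.add (Nat.succ 261072) k)) 284 = true := by decide +kernel
theorem s4c886 : allBelow (fun k => fs4 (Nat.add (Nat.succ 261356) k)) 272 = true := by decide +kernel
theorem s4c887 : allBelow (fun k => fs4 (Nat.add (Nat.succ 261628) k)) 262 = true := by decide +kernel
theorem s4c888 : allBelow (fun k => fs4 (Nat.add (Nat.succ 261890) k)) 265 = true := by decide +kernel
theorem s4c889 : allBelow (fun k => fs4 (Nat.add (Nat.succ 262155) k)) 268 = true := by decide +kernel
theorem s4c890 : allBelow (fun k => fs4 (Nat.add (Nat.succ 262423) k)) 272 = true := by decide +kernel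
theorem s4c891 : allBelow (fun k => fs4 (Nat.add (Nat.succ 262695) k)) 281 = true := by decide +kernel
theorem s4c892 : allBelow (fun k => fs4 (Nat.add (Nat.succ 262976) k)) 269 = true := by decide +kernel
theorem s4c893 : allBelow (fun k => fs4 (Nat.add (Nat.succ 263245) k)) 254 = true := by decide +kernel
theorem s4c894 : allBelow (fun k => fs4 (Nat.add (Nat.succ 263499) k)) 269 = true := by decide +kernel
theorem s4c895 : allBelow (fun k => fs4 (Nat.add (Nat.succ 263768) k)) 266 = true := by decide +kernel
theorem s4c896 : allBelow (fun k => fs4 (Nat.add (Nat.succ 264034) k)) 263 = true := by decide +kernel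
theorem s4c897 : allBelow (fun k => fs4 (Nat.add (Nat.succ 264297) k)) 271 = true := by decide +kernel
theorem s4c898 : allBelow (fun k => fs4 (Nat.add (Nat.succ 264568) k)) 277 = true := by decide +kernel
theorem s4c899 : allBelow (fun k => fs4 (Nat.add (Nat.succ 264845) k)) 266 = true := by decide +kernel
theorem s4c900 : allBelow (fun k => fs4 (Nat.add (Nat.succ 265111) k)) 270 = true := by decide +kernel
theorem s4c901 : allBelow (fun k => fs4 (Nat.add (Nat.succ 265381) k)) 266 = true := by decide +kernel
theorem s4c902 : allBelow (fun k => fs4 (Nat.add (Nat.succ 265647) k)) 244 = true := by decide +kernel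
theorem s4c903 : allBelow (fun k => fs4 (Nat.add (Nat.succ 265891) k)) 277 = true := by decide +kernel
theorem s4c904 : allBelow (fun k => fs4 (Nat.add (Nat.succ 266168) k)) 267 = true := by decide +kernel
theorem s4c905 : allBelow (fun k => fs4 (Nat.add (Nat.succ 266435) k)) 286 = true := by decide +kernel
theorem s4c906 : allBelow (fun k => fs4 (Nat.add (Nat.succ 266721) k)) 271 = true := by decide +kernel
theorem s4c907 : allBelow (fun k => fs4 (Nat.add (Nat.succ 266992) k)) 269 = true := by decide +kernel
theorem s4c908 : allBelow (fun k => fs4 (Nat.add (Nat.succ 267261) k)) 268 = true := by decide +kernel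
theorem s4c909 : allBelow (fun k => fs4 (Nat.add (Nat.succ 267529) k)) 272 = true := by decide +kernel
theorem s4c910 : allBelow (fun k => fs4 (Nat.add (Nat.succ 267801) k)) 288 = true := by decide +kernel
theorem s4c911 : allBelow (fun k => fs4 (Nat.add (Nat.succ 268089) k)) 277 = true := by decide +kernel
theorem s4c912 : allBelow (fun k => fs4 (Nat.add (Nat.succ 268366) k)) 266 = true := by decide +kernel
theorem s4c913 : allBelow (fun k => fs4 (Nat.add (Nat.succ 268632) k)) 277 = true := by decide +kernel
theorem s4c914 : allBelow (fun k => fs4 (Nat.add (Nat.succ 268909) k)) 260 = true := by decide +kernel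
theorem s4c915 : allBelow (fun k => fs4 (Nat.add (Nat.succ 269169) k)) 292 = true := by decide +kernel
theorem s4c916 : allBelow (fun k => fs4 (Nat.add (Nat.succ 269461) k)) 278 = true := by decide +kernel
theorem s4c917 : allBelow (fun k => fs4 (Nat.add (Nat.succ 269739) k)) 270 = true := by decide +kernel
theorem s4c918 : allBelow (fun k => fs4 (Nat.add (Nat.succ 270009) k)) 273 = true := by decide +kernel
theorem s4c919 : allBelow (fun k => fs4 (Nat.add (Nat.succ 270282) k)) 268 = true := by decide +kernel
theorem s4c920 : allBelow (fun k => fs4 (Nat.add (Nat.succ 270550) k)) 266 = true := by decide +kernel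
theorem s4c921 : allBelow (fun k => fs4 (Nat.add (Nat.succ 270816) k)) 273 = true := by decide +kernel
theorem s4c922 : allBelow (fun k => fs4 (Nat.add (Nat.succ 271089) k)) 268 = true := by decide +kernel
theorem s4c923 : allBelow (fun k => fs4 (Nat.add (Nat.succ 271357) k)) 278 = true := by decide +kernel
theorem s4c924 : allBelow (fun k => fs4 (Nat.add (Nat.succ 271635) k)) 282 = true := by decide +kernel
theorem s4c925 : allBelow (fun k => fs4 (Nat.add (Nat.succ 271917) k)) 289 = true := by decide +kernel
theorem s4c926 : allBelow (fun k => fs4 (Nat.add (Nat.succ 272206) k)) 257 = true := by decide +kernel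
theorem s4c927 : allBelow (fun k => fs4 (Nat.add (Nat.succ 272463) k)) 272 = true := by decide +kernel
theorem s4c928 : allBelow (fun k => fs4 (Nat.add (Nat.succ 272735) k)) 270 = true := by decide +kernel
theorem s4c929 : allBelow (fun k => fs4 (Nat.add (Nat.succ 273005) k)) 267 = true := by decide +kernel
theorem s4c930 : allBelow (fun k => fs4 (Nat.add (Nat.succ 273272) k)) 256 = true := by decide +kernel
theorem s4c931 : allBelow (fun k => fs4 (Nat.add (Nat.succ 273528) k)) 259 = true := by decide +kernel
theorem s4c932 : allBelow (fun k => fs4 (Nat.add (Nat.succ 273787) k)) 268 = true := by decide +kernel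
theorem s4c933 : allBelow (fun k => fs4 (Nat.add (Nat.succ 274055) k)) 271 = true := by decide +kernel
theorem s4c934 : allBelow (fun k => fs4 (Nat.add (Nat.succ 274326) k)) 264 = true := by decide +kernel
theorem s4c935 : allBelow (fun k => fs4 (Nat.add (Nat.succ 274590) k)) 263 = true := by decide +kernel
theorem s4c936 : allBelow (fun k => fs4 (Nat.add (Nat.succ 274853) k)) 270 = true := by decide +kernel
theorem s4c937 : allBelow (fun k => fs4 (Nat.add (Nat.succ 275123) k)) 264 = true := by decide +kernel
theorem s4c938 : allBelow (fun k => fs4 (Nat.add (Nat.succ 275387) k)) 262 = true := by decide +kernel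
theorem s4c939 : allBelow (fun k => fs4 (Nat.add (Nat.succ 275649) k)) 261 = true := by decide +kernel
theorem s4c940 : allBelow (fun k => fs4 (Nat.add (Nat.succ 275910) k)) 266 = true := by decide +kernel
theorem s4c941 : allBelow (fun k => fs4 (Nat.add (Nat.succ 276176) k)) 267 = true := by decide +kernel
theorem s4c942 : allBelow (fun k => fs4 (Nat.add (Nat.succ 276443) k)) 281 = true := by decide +kernel
theorem s4c943 : allBelow (fun k => fs4 (Nat.add (Nat.succ 276724) k)) 271 = true := by decide +kernel
theorem s4c944 : allBelow (fun k => fs4 (Nat.add (Nat.succ 276995) k)) 264 = true := by decide +kernel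
theorem s4c945 : allBelow (fun k => fs4 (Nat.add (Nat.succ 277259) k)) 265 = true := by decide +kernel
theorem s4c946 : allBelow (fun k => fs4 (Nat.add (Nat.succ 277524) k)) 277 = true := by decide +kernel
theorem s4c947 : allBelow (fun k => fs4 (Nat.add (Nat.succ 277801) k)) 264 = true := by decide +kernel
theorem s4c948 : allBelow (fun k => fs4 (Nat.add (Nat.succ 278065) k)) 258 = true := by decide +kernel
theorem s4c949 : allBelow (fun k => fs4 (Nat.add (Nat.succ 278323) k)) 272 = true := by decide +kernel
theorem s4c950 : allBelow (fun k => fs4 (Nat.add (Nat.succ 278595) k)) 266 = true := by decide +kernel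
theorem s4c951 : allBelow (fun k => fs4 (Nat.add (Nat.succ 278861) k)) 262 = true := by decide +kernel
theorem s4c952 : allBelow (fun k => fs4 (Nat.add (Nat.succ 279123) k)) 271 = true := by decide +kernel
theorem s4c953 : allBelow (fun k => fs4 (Nat.add (Nat.succ 279394) k)) 275 = true := by decide +kernel
theorem s4c954 : allBelow (fun k => fs4 (Nat.add (Nat.succ 279669) k)) 271 = true := by decide +kernel
theorem s4c955 : allBelow (fun k => fs4 (Nat.add (Nat.succ 279940) k)) 250 = true := by decide +kernel
theorem s4c956 : allBelow (fun k => fs4 (Nat.add (Nat.succ 280190) k)) 268 = true := by decide +kernel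
theorem s4c957 : allBelow (fun k => fs4 (Nat.add (Nat.succ 280458) k)) 273 = true := by decide +kernel
theorem s4c958 : allBelow (fun k => fs4 (Nat.add (Nat.succ 280731) k)) 271 = true := by decide +kernel
theorem s4c959 : allBelow (fun k => fs4 (Nat.add (Nat.succ 281002) k)) 267 = true := by decide +kernel
theorem s4c960 : allBelow (fun k => fs4 (Nat.add (Nat.succ 281269) k)) 275 = true := by decide +kernel
theorem s4c961 : allBelow (fun k => fs4 (Nat.add (Nat.succ 281544) k)) 274 = true := by decide +kernel
theorem s4c962 : allBelow (fun k => fs4 (Nat.add (Nat.succ 281818) k)) 265 = true := by decide +kernel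
theorem s4c963 : allBelow (fun k => fs4 (Nat.add (Nat.succ 282083) k)) 265 = true := by decide +kernel
theorem s4c964 : allBelow (fun k => fs4 (Nat.add (Nat.succ 282348) k)) 257 = true := by decide +kernel
theorem s4c965 : allBelow (fun k => fs4 (Nat.add (Nat.succ 282605) k)) 280 = true := by decide +kernel
theorem s4c966 : allBelow (fun k => fs4 (Nat.add (Nat.succ 282885) k)) 271 = true := by decide +kernel
theorem s4c967 : allBelow (fun k => fs4 (Nat.add (Nat.succ 283156) k)) 264 = true := by decide +kernel
theorem s4c968 : allBelow (fun k => fs4 (Nat.add (Nat.succ 283420) k)) 265 = true := by decide +kernel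
theorem s4c969 : allBelow (fun k => fs4 (Nat.add (Nat.succ 283685) k)) 271 = true := by decide +kernel
theorem s4c970 : allBelow (fun k => fs4 (Nat.add (Nat.succ 283956) k)) 267 = true := by decide +kernel
theorem s4c971 : allBelow (fun k => fs4 (Nat.add (Nat.succ 284223) k)) 261 = true := by decide +kernel
theorem s4c972 : allBelow (fun k => fs4 (Nat.add (Nat.succ 284484) k)) 265 = true := by decide +kernel
theorem s4c973 : allBelow (fun k => fs4 (Nat.add (Nat.succ 284749) k)) 274 = true := by decide +kernel
theorem s4c974 : allBelow (fun k => fs4 (Nat.add (Nat.succ 285023) k)) 256 = true := by decide +kernel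
theorem s4c975 : allBelow (fun k => fs4 (Nat.add (Nat.succ 285279) k)) 258 = true := by decide +kernel
theorem s4c976 : allBelow (fun k => fs4 (Nat.add (Nat.succ 285537) k)) 267 = true := by decide +kernel
theorem s4c977 : allBelow (fun k => fs4 (Nat.add (Nat.succ 285804) k)) 268 = true := by decide +kernel
theorem s4c978 : allBelow (fun k => fs4 (Nat.add (Nat.succ 286072) k)) 264 = true := by decide +kernel
theorem s4c979 : allBelow (fun k => fs4 (Nat.add (Nat.succ 286336) k)) 262 = true := by decide +kernel
theorem s4c980 : allBelow (fun k => fs4 (Nat.add (Nat.succ 286598) k)) 267 = true := by decide +kernel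
theorem s4c981 : allBelow (fun k => fs4 (Nat.add (Nat.succ 286865) k)) 271 = true := by decide +kernel
theorem s4c982 : allBelow (fun k => fs4 (Nat.add (Nat.succ 287136) k)) 278 = true := by decide +kernel
theorem s4c983 : allBelow (fun k => fs4 (Nat.add (Nat.succ 287414) k)) 262 = true := by decide +kernel
theorem s4c984 : allBelow (fun k => fs4 (Nat.add (Nat.succ 287676) k)) 260 = true := by decide +kernel
theorem s4c985 : allBelow (fun k => fs4 (Nat.add (Nat.succ 287936) k)) 269 = true := by decide +kernel
theorem s4c986 : allBelow (fun k => fs4 (Nat.add (Nat.succ 288205) k)) 255 = true := by decide +kernel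
theorem s4c987 : allBelow (fun k => fs4 (Nat.add (Nat.succ 288460) k)) 272 = true := by decide +kernel
theorem s4c988 : allBelow (fun k => fs4 (Nat.add (Nat.succ 288732) k)) 275 = true := by decide +kernel
theorem s4c989 : allBelow (fun k => fs4 (Nat.add (Nat.succ 289007) k)) 251 = true := by decide +kernel
theorem s4c990 : allBelow (fun k => fs4 (Nat.add (Nat.succ 289258) k)) 258 = true := by decide +kernel
theorem s4c991 : allBelow (fun k => fs4 (Nat.add (Nat.succ 289516) k)) 258 = true := by decide +kernel
theorem s4c992 : allBelow (fun k => fs4 (Nat.add (Nat.succ 289774) k)) 253 = true := by decide +kernel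
theorem s4c993 : allBelow (fun k => fs4 (Nat.add (Nat.succ 290027) k)) 272 = true := by decide +kernel
theorem s4c994 : allBelow (fun k => fs4 (Nat.add (Nat.succ 290299) k)) 265 = true := by decide +kernel
theorem s4c995 : allBelow (fun k => fs4 (Nat.add (Nat.succ 290564) k)) 262 = true := by decide +kernel
theorem s4c996 : allBelow (fun k => fs4 (Nat.add (Nat.succ 290826) k)) 257 = true := by decide +kernel
theorem s4c997 : allBelow (fun k => fs4 (Nat.add (Nat.succ 291083) k)) 251 = true := by decide +kernel
theorem s4c998 : allBelow (fun k => fs4 (Nat.add (Nat.succ 291334) k)) 272 = true := by decide +kernel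
theorem s4c999 : allBelow (fun k => fs4 (Nat.add (Nat.succ 291606) k)) 269 = true := by decide +kernel
theorem s4c1000 : allBelow (fun k => fs4 (Nat.add (Nat.succ 291875) k)) 277 = true := by decide +kernel
theorem s4c1001 : allBelow (fun k => fs4 (Nat.add (Nat.succ 292152) k)) 275 = true := by decide +kernel
theorem s4c1002 : allBelow (fun k => fs4 (Nat.add (Nat.succ 292427) k)) 267 = true := by decide +kernel
theorem s4c1003 : allBelow (fun k => fs4 (Nat.add (Nat.succ 292694) k)) 268 = true := by decide +kernel
theorem s4c1004 : allBelow (fun k => fs4 (Nat.add (Nat.succ 292962) k)) 265 = true := by decide +kernel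
theorem s4c1005 : allBelow (fun k => fs4 (Nat.add (Nat.succ 293227) k)) 265 = true := by decide +kernel
theorem s4c1006 : allBelow (fun k => fs4 (Nat.add (Nat.succ 293492) k)) 270 = true := by decide +kernel
theorem s4c1007 : allBelow (fun k => fs4 (Nat.add (Nat.succ 293762) k)) 265 = true := by decide +kernel

end Cfsg.Agent.Lib.Helper35.Fi24a
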