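import Cfsg.Agent.Lib.Helper35.Fi24a.Data

set_option Elab.async false

namespace Cfsg.Agent.Lib.Helper35.Fi24a

open Cfsg.Agent.Lib.Helper35

theorem s4c1008 : allBelow (fun k => fs4 (Nat.add (Nat.succ 294027) k)) 261 = true := by decide +kernel
theorem s4c1009 : allBelow (fun k => fs4 (Nat.add (Nat.succ 294288) k)) 271 = true := by decide +kernel
theorem s4c1010 : allBelow (fun k => fs4 (Nat.add (Nat.succ 294559) k)) 274 = true := by decide +kernel
theorem s4c1011 : allBelow (fun k => fs4 (Nat.add (Nat.succ 294833) k)) 264 = true := by decide +kernel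
theorem s4c1012 : allBelow (fun k => fs4 (Nat.add (Nat.succ 295097) k)) 274 = true := by decide +kernel
theorem s4c1013 : allBelow (fun k => fs4 (Nat.add (Nat.succ 295371) k)) 261 = true := by decide +kernel
theorem s4c1014 : allBelow (fun k => fs4 (Nat.add (Nat.succ 295632) k)) 256 = true := by decide +kernel
theorem s4c1015 : allBelow (fun k => fs4 (Nat.add (Nat.succ 295888) k)) 270 = true := by decide +kernel
theorem s4c1016 : allBelow (fun k => fs4 (Nat.add (Nat.succ 296158) k)) 281 = true := by decide +kernel
theorem s4c1017 : allBelow (fun k => fs4 (Nat.add (Nat.succ 296439) k)) 276 = true := by decide +kernel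
theorem s4c1018 : allBelow (fun k => fs4 (Nat.add (Nat.succ 296715) k)) 284 = true := by decide +kernel
theorem s4c1019 : allBelow (fun k => fs4 (Nat.add (Nat.succ 296999) k)) 271 = true := by decide +kernel
theorem s4c1020 : allBelow (fun k => fs4 (Nat.add (Nat.succ 297270) k)) 258 = true := by decide +kernel
theorem s4c1021 : allBelow (fun k => fs4 (Nat.add (Nat.succ 297528) k)) 265 = true := by decide +kernel
theorem s4c1022 : allBelow (fun k => fs4 (Nat.add (Nat.succ 297793) k)) 262 = true := by decide +kernel
theorem s4c1023 : allBelow (fun k => fs4 (Nat.add (Nat.succ 298055) k)) 258 = true := by decide +kernel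
theorem s4c1024 : allBelow (fun k => fs4 (Nat.add (Nat.succ 298313) k)) 260 = true := by decide +kernel
theorem s4c1025 : allBelow (fun k => fs4 (Nat.add (Nat.succ 298573) k)) 261 = true := by decide +kernel
theorem s4c1026 : allBelow (fun k => fs4 (Nat.add (Nat.succ 298834) k)) 258 = true := by decide +kernel
theorem s4c1027 : allBelow (fun k => fs4 (Nat.add (Nat.succ 299092) k)) 259 = true := by decide +kernel
theorem s4c1028 : allBelow (fun k => fs4 (Nat.add (Nat.succ 299351) k)) 249 = true := by decide +kernel
theorem s4c1029 : allBelow (fun k => fs4 (Nat.add (Nat.succ 299600) k)) 265 = true := by decide +kernel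
theorem s4c1030 : allBelow (fun k => fs4 (Nat.add (Nat.succ 299865) k)) 254 = true := by decide +kernel
theorem s4c1031 : allBelow (fun k => fs4 (Nat.add (Nat.succ 300119) k)) 254 = true := by decide +kernel
theorem s4c1032 : allBelow (fun k => fs4 (Nat.add (Nat.succ 300373) k)) 258 = true := by decide +kernel
theorem s4c1033 : allBelow (fun k => fs4 (Nat.add (Nat.succ 300631) k)) 255 = true := by decide +kernel
theorem s4c1034 : allBelow (fun k => fs4 (Nat.add (Nat.succ 300886) k)) 271 = true := by decide +kernel
theorem s4c1035 : allBelow (fun k => fs4 (Nat.add (Nat.succ 301157) k)) 258 = true := by decide +kernel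
theorem s4c1036 : allBelow (fun k => fs4 (Nat.add (Nat.succ 301415) k)) 263 = true := by decide +kernel
theorem s4c1037 : allBelow (fun k => fs4 (Nat.add (Nat.succ 301678) k)) 269 = true := by decide +kernel
theorem s4c1038 : allBelow (fun k => fs4 (Nat.add (Nat.succ 301947) k)) 266 = true := by decide +kernel
theorem s4c1039 : allBelow (fun k => fs4 (Nat.add (Nat.succ 302213) k)) 256 = true := by decide +kernel
theorem s4c1040 : allBelow (fun k => fs4 (Nat.add (Nat.succ 302469) k)) 254 = true := by decide +kernel
theorem s4c1041 : allBelow (fun k => fs4 (Nat.add (Nat.succ 302723) k)) 279 = true := by decide +kernel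
theorem s4c1042 : allBelow (fun k => fs4 (Nat.add (Nat.succ 303002) k)) 243 = true := by decide +kernel
theorem s4c1043 : allBelow (fun k => fs4 (Nat.add (Nat.succ 303245) k)) 262 = true := by decide +kernel
theorem s4c1044 : allBelow (fun k => fs4 (Nat.add (Nat.succ 303507) k)) 255 = true := by decide +kernel
theorem s4c1045 : allBelow (fun k => fs4 (Nat.add (Nat.succ 303762) k)) 257 = true := by decide +kernel
theorem s4c1046 : allBelow (fun k => fs4 (Nat.add (Nat.succ 304019) k)) 265 = true := by decide +kernel
theorem s4c1047 : allBelow (fun k => fs4 (Nat.add (Nat.succ 304284) k)) 275 = true := by decide +kernel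
theorem s4c1048 : allBelow (fun k => fs4 (Nat.add (Nat.succ 304559) k)) 255 = true := by decide +kernel
theorem s4c1049 : allBelow (fun k => fs4 (Nat.add (Nat.succ 304814) k)) 240 = true := by decide +kernel
theorem s4c1050 : allBelow (fun k => fs4 (Nat.add (Nat.succ 305054) k)) 252 = true := by decide +kernel
theorem s4c1051 : allBelow (fun k => fs4 (Nat.add (Nat.succ 305306) k)) 260 = true := by decide +kernel
theorem s4c1052 : allBelow (fun k => fs4 (Nat.add (Nat.succ 305566) k)) 258 = true := by decide +kernel
theorem s4c1053 : allBelow (fun k => fs4 (Nat.add (Nat.succ 305824) k)) 266 = true := by decide +kernel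
theorem s4c1054 : allBelow (fun k => fs4 (Nat.add (Nat.succ 306090) k)) 265 = true := by decide +kernel
theorem s4c1055 : allBelow (fun k => fs4 (Nat.add (Nat.succ 306355) k)) 259 = true := by decide +kernel
theorem s4c1056 : allBelow (fun k => fs4 (Nat.add (Nat.succ 306614) k)) 255 = true := by decide +kernel
theorem s4c1057 : allBelow (fun k => fs4 (Nat.add (Nat.succ 306869) k)) 248 = true := by decide +kernel
theorem s4c1058 : allBelow (fun k => fs4 (Nat.add (Nat.succ 307117) k)) 261 = true := by decide +kernel
theorem s4c1059 : allBelow (fun k => fs4 (Nat.add (Nat.succ 307378) k)) 270 = true := by decide +kernel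
theorem s4c1060 : allBelow (fun k => fs4 (Nat.add (Nat.succ 307648) k)) 258 = true := by decide +kernel
theorem s4c1061 : allBelow (fun k => fs4 (Nat.add (Nat.succ 307906) k)) 250 = true := by decide +kernel
theorem s4c1062 : allBelow (fun k => fs4 (Nat.add (Nat.succ 308156) k)) 262 = true := by decide +kernel
theorem s4c1063 : allBelow (fun k => fs4 (Nat.add (Nat.succ 308418) k)) 256 = true := by decide +kernel
theorem s4c1064 : allBelow (fun k => fs4 (Nat.add (Nat.succ 308674) k)) 250 = true := by decide +kernel
theorem s4c1065 : allBelow (fun k => fs4 (Nat.add (Nat.succ 308924) k)) 264 = true := by decide +kernel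
theorem s4c1066 : allBelow (fun k => fs4 (Nat.add (Nat.succ 309188) k)) 251 = true := by decide +kernel
theorem s4c1067 : allBelow (fun k => fs4 (Nat.add (Nat.succ 309439) k)) 243 = true := by decide +kernel
theorem s4c1068 : allBelow (fun k => fs4 (Nat.add (Nat.succ 309682) k)) 259 = true := by decide +kernel
theorem s4c1069 : allBelow (fun k => fs4 (Nat.add (Nat.succ 309941) k)) 267 = true := by decide +kernel
theorem s4c1070 : allBelow (fun k => fs4 (Nat.add (Nat.succ 310208) k)) 259 = true := by decide +kernel
theorem s4c1071 : allBelow (fun k => fs4 (Nat.add (Nat.succ 310467) k)) 260 = true := by decide +kernel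
theorem s4c1072 : allBelow (fun k => fs4 (Nat.add (Nat.succ 310727) k)) 261 = true := by decide +kernel
theorem s4c1073 : allBelow (fun k => fs4 (Nat.add (Nat.succ 310988) k)) 254 = true := by decide +kernel
theorem s4c1074 : allBelow (fun k => fs4 (Nat.add (Nat.succ 311242) k)) 263 = true := by decide +kernel
theorem s4c1075 : allBelow (fun k => fs4 (Nat.add (Nat.succ 311505) k)) 261 = true := by decide +kernel
theorem s4c1076 : allBelow (fun k => fs4 (Nat.add (Nat.succ 311766) k)) 255 = true := by decide +kernel
theorem s4c1077 : allBelow (fun k => fs4 (Nat.add (Nat.succ 312021) k)) 263 = true := by decide +kernel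
theorem s4c1078 : allBelow (fun k => fs4 (Nat.add (Nat.succ 312284) k)) 243 = true := by decide +kernel
theorem s4c1079 : allBelow (fun k => fs4 (Nat.add (Nat.succ 312527) k)) 262 = true := by decide +kernel
theorem s4c1080 : allBelow (fun k => fs4 (Nat.add (Nat.succ 312789) k)) 256 = true := by decide +kernel
theorem s4c1081 : allBelow (fun k => fs4 (Nat.add (Nat.succ 313045) k)) 249 = true := by decide +kernel
theorem s4c1082 : allBelow (fun k => fs4 (Nat.add (Nat.succ 313294) k)) 247 = true := by decide +kernel
theorem s4c1083 : allBelow (fun k => fs4 (Nat.add (Nat.succ 313541) k)) 255 = true := by decide +kernel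
theorem s4c1084 : allBelow (fun k => fs4 (Nat.add (Nat.succ 313796) k)) 255 = true := by decide +kernel
theorem s4c1085 : allBelow (fun k => fs4 (Nat.add (Nat.succ 314051) k)) 250 = true := by decide +kernel
theorem s4c1086 : allBelow (fun k => fs4 (Nat.add (Nat.succ 314301) k)) 253 = true := by decide +kernel
theorem s4c1087 : allBelow (fun k => fs4 (Nat.add (Nat.succ 314554) k)) 276 = true := by decide +kernel
theorem s4c1088 : allBelow (fun k => fs4 (Nat.add (Nat.succ 314830) k)) 262 = true := by decide +kernel
theorem s4c1089 : allBelow (fun k => fs4 (Nat.add (Nat.succ 315092) k)) 269 = true := by decide +kernel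
theorem s4c1090 : allBelow (fun k => fs4 (Nat.add (Nat.succ 315361) k)) 260 = true := by decide +kernel
theorem s4c1091 : allBelow (fun k => fs4 (Nat.add (Nat.succ 315621) k)) 264 = true := by decide +kernel
theorem s4c1092 : allBelow (fun k => fs4 (Nat.add (Nat.succ 315885) k)) 265 = true := by decide +kernel
theorem s4c1093 : allBelow (fun k => fs4 (Nat.add (Nat.succ 316150) k)) 248 = true := by decide +kernel
theorem s4c1094 : allBelow (fun k => fs4 (Nat.add (Nat.succ 316398) k)) 260 = true := by decide +kernel
theorem s4c1095 : allBelow (fun k => fs4 (Nat.add (Nat.succ 316658) k)) 264 = true := by decide +kernel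
theorem s4c1096 : allBelow (fun k => fs4 (Nat.add (Nat.succ 316922) k)) 253 = true := by decide +kernel
theorem s4c1097 : allBelow (fun k => fs4 (Nat.add (Nat.succ 317175) k)) 270 = true := by decide +kernel
theorem s4c1098 : allBelow (fun k => fs4 (Nat.add (Nat.succ 317445) k)) 267 = true := by decide +kernel
theorem s4c1099 : allBelow (fun k => fs4 (Nat.add (Nat.succ 317712) k)) 261 = true := by decide +kernel
theorem s4c1100 : allBelow (fun k => fs4 (Nat.add (Nat.succ 317973) k)) 254 = true := by decide +kernel
theorem s4c1101 : allBelow (fun k => fs4 (Nat.add (Nat.succ 318227) k)) 260 = true := by decide +kernel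
theorem s4c1102 : allBelow (fun k => fs4 (Nat.add (Nat.succ 318487) k)) 274 = true := by decide +kernel
theorem s4c1103 : allBelow (fun k => fs4 (Nat.add (Nat.succ 318761) k)) 264 = true := by decide +kernel
theorem s4c1104 : allBelow (fun k => fs4 (Nat.add (Nat.succ 319025) k)) 266 = true := by decide +kernel
theorem s4c1105 : allBelow (fun k => fs4 (Nat.add (Nat.succ 319291) k)) 257 = true := by decide +kernel
theorem s4c1106 : allBelow (fun k => fs4 (Nat.add (Nat.succ 319548) k)) 250 = true := by decide +kernel
theorem s4c1107 : allBelow (fun k => fs4 (Nat.add (Nat.succ 319798) k)) 252 = true := by decide +kernel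
theorem s4c1108 : allBelow (fun k => fs4 (Nat.add (Nat.succ 320050) k)) 250 = true := by decide +kernel
theorem s4c1109 : allBelow (fun k => fs4 (Nat.add (Nat.succ 320300) k)) 245 = true := by decide +kernel
theorem s4c1110 : allBelow (fun k => fs4 (Nat.add (Nat.succ 320545) k)) 258 = true := by decide +kernel
theorem s4c1111 : allBelow (fun k => fs4 (Nat.add (Nat.succ 320803) k)) 250 = true := by decide +kernel
theorem s4c1112 : allBelow (fun k => fs4 (Nat.add (Nat.succ 321053) k)) 244 = true := by decide +kernel
theorem s4c1113 : allBelow (fun k => fs4 (Nat.add (Nat.succ 321297) k)) 235 = true := by decide +kernel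
theorem s4c1114 : allBelow (fun k => fs4 (Nat.add (Nat.succ 321532) k)) 247 = true := by decide +kernel
theorem s4c1115 : allBelow (fun k => fs4 (Nat.add (Nat.succ 321779) k)) 239 = true := by decide +kernel
theorem s4c1116 : allBelow (fun k => fs4 (Nat.add (Nat.succ 322018) k)) 242 = true := by decide +kernel
theorem s4c1117 : allBelow (fun k => fs4 (Nat.add (Nat.succ 322260) k)) 248 = true := by decide +kernel
theorem s4c1118 : allBelow (fun k => fs4 (Nat.add (Nat.succ 322508) k)) 243 = true := by decide +kernel
theorem s4c1119 : allBelow (fun k => fs4 (Nat.add (Nat.succ 322751) k)) 255 = true := by decide +kernel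
theorem s4c1120 : allBelow (fun k => fs4 (Nat.add (Nat.succ 323006) k)) 255 = true := by decide +kernel
theorem s4c1121 : allBelow (fun k => fs4 (Nat.add (Nat.succ 323261) k)) 251 = true := by decide +kernel
theorem s4c1122 : allBelow (fun k => fs4 (Nat.add (Nat.succ 323512) k)) 254 = true := by decide +kernel
theorem s4c1123 : allBelow (fun k => fs4 (Nat.add (Nat.succ 323766) k)) 246 = true := by decide +kernel
theorem s4c1124 : allBelow (fun k => fs4 (Nat.add (Nat.succ 324012) k)) 256 = true := by decide +kernel
theorem s4c1125 : allBelow (fun k => fs4 (Nat.add (Nat.succ 324268) k)) 245 = true := by decide +kernel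
theorem s4c1126 : allBelow (fun k => fs4 (Nat.add (Nat.succ 324513) k)) 248 = true := by decide +kernel
theorem s4c1127 : allBelow (fun k => fs4 (Nat.add (Nat.succ 324761) k)) 247 = true := by decide +kernel
theorem s4c1128 : allBelow (fun k => fs4 (Nat.add (Nat.succ 325008) k)) 248 = true := by decide +kernel
theorem s4c1129 : allBelow (fun k => fs4 (Nat.add (Nat.succ 325256) k)) 250 = true := by decide +kernel
theorem s4c1130 : allBelow (fun k => fs4 (Nat.add (Nat.succ 325506) k)) 255 = true := by decide +kernel
theorem s4c1131 : allBelow (fun k => fs4 (Nat.add (Nat.succ 325761) k)) 237 = true := by decide +kernel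
theorem s4c1132 : allBelow (fun k => fs4 (Nat.add (Nat.succ 325998) k)) 239 = true := by decide +kernel
theorem s4c1133 : allBelow (fun k => fs4 (Nat.add (Nat.succ 326237) k)) 262 = true := by decide +kernel
theorem s4c1134 : allBelow (fun k => fs4 (Nat.add (Nat.succ 326499) k)) 248 = true := by decide +kernel
theorem s4c1135 : allBelow (fun k => fs4 (Nat.add (Nat.succ 326747) k)) 250 = true := by decide +kernel
theorem s4c1136 : allBelow (fun k => fs4 (Nat.add (Nat.succ 326997) k)) 251 = true := by decide +kernel
theorem s4c1137 : allBelow (fun k => fs4 (Nat.add (Nat.succ 327248) k)) 259 = true := by decide +kernel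
theorem s4c1138 : allBelow (fun k => fs4 (Nat.add (Nat.succ 327507) k)) 229 = true := by decide +kernel
theorem s4c1139 : allBelow (fun k => fs4 (Nat.add (Nat.succ 327736) k)) 263 = true := by decide +kernel
theorem s4c1140 : allBelow (fun k => fs4 (Nat.add (Nat.succ 327999) k)) 252 = true := by decide +kernel
theorem s4c1141 : allBelow (fun k => fs4 (Nat.add (Nat.succ 328251) k)) 253 = true := by decide +kernel
theorem s4c1142 : allBelow (fun k => fs4 (Nat.add (Nat.succ 328504) k)) 255 = true := by decide +kernel
theorem s4c1143 : allBelow (fun k => fs4 (Nat.add (Nat.succ 328759) k)) 238 = true := by decide +kernel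
theorem s4c1144 : allBelow (fun k => fs4 (Nat.add (Nat.succ 328997) k)) 248 = true := by decide +kernel
theorem s4c1145 : allBelow (fun k => fs4 (Nat.add (Nat.succ 329245) k)) 237 = true := by decide +kernel
theorem s4c1146 : allBelow (fun k => fs4 (Nat.add (Nat.succ 329482) k)) 255 = true := by decide +kernel
theorem s4c1147 : allBelow (fun k => fs4 (Nat.add (Nat.succ 329737) k)) 262 = true := by decide +kernel
theorem s4c1148 : allBelow (fun k => fs4 (Nat.add (Nat.succ 329999) k)) 249 = true := by decide +kernel
theorem s4c1149 : allBelow (fun k => fs4 (Nat.add (Nat.succ 330248) k)) 255 = true := by decide +kernel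
theorem s4c1150 : allBelow (fun k => fs4 (Nat.add (Nat.succ 330503) k)) 242 = true := by decide +kernel
theorem s4c1151 : allBelow (fun k => fs4 (Nat.add (Nat.succ 330745) k)) 251 = true := by decide +kernel
theorem s4c1152 : allBelow (fun k => fs4 (Nat.add (Nat.succ 330996) k)) 253 = true := by decide +kernel
theorem s4c1153 : allBelow (fun k => fs4 (Nat.add (Nat.succ 331249) k)) 245 = true := by decide +kernel
theorem s4c1154 : allBelow (fun k => fs4 (Nat.add (Nat.succ 331494) k)) 241 = true := by decide +kernel
theorem s4c1155 : allBelow (fun k => fs4 (Nat.add (Nat.succ 331735) k)) 251 = true := by decide +kernel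
theorem s4c1156 : allBelow (fun k => fs4 (Nat.add (Nat.succ 331986) k)) 242 = true := by decide +kernel
theorem s4c1157 : allBelow (fun k => fs4 (Nat.add (Nat.succ 332228) k)) 248 = true := by decide +kernel
theorem s4c1158 : allBelow (fun k => fs4 (Nat.add (Nat.succ 332476) k)) 253 = true := by decide +kernel
theorem s4c1159 : allBelow (fun k => fs4 (Nat.add (Nat.succ 332729) k)) 253 = true := by decide +kernel
theorem s4c1160 : allBelow (fun k => fs4 (Nat.add (Nat.succ 332982) k)) 250 = true := by decide +kernel
theorem s4c1161 : allBelow (fun k => fs4 (Nat.add (Nat.succ 333232) k)) 260 = true := by decide +kernel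
theorem s4c1162 : allBelow (fun k => fs4 (Nat.add (Nat.succ 333492) k)) 248 = true := by decide +kernel
theorem s4c1163 : allBelow (fun k => fs4 (Nat.add (Nat.succ 333740) k)) 254 = true := by decide +kernel
theorem s4c1164 : allBelow (fun k => fs4 (Nat.add (Nat.succ 333994) k)) 254 = true := by decide +kernel
theorem s4c1165 : allBelow (fun k => fs4 (Nat.add (Nat.succ 334248) k)) 262 = true := by decide +kernel
theorem s4c1166 : allBelow (fun k => fs4 (Nat.add (Nat.succ 334510) k)) 254 = true := by decide +kernel
theorem s4c1167 : allBelow (fun k => fs4 (Nat.add (Nat.succ 334764) k)) 272 = true := by decide +kernel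
theorem s4c1168 : allBelow (fun k => fs4 (Nat.add (Nat.succ 335036) k)) 253 = true := by decide +kernel
theorem s4c1169 : allBelow (fun k => fs4 (Nat.add (Nat.succ 335289) k)) 261 = true := by decide +kernel
theorem s4c1170 : allBelow (fun k => fs4 (Nat.add (Nat.succ 335550) k)) 249 = true := by decide +kernel
theorem s4c1171 : allBelow (fun k => fs4 (Nat.add (Nat.succ 335799) k)) 247 = true := by decide +kernel
theorem s4c1172 : allBelow (fun k => fs4 (Nat.add (Nat.succ 336046) k)) 249 = true := by decide +kernel
theorem s4c1173 : allBelow (fun k => fs4 (Nat.add (Nat.succ 336295) k)) 242 = true := by decide +kernel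
theorem s4c1174 : allBelow (fun k => fs4 (Nat.add (Nat.succ 336537) k)) 236 = true := by decide +kernel
theorem s4c1175 : allBelow (fun k => fs4 (Nat.add (Nat.succ 336773) k)) 233 = true := by decide +kernel
theorem s4c1176 : allBelow (fun k => fs4 (Nat.add (Nat.succ 337006) k)) 241 = true := by decide +kernel
theorem s4c1177 : allBelow (fun k => fs4 (Nat.add (Nat.succ 337247) k)) 246 = true := by decide +kernel
theorem s4c1178 : allBelow (fun k => fs4 (Nat.add (Nat.succ 337493) k)) 238 = true := by decide +kernel
theorem s4c1179 : allBelow (fun k => fs4 (Nat.add (Nat.succ 337731) k)) 236 = true := by decide +kernel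
theorem s4c1180 : allBelow (fun k => fs4 (Nat.add (Nat.succ 337967) k)) 230 = true := by decide +kernel
theorem s4c1181 : allBelow (fun k => fs4 (Nat.add (Nat.succ 338197) k)) 238 = true := by decide +kernel
theorem s4c1182 : allBelow (fun k => fs4 (Nat.add (Nat.succ 338435) k)) 235 = true := by decide +kernel
theorem s4c1183 : allBelow (fun k => fs4 (Nat.add (Nat.succ 338670) k)) 245 = true := by decide +kernel
theorem s4c1184 : allBelow (fun k => fs4 (Nat.add (Nat.succ 338915) k)) 244 = true := by decide +kernel
theorem s4c1185 : allBelow (fun k => fs4 (Nat.add (Nat.succ 339159) k)) 244 = true := by decide +kernel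
theorem s4c1186 : allBelow (fun k => fs4 (Nat.add (Nat.succ 339403) k)) 239 = true := by decide +kernel
theorem s4c1187 : allBelow (fun k => fs4 (Nat.add (Nat.succ 339642) k)) 244 = true := by decide +kernel
theorem s4c1188 : allBelow (fun k => fs4 (Nat.add (Nat.succ 339886) k)) 231 = true := by decide +kernel
theorem s4c1189 : allBelow (fun k => fs4 (Nat.add (Nat.succ 340117) k)) 243 = true := by decide +kernel
theorem s4c1190 : allBelow (fun k => fs4 (Nat.add (Nat.succ 340360) k)) 246 = true := by decide +kernel
theorem s4c1191 : allBelow (fun k => fs4 (Nat.add (Nat.succ 340606) k)) 243 = true := by decide +kernel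
theorem s4c1192 : allBelow (fun k => fs4 (Nat.add (Nat.succ 340849) k)) 241 = true := by decide +kernel
theorem s4c1193 : allBelow (fun k => fs4 (Nat.add (Nat.succ 341090) k)) 244 = true := by decide +kernel
theorem s4c1194 : allBelow (fun k => fs4 (Nat.add (Nat.succ 341334) k)) 255 = true := by decide +kernel
theorem s4c1195 : allBelow (fun k => fs4 (Nat.add (Nat.succ 341589) k)) 229 = true := by decide +kernel
theorem s4c1196 : allBelow (fun k => fs4 (Nat.add (Nat.succ 341818) k)) 251 = true := by decide +kernel
theorem s4c1197 : allBelow (fun k => fs4 (Nat.add (Nat.succ 342069) k)) 263 = true := by decide +kernel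
theorem s4c1198 : allBelow (fun k => fs4 (Nat.add (Nat.succ 342332) k)) 258 = true := by decide +kernel
theorem s4c1199 : allBelow (fun k => fs4 (Nat.add (Nat.succ 342590) k)) 241 = true := by decide +kernel
theorem s4c1200 : allBelow (fun k => fs4 (Nat.add (Nat.succ 342831) k)) 233 = true := by decide +kernel
theorem s4c1201 : allBelow (fun k => fs4 (Nat.add (Nat.succ 343064) k)) 246 = true := by decide +kernel
theorem s4c1202 : allBelow (fun k => fs4 (Nat.add (Nat.succ 343310) k)) 253 = true := by decide +kernel
theorem s4c1203 : allBelow (fun k => fs4 (Nat.add (Nat.succ 343563) k)) 258 = true := by decide +kernel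
theorem s4c1204 : allBelow (fun k => fs4 (Nat.add (Nat.succ 343821) k)) 238 = true := by decide +kernel
theorem s4c1205 : allBelow (fun k => fs4 (Nat.add (Nat.succ 344059) k)) 252 = true := by decide +kernel
theorem s4c1206 : allBelow (fun k => fs4 (Nat.add (Nat.succ 344311) k)) 241 = true := by decide +kernel
theorem s4c1207 : allBelow (fun k => fs4 (Nat.add (Nat.succ 344552) k)) 246 = true := by decide +kernel
theorem s4c1208 : allBelow (fun k => fs4 (Nat.add (Nat.succ 344798) k)) 243 = true := by decide +kernel
theorem s4c1209 : allBelow (fun k => fs4 (Nat.add (Nat.succ 345041) k)) 250 = true := by decide +kernel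
theorem s4c1210 : allBelow (fun k => fs4 (Nat.add (Nat.succ 345291) k)) 254 = true := by decide +kernel
theorem s4c1211 : allBelow (fun k => fs4 (Nat.add (Nat.succ 345545) k)) 255 = true := by decide +kernel
theorem s4c1212 : allBelow (fun k => fs4 (Nat.add (Nat.succ 345800) k)) 251 = true := by decide +kernel
theorem s4c1213 : allBelow (fun k => fs4 (Nat.add (Nat.succ 346051) k)) 259 = true := by decide +kernel
theorem s4c1214 : allBelow (fun k => fs4 (Nat.add (Nat.succ 346310) k)) 255 = true := by decide +kernel
theorem s4c1215 : allBelow (fun k => fs4 (Nat.add (Nat.succ 346565) k)) 232 = true := by decide +kernel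
theorem s4c1216 : allBelow (fun k => fs4 (Nat.add (Nat.succ 346797) k)) 250 = true := by decide +kernel
theorem s4c1217 : allBelow (fun k => fs4 (Nat.add (Nat.succ 347047) k)) 251 = true := by decide +kernel
theorem s4c1218 : allBelow (fun k => fs4 (Nat.add (Nat.succ 347298) k)) 216 = true := by decide +kernel
theorem s4c1219 : allBelow (fun k => fs4 (Nat.add (Nat.succ 347514) k)) 238 = true := by decide +kernel
theorem s4c1220 : allBelow (fun k => fs4 (Nat.add (Nat.succ 347752) k)) 231 = true := by decide +kernel
theorem s4c1221 : allBelow (fun k => fs4 (Nat.add (Nat.succ 347983) k)) 233 = true := by decide +kernel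
theorem s4c1222 : allBelow (fun k => fs4 (Nat.add (Nat.succ 348216) k)) 231 = true := by decide +kernel
theorem s4c1223 : allBelow (fun k => fs4 (Nat.add (Nat.succ 348447) k)) 229 = true := by decide +kernel
theorem s4c1224 : allBelow (fun k => fs4 (Nat.add (Nat.succ 348676) k)) 239 = true := by decide +kernel
theorem s4c1225 : allBelow (fun k => fs4 (Nat.add (Nat.succ 348915) k)) 241 = true := by decide +kernel
theorem s4c1226 : allBelow (fun k => fs4 (Nat.add (Nat.succ 349156) k)) 240 = true := by decide +kernel
theorem s4c1227 : allBelow (fun k => fs4 (Nat.add (Nat.succ 349396) k)) 245 = true := by decide +kernel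
theorem s4c1228 : allBelow (fun k => fs4 (Nat.add (Nat.succ 349641) k)) 234 = true := by decide +kernel
theorem s4c1229 : allBelow (fun k => fs4 (Nat.add (Nat.succ 349875) k)) 246 = true := by decide +kernel
theorem s4c1230 : allBelow (fun k => fs4 (Nat.add (Nat.succ 350121) k)) 244 = true := by decide +kernel
theorem s4c1231 : allBelow (fun k => fs4 (Nat.add (Nat.succ 350365) k)) 266 = true := by decide +kernel
theorem s4c1232 : allBelow (fun k => fs4 (Nat.add (Nat.succ 350631) k)) 257 = true := by decide +kernel
theorem s4c1233 : allBelow (fun k => fs4 (Nat.add (Nat.succ 350888) k)) 239 = true := by decide +kernel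
theorem s4c1234 : allBelow (fun k => fs4 (Nat.add (Nat.succ 351127) k)) 251 = true := by decide +kernel
theorem s4c1235 : allBelow (fun k => fs4 (Nat.add (Nat.succ 351378) k)) 249 = true := by decide +kernel
theorem s4c1236 : allBelow (fun k => fs4 (Nat.add (Nat.succ 351627) k)) 250 = true := by decide +kernel
theorem s4c1237 : allBelow (fun k => fs4 (Nat.add (Nat.succ 351877) k)) 241 = true := by decide +kernel
theorem s4c1238 : allBelow (fun k => fs4 (Nat.add (Nat.succ 352118) k)) 256 = true := by decide +kernel
theorem s4c1239 : allBelow (fun k => fs4 (Nat.add (Nat.succ 352374) k)) 266 = true := by decide +kernel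
theorem s4c1240 : allBelow (fun k => fs4 (Nat.add (Nat.succ 352640) k)) 238 = true := by decide +kernel
theorem s4c1241 : allBelow (fun k => fs4 (Nat.add (Nat.succ 352878) k)) 286 = true := by decide +kernel
theorem s4c1242 : allBelow (fun k => fs4 (Nat.add (Nat.succ 353164) k)) 227 = true := by decide +kernel
theorem s4c1243 : allBelow (fun k => fs4 (Nat.add (Nat.succ 353391) k)) 195 = true := by decide +kernel
theorem s4c1244 : allBelow (fun k => fs4 (Nat.add (Nat.succ 353586) k)) 229 = true := by decide +kernel
theorem s4c1245 : allBelow (fun k => fs4 (Nat.add (Nat.succ 353815) k)) 240 = true := by decide +kernel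
theorem s4c1246 : allBelow (fun k => fs4 (Nat.add (Nat.succ 354055) k)) 250 = true := by decide +kernel
theorem s4c1247 : allBelow (fun k => fs4 (Nat.add (Nat.succ 354305) k)) 220 = true := by decide +kernel
theorem s4c1248 : allBelow (fun k => fs4 (Nat.add (Nat.succ 354525) k)) 241 = true := by decide +kernel
theorem s4c1249 : allBelow (fun k => fs4 (Nat.add (Nat.succ 354766) k)) 258 = true := by decide +kernel
theorem s4c1250 : allBelow (fun k => fs4 (Nat.add (Nat.succ 355024) k)) 250 = true := by decide +kernel
theorem s4c1251 : allBelow (fun k => fs4 (Nat.add (Nat.succ 355274) k)) 244 = true := by decide +kernel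
theorem s4c1252 : allBelow (fun k => fs4 (Nat.add (Nat.succ 355518) k)) 271 = true := by decide +kernel
theorem s4c1253 : allBelow (fun k => fs4 (Nat.add (Nat.succ 355789) k)) 270 = true := by decide +kernel
theorem s4c1254 : allBelow (fun k => fs4 (Nat.add (Nat.succ 356059) k)) 228 = true := by decide +kernel
theorem s4c1255 : allBelow (fun k => fs4 (Nat.add (Nat.succ 356287) k)) 236 = true := by decide +kernel
theorem s4c1256 : allBelow (fun k => fs4 (Nat.add (Nat.succ 356523) k)) 263 = true := by decide +kernel
theorem s4c1257 : allBelow (fun k => fs4 (Nat.add (Nat.succ 356786) k)) 262 = true := by decide +kernel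
theorem s4c1258 : allBelow (fun k => fs4 (Nat.add (Nat.succ 357048) k)) 243 = true := by decide +kernel
theorem s4c1259 : allBelow (fun k => fs4 (Nat.add (Nat.succ 357291) k)) 174 = true := by decide +kernel
theorem s5c0 : allBelow (fun k => fs5 (Nat.add (Nat.succ 0) k)) 260 = true := by decide +kernel
theorem s5c1 : allBelow (fun k => fs5 (Nat.add (Nat.succ 260) k)) 290 = true := by decide +kernel
theorem s5c2 : allBelow (fun k => fs5 (Nat.add (Nat.succ 550) k)) 272 = true := by decide +kernel
theorem s5c3 : allBelow (fun k => fs5 (Nat.add (Nat.succ 822) k)) 271 = true := by decide +kernel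
theorem s5c4 : allBelow (fun k => fs5 (Nat.add (Nat.succ 1093) k)) 267 = true := by decide +kernel
theorem s5c5 : allBelow (fun k => fs5 (Nat.add (Nat.succ 1360) k)) 267 = true := by decide +kernel
theorem s5c6 : allBelow (fun k => fs5 (Nat.add (Nat.succ 1627) k)) 273 = true := by decide +kernel
theorem s5c7 : allBelow (fun k => fs5 (Nat.add (Nat.succ 1900) k)) 265 = true := by decide +kernel
theorem s5c8 : allBelow (fun k => fs5 (Nat.add (Nat.succ 2165) k)) 273 = true := by decide +kernel
theorem s5c9 : allBelow (fun k => fs5 (Nat.add (Nat.succ 2438) k)) 284 = true := by decide +kernel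
theorem s5c10 : allBelow (fun k => fs5 (Nat.add (Nat.succ 2722) k)) 268 = true := by decide +kernel
theorem s5c11 : allBelow (fun k => fs5 (Nat.add (Nat.succ 2990) k)) 286 = true := by decide +kernel
theorem s5c12 : allBelow (fun k => fs5 (Nat.add (Nat.succ 3276) k)) 295 = true := by decide +kernel
theorem s5c13 : allBelow (fun k => fs5 (Nat.add (Nat.succ 3571) k)) 271 = true := by decide +kernel
theorem s5c14 : allBelow (fun k => fs5 (Nat.add (Nat.succ 3842) k)) 276 = true := by decide +kernel
theorem s5c15 : allBelow (fun k => fs5 (Nat.add (Nat.succ 4118) k)) 302 = true := by decide +kernel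
theorem s5c16 : allBelow (fun k => fs5 (Nat.add (Nat.succ 4420) k)) 289 = true := by decide +kernel
theorem s5c17 : allBelow (fun k => fs5 (Nat.add (Nat.succ 4709) k)) 301 = true := by decide +kernel
theorem s5c18 : allBelow (fun k => fs5 (Nat.add (Nat.succ 5010) k)) 277 = true := by decide +kernel
theorem s5c19 : allBelow (fun k => fs5 (Nat.add (Nat.succ 5287) k)) 292 = true := by decide +kernel
theorem s5c20 : allBelow (fun k => fs5 (Nat.add (Nat.succ 5579) k)) 280 = true := by decide +kernel
theorem s5c21 : allBelow (fun k => fs5 (Nat.add (Nat.succ 5859) k)) 310 = true := by decide +kernel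
theorem s5c22 : allBelow (fun k => fs5 (Nat.add (Nat.succ 6169) k)) 286 = true := by decide +kernel
theorem s5c23 : allBelow (fun k => fs5 (Nat.add (Nat.succ 6455) k)) 283 = true := by decide +kernel
theorem s5c24 : allBelow (fun k => fs5 (Nat.add (Nat.succ 6738) k)) 321 = true := by decide +kernel
theorem s5c25 : allBelow (fun k => fs5 (Nat.add (Nat.succ 7059) k)) 289 = true := by decide +kernel
theorem s5c26 : allBelow (fun k => fs5 (Nat.add (Nat.succ 7348) k)) 304 = true := by decide +kernel
theorem s5c27 : allBelow (fun k => fs5 (Nat.add (Nat.succ 7652) k)) 280 = true := by decide +kernel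
theorem s5c28 : allBelow (fun k => fs5 (Nat.add (Nat.succ 7932) k)) 287 = true := by decide +kernel
theorem s5c29 : allBelow (fun k => fs5 (Nat.add (Nat.succ 8219) k)) 330 = true := by decide +kernel
theorem s5c30 : allBelow (fun k => fs5 (Nat.add (Nat.succ 8549) k)) 271 = true := by decide +kernel
theorem s5c31 : allBelow (fun k => fs5 (Nat.add (Nat.succ 8820) k)) 295 = true := by decide +kernel
theorem s5c32 : allBelow (fun k => fs5 (Nat.add (Nat.succ 9115) k)) 293 = true := by decide +kernel
theorem s5c33 : allBelow (fun k => fs5 (Nat.add (Nat.succ 9408) k)) 363 = true := by decide +kernel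
theorem s5c34 : allBelow (fun k => fs5 (Nat.add (Nat.succ 9771) k)) 290 = true := by decide +kernel
theorem s5c35 : allBelow (fun k => fs5 (Nat.add (Nat.succ 10061) k)) 299 = true := by decide +kernel
theorem s5c36 : allBelow (fun k => fs5 (Nat.add (Nat.succ 10360) k)) 270 = true := by decide +kernel
theorem s5c37 : allBelow (fun k => fs5 (Nat.add (Nat.succ 10630) k)) 272 = true := by decide +kernel
theorem s5c38 : allBelow (fun k => fs5 (Nat.add (Nat.succ 10902) k)) 264 = true := by decide +kernel
theorem s5c39 : allBelow (fun k => fs5 (Nat.add (Nat.succ 11166) k)) 274 = true := by decide +kernel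
theorem s5c40 : allBelow (fun k => fs5 (Nat.add (Nat.succ 11440) k)) 268 = true := by decide +kernel
theorem s5c41 : allBelow (fun k => fs5 (Nat.add (Nat.succ 11708) k)) 274 = true := by decide +kernel
theorem s5c42 : allBelow (fun k => fs5 (Nat.add (Nat.succ 11982) k)) 253 = true := by decide +kernel
theorem s5c43 : allBelow (fun k => fs5 (Nat.add (Nat.succ 12235) k)) 299 = true := by decide +kernel
theorem s5c44 : allBelow (fun k => fs5 (Nat.add (Nat.succ 12534) k)) 291 = true := by decide +kernel
theorem s5c45 : allBelow (fun k => fs5 (Nat.add (Nat.succ 12825) k)) 285 = true := by decide +kernel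
theorem s5c46 : allBelow (fun k => fs5 (Nat.add (Nat.succ 13110) k)) 277 = true := by decide +kernel
theorem s5c47 : allBelow (fun k => fs5 (Nat.add (Nat.succ 13387) k)) 258 = true := by decide +kernel
theorem s5c48 : allBelow (fun k => fs5 (Nat.add (Nat.succ 13645) k)) 269 = true := by decide +kernel
theorem s5c49 : allBelow (fun k => fs5 (Nat.add (Nat.succ 13914) k)) 280 = true := by decide +kernel
theorem s5c50 : allBelow (fun k => fs5 (Nat.add (Nat.succ 14194) k)) 288 = true := by decide +kernel
theorem s5c51 : allBelow (fun k => fs5 (Nat.add (Nat.succ 14482) k)) 270 = true := by decide +kernel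
theorem s5c52 : allBelow (fun k => fs5 (Nat.add (Nat.succ 14752) k)) 257 = true := by decide +kernel
theorem s5c53 : allBelow (fun k => fs5 (Nat.add (Nat.succ 15009) k)) 281 = true := by decide +kernel
theorem s5c54 : allBelow (fun k => fs5 (Nat.add (Nat.succ 15290) k)) 293 = true := by decide +kernel
theorem s5c55 : allBelow (fun k => fs5 (Nat.add (Nat.succ 15583) k)) 258 = true := by decide +kernel
theorem s5c56 : allBelow (fun k => fs5 (Nat.add (Nat.succ 15841) k)) 305 = true := by decide +kernel
theorem s5c57 : allBelow (fun k => fs5 (Nat.add (Nat.succ 16146) k)) 326 = true := by decide +kernel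
theorem s5c58 : allBelow (fun k => fs5 (Nat.add (Nat.succ 16472) k)) 279 = true := by decide +kernel
theorem s5c59 : allBelow (fun k => fs5 (Nat.add (Nat.succ 16751) k)) 288 = true := by decide +kernel
theorem s5c60 : allBelow (fun k => fs5 (Nat.add (Nat.succ 17039) k)) 287 = true := by decide +kernel
theorem s5c61 : allBelow (fun k => fs5 (Nat.add (Nat.succ 17326) k)) 298 = true := by decide +kernel
theorem s5c62 : allBelow (fun k => fs5 (Nat.add (Nat.succ 17624) k)) 253 = true := by decide +kernel
theorem s5c63 : allBelow (fun k => fs5 (Nat.add (Nat.succ 17877) k)) 286 = true := by decide +kernel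
theorem s5c64 : allBelow (fun k => fs5 (Nat.add (Nat.succ 18163) k)) 301 = true := by decide +kernel
theorem s5c65 : allBelow (fun k => fs5 (Nat.add (Nat.succ 18464) k)) 262 = true := by decide +kernel
theorem s5c66 : allBelow (fun k => fs5 (Nat.add (Nat.succ 18726) k)) 322 = true := by decide +kernel

end Cfsg.Agent.Lib.Helper35.Fi24a
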