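import Cfsg.Agent.Lib.Helper35.Fi24a.Data

set_option Elab.async false

namespace Cfsg.Agent.Lib.Helper35.Fi24a

open Cfsg.Agent.Lib.Helper35

theorem s0c638 : allBelow (fun k => fs0 (Nat.add (Nat.succ 196383) k)) 305 = true := by decide +kernel
theorem s0c639 : allBelow (fun k => fs0 (Nat.add (Nat.succ 196688) k)) 306 = true := by decide +kernel
theorem s0c640 : allBelow (fun k => fs0 (Nat.add (Nat.succ 196994) k)) 311 = true := by decide +kernel
theorem s0c641 : allBelow (fun k => fs0 (Nat.add (Nat.succ 197305) k)) 315 = true := by decide +kernel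
theorem s0c642 : allBelow (fun k => fs0 (Nat.add (Nat.succ 197620) k)) 310 = true := by decide +kernel
theorem s0c643 : allBelow (fun k => fs0 (Nat.add (Nat.succ 197930) k)) 289 = true := by decide +kernel
theorem s0c644 : allBelow (fun k => fs0 (Nat.add (Nat.succ 198219) k)) 308 = true := by decide +kernel
theorem s0c645 : allBelow (fun k => fs0 (Nat.add (Nat.succ 198527) k)) 229 = true := by decide +kernel
theorem s0c646 : allBelow (fun k => fs0 (Nat.add (Nat.succ 198756) k)) 228 = true := by decide +kernel
theorem s0c647 : allBelow (fun k => fs0 (Nat.add (Nat.succ 198984) k)) 228 = true := by decide +kernel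
theorem s0c648 : allBelow (fun k => fs0 (Nat.add (Nat.succ 199212) k)) 228 = true := by decide +kernel
theorem s0c649 : allBelow (fun k => fs0 (Nat.add (Nat.succ 199440) k)) 231 = true := by decide +kernel
theorem s0c650 : allBelow (fun k => fs0 (Nat.add (Nat.succ 199671) k)) 229 = true := by decide +kernel
theorem s0c651 : allBelow (fun k => fs0 (Nat.add (Nat.succ 199900) k)) 229 = true := by decide +kernel
theorem s0c652 : allBelow (fun k => fs0 (Nat.add (Nat.succ 200129) k)) 229 = true := by decide +kernel
theorem s0c653 : allBelow (fun k => fs0 (Nat.add (Nat.succ 200358) k)) 229 = true := by decide +kernel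
theorem s0c654 : allBelow (fun k => fs0 (Nat.add (Nat.succ 200587) k)) 228 = true := by decide +kernel
theorem s0c655 : allBelow (fun k => fs0 (Nat.add (Nat.succ 200815) k)) 258 = true := by decide +kernel
theorem s0c656 : allBelow (fun k => fs0 (Nat.add (Nat.succ 201073) k)) 231 = true := by decide +kernel
theorem s0c657 : allBelow (fun k => fs0 (Nat.add (Nat.succ 201304) k)) 237 = true := by decide +kernel
theorem s0c658 : allBelow (fun k => fs0 (Nat.add (Nat.succ 201541) k)) 230 = true := by decide +kernel
theorem s0c659 : allBelow (fun k => fs0 (Nat.add (Nat.succ 201771) k)) 230 = true := by decide +kernel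
theorem s0c660 : allBelow (fun k => fs0 (Nat.add (Nat.succ 202001) k)) 227 = true := by decide +kernel
theorem s0c661 : allBelow (fun k => fs0 (Nat.add (Nat.succ 202228) k)) 228 = true := by decide +kernel
theorem s0c662 : allBelow (fun k => fs0 (Nat.add (Nat.succ 202456) k)) 228 = true := by decide +kernel
theorem s0c663 : allBelow (fun k => fs0 (Nat.add (Nat.succ 202684) k)) 251 = true := by decide +kernel
theorem s0c664 : allBelow (fun k => fs0 (Nat.add (Nat.succ 202935) k)) 239 = true := by decide +kernel
theorem s0c665 : allBelow (fun k => fs0 (Nat.add (Nat.succ 203174) k)) 230 = true := by decide +kernel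
theorem s0c666 : allBelow (fun k => fs0 (Nat.add (Nat.succ 203404) k)) 230 = true := by decide +kernel
theorem s0c667 : allBelow (fun k => fs0 (Nat.add (Nat.succ 203634) k)) 238 = true := by decide +kernel
theorem s0c668 : allBelow (fun k => fs0 (Nat.add (Nat.succ 203872) k)) 228 = true := by decide +kernel
theorem s0c669 : allBelow (fun k => fs0 (Nat.add (Nat.succ 204100) k)) 230 = true := by decide +kernel
theorem s0c670 : allBelow (fun k => fs0 (Nat.add (Nat.succ 204330) k)) 228 = true := by decide +kernel
theorem s0c671 : allBelow (fun k => fs0 (Nat.add (Nat.succ 204558) k)) 228 = true := by decide +kernel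
theorem s0c672 : allBelow (fun k => fs0 (Nat.add (Nat.succ 204786) k)) 228 = true := by decide +kernel
theorem s0c673 : allBelow (fun k => fs0 (Nat.add (Nat.succ 205014) k)) 228 = true := by decide +kernel
theorem s0c674 : allBelow (fun k => fs0 (Nat.add (Nat.succ 205242) k)) 228 = true := by decide +kernel
theorem s0c675 : allBelow (fun k => fs0 (Nat.add (Nat.succ 205470) k)) 234 = true := by decide +kernel
theorem s0c676 : allBelow (fun k => fs0 (Nat.add (Nat.succ 205704) k)) 234 = true := by decide +kernel
theorem s0c677 : allBelow (fun k => fs0 (Nat.add (Nat.succ 205938) k)) 257 = true := by decide +kernel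
theorem s0c678 : allBelow (fun k => fs0 (Nat.add (Nat.succ 206195) k)) 233 = true := by decide +kernel
theorem s0c679 : allBelow (fun k => fs0 (Nat.add (Nat.succ 206428) k)) 234 = true := by decide +kernel
theorem s0c680 : allBelow (fun k => fs0 (Nat.add (Nat.succ 206662) k)) 239 = true := by decide +kernel
theorem s0c681 : allBelow (fun k => fs0 (Nat.add (Nat.succ 206901) k)) 228 = true := by decide +kernel
theorem s0c682 : allBelow (fun k => fs0 (Nat.add (Nat.succ 207129) k)) 229 = true := by decide +kernel
theorem s0c683 : allBelow (fun k => fs0 (Nat.add (Nat.succ 207358) k)) 236 = true := by decide +kernel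
theorem s0c684 : allBelow (fun k => fs0 (Nat.add (Nat.succ 207594) k)) 231 = true := by decide +kernel
theorem s0c685 : allBelow (fun k => fs0 (Nat.add (Nat.succ 207825) k)) 235 = true := by decide +kernel
theorem s0c686 : allBelow (fun k => fs0 (Nat.add (Nat.succ 208060) k)) 230 = true := by decide +kernel
theorem s0c687 : allBelow (fun k => fs0 (Nat.add (Nat.succ 208290) k)) 231 = true := by decide +kernel
theorem s0c688 : allBelow (fun k => fs0 (Nat.add (Nat.succ 208521) k)) 229 = true := by decide +kernel
theorem s0c689 : allBelow (fun k => fs0 (Nat.add (Nat.succ 208750) k)) 229 = true := by decide +kernel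
theorem s0c690 : allBelow (fun k => fs0 (Nat.add (Nat.succ 208979) k)) 246 = true := by decide +kernel
theorem s0c691 : allBelow (fun k => fs0 (Nat.add (Nat.succ 209225) k)) 316 = true := by decide +kernel
theorem s0c692 : allBelow (fun k => fs0 (Nat.add (Nat.succ 209541) k)) 273 = true := by decide +kernel
theorem s0c693 : allBelow (fun k => fs0 (Nat.add (Nat.succ 209814) k)) 318 = true := by decide +kernel
theorem s0c694 : allBelow (fun k => fs0 (Nat.add (Nat.succ 210132) k)) 294 = true := by decide +kernel
theorem s0c695 : allBelow (fun k => fs0 (Nat.add (Nat.succ 210426) k)) 315 = true := by decide +kernel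
theorem s0c696 : allBelow (fun k => fs0 (Nat.add (Nat.succ 210741) k)) 308 = true := by decide +kernel
theorem s0c697 : allBelow (fun k => fs0 (Nat.add (Nat.succ 211049) k)) 313 = true := by decide +kernel
theorem s0c698 : allBelow (fun k => fs0 (Nat.add (Nat.succ 211362) k)) 283 = true := by decide +kernel
theorem s0c699 : allBelow (fun k => fs0 (Nat.add (Nat.succ 211645) k)) 290 = true := by decide +kernel
theorem s0c700 : allBelow (fun k => fs0 (Nat.add (Nat.succ 211935) k)) 315 = true := by decide +kernel
theorem s0c701 : allBelow (fun k => fs0 (Nat.add (Nat.succ 212250) k)) 313 = true := by decide +kernel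
theorem s0c702 : allBelow (fun k => fs0 (Nat.add (Nat.succ 212563) k)) 288 = true := by decide +kernel
theorem s0c703 : allBelow (fun k => fs0 (Nat.add (Nat.succ 212851) k)) 309 = true := by decide +kernel
theorem s0c704 : allBelow (fun k => fs0 (Nat.add (Nat.succ 213160) k)) 314 = true := by decide +kernel
theorem s0c705 : allBelow (fun k => fs0 (Nat.add (Nat.succ 213474) k)) 309 = true := by decide +kernel
theorem s0c706 : allBelow (fun k => fs0 (Nat.add (Nat.succ 213783) k)) 277 = true := by decide +kernel
theorem s0c707 : allBelow (fun k => fs0 (Nat.add (Nat.succ 214060) k)) 287 = true := by decide +kernel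
theorem s0c708 : allBelow (fun k => fs0 (Nat.add (Nat.succ 214347) k)) 308 = true := by decide +kernel
theorem s0c709 : allBelow (fun k => fs0 (Nat.add (Nat.succ 214655) k)) 284 = true := by decide +kernel
theorem s0c710 : allBelow (fun k => fs0 (Nat.add (Nat.succ 214939) k)) 261 = true := by decide +kernel
theorem s0c711 : allBelow (fun k => fs0 (Nat.add (Nat.succ 215200) k)) 295 = true := by decide +kernel
theorem s0c712 : allBelow (fun k => fs0 (Nat.add (Nat.succ 215495) k)) 313 = true := by decide +kernel
theorem s0c713 : allBelow (fun k => fs0 (Nat.add (Nat.succ 215808) k)) 313 = true := by decide +kernel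
theorem s0c714 : allBelow (fun k => fs0 (Nat.add (Nat.succ 216121) k)) 265 = true := by decide +kernel
theorem s0c715 : allBelow (fun k => fs0 (Nat.add (Nat.succ 216386) k)) 301 = true := by decide +kernel
theorem s0c716 : allBelow (fun k => fs0 (Nat.add (Nat.succ 216687) k)) 312 = true := by decide +kernel
theorem s0c717 : allBelow (fun k => fs0 (Nat.add (Nat.succ 216999) k)) 264 = true := by decide +kernel
theorem s0c718 : allBelow (fun k => fs0 (Nat.add (Nat.succ 217263) k)) 312 = true := by decide +kernel
theorem s0c719 : allBelow (fun k => fs0 (Nat.add (Nat.succ 217575) k)) 318 = true := by decide +kernel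
theorem s0c720 : allBelow (fun k => fs0 (Nat.add (Nat.succ 217893) k)) 309 = true := by decide +kernel
theorem s0c721 : allBelow (fun k => fs0 (Nat.add (Nat.succ 218202) k)) 291 = true := by decide +kernel
theorem s0c722 : allBelow (fun k => fs0 (Nat.add (Nat.succ 218493) k)) 305 = true := by decide +kernel
theorem s0c723 : allBelow (fun k => fs0 (Nat.add (Nat.succ 218798) k)) 319 = true := by decide +kernel
theorem s0c724 : allBelow (fun k => fs0 (Nat.add (Nat.succ 219117) k)) 317 = true := by decide +kernel
theorem s0c725 : allBelow (fun k => fs0 (Nat.add (Nat.succ 219434) k)) 303 = true := by decide +kernel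
theorem s0c726 : allBelow (fun k => fs0 (Nat.add (Nat.succ 219737) k)) 309 = true := by decide +kernel
theorem s0c727 : allBelow (fun k => fs0 (Nat.add (Nat.succ 220046) k)) 312 = true := by decide +kernel
theorem s0c728 : allBelow (fun k => fs0 (Nat.add (Nat.succ 220358) k)) 318 = true := by decide +kernel
theorem s0c729 : allBelow (fun k => fs0 (Nat.add (Nat.succ 220676) k)) 302 = true := by decide +kernel
theorem s0c730 : allBelow (fun k => fs0 (Nat.add (Nat.succ 220978) k)) 296 = true := by decide +kernel
theorem s0c731 : allBelow (fun k => fs0 (Nat.add (Nat.succ 221274) k)) 269 = true := by decide +kernel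
theorem s0c732 : allBelow (fun k => fs0 (Nat.add (Nat.succ 221543) k)) 228 = true := by decide +kernel
theorem s0c733 : allBelow (fun k => fs0 (Nat.add (Nat.succ 221771) k)) 228 = true := by decide +kernel
theorem s0c734 : allBelow (fun k => fs0 (Nat.add (Nat.succ 221999) k)) 228 = true := by decide +kernel
theorem s0c735 : allBelow (fun k => fs0 (Nat.add (Nat.succ 222227) k)) 229 = true := by decide +kernel
theorem s0c736 : allBelow (fun k => fs0 (Nat.add (Nat.succ 222456) k)) 228 = true := by decide +kernel
theorem s0c737 : allBelow (fun k => fs0 (Nat.add (Nat.succ 222684) k)) 228 = true := by decide +kernel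
theorem s0c738 : allBelow (fun k => fs0 (Nat.add (Nat.succ 222912) k)) 229 = true := by decide +kernel
theorem s0c739 : allBelow (fun k => fs0 (Nat.add (Nat.succ 223141) k)) 228 = true := by decide +kernel
theorem s0c740 : allBelow (fun k => fs0 (Nat.add (Nat.succ 223369) k)) 227 = true := by decide +kernel
theorem s0c741 : allBelow (fun k => fs0 (Nat.add (Nat.succ 223596) k)) 249 = true := by decide +kernel
theorem s0c742 : allBelow (fun k => fs0 (Nat.add (Nat.succ 223845) k)) 241 = true := by decide +kernel
theorem s0c743 : allBelow (fun k => fs0 (Nat.add (Nat.succ 224086) k)) 231 = true := by decide +kernel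
theorem s0c744 : allBelow (fun k => fs0 (Nat.add (Nat.succ 224317) k)) 237 = true := by decide +kernel
theorem s0c745 : allBelow (fun k => fs0 (Nat.add (Nat.succ 224554) k)) 228 = true := by decide +kernel
theorem s0c746 : allBelow (fun k => fs0 (Nat.add (Nat.succ 224782) k)) 230 = true := by decide +kernel
theorem s0c747 : allBelow (fun k => fs0 (Nat.add (Nat.succ 225012) k)) 228 = true := by decide +kernel
theorem s0c748 : allBelow (fun k => fs0 (Nat.add (Nat.succ 225240) k)) 228 = true := by decide +kernel
theorem s0c749 : allBelow (fun k => fs0 (Nat.add (Nat.succ 225468) k)) 227 = true := by decide +kernel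
theorem s0c750 : allBelow (fun k => fs0 (Nat.add (Nat.succ 225695) k)) 255 = true := by decide +kernel
theorem s0c751 : allBelow (fun k => fs0 (Nat.add (Nat.succ 225950) k)) 241 = true := by decide +kernel
theorem s0c752 : allBelow (fun k => fs0 (Nat.add (Nat.succ 226191) k)) 228 = true := by decide +kernel
theorem s0c753 : allBelow (fun k => fs0 (Nat.add (Nat.succ 226419) k)) 230 = true := by decide +kernel
theorem s0c754 : allBelow (fun k => fs0 (Nat.add (Nat.succ 226649) k)) 238 = true := by decide +kernel
theorem s0c755 : allBelow (fun k => fs0 (Nat.add (Nat.succ 226887) k)) 229 = true := by decide +kernel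
theorem s0c756 : allBelow (fun k => fs0 (Nat.add (Nat.succ 227116) k)) 229 = true := by decide +kernel
theorem s0c757 : allBelow (fun k => fs0 (Nat.add (Nat.succ 227345) k)) 230 = true := by decide +kernel
theorem s0c758 : allBelow (fun k => fs0 (Nat.add (Nat.succ 227575) k)) 227 = true := by decide +kernel
theorem s0c759 : allBelow (fun k => fs0 (Nat.add (Nat.succ 227802) k)) 228 = true := by decide +kernel
theorem s0c760 : allBelow (fun k => fs0 (Nat.add (Nat.succ 228030) k)) 228 = true := by decide +kernel
theorem s0c761 : allBelow (fun k => fs0 (Nat.add (Nat.succ 228258) k)) 228 = true := by decide +kernel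
theorem s0c762 : allBelow (fun k => fs0 (Nat.add (Nat.succ 228486) k)) 228 = true := by decide +kernel
theorem s0c763 : allBelow (fun k => fs0 (Nat.add (Nat.succ 228714) k)) 232 = true := by decide +kernel
theorem s0c764 : allBelow (fun k => fs0 (Nat.add (Nat.succ 228946) k)) 233 = true := by decide +kernel
theorem s0c765 : allBelow (fun k => fs0 (Nat.add (Nat.succ 229179) k)) 256 = true := by decide +kernel
theorem s0c766 : allBelow (fun k => fs0 (Nat.add (Nat.succ 229435) k)) 237 = true := by decide +kernel
theorem s0c767 : allBelow (fun k => fs0 (Nat.add (Nat.succ 229672) k)) 233 = true := by decide +kernel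
theorem s0c768 : allBelow (fun k => fs0 (Nat.add (Nat.succ 229905) k)) 232 = true := by decide +kernel
theorem s0c769 : allBelow (fun k => fs0 (Nat.add (Nat.succ 230137) k)) 237 = true := by decide +kernel
theorem s0c770 : allBelow (fun k => fs0 (Nat.add (Nat.succ 230374) k)) 228 = true := by decide +kernel
theorem s0c771 : allBelow (fun k => fs0 (Nat.add (Nat.succ 230602) k)) 229 = true := by decide +kernel
theorem s0c772 : allBelow (fun k => fs0 (Nat.add (Nat.succ 230831) k)) 231 = true := by decide +kernel
theorem s0c773 : allBelow (fun k => fs0 (Nat.add (Nat.succ 231062) k)) 232 = true := by decide +kernel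
theorem s0c774 : allBelow (fun k => fs0 (Nat.add (Nat.succ 231294) k)) 234 = true := by decide +kernel
theorem s0c775 : allBelow (fun k => fs0 (Nat.add (Nat.succ 231528) k)) 230 = true := by decide +kernel
theorem s0c776 : allBelow (fun k => fs0 (Nat.add (Nat.succ 231758) k)) 230 = true := by decide +kernel
theorem s0c777 : allBelow (fun k => fs0 (Nat.add (Nat.succ 231988) k)) 229 = true := by decide +kernel
theorem s0c778 : allBelow (fun k => fs0 (Nat.add (Nat.succ 232217) k)) 228 = true := by decide +kernel
theorem s0c779 : allBelow (fun k => fs0 (Nat.add (Nat.succ 232445) k)) 268 = true := by decide +kernel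
theorem s0c780 : allBelow (fun k => fs0 (Nat.add (Nat.succ 232713) k)) 316 = true := by decide +kernel
theorem s0c781 : allBelow (fun k => fs0 (Nat.add (Nat.succ 233029) k)) 270 = true := by decide +kernel
theorem s0c782 : allBelow (fun k => fs0 (Nat.add (Nat.succ 233299) k)) 316 = true := by decide +kernel
theorem s0c783 : allBelow (fun k => fs0 (Nat.add (Nat.succ 233615) k)) 295 = true := by decide +kernel
theorem s0c784 : allBelow (fun k => fs0 (Nat.add (Nat.succ 233910) k)) 311 = true := by decide +kernel
theorem s0c785 : allBelow (fun k => fs0 (Nat.add (Nat.succ 234221) k)) 301 = true := by decide +kernel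
theorem s0c786 : allBelow (fun k => fs0 (Nat.add (Nat.succ 234522) k)) 313 = true := by decide +kernel
theorem s0c787 : allBelow (fun k => fs0 (Nat.add (Nat.succ 234835) k)) 304 = true := by decide +kernel
theorem s0c788 : allBelow (fun k => fs0 (Nat.add (Nat.succ 235139) k)) 265 = true := by decide +kernel
theorem s0c789 : allBelow (fun k => fs0 (Nat.add (Nat.succ 235404) k)) 306 = true := by decide +kernel
theorem s0c790 : allBelow (fun k => fs0 (Nat.add (Nat.succ 235710) k)) 314 = true := by decide +kernel
theorem s0c791 : allBelow (fun k => fs0 (Nat.add (Nat.succ 236024) k)) 313 = true := by decide +kernel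
theorem s0c792 : allBelow (fun k => fs0 (Nat.add (Nat.succ 236337) k)) 285 = true := by decide +kernel
theorem s0c793 : allBelow (fun k => fs0 (Nat.add (Nat.succ 236622) k)) 309 = true := by decide +kernel
theorem s0c794 : allBelow (fun k => fs0 (Nat.add (Nat.succ 236931) k)) 312 = true := by decide +kernel
theorem s0c795 : allBelow (fun k => fs0 (Nat.add (Nat.succ 237243) k)) 310 = true := by decide +kernel
theorem s0c796 : allBelow (fun k => fs0 (Nat.add (Nat.succ 237553) k)) 300 = true := by decide +kernel
theorem s0c797 : allBelow (fun k => fs0 (Nat.add (Nat.succ 237853) k)) 279 = true := by decide +kernel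
theorem s0c798 : allBelow (fun k => fs0 (Nat.add (Nat.succ 238132) k)) 281 = true := by decide +kernel
theorem s0c799 : allBelow (fun k => fs0 (Nat.add (Nat.succ 238413) k)) 316 = true := by decide +kernel
theorem s0c800 : allBelow (fun k => fs0 (Nat.add (Nat.succ 238729) k)) 275 = true := by decide +kernel
theorem s0c801 : allBelow (fun k => fs0 (Nat.add (Nat.succ 239004) k)) 248 = true := by decide +kernel
theorem s0c802 : allBelow (fun k => fs0 (Nat.add (Nat.succ 239252) k)) 311 = true := by decide +kernel
theorem s0c803 : allBelow (fun k => fs0 (Nat.add (Nat.succ 239563) k)) 313 = true := by decide +kernel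
theorem s0c804 : allBelow (fun k => fs0 (Nat.add (Nat.succ 239876) k)) 313 = true := by decide +kernel
theorem s0c805 : allBelow (fun k => fs0 (Nat.add (Nat.succ 240189) k)) 262 = true := by decide +kernel
theorem s0c806 : allBelow (fun k => fs0 (Nat.add (Nat.succ 240451) k)) 289 = true := by decide +kernel
theorem s0c807 : allBelow (fun k => fs0 (Nat.add (Nat.succ 240740) k)) 309 = true := by decide +kernel
theorem s0c808 : allBelow (fun k => fs0 (Nat.add (Nat.succ 241049) k)) 288 = true := by decide +kernel
theorem s0c809 : allBelow (fun k => fs0 (Nat.add (Nat.succ 241337) k)) 281 = true := by decide +kernel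
theorem s0c810 : allBelow (fun k => fs0 (Nat.add (Nat.succ 241618) k)) 314 = true := by decide +kernel
theorem s0c811 : allBelow (fun k => fs0 (Nat.add (Nat.succ 241932) k)) 315 = true := by decide +kernel
theorem s0c812 : allBelow (fun k => fs0 (Nat.add (Nat.succ 242247) k)) 309 = true := by decide +kernel
theorem s0c813 : allBelow (fun k => fs0 (Nat.add (Nat.succ 242556) k)) 287 = true := by decide +kernel
theorem s0c814 : allBelow (fun k => fs0 (Nat.add (Nat.succ 242843) k)) 308 = true := by decide +kernel
theorem s0c815 : allBelow (fun k => fs0 (Nat.add (Nat.succ 243151) k)) 319 = true := by decide +kernel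
theorem s0c816 : allBelow (fun k => fs0 (Nat.add (Nat.succ 243470) k)) 316 = true := by decide +kernel
theorem s0c817 : allBelow (fun k => fs0 (Nat.add (Nat.succ 243786) k)) 307 = true := by decide +kernel
theorem s0c818 : allBelow (fun k => fs0 (Nat.add (Nat.succ 244093) k)) 311 = true := by decide +kernel
theorem s0c819 : allBelow (fun k => fs0 (Nat.add (Nat.succ 244404) k)) 316 = true := by decide +kernel
theorem s0c820 : allBelow (fun k => fs0 (Nat.add (Nat.succ 244720) k)) 317 = true := by decide +kernel
theorem s0c821 : allBelow (fun k => fs0 (Nat.add (Nat.succ 245037) k)) 301 = true := by decide +kernel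
theorem s0c822 : allBelow (fun k => fs0 (Nat.add (Nat.succ 245338) k)) 295 = true := by decide +kernel
theorem s0c823 : allBelow (fun k => fs0 (Nat.add (Nat.succ 245633) k)) 267 = true := by decide +kernel
theorem s0c824 : allBelow (fun k => fs0 (Nat.add (Nat.succ 245900) k)) 228 = true := by decide +kernel
theorem s0c825 : allBelow (fun k => fs0 (Nat.add (Nat.succ 246128) k)) 228 = true := by decide +kernel
theorem s0c826 : allBelow (fun k => fs0 (Nat.add (Nat.succ 246356) k)) 228 = true := by decide +kernel
theorem s0c827 : allBelow (fun k => fs0 (Nat.add (Nat.succ 246584) k)) 228 = true := by decide +kernel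
theorem s0c828 : allBelow (fun k => fs0 (Nat.add (Nat.succ 246812) k)) 228 = true := by decide +kernel
theorem s0c829 : allBelow (fun k => fs0 (Nat.add (Nat.succ 247040) k)) 228 = true := by decide +kernel
theorem s0c830 : allBelow (fun k => fs0 (Nat.add (Nat.succ 247268) k)) 228 = true := by decide +kernel
theorem s0c831 : allBelow (fun k => fs0 (Nat.add (Nat.succ 247496) k)) 227 = true := by decide +kernel
theorem s0c832 : allBelow (fun k => fs0 (Nat.add (Nat.succ 247723) k)) 228 = true := by decide +kernel
theorem s0c833 : allBelow (fun k => fs0 (Nat.add (Nat.succ 247951) k)) 260 = true := by decide +kernel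
theorem s0c834 : allBelow (fun k => fs0 (Nat.add (Nat.succ 248211) k)) 232 = true := by decide +kernel
theorem s0c835 : allBelow (fun k => fs0 (Nat.add (Nat.succ 248443) k)) 230 = true := by decide +kernel
theorem s0c836 : allBelow (fun k => fs0 (Nat.add (Nat.succ 248673) k)) 236 = true := by decide +kernel
theorem s0c837 : allBelow (fun k => fs0 (Nat.add (Nat.succ 248909) k)) 228 = true := by decide +kernel
theorem s0c838 : allBelow (fun k => fs0 (Nat.add (Nat.succ 249137) k)) 228 = true := by decide +kernel
theorem s0c839 : allBelow (fun k => fs0 (Nat.add (Nat.succ 249365) k)) 228 = true := by decide +kernel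
theorem s0c840 : allBelow (fun k => fs0 (Nat.add (Nat.succ 249593) k)) 228 = true := by decide +kernel
theorem s0c841 : allBelow (fun k => fs0 (Nat.add (Nat.succ 249821) k)) 227 = true := by decide +kernel
theorem s0c842 : allBelow (fun k => fs0 (Nat.add (Nat.succ 250048) k)) 243 = true := by decide +kernel
theorem s0c843 : allBelow (fun k => fs0 (Nat.add (Nat.succ 250291) k)) 253 = true := by decide +kernel
theorem s0c844 : allBelow (fun k => fs0 (Nat.add (Nat.succ 250544) k)) 228 = true := by decide +kernel
theorem s0c845 : allBelow (fun k => fs0 (Nat.add (Nat.succ 250772) k)) 228 = true := by decide +kernel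
theorem s0c846 : allBelow (fun k => fs0 (Nat.add (Nat.succ 251000) k)) 229 = true := by decide +kernel
theorem s0c847 : allBelow (fun k => fs0 (Nat.add (Nat.succ 251229) k)) 234 = true := by decide +kernel
theorem s0c848 : allBelow (fun k => fs0 (Nat.add (Nat.succ 251463) k)) 232 = true := by decide +kernel
theorem s0c849 : allBelow (fun k => fs0 (Nat.add (Nat.succ 251695) k)) 229 = true := by decide +kernel
theorem s0c850 : allBelow (fun k => fs0 (Nat.add (Nat.succ 251924) k)) 229 = true := by decide +kernel
theorem s0c851 : allBelow (fun k => fs0 (Nat.add (Nat.succ 252153) k)) 228 = true := by decide +kernel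
theorem s0c852 : allBelow (fun k => fs0 (Nat.add (Nat.succ 252381) k)) 228 = true := by decide +kernel
theorem s0c853 : allBelow (fun k => fs0 (Nat.add (Nat.succ 252609) k)) 228 = true := by decide +kernel
theorem s0c854 : allBelow (fun k => fs0 (Nat.add (Nat.succ 252837) k)) 228 = true := by decide +kernel
theorem s0c855 : allBelow (fun k => fs0 (Nat.add (Nat.succ 253065) k)) 228 = true := by decide +kernel
theorem s0c856 : allBelow (fun k => fs0 (Nat.add (Nat.succ 253293) k)) 229 = true := by decide +kernel
theorem s0c857 : allBelow (fun k => fs0 (Nat.add (Nat.succ 253522) k)) 231 = true := by decide +kernel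
theorem s0c858 : allBelow (fun k => fs0 (Nat.add (Nat.succ 253753) k)) 229 = true := by decide +kernel
theorem s0c859 : allBelow (fun k => fs0 (Nat.add (Nat.succ 253982) k)) 263 = true := by decide +kernel
theorem s0c860 : allBelow (fun k => fs0 (Nat.add (Nat.succ 254245) k)) 230 = true := by decide +kernel
theorem s0c861 : allBelow (fun k => fs0 (Nat.add (Nat.succ 254475) k)) 232 = true := by decide +kernel
theorem s0c862 : allBelow (fun k => fs0 (Nat.add (Nat.succ 254707) k)) 231 = true := by decide +kernel
theorem s0c863 : allBelow (fun k => fs0 (Nat.add (Nat.succ 254938) k)) 237 = true := by decide +kernel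
theorem s0c864 : allBelow (fun k => fs0 (Nat.add (Nat.succ 255175) k)) 229 = true := by decide +kernel
theorem s0c865 : allBelow (fun k => fs0 (Nat.add (Nat.succ 255404) k)) 229 = true := by decide +kernel
theorem s0c866 : allBelow (fun k => fs0 (Nat.add (Nat.succ 255633) k)) 231 = true := by decide +kernel
theorem s0c867 : allBelow (fun k => fs0 (Nat.add (Nat.succ 255864) k)) 235 = true := by decide +kernel
theorem s0c868 : allBelow (fun k => fs0 (Nat.add (Nat.succ 256099) k)) 229 = true := by decide +kernel
theorem s0c869 : allBelow (fun k => fs0 (Nat.add (Nat.succ 256328) k)) 229 = true := by decide +kernel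
theorem s0c870 : allBelow (fun k => fs0 (Nat.add (Nat.succ 256557) k)) 229 = true := by decide +kernel
theorem s0c871 : allBelow (fun k => fs0 (Nat.add (Nat.succ 256786) k)) 229 = true := by decide +kernel
theorem s0c872 : allBelow (fun k => fs0 (Nat.add (Nat.succ 257015) k)) 228 = true := by decide +kernel
theorem s0c873 : allBelow (fun k => fs0 (Nat.add (Nat.succ 257243) k)) 270 = true := by decide +kernel
theorem s0c874 : allBelow (fun k => fs0 (Nat.add (Nat.succ 257513) k)) 315 = true := by decide +kernel
theorem s0c875 : allBelow (fun k => fs0 (Nat.add (Nat.succ 257828) k)) 269 = true := by decide +kernel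
theorem s0c876 : allBelow (fun k => fs0 (Nat.add (Nat.succ 258097) k)) 314 = true := by decide +kernel
theorem s0c877 : allBelow (fun k => fs0 (Nat.add (Nat.succ 258411) k)) 297 = true := by decide +kernel
theorem s0c878 : allBelow (fun k => fs0 (Nat.add (Nat.succ 258708) k)) 308 = true := by decide +kernel
theorem s0c879 : allBelow (fun k => fs0 (Nat.add (Nat.succ 259016) k)) 301 = true := by decide +kernel
theorem s0c880 : allBelow (fun k => fs0 (Nat.add (Nat.succ 259317) k)) 313 = true := by decide +kernel
theorem s0c881 : allBelow (fun k => fs0 (Nat.add (Nat.succ 259630) k)) 310 = true := by decide +kernel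
theorem s0c882 : allBelow (fun k => fs0 (Nat.add (Nat.succ 259940) k)) 263 = true := by decide +kernel
theorem s0c883 : allBelow (fun k => fs0 (Nat.add (Nat.succ 260203) k)) 299 = true := by decide +kernel
theorem s0c884 : allBelow (fun k => fs0 (Nat.add (Nat.succ 260502) k)) 305 = true := by decide +kernel
theorem s0c885 : allBelow (fun k => fs0 (Nat.add (Nat.succ 260807) k)) 313 = true := by decide +kernel
theorem s0c886 : allBelow (fun k => fs0 (Nat.add (Nat.succ 261120) k)) 311 = true := by decide +kernel
theorem s0c887 : allBelow (fun k => fs0 (Nat.add (Nat.succ 261431) k)) 289 = true := by decide +kernel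
theorem s0c888 : allBelow (fun k => fs0 (Nat.add (Nat.succ 261720) k)) 306 = true := by decide +kernel
theorem s0c889 : allBelow (fun k => fs0 (Nat.add (Nat.succ 262026) k)) 309 = true := by decide +kernel
theorem s0c890 : allBelow (fun k => fs0 (Nat.add (Nat.succ 262335) k)) 311 = true := by decide +kernel
theorem s0c891 : allBelow (fun k => fs0 (Nat.add (Nat.succ 262646) k)) 303 = true := by decide +kernel
theorem s0c892 : allBelow (fun k => fs0 (Nat.add (Nat.succ 262949) k)) 278 = true := by decide +kernel
theorem s0c893 : allBelow (fun k => fs0 (Nat.add (Nat.succ 263227) k)) 286 = true := by decide +kernel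
theorem s0c894 : allBelow (fun k => fs0 (Nat.add (Nat.succ 263513) k)) 298 = true := by decide +kernel
theorem s0c895 : allBelow (fun k => fs0 (Nat.add (Nat.succ 263811) k)) 307 = true := by decide +kernel
theorem s0c896 : allBelow (fun k => fs0 (Nat.add (Nat.succ 264118) k)) 259 = true := by decide +kernel
theorem s0c897 : allBelow (fun k => fs0 (Nat.add (Nat.succ 264377) k)) 260 = true := by decide +kernel
theorem s0c898 : allBelow (fun k => fs0 (Nat.add (Nat.succ 264637) k)) 314 = true := by decide +kernel
theorem s0c899 : allBelow (fun k => fs0 (Nat.add (Nat.succ 264951) k)) 311 = true := by decide +kernel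
theorem s0c900 : allBelow (fun k => fs0 (Nat.add (Nat.succ 265262) k)) 312 = true := by decide +kernel
theorem s0c901 : allBelow (fun k => fs0 (Nat.add (Nat.succ 265574) k)) 255 = true := by decide +kernel
theorem s0c902 : allBelow (fun k => fs0 (Nat.add (Nat.succ 265829) k)) 282 = true := by decide +kernel
theorem s0c903 : allBelow (fun k => fs0 (Nat.add (Nat.succ 266111) k)) 307 = true := by decide +kernel
theorem s0c904 : allBelow (fun k => fs0 (Nat.add (Nat.succ 266418) k)) 307 = true := by decide +kernel
theorem s0c905 : allBelow (fun k => fs0 (Nat.add (Nat.succ 266725) k)) 254 = true := by decide +kernel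
theorem s0c906 : allBelow (fun k => fs0 (Nat.add (Nat.succ 266979) k)) 317 = true := by decide +kernel
theorem s0c907 : allBelow (fun k => fs0 (Nat.add (Nat.succ 267296) k)) 313 = true := by decide +kernel
theorem s0c908 : allBelow (fun k => fs0 (Nat.add (Nat.succ 267609) k)) 311 = true := by decide +kernel
theorem s0c909 : allBelow (fun k => fs0 (Nat.add (Nat.succ 267920) k)) 295 = true := by decide +kernel
theorem s0c910 : allBelow (fun k => fs0 (Nat.add (Nat.succ 268215) k)) 307 = true := by decide +kernel
theorem s0c911 : allBelow (fun k => fs0 (Nat.add (Nat.succ 268522) k)) 317 = true := by decide +kernel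
theorem s0c912 : allBelow (fun k => fs0 (Nat.add (Nat.succ 268839) k)) 316 = true := by decide +kernel
theorem s0c913 : allBelow (fun k => fs0 (Nat.add (Nat.succ 269155) k)) 314 = true := by decide +kernel
theorem s0c914 : allBelow (fun k => fs0 (Nat.add (Nat.succ 269469) k)) 309 = true := by decide +kernel
theorem s0c915 : allBelow (fun k => fs0 (Nat.add (Nat.succ 269778) k)) 318 = true := by decide +kernel
theorem s0c916 : allBelow (fun k => fs0 (Nat.add (Nat.succ 270096) k)) 318 = true := by decide +kernel
theorem s0c917 : allBelow (fun k => fs0 (Nat.add (Nat.succ 270414) k)) 298 = true := by decide +kernel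
theorem s0c918 : allBelow (fun k => fs0 (Nat.add (Nat.succ 270712) k)) 295 = true := by decide +kernel
theorem s0c919 : allBelow (fun k => fs0 (Nat.add (Nat.succ 271007) k)) 259 = true := by decide +kernel
theorem s0c920 : allBelow (fun k => fs0 (Nat.add (Nat.succ 271266) k)) 228 = true := by decide +kernel
theorem s0c921 : allBelow (fun k => fs0 (Nat.add (Nat.succ 271494) k)) 228 = true := by decide +kernel
theorem s0c922 : allBelow (fun k => fs0 (Nat.add (Nat.succ 271722) k)) 228 = true := by decide +kernel
theorem s0c923 : allBelow (fun k => fs0 (Nat.add (Nat.succ 271950) k)) 228 = true := by decide +kernel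
theorem s0c924 : allBelow (fun k => fs0 (Nat.add (Nat.succ 272178) k)) 228 = true := by decide +kernel
theorem s0c925 : allBelow (fun k => fs0 (Nat.add (Nat.succ 272406) k)) 228 = true := by decide +kernel
theorem s0c926 : allBelow (fun k => fs0 (Nat.add (Nat.succ 272634) k)) 227 = true := by decide +kernel
theorem s0c927 : allBelow (fun k => fs0 (Nat.add (Nat.succ 272861) k)) 228 = true := by decide +kernel
theorem s0c928 : allBelow (fun k => fs0 (Nat.add (Nat.succ 273089) k)) 227 = true := by decide +kernel
theorem s0c929 : allBelow (fun k => fs0 (Nat.add (Nat.succ 273316) k)) 259 = true := by decide +kernel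
theorem s0c930 : allBelow (fun k => fs0 (Nat.add (Nat.succ 273575) k)) 234 = true := by decide +kernel
theorem s0c931 : allBelow (fun k => fs0 (Nat.add (Nat.succ 273809) k)) 229 = true := by decide +kernel
theorem s0c932 : allBelow (fun k => fs0 (Nat.add (Nat.succ 274038) k)) 234 = true := by decide +kernel
theorem s0c933 : allBelow (fun k => fs0 (Nat.add (Nat.succ 274272) k)) 229 = true := by decide +kernel
theorem s0c934 : allBelow (fun k => fs0 (Nat.add (Nat.succ 274501) k)) 228 = true := by decide +kernel
theorem s0c935 : allBelow (fun k => fs0 (Nat.add (Nat.succ 274729) k)) 228 = true := by decide +kernel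
theorem s0c936 : allBelow (fun k => fs0 (Nat.add (Nat.succ 274957) k)) 227 = true := by decide +kernel
theorem s0c937 : allBelow (fun k => fs0 (Nat.add (Nat.succ 275184) k)) 228 = true := by decide +kernel
theorem s0c938 : allBelow (fun k => fs0 (Nat.add (Nat.succ 275412) k)) 230 = true := by decide +kernel
theorem s0c939 : allBelow (fun k => fs0 (Nat.add (Nat.succ 275642) k)) 259 = true := by decide +kernel
theorem s0c940 : allBelow (fun k => fs0 (Nat.add (Nat.succ 275901) k)) 235 = true := by decide +kernel
theorem s0c941 : allBelow (fun k => fs0 (Nat.add (Nat.succ 276136) k)) 228 = true := by decide +kernel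
theorem s0c942 : allBelow (fun k => fs0 (Nat.add (Nat.succ 276364) k)) 228 = true := by decide +kernel
theorem s0c943 : allBelow (fun k => fs0 (Nat.add (Nat.succ 276592) k)) 229 = true := by decide +kernel
theorem s0c944 : allBelow (fun k => fs0 (Nat.add (Nat.succ 276821) k)) 229 = true := by decide +kernel
theorem s0c945 : allBelow (fun k => fs0 (Nat.add (Nat.succ 277050) k)) 237 = true := by decide +kernel
theorem s0c946 : allBelow (fun k => fs0 (Nat.add (Nat.succ 277287) k)) 229 = true := by decide +kernel
theorem s0c947 : allBelow (fun k => fs0 (Nat.add (Nat.succ 277516) k)) 228 = true := by decide +kernel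
theorem s0c948 : allBelow (fun k => fs0 (Nat.add (Nat.succ 277744) k)) 228 = true := by decide +kernel
theorem s0c949 : allBelow (fun k => fs0 (Nat.add (Nat.succ 277972) k)) 228 = true := by decide +kernel
theorem s0c950 : allBelow (fun k => fs0 (Nat.add (Nat.succ 278200) k)) 228 = true := by decide +kernel
theorem s0c951 : allBelow (fun k => fs0 (Nat.add (Nat.succ 278428) k)) 228 = true := by decide +kernel
theorem s0c952 : allBelow (fun k => fs0 (Nat.add (Nat.succ 278656) k)) 228 = true := by decide +kernel
theorem s0c953 : allBelow (fun k => fs0 (Nat.add (Nat.succ 278884) k)) 229 = true := by decide +kernel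
theorem s0c954 : allBelow (fun k => fs0 (Nat.add (Nat.succ 279113) k)) 230 = true := by decide +kernel
theorem s0c955 : allBelow (fun k => fs0 (Nat.add (Nat.succ 279343) k)) 229 = true := by decide +kernel
theorem s0c956 : allBelow (fun k => fs0 (Nat.add (Nat.succ 279572) k)) 261 = true := by decide +kernel

end Cfsg.Agent.Lib.Helper35.Fi24a
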