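import Cfsg.Agent.Lib.Helper35.Fi24a.Data

set_option Elab.async false

namespace Cfsg.Agent.Lib.Helper35.Fi24a

open Cfsg.Agent.Lib.Helper35

theorem s5c67 : allBelow (fun k => fs5 (Nat.add (Nat.succ 19048) k)) 265 = true := by decide +kernel
theorem s5c68 : allBelow (fun k => fs5 (Nat.add (Nat.succ 19313) k)) 260 = true := by decide +kernel
theorem s5c69 : allBelow (fun k => fs5 (Nat.add (Nat.succ 19573) k)) 271 = true := by decide +kernel
theorem s5c70 : allBelow (fun k => fs5 (Nat.add (Nat.succ 19844) k)) 293 = true := by decide +kernel
theorem s5c71 : allBelow (fun k => fs5 (Nat.add (Nat.succ 20137) k)) 300 = true := by decide +kernel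
theorem s5c72 : allBelow (fun k => fs5 (Nat.add (Nat.succ 20437) k)) 293 = true := by decide +kernel
theorem s5c73 : allBelow (fun k => fs5 (Nat.add (Nat.succ 20730) k)) 273 = true := by decide +kernel
theorem s5c74 : allBelow (fun k => fs5 (Nat.add (Nat.succ 21003) k)) 330 = true := by decide +kernel
theorem s5c75 : allBelow (fun k => fs5 (Nat.add (Nat.succ 21333) k)) 335 = true := by decide +kernel
theorem s5c76 : allBelow (fun k => fs5 (Nat.add (Nat.succ 21668) k)) 323 = true := by decide +kernel
theorem s5c77 : allBelow (fun k => fs5 (Nat.add (Nat.succ 21991) k)) 265 = true := by decide +kernel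
theorem s5c78 : allBelow (fun k => fs5 (Nat.add (Nat.succ 22256) k)) 328 = true := by decide +kernel
theorem s5c79 : allBelow (fun k => fs5 (Nat.add (Nat.succ 22584) k)) 278 = true := by decide +kernel
theorem s5c80 : allBelow (fun k => fs5 (Nat.add (Nat.succ 22862) k)) 321 = true := by decide +kernel
theorem s5c81 : allBelow (fun k => fs5 (Nat.add (Nat.succ 23183) k)) 273 = true := by decide +kernel
theorem s5c82 : allBelow (fun k => fs5 (Nat.add (Nat.succ 23456) k)) 259 = true := by decide +kernel
theorem s5c83 : allBelow (fun k => fs5 (Nat.add (Nat.succ 23715) k)) 302 = true := by decide +kernel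
theorem s5c84 : allBelow (fun k => fs5 (Nat.add (Nat.succ 24017) k)) 309 = true := by decide +kernel
theorem s5c85 : allBelow (fun k => fs5 (Nat.add (Nat.succ 24326) k)) 299 = true := by decide +kernel
theorem s5c86 : allBelow (fun k => fs5 (Nat.add (Nat.succ 24625) k)) 271 = true := by decide +kernel
theorem s5c87 : allBelow (fun k => fs5 (Nat.add (Nat.succ 24896) k)) 356 = true := by decide +kernel
theorem s5c88 : allBelow (fun k => fs5 (Nat.add (Nat.succ 25252) k)) 264 = true := by decide +kernel
theorem s5c89 : allBelow (fun k => fs5 (Nat.add (Nat.succ 25516) k)) 277 = true := by decide +kernel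
theorem s5c90 : allBelow (fun k => fs5 (Nat.add (Nat.succ 25793) k)) 262 = true := by decide +kernel
theorem s5c91 : allBelow (fun k => fs5 (Nat.add (Nat.succ 26055) k)) 281 = true := by decide +kernel
theorem s5c92 : allBelow (fun k => fs5 (Nat.add (Nat.succ 26336) k)) 288 = true := by decide +kernel
theorem s5c93 : allBelow (fun k => fs5 (Nat.add (Nat.succ 26624) k)) 317 = true := by decide +kernel
theorem s5c94 : allBelow (fun k => fs5 (Nat.add (Nat.succ 26941) k)) 311 = true := by decide +kernel
theorem s5c95 : allBelow (fun k => fs5 (Nat.add (Nat.succ 27252) k)) 324 = true := by decide +kernel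
theorem s5c96 : allBelow (fun k => fs5 (Nat.add (Nat.succ 27576) k)) 281 = true := by decide +kernel
theorem s5c97 : allBelow (fun k => fs5 (Nat.add (Nat.succ 27857) k)) 299 = true := by decide +kernel
theorem s5c98 : allBelow (fun k => fs5 (Nat.add (Nat.succ 28156) k)) 332 = true := by decide +kernel
theorem s5c99 : allBelow (fun k => fs5 (Nat.add (Nat.succ 28488) k)) 340 = true := by decide +kernel
theorem s5c100 : allBelow (fun k => fs5 (Nat.add (Nat.succ 28828) k)) 384 = true := by decide +kernel
theorem s5c101 : allBelow (fun k => fs5 (Nat.add (Nat.succ 29212) k)) 263 = true := by decide +kernel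
theorem s5c102 : allBelow (fun k => fs5 (Nat.add (Nat.succ 29475) k)) 278 = true := by decide +kernel
theorem s5c103 : allBelow (fun k => fs5 (Nat.add (Nat.succ 29753) k)) 354 = true := by decide +kernel
theorem s5c104 : allBelow (fun k => fs5 (Nat.add (Nat.succ 30107) k)) 328 = true := by decide +kernel
theorem s5c105 : allBelow (fun k => fs5 (Nat.add (Nat.succ 30435) k)) 337 = true := by decide +kernel
theorem s5c106 : allBelow (fun k => fs5 (Nat.add (Nat.succ 30772) k)) 295 = true := by decide +kernel
theorem s5c107 : allBelow (fun k => fs5 (Nat.add (Nat.succ 31067) k)) 271 = true := by decide +kernel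
theorem s5c108 : allBelow (fun k => fs5 (Nat.add (Nat.succ 31338) k)) 266 = true := by decide +kernel
theorem s5c109 : allBelow (fun k => fs5 (Nat.add (Nat.succ 31604) k)) 281 = true := by decide +kernel
theorem s5c110 : allBelow (fun k => fs5 (Nat.add (Nat.succ 31885) k)) 326 = true := by decide +kernel
theorem s5c111 : allBelow (fun k => fs5 (Nat.add (Nat.succ 32211) k)) 331 = true := by decide +kernel
theorem s5c112 : allBelow (fun k => fs5 (Nat.add (Nat.succ 32542) k)) 333 = true := by decide +kernel
theorem s5c113 : allBelow (fun k => fs5 (Nat.add (Nat.succ 32875) k)) 284 = true := by decide +kernel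
theorem s5c114 : allBelow (fun k => fs5 (Nat.add (Nat.succ 33159) k)) 296 = true := by decide +kernel
theorem s5c115 : allBelow (fun k => fs5 (Nat.add (Nat.succ 33455) k)) 356 = true := by decide +kernel
theorem s5c116 : allBelow (fun k => fs5 (Nat.add (Nat.succ 33811) k)) 306 = true := by decide +kernel
theorem s5c117 : allBelow (fun k => fs5 (Nat.add (Nat.succ 34117) k)) 284 = true := by decide +kernel
theorem s5c118 : allBelow (fun k => fs5 (Nat.add (Nat.succ 34401) k)) 287 = true := by decide +kernel
theorem s5c119 : allBelow (fun k => fs5 (Nat.add (Nat.succ 34688) k)) 273 = true := by decide +kernel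
theorem s5c120 : allBelow (fun k => fs5 (Nat.add (Nat.succ 34961) k)) 279 = true := by decide +kernel
theorem s5c121 : allBelow (fun k => fs5 (Nat.add (Nat.succ 35240) k)) 288 = true := by decide +kernel
theorem s5c122 : allBelow (fun k => fs5 (Nat.add (Nat.succ 35528) k)) 296 = true := by decide +kernel
theorem s5c123 : allBelow (fun k => fs5 (Nat.add (Nat.succ 35824) k)) 341 = true := by decide +kernel
theorem s5c124 : allBelow (fun k => fs5 (Nat.add (Nat.succ 36165) k)) 320 = true := by decide +kernel
theorem s5c125 : allBelow (fun k => fs5 (Nat.add (Nat.succ 36485) k)) 313 = true := by decide +kernel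
theorem s5c126 : allBelow (fun k => fs5 (Nat.add (Nat.succ 36798) k)) 345 = true := by decide +kernel
theorem s5c127 : allBelow (fun k => fs5 (Nat.add (Nat.succ 37143) k)) 293 = true := by decide +kernel
theorem s5c128 : allBelow (fun k => fs5 (Nat.add (Nat.succ 37436) k)) 296 = true := by decide +kernel
theorem s5c129 : allBelow (fun k => fs5 (Nat.add (Nat.succ 37732) k)) 324 = true := by decide +kernel
theorem s5c130 : allBelow (fun k => fs5 (Nat.add (Nat.succ 38056) k)) 335 = true := by decide +kernel
theorem s5c131 : allBelow (fun k => fs5 (Nat.add (Nat.succ 38391) k)) 346 = true := by decide +kernel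
theorem s5c132 : allBelow (fun k => fs5 (Nat.add (Nat.succ 38737) k)) 418 = true := by decide +kernel
theorem s5c133 : allBelow (fun k => fs5 (Nat.add (Nat.succ 39155) k)) 308 = true := by decide +kernel
theorem s5c134 : allBelow (fun k => fs5 (Nat.add (Nat.succ 39463) k)) 276 = true := by decide +kernel
theorem s5c135 : allBelow (fun k => fs5 (Nat.add (Nat.succ 39739) k)) 290 = true := by decide +kernel
theorem s5c136 : allBelow (fun k => fs5 (Nat.add (Nat.succ 40029) k)) 360 = true := by decide +kernel
theorem s5c137 : allBelow (fun k => fs5 (Nat.add (Nat.succ 40389) k)) 381 = true := by decide +kernel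
theorem s5c138 : allBelow (fun k => fs5 (Nat.add (Nat.succ 40770) k)) 318 = true := by decide +kernel
theorem s5c139 : allBelow (fun k => fs5 (Nat.add (Nat.succ 41088) k)) 348 = true := by decide +kernel
theorem s5c140 : allBelow (fun k => fs5 (Nat.add (Nat.succ 41436) k)) 337 = true := by decide +kernel
theorem s5c141 : allBelow (fun k => fs5 (Nat.add (Nat.succ 41773) k)) 275 = true := by decide +kernel
theorem s5c142 : allBelow (fun k => fs5 (Nat.add (Nat.succ 42048) k)) 273 = true := by decide +kernel
theorem s5c143 : allBelow (fun k => fs5 (Nat.add (Nat.succ 42321) k)) 291 = true := by decide +kernel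
theorem s5c144 : allBelow (fun k => fs5 (Nat.add (Nat.succ 42612) k)) 281 = true := by decide +kernel
theorem s5c145 : allBelow (fun k => fs5 (Nat.add (Nat.succ 42893) k)) 290 = true := by decide +kernel
theorem s5c146 : allBelow (fun k => fs5 (Nat.add (Nat.succ 43183) k)) 351 = true := by decide +kernel
theorem s5c147 : allBelow (fun k => fs5 (Nat.add (Nat.succ 43534) k)) 346 = true := by decide +kernel
theorem s5c148 : allBelow (fun k => fs5 (Nat.add (Nat.succ 43880) k)) 348 = true := by decide +kernel
theorem s5c149 : allBelow (fun k => fs5 (Nat.add (Nat.succ 44228) k)) 327 = true := by decide +kernel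
theorem s5c150 : allBelow (fun k => fs5 (Nat.add (Nat.succ 44555) k)) 296 = true := by decide +kernel
theorem s5c151 : allBelow (fun k => fs5 (Nat.add (Nat.succ 44851) k)) 294 = true := by decide +kernel
theorem s5c152 : allBelow (fun k => fs5 (Nat.add (Nat.succ 45145) k)) 347 = true := by decide +kernel
theorem s5c153 : allBelow (fun k => fs5 (Nat.add (Nat.succ 45492) k)) 378 = true := by decide +kernel
theorem s5c154 : allBelow (fun k => fs5 (Nat.add (Nat.succ 45870) k)) 300 = true := by decide +kernel
theorem s5c155 : allBelow (fun k => fs5 (Nat.add (Nat.succ 46170) k)) 297 = true := by decide +kernel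
theorem s5c156 : allBelow (fun k => fs5 (Nat.add (Nat.succ 46467) k)) 304 = true := by decide +kernel
theorem s5c157 : allBelow (fun k => fs5 (Nat.add (Nat.succ 46771) k)) 278 = true := by decide +kernel
theorem s5c158 : allBelow (fun k => fs5 (Nat.add (Nat.succ 47049) k)) 299 = true := by decide +kernel
theorem s5c159 : allBelow (fun k => fs5 (Nat.add (Nat.succ 47348) k)) 286 = true := by decide +kernel
theorem s5c160 : allBelow (fun k => fs5 (Nat.add (Nat.succ 47634) k)) 292 = true := by decide +kernel
theorem s5c161 : allBelow (fun k => fs5 (Nat.add (Nat.succ 47926) k)) 288 = true := by decide +kernel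
theorem s5c162 : allBelow (fun k => fs5 (Nat.add (Nat.succ 48214) k)) 307 = true := by decide +kernel
theorem s5c163 : allBelow (fun k => fs5 (Nat.add (Nat.succ 48521) k)) 355 = true := by decide +kernel
theorem s5c164 : allBelow (fun k => fs5 (Nat.add (Nat.succ 48876) k)) 333 = true := by decide +kernel
theorem s5c165 : allBelow (fun k => fs5 (Nat.add (Nat.succ 49209) k)) 321 = true := by decide +kernel
theorem s5c166 : allBelow (fun k => fs5 (Nat.add (Nat.succ 49530) k)) 321 = true := by decide +kernel
theorem s5c167 : allBelow (fun k => fs5 (Nat.add (Nat.succ 49851) k)) 381 = true := by decide +kernel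
theorem s5c168 : allBelow (fun k => fs5 (Nat.add (Nat.succ 50232) k)) 296 = true := by decide +kernel
theorem s5c169 : allBelow (fun k => fs5 (Nat.add (Nat.succ 50528) k)) 299 = true := by decide +kernel
theorem s5c170 : allBelow (fun k => fs5 (Nat.add (Nat.succ 50827) k)) 299 = true := by decide +kernel
theorem s5c171 : allBelow (fun k => fs5 (Nat.add (Nat.succ 51126) k)) 308 = true := by decide +kernel
theorem s5c172 : allBelow (fun k => fs5 (Nat.add (Nat.succ 51434) k)) 369 = true := by decide +kernel
theorem s5c173 : allBelow (fun k => fs5 (Nat.add (Nat.succ 51803) k)) 338 = true := by decide +kernel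
theorem s5c174 : allBelow (fun k => fs5 (Nat.add (Nat.succ 52141) k)) 379 = true := by decide +kernel
theorem s5c175 : allBelow (fun k => fs5 (Nat.add (Nat.succ 52520) k)) 447 = true := by decide +kernel
theorem s5c176 : allBelow (fun k => fs5 (Nat.add (Nat.succ 52967) k)) 318 = true := by decide +kernel
theorem s5c177 : allBelow (fun k => fs5 (Nat.add (Nat.succ 53285) k)) 285 = true := by decide +kernel
theorem s5c178 : allBelow (fun k => fs5 (Nat.add (Nat.succ 53570) k)) 297 = true := by decide +kernel
theorem s5c179 : allBelow (fun k => fs5 (Nat.add (Nat.succ 53867) k)) 309 = true := by decide +kernel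
theorem s5c180 : allBelow (fun k => fs5 (Nat.add (Nat.succ 54176) k)) 372 = true := by decide +kernel
theorem s5c181 : allBelow (fun k => fs5 (Nat.add (Nat.succ 54548) k)) 389 = true := by decide +kernel
theorem s5c182 : allBelow (fun k => fs5 (Nat.add (Nat.succ 54937) k)) 380 = true := by decide +kernel
theorem s5c183 : allBelow (fun k => fs5 (Nat.add (Nat.succ 55317) k)) 314 = true := by decide +kernel
theorem s5c184 : allBelow (fun k => fs5 (Nat.add (Nat.succ 55631) k)) 370 = true := by decide +kernel
theorem s5c185 : allBelow (fun k => fs5 (Nat.add (Nat.succ 56001) k)) 370 = true := by decide +kernel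
theorem s5c186 : allBelow (fun k => fs5 (Nat.add (Nat.succ 56371) k)) 270 = true := by decide +kernel
theorem s5c187 : allBelow (fun k => fs5 (Nat.add (Nat.succ 56641) k)) 294 = true := by decide +kernel
theorem s5c188 : allBelow (fun k => fs5 (Nat.add (Nat.succ 56935) k)) 278 = true := by decide +kernel
theorem s5c189 : allBelow (fun k => fs5 (Nat.add (Nat.succ 57213) k)) 310 = true := by decide +kernel
theorem s5c190 : allBelow (fun k => fs5 (Nat.add (Nat.succ 57523) k)) 289 = true := by decide +kernel
theorem s5c191 : allBelow (fun k => fs5 (Nat.add (Nat.succ 57812) k)) 288 = true := by decide +kernel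
theorem s5c192 : allBelow (fun k => fs5 (Nat.add (Nat.succ 58100) k)) 296 = true := by decide +kernel
theorem s5c193 : allBelow (fun k => fs5 (Nat.add (Nat.succ 58396) k)) 345 = true := by decide +kernel
theorem s5c194 : allBelow (fun k => fs5 (Nat.add (Nat.succ 58741) k)) 366 = true := by decide +kernel
theorem s5c195 : allBelow (fun k => fs5 (Nat.add (Nat.succ 59107) k)) 336 = true := by decide +kernel
theorem s5c196 : allBelow (fun k => fs5 (Nat.add (Nat.succ 59443) k)) 360 = true := by decide +kernel
theorem s5c197 : allBelow (fun k => fs5 (Nat.add (Nat.succ 59803) k)) 370 = true := by decide +kernel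
theorem s5c198 : allBelow (fun k => fs5 (Nat.add (Nat.succ 60173) k)) 274 = true := by decide +kernel
theorem s5c199 : allBelow (fun k => fs5 (Nat.add (Nat.succ 60447) k)) 317 = true := by decide +kernel
theorem s5c200 : allBelow (fun k => fs5 (Nat.add (Nat.succ 60764) k)) 293 = true := by decide +kernel
theorem s5c201 : allBelow (fun k => fs5 (Nat.add (Nat.succ 61057) k)) 360 = true := by decide +kernel
theorem s5c202 : allBelow (fun k => fs5 (Nat.add (Nat.succ 61417) k)) 396 = true := by decide +kernel
theorem s5c203 : allBelow (fun k => fs5 (Nat.add (Nat.succ 61813) k)) 350 = true := by decide +kernel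
theorem s5c204 : allBelow (fun k => fs5 (Nat.add (Nat.succ 62163) k)) 316 = true := by decide +kernel
theorem s5c205 : allBelow (fun k => fs5 (Nat.add (Nat.succ 62479) k)) 287 = true := by decide +kernel
theorem s5c206 : allBelow (fun k => fs5 (Nat.add (Nat.succ 62766) k)) 300 = true := by decide +kernel
theorem s5c207 : allBelow (fun k => fs5 (Nat.add (Nat.succ 63066) k)) 302 = true := by decide +kernel
theorem s5c208 : allBelow (fun k => fs5 (Nat.add (Nat.succ 63368) k)) 285 = true := by decide +kernel
theorem s5c209 : allBelow (fun k => fs5 (Nat.add (Nat.succ 63653) k)) 307 = true := by decide +kernel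
theorem s5c210 : allBelow (fun k => fs5 (Nat.add (Nat.succ 63960) k)) 310 = true := by decide +kernel
theorem s5c211 : allBelow (fun k => fs5 (Nat.add (Nat.succ 64270) k)) 290 = true := by decide +kernel
theorem s5c212 : allBelow (fun k => fs5 (Nat.add (Nat.succ 64560) k)) 291 = true := by decide +kernel
theorem s5c213 : allBelow (fun k => fs5 (Nat.add (Nat.succ 64851) k)) 288 = true := by decide +kernel
theorem s5c214 : allBelow (fun k => fs5 (Nat.add (Nat.succ 65139) k)) 298 = true := by decide +kernel
theorem s5c215 : allBelow (fun k => fs5 (Nat.add (Nat.succ 65437) k)) 319 = true := by decide +kernel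
theorem s5c216 : allBelow (fun k => fs5 (Nat.add (Nat.succ 65756) k)) 350 = true := by decide +kernel
theorem s5c217 : allBelow (fun k => fs5 (Nat.add (Nat.succ 66106) k)) 366 = true := by decide +kernel
theorem s5c218 : allBelow (fun k => fs5 (Nat.add (Nat.succ 66472) k)) 319 = true := by decide +kernel
theorem s5c219 : allBelow (fun k => fs5 (Nat.add (Nat.succ 66791) k)) 337 = true := by decide +kernel
theorem s5c220 : allBelow (fun k => fs5 (Nat.add (Nat.succ 67128) k)) 346 = true := by decide +kernel
theorem s5c221 : allBelow (fun k => fs5 (Nat.add (Nat.succ 67474) k)) 398 = true := by decide +kernel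
theorem s5c222 : allBelow (fun k => fs5 (Nat.add (Nat.succ 67872) k)) 335 = true := by decide +kernel
theorem s5c223 : allBelow (fun k => fs5 (Nat.add (Nat.succ 68207) k)) 301 = true := by decide +kernel
theorem s5c224 : allBelow (fun k => fs5 (Nat.add (Nat.succ 68508) k)) 310 = true := by decide +kernel
theorem s5c225 : allBelow (fun k => fs5 (Nat.add (Nat.succ 68818) k)) 296 = true := by decide +kernel
theorem s5c226 : allBelow (fun k => fs5 (Nat.add (Nat.succ 69114) k)) 296 = true := by decide +kernel
theorem s5c227 : allBelow (fun k => fs5 (Nat.add (Nat.succ 69410) k)) 358 = true := by decide +kernel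
theorem s5c228 : allBelow (fun k => fs5 (Nat.add (Nat.succ 69768) k)) 367 = true := by decide +kernel
theorem s5c229 : allBelow (fun k => fs5 (Nat.add (Nat.succ 70135) k)) 379 = true := by decide +kernel
theorem s5c230 : allBelow (fun k => fs5 (Nat.add (Nat.succ 70514) k)) 414 = true := by decide +kernel
theorem s5c231 : allBelow (fun k => fs5 (Nat.add (Nat.succ 70928) k)) 415 = true := by decide +kernel
theorem s5c232 : allBelow (fun k => fs5 (Nat.add (Nat.succ 71343) k)) 300 = true := by decide +kernel
theorem s5c233 : allBelow (fun k => fs5 (Nat.add (Nat.succ 71643) k)) 291 = true := by decide +kernel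
theorem s5c234 : allBelow (fun k => fs5 (Nat.add (Nat.succ 71934) k)) 317 = true := by decide +kernel
theorem s5c235 : allBelow (fun k => fs5 (Nat.add (Nat.succ 72251) k)) 308 = true := by decide +kernel
theorem s5c236 : allBelow (fun k => fs5 (Nat.add (Nat.succ 72559) k)) 316 = true := by decide +kernel
theorem s5c237 : allBelow (fun k => fs5 (Nat.add (Nat.succ 72875) k)) 387 = true := by decide +kernel
theorem s5c238 : allBelow (fun k => fs5 (Nat.add (Nat.succ 73262) k)) 400 = true := by decide +kernel
theorem s5c239 : allBelow (fun k => fs5 (Nat.add (Nat.succ 73662) k)) 430 = true := by decide +kernel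
theorem s5c240 : allBelow (fun k => fs5 (Nat.add (Nat.succ 74092) k)) 323 = true := by decide +kernel
theorem s5c241 : allBelow (fun k => fs5 (Nat.add (Nat.succ 74415) k)) 341 = true := by decide +kernel
theorem s5c242 : allBelow (fun k => fs5 (Nat.add (Nat.succ 74756) k)) 398 = true := by decide +kernel
theorem s5c243 : allBelow (fun k => fs5 (Nat.add (Nat.succ 75154) k)) 363 = true := by decide +kernel
theorem s5c244 : allBelow (fun k => fs5 (Nat.add (Nat.succ 75517) k)) 276 = true := by decide +kernel
theorem s5c245 : allBelow (fun k => fs5 (Nat.add (Nat.succ 75793) k)) 281 = true := by decide +kernel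
theorem s5c246 : allBelow (fun k => fs5 (Nat.add (Nat.succ 76074) k)) 301 = true := by decide +kernel
theorem s5c247 : allBelow (fun k => fs5 (Nat.add (Nat.succ 76375) k)) 274 = true := by decide +kernel
theorem s5c248 : allBelow (fun k => fs5 (Nat.add (Nat.succ 76649) k)) 322 = true := by decide +kernel
theorem s5c249 : allBelow (fun k => fs5 (Nat.add (Nat.succ 76971) k)) 313 = true := by decide +kernel
theorem s5c250 : allBelow (fun k => fs5 (Nat.add (Nat.succ 77284) k)) 292 = true := by decide +kernel
theorem s5c251 : allBelow (fun k => fs5 (Nat.add (Nat.succ 77576) k)) 300 = true := by decide +kernel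
theorem s5c252 : allBelow (fun k => fs5 (Nat.add (Nat.succ 77876) k)) 300 = true := by decide +kernel
theorem s5c253 : allBelow (fun k => fs5 (Nat.add (Nat.succ 78176) k)) 299 = true := by decide +kernel
theorem s5c254 : allBelow (fun k => fs5 (Nat.add (Nat.succ 78475) k)) 363 = true := by decide +kernel
theorem s5c255 : allBelow (fun k => fs5 (Nat.add (Nat.succ 78838) k)) 390 = true := by decide +kernel
theorem s5c256 : allBelow (fun k => fs5 (Nat.add (Nat.succ 79228) k)) 347 = true := by decide +kernel
theorem s5c257 : allBelow (fun k => fs5 (Nat.add (Nat.succ 79575) k)) 364 = true := by decide +kernel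
theorem s5c258 : allBelow (fun k => fs5 (Nat.add (Nat.succ 79939) k)) 413 = true := by decide +kernel
theorem s5c259 : allBelow (fun k => fs5 (Nat.add (Nat.succ 80352) k)) 298 = true := by decide +kernel
theorem s5c260 : allBelow (fun k => fs5 (Nat.add (Nat.succ 80650) k)) 282 = true := by decide +kernel
theorem s5c261 : allBelow (fun k => fs5 (Nat.add (Nat.succ 80932) k)) 329 = true := by decide +kernel
theorem s5c262 : allBelow (fun k => fs5 (Nat.add (Nat.succ 81261) k)) 300 = true := by decide +kernel
theorem s5c263 : allBelow (fun k => fs5 (Nat.add (Nat.succ 81561) k)) 309 = true := by decide +kernel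
theorem s5c264 : allBelow (fun k => fs5 (Nat.add (Nat.succ 81870) k)) 396 = true := by decide +kernel
theorem s5c265 : allBelow (fun k => fs5 (Nat.add (Nat.succ 82266) k)) 417 = true := by decide +kernel
theorem s5c266 : allBelow (fun k => fs5 (Nat.add (Nat.succ 82683) k)) 331 = true := by decide +kernel
theorem s5c267 : allBelow (fun k => fs5 (Nat.add (Nat.succ 83014) k)) 313 = true := by decide +kernel
theorem s5c268 : allBelow (fun k => fs5 (Nat.add (Nat.succ 83327) k)) 295 = true := by decide +kernel
theorem s5c269 : allBelow (fun k => fs5 (Nat.add (Nat.succ 83622) k)) 272 = true := by decide +kernel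
theorem s5c270 : allBelow (fun k => fs5 (Nat.add (Nat.succ 83894) k)) 317 = true := by decide +kernel
theorem s5c271 : allBelow (fun k => fs5 (Nat.add (Nat.succ 84211) k)) 311 = true := by decide +kernel
theorem s5c272 : allBelow (fun k => fs5 (Nat.add (Nat.succ 84522) k)) 286 = true := by decide +kernel
theorem s5c273 : allBelow (fun k => fs5 (Nat.add (Nat.succ 84808) k)) 300 = true := by decide +kernel
theorem s5c274 : allBelow (fun k => fs5 (Nat.add (Nat.succ 85108) k)) 314 = true := by decide +kernel
theorem s5c275 : allBelow (fun k => fs5 (Nat.add (Nat.succ 85422) k)) 317 = true := by decide +kernel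
theorem s5c276 : allBelow (fun k => fs5 (Nat.add (Nat.succ 85739) k)) 289 = true := by decide +kernel
theorem s5c277 : allBelow (fun k => fs5 (Nat.add (Nat.succ 86028) k)) 293 = true := by decide +kernel
theorem s5c278 : allBelow (fun k => fs5 (Nat.add (Nat.succ 86321) k)) 291 = true := by decide +kernel
theorem s5c279 : allBelow (fun k => fs5 (Nat.add (Nat.succ 86612) k)) 300 = true := by decide +kernel
theorem s5c280 : allBelow (fun k => fs5 (Nat.add (Nat.succ 86912) k)) 293 = true := by decide +kernel
theorem s5c281 : allBelow (fun k => fs5 (Nat.add (Nat.succ 87205) k)) 299 = true := by decide +kernel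
theorem s5c282 : allBelow (fun k => fs5 (Nat.add (Nat.succ 87504) k)) 322 = true := by decide +kernel
theorem s5c283 : allBelow (fun k => fs5 (Nat.add (Nat.succ 87826) k)) 379 = true := by decide +kernel
theorem s5c284 : allBelow (fun k => fs5 (Nat.add (Nat.succ 88205) k)) 325 = true := by decide +kernel
theorem s5c285 : allBelow (fun k => fs5 (Nat.add (Nat.succ 88530) k)) 378 = true := by decide +kernel
theorem s5c286 : allBelow (fun k => fs5 (Nat.add (Nat.succ 88908) k)) 335 = true := by decide +kernel
theorem s5c287 : allBelow (fun k => fs5 (Nat.add (Nat.succ 89243) k)) 328 = true := by decide +kernel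
theorem s5c288 : allBelow (fun k => fs5 (Nat.add (Nat.succ 89571) k)) 368 = true := by decide +kernel
theorem s5c289 : allBelow (fun k => fs5 (Nat.add (Nat.succ 89939) k)) 364 = true := by decide +kernel
theorem s5c290 : allBelow (fun k => fs5 (Nat.add (Nat.succ 90303) k)) 423 = true := by decide +kernel
theorem s5c291 : allBelow (fun k => fs5 (Nat.add (Nat.succ 90726) k)) 338 = true := by decide +kernel
theorem s5c292 : allBelow (fun k => fs5 (Nat.add (Nat.succ 91064) k)) 321 = true := by decide +kernel
theorem s5c293 : allBelow (fun k => fs5 (Nat.add (Nat.succ 91385) k)) 318 = true := by decide +kernel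
theorem s5c294 : allBelow (fun k => fs5 (Nat.add (Nat.succ 91703) k)) 314 = true := by decide +kernel
theorem s5c295 : allBelow (fun k => fs5 (Nat.add (Nat.succ 92017) k)) 327 = true := by decide +kernel
theorem s5c296 : allBelow (fun k => fs5 (Nat.add (Nat.succ 92344) k)) 324 = true := by decide +kernel
theorem s5c297 : allBelow (fun k => fs5 (Nat.add (Nat.succ 92668) k)) 390 = true := by decide +kernel
theorem s5c298 : allBelow (fun k => fs5 (Nat.add (Nat.succ 93058) k)) 415 = true := by decide +kernel
theorem s5c299 : allBelow (fun k => fs5 (Nat.add (Nat.succ 93473) k)) 438 = true := by decide +kernel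
theorem s5c300 : allBelow (fun k => fs5 (Nat.add (Nat.succ 93911) k)) 419 = true := by decide +kernel
theorem s5c301 : allBelow (fun k => fs5 (Nat.add (Nat.succ 94330) k)) 314 = true := by decide +kernel
theorem s5c302 : allBelow (fun k => fs5 (Nat.add (Nat.succ 94644) k)) 289 = true := by decide +kernel
theorem s5c303 : allBelow (fun k => fs5 (Nat.add (Nat.succ 94933) k)) 330 = true := by decide +kernel
theorem s5c304 : allBelow (fun k => fs5 (Nat.add (Nat.succ 95263) k)) 317 = true := by decide +kernel
theorem s5c305 : allBelow (fun k => fs5 (Nat.add (Nat.succ 95580) k)) 317 = true := by decide +kernel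
theorem s5c306 : allBelow (fun k => fs5 (Nat.add (Nat.succ 95897) k)) 302 = true := by decide +kernel
theorem s5c307 : allBelow (fun k => fs5 (Nat.add (Nat.succ 96199) k)) 393 = true := by decide +kernel
theorem s5c308 : allBelow (fun k => fs5 (Nat.add (Nat.succ 96592) k)) 416 = true := by decide +kernel
theorem s5c309 : allBelow (fun k => fs5 (Nat.add (Nat.succ 97008) k)) 417 = true := by decide +kernel
theorem s5c310 : allBelow (fun k => fs5 (Nat.add (Nat.succ 97425) k)) 345 = true := by decide +kernel
theorem s5c311 : allBelow (fun k => fs5 (Nat.add (Nat.succ 97770) k)) 342 = true := by decide +kernel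
theorem s5c312 : allBelow (fun k => fs5 (Nat.add (Nat.succ 98112) k)) 386 = true := by decide +kernel
theorem s5c313 : allBelow (fun k => fs5 (Nat.add (Nat.succ 98498) k)) 405 = true := by decide +kernel
theorem s5c314 : allBelow (fun k => fs5 (Nat.add (Nat.succ 98903) k)) 278 = true := by decide +kernel
theorem s5c315 : allBelow (fun k => fs5 (Nat.add (Nat.succ 99181) k)) 280 = true := by decide +kernel
theorem s5c316 : allBelow (fun k => fs5 (Nat.add (Nat.succ 99461) k)) 292 = true := by decide +kernel
theorem s5c317 : allBelow (fun k => fs5 (Nat.add (Nat.succ 99753) k)) 313 = true := by decide +kernel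
theorem s5c318 : allBelow (fun k => fs5 (Nat.add (Nat.succ 100066) k)) 272 = true := by decide +kernel
theorem s5c319 : allBelow (fun k => fs5 (Nat.add (Nat.succ 100338) k)) 274 = true := by decide +kernel
theorem s5c320 : allBelow (fun k => fs5 (Nat.add (Nat.succ 100612) k)) 324 = true := by decide +kernel
theorem s5c321 : allBelow (fun k => fs5 (Nat.add (Nat.succ 100936) k)) 322 = true := by decide +kernel
theorem s5c322 : allBelow (fun k => fs5 (Nat.add (Nat.succ 101258) k)) 311 = true := by decide +kernel
theorem s5c323 : allBelow (fun k => fs5 (Nat.add (Nat.succ 101569) k)) 301 = true := by decide +kernel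
theorem s5c324 : allBelow (fun k => fs5 (Nat.add (Nat.succ 101870) k)) 281 = true := by decide +kernel
theorem s5c325 : allBelow (fun k => fs5 (Nat.add (Nat.succ 102151) k)) 301 = true := by decide +kernel
theorem s5c326 : allBelow (fun k => fs5 (Nat.add (Nat.succ 102452) k)) 315 = true := by decide +kernel
theorem s5c327 : allBelow (fun k => fs5 (Nat.add (Nat.succ 102767) k)) 308 = true := by decide +kernel
theorem s5c328 : allBelow (fun k => fs5 (Nat.add (Nat.succ 103075) k)) 355 = true := by decide +kernel
theorem s5c329 : allBelow (fun k => fs5 (Nat.add (Nat.succ 103430) k)) 386 = true := by decide +kernel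
theorem s5c330 : allBelow (fun k => fs5 (Nat.add (Nat.succ 103816) k)) 382 = true := by decide +kernel
theorem s5c331 : allBelow (fun k => fs5 (Nat.add (Nat.succ 104198) k)) 388 = true := by decide +kernel
theorem s5c332 : allBelow (fun k => fs5 (Nat.add (Nat.succ 104586) k)) 427 = true := by decide +kernel
theorem s5c333 : allBelow (fun k => fs5 (Nat.add (Nat.succ 105013) k)) 322 = true := by decide +kernel
theorem s5c334 : allBelow (fun k => fs5 (Nat.add (Nat.succ 105335) k)) 290 = true := by decide +kernel
theorem s5c335 : allBelow (fun k => fs5 (Nat.add (Nat.succ 105625) k)) 303 = true := by decide +kernel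
theorem s5c336 : allBelow (fun k => fs5 (Nat.add (Nat.succ 105928) k)) 350 = true := by decide +kernel
theorem s5c337 : allBelow (fun k => fs5 (Nat.add (Nat.succ 106278) k)) 325 = true := by decide +kernel
theorem s5c338 : allBelow (fun k => fs5 (Nat.add (Nat.succ 106603) k)) 360 = true := by decide +kernel
theorem s5c339 : allBelow (fun k => fs5 (Nat.add (Nat.succ 106963) k)) 425 = true := by decide +kernel
theorem s5c340 : allBelow (fun k => fs5 (Nat.add (Nat.succ 107388) k)) 325 = true := by decide +kernel
theorem s5c341 : allBelow (fun k => fs5 (Nat.add (Nat.succ 107713) k)) 271 = true := by decide +kernel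
theorem s5c342 : allBelow (fun k => fs5 (Nat.add (Nat.succ 107984) k)) 341 = true := by decide +kernel
theorem s5c343 : allBelow (fun k => fs5 (Nat.add (Nat.succ 108325) k)) 283 = true := by decide +kernel
theorem s5c344 : allBelow (fun k => fs5 (Nat.add (Nat.succ 108608) k)) 279 = true := by decide +kernel
theorem s5c345 : allBelow (fun k => fs5 (Nat.add (Nat.succ 108887) k)) 295 = true := by decide +kernel
theorem s5c346 : allBelow (fun k => fs5 (Nat.add (Nat.succ 109182) k)) 341 = true := by decide +kernel
theorem s5c347 : allBelow (fun k => fs5 (Nat.add (Nat.succ 109523) k)) 310 = true := by decide +kernel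
theorem s5c348 : allBelow (fun k => fs5 (Nat.add (Nat.succ 109833) k)) 279 = true := by decide +kernel
theorem s5c349 : allBelow (fun k => fs5 (Nat.add (Nat.succ 110112) k)) 279 = true := by decide +kernel
theorem s5c350 : allBelow (fun k => fs5 (Nat.add (Nat.succ 110391) k)) 327 = true := by decide +kernel
theorem s5c351 : allBelow (fun k => fs5 (Nat.add (Nat.succ 110718) k)) 314 = true := by decide +kernel
theorem s5c352 : allBelow (fun k => fs5 (Nat.add (Nat.succ 111032) k)) 286 = true := by decide +kernel
theorem s5c353 : allBelow (fun k => fs5 (Nat.add (Nat.succ 111318) k)) 330 = true := by decide +kernel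
theorem s5c354 : allBelow (fun k => fs5 (Nat.add (Nat.succ 111648) k)) 296 = true := by decide +kernel
theorem s5c355 : allBelow (fun k => fs5 (Nat.add (Nat.succ 111944) k)) 289 = true := by decide +kernel
theorem s5c356 : allBelow (fun k => fs5 (Nat.add (Nat.succ 112233) k)) 300 = true := by decide +kernel
theorem s5c357 : allBelow (fun k => fs5 (Nat.add (Nat.succ 112533) k)) 281 = true := by decide +kernel
theorem s5c358 : allBelow (fun k => fs5 (Nat.add (Nat.succ 112814) k)) 307 = true := by decide +kernel
theorem s5c359 : allBelow (fun k => fs5 (Nat.add (Nat.succ 113121) k)) 282 = true := by decide +kernel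
theorem s5c360 : allBelow (fun k => fs5 (Nat.add (Nat.succ 113403) k)) 311 = true := by decide +kernel
theorem s5c361 : allBelow (fun k => fs5 (Nat.add (Nat.succ 113714) k)) 303 = true := by decide +kernel
theorem s5c362 : allBelow (fun k => fs5 (Nat.add (Nat.succ 114017) k)) 343 = true := by decide +kernel
theorem s5c363 : allBelow (fun k => fs5 (Nat.add (Nat.succ 114360) k)) 359 = true := by decide +kernel
theorem s5c364 : allBelow (fun k => fs5 (Nat.add (Nat.succ 114719) k)) 358 = true := by decide +kernel
theorem s5c365 : allBelow (fun k => fs5 (Nat.add (Nat.succ 115077) k)) 382 = true := by decide +kernel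
theorem s5c366 : allBelow (fun k => fs5 (Nat.add (Nat.succ 115459) k)) 342 = true := by decide +kernel
theorem s5c367 : allBelow (fun k => fs5 (Nat.add (Nat.succ 115801) k)) 333 = true := by decide +kernel
theorem s5c368 : allBelow (fun k => fs5 (Nat.add (Nat.succ 116134) k)) 384 = true := by decide +kernel
theorem s5c369 : allBelow (fun k => fs5 (Nat.add (Nat.succ 116518) k)) 351 = true := by decide +kernel
theorem s5c370 : allBelow (fun k => fs5 (Nat.add (Nat.succ 116869) k)) 427 = true := by decide +kernel
theorem s5c371 : allBelow (fun k => fs5 (Nat.add (Nat.succ 117296) k)) 348 = true := by decide +kernel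
theorem s5c372 : allBelow (fun k => fs5 (Nat.add (Nat.succ 117644) k)) 355 = true := by decide +kernel
theorem s5c373 : allBelow (fun k => fs5 (Nat.add (Nat.succ 117999) k)) 299 = true := by decide +kernel
theorem s5c374 : allBelow (fun k => fs5 (Nat.add (Nat.succ 118298) k)) 352 = true := by decide +kernel
theorem s5c375 : allBelow (fun k => fs5 (Nat.add (Nat.succ 118650) k)) 303 = true := by decide +kernel
theorem s5c376 : allBelow (fun k => fs5 (Nat.add (Nat.succ 118953) k)) 328 = true := by decide +kernel
theorem s5c377 : allBelow (fun k => fs5 (Nat.add (Nat.succ 119281) k)) 369 = true := by decide +kernel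
theorem s5c378 : allBelow (fun k => fs5 (Nat.add (Nat.succ 119650) k)) 428 = true := by decide +kernel
theorem s5c379 : allBelow (fun k => fs5 (Nat.add (Nat.succ 120078) k)) 415 = true := by decide +kernel
theorem s5c380 : allBelow (fun k => fs5 (Nat.add (Nat.succ 120493) k)) 311 = true := by decide +kernel
theorem s5c381 : allBelow (fun k => fs5 (Nat.add (Nat.succ 120804) k)) 292 = true := by decide +kernel
theorem s5c382 : allBelow (fun k => fs5 (Nat.add (Nat.succ 121096) k)) 321 = true := by decide +kernel
theorem s5c383 : allBelow (fun k => fs5 (Nat.add (Nat.succ 121417) k)) 330 = true := by decide +kernel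
theorem s5c384 : allBelow (fun k => fs5 (Nat.add (Nat.succ 121747) k)) 300 = true := by decide +kernel
theorem s5c385 : allBelow (fun k => fs5 (Nat.add (Nat.succ 122047) k)) 308 = true := by decide +kernel

end Cfsg.Agent.Lib.Helper35.Fi24a
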