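import Cfsg.Agent.Lib.Helper35.Fi24a.Data

set_option Elab.async false

namespace Cfsg.Agent.Lib.Helper35.Fi24a

open Cfsg.Agent.Lib.Helper35

theorem s5c705 : allBelow (fun k => fs5 (Nat.add (Nat.succ 209369) k)) 280 = true := by decide +kernel
theorem s5c706 : allBelow (fun k => fs5 (Nat.add (Nat.succ 209649) k)) 288 = true := by decide +kernel
theorem s5c707 : allBelow (fun k => fs5 (Nat.add (Nat.succ 209937) k)) 287 = true := by decide +kernel
theorem s5c708 : allBelow (fun k => fs5 (Nat.add (Nat.succ 210224) k)) 292 = true := by decide +kernel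
theorem s5c709 : allBelow (fun k => fs5 (Nat.add (Nat.succ 210516) k)) 283 = true := by decide +kernel
theorem s5c710 : allBelow (fun k => fs5 (Nat.add (Nat.succ 210799) k)) 274 = true := by decide +kernel
theorem s5c711 : allBelow (fun k => fs5 (Nat.add (Nat.succ 211073) k)) 280 = true := by decide +kernel
theorem s5c712 : allBelow (fun k => fs5 (Nat.add (Nat.succ 211353) k)) 272 = true := by decide +kernel
theorem s5c713 : allBelow (fun k => fs5 (Nat.add (Nat.succ 211625) k)) 288 = true := by decide +kernel
theorem s5c714 : allBelow (fun k => fs5 (Nat.add (Nat.succ 211913) k)) 286 = true := by decide +kernel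
theorem s5c715 : allBelow (fun k => fs5 (Nat.add (Nat.succ 212199) k)) 284 = true := by decide +kernel
theorem s5c716 : allBelow (fun k => fs5 (Nat.add (Nat.succ 212483) k)) 269 = true := by decide +kernel
theorem s5c717 : allBelow (fun k => fs5 (Nat.add (Nat.succ 212752) k)) 290 = true := by decide +kernel
theorem s5c718 : allBelow (fun k => fs5 (Nat.add (Nat.succ 213042) k)) 288 = true := by decide +kernel
theorem s5c719 : allBelow (fun k => fs5 (Nat.add (Nat.succ 213330) k)) 283 = true := by decide +kernel
theorem s5c720 : allBelow (fun k => fs5 (Nat.add (Nat.succ 213613) k)) 277 = true := by decide +kernel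
theorem s5c721 : allBelow (fun k => fs5 (Nat.add (Nat.succ 213890) k)) 262 = true := by decide +kernel
theorem s5c722 : allBelow (fun k => fs5 (Nat.add (Nat.succ 214152) k)) 266 = true := by decide +kernel
theorem s5c723 : allBelow (fun k => fs5 (Nat.add (Nat.succ 214418) k)) 288 = true := by decide +kernel
theorem s5c724 : allBelow (fun k => fs5 (Nat.add (Nat.succ 214706) k)) 285 = true := by decide +kernel
theorem s5c725 : allBelow (fun k => fs5 (Nat.add (Nat.succ 214991) k)) 287 = true := by decide +kernel
theorem s5c726 : allBelow (fun k => fs5 (Nat.add (Nat.succ 215278) k)) 299 = true := by decide +kernel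
theorem s5c727 : allBelow (fun k => fs5 (Nat.add (Nat.succ 215577) k)) 294 = true := by decide +kernel
theorem s5c728 : allBelow (fun k => fs5 (Nat.add (Nat.succ 215871) k)) 281 = true := by decide +kernel
theorem s5c729 : allBelow (fun k => fs5 (Nat.add (Nat.succ 216152) k)) 278 = true := by decide +kernel
theorem s5c730 : allBelow (fun k => fs5 (Nat.add (Nat.succ 216430) k)) 291 = true := by decide +kernel
theorem s5c731 : allBelow (fun k => fs5 (Nat.add (Nat.succ 216721) k)) 287 = true := by decide +kernel
theorem s5c732 : allBelow (fun k => fs5 (Nat.add (Nat.succ 217008) k)) 285 = true := by decide +kernel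
theorem s5c733 : allBelow (fun k => fs5 (Nat.add (Nat.succ 217293) k)) 293 = true := by decide +kernel
theorem s5c734 : allBelow (fun k => fs5 (Nat.add (Nat.succ 217586) k)) 295 = true := by decide +kernel
theorem s5c735 : allBelow (fun k => fs5 (Nat.add (Nat.succ 217881) k)) 293 = true := by decide +kernel
theorem s5c736 : allBelow (fun k => fs5 (Nat.add (Nat.succ 218174) k)) 296 = true := by decide +kernel
theorem s5c737 : allBelow (fun k => fs5 (Nat.add (Nat.succ 218470) k)) 298 = true := by decide +kernel
theorem s5c738 : allBelow (fun k => fs5 (Nat.add (Nat.succ 218768) k)) 286 = true := by decide +kernel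
theorem s5c739 : allBelow (fun k => fs5 (Nat.add (Nat.succ 219054) k)) 301 = true := by decide +kernel
theorem s5c740 : allBelow (fun k => fs5 (Nat.add (Nat.succ 219355) k)) 294 = true := by decide +kernel
theorem s5c741 : allBelow (fun k => fs5 (Nat.add (Nat.succ 219649) k)) 281 = true := by decide +kernel
theorem s5c742 : allBelow (fun k => fs5 (Nat.add (Nat.succ 219930) k)) 283 = true := by decide +kernel
theorem s5c743 : allBelow (fun k => fs5 (Nat.add (Nat.succ 220213) k)) 283 = true := by decide +kernel
theorem s5c744 : allBelow (fun k => fs5 (Nat.add (Nat.succ 220496) k)) 274 = true := by decide +kernel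
theorem s5c745 : allBelow (fun k => fs5 (Nat.add (Nat.succ 220770) k)) 271 = true := by decide +kernel
theorem s5c746 : allBelow (fun k => fs5 (Nat.add (Nat.succ 221041) k)) 273 = true := by decide +kernel
theorem s5c747 : allBelow (fun k => fs5 (Nat.add (Nat.succ 221314) k)) 268 = true := by decide +kernel
theorem s5c748 : allBelow (fun k => fs5 (Nat.add (Nat.succ 221582) k)) 265 = true := by decide +kernel
theorem s5c749 : allBelow (fun k => fs5 (Nat.add (Nat.succ 221847) k)) 269 = true := by decide +kernel
theorem s5c750 : allBelow (fun k => fs5 (Nat.add (Nat.succ 222116) k)) 275 = true := by decide +kernel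
theorem s5c751 : allBelow (fun k => fs5 (Nat.add (Nat.succ 222391) k)) 269 = true := by decide +kernel
theorem s5c752 : allBelow (fun k => fs5 (Nat.add (Nat.succ 222660) k)) 252 = true := by decide +kernel
theorem s5c753 : allBelow (fun k => fs5 (Nat.add (Nat.succ 222912) k)) 267 = true := by decide +kernel
theorem s5c754 : allBelow (fun k => fs5 (Nat.add (Nat.succ 223179) k)) 281 = true := by decide +kernel
theorem s5c755 : allBelow (fun k => fs5 (Nat.add (Nat.succ 223460) k)) 260 = true := by decide +kernel
theorem s5c756 : allBelow (fun k => fs5 (Nat.add (Nat.succ 223720) k)) 265 = true := by decide +kernel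
theorem s5c757 : allBelow (fun k => fs5 (Nat.add (Nat.succ 223985) k)) 270 = true := by decide +kernel
theorem s5c758 : allBelow (fun k => fs5 (Nat.add (Nat.succ 224255) k)) 269 = true := by decide +kernel
theorem s5c759 : allBelow (fun k => fs5 (Nat.add (Nat.succ 224524) k)) 273 = true := by decide +kernel
theorem s5c760 : allBelow (fun k => fs5 (Nat.add (Nat.succ 224797) k)) 256 = true := by decide +kernel
theorem s5c761 : allBelow (fun k => fs5 (Nat.add (Nat.succ 225053) k)) 262 = true := by decide +kernel
theorem s5c762 : allBelow (fun k => fs5 (Nat.add (Nat.succ 225315) k)) 282 = true := by decide +kernel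
theorem s5c763 : allBelow (fun k => fs5 (Nat.add (Nat.succ 225597) k)) 263 = true := by decide +kernel
theorem s5c764 : allBelow (fun k => fs5 (Nat.add (Nat.succ 225860) k)) 268 = true := by decide +kernel
theorem s5c765 : allBelow (fun k => fs5 (Nat.add (Nat.succ 226128) k)) 278 = true := by decide +kernel
theorem s5c766 : allBelow (fun k => fs5 (Nat.add (Nat.succ 226406) k)) 276 = true := by decide +kernel
theorem s5c767 : allBelow (fun k => fs5 (Nat.add (Nat.succ 226682) k)) 280 = true := by decide +kernel
theorem s5c768 : allBelow (fun k => fs5 (Nat.add (Nat.succ 226962) k)) 283 = true := by decide +kernel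
theorem s5c769 : allBelow (fun k => fs5 (Nat.add (Nat.succ 227245) k)) 271 = true := by decide +kernel
theorem s5c770 : allBelow (fun k => fs5 (Nat.add (Nat.succ 227516) k)) 247 = true := by decide +kernel
theorem s5c771 : allBelow (fun k => fs5 (Nat.add (Nat.succ 227763) k)) 279 = true := by decide +kernel
theorem s5c772 : allBelow (fun k => fs5 (Nat.add (Nat.succ 228042) k)) 287 = true := by decide +kernel
theorem s5c773 : allBelow (fun k => fs5 (Nat.add (Nat.succ 228329) k)) 288 = true := by decide +kernel
theorem s5c774 : allBelow (fun k => fs5 (Nat.add (Nat.succ 228617) k)) 273 = true := by decide +kernel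
theorem s5c775 : allBelow (fun k => fs5 (Nat.add (Nat.succ 228890) k)) 282 = true := by decide +kernel
theorem s5c776 : allBelow (fun k => fs5 (Nat.add (Nat.succ 229172) k)) 283 = true := by decide +kernel
theorem s5c777 : allBelow (fun k => fs5 (Nat.add (Nat.succ 229455) k)) 272 = true := by decide +kernel
theorem s5c778 : allBelow (fun k => fs5 (Nat.add (Nat.succ 229727) k)) 281 = true := by decide +kernel
theorem s5c779 : allBelow (fun k => fs5 (Nat.add (Nat.succ 230008) k)) 265 = true := by decide +kernel
theorem s5c780 : allBelow (fun k => fs5 (Nat.add (Nat.succ 230273) k)) 278 = true := by decide +kernel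
theorem s5c781 : allBelow (fun k => fs5 (Nat.add (Nat.succ 230551) k)) 291 = true := by decide +kernel
theorem s5c782 : allBelow (fun k => fs5 (Nat.add (Nat.succ 230842) k)) 273 = true := by decide +kernel
theorem s5c783 : allBelow (fun k => fs5 (Nat.add (Nat.succ 231115) k)) 263 = true := by decide +kernel
theorem s5c784 : allBelow (fun k => fs5 (Nat.add (Nat.succ 231378) k)) 270 = true := by decide +kernel
theorem s5c785 : allBelow (fun k => fs5 (Nat.add (Nat.succ 231648) k)) 273 = true := by decide +kernel
theorem s5c786 : allBelow (fun k => fs5 (Nat.add (Nat.succ 231921) k)) 246 = true := by decide +kernel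
theorem s5c787 : allBelow (fun k => fs5 (Nat.add (Nat.succ 232167) k)) 274 = true := by decide +kernel
theorem s5c788 : allBelow (fun k => fs5 (Nat.add (Nat.succ 232441) k)) 294 = true := by decide +kernel
theorem s5c789 : allBelow (fun k => fs5 (Nat.add (Nat.succ 232735) k)) 288 = true := by decide +kernel
theorem s5c790 : allBelow (fun k => fs5 (Nat.add (Nat.succ 233023) k)) 284 = true := by decide +kernel
theorem s5c791 : allBelow (fun k => fs5 (Nat.add (Nat.succ 233307) k)) 284 = true := by decide +kernel
theorem s5c792 : allBelow (fun k => fs5 (Nat.add (Nat.succ 233591) k)) 292 = true := by decide +kernel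
theorem s5c793 : allBelow (fun k => fs5 (Nat.add (Nat.succ 233883) k)) 282 = true := by decide +kernel
theorem s5c794 : allBelow (fun k => fs5 (Nat.add (Nat.succ 234165) k)) 265 = true := by decide +kernel
theorem s5c795 : allBelow (fun k => fs5 (Nat.add (Nat.succ 234430) k)) 283 = true := by decide +kernel
theorem s5c796 : allBelow (fun k => fs5 (Nat.add (Nat.succ 234713) k)) 287 = true := by decide +kernel
theorem s5c797 : allBelow (fun k => fs5 (Nat.add (Nat.succ 235000) k)) 278 = true := by decide +kernel
theorem s5c798 : allBelow (fun k => fs5 (Nat.add (Nat.succ 235278) k)) 295 = true := by decide +kernel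
theorem s5c799 : allBelow (fun k => fs5 (Nat.add (Nat.succ 235573) k)) 288 = true := by decide +kernel
theorem s5c800 : allBelow (fun k => fs5 (Nat.add (Nat.succ 235861) k)) 281 = true := by decide +kernel
theorem s5c801 : allBelow (fun k => fs5 (Nat.add (Nat.succ 236142) k)) 279 = true := by decide +kernel
theorem s5c802 : allBelow (fun k => fs5 (Nat.add (Nat.succ 236421) k)) 284 = true := by decide +kernel
theorem s5c803 : allBelow (fun k => fs5 (Nat.add (Nat.succ 236705) k)) 275 = true := by decide +kernel
theorem s5c804 : allBelow (fun k => fs5 (Nat.add (Nat.succ 236980) k)) 285 = true := by decide +kernel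
theorem s5c805 : allBelow (fun k => fs5 (Nat.add (Nat.succ 237265) k)) 285 = true := by decide +kernel
theorem s5c806 : allBelow (fun k => fs5 (Nat.add (Nat.succ 237550) k)) 275 = true := by decide +kernel
theorem s5c807 : allBelow (fun k => fs5 (Nat.add (Nat.succ 237825) k)) 273 = true := by decide +kernel
theorem s5c808 : allBelow (fun k => fs5 (Nat.add (Nat.succ 238098) k)) 274 = true := by decide +kernel
theorem s5c809 : allBelow (fun k => fs5 (Nat.add (Nat.succ 238372) k)) 287 = true := by decide +kernel
theorem s5c810 : allBelow (fun k => fs5 (Nat.add (Nat.succ 238659) k)) 283 = true := by decide +kernel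
theorem s5c811 : allBelow (fun k => fs5 (Nat.add (Nat.succ 238942) k)) 294 = true := by decide +kernel
theorem s5c812 : allBelow (fun k => fs5 (Nat.add (Nat.succ 239236) k)) 298 = true := by decide +kernel
theorem s5c813 : allBelow (fun k => fs5 (Nat.add (Nat.succ 239534) k)) 280 = true := by decide +kernel
theorem s5c814 : allBelow (fun k => fs5 (Nat.add (Nat.succ 239814) k)) 285 = true := by decide +kernel
theorem s5c815 : allBelow (fun k => fs5 (Nat.add (Nat.succ 240099) k)) 272 = true := by decide +kernel
theorem s5c816 : allBelow (fun k => fs5 (Nat.add (Nat.succ 240371) k)) 295 = true := by decide +kernel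
theorem s5c817 : allBelow (fun k => fs5 (Nat.add (Nat.succ 240666) k)) 294 = true := by decide +kernel
theorem s5c818 : allBelow (fun k => fs5 (Nat.add (Nat.succ 240960) k)) 288 = true := by decide +kernel
theorem s5c819 : allBelow (fun k => fs5 (Nat.add (Nat.succ 241248) k)) 294 = true := by decide +kernel
theorem s5c820 : allBelow (fun k => fs5 (Nat.add (Nat.succ 241542) k)) 293 = true := by decide +kernel
theorem s5c821 : allBelow (fun k => fs5 (Nat.add (Nat.succ 241835) k)) 283 = true := by decide +kernel
theorem s5c822 : allBelow (fun k => fs5 (Nat.add (Nat.succ 242118) k)) 292 = true := by decide +kernel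
theorem s5c823 : allBelow (fun k => fs5 (Nat.add (Nat.succ 242410) k)) 283 = true := by decide +kernel
theorem s5c824 : allBelow (fun k => fs5 (Nat.add (Nat.succ 242693) k)) 280 = true := by decide +kernel
theorem s5c825 : allBelow (fun k => fs5 (Nat.add (Nat.succ 242973) k)) 282 = true := by decide +kernel
theorem s5c826 : allBelow (fun k => fs5 (Nat.add (Nat.succ 243255) k)) 275 = true := by decide +kernel
theorem s5c827 : allBelow (fun k => fs5 (Nat.add (Nat.succ 243530) k)) 297 = true := by decide +kernel
theorem s5c828 : allBelow (fun k => fs5 (Nat.add (Nat.succ 243827) k)) 287 = true := by decide +kernel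
theorem s5c829 : allBelow (fun k => fs5 (Nat.add (Nat.succ 244114) k)) 282 = true := by decide +kernel
theorem s5c830 : allBelow (fun k => fs5 (Nat.add (Nat.succ 244396) k)) 295 = true := by decide +kernel
theorem s5c831 : allBelow (fun k => fs5 (Nat.add (Nat.succ 244691) k)) 297 = true := by decide +kernel
theorem s5c832 : allBelow (fun k => fs5 (Nat.add (Nat.succ 244988) k)) 254 = true := by decide +kernel
theorem s5c833 : allBelow (fun k => fs5 (Nat.add (Nat.succ 245242) k)) 247 = true := by decide +kernel
theorem s5c834 : allBelow (fun k => fs5 (Nat.add (Nat.succ 245489) k)) 271 = true := by decide +kernel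
theorem s5c835 : allBelow (fun k => fs5 (Nat.add (Nat.succ 245760) k)) 253 = true := by decide +kernel
theorem s5c836 : allBelow (fun k => fs5 (Nat.add (Nat.succ 246013) k)) 270 = true := by decide +kernel
theorem s5c837 : allBelow (fun k => fs5 (Nat.add (Nat.succ 246283) k)) 281 = true := by decide +kernel
theorem s5c838 : allBelow (fun k => fs5 (Nat.add (Nat.succ 246564) k)) 279 = true := by decide +kernel
theorem s5c839 : allBelow (fun k => fs5 (Nat.add (Nat.succ 246843) k)) 272 = true := by decide +kernel
theorem s5c840 : allBelow (fun k => fs5 (Nat.add (Nat.succ 247115) k)) 275 = true := by decide +kernel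
theorem s5c841 : allBelow (fun k => fs5 (Nat.add (Nat.succ 247390) k)) 273 = true := by decide +kernel
theorem s5c842 : allBelow (fun k => fs5 (Nat.add (Nat.succ 247663) k)) 271 = true := by decide +kernel
theorem s5c843 : allBelow (fun k => fs5 (Nat.add (Nat.succ 247934) k)) 269 = true := by decide +kernel
theorem s5c844 : allBelow (fun k => fs5 (Nat.add (Nat.succ 248203) k)) 273 = true := by decide +kernel
theorem s5c845 : allBelow (fun k => fs5 (Nat.add (Nat.succ 248476) k)) 266 = true := by decide +kernel
theorem s5c846 : allBelow (fun k => fs5 (Nat.add (Nat.succ 248742) k)) 269 = true := by decide +kernel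
theorem s5c847 : allBelow (fun k => fs5 (Nat.add (Nat.succ 249011) k)) 260 = true := by decide +kernel
theorem s5c848 : allBelow (fun k => fs5 (Nat.add (Nat.succ 249271) k)) 266 = true := by decide +kernel
theorem s5c849 : allBelow (fun k => fs5 (Nat.add (Nat.succ 249537) k)) 283 = true := by decide +kernel
theorem s5c850 : allBelow (fun k => fs5 (Nat.add (Nat.succ 249820) k)) 280 = true := by decide +kernel
theorem s5c851 : allBelow (fun k => fs5 (Nat.add (Nat.succ 250100) k)) 273 = true := by decide +kernel
theorem s5c852 : allBelow (fun k => fs5 (Nat.add (Nat.succ 250373) k)) 270 = true := by decide +kernel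
theorem s5c853 : allBelow (fun k => fs5 (Nat.add (Nat.succ 250643) k)) 277 = true := by decide +kernel
theorem s5c854 : allBelow (fun k => fs5 (Nat.add (Nat.succ 250920) k)) 277 = true := by decide +kernel
theorem s5c855 : allBelow (fun k => fs5 (Nat.add (Nat.succ 251197) k)) 265 = true := by decide +kernel
theorem s5c856 : allBelow (fun k => fs5 (Nat.add (Nat.succ 251462) k)) 272 = true := by decide +kernel
theorem s5c857 : allBelow (fun k => fs5 (Nat.add (Nat.succ 251734) k)) 278 = true := by decide +kernel
theorem s5c858 : allBelow (fun k => fs5 (Nat.add (Nat.succ 252012) k)) 268 = true := by decide +kernel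
theorem s5c859 : allBelow (fun k => fs5 (Nat.add (Nat.succ 252280) k)) 273 = true := by decide +kernel
theorem s5c860 : allBelow (fun k => fs5 (Nat.add (Nat.succ 252553) k)) 281 = true := by decide +kernel
theorem s5c861 : allBelow (fun k => fs5 (Nat.add (Nat.succ 252834) k)) 268 = true := by decide +kernel
theorem s5c862 : allBelow (fun k => fs5 (Nat.add (Nat.succ 253102) k)) 276 = true := by decide +kernel
theorem s5c863 : allBelow (fun k => fs5 (Nat.add (Nat.succ 253378) k)) 276 = true := by decide +kernel
theorem s5c864 : allBelow (fun k => fs5 (Nat.add (Nat.succ 253654) k)) 281 = true := by decide +kernel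
theorem s5c865 : allBelow (fun k => fs5 (Nat.add (Nat.succ 253935) k)) 280 = true := by decide +kernel
theorem s5c866 : allBelow (fun k => fs5 (Nat.add (Nat.succ 254215) k)) 277 = true := by decide +kernel
theorem s5c867 : allBelow (fun k => fs5 (Nat.add (Nat.succ 254492) k)) 278 = true := by decide +kernel
theorem s5c868 : allBelow (fun k => fs5 (Nat.add (Nat.succ 254770) k)) 268 = true := by decide +kernel
theorem s5c869 : allBelow (fun k => fs5 (Nat.add (Nat.succ 255038) k)) 273 = true := by decide +kernel
theorem s5c870 : allBelow (fun k => fs5 (Nat.add (Nat.succ 255311) k)) 276 = true := by decide +kernel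
theorem s5c871 : allBelow (fun k => fs5 (Nat.add (Nat.succ 255587) k)) 282 = true := by decide +kernel
theorem s5c872 : allBelow (fun k => fs5 (Nat.add (Nat.succ 255869) k)) 265 = true := by decide +kernel
theorem s5c873 : allBelow (fun k => fs5 (Nat.add (Nat.succ 256134) k)) 275 = true := by decide +kernel
theorem s5c874 : allBelow (fun k => fs5 (Nat.add (Nat.succ 256409) k)) 269 = true := by decide +kernel
theorem s5c875 : allBelow (fun k => fs5 (Nat.add (Nat.succ 256678) k)) 227 = true := by decide +kernel
theorem s5c876 : allBelow (fun k => fs5 (Nat.add (Nat.succ 256905) k)) 246 = true := by decide +kernel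
theorem s5c877 : allBelow (fun k => fs5 (Nat.add (Nat.succ 257151) k)) 284 = true := by decide +kernel
theorem s5c878 : allBelow (fun k => fs5 (Nat.add (Nat.succ 257435) k)) 276 = true := by decide +kernel
theorem s5c879 : allBelow (fun k => fs5 (Nat.add (Nat.succ 257711) k)) 287 = true := by decide +kernel
theorem s5c880 : allBelow (fun k => fs5 (Nat.add (Nat.succ 257998) k)) 281 = true := by decide +kernel
theorem s5c881 : allBelow (fun k => fs5 (Nat.add (Nat.succ 258279) k)) 279 = true := by decide +kernel
theorem s5c882 : allBelow (fun k => fs5 (Nat.add (Nat.succ 258558) k)) 270 = true := by decide +kernel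
theorem s5c883 : allBelow (fun k => fs5 (Nat.add (Nat.succ 258828) k)) 272 = true := by decide +kernel
theorem s5c884 : allBelow (fun k => fs5 (Nat.add (Nat.succ 259100) k)) 270 = true := by decide +kernel
theorem s5c885 : allBelow (fun k => fs5 (Nat.add (Nat.succ 259370) k)) 278 = true := by decide +kernel
theorem s5c886 : allBelow (fun k => fs5 (Nat.add (Nat.succ 259648) k)) 277 = true := by decide +kernel
theorem s5c887 : allBelow (fun k => fs5 (Nat.add (Nat.succ 259925) k)) 272 = true := by decide +kernel
theorem s5c888 : allBelow (fun k => fs5 (Nat.add (Nat.succ 260197) k)) 288 = true := by decide +kernel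
theorem s5c889 : allBelow (fun k => fs5 (Nat.add (Nat.succ 260485) k)) 282 = true := by decide +kernel
theorem s5c890 : allBelow (fun k => fs5 (Nat.add (Nat.succ 260767) k)) 276 = true := by decide +kernel
theorem s5c891 : allBelow (fun k => fs5 (Nat.add (Nat.succ 261043) k)) 281 = true := by decide +kernel
theorem s5c892 : allBelow (fun k => fs5 (Nat.add (Nat.succ 261324) k)) 273 = true := by decide +kernel
theorem s5c893 : allBelow (fun k => fs5 (Nat.add (Nat.succ 261597) k)) 272 = true := by decide +kernel
theorem s5c894 : allBelow (fun k => fs5 (Nat.add (Nat.succ 261869) k)) 270 = true := by decide +kernel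
theorem s5c895 : allBelow (fun k => fs5 (Nat.add (Nat.succ 262139) k)) 257 = true := by decide +kernel
theorem s5c896 : allBelow (fun k => fs5 (Nat.add (Nat.succ 262396) k)) 289 = true := by decide +kernel
theorem s5c897 : allBelow (fun k => fs5 (Nat.add (Nat.succ 262685) k)) 285 = true := by decide +kernel
theorem s5c898 : allBelow (fun k => fs5 (Nat.add (Nat.succ 262970) k)) 264 = true := by decide +kernel
theorem s5c899 : allBelow (fun k => fs5 (Nat.add (Nat.succ 263234) k)) 283 = true := by decide +kernel
theorem s5c900 : allBelow (fun k => fs5 (Nat.add (Nat.succ 263517) k)) 279 = true := by decide +kernel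
theorem s5c901 : allBelow (fun k => fs5 (Nat.add (Nat.succ 263796) k)) 277 = true := by decide +kernel
theorem s5c902 : allBelow (fun k => fs5 (Nat.add (Nat.succ 264073) k)) 271 = true := by decide +kernel
theorem s5c903 : allBelow (fun k => fs5 (Nat.add (Nat.succ 264344) k)) 281 = true := by decide +kernel
theorem s5c904 : allBelow (fun k => fs5 (Nat.add (Nat.succ 264625) k)) 280 = true := by decide +kernel
theorem s5c905 : allBelow (fun k => fs5 (Nat.add (Nat.succ 264905) k)) 260 = true := by decide +kernel
theorem s5c906 : allBelow (fun k => fs5 (Nat.add (Nat.succ 265165) k)) 274 = true := by decide +kernel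
theorem s5c907 : allBelow (fun k => fs5 (Nat.add (Nat.succ 265439) k)) 280 = true := by decide +kernel
theorem s5c908 : allBelow (fun k => fs5 (Nat.add (Nat.succ 265719) k)) 292 = true := by decide +kernel
theorem s5c909 : allBelow (fun k => fs5 (Nat.add (Nat.succ 266011) k)) 289 = true := by decide +kernel
theorem s5c910 : allBelow (fun k => fs5 (Nat.add (Nat.succ 266300) k)) 284 = true := by decide +kernel
theorem s5c911 : allBelow (fun k => fs5 (Nat.add (Nat.succ 266584) k)) 285 = true := by decide +kernel
theorem s5c912 : allBelow (fun k => fs5 (Nat.add (Nat.succ 266869) k)) 286 = true := by decide +kernel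
theorem s5c913 : allBelow (fun k => fs5 (Nat.add (Nat.succ 267155) k)) 282 = true := by decide +kernel
theorem s5c914 : allBelow (fun k => fs5 (Nat.add (Nat.succ 267437) k)) 267 = true := by decide +kernel
theorem s5c915 : allBelow (fun k => fs5 (Nat.add (Nat.succ 267704) k)) 280 = true := by decide +kernel
theorem s5c916 : allBelow (fun k => fs5 (Nat.add (Nat.succ 267984) k)) 266 = true := by decide +kernel
theorem s5c917 : allBelow (fun k => fs5 (Nat.add (Nat.succ 268250) k)) 258 = true := by decide +kernel
theorem s5c918 : allBelow (fun k => fs5 (Nat.add (Nat.succ 268508) k)) 268 = true := by decide +kernel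
theorem s5c919 : allBelow (fun k => fs5 (Nat.add (Nat.succ 268776) k)) 263 = true := by decide +kernel
theorem s5c920 : allBelow (fun k => fs5 (Nat.add (Nat.succ 269039) k)) 285 = true := by decide +kernel
theorem s5c921 : allBelow (fun k => fs5 (Nat.add (Nat.succ 269324) k)) 296 = true := by decide +kernel
theorem s5c922 : allBelow (fun k => fs5 (Nat.add (Nat.succ 269620) k)) 292 = true := by decide +kernel
theorem s5c923 : allBelow (fun k => fs5 (Nat.add (Nat.succ 269912) k)) 306 = true := by decide +kernel
theorem s5c924 : allBelow (fun k => fs5 (Nat.add (Nat.succ 270218) k)) 278 = true := by decide +kernel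
theorem s5c925 : allBelow (fun k => fs5 (Nat.add (Nat.succ 270496) k)) 251 = true := by decide +kernel
theorem s5c926 : allBelow (fun k => fs5 (Nat.add (Nat.succ 270747) k)) 280 = true := by decide +kernel
theorem s5c927 : allBelow (fun k => fs5 (Nat.add (Nat.succ 271027) k)) 274 = true := by decide +kernel
theorem s5c928 : allBelow (fun k => fs5 (Nat.add (Nat.succ 271301) k)) 275 = true := by decide +kernel
theorem s5c929 : allBelow (fun k => fs5 (Nat.add (Nat.succ 271576) k)) 272 = true := by decide +kernel
theorem s5c930 : allBelow (fun k => fs5 (Nat.add (Nat.succ 271848) k)) 272 = true := by decide +kernel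
theorem s5c931 : allBelow (fun k => fs5 (Nat.add (Nat.succ 272120) k)) 275 = true := by decide +kernel
theorem s5c932 : allBelow (fun k => fs5 (Nat.add (Nat.succ 272395) k)) 270 = true := by decide +kernel
theorem s5c933 : allBelow (fun k => fs5 (Nat.add (Nat.succ 272665) k)) 265 = true := by decide +kernel
theorem s5c934 : allBelow (fun k => fs5 (Nat.add (Nat.succ 272930) k)) 270 = true := by decide +kernel
theorem s5c935 : allBelow (fun k => fs5 (Nat.add (Nat.succ 273200) k)) 275 = true := by decide +kernel
theorem s5c936 : allBelow (fun k => fs5 (Nat.add (Nat.succ 273475) k)) 269 = true := by decide +kernel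
theorem s5c937 : allBelow (fun k => fs5 (Nat.add (Nat.succ 273744) k)) 268 = true := by decide +kernel
theorem s5c938 : allBelow (fun k => fs5 (Nat.add (Nat.succ 274012) k)) 255 = true := by decide +kernel
theorem s5c939 : allBelow (fun k => fs5 (Nat.add (Nat.succ 274267) k)) 260 = true := by decide +kernel
theorem s5c940 : allBelow (fun k => fs5 (Nat.add (Nat.succ 274527) k)) 258 = true := by decide +kernel
theorem s5c941 : allBelow (fun k => fs5 (Nat.add (Nat.succ 274785) k)) 270 = true := by decide +kernel
theorem s5c942 : allBelow (fun k => fs5 (Nat.add (Nat.succ 275055) k)) 262 = true := by decide +kernel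
theorem s5c943 : allBelow (fun k => fs5 (Nat.add (Nat.succ 275317) k)) 264 = true := by decide +kernel
theorem s5c944 : allBelow (fun k => fs5 (Nat.add (Nat.succ 275581) k)) 277 = true := by decide +kernel
theorem s5c945 : allBelow (fun k => fs5 (Nat.add (Nat.succ 275858) k)) 275 = true := by decide +kernel
theorem s5c946 : allBelow (fun k => fs5 (Nat.add (Nat.succ 276133) k)) 265 = true := by decide +kernel
theorem s5c947 : allBelow (fun k => fs5 (Nat.add (Nat.succ 276398) k)) 276 = true := by decide +kernel
theorem s5c948 : allBelow (fun k => fs5 (Nat.add (Nat.succ 276674) k)) 269 = true := by decide +kernel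
theorem s5c949 : allBelow (fun k => fs5 (Nat.add (Nat.succ 276943) k)) 252 = true := by decide +kernel
theorem s5c950 : allBelow (fun k => fs5 (Nat.add (Nat.succ 277195) k)) 245 = true := by decide +kernel
theorem s5c951 : allBelow (fun k => fs5 (Nat.add (Nat.succ 277440) k)) 285 = true := by decide +kernel
theorem s5c952 : allBelow (fun k => fs5 (Nat.add (Nat.succ 277725) k)) 268 = true := by decide +kernel
theorem s5c953 : allBelow (fun k => fs5 (Nat.add (Nat.succ 277993) k)) 267 = true := by decide +kernel
theorem s5c954 : allBelow (fun k => fs5 (Nat.add (Nat.succ 278260) k)) 264 = true := by decide +kernel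
theorem s5c955 : allBelow (fun k => fs5 (Nat.add (Nat.succ 278524) k)) 255 = true := by decide +kernel
theorem s5c956 : allBelow (fun k => fs5 (Nat.add (Nat.succ 278779) k)) 269 = true := by decide +kernel
theorem s5c957 : allBelow (fun k => fs5 (Nat.add (Nat.succ 279048) k)) 275 = true := by decide +kernel
theorem s5c958 : allBelow (fun k => fs5 (Nat.add (Nat.succ 279323) k)) 274 = true := by decide +kernel
theorem s5c959 : allBelow (fun k => fs5 (Nat.add (Nat.succ 279597) k)) 278 = true := by decide +kernel
theorem s5c960 : allBelow (fun k => fs5 (Nat.add (Nat.succ 279875) k)) 257 = true := by decide +kernel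
theorem s5c961 : allBelow (fun k => fs5 (Nat.add (Nat.succ 280132) k)) 272 = true := by decide +kernel
theorem s5c962 : allBelow (fun k => fs5 (Nat.add (Nat.succ 280404) k)) 266 = true := by decide +kernel
theorem s5c963 : allBelow (fun k => fs5 (Nat.add (Nat.succ 280670) k)) 257 = true := by decide +kernel
theorem s5c964 : allBelow (fun k => fs5 (Nat.add (Nat.succ 280927) k)) 261 = true := by decide +kernel
theorem s5c965 : allBelow (fun k => fs5 (Nat.add (Nat.succ 281188) k)) 279 = true := by decide +kernel
theorem s5c966 : allBelow (fun k => fs5 (Nat.add (Nat.succ 281467) k)) 285 = true := by decide +kernel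
theorem s5c967 : allBelow (fun k => fs5 (Nat.add (Nat.succ 281752) k)) 276 = true := by decide +kernel
theorem s5c968 : allBelow (fun k => fs5 (Nat.add (Nat.succ 282028) k)) 283 = true := by decide +kernel
theorem s5c969 : allBelow (fun k => fs5 (Nat.add (Nat.succ 282311) k)) 228 = true := by decide +kernel
theorem s5c970 : allBelow (fun k => fs5 (Nat.add (Nat.succ 282539) k)) 254 = true := by decide +kernel
theorem s5c971 : allBelow (fun k => fs5 (Nat.add (Nat.succ 282793) k)) 263 = true := by decide +kernel
theorem s5c972 : allBelow (fun k => fs5 (Nat.add (Nat.succ 283056) k)) 264 = true := by decide +kernel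
theorem s5c973 : allBelow (fun k => fs5 (Nat.add (Nat.succ 283320) k)) 275 = true := by decide +kernel
theorem s5c974 : allBelow (fun k => fs5 (Nat.add (Nat.succ 283595) k)) 260 = true := by decide +kernel
theorem s5c975 : allBelow (fun k => fs5 (Nat.add (Nat.succ 283855) k)) 258 = true := by decide +kernel
theorem s5c976 : allBelow (fun k => fs5 (Nat.add (Nat.succ 284113) k)) 254 = true := by decide +kernel
theorem s5c977 : allBelow (fun k => fs5 (Nat.add (Nat.succ 284367) k)) 256 = true := by decide +kernel
theorem s5c978 : allBelow (fun k => fs5 (Nat.add (Nat.succ 284623) k)) 271 = true := by decide +kernel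
theorem s5c979 : allBelow (fun k => fs5 (Nat.add (Nat.succ 284894) k)) 259 = true := by decide +kernel
theorem s5c980 : allBelow (fun k => fs5 (Nat.add (Nat.succ 285153) k)) 246 = true := by decide +kernel
theorem s5c981 : allBelow (fun k => fs5 (Nat.add (Nat.succ 285399) k)) 253 = true := by decide +kernel
theorem s5c982 : allBelow (fun k => fs5 (Nat.add (Nat.succ 285652) k)) 279 = true := by decide +kernel
theorem s5c983 : allBelow (fun k => fs5 (Nat.add (Nat.succ 285931) k)) 275 = true := by decide +kernel
theorem s5c984 : allBelow (fun k => fs5 (Nat.add (Nat.succ 286206) k)) 270 = true := by decide +kernel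
theorem s5c985 : allBelow (fun k => fs5 (Nat.add (Nat.succ 286476) k)) 256 = true := by decide +kernel
theorem s5c986 : allBelow (fun k => fs5 (Nat.add (Nat.succ 286732) k)) 278 = true := by decide +kernel
theorem s5c987 : allBelow (fun k => fs5 (Nat.add (Nat.succ 287010) k)) 273 = true := by decide +kernel
theorem s5c988 : allBelow (fun k => fs5 (Nat.add (Nat.succ 287283) k)) 256 = true := by decide +kernel
theorem s5c989 : allBelow (fun k => fs5 (Nat.add (Nat.succ 287539) k)) 258 = true := by decide +kernel
theorem s5c990 : allBelow (fun k => fs5 (Nat.add (Nat.succ 287797) k)) 243 = true := by decide +kernel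
theorem s5c991 : allBelow (fun k => fs5 (Nat.add (Nat.succ 288040) k)) 255 = true := by decide +kernel
theorem s5c992 : allBelow (fun k => fs5 (Nat.add (Nat.succ 288295) k)) 273 = true := by decide +kernel
theorem s5c993 : allBelow (fun k => fs5 (Nat.add (Nat.succ 288568) k)) 273 = true := by decide +kernel
theorem s5c994 : allBelow (fun k => fs5 (Nat.add (Nat.succ 288841) k)) 275 = true := by decide +kernel
theorem s5c995 : allBelow (fun k => fs5 (Nat.add (Nat.succ 289116) k)) 272 = true := by decide +kernel
theorem s5c996 : allBelow (fun k => fs5 (Nat.add (Nat.succ 289388) k)) 261 = true := by decide +kernel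
theorem s5c997 : allBelow (fun k => fs5 (Nat.add (Nat.succ 289649) k)) 264 = true := by decide +kernel
theorem s5c998 : allBelow (fun k => fs5 (Nat.add (Nat.succ 289913) k)) 254 = true := by decide +kernel
theorem s5c999 : allBelow (fun k => fs5 (Nat.add (Nat.succ 290167) k)) 254 = true := by decide +kernel
theorem s5c1000 : allBelow (fun k => fs5 (Nat.add (Nat.succ 290421) k)) 268 = true := by decide +kernel
theorem s5c1001 : allBelow (fun k => fs5 (Nat.add (Nat.succ 290689) k)) 247 = true := by decide +kernel
theorem s5c1002 : allBelow (fun k => fs5 (Nat.add (Nat.succ 290936) k)) 283 = true := by decide +kernel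
theorem s5c1003 : allBelow (fun k => fs5 (Nat.add (Nat.succ 291219) k)) 276 = true := by decide +kernel
theorem s5c1004 : allBelow (fun k => fs5 (Nat.add (Nat.succ 291495) k)) 290 = true := by decide +kernel
theorem s5c1005 : allBelow (fun k => fs5 (Nat.add (Nat.succ 291785) k)) 269 = true := by decide +kernel
theorem s5c1006 : allBelow (fun k => fs5 (Nat.add (Nat.succ 292054) k)) 272 = true := by decide +kernel
theorem s5c1007 : allBelow (fun k => fs5 (Nat.add (Nat.succ 292326) k)) 269 = true := by decide +kernel
theorem s5c1008 : allBelow (fun k => fs5 (Nat.add (Nat.succ 292595) k)) 259 = true := by decide +kernel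
theorem s5c1009 : allBelow (fun k => fs5 (Nat.add (Nat.succ 292854) k)) 255 = true := by decide +kernel
theorem s5c1010 : allBelow (fun k => fs5 (Nat.add (Nat.succ 293109) k)) 259 = true := by decide +kernel
theorem s5c1011 : allBelow (fun k => fs5 (Nat.add (Nat.succ 293368) k)) 269 = true := by decide +kernel
theorem s5c1012 : allBelow (fun k => fs5 (Nat.add (Nat.succ 293637) k)) 257 = true := by decide +kernel
theorem s5c1013 : allBelow (fun k => fs5 (Nat.add (Nat.succ 293894) k)) 254 = true := by decide +kernel
theorem s5c1014 : allBelow (fun k => fs5 (Nat.add (Nat.succ 294148) k)) 254 = true := by decide +kernel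
theorem s5c1015 : allBelow (fun k => fs5 (Nat.add (Nat.succ 294402) k)) 292 = true := by decide +kernel
theorem s5c1016 : allBelow (fun k => fs5 (Nat.add (Nat.succ 294694) k)) 283 = true := by decide +kernel
theorem s5c1017 : allBelow (fun k => fs5 (Nat.add (Nat.succ 294977) k)) 295 = true := by decide +kernel
theorem s5c1018 : allBelow (fun k => fs5 (Nat.add (Nat.succ 295272) k)) 288 = true := by decide +kernel
theorem s5c1019 : allBelow (fun k => fs5 (Nat.add (Nat.succ 295560) k)) 270 = true := by decide +kernel
theorem s5c1020 : allBelow (fun k => fs5 (Nat.add (Nat.succ 295830) k)) 290 = true := by decide +kernel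
theorem s5c1021 : allBelow (fun k => fs5 (Nat.add (Nat.succ 296120) k)) 263 = true := by decide +kernel
theorem s5c1022 : allBelow (fun k => fs5 (Nat.add (Nat.succ 296383) k)) 262 = true := by decide +kernel
theorem s5c1023 : allBelow (fun k => fs5 (Nat.add (Nat.succ 296645) k)) 255 = true := by decide +kernel

end Cfsg.Agent.Lib.Helper35.Fi24a
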