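import Cfsg.Agent.Lib.Helper35.Fi24a.Data

set_option Elab.async false

namespace Cfsg.Agent.Lib.Helper35.Fi24a

open Cfsg.Agent.Lib.Helper35

theorem s5c1024 : allBelow (fun k => fs5 (Nat.add (Nat.succ 296900) k)) 261 = true := by decide +kernel
theorem s5c1025 : allBelow (fun k => fs5 (Nat.add (Nat.succ 297161) k)) 265 = true := by decide +kernel
theorem s5c1026 : allBelow (fun k => fs5 (Nat.add (Nat.succ 297426) k)) 259 = true := by decide +kernel
theorem s5c1027 : allBelow (fun k => fs5 (Nat.add (Nat.succ 297685) k)) 265 = true := by decide +kernel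
theorem s5c1028 : allBelow (fun k => fs5 (Nat.add (Nat.succ 297950) k)) 251 = true := by decide +kernel
theorem s5c1029 : allBelow (fun k => fs5 (Nat.add (Nat.succ 298201) k)) 273 = true := by decide +kernel
theorem s5c1030 : allBelow (fun k => fs5 (Nat.add (Nat.succ 298474) k)) 263 = true := by decide +kernel
theorem s5c1031 : allBelow (fun k => fs5 (Nat.add (Nat.succ 298737) k)) 245 = true := by decide +kernel
theorem s5c1032 : allBelow (fun k => fs5 (Nat.add (Nat.succ 298982) k)) 259 = true := by decide +kernel
theorem s5c1033 : allBelow (fun k => fs5 (Nat.add (Nat.succ 299241) k)) 233 = true := by decide +kernel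
theorem s5c1034 : allBelow (fun k => fs5 (Nat.add (Nat.succ 299474) k)) 250 = true := by decide +kernel
theorem s5c1035 : allBelow (fun k => fs5 (Nat.add (Nat.succ 299724) k)) 249 = true := by decide +kernel
theorem s5c1036 : allBelow (fun k => fs5 (Nat.add (Nat.succ 299973) k)) 240 = true := by decide +kernel
theorem s5c1037 : allBelow (fun k => fs5 (Nat.add (Nat.succ 300213) k)) 243 = true := by decide +kernel
theorem s5c1038 : allBelow (fun k => fs5 (Nat.add (Nat.succ 300456) k)) 263 = true := by decide +kernel
theorem s5c1039 : allBelow (fun k => fs5 (Nat.add (Nat.succ 300719) k)) 268 = true := by decide +kernel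
theorem s5c1040 : allBelow (fun k => fs5 (Nat.add (Nat.succ 300987) k)) 269 = true := by decide +kernel
theorem s5c1041 : allBelow (fun k => fs5 (Nat.add (Nat.succ 301256) k)) 244 = true := by decide +kernel
theorem s5c1042 : allBelow (fun k => fs5 (Nat.add (Nat.succ 301500) k)) 270 = true := by decide +kernel
theorem s5c1043 : allBelow (fun k => fs5 (Nat.add (Nat.succ 301770) k)) 260 = true := by decide +kernel
theorem s5c1044 : allBelow (fun k => fs5 (Nat.add (Nat.succ 302030) k)) 245 = true := by decide +kernel
theorem s5c1045 : allBelow (fun k => fs5 (Nat.add (Nat.succ 302275) k)) 234 = true := by decide +kernel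
theorem s5c1046 : allBelow (fun k => fs5 (Nat.add (Nat.succ 302509) k)) 266 = true := by decide +kernel
theorem s5c1047 : allBelow (fun k => fs5 (Nat.add (Nat.succ 302775) k)) 268 = true := by decide +kernel
theorem s5c1048 : allBelow (fun k => fs5 (Nat.add (Nat.succ 303043) k)) 253 = true := by decide +kernel
theorem s5c1049 : allBelow (fun k => fs5 (Nat.add (Nat.succ 303296) k)) 206 = true := by decide +kernel
theorem s5c1050 : allBelow (fun k => fs5 (Nat.add (Nat.succ 303502) k)) 247 = true := by decide +kernel
theorem s5c1051 : allBelow (fun k => fs5 (Nat.add (Nat.succ 303749) k)) 267 = true := by decide +kernel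
theorem s5c1052 : allBelow (fun k => fs5 (Nat.add (Nat.succ 304016) k)) 255 = true := by decide +kernel
theorem s5c1053 : allBelow (fun k => fs5 (Nat.add (Nat.succ 304271) k)) 262 = true := by decide +kernel
theorem s5c1054 : allBelow (fun k => fs5 (Nat.add (Nat.succ 304533) k)) 250 = true := by decide +kernel
theorem s5c1055 : allBelow (fun k => fs5 (Nat.add (Nat.succ 304783) k)) 240 = true := by decide +kernel
theorem s5c1056 : allBelow (fun k => fs5 (Nat.add (Nat.succ 305023) k)) 247 = true := by decide +kernel
theorem s5c1057 : allBelow (fun k => fs5 (Nat.add (Nat.succ 305270) k)) 246 = true := by decide +kernel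
theorem s5c1058 : allBelow (fun k => fs5 (Nat.add (Nat.succ 305516) k)) 244 = true := by decide +kernel
theorem s5c1059 : allBelow (fun k => fs5 (Nat.add (Nat.succ 305760) k)) 261 = true := by decide +kernel
theorem s5c1060 : allBelow (fun k => fs5 (Nat.add (Nat.succ 306021) k)) 277 = true := by decide +kernel
theorem s5c1061 : allBelow (fun k => fs5 (Nat.add (Nat.succ 306298) k)) 271 = true := by decide +kernel
theorem s5c1062 : allBelow (fun k => fs5 (Nat.add (Nat.succ 306569) k)) 281 = true := by decide +kernel
theorem s5c1063 : allBelow (fun k => fs5 (Nat.add (Nat.succ 306850) k)) 257 = true := by decide +kernel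
theorem s5c1064 : allBelow (fun k => fs5 (Nat.add (Nat.succ 307107) k)) 260 = true := by decide +kernel
theorem s5c1065 : allBelow (fun k => fs5 (Nat.add (Nat.succ 307367) k)) 263 = true := by decide +kernel
theorem s5c1066 : allBelow (fun k => fs5 (Nat.add (Nat.succ 307630) k)) 255 = true := by decide +kernel
theorem s5c1067 : allBelow (fun k => fs5 (Nat.add (Nat.succ 307885) k)) 254 = true := by decide +kernel
theorem s5c1068 : allBelow (fun k => fs5 (Nat.add (Nat.succ 308139) k)) 239 = true := by decide +kernel
theorem s5c1069 : allBelow (fun k => fs5 (Nat.add (Nat.succ 308378) k)) 246 = true := by decide +kernel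
theorem s5c1070 : allBelow (fun k => fs5 (Nat.add (Nat.succ 308624) k)) 251 = true := by decide +kernel
theorem s5c1071 : allBelow (fun k => fs5 (Nat.add (Nat.succ 308875) k)) 261 = true := by decide +kernel
theorem s5c1072 : allBelow (fun k => fs5 (Nat.add (Nat.succ 309136) k)) 253 = true := by decide +kernel
theorem s5c1073 : allBelow (fun k => fs5 (Nat.add (Nat.succ 309389) k)) 232 = true := by decide +kernel
theorem s5c1074 : allBelow (fun k => fs5 (Nat.add (Nat.succ 309621) k)) 244 = true := by decide +kernel
theorem s5c1075 : allBelow (fun k => fs5 (Nat.add (Nat.succ 309865) k)) 259 = true := by decide +kernel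
theorem s5c1076 : allBelow (fun k => fs5 (Nat.add (Nat.succ 310124) k)) 261 = true := by decide +kernel
theorem s5c1077 : allBelow (fun k => fs5 (Nat.add (Nat.succ 310385) k)) 255 = true := by decide +kernel
theorem s5c1078 : allBelow (fun k => fs5 (Nat.add (Nat.succ 310640) k)) 243 = true := by decide +kernel
theorem s5c1079 : allBelow (fun k => fs5 (Nat.add (Nat.succ 310883) k)) 267 = true := by decide +kernel
theorem s5c1080 : allBelow (fun k => fs5 (Nat.add (Nat.succ 311150) k)) 252 = true := by decide +kernel
theorem s5c1081 : allBelow (fun k => fs5 (Nat.add (Nat.succ 311402) k)) 248 = true := by decide +kernel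
theorem s5c1082 : allBelow (fun k => fs5 (Nat.add (Nat.succ 311650) k)) 250 = true := by decide +kernel
theorem s5c1083 : allBelow (fun k => fs5 (Nat.add (Nat.succ 311900) k)) 246 = true := by decide +kernel
theorem s5c1084 : allBelow (fun k => fs5 (Nat.add (Nat.succ 312146) k)) 250 = true := by decide +kernel
theorem s5c1085 : allBelow (fun k => fs5 (Nat.add (Nat.succ 312396) k)) 250 = true := by decide +kernel
theorem s5c1086 : allBelow (fun k => fs5 (Nat.add (Nat.succ 312646) k)) 277 = true := by decide +kernel
theorem s5c1087 : allBelow (fun k => fs5 (Nat.add (Nat.succ 312923) k)) 254 = true := by decide +kernel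
theorem s5c1088 : allBelow (fun k => fs5 (Nat.add (Nat.succ 313177) k)) 246 = true := by decide +kernel
theorem s5c1089 : allBelow (fun k => fs5 (Nat.add (Nat.succ 313423) k)) 251 = true := by decide +kernel
theorem s5c1090 : allBelow (fun k => fs5 (Nat.add (Nat.succ 313674) k)) 255 = true := by decide +kernel
theorem s5c1091 : allBelow (fun k => fs5 (Nat.add (Nat.succ 313929) k)) 260 = true := by decide +kernel
theorem s5c1092 : allBelow (fun k => fs5 (Nat.add (Nat.succ 314189) k)) 258 = true := by decide +kernel
theorem s5c1093 : allBelow (fun k => fs5 (Nat.add (Nat.succ 314447) k)) 266 = true := by decide +kernel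
theorem s5c1094 : allBelow (fun k => fs5 (Nat.add (Nat.succ 314713) k)) 267 = true := by decide +kernel
theorem s5c1095 : allBelow (fun k => fs5 (Nat.add (Nat.succ 314980) k)) 260 = true := by decide +kernel
theorem s5c1096 : allBelow (fun k => fs5 (Nat.add (Nat.succ 315240) k)) 252 = true := by decide +kernel
theorem s5c1097 : allBelow (fun k => fs5 (Nat.add (Nat.succ 315492) k)) 258 = true := by decide +kernel
theorem s5c1098 : allBelow (fun k => fs5 (Nat.add (Nat.succ 315750) k)) 241 = true := by decide +kernel
theorem s5c1099 : allBelow (fun k => fs5 (Nat.add (Nat.succ 315991) k)) 255 = true := by decide +kernel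
theorem s5c1100 : allBelow (fun k => fs5 (Nat.add (Nat.succ 316246) k)) 261 = true := by decide +kernel
theorem s5c1101 : allBelow (fun k => fs5 (Nat.add (Nat.succ 316507) k)) 249 = true := by decide +kernel
theorem s5c1102 : allBelow (fun k => fs5 (Nat.add (Nat.succ 316756) k)) 246 = true := by decide +kernel
theorem s5c1103 : allBelow (fun k => fs5 (Nat.add (Nat.succ 317002) k)) 280 = true := by decide +kernel
theorem s5c1104 : allBelow (fun k => fs5 (Nat.add (Nat.succ 317282) k)) 266 = true := by decide +kernel
theorem s5c1105 : allBelow (fun k => fs5 (Nat.add (Nat.succ 317548) k)) 270 = true := by decide +kernel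
theorem s5c1106 : allBelow (fun k => fs5 (Nat.add (Nat.succ 317818) k)) 270 = true := by decide +kernel
theorem s5c1107 : allBelow (fun k => fs5 (Nat.add (Nat.succ 318088) k)) 273 = true := by decide +kernel
theorem s5c1108 : allBelow (fun k => fs5 (Nat.add (Nat.succ 318361) k)) 241 = true := by decide +kernel
theorem s5c1109 : allBelow (fun k => fs5 (Nat.add (Nat.succ 318602) k)) 244 = true := by decide +kernel
theorem s5c1110 : allBelow (fun k => fs5 (Nat.add (Nat.succ 318846) k)) 259 = true := by decide +kernel
theorem s5c1111 : allBelow (fun k => fs5 (Nat.add (Nat.succ 319105) k)) 250 = true := by decide +kernel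
theorem s5c1112 : allBelow (fun k => fs5 (Nat.add (Nat.succ 319355) k)) 261 = true := by decide +kernel
theorem s5c1113 : allBelow (fun k => fs5 (Nat.add (Nat.succ 319616) k)) 239 = true := by decide +kernel
theorem s5c1114 : allBelow (fun k => fs5 (Nat.add (Nat.succ 319855) k)) 246 = true := by decide +kernel
theorem s5c1115 : allBelow (fun k => fs5 (Nat.add (Nat.succ 320101) k)) 245 = true := by decide +kernel
theorem s5c1116 : allBelow (fun k => fs5 (Nat.add (Nat.succ 320346) k)) 243 = true := by decide +kernel
theorem s5c1117 : allBelow (fun k => fs5 (Nat.add (Nat.succ 320589) k)) 241 = true := by decide +kernel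
theorem s5c1118 : allBelow (fun k => fs5 (Nat.add (Nat.succ 320830) k)) 244 = true := by decide +kernel
theorem s5c1119 : allBelow (fun k => fs5 (Nat.add (Nat.succ 321074) k)) 226 = true := by decide +kernel
theorem s5c1120 : allBelow (fun k => fs5 (Nat.add (Nat.succ 321300) k)) 227 = true := by decide +kernel
theorem s5c1121 : allBelow (fun k => fs5 (Nat.add (Nat.succ 321527) k)) 251 = true := by decide +kernel
theorem s5c1122 : allBelow (fun k => fs5 (Nat.add (Nat.succ 321778) k)) 233 = true := by decide +kernel
theorem s5c1123 : allBelow (fun k => fs5 (Nat.add (Nat.succ 322011) k)) 225 = true := by decide +kernel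
theorem s5c1124 : allBelow (fun k => fs5 (Nat.add (Nat.succ 322236) k)) 242 = true := by decide +kernel
theorem s5c1125 : allBelow (fun k => fs5 (Nat.add (Nat.succ 322478) k)) 238 = true := by decide +kernel
theorem s5c1126 : allBelow (fun k => fs5 (Nat.add (Nat.succ 322716) k)) 267 = true := by decide +kernel
theorem s5c1127 : allBelow (fun k => fs5 (Nat.add (Nat.succ 322983) k)) 236 = true := by decide +kernel
theorem s5c1128 : allBelow (fun k => fs5 (Nat.add (Nat.succ 323219) k)) 249 = true := by decide +kernel
theorem s5c1129 : allBelow (fun k => fs5 (Nat.add (Nat.succ 323468) k)) 247 = true := by decide +kernel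
theorem s5c1130 : allBelow (fun k => fs5 (Nat.add (Nat.succ 323715) k)) 238 = true := by decide +kernel
theorem s5c1131 : allBelow (fun k => fs5 (Nat.add (Nat.succ 323953) k)) 241 = true := by decide +kernel
theorem s5c1132 : allBelow (fun k => fs5 (Nat.add (Nat.succ 324194) k)) 244 = true := by decide +kernel
theorem s5c1133 : allBelow (fun k => fs5 (Nat.add (Nat.succ 324438) k)) 254 = true := by decide +kernel
theorem s5c1134 : allBelow (fun k => fs5 (Nat.add (Nat.succ 324692) k)) 230 = true := by decide +kernel
theorem s5c1135 : allBelow (fun k => fs5 (Nat.add (Nat.succ 324922) k)) 252 = true := by decide +kernel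
theorem s5c1136 : allBelow (fun k => fs5 (Nat.add (Nat.succ 325174) k)) 235 = true := by decide +kernel
theorem s5c1137 : allBelow (fun k => fs5 (Nat.add (Nat.succ 325409) k)) 242 = true := by decide +kernel
theorem s5c1138 : allBelow (fun k => fs5 (Nat.add (Nat.succ 325651) k)) 239 = true := by decide +kernel
theorem s5c1139 : allBelow (fun k => fs5 (Nat.add (Nat.succ 325890) k)) 234 = true := by decide +kernel
theorem s5c1140 : allBelow (fun k => fs5 (Nat.add (Nat.succ 326124) k)) 231 = true := by decide +kernel
theorem s5c1141 : allBelow (fun k => fs5 (Nat.add (Nat.succ 326355) k)) 233 = true := by decide +kernel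
theorem s5c1142 : allBelow (fun k => fs5 (Nat.add (Nat.succ 326588) k)) 271 = true := by decide +kernel
theorem s5c1143 : allBelow (fun k => fs5 (Nat.add (Nat.succ 326859) k)) 240 = true := by decide +kernel
theorem s5c1144 : allBelow (fun k => fs5 (Nat.add (Nat.succ 327099) k)) 268 = true := by decide +kernel
theorem s5c1145 : allBelow (fun k => fs5 (Nat.add (Nat.succ 327367) k)) 264 = true := by decide +kernel
theorem s5c1146 : allBelow (fun k => fs5 (Nat.add (Nat.succ 327631) k)) 260 = true := by decide +kernel
theorem s5c1147 : allBelow (fun k => fs5 (Nat.add (Nat.succ 327891) k)) 272 = true := by decide +kernel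
theorem s5c1148 : allBelow (fun k => fs5 (Nat.add (Nat.succ 328163) k)) 255 = true := by decide +kernel
theorem s5c1149 : allBelow (fun k => fs5 (Nat.add (Nat.succ 328418) k)) 247 = true := by decide +kernel
theorem s5c1150 : allBelow (fun k => fs5 (Nat.add (Nat.succ 328665) k)) 247 = true := by decide +kernel
theorem s5c1151 : allBelow (fun k => fs5 (Nat.add (Nat.succ 328912) k)) 250 = true := by decide +kernel
theorem s5c1152 : allBelow (fun k => fs5 (Nat.add (Nat.succ 329162) k)) 245 = true := by decide +kernel
theorem s5c1153 : allBelow (fun k => fs5 (Nat.add (Nat.succ 329407) k)) 249 = true := by decide +kernel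
theorem s5c1154 : allBelow (fun k => fs5 (Nat.add (Nat.succ 329656) k)) 237 = true := by decide +kernel
theorem s5c1155 : allBelow (fun k => fs5 (Nat.add (Nat.succ 329893) k)) 249 = true := by decide +kernel
theorem s5c1156 : allBelow (fun k => fs5 (Nat.add (Nat.succ 330142) k)) 244 = true := by decide +kernel
theorem s5c1157 : allBelow (fun k => fs5 (Nat.add (Nat.succ 330386) k)) 244 = true := by decide +kernel
theorem s5c1158 : allBelow (fun k => fs5 (Nat.add (Nat.succ 330630) k)) 199 = true := by decide +kernel
theorem s5c1159 : allBelow (fun k => fs5 (Nat.add (Nat.succ 330829) k)) 256 = true := by decide +kernel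
theorem s5c1160 : allBelow (fun k => fs5 (Nat.add (Nat.succ 331085) k)) 249 = true := by decide +kernel
theorem s5c1161 : allBelow (fun k => fs5 (Nat.add (Nat.succ 331334) k)) 254 = true := by decide +kernel
theorem s5c1162 : allBelow (fun k => fs5 (Nat.add (Nat.succ 331588) k)) 238 = true := by decide +kernel
theorem s5c1163 : allBelow (fun k => fs5 (Nat.add (Nat.succ 331826) k)) 261 = true := by decide +kernel
theorem s5c1164 : allBelow (fun k => fs5 (Nat.add (Nat.succ 332087) k)) 241 = true := by decide +kernel
theorem s5c1165 : allBelow (fun k => fs5 (Nat.add (Nat.succ 332328) k)) 247 = true := by decide +kernel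
theorem s5c1166 : allBelow (fun k => fs5 (Nat.add (Nat.succ 332575) k)) 242 = true := by decide +kernel
theorem s5c1167 : allBelow (fun k => fs5 (Nat.add (Nat.succ 332817) k)) 252 = true := by decide +kernel
theorem s5c1168 : allBelow (fun k => fs5 (Nat.add (Nat.succ 333069) k)) 249 = true := by decide +kernel
theorem s5c1169 : allBelow (fun k => fs5 (Nat.add (Nat.succ 333318) k)) 245 = true := by decide +kernel
theorem s5c1170 : allBelow (fun k => fs5 (Nat.add (Nat.succ 333563) k)) 243 = true := by decide +kernel
theorem s5c1171 : allBelow (fun k => fs5 (Nat.add (Nat.succ 333806) k)) 248 = true := by decide +kernel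
theorem s5c1172 : allBelow (fun k => fs5 (Nat.add (Nat.succ 334054) k)) 249 = true := by decide +kernel
theorem s5c1173 : allBelow (fun k => fs5 (Nat.add (Nat.succ 334303) k)) 260 = true := by decide +kernel
theorem s5c1174 : allBelow (fun k => fs5 (Nat.add (Nat.succ 334563) k)) 250 = true := by decide +kernel
theorem s5c1175 : allBelow (fun k => fs5 (Nat.add (Nat.succ 334813) k)) 250 = true := by decide +kernel
theorem s5c1176 : allBelow (fun k => fs5 (Nat.add (Nat.succ 335063) k)) 259 = true := by decide +kernel
theorem s5c1177 : allBelow (fun k => fs5 (Nat.add (Nat.succ 335322) k)) 255 = true := by decide +kernel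
theorem s5c1178 : allBelow (fun k => fs5 (Nat.add (Nat.succ 335577) k)) 239 = true := by decide +kernel
theorem s5c1179 : allBelow (fun k => fs5 (Nat.add (Nat.succ 335816) k)) 260 = true := by decide +kernel
theorem s5c1180 : allBelow (fun k => fs5 (Nat.add (Nat.succ 336076) k)) 276 = true := by decide +kernel
theorem s5c1181 : allBelow (fun k => fs5 (Nat.add (Nat.succ 336352) k)) 244 = true := by decide +kernel
theorem s5c1182 : allBelow (fun k => fs5 (Nat.add (Nat.succ 336596) k)) 237 = true := by decide +kernel
theorem s5c1183 : allBelow (fun k => fs5 (Nat.add (Nat.succ 336833) k)) 252 = true := by decide +kernel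
theorem s5c1184 : allBelow (fun k => fs5 (Nat.add (Nat.succ 337085) k)) 236 = true := by decide +kernel
theorem s5c1185 : allBelow (fun k => fs5 (Nat.add (Nat.succ 337321) k)) 220 = true := by decide +kernel
theorem s5c1186 : allBelow (fun k => fs5 (Nat.add (Nat.succ 337541) k)) 237 = true := by decide +kernel
theorem s5c1187 : allBelow (fun k => fs5 (Nat.add (Nat.succ 337778) k)) 241 = true := by decide +kernel
theorem s5c1188 : allBelow (fun k => fs5 (Nat.add (Nat.succ 338019) k)) 240 = true := by decide +kernel
theorem s5c1189 : allBelow (fun k => fs5 (Nat.add (Nat.succ 338259) k)) 232 = true := by decide +kernel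
theorem s5c1190 : allBelow (fun k => fs5 (Nat.add (Nat.succ 338491) k)) 221 = true := by decide +kernel
theorem s5c1191 : allBelow (fun k => fs5 (Nat.add (Nat.succ 338712) k)) 235 = true := by decide +kernel
theorem s5c1192 : allBelow (fun k => fs5 (Nat.add (Nat.succ 338947) k)) 237 = true := by decide +kernel
theorem s5c1193 : allBelow (fun k => fs5 (Nat.add (Nat.succ 339184) k)) 235 = true := by decide +kernel
theorem s5c1194 : allBelow (fun k => fs5 (Nat.add (Nat.succ 339419) k)) 252 = true := by decide +kernel
theorem s5c1195 : allBelow (fun k => fs5 (Nat.add (Nat.succ 339671) k)) 241 = true := by decide +kernel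
theorem s5c1196 : allBelow (fun k => fs5 (Nat.add (Nat.succ 339912) k)) 214 = true := by decide +kernel
theorem s5c1197 : allBelow (fun k => fs5 (Nat.add (Nat.succ 340126) k)) 244 = true := by decide +kernel
theorem s5c1198 : allBelow (fun k => fs5 (Nat.add (Nat.succ 340370) k)) 245 = true := by decide +kernel
theorem s5c1199 : allBelow (fun k => fs5 (Nat.add (Nat.succ 340615) k)) 243 = true := by decide +kernel
theorem s5c1200 : allBelow (fun k => fs5 (Nat.add (Nat.succ 340858) k)) 252 = true := by decide +kernel
theorem s5c1201 : allBelow (fun k => fs5 (Nat.add (Nat.succ 341110) k)) 246 = true := by decide +kernel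
theorem s5c1202 : allBelow (fun k => fs5 (Nat.add (Nat.succ 341356) k)) 241 = true := by decide +kernel
theorem s5c1203 : allBelow (fun k => fs5 (Nat.add (Nat.succ 341597) k)) 248 = true := by decide +kernel
theorem s5c1204 : allBelow (fun k => fs5 (Nat.add (Nat.succ 341845) k)) 256 = true := by decide +kernel
theorem s5c1205 : allBelow (fun k => fs5 (Nat.add (Nat.succ 342101) k)) 262 = true := by decide +kernel
theorem s5c1206 : allBelow (fun k => fs5 (Nat.add (Nat.succ 342363) k)) 251 = true := by decide +kernel
theorem s5c1207 : allBelow (fun k => fs5 (Nat.add (Nat.succ 342614) k)) 239 = true := by decide +kernel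
theorem s5c1208 : allBelow (fun k => fs5 (Nat.add (Nat.succ 342853) k)) 241 = true := by decide +kernel
theorem s5c1209 : allBelow (fun k => fs5 (Nat.add (Nat.succ 343094) k)) 242 = true := by decide +kernel
theorem s5c1210 : allBelow (fun k => fs5 (Nat.add (Nat.succ 343336) k)) 235 = true := by decide +kernel
theorem s5c1211 : allBelow (fun k => fs5 (Nat.add (Nat.succ 343571) k)) 248 = true := by decide +kernel
theorem s5c1212 : allBelow (fun k => fs5 (Nat.add (Nat.succ 343819) k)) 245 = true := by decide +kernel
theorem s5c1213 : allBelow (fun k => fs5 (Nat.add (Nat.succ 344064) k)) 241 = true := by decide +kernel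
theorem s5c1214 : allBelow (fun k => fs5 (Nat.add (Nat.succ 344305) k)) 240 = true := by decide +kernel
theorem s5c1215 : allBelow (fun k => fs5 (Nat.add (Nat.succ 344545) k)) 248 = true := by decide +kernel
theorem s5c1216 : allBelow (fun k => fs5 (Nat.add (Nat.succ 344793) k)) 236 = true := by decide +kernel
theorem s5c1217 : allBelow (fun k => fs5 (Nat.add (Nat.succ 345029) k)) 211 = true := by decide +kernel
theorem s5c1218 : allBelow (fun k => fs5 (Nat.add (Nat.succ 345240) k)) 237 = true := by decide +kernel
theorem s5c1219 : allBelow (fun k => fs5 (Nat.add (Nat.succ 345477) k)) 251 = true := by decide +kernel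
theorem s5c1220 : allBelow (fun k => fs5 (Nat.add (Nat.succ 345728) k)) 249 = true := by decide +kernel
theorem s5c1221 : allBelow (fun k => fs5 (Nat.add (Nat.succ 345977) k)) 241 = true := by decide +kernel
theorem s5c1222 : allBelow (fun k => fs5 (Nat.add (Nat.succ 346218) k)) 253 = true := by decide +kernel
theorem s5c1223 : allBelow (fun k => fs5 (Nat.add (Nat.succ 346471) k)) 260 = true := by decide +kernel
theorem s5c1224 : allBelow (fun k => fs5 (Nat.add (Nat.succ 346731) k)) 273 = true := by decide +kernel
theorem s5c1225 : allBelow (fun k => fs5 (Nat.add (Nat.succ 347004) k)) 266 = true := by decide +kernel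
theorem s5c1226 : allBelow (fun k => fs5 (Nat.add (Nat.succ 347270) k)) 231 = true := by decide +kernel
theorem s5c1227 : allBelow (fun k => fs5 (Nat.add (Nat.succ 347501) k)) 238 = true := by decide +kernel
theorem s5c1228 : allBelow (fun k => fs5 (Nat.add (Nat.succ 347739) k)) 197 = true := by decide +kernel
theorem s5c1229 : allBelow (fun k => fs5 (Nat.add (Nat.succ 347936) k)) 237 = true := by decide +kernel
theorem s5c1230 : allBelow (fun k => fs5 (Nat.add (Nat.succ 348173) k)) 247 = true := by decide +kernel
theorem s5c1231 : allBelow (fun k => fs5 (Nat.add (Nat.succ 348420) k)) 233 = true := by decide +kernel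
theorem s5c1232 : allBelow (fun k => fs5 (Nat.add (Nat.succ 348653) k)) 239 = true := by decide +kernel
theorem s5c1233 : allBelow (fun k => fs5 (Nat.add (Nat.succ 348892) k)) 250 = true := by decide +kernel
theorem s5c1234 : allBelow (fun k => fs5 (Nat.add (Nat.succ 349142) k)) 245 = true := by decide +kernel
theorem s5c1235 : allBelow (fun k => fs5 (Nat.add (Nat.succ 349387) k)) 245 = true := by decide +kernel
theorem s5c1236 : allBelow (fun k => fs5 (Nat.add (Nat.succ 349632) k)) 251 = true := by decide +kernel
theorem s5c1237 : allBelow (fun k => fs5 (Nat.add (Nat.succ 349883) k)) 232 = true := by decide +kernel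
theorem s5c1238 : allBelow (fun k => fs5 (Nat.add (Nat.succ 350115) k)) 228 = true := by decide +kernel
theorem s5c1239 : allBelow (fun k => fs5 (Nat.add (Nat.succ 350343) k)) 252 = true := by decide +kernel
theorem s5c1240 : allBelow (fun k => fs5 (Nat.add (Nat.succ 350595) k)) 245 = true := by decide +kernel
theorem s5c1241 : allBelow (fun k => fs5 (Nat.add (Nat.succ 350840) k)) 233 = true := by decide +kernel
theorem s5c1242 : allBelow (fun k => fs5 (Nat.add (Nat.succ 351073) k)) 243 = true := by decide +kernel
theorem s5c1243 : allBelow (fun k => fs5 (Nat.add (Nat.succ 351316) k)) 246 = true := by decide +kernel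
theorem s5c1244 : allBelow (fun k => fs5 (Nat.add (Nat.succ 351562) k)) 234 = true := by decide +kernel
theorem s5c1245 : allBelow (fun k => fs5 (Nat.add (Nat.succ 351796) k)) 240 = true := by decide +kernel
theorem s5c1246 : allBelow (fun k => fs5 (Nat.add (Nat.succ 352036) k)) 244 = true := by decide +kernel
theorem s5c1247 : allBelow (fun k => fs5 (Nat.add (Nat.succ 352280) k)) 242 = true := by decide +kernel
theorem s5c1248 : allBelow (fun k => fs5 (Nat.add (Nat.succ 352522) k)) 219 = true := by decide +kernel
theorem s5c1249 : allBelow (fun k => fs5 (Nat.add (Nat.succ 352741) k)) 268 = true := by decide +kernel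
theorem s5c1250 : allBelow (fun k => fs5 (Nat.add (Nat.succ 353009) k)) 251 = true := by decide +kernel
theorem s5c1251 : allBelow (fun k => fs5 (Nat.add (Nat.succ 353260) k)) 190 = true := by decide +kernel
theorem s5c1252 : allBelow (fun k => fs5 (Nat.add (Nat.succ 353450) k)) 194 = true := by decide +kernel
theorem s5c1253 : allBelow (fun k => fs5 (Nat.add (Nat.succ 353644) k)) 230 = true := by decide +kernel
theorem s5c1254 : allBelow (fun k => fs5 (Nat.add (Nat.succ 353874) k)) 224 = true := by decide +kernel
theorem s5c1255 : allBelow (fun k => fs5 (Nat.add (Nat.succ 354098) k)) 227 = true := by decide +kernel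
theorem s5c1256 : allBelow (fun k => fs5 (Nat.add (Nat.succ 354325) k)) 229 = true := by decide +kernel
theorem s5c1257 : allBelow (fun k => fs5 (Nat.add (Nat.succ 354554) k)) 221 = true := by decide +kernel
theorem s5c1258 : allBelow (fun k => fs5 (Nat.add (Nat.succ 354775) k)) 253 = true := by decide +kernel
theorem s5c1259 : allBelow (fun k => fs5 (Nat.add (Nat.succ 355028) k)) 241 = true := by decide +kernel
theorem s5c1260 : allBelow (fun k => fs5 (Nat.add (Nat.succ 355269) k)) 226 = true := by decide +kernel
theorem s5c1261 : allBelow (fun k => fs5 (Nat.add (Nat.succ 355495) k)) 252 = true := by decide +kernel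
theorem s5c1262 : allBelow (fun k => fs5 (Nat.add (Nat.succ 355747) k)) 251 = true := by decide +kernel
theorem s5c1263 : allBelow (fun k => fs5 (Nat.add (Nat.succ 355998) k)) 185 = true := by decide +kernel
theorem s5c1264 : allBelow (fun k => fs5 (Nat.add (Nat.succ 356183) k)) 217 = true := by decide +kernel
theorem s5c1265 : allBelow (fun k => fs5 (Nat.add (Nat.succ 356400) k)) 229 = true := by decide +kernel
theorem s5c1266 : allBelow (fun k => fs5 (Nat.add (Nat.succ 356629) k)) 196 = true := by decide +kernel
theorem s5c1267 : allBelow (fun k => fs5 (Nat.add (Nat.succ 356825) k)) 223 = true := by decide +kernel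
theorem s5c1268 : allBelow (fun k => fs5 (Nat.add (Nat.succ 357048) k)) 196 = true := by decide +kernel
theorem s5c1269 : allBelow (fun k => fs5 (Nat.add (Nat.succ 357244) k)) 197 = true := by decide +kernel
theorem s5c1270 : allBelow (fun k => fs5 (Nat.add (Nat.succ 357441) k)) 24 = true := by decide +kernel
theorem s6c0 : allBelow (fun k => fs6 (Nat.add (Nat.succ 0) k)) 269 = true := by decide +kernel
theorem s6c1 : allBelow (fun k => fs6 (Nat.add (Nat.succ 269) k)) 279 = true := by decide +kernel
theorem s6c2 : allBelow (fun k => fs6 (Nat.add (Nat.succ 548) k)) 263 = true := by decide +kernel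
theorem s6c3 : allBelow (fun k => fs6 (Nat.add (Nat.succ 811) k)) 280 = true := by decide +kernel
theorem s6c4 : allBelow (fun k => fs6 (Nat.add (Nat.succ 1091) k)) 290 = true := by decide +kernel
theorem s6c5 : allBelow (fun k => fs6 (Nat.add (Nat.succ 1381) k)) 287 = true := by decide +kernel
theorem s6c6 : allBelow (fun k => fs6 (Nat.add (Nat.succ 1668) k)) 293 = true := by decide +kernel
theorem s6c7 : allBelow (fun k => fs6 (Nat.add (Nat.succ 1961) k)) 287 = true := by decide +kernel
theorem s6c8 : allBelow (fun k => fs6 (Nat.add (Nat.succ 2248) k)) 297 = true := by decide +kernel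
theorem s6c9 : allBelow (fun k => fs6 (Nat.add (Nat.succ 2545) k)) 299 = true := by decide +kernel
theorem s6c10 : allBelow (fun k => fs6 (Nat.add (Nat.succ 2844) k)) 295 = true := by decide +kernel
theorem s6c11 : allBelow (fun k => fs6 (Nat.add (Nat.succ 3139) k)) 306 = true := by decide +kernel
theorem s6c12 : allBelow (fun k => fs6 (Nat.add (Nat.succ 3445) k)) 300 = true := by decide +kernel
theorem s6c13 : allBelow (fun k => fs6 (Nat.add (Nat.succ 3745) k)) 296 = true := by decide +kernel
theorem s6c14 : allBelow (fun k => fs6 (Nat.add (Nat.succ 4041) k)) 293 = true := by decide +kernel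
theorem s6c15 : allBelow (fun k => fs6 (Nat.add (Nat.succ 4334) k)) 304 = true := by decide +kernel
theorem s6c16 : allBelow (fun k => fs6 (Nat.add (Nat.succ 4638) k)) 308 = true := by decide +kernel
theorem s6c17 : allBelow (fun k => fs6 (Nat.add (Nat.succ 4946) k)) 302 = true := by decide +kernel
theorem s6c18 : allBelow (fun k => fs6 (Nat.add (Nat.succ 5248) k)) 302 = true := by decide +kernel
theorem s6c19 : allBelow (fun k => fs6 (Nat.add (Nat.succ 5550) k)) 283 = true := by decide +kernel
theorem s6c20 : allBelow (fun k => fs6 (Nat.add (Nat.succ 5833) k)) 318 = true := by decide +kernel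
theorem s6c21 : allBelow (fun k => fs6 (Nat.add (Nat.succ 6151) k)) 278 = true := by decide +kernel
theorem s6c22 : allBelow (fun k => fs6 (Nat.add (Nat.succ 6429) k)) 297 = true := by decide +kernel
theorem s6c23 : allBelow (fun k => fs6 (Nat.add (Nat.succ 6726) k)) 339 = true := by decide +kernel
theorem s6c24 : allBelow (fun k => fs6 (Nat.add (Nat.succ 7065) k)) 297 = true := by decide +kernel
theorem s6c25 : allBelow (fun k => fs6 (Nat.add (Nat.succ 7362) k)) 310 = true := by decide +kernel
theorem s6c26 : allBelow (fun k => fs6 (Nat.add (Nat.succ 7672) k)) 280 = true := by decide +kernel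
theorem s6c27 : allBelow (fun k => fs6 (Nat.add (Nat.succ 7952) k)) 288 = true := by decide +kernel
theorem s6c28 : allBelow (fun k => fs6 (Nat.add (Nat.succ 8240) k)) 328 = true := by decide +kernel
theorem s6c29 : allBelow (fun k => fs6 (Nat.add (Nat.succ 8568) k)) 274 = true := by decide +kernel
theorem s6c30 : allBelow (fun k => fs6 (Nat.add (Nat.succ 8842) k)) 310 = true := by decide +kernel
theorem s6c31 : allBelow (fun k => fs6 (Nat.add (Nat.succ 9152) k)) 305 = true := by decide +kernel
theorem s6c32 : allBelow (fun k => fs6 (Nat.add (Nat.succ 9457) k)) 356 = true := by decide +kernel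
theorem s6c33 : allBelow (fun k => fs6 (Nat.add (Nat.succ 9813) k)) 280 = true := by decide +kernel
theorem s6c34 : allBelow (fun k => fs6 (Nat.add (Nat.succ 10093) k)) 295 = true := by decide +kernel
theorem s6c35 : allBelow (fun k => fs6 (Nat.add (Nat.succ 10388) k)) 271 = true := by decide +kernel
theorem s6c36 : allBelow (fun k => fs6 (Nat.add (Nat.succ 10659) k)) 265 = true := by decide +kernel
theorem s6c37 : allBelow (fun k => fs6 (Nat.add (Nat.succ 10924) k)) 275 = true := by decide +kernel
theorem s6c38 : allBelow (fun k => fs6 (Nat.add (Nat.succ 11199) k)) 280 = true := by decide +kernel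
theorem s6c39 : allBelow (fun k => fs6 (Nat.add (Nat.succ 11479) k)) 276 = true := by decide +kernel
theorem s6c40 : allBelow (fun k => fs6 (Nat.add (Nat.succ 11755) k)) 277 = true := by decide +kernel
theorem s6c41 : allBelow (fun k => fs6 (Nat.add (Nat.succ 12032) k)) 278 = true := by decide +kernel
theorem s6c42 : allBelow (fun k => fs6 (Nat.add (Nat.succ 12310) k)) 290 = true := by decide +kernel
theorem s6c43 : allBelow (fun k => fs6 (Nat.add (Nat.succ 12600) k)) 301 = true := by decide +kernel
theorem s6c44 : allBelow (fun k => fs6 (Nat.add (Nat.succ 12901) k)) 279 = true := by decide +kernel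
theorem s6c45 : allBelow (fun k => fs6 (Nat.add (Nat.succ 13180) k)) 290 = true := by decide +kernel
theorem s6c46 : allBelow (fun k => fs6 (Nat.add (Nat.succ 13470) k)) 271 = true := by decide +kernel
theorem s6c47 : allBelow (fun k => fs6 (Nat.add (Nat.succ 13741) k)) 279 = true := by decide +kernel
theorem s6c48 : allBelow (fun k => fs6 (Nat.add (Nat.succ 14020) k)) 267 = true := by decide +kernel
theorem s6c49 : allBelow (fun k => fs6 (Nat.add (Nat.succ 14287) k)) 309 = true := by decide +kernel
theorem s6c50 : allBelow (fun k => fs6 (Nat.add (Nat.succ 14596) k)) 274 = true := by decide +kernel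
theorem s6c51 : allBelow (fun k => fs6 (Nat.add (Nat.succ 14870) k)) 280 = true := by decide +kernel
theorem s6c52 : allBelow (fun k => fs6 (Nat.add (Nat.succ 15150) k)) 277 = true := by decide +kernel
theorem s6c53 : allBelow (fun k => fs6 (Nat.add (Nat.succ 15427) k)) 288 = true := by decide +kernel
theorem s6c54 : allBelow (fun k => fs6 (Nat.add (Nat.succ 15715) k)) 281 = true := by decide +kernel
theorem s6c55 : allBelow (fun k => fs6 (Nat.add (Nat.succ 15996) k)) 327 = true := by decide +kernel
theorem s6c56 : allBelow (fun k => fs6 (Nat.add (Nat.succ 16323) k)) 337 = true := by decide +kernel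
theorem s6c57 : allBelow (fun k => fs6 (Nat.add (Nat.succ 16660) k)) 287 = true := by decide +kernel
theorem s6c58 : allBelow (fun k => fs6 (Nat.add (Nat.succ 16947) k)) 302 = true := by decide +kernel
theorem s6c59 : allBelow (fun k => fs6 (Nat.add (Nat.succ 17249) k)) 321 = true := by decide +kernel
theorem s6c60 : allBelow (fun k => fs6 (Nat.add (Nat.succ 17570) k)) 273 = true := by decide +kernel
theorem s6c61 : allBelow (fun k => fs6 (Nat.add (Nat.succ 17843) k)) 286 = true := by decide +kernel
theorem s6c62 : allBelow (fun k => fs6 (Nat.add (Nat.succ 18129) k)) 297 = true := by decide +kernel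
theorem s6c63 : allBelow (fun k => fs6 (Nat.add (Nat.succ 18426) k)) 270 = true := by decide +kernel
theorem s6c64 : allBelow (fun k => fs6 (Nat.add (Nat.succ 18696) k)) 337 = true := by decide +kernel
theorem s6c65 : allBelow (fun k => fs6 (Nat.add (Nat.succ 19033) k)) 280 = true := by decide +kernel
theorem s6c66 : allBelow (fun k => fs6 (Nat.add (Nat.succ 19313) k)) 278 = true := by decide +kernel
theorem s6c67 : allBelow (fun k => fs6 (Nat.add (Nat.succ 19591) k)) 274 = true := by decide +kernel
theorem s6c68 : allBelow (fun k => fs6 (Nat.add (Nat.succ 19865) k)) 291 = true := by decide +kernel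
theorem s6c69 : allBelow (fun k => fs6 (Nat.add (Nat.succ 20156) k)) 305 = true := by decide +kernel
theorem s6c70 : allBelow (fun k => fs6 (Nat.add (Nat.succ 20461) k)) 294 = true := by decide +kernel
theorem s6c71 : allBelow (fun k => fs6 (Nat.add (Nat.succ 20755) k)) 276 = true := by decide +kernel

end Cfsg.Agent.Lib.Helper35.Fi24a
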