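import Cfsg.Agent.Lib.Helper35.Fi24a.Data

set_option Elab.async false

namespace Cfsg.Agent.Lib.Helper35.Fi24a

open Cfsg.Agent.Lib.Helper35

theorem s6c72 : allBelow (fun k => fs6 (Nat.add (Nat.succ 21031) k)) 362 = true := by decide +kernel
theorem s6c73 : allBelow (fun k => fs6 (Nat.add (Nat.succ 21393) k)) 388 = true := by decide +kernel
theorem s6c74 : allBelow (fun k => fs6 (Nat.add (Nat.succ 21781) k)) 298 = true := by decide +kernel
theorem s6c75 : allBelow (fun k => fs6 (Nat.add (Nat.succ 22079) k)) 299 = true := by decide +kernel
theorem s6c76 : allBelow (fun k => fs6 (Nat.add (Nat.succ 22378) k)) 329 = true := by decide +kernel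
theorem s6c77 : allBelow (fun k => fs6 (Nat.add (Nat.succ 22707) k)) 337 = true := by decide +kernel
theorem s6c78 : allBelow (fun k => fs6 (Nat.add (Nat.succ 23044) k)) 280 = true := by decide +kernel
theorem s6c79 : allBelow (fun k => fs6 (Nat.add (Nat.succ 23324) k)) 281 = true := by decide +kernel
theorem s6c80 : allBelow (fun k => fs6 (Nat.add (Nat.succ 23605) k)) 270 = true := by decide +kernel
theorem s6c81 : allBelow (fun k => fs6 (Nat.add (Nat.succ 23875) k)) 325 = true := by decide +kernel
theorem s6c82 : allBelow (fun k => fs6 (Nat.add (Nat.succ 24200) k)) 312 = true := by decide +kernel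
theorem s6c83 : allBelow (fun k => fs6 (Nat.add (Nat.succ 24512) k)) 280 = true := by decide +kernel
theorem s6c84 : allBelow (fun k => fs6 (Nat.add (Nat.succ 24792) k)) 343 = true := by decide +kernel
theorem s6c85 : allBelow (fun k => fs6 (Nat.add (Nat.succ 25135) k)) 325 = true := by decide +kernel
theorem s6c86 : allBelow (fun k => fs6 (Nat.add (Nat.succ 25460) k)) 276 = true := by decide +kernel
theorem s6c87 : allBelow (fun k => fs6 (Nat.add (Nat.succ 25736) k)) 282 = true := by decide +kernel
theorem s6c88 : allBelow (fun k => fs6 (Nat.add (Nat.succ 26018) k)) 262 = true := by decide +kernel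
theorem s6c89 : allBelow (fun k => fs6 (Nat.add (Nat.succ 26280) k)) 304 = true := by decide +kernel
theorem s6c90 : allBelow (fun k => fs6 (Nat.add (Nat.succ 26584) k)) 310 = true := by decide +kernel
theorem s6c91 : allBelow (fun k => fs6 (Nat.add (Nat.succ 26894) k)) 319 = true := by decide +kernel
theorem s6c92 : allBelow (fun k => fs6 (Nat.add (Nat.succ 27213) k)) 339 = true := by decide +kernel
theorem s6c93 : allBelow (fun k => fs6 (Nat.add (Nat.succ 27552) k)) 278 = true := by decide +kernel
theorem s6c94 : allBelow (fun k => fs6 (Nat.add (Nat.succ 27830) k)) 286 = true := by decide +kernel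
theorem s6c95 : allBelow (fun k => fs6 (Nat.add (Nat.succ 28116) k)) 373 = true := by decide +kernel
theorem s6c96 : allBelow (fun k => fs6 (Nat.add (Nat.succ 28489) k)) 384 = true := by decide +kernel
theorem s6c97 : allBelow (fun k => fs6 (Nat.add (Nat.succ 28873) k)) 367 = true := by decide +kernel
theorem s6c98 : allBelow (fun k => fs6 (Nat.add (Nat.succ 29240) k)) 283 = true := by decide +kernel
theorem s6c99 : allBelow (fun k => fs6 (Nat.add (Nat.succ 29523) k)) 291 = true := by decide +kernel
theorem s6c100 : allBelow (fun k => fs6 (Nat.add (Nat.succ 29814) k)) 376 = true := by decide +kernel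
theorem s6c101 : allBelow (fun k => fs6 (Nat.add (Nat.succ 30190) k)) 305 = true := by decide +kernel
theorem s6c102 : allBelow (fun k => fs6 (Nat.add (Nat.succ 30495) k)) 376 = true := by decide +kernel
theorem s6c103 : allBelow (fun k => fs6 (Nat.add (Nat.succ 30871) k)) 270 = true := by decide +kernel
theorem s6c104 : allBelow (fun k => fs6 (Nat.add (Nat.succ 31141) k)) 276 = true := by decide +kernel
theorem s6c105 : allBelow (fun k => fs6 (Nat.add (Nat.succ 31417) k)) 279 = true := by decide +kernel
theorem s6c106 : allBelow (fun k => fs6 (Nat.add (Nat.succ 31696) k)) 275 = true := by decide +kernel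
theorem s6c107 : allBelow (fun k => fs6 (Nat.add (Nat.succ 31971) k)) 342 = true := by decide +kernel
theorem s6c108 : allBelow (fun k => fs6 (Nat.add (Nat.succ 32313) k)) 328 = true := by decide +kernel
theorem s6c109 : allBelow (fun k => fs6 (Nat.add (Nat.succ 32641) k)) 326 = true := by decide +kernel
theorem s6c110 : allBelow (fun k => fs6 (Nat.add (Nat.succ 32967) k)) 283 = true := by decide +kernel
theorem s6c111 : allBelow (fun k => fs6 (Nat.add (Nat.succ 33250) k)) 326 = true := by decide +kernel
theorem s6c112 : allBelow (fun k => fs6 (Nat.add (Nat.succ 33576) k)) 382 = true := by decide +kernel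
theorem s6c113 : allBelow (fun k => fs6 (Nat.add (Nat.succ 33958) k)) 290 = true := by decide +kernel
theorem s6c114 : allBelow (fun k => fs6 (Nat.add (Nat.succ 34248) k)) 291 = true := by decide +kernel
theorem s6c115 : allBelow (fun k => fs6 (Nat.add (Nat.succ 34539) k)) 276 = true := by decide +kernel
theorem s6c116 : allBelow (fun k => fs6 (Nat.add (Nat.succ 34815) k)) 287 = true := by decide +kernel
theorem s6c117 : allBelow (fun k => fs6 (Nat.add (Nat.succ 35102) k)) 267 = true := by decide +kernel
theorem s6c118 : allBelow (fun k => fs6 (Nat.add (Nat.succ 35369) k)) 280 = true := by decide +kernel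
theorem s6c119 : allBelow (fun k => fs6 (Nat.add (Nat.succ 35649) k)) 342 = true := by decide +kernel
theorem s6c120 : allBelow (fun k => fs6 (Nat.add (Nat.succ 35991) k)) 317 = true := by decide +kernel
theorem s6c121 : allBelow (fun k => fs6 (Nat.add (Nat.succ 36308) k)) 341 = true := by decide +kernel
theorem s6c122 : allBelow (fun k => fs6 (Nat.add (Nat.succ 36649) k)) 351 = true := by decide +kernel
theorem s6c123 : allBelow (fun k => fs6 (Nat.add (Nat.succ 37000) k)) 302 = true := by decide +kernel
theorem s6c124 : allBelow (fun k => fs6 (Nat.add (Nat.succ 37302) k)) 285 = true := by decide +kernel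
theorem s6c125 : allBelow (fun k => fs6 (Nat.add (Nat.succ 37587) k)) 284 = true := by decide +kernel
theorem s6c126 : allBelow (fun k => fs6 (Nat.add (Nat.succ 37871) k)) 362 = true := by decide +kernel
theorem s6c127 : allBelow (fun k => fs6 (Nat.add (Nat.succ 38233) k)) 359 = true := by decide +kernel
theorem s6c128 : allBelow (fun k => fs6 (Nat.add (Nat.succ 38592) k)) 392 = true := by decide +kernel
theorem s6c129 : allBelow (fun k => fs6 (Nat.add (Nat.succ 38984) k)) 368 = true := by decide +kernel
theorem s6c130 : allBelow (fun k => fs6 (Nat.add (Nat.succ 39352) k)) 279 = true := by decide +kernel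
theorem s6c131 : allBelow (fun k => fs6 (Nat.add (Nat.succ 39631) k)) 271 = true := by decide +kernel
theorem s6c132 : allBelow (fun k => fs6 (Nat.add (Nat.succ 39902) k)) 334 = true := by decide +kernel
theorem s6c133 : allBelow (fun k => fs6 (Nat.add (Nat.succ 40236) k)) 373 = true := by decide +kernel
theorem s6c134 : allBelow (fun k => fs6 (Nat.add (Nat.succ 40609) k)) 360 = true := by decide +kernel
theorem s6c135 : allBelow (fun k => fs6 (Nat.add (Nat.succ 40969) k)) 314 = true := by decide +kernel
theorem s6c136 : allBelow (fun k => fs6 (Nat.add (Nat.succ 41283) k)) 389 = true := by decide +kernel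
theorem s6c137 : allBelow (fun k => fs6 (Nat.add (Nat.succ 41672) k)) 276 = true := by decide +kernel
theorem s6c138 : allBelow (fun k => fs6 (Nat.add (Nat.succ 41948) k)) 273 = true := by decide +kernel
theorem s6c139 : allBelow (fun k => fs6 (Nat.add (Nat.succ 42221) k)) 300 = true := by decide +kernel
theorem s6c140 : allBelow (fun k => fs6 (Nat.add (Nat.succ 42521) k)) 269 = true := by decide +kernel
theorem s6c141 : allBelow (fun k => fs6 (Nat.add (Nat.succ 42790) k)) 271 = true := by decide +kernel
theorem s6c142 : allBelow (fun k => fs6 (Nat.add (Nat.succ 43061) k)) 333 = true := by decide +kernel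
theorem s6c143 : allBelow (fun k => fs6 (Nat.add (Nat.succ 43394) k)) 356 = true := by decide +kernel
theorem s6c144 : allBelow (fun k => fs6 (Nat.add (Nat.succ 43750) k)) 335 = true := by decide +kernel
theorem s6c145 : allBelow (fun k => fs6 (Nat.add (Nat.succ 44085) k)) 367 = true := by decide +kernel
theorem s6c146 : allBelow (fun k => fs6 (Nat.add (Nat.succ 44452) k)) 288 = true := by decide +kernel
theorem s6c147 : allBelow (fun k => fs6 (Nat.add (Nat.succ 44740) k)) 295 = true := by decide +kernel
theorem s6c148 : allBelow (fun k => fs6 (Nat.add (Nat.succ 45035) k)) 348 = true := by decide +kernel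
theorem s6c149 : allBelow (fun k => fs6 (Nat.add (Nat.succ 45383) k)) 380 = true := by decide +kernel
theorem s6c150 : allBelow (fun k => fs6 (Nat.add (Nat.succ 45763) k)) 324 = true := by decide +kernel
theorem s6c151 : allBelow (fun k => fs6 (Nat.add (Nat.succ 46087) k)) 292 = true := by decide +kernel
theorem s6c152 : allBelow (fun k => fs6 (Nat.add (Nat.succ 46379) k)) 297 = true := by decide +kernel
theorem s6c153 : allBelow (fun k => fs6 (Nat.add (Nat.succ 46676) k)) 274 = true := by decide +kernel
theorem s6c154 : allBelow (fun k => fs6 (Nat.add (Nat.succ 46950) k)) 294 = true := by decide +kernel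
theorem s6c155 : allBelow (fun k => fs6 (Nat.add (Nat.succ 47244) k)) 291 = true := by decide +kernel
theorem s6c156 : allBelow (fun k => fs6 (Nat.add (Nat.succ 47535) k)) 268 = true := by decide +kernel
theorem s6c157 : allBelow (fun k => fs6 (Nat.add (Nat.succ 47803) k)) 271 = true := by decide +kernel
theorem s6c158 : allBelow (fun k => fs6 (Nat.add (Nat.succ 48074) k)) 308 = true := by decide +kernel
theorem s6c159 : allBelow (fun k => fs6 (Nat.add (Nat.succ 48382) k)) 334 = true := by decide +kernel
theorem s6c160 : allBelow (fun k => fs6 (Nat.add (Nat.succ 48716) k)) 368 = true := by decide +kernel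
theorem s6c161 : allBelow (fun k => fs6 (Nat.add (Nat.succ 49084) k)) 309 = true := by decide +kernel
theorem s6c162 : allBelow (fun k => fs6 (Nat.add (Nat.succ 49393) k)) 339 = true := by decide +kernel
theorem s6c163 : allBelow (fun k => fs6 (Nat.add (Nat.succ 49732) k)) 356 = true := by decide +kernel
theorem s6c164 : allBelow (fun k => fs6 (Nat.add (Nat.succ 50088) k)) 348 = true := by decide +kernel
theorem s6c165 : allBelow (fun k => fs6 (Nat.add (Nat.succ 50436) k)) 291 = true := by decide +kernel
theorem s6c166 : allBelow (fun k => fs6 (Nat.add (Nat.succ 50727) k)) 297 = true := by decide +kernel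
theorem s6c167 : allBelow (fun k => fs6 (Nat.add (Nat.succ 51024) k)) 289 = true := by decide +kernel
theorem s6c168 : allBelow (fun k => fs6 (Nat.add (Nat.succ 51313) k)) 326 = true := by decide +kernel
theorem s6c169 : allBelow (fun k => fs6 (Nat.add (Nat.succ 51639) k)) 380 = true := by decide +kernel
theorem s6c170 : allBelow (fun k => fs6 (Nat.add (Nat.succ 52019) k)) 366 = true := by decide +kernel
theorem s6c171 : allBelow (fun k => fs6 (Nat.add (Nat.succ 52385) k)) 401 = true := by decide +kernel
theorem s6c172 : allBelow (fun k => fs6 (Nat.add (Nat.succ 52786) k)) 395 = true := by decide +kernel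
theorem s6c173 : allBelow (fun k => fs6 (Nat.add (Nat.succ 53181) k)) 275 = true := by decide +kernel
theorem s6c174 : allBelow (fun k => fs6 (Nat.add (Nat.succ 53456) k)) 295 = true := by decide +kernel
theorem s6c175 : allBelow (fun k => fs6 (Nat.add (Nat.succ 53751) k)) 286 = true := by decide +kernel
theorem s6c176 : allBelow (fun k => fs6 (Nat.add (Nat.succ 54037) k)) 347 = true := by decide +kernel
theorem s6c177 : allBelow (fun k => fs6 (Nat.add (Nat.succ 54384) k)) 386 = true := by decide +kernel
theorem s6c178 : allBelow (fun k => fs6 (Nat.add (Nat.succ 54770) k)) 425 = true := by decide +kernel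
theorem s6c179 : allBelow (fun k => fs6 (Nat.add (Nat.succ 55195) k)) 305 = true := by decide +kernel
theorem s6c180 : allBelow (fun k => fs6 (Nat.add (Nat.succ 55500) k)) 358 = true := by decide +kernel
theorem s6c181 : allBelow (fun k => fs6 (Nat.add (Nat.succ 55858) k)) 402 = true := by decide +kernel
theorem s6c182 : allBelow (fun k => fs6 (Nat.add (Nat.succ 56260) k)) 270 = true := by decide +kernel
theorem s6c183 : allBelow (fun k => fs6 (Nat.add (Nat.succ 56530) k)) 303 = true := by decide +kernel
theorem s6c184 : allBelow (fun k => fs6 (Nat.add (Nat.succ 56833) k)) 273 = true := by decide +kernel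
theorem s6c185 : allBelow (fun k => fs6 (Nat.add (Nat.succ 57106) k)) 289 = true := by decide +kernel
theorem s6c186 : allBelow (fun k => fs6 (Nat.add (Nat.succ 57395) k)) 292 = true := by decide +kernel
theorem s6c187 : allBelow (fun k => fs6 (Nat.add (Nat.succ 57687) k)) 278 = true := by decide +kernel
theorem s6c188 : allBelow (fun k => fs6 (Nat.add (Nat.succ 57965) k)) 280 = true := by decide +kernel
theorem s6c189 : allBelow (fun k => fs6 (Nat.add (Nat.succ 58245) k)) 329 = true := by decide +kernel
theorem s6c190 : allBelow (fun k => fs6 (Nat.add (Nat.succ 58574) k)) 365 = true := by decide +kernel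
theorem s6c191 : allBelow (fun k => fs6 (Nat.add (Nat.succ 58939) k)) 368 = true := by decide +kernel
theorem s6c192 : allBelow (fun k => fs6 (Nat.add (Nat.succ 59307) k)) 356 = true := by decide +kernel
theorem s6c193 : allBelow (fun k => fs6 (Nat.add (Nat.succ 59663) k)) 405 = true := by decide +kernel
theorem s6c194 : allBelow (fun k => fs6 (Nat.add (Nat.succ 60068) k)) 284 = true := by decide +kernel
theorem s6c195 : allBelow (fun k => fs6 (Nat.add (Nat.succ 60352) k)) 315 = true := by decide +kernel
theorem s6c196 : allBelow (fun k => fs6 (Nat.add (Nat.succ 60667) k)) 306 = true := by decide +kernel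
theorem s6c197 : allBelow (fun k => fs6 (Nat.add (Nat.succ 60973) k)) 362 = true := by decide +kernel
theorem s6c198 : allBelow (fun k => fs6 (Nat.add (Nat.succ 61335) k)) 400 = true := by decide +kernel
theorem s6c199 : allBelow (fun k => fs6 (Nat.add (Nat.succ 61735) k)) 353 = true := by decide +kernel
theorem s6c200 : allBelow (fun k => fs6 (Nat.add (Nat.succ 62088) k)) 301 = true := by decide +kernel
theorem s6c201 : allBelow (fun k => fs6 (Nat.add (Nat.succ 62389) k)) 292 = true := by decide +kernel
theorem s6c202 : allBelow (fun k => fs6 (Nat.add (Nat.succ 62681) k)) 300 = true := by decide +kernel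
theorem s6c203 : allBelow (fun k => fs6 (Nat.add (Nat.succ 62981) k)) 292 = true := by decide +kernel
theorem s6c204 : allBelow (fun k => fs6 (Nat.add (Nat.succ 63273) k)) 271 = true := by decide +kernel
theorem s6c205 : allBelow (fun k => fs6 (Nat.add (Nat.succ 63544) k)) 302 = true := by decide +kernel
theorem s6c206 : allBelow (fun k => fs6 (Nat.add (Nat.succ 63846) k)) 302 = true := by decide +kernel
theorem s6c207 : allBelow (fun k => fs6 (Nat.add (Nat.succ 64148) k)) 280 = true := by decide +kernel
theorem s6c208 : allBelow (fun k => fs6 (Nat.add (Nat.succ 64428) k)) 270 = true := by decide +kernel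
theorem s6c209 : allBelow (fun k => fs6 (Nat.add (Nat.succ 64698) k)) 293 = true := by decide +kernel
theorem s6c210 : allBelow (fun k => fs6 (Nat.add (Nat.succ 64991) k)) 289 = true := by decide +kernel
theorem s6c211 : allBelow (fun k => fs6 (Nat.add (Nat.succ 65280) k)) 325 = true := by decide +kernel
theorem s6c212 : allBelow (fun k => fs6 (Nat.add (Nat.succ 65605) k)) 353 = true := by decide +kernel
theorem s6c213 : allBelow (fun k => fs6 (Nat.add (Nat.succ 65958) k)) 376 = true := by decide +kernel
theorem s6c214 : allBelow (fun k => fs6 (Nat.add (Nat.succ 66334) k)) 341 = true := by decide +kernel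
theorem s6c215 : allBelow (fun k => fs6 (Nat.add (Nat.succ 66675) k)) 332 = true := by decide +kernel
theorem s6c216 : allBelow (fun k => fs6 (Nat.add (Nat.succ 67007) k)) 350 = true := by decide +kernel
theorem s6c217 : allBelow (fun k => fs6 (Nat.add (Nat.succ 67357) k)) 364 = true := by decide +kernel
theorem s6c218 : allBelow (fun k => fs6 (Nat.add (Nat.succ 67721) k)) 370 = true := by decide +kernel
theorem s6c219 : allBelow (fun k => fs6 (Nat.add (Nat.succ 68091) k)) 300 = true := by decide +kernel
theorem s6c220 : allBelow (fun k => fs6 (Nat.add (Nat.succ 68391) k)) 302 = true := by decide +kernel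
theorem s6c221 : allBelow (fun k => fs6 (Nat.add (Nat.succ 68693) k)) 311 = true := by decide +kernel
theorem s6c222 : allBelow (fun k => fs6 (Nat.add (Nat.succ 69004) k)) 309 = true := by decide +kernel
theorem s6c223 : allBelow (fun k => fs6 (Nat.add (Nat.succ 69313) k)) 327 = true := by decide +kernel
theorem s6c224 : allBelow (fun k => fs6 (Nat.add (Nat.succ 69640) k)) 396 = true := by decide +kernel
theorem s6c225 : allBelow (fun k => fs6 (Nat.add (Nat.succ 70036) k)) 364 = true := by decide +kernel
theorem s6c226 : allBelow (fun k => fs6 (Nat.add (Nat.succ 70400) k)) 401 = true := by decide +kernel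
theorem s6c227 : allBelow (fun k => fs6 (Nat.add (Nat.succ 70801) k)) 451 = true := by decide +kernel
theorem s6c228 : allBelow (fun k => fs6 (Nat.add (Nat.succ 71252) k)) 326 = true := by decide +kernel
theorem s6c229 : allBelow (fun k => fs6 (Nat.add (Nat.succ 71578) k)) 286 = true := by decide +kernel
theorem s6c230 : allBelow (fun k => fs6 (Nat.add (Nat.succ 71864) k)) 311 = true := by decide +kernel
theorem s6c231 : allBelow (fun k => fs6 (Nat.add (Nat.succ 72175) k)) 284 = true := by decide +kernel
theorem s6c232 : allBelow (fun k => fs6 (Nat.add (Nat.succ 72459) k)) 318 = true := by decide +kernel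
theorem s6c233 : allBelow (fun k => fs6 (Nat.add (Nat.succ 72777) k)) 358 = true := by decide +kernel
theorem s6c234 : allBelow (fun k => fs6 (Nat.add (Nat.succ 73135) k)) 431 = true := by decide +kernel
theorem s6c235 : allBelow (fun k => fs6 (Nat.add (Nat.succ 73566) k)) 442 = true := by decide +kernel
theorem s6c236 : allBelow (fun k => fs6 (Nat.add (Nat.succ 74008) k)) 333 = true := by decide +kernel
theorem s6c237 : allBelow (fun k => fs6 (Nat.add (Nat.succ 74341) k)) 374 = true := by decide +kernel
theorem s6c238 : allBelow (fun k => fs6 (Nat.add (Nat.succ 74715) k)) 411 = true := by decide +kernel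
theorem s6c239 : allBelow (fun k => fs6 (Nat.add (Nat.succ 75126) k)) 370 = true := by decide +kernel
theorem s6c240 : allBelow (fun k => fs6 (Nat.add (Nat.succ 75496) k)) 276 = true := by decide +kernel
theorem s6c241 : allBelow (fun k => fs6 (Nat.add (Nat.succ 75772) k)) 302 = true := by decide +kernel
theorem s6c242 : allBelow (fun k => fs6 (Nat.add (Nat.succ 76074) k)) 288 = true := by decide +kernel
theorem s6c243 : allBelow (fun k => fs6 (Nat.add (Nat.succ 76362) k)) 274 = true := by decide +kernel
theorem s6c244 : allBelow (fun k => fs6 (Nat.add (Nat.succ 76636) k)) 303 = true := by decide +kernel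
theorem s6c245 : allBelow (fun k => fs6 (Nat.add (Nat.succ 76939) k)) 311 = true := by decide +kernel
theorem s6c246 : allBelow (fun k => fs6 (Nat.add (Nat.succ 77250) k)) 278 = true := by decide +kernel
theorem s6c247 : allBelow (fun k => fs6 (Nat.add (Nat.succ 77528) k)) 297 = true := by decide +kernel
theorem s6c248 : allBelow (fun k => fs6 (Nat.add (Nat.succ 77825) k)) 295 = true := by decide +kernel
theorem s6c249 : allBelow (fun k => fs6 (Nat.add (Nat.succ 78120) k)) 332 = true := by decide +kernel
theorem s6c250 : allBelow (fun k => fs6 (Nat.add (Nat.succ 78452) k)) 345 = true := by decide +kernel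
theorem s6c251 : allBelow (fun k => fs6 (Nat.add (Nat.succ 78797) k)) 396 = true := by decide +kernel
theorem s6c252 : allBelow (fun k => fs6 (Nat.add (Nat.succ 79193) k)) 370 = true := by decide +kernel
theorem s6c253 : allBelow (fun k => fs6 (Nat.add (Nat.succ 79563) k)) 369 = true := by decide +kernel
theorem s6c254 : allBelow (fun k => fs6 (Nat.add (Nat.succ 79932) k)) 410 = true := by decide +kernel
theorem s6c255 : allBelow (fun k => fs6 (Nat.add (Nat.succ 80342) k)) 315 = true := by decide +kernel
theorem s6c256 : allBelow (fun k => fs6 (Nat.add (Nat.succ 80657) k)) 289 = true := by decide +kernel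
theorem s6c257 : allBelow (fun k => fs6 (Nat.add (Nat.succ 80946) k)) 346 = true := by decide +kernel
theorem s6c258 : allBelow (fun k => fs6 (Nat.add (Nat.succ 81292) k)) 335 = true := by decide +kernel
theorem s6c259 : allBelow (fun k => fs6 (Nat.add (Nat.succ 81627) k)) 392 = true := by decide +kernel
theorem s6c260 : allBelow (fun k => fs6 (Nat.add (Nat.succ 82019) k)) 410 = true := by decide +kernel
theorem s6c261 : allBelow (fun k => fs6 (Nat.add (Nat.succ 82429) k)) 399 = true := by decide +kernel
theorem s6c262 : allBelow (fun k => fs6 (Nat.add (Nat.succ 82828) k)) 288 = true := by decide +kernel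
theorem s6c263 : allBelow (fun k => fs6 (Nat.add (Nat.succ 83116) k)) 325 = true := by decide +kernel
theorem s6c264 : allBelow (fun k => fs6 (Nat.add (Nat.succ 83441) k)) 280 = true := by decide +kernel
theorem s6c265 : allBelow (fun k => fs6 (Nat.add (Nat.succ 83721) k)) 298 = true := by decide +kernel
theorem s6c266 : allBelow (fun k => fs6 (Nat.add (Nat.succ 84019) k)) 301 = true := by decide +kernel
theorem s6c267 : allBelow (fun k => fs6 (Nat.add (Nat.succ 84320) k)) 306 = true := by decide +kernel
theorem s6c268 : allBelow (fun k => fs6 (Nat.add (Nat.succ 84626) k)) 283 = true := by decide +kernel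
theorem s6c269 : allBelow (fun k => fs6 (Nat.add (Nat.succ 84909) k)) 297 = true := by decide +kernel
theorem s6c270 : allBelow (fun k => fs6 (Nat.add (Nat.succ 85206) k)) 293 = true := by decide +kernel
theorem s6c271 : allBelow (fun k => fs6 (Nat.add (Nat.succ 85499) k)) 318 = true := by decide +kernel
theorem s6c272 : allBelow (fun k => fs6 (Nat.add (Nat.succ 85817) k)) 287 = true := by decide +kernel
theorem s6c273 : allBelow (fun k => fs6 (Nat.add (Nat.succ 86104) k)) 270 = true := by decide +kernel
theorem s6c274 : allBelow (fun k => fs6 (Nat.add (Nat.succ 86374) k)) 292 = true := by decide +kernel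
theorem s6c275 : allBelow (fun k => fs6 (Nat.add (Nat.succ 86666) k)) 313 = true := by decide +kernel
theorem s6c276 : allBelow (fun k => fs6 (Nat.add (Nat.succ 86979) k)) 301 = true := by decide +kernel
theorem s6c277 : allBelow (fun k => fs6 (Nat.add (Nat.succ 87280) k)) 305 = true := by decide +kernel
theorem s6c278 : allBelow (fun k => fs6 (Nat.add (Nat.succ 87585) k)) 344 = true := by decide +kernel
theorem s6c279 : allBelow (fun k => fs6 (Nat.add (Nat.succ 87929) k)) 374 = true := by decide +kernel
theorem s6c280 : allBelow (fun k => fs6 (Nat.add (Nat.succ 88303) k)) 381 = true := by decide +kernel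
theorem s6c281 : allBelow (fun k => fs6 (Nat.add (Nat.succ 88684) k)) 368 = true := by decide +kernel
theorem s6c282 : allBelow (fun k => fs6 (Nat.add (Nat.succ 89052) k)) 330 = true := by decide +kernel
theorem s6c283 : allBelow (fun k => fs6 (Nat.add (Nat.succ 89382) k)) 379 = true := by decide +kernel
theorem s6c284 : allBelow (fun k => fs6 (Nat.add (Nat.succ 89761) k)) 342 = true := by decide +kernel
theorem s6c285 : allBelow (fun k => fs6 (Nat.add (Nat.succ 90103) k)) 375 = true := by decide +kernel
theorem s6c286 : allBelow (fun k => fs6 (Nat.add (Nat.succ 90478) k)) 395 = true := by decide +kernel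
theorem s6c287 : allBelow (fun k => fs6 (Nat.add (Nat.succ 90873) k)) 302 = true := by decide +kernel
theorem s6c288 : allBelow (fun k => fs6 (Nat.add (Nat.succ 91175) k)) 320 = true := by decide +kernel
theorem s6c289 : allBelow (fun k => fs6 (Nat.add (Nat.succ 91495) k)) 349 = true := by decide +kernel
theorem s6c290 : allBelow (fun k => fs6 (Nat.add (Nat.succ 91844) k)) 306 = true := by decide +kernel
theorem s6c291 : allBelow (fun k => fs6 (Nat.add (Nat.succ 92150) k)) 330 = true := by decide +kernel
theorem s6c292 : allBelow (fun k => fs6 (Nat.add (Nat.succ 92480) k)) 376 = true := by decide +kernel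
theorem s6c293 : allBelow (fun k => fs6 (Nat.add (Nat.succ 92856) k)) 437 = true := by decide +kernel
theorem s6c294 : allBelow (fun k => fs6 (Nat.add (Nat.succ 93293) k)) 460 = true := by decide +kernel
theorem s6c295 : allBelow (fun k => fs6 (Nat.add (Nat.succ 93753) k)) 470 = true := by decide +kernel
theorem s6c296 : allBelow (fun k => fs6 (Nat.add (Nat.succ 94223) k)) 322 = true := by decide +kernel
theorem s6c297 : allBelow (fun k => fs6 (Nat.add (Nat.succ 94545) k)) 301 = true := by decide +kernel
theorem s6c298 : allBelow (fun k => fs6 (Nat.add (Nat.succ 94846) k)) 306 = true := by decide +kernel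
theorem s6c299 : allBelow (fun k => fs6 (Nat.add (Nat.succ 95152) k)) 333 = true := by decide +kernel
theorem s6c300 : allBelow (fun k => fs6 (Nat.add (Nat.succ 95485) k)) 293 = true := by decide +kernel
theorem s6c301 : allBelow (fun k => fs6 (Nat.add (Nat.succ 95778) k)) 340 = true := by decide +kernel
theorem s6c302 : allBelow (fun k => fs6 (Nat.add (Nat.succ 96118) k)) 357 = true := by decide +kernel
theorem s6c303 : allBelow (fun k => fs6 (Nat.add (Nat.succ 96475) k)) 437 = true := by decide +kernel
theorem s6c304 : allBelow (fun k => fs6 (Nat.add (Nat.succ 96912) k)) 447 = true := by decide +kernel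
theorem s6c305 : allBelow (fun k => fs6 (Nat.add (Nat.succ 97359) k)) 370 = true := by decide +kernel
theorem s6c306 : allBelow (fun k => fs6 (Nat.add (Nat.succ 97729) k)) 393 = true := by decide +kernel
theorem s6c307 : allBelow (fun k => fs6 (Nat.add (Nat.succ 98122) k)) 435 = true := by decide +kernel
theorem s6c308 : allBelow (fun k => fs6 (Nat.add (Nat.succ 98557) k)) 383 = true := by decide +kernel
theorem s6c309 : allBelow (fun k => fs6 (Nat.add (Nat.succ 98940) k)) 284 = true := by decide +kernel
theorem s6c310 : allBelow (fun k => fs6 (Nat.add (Nat.succ 99224) k)) 295 = true := by decide +kernel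
theorem s6c311 : allBelow (fun k => fs6 (Nat.add (Nat.succ 99519) k)) 301 = true := by decide +kernel
theorem s6c312 : allBelow (fun k => fs6 (Nat.add (Nat.succ 99820) k)) 305 = true := by decide +kernel
theorem s6c313 : allBelow (fun k => fs6 (Nat.add (Nat.succ 100125) k)) 282 = true := by decide +kernel
theorem s6c314 : allBelow (fun k => fs6 (Nat.add (Nat.succ 100407) k)) 288 = true := by decide +kernel
theorem s6c315 : allBelow (fun k => fs6 (Nat.add (Nat.succ 100695) k)) 320 = true := by decide +kernel
theorem s6c316 : allBelow (fun k => fs6 (Nat.add (Nat.succ 101015) k)) 305 = true := by decide +kernel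
theorem s6c317 : allBelow (fun k => fs6 (Nat.add (Nat.succ 101320) k)) 314 = true := by decide +kernel
theorem s6c318 : allBelow (fun k => fs6 (Nat.add (Nat.succ 101634) k)) 288 = true := by decide +kernel
theorem s6c319 : allBelow (fun k => fs6 (Nat.add (Nat.succ 101922) k)) 298 = true := by decide +kernel
theorem s6c320 : allBelow (fun k => fs6 (Nat.add (Nat.succ 102220) k)) 321 = true := by decide +kernel
theorem s6c321 : allBelow (fun k => fs6 (Nat.add (Nat.succ 102541) k)) 312 = true := by decide +kernel
theorem s6c322 : allBelow (fun k => fs6 (Nat.add (Nat.succ 102853) k)) 329 = true := by decide +kernel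
theorem s6c323 : allBelow (fun k => fs6 (Nat.add (Nat.succ 103182) k)) 394 = true := by decide +kernel
theorem s6c324 : allBelow (fun k => fs6 (Nat.add (Nat.succ 103576) k)) 430 = true := by decide +kernel
theorem s6c325 : allBelow (fun k => fs6 (Nat.add (Nat.succ 104006) k)) 365 = true := by decide +kernel
theorem s6c326 : allBelow (fun k => fs6 (Nat.add (Nat.succ 104371) k)) 419 = true := by decide +kernel
theorem s6c327 : allBelow (fun k => fs6 (Nat.add (Nat.succ 104790) k)) 419 = true := by decide +kernel
theorem s6c328 : allBelow (fun k => fs6 (Nat.add (Nat.succ 105209) k)) 308 = true := by decide +kernel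
theorem s6c329 : allBelow (fun k => fs6 (Nat.add (Nat.succ 105517) k)) 291 = true := by decide +kernel
theorem s6c330 : allBelow (fun k => fs6 (Nat.add (Nat.succ 105808) k)) 380 = true := by decide +kernel
theorem s6c331 : allBelow (fun k => fs6 (Nat.add (Nat.succ 106188) k)) 337 = true := by decide +kernel
theorem s6c332 : allBelow (fun k => fs6 (Nat.add (Nat.succ 106525) k)) 417 = true := by decide +kernel
theorem s6c333 : allBelow (fun k => fs6 (Nat.add (Nat.succ 106942) k)) 477 = true := by decide +kernel
theorem s6c334 : allBelow (fun k => fs6 (Nat.add (Nat.succ 107419) k)) 320 = true := by decide +kernel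
theorem s6c335 : allBelow (fun k => fs6 (Nat.add (Nat.succ 107739) k)) 300 = true := by decide +kernel
theorem s6c336 : allBelow (fun k => fs6 (Nat.add (Nat.succ 108039) k)) 353 = true := by decide +kernel
theorem s6c337 : allBelow (fun k => fs6 (Nat.add (Nat.succ 108392) k)) 280 = true := by decide +kernel
theorem s6c338 : allBelow (fun k => fs6 (Nat.add (Nat.succ 108672) k)) 296 = true := by decide +kernel
theorem s6c339 : allBelow (fun k => fs6 (Nat.add (Nat.succ 108968) k)) 301 = true := by decide +kernel
theorem s6c340 : allBelow (fun k => fs6 (Nat.add (Nat.succ 109269) k)) 324 = true := by decide +kernel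
theorem s6c341 : allBelow (fun k => fs6 (Nat.add (Nat.succ 109593) k)) 334 = true := by decide +kernel
theorem s6c342 : allBelow (fun k => fs6 (Nat.add (Nat.succ 109927) k)) 279 = true := by decide +kernel
theorem s6c343 : allBelow (fun k => fs6 (Nat.add (Nat.succ 110206) k)) 289 = true := by decide +kernel
theorem s6c344 : allBelow (fun k => fs6 (Nat.add (Nat.succ 110495) k)) 315 = true := by decide +kernel
theorem s6c345 : allBelow (fun k => fs6 (Nat.add (Nat.succ 110810) k)) 294 = true := by decide +kernel
theorem s6c346 : allBelow (fun k => fs6 (Nat.add (Nat.succ 111104) k)) 289 = true := by decide +kernel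
theorem s6c347 : allBelow (fun k => fs6 (Nat.add (Nat.succ 111393) k)) 331 = true := by decide +kernel
theorem s6c348 : allBelow (fun k => fs6 (Nat.add (Nat.succ 111724) k)) 304 = true := by decide +kernel
theorem s6c349 : allBelow (fun k => fs6 (Nat.add (Nat.succ 112028) k)) 279 = true := by decide +kernel
theorem s6c350 : allBelow (fun k => fs6 (Nat.add (Nat.succ 112307) k)) 294 = true := by decide +kernel
theorem s6c351 : allBelow (fun k => fs6 (Nat.add (Nat.succ 112601) k)) 303 = true := by decide +kernel
theorem s6c352 : allBelow (fun k => fs6 (Nat.add (Nat.succ 112904) k)) 320 = true := by decide +kernel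
theorem s6c353 : allBelow (fun k => fs6 (Nat.add (Nat.succ 113224) k)) 314 = true := by decide +kernel
theorem s6c354 : allBelow (fun k => fs6 (Nat.add (Nat.succ 113538) k)) 338 = true := by decide +kernel
theorem s6c355 : allBelow (fun k => fs6 (Nat.add (Nat.succ 113876) k)) 310 = true := by decide +kernel
theorem s6c356 : allBelow (fun k => fs6 (Nat.add (Nat.succ 114186) k)) 344 = true := by decide +kernel
theorem s6c357 : allBelow (fun k => fs6 (Nat.add (Nat.succ 114530) k)) 396 = true := by decide +kernel
theorem s6c358 : allBelow (fun k => fs6 (Nat.add (Nat.succ 114926) k)) 398 = true := by decide +kernel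
theorem s6c359 : allBelow (fun k => fs6 (Nat.add (Nat.succ 115324) k)) 391 = true := by decide +kernel
theorem s6c360 : allBelow (fun k => fs6 (Nat.add (Nat.succ 115715) k)) 338 = true := by decide +kernel
theorem s6c361 : allBelow (fun k => fs6 (Nat.add (Nat.succ 116053) k)) 396 = true := by decide +kernel
theorem s6c362 : allBelow (fun k => fs6 (Nat.add (Nat.succ 116449) k)) 359 = true := by decide +kernel
theorem s6c363 : allBelow (fun k => fs6 (Nat.add (Nat.succ 116808) k)) 414 = true := by decide +kernel
theorem s6c364 : allBelow (fun k => fs6 (Nat.add (Nat.succ 117222) k)) 380 = true := by decide +kernel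
theorem s6c365 : allBelow (fun k => fs6 (Nat.add (Nat.succ 117602) k)) 352 = true := by decide +kernel
theorem s6c366 : allBelow (fun k => fs6 (Nat.add (Nat.succ 117954) k)) 294 = true := by decide +kernel
theorem s6c367 : allBelow (fun k => fs6 (Nat.add (Nat.succ 118248) k)) 350 = true := by decide +kernel
theorem s6c368 : allBelow (fun k => fs6 (Nat.add (Nat.succ 118598) k)) 324 = true := by decide +kernel
theorem s6c369 : allBelow (fun k => fs6 (Nat.add (Nat.succ 118922) k)) 344 = true := by decide +kernel
theorem s6c370 : allBelow (fun k => fs6 (Nat.add (Nat.succ 119266) k)) 402 = true := by decide +kernel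
theorem s6c371 : allBelow (fun k => fs6 (Nat.add (Nat.succ 119668) k)) 451 = true := by decide +kernel
theorem s6c372 : allBelow (fun k => fs6 (Nat.add (Nat.succ 120119) k)) 441 = true := by decide +kernel
theorem s6c373 : allBelow (fun k => fs6 (Nat.add (Nat.succ 120560) k)) 307 = true := by decide +kernel
theorem s6c374 : allBelow (fun k => fs6 (Nat.add (Nat.succ 120867) k)) 289 = true := by decide +kernel
theorem s6c375 : allBelow (fun k => fs6 (Nat.add (Nat.succ 121156) k)) 315 = true := by decide +kernel
theorem s6c376 : allBelow (fun k => fs6 (Nat.add (Nat.succ 121471) k)) 354 = true := by decide +kernel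
theorem s6c377 : allBelow (fun k => fs6 (Nat.add (Nat.succ 121825) k)) 312 = true := by decide +kernel
theorem s6c378 : allBelow (fun k => fs6 (Nat.add (Nat.succ 122137) k)) 324 = true := by decide +kernel
theorem s6c379 : allBelow (fun k => fs6 (Nat.add (Nat.succ 122461) k)) 333 = true := by decide +kernel
theorem s6c380 : allBelow (fun k => fs6 (Nat.add (Nat.succ 122794) k)) 395 = true := by decide +kernel
theorem s6c381 : allBelow (fun k => fs6 (Nat.add (Nat.succ 123189) k)) 465 = true := by decide +kernel
theorem s6c382 : allBelow (fun k => fs6 (Nat.add (Nat.succ 123654) k)) 369 = true := by decide +kernel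
theorem s6c383 : allBelow (fun k => fs6 (Nat.add (Nat.succ 124023) k)) 407 = true := by decide +kernel
theorem s6c384 : allBelow (fun k => fs6 (Nat.add (Nat.succ 124430) k)) 371 = true := by decide +kernel
theorem s6c385 : allBelow (fun k => fs6 (Nat.add (Nat.succ 124801) k)) 270 = true := by decide +kernel
theorem s6c386 : allBelow (fun k => fs6 (Nat.add (Nat.succ 125071) k)) 272 = true := by decide +kernel
theorem s6c387 : allBelow (fun k => fs6 (Nat.add (Nat.succ 125343) k)) 269 = true := by decide +kernel
theorem s6c388 : allBelow (fun k => fs6 (Nat.add (Nat.succ 125612) k)) 260 = true := by decide +kernel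
theorem s6c389 : allBelow (fun k => fs6 (Nat.add (Nat.succ 125872) k)) 281 = true := by decide +kernel
theorem s6c390 : allBelow (fun k => fs6 (Nat.add (Nat.succ 126153) k)) 266 = true := by decide +kernel

end Cfsg.Agent.Lib.Helper35.Fi24a
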