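import Cfsg.Agent.Lib.Helper35.Fi24a.Data

set_option Elab.async false

namespace Cfsg.Agent.Lib.Helper35.Fi24a

open Cfsg.Agent.Lib.Helper35

theorem s6c391 : allBelow (fun k => fs6 (Nat.add (Nat.succ 126419) k)) 283 = true := by decide +kernel
theorem s6c392 : allBelow (fun k => fs6 (Nat.add (Nat.succ 126702) k)) 243 = true := by decide +kernel
theorem s6c393 : allBelow (fun k => fs6 (Nat.add (Nat.succ 126945) k)) 275 = true := by decide +kernel
theorem s6c394 : allBelow (fun k => fs6 (Nat.add (Nat.succ 127220) k)) 281 = true := by decide +kernel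
theorem s6c395 : allBelow (fun k => fs6 (Nat.add (Nat.succ 127501) k)) 267 = true := by decide +kernel
theorem s6c396 : allBelow (fun k => fs6 (Nat.add (Nat.succ 127768) k)) 273 = true := by decide +kernel
theorem s6c397 : allBelow (fun k => fs6 (Nat.add (Nat.succ 128041) k)) 282 = true := by decide +kernel
theorem s6c398 : allBelow (fun k => fs6 (Nat.add (Nat.succ 128323) k)) 284 = true := by decide +kernel
theorem s6c399 : allBelow (fun k => fs6 (Nat.add (Nat.succ 128607) k)) 281 = true := by decide +kernel
theorem s6c400 : allBelow (fun k => fs6 (Nat.add (Nat.succ 128888) k)) 273 = true := by decide +kernel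
theorem s6c401 : allBelow (fun k => fs6 (Nat.add (Nat.succ 129161) k)) 283 = true := by decide +kernel
theorem s6c402 : allBelow (fun k => fs6 (Nat.add (Nat.succ 129444) k)) 257 = true := by decide +kernel
theorem s6c403 : allBelow (fun k => fs6 (Nat.add (Nat.succ 129701) k)) 241 = true := by decide +kernel
theorem s6c404 : allBelow (fun k => fs6 (Nat.add (Nat.succ 129942) k)) 237 = true := by decide +kernel
theorem s6c405 : allBelow (fun k => fs6 (Nat.add (Nat.succ 130179) k)) 276 = true := by decide +kernel
theorem s6c406 : allBelow (fun k => fs6 (Nat.add (Nat.succ 130455) k)) 274 = true := by decide +kernel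
theorem s6c407 : allBelow (fun k => fs6 (Nat.add (Nat.succ 130729) k)) 269 = true := by decide +kernel
theorem s6c408 : allBelow (fun k => fs6 (Nat.add (Nat.succ 130998) k)) 280 = true := by decide +kernel
theorem s6c409 : allBelow (fun k => fs6 (Nat.add (Nat.succ 131278) k)) 281 = true := by decide +kernel
theorem s6c410 : allBelow (fun k => fs6 (Nat.add (Nat.succ 131559) k)) 276 = true := by decide +kernel
theorem s6c411 : allBelow (fun k => fs6 (Nat.add (Nat.succ 131835) k)) 269 = true := by decide +kernel
theorem s6c412 : allBelow (fun k => fs6 (Nat.add (Nat.succ 132104) k)) 265 = true := by decide +kernel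
theorem s6c413 : allBelow (fun k => fs6 (Nat.add (Nat.succ 132369) k)) 281 = true := by decide +kernel
theorem s6c414 : allBelow (fun k => fs6 (Nat.add (Nat.succ 132650) k)) 274 = true := by decide +kernel
theorem s6c415 : allBelow (fun k => fs6 (Nat.add (Nat.succ 132924) k)) 287 = true := by decide +kernel
theorem s6c416 : allBelow (fun k => fs6 (Nat.add (Nat.succ 133211) k)) 272 = true := by decide +kernel
theorem s6c417 : allBelow (fun k => fs6 (Nat.add (Nat.succ 133483) k)) 252 = true := by decide +kernel
theorem s6c418 : allBelow (fun k => fs6 (Nat.add (Nat.succ 133735) k)) 281 = true := by decide +kernel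
theorem s6c419 : allBelow (fun k => fs6 (Nat.add (Nat.succ 134016) k)) 270 = true := by decide +kernel
theorem s6c420 : allBelow (fun k => fs6 (Nat.add (Nat.succ 134286) k)) 284 = true := by decide +kernel
theorem s6c421 : allBelow (fun k => fs6 (Nat.add (Nat.succ 134570) k)) 283 = true := by decide +kernel
theorem s6c422 : allBelow (fun k => fs6 (Nat.add (Nat.succ 134853) k)) 281 = true := by decide +kernel
theorem s6c423 : allBelow (fun k => fs6 (Nat.add (Nat.succ 135134) k)) 275 = true := by decide +kernel
theorem s6c424 : allBelow (fun k => fs6 (Nat.add (Nat.succ 135409) k)) 284 = true := by decide +kernel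
theorem s6c425 : allBelow (fun k => fs6 (Nat.add (Nat.succ 135693) k)) 288 = true := by decide +kernel
theorem s6c426 : allBelow (fun k => fs6 (Nat.add (Nat.succ 135981) k)) 299 = true := by decide +kernel
theorem s6c427 : allBelow (fun k => fs6 (Nat.add (Nat.succ 136280) k)) 290 = true := by decide +kernel
theorem s6c428 : allBelow (fun k => fs6 (Nat.add (Nat.succ 136570) k)) 279 = true := by decide +kernel
theorem s6c429 : allBelow (fun k => fs6 (Nat.add (Nat.succ 136849) k)) 278 = true := by decide +kernel
theorem s6c430 : allBelow (fun k => fs6 (Nat.add (Nat.succ 137127) k)) 266 = true := by decide +kernel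
theorem s6c431 : allBelow (fun k => fs6 (Nat.add (Nat.succ 137393) k)) 271 = true := by decide +kernel
theorem s6c432 : allBelow (fun k => fs6 (Nat.add (Nat.succ 137664) k)) 272 = true := by decide +kernel
theorem s6c433 : allBelow (fun k => fs6 (Nat.add (Nat.succ 137936) k)) 273 = true := by decide +kernel
theorem s6c434 : allBelow (fun k => fs6 (Nat.add (Nat.succ 138209) k)) 265 = true := by decide +kernel
theorem s6c435 : allBelow (fun k => fs6 (Nat.add (Nat.succ 138474) k)) 262 = true := by decide +kernel
theorem s6c436 : allBelow (fun k => fs6 (Nat.add (Nat.succ 138736) k)) 289 = true := by decide +kernel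
theorem s6c437 : allBelow (fun k => fs6 (Nat.add (Nat.succ 139025) k)) 271 = true := by decide +kernel
theorem s6c438 : allBelow (fun k => fs6 (Nat.add (Nat.succ 139296) k)) 267 = true := by decide +kernel
theorem s6c439 : allBelow (fun k => fs6 (Nat.add (Nat.succ 139563) k)) 266 = true := by decide +kernel
theorem s6c440 : allBelow (fun k => fs6 (Nat.add (Nat.succ 139829) k)) 250 = true := by decide +kernel
theorem s6c441 : allBelow (fun k => fs6 (Nat.add (Nat.succ 140079) k)) 260 = true := by decide +kernel
theorem s6c442 : allBelow (fun k => fs6 (Nat.add (Nat.succ 140339) k)) 280 = true := by decide +kernel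
theorem s6c443 : allBelow (fun k => fs6 (Nat.add (Nat.succ 140619) k)) 277 = true := by decide +kernel
theorem s6c444 : allBelow (fun k => fs6 (Nat.add (Nat.succ 140896) k)) 253 = true := by decide +kernel
theorem s6c445 : allBelow (fun k => fs6 (Nat.add (Nat.succ 141149) k)) 276 = true := by decide +kernel
theorem s6c446 : allBelow (fun k => fs6 (Nat.add (Nat.succ 141425) k)) 266 = true := by decide +kernel
theorem s6c447 : allBelow (fun k => fs6 (Nat.add (Nat.succ 141691) k)) 263 = true := by decide +kernel
theorem s6c448 : allBelow (fun k => fs6 (Nat.add (Nat.succ 141954) k)) 254 = true := by decide +kernel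
theorem s6c449 : allBelow (fun k => fs6 (Nat.add (Nat.succ 142208) k)) 262 = true := by decide +kernel
theorem s6c450 : allBelow (fun k => fs6 (Nat.add (Nat.succ 142470) k)) 261 = true := by decide +kernel
theorem s6c451 : allBelow (fun k => fs6 (Nat.add (Nat.succ 142731) k)) 269 = true := by decide +kernel
theorem s6c452 : allBelow (fun k => fs6 (Nat.add (Nat.succ 143000) k)) 268 = true := by decide +kernel
theorem s6c453 : allBelow (fun k => fs6 (Nat.add (Nat.succ 143268) k)) 270 = true := by decide +kernel
theorem s6c454 : allBelow (fun k => fs6 (Nat.add (Nat.succ 143538) k)) 264 = true := by decide +kernel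
theorem s6c455 : allBelow (fun k => fs6 (Nat.add (Nat.succ 143802) k)) 255 = true := by decide +kernel
theorem s6c456 : allBelow (fun k => fs6 (Nat.add (Nat.succ 144057) k)) 272 = true := by decide +kernel
theorem s6c457 : allBelow (fun k => fs6 (Nat.add (Nat.succ 144329) k)) 284 = true := by decide +kernel
theorem s6c458 : allBelow (fun k => fs6 (Nat.add (Nat.succ 144613) k)) 271 = true := by decide +kernel
theorem s6c459 : allBelow (fun k => fs6 (Nat.add (Nat.succ 144884) k)) 277 = true := by decide +kernel
theorem s6c460 : allBelow (fun k => fs6 (Nat.add (Nat.succ 145161) k)) 280 = true := by decide +kernel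
theorem s6c461 : allBelow (fun k => fs6 (Nat.add (Nat.succ 145441) k)) 287 = true := by decide +kernel
theorem s6c462 : allBelow (fun k => fs6 (Nat.add (Nat.succ 145728) k)) 286 = true := by decide +kernel
theorem s6c463 : allBelow (fun k => fs6 (Nat.add (Nat.succ 146014) k)) 272 = true := by decide +kernel
theorem s6c464 : allBelow (fun k => fs6 (Nat.add (Nat.succ 146286) k)) 271 = true := by decide +kernel
theorem s6c465 : allBelow (fun k => fs6 (Nat.add (Nat.succ 146557) k)) 276 = true := by decide +kernel
theorem s6c466 : allBelow (fun k => fs6 (Nat.add (Nat.succ 146833) k)) 256 = true := by decide +kernel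
theorem s6c467 : allBelow (fun k => fs6 (Nat.add (Nat.succ 147089) k)) 226 = true := by decide +kernel
theorem s6c468 : allBelow (fun k => fs6 (Nat.add (Nat.succ 147315) k)) 259 = true := by decide +kernel
theorem s6c469 : allBelow (fun k => fs6 (Nat.add (Nat.succ 147574) k)) 275 = true := by decide +kernel
theorem s6c470 : allBelow (fun k => fs6 (Nat.add (Nat.succ 147849) k)) 274 = true := by decide +kernel
theorem s6c471 : allBelow (fun k => fs6 (Nat.add (Nat.succ 148123) k)) 281 = true := by decide +kernel
theorem s6c472 : allBelow (fun k => fs6 (Nat.add (Nat.succ 148404) k)) 279 = true := by decide +kernel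
theorem s6c473 : allBelow (fun k => fs6 (Nat.add (Nat.succ 148683) k)) 269 = true := by decide +kernel
theorem s6c474 : allBelow (fun k => fs6 (Nat.add (Nat.succ 148952) k)) 269 = true := by decide +kernel
theorem s6c475 : allBelow (fun k => fs6 (Nat.add (Nat.succ 149221) k)) 268 = true := by decide +kernel
theorem s6c476 : allBelow (fun k => fs6 (Nat.add (Nat.succ 149489) k)) 273 = true := by decide +kernel
theorem s6c477 : allBelow (fun k => fs6 (Nat.add (Nat.succ 149762) k)) 277 = true := by decide +kernel
theorem s6c478 : allBelow (fun k => fs6 (Nat.add (Nat.succ 150039) k)) 278 = true := by decide +kernel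
theorem s6c479 : allBelow (fun k => fs6 (Nat.add (Nat.succ 150317) k)) 274 = true := by decide +kernel
theorem s6c480 : allBelow (fun k => fs6 (Nat.add (Nat.succ 150591) k)) 281 = true := by decide +kernel
theorem s6c481 : allBelow (fun k => fs6 (Nat.add (Nat.succ 150872) k)) 274 = true := by decide +kernel
theorem s6c482 : allBelow (fun k => fs6 (Nat.add (Nat.succ 151146) k)) 265 = true := by decide +kernel
theorem s6c483 : allBelow (fun k => fs6 (Nat.add (Nat.succ 151411) k)) 278 = true := by decide +kernel
theorem s6c484 : allBelow (fun k => fs6 (Nat.add (Nat.succ 151689) k)) 280 = true := by decide +kernel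
theorem s6c485 : allBelow (fun k => fs6 (Nat.add (Nat.succ 151969) k)) 278 = true := by decide +kernel
theorem s6c486 : allBelow (fun k => fs6 (Nat.add (Nat.succ 152247) k)) 292 = true := by decide +kernel
theorem s6c487 : allBelow (fun k => fs6 (Nat.add (Nat.succ 152539) k)) 272 = true := by decide +kernel
theorem s6c488 : allBelow (fun k => fs6 (Nat.add (Nat.succ 152811) k)) 286 = true := by decide +kernel
theorem s6c489 : allBelow (fun k => fs6 (Nat.add (Nat.succ 153097) k)) 283 = true := by decide +kernel
theorem s6c490 : allBelow (fun k => fs6 (Nat.add (Nat.succ 153380) k)) 285 = true := by decide +kernel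
theorem s6c491 : allBelow (fun k => fs6 (Nat.add (Nat.succ 153665) k)) 284 = true := by decide +kernel
theorem s6c492 : allBelow (fun k => fs6 (Nat.add (Nat.succ 153949) k)) 289 = true := by decide +kernel
theorem s6c493 : allBelow (fun k => fs6 (Nat.add (Nat.succ 154238) k)) 296 = true := by decide +kernel
theorem s6c494 : allBelow (fun k => fs6 (Nat.add (Nat.succ 154534) k)) 278 = true := by decide +kernel
theorem s6c495 : allBelow (fun k => fs6 (Nat.add (Nat.succ 154812) k)) 292 = true := by decide +kernel
theorem s6c496 : allBelow (fun k => fs6 (Nat.add (Nat.succ 155104) k)) 278 = true := by decide +kernel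
theorem s6c497 : allBelow (fun k => fs6 (Nat.add (Nat.succ 155382) k)) 277 = true := by decide +kernel
theorem s6c498 : allBelow (fun k => fs6 (Nat.add (Nat.succ 155659) k)) 261 = true := by decide +kernel
theorem s6c499 : allBelow (fun k => fs6 (Nat.add (Nat.succ 155920) k)) 269 = true := by decide +kernel
theorem s6c500 : allBelow (fun k => fs6 (Nat.add (Nat.succ 156189) k)) 274 = true := by decide +kernel
theorem s6c501 : allBelow (fun k => fs6 (Nat.add (Nat.succ 156463) k)) 265 = true := by decide +kernel
theorem s6c502 : allBelow (fun k => fs6 (Nat.add (Nat.succ 156728) k)) 271 = true := by decide +kernel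
theorem s6c503 : allBelow (fun k => fs6 (Nat.add (Nat.succ 156999) k)) 301 = true := by decide +kernel
theorem s6c504 : allBelow (fun k => fs6 (Nat.add (Nat.succ 157300) k)) 265 = true := by decide +kernel
theorem s6c505 : allBelow (fun k => fs6 (Nat.add (Nat.succ 157565) k)) 260 = true := by decide +kernel
theorem s6c506 : allBelow (fun k => fs6 (Nat.add (Nat.succ 157825) k)) 259 = true := by decide +kernel
theorem s6c507 : allBelow (fun k => fs6 (Nat.add (Nat.succ 158084) k)) 269 = true := by decide +kernel
theorem s6c508 : allBelow (fun k => fs6 (Nat.add (Nat.succ 158353) k)) 278 = true := by decide +kernel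
theorem s6c509 : allBelow (fun k => fs6 (Nat.add (Nat.succ 158631) k)) 262 = true := by decide +kernel
theorem s6c510 : allBelow (fun k => fs6 (Nat.add (Nat.succ 158893) k)) 267 = true := by decide +kernel
theorem s6c511 : allBelow (fun k => fs6 (Nat.add (Nat.succ 159160) k)) 243 = true := by decide +kernel
theorem s6c512 : allBelow (fun k => fs6 (Nat.add (Nat.succ 159403) k)) 268 = true := by decide +kernel
theorem s6c513 : allBelow (fun k => fs6 (Nat.add (Nat.succ 159671) k)) 268 = true := by decide +kernel
theorem s6c514 : allBelow (fun k => fs6 (Nat.add (Nat.succ 159939) k)) 259 = true := by decide +kernel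
theorem s6c515 : allBelow (fun k => fs6 (Nat.add (Nat.succ 160198) k)) 254 = true := by decide +kernel
theorem s6c516 : allBelow (fun k => fs6 (Nat.add (Nat.succ 160452) k)) 252 = true := by decide +kernel
theorem s6c517 : allBelow (fun k => fs6 (Nat.add (Nat.succ 160704) k)) 264 = true := by decide +kernel
theorem s6c518 : allBelow (fun k => fs6 (Nat.add (Nat.succ 160968) k)) 272 = true := by decide +kernel
theorem s6c519 : allBelow (fun k => fs6 (Nat.add (Nat.succ 161240) k)) 267 = true := by decide +kernel
theorem s6c520 : allBelow (fun k => fs6 (Nat.add (Nat.succ 161507) k)) 267 = true := by decide +kernel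
theorem s6c521 : allBelow (fun k => fs6 (Nat.add (Nat.succ 161774) k)) 272 = true := by decide +kernel
theorem s6c522 : allBelow (fun k => fs6 (Nat.add (Nat.succ 162046) k)) 266 = true := by decide +kernel
theorem s6c523 : allBelow (fun k => fs6 (Nat.add (Nat.succ 162312) k)) 265 = true := by decide +kernel
theorem s6c524 : allBelow (fun k => fs6 (Nat.add (Nat.succ 162577) k)) 273 = true := by decide +kernel
theorem s6c525 : allBelow (fun k => fs6 (Nat.add (Nat.succ 162850) k)) 272 = true := by decide +kernel
theorem s6c526 : allBelow (fun k => fs6 (Nat.add (Nat.succ 163122) k)) 282 = true := by decide +kernel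
theorem s6c527 : allBelow (fun k => fs6 (Nat.add (Nat.succ 163404) k)) 276 = true := by decide +kernel
theorem s6c528 : allBelow (fun k => fs6 (Nat.add (Nat.succ 163680) k)) 284 = true := by decide +kernel
theorem s6c529 : allBelow (fun k => fs6 (Nat.add (Nat.succ 163964) k)) 279 = true := by decide +kernel
theorem s6c530 : allBelow (fun k => fs6 (Nat.add (Nat.succ 164243) k)) 279 = true := by decide +kernel
theorem s6c531 : allBelow (fun k => fs6 (Nat.add (Nat.succ 164522) k)) 271 = true := by decide +kernel
theorem s6c532 : allBelow (fun k => fs6 (Nat.add (Nat.succ 164793) k)) 275 = true := by decide +kernel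
theorem s6c533 : allBelow (fun k => fs6 (Nat.add (Nat.succ 165068) k)) 269 = true := by decide +kernel
theorem s6c534 : allBelow (fun k => fs6 (Nat.add (Nat.succ 165337) k)) 266 = true := by decide +kernel
theorem s6c535 : allBelow (fun k => fs6 (Nat.add (Nat.succ 165603) k)) 273 = true := by decide +kernel
theorem s6c536 : allBelow (fun k => fs6 (Nat.add (Nat.succ 165876) k)) 247 = true := by decide +kernel
theorem s6c537 : allBelow (fun k => fs6 (Nat.add (Nat.succ 166123) k)) 240 = true := by decide +kernel
theorem s6c538 : allBelow (fun k => fs6 (Nat.add (Nat.succ 166363) k)) 278 = true := by decide +kernel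
theorem s6c539 : allBelow (fun k => fs6 (Nat.add (Nat.succ 166641) k)) 282 = true := by decide +kernel
theorem s6c540 : allBelow (fun k => fs6 (Nat.add (Nat.succ 166923) k)) 281 = true := by decide +kernel
theorem s6c541 : allBelow (fun k => fs6 (Nat.add (Nat.succ 167204) k)) 270 = true := by decide +kernel
theorem s6c542 : allBelow (fun k => fs6 (Nat.add (Nat.succ 167474) k)) 283 = true := by decide +kernel
theorem s6c543 : allBelow (fun k => fs6 (Nat.add (Nat.succ 167757) k)) 277 = true := by decide +kernel
theorem s6c544 : allBelow (fun k => fs6 (Nat.add (Nat.succ 168034) k)) 269 = true := by decide +kernel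
theorem s6c545 : allBelow (fun k => fs6 (Nat.add (Nat.succ 168303) k)) 272 = true := by decide +kernel
theorem s6c546 : allBelow (fun k => fs6 (Nat.add (Nat.succ 168575) k)) 276 = true := by decide +kernel
theorem s6c547 : allBelow (fun k => fs6 (Nat.add (Nat.succ 168851) k)) 262 = true := by decide +kernel
theorem s6c548 : allBelow (fun k => fs6 (Nat.add (Nat.succ 169113) k)) 278 = true := by decide +kernel
theorem s6c549 : allBelow (fun k => fs6 (Nat.add (Nat.succ 169391) k)) 270 = true := by decide +kernel
theorem s6c550 : allBelow (fun k => fs6 (Nat.add (Nat.succ 169661) k)) 277 = true := by decide +kernel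
theorem s6c551 : allBelow (fun k => fs6 (Nat.add (Nat.succ 169938) k)) 279 = true := by decide +kernel
theorem s6c552 : allBelow (fun k => fs6 (Nat.add (Nat.succ 170217) k)) 271 = true := by decide +kernel
theorem s6c553 : allBelow (fun k => fs6 (Nat.add (Nat.succ 170488) k)) 271 = true := by decide +kernel
theorem s6c554 : allBelow (fun k => fs6 (Nat.add (Nat.succ 170759) k)) 280 = true := by decide +kernel
theorem s6c555 : allBelow (fun k => fs6 (Nat.add (Nat.succ 171039) k)) 281 = true := by decide +kernel
theorem s6c556 : allBelow (fun k => fs6 (Nat.add (Nat.succ 171320) k)) 276 = true := by decide +kernel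
theorem s6c557 : allBelow (fun k => fs6 (Nat.add (Nat.succ 171596) k)) 286 = true := by decide +kernel
theorem s6c558 : allBelow (fun k => fs6 (Nat.add (Nat.succ 171882) k)) 290 = true := by decide +kernel
theorem s6c559 : allBelow (fun k => fs6 (Nat.add (Nat.succ 172172) k)) 271 = true := by decide +kernel
theorem s6c560 : allBelow (fun k => fs6 (Nat.add (Nat.succ 172443) k)) 291 = true := by decide +kernel
theorem s6c561 : allBelow (fun k => fs6 (Nat.add (Nat.succ 172734) k)) 288 = true := by decide +kernel
theorem s6c562 : allBelow (fun k => fs6 (Nat.add (Nat.succ 173022) k)) 289 = true := by decide +kernel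
theorem s6c563 : allBelow (fun k => fs6 (Nat.add (Nat.succ 173311) k)) 284 = true := by decide +kernel
theorem s6c564 : allBelow (fun k => fs6 (Nat.add (Nat.succ 173595) k)) 286 = true := by decide +kernel
theorem s6c565 : allBelow (fun k => fs6 (Nat.add (Nat.succ 173881) k)) 288 = true := by decide +kernel
theorem s6c566 : allBelow (fun k => fs6 (Nat.add (Nat.succ 174169) k)) 288 = true := by decide +kernel
theorem s6c567 : allBelow (fun k => fs6 (Nat.add (Nat.succ 174457) k)) 285 = true := by decide +kernel
theorem s6c568 : allBelow (fun k => fs6 (Nat.add (Nat.succ 174742) k)) 281 = true := by decide +kernel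
theorem s6c569 : allBelow (fun k => fs6 (Nat.add (Nat.succ 175023) k)) 284 = true := by decide +kernel
theorem s6c570 : allBelow (fun k => fs6 (Nat.add (Nat.succ 175307) k)) 277 = true := by decide +kernel
theorem s6c571 : allBelow (fun k => fs6 (Nat.add (Nat.succ 175584) k)) 272 = true := by decide +kernel
theorem s6c572 : allBelow (fun k => fs6 (Nat.add (Nat.succ 175856) k)) 276 = true := by decide +kernel
theorem s6c573 : allBelow (fun k => fs6 (Nat.add (Nat.succ 176132) k)) 281 = true := by decide +kernel
theorem s6c574 : allBelow (fun k => fs6 (Nat.add (Nat.succ 176413) k)) 271 = true := by decide +kernel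
theorem s6c575 : allBelow (fun k => fs6 (Nat.add (Nat.succ 176684) k)) 292 = true := by decide +kernel
theorem s6c576 : allBelow (fun k => fs6 (Nat.add (Nat.succ 176976) k)) 289 = true := by decide +kernel
theorem s6c577 : allBelow (fun k => fs6 (Nat.add (Nat.succ 177265) k)) 250 = true := by decide +kernel
theorem s6c578 : allBelow (fun k => fs6 (Nat.add (Nat.succ 177515) k)) 258 = true := by decide +kernel
theorem s6c579 : allBelow (fun k => fs6 (Nat.add (Nat.succ 177773) k)) 267 = true := by decide +kernel
theorem s6c580 : allBelow (fun k => fs6 (Nat.add (Nat.succ 178040) k)) 270 = true := by decide +kernel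
theorem s6c581 : allBelow (fun k => fs6 (Nat.add (Nat.succ 178310) k)) 258 = true := by decide +kernel
theorem s6c582 : allBelow (fun k => fs6 (Nat.add (Nat.succ 178568) k)) 249 = true := by decide +kernel
theorem s6c583 : allBelow (fun k => fs6 (Nat.add (Nat.succ 178817) k)) 270 = true := by decide +kernel
theorem s6c584 : allBelow (fun k => fs6 (Nat.add (Nat.succ 179087) k)) 267 = true := by decide +kernel
theorem s6c585 : allBelow (fun k => fs6 (Nat.add (Nat.succ 179354) k)) 268 = true := by decide +kernel
theorem s6c586 : allBelow (fun k => fs6 (Nat.add (Nat.succ 179622) k)) 259 = true := by decide +kernel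
theorem s6c587 : allBelow (fun k => fs6 (Nat.add (Nat.succ 179881) k)) 256 = true := by decide +kernel
theorem s6c588 : allBelow (fun k => fs6 (Nat.add (Nat.succ 180137) k)) 253 = true := by decide +kernel
theorem s6c589 : allBelow (fun k => fs6 (Nat.add (Nat.succ 180390) k)) 253 = true := by decide +kernel
theorem s6c590 : allBelow (fun k => fs6 (Nat.add (Nat.succ 180643) k)) 258 = true := by decide +kernel
theorem s6c591 : allBelow (fun k => fs6 (Nat.add (Nat.succ 180901) k)) 269 = true := by decide +kernel
theorem s6c592 : allBelow (fun k => fs6 (Nat.add (Nat.succ 181170) k)) 266 = true := by decide +kernel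
theorem s6c593 : allBelow (fun k => fs6 (Nat.add (Nat.succ 181436) k)) 271 = true := by decide +kernel
theorem s6c594 : allBelow (fun k => fs6 (Nat.add (Nat.succ 181707) k)) 267 = true := by decide +kernel
theorem s6c595 : allBelow (fun k => fs6 (Nat.add (Nat.succ 181974) k)) 261 = true := by decide +kernel
theorem s6c596 : allBelow (fun k => fs6 (Nat.add (Nat.succ 182235) k)) 260 = true := by decide +kernel
theorem s6c597 : allBelow (fun k => fs6 (Nat.add (Nat.succ 182495) k)) 272 = true := by decide +kernel
theorem s6c598 : allBelow (fun k => fs6 (Nat.add (Nat.succ 182767) k)) 275 = true := by decide +kernel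
theorem s6c599 : allBelow (fun k => fs6 (Nat.add (Nat.succ 183042) k)) 268 = true := by decide +kernel
theorem s6c600 : allBelow (fun k => fs6 (Nat.add (Nat.succ 183310) k)) 284 = true := by decide +kernel
theorem s6c601 : allBelow (fun k => fs6 (Nat.add (Nat.succ 183594) k)) 275 = true := by decide +kernel
theorem s6c602 : allBelow (fun k => fs6 (Nat.add (Nat.succ 183869) k)) 276 = true := by decide +kernel
theorem s6c603 : allBelow (fun k => fs6 (Nat.add (Nat.succ 184145) k)) 295 = true := by decide +kernel
theorem s6c604 : allBelow (fun k => fs6 (Nat.add (Nat.succ 184440) k)) 273 = true := by decide +kernel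
theorem s6c605 : allBelow (fun k => fs6 (Nat.add (Nat.succ 184713) k)) 276 = true := by decide +kernel
theorem s6c606 : allBelow (fun k => fs6 (Nat.add (Nat.succ 184989) k)) 276 = true := by decide +kernel
theorem s6c607 : allBelow (fun k => fs6 (Nat.add (Nat.succ 185265) k)) 271 = true := by decide +kernel
theorem s6c608 : allBelow (fun k => fs6 (Nat.add (Nat.succ 185536) k)) 265 = true := by decide +kernel
theorem s6c609 : allBelow (fun k => fs6 (Nat.add (Nat.succ 185801) k)) 270 = true := by decide +kernel
theorem s6c610 : allBelow (fun k => fs6 (Nat.add (Nat.succ 186071) k)) 270 = true := by decide +kernel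
theorem s6c611 : allBelow (fun k => fs6 (Nat.add (Nat.succ 186341) k)) 257 = true := by decide +kernel
theorem s6c612 : allBelow (fun k => fs6 (Nat.add (Nat.succ 186598) k)) 260 = true := by decide +kernel
theorem s6c613 : allBelow (fun k => fs6 (Nat.add (Nat.succ 186858) k)) 279 = true := by decide +kernel
theorem s6c614 : allBelow (fun k => fs6 (Nat.add (Nat.succ 187137) k)) 282 = true := by decide +kernel
theorem s6c615 : allBelow (fun k => fs6 (Nat.add (Nat.succ 187419) k)) 282 = true := by decide +kernel
theorem s6c616 : allBelow (fun k => fs6 (Nat.add (Nat.succ 187701) k)) 279 = true := by decide +kernel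
theorem s6c617 : allBelow (fun k => fs6 (Nat.add (Nat.succ 187980) k)) 272 = true := by decide +kernel
theorem s6c618 : allBelow (fun k => fs6 (Nat.add (Nat.succ 188252) k)) 277 = true := by decide +kernel
theorem s6c619 : allBelow (fun k => fs6 (Nat.add (Nat.succ 188529) k)) 283 = true := by decide +kernel
theorem s6c620 : allBelow (fun k => fs6 (Nat.add (Nat.succ 188812) k)) 272 = true := by decide +kernel
theorem s6c621 : allBelow (fun k => fs6 (Nat.add (Nat.succ 189084) k)) 271 = true := by decide +kernel
theorem s6c622 : allBelow (fun k => fs6 (Nat.add (Nat.succ 189355) k)) 250 = true := by decide +kernel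
theorem s6c623 : allBelow (fun k => fs6 (Nat.add (Nat.succ 189605) k)) 285 = true := by decide +kernel
theorem s6c624 : allBelow (fun k => fs6 (Nat.add (Nat.succ 189890) k)) 274 = true := by decide +kernel
theorem s6c625 : allBelow (fun k => fs6 (Nat.add (Nat.succ 190164) k)) 275 = true := by decide +kernel
theorem s6c626 : allBelow (fun k => fs6 (Nat.add (Nat.succ 190439) k)) 273 = true := by decide +kernel
theorem s6c627 : allBelow (fun k => fs6 (Nat.add (Nat.succ 190712) k)) 271 = true := by decide +kernel
theorem s6c628 : allBelow (fun k => fs6 (Nat.add (Nat.succ 190983) k)) 268 = true := by decide +kernel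
theorem s6c629 : allBelow (fun k => fs6 (Nat.add (Nat.succ 191251) k)) 280 = true := by decide +kernel
theorem s6c630 : allBelow (fun k => fs6 (Nat.add (Nat.succ 191531) k)) 277 = true := by decide +kernel
theorem s6c631 : allBelow (fun k => fs6 (Nat.add (Nat.succ 191808) k)) 285 = true := by decide +kernel
theorem s6c632 : allBelow (fun k => fs6 (Nat.add (Nat.succ 192093) k)) 279 = true := by decide +kernel
theorem s6c633 : allBelow (fun k => fs6 (Nat.add (Nat.succ 192372) k)) 284 = true := by decide +kernel
theorem s6c634 : allBelow (fun k => fs6 (Nat.add (Nat.succ 192656) k)) 288 = true := by decide +kernel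
theorem s6c635 : allBelow (fun k => fs6 (Nat.add (Nat.succ 192944) k)) 293 = true := by decide +kernel
theorem s6c636 : allBelow (fun k => fs6 (Nat.add (Nat.succ 193237) k)) 267 = true := by decide +kernel
theorem s6c637 : allBelow (fun k => fs6 (Nat.add (Nat.succ 193504) k)) 293 = true := by decide +kernel
theorem s6c638 : allBelow (fun k => fs6 (Nat.add (Nat.succ 193797) k)) 295 = true := by decide +kernel
theorem s6c639 : allBelow (fun k => fs6 (Nat.add (Nat.succ 194092) k)) 285 = true := by decide +kernel
theorem s6c640 : allBelow (fun k => fs6 (Nat.add (Nat.succ 194377) k)) 283 = true := by decide +kernel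
theorem s6c641 : allBelow (fun k => fs6 (Nat.add (Nat.succ 194660) k)) 291 = true := by decide +kernel
theorem s6c642 : allBelow (fun k => fs6 (Nat.add (Nat.succ 194951) k)) 280 = true := by decide +kernel
theorem s6c643 : allBelow (fun k => fs6 (Nat.add (Nat.succ 195231) k)) 292 = true := by decide +kernel
theorem s6c644 : allBelow (fun k => fs6 (Nat.add (Nat.succ 195523) k)) 288 = true := by decide +kernel
theorem s6c645 : allBelow (fun k => fs6 (Nat.add (Nat.succ 195811) k)) 286 = true := by decide +kernel
theorem s6c646 : allBelow (fun k => fs6 (Nat.add (Nat.succ 196097) k)) 272 = true := by decide +kernel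
theorem s6c647 : allBelow (fun k => fs6 (Nat.add (Nat.succ 196369) k)) 287 = true := by decide +kernel
theorem s6c648 : allBelow (fun k => fs6 (Nat.add (Nat.succ 196656) k)) 280 = true := by decide +kernel
theorem s6c649 : allBelow (fun k => fs6 (Nat.add (Nat.succ 196936) k)) 290 = true := by decide +kernel
theorem s6c650 : allBelow (fun k => fs6 (Nat.add (Nat.succ 197226) k)) 291 = true := by decide +kernel
theorem s6c651 : allBelow (fun k => fs6 (Nat.add (Nat.succ 197517) k)) 292 = true := by decide +kernel
theorem s6c652 : allBelow (fun k => fs6 (Nat.add (Nat.succ 197809) k)) 288 = true := by decide +kernel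
theorem s6c653 : allBelow (fun k => fs6 (Nat.add (Nat.succ 198097) k)) 320 = true := by decide +kernel
theorem s6c654 : allBelow (fun k => fs6 (Nat.add (Nat.succ 198417) k)) 273 = true := by decide +kernel
theorem s6c655 : allBelow (fun k => fs6 (Nat.add (Nat.succ 198690) k)) 253 = true := by decide +kernel
theorem s6c656 : allBelow (fun k => fs6 (Nat.add (Nat.succ 198943) k)) 264 = true := by decide +kernel
theorem s6c657 : allBelow (fun k => fs6 (Nat.add (Nat.succ 199207) k)) 261 = true := by decide +kernel
theorem s6c658 : allBelow (fun k => fs6 (Nat.add (Nat.succ 199468) k)) 264 = true := by decide +kernel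
theorem s6c659 : allBelow (fun k => fs6 (Nat.add (Nat.succ 199732) k)) 264 = true := by decide +kernel
theorem s6c660 : allBelow (fun k => fs6 (Nat.add (Nat.succ 199996) k)) 268 = true := by decide +kernel
theorem s6c661 : allBelow (fun k => fs6 (Nat.add (Nat.succ 200264) k)) 260 = true := by decide +kernel
theorem s6c662 : allBelow (fun k => fs6 (Nat.add (Nat.succ 200524) k)) 267 = true := by decide +kernel
theorem s6c663 : allBelow (fun k => fs6 (Nat.add (Nat.succ 200791) k)) 264 = true := by decide +kernel
theorem s6c664 : allBelow (fun k => fs6 (Nat.add (Nat.succ 201055) k)) 250 = true := by decide +kernel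
theorem s6c665 : allBelow (fun k => fs6 (Nat.add (Nat.succ 201305) k)) 256 = true := by decide +kernel
theorem s6c666 : allBelow (fun k => fs6 (Nat.add (Nat.succ 201561) k)) 265 = true := by decide +kernel
theorem s6c667 : allBelow (fun k => fs6 (Nat.add (Nat.succ 201826) k)) 253 = true := by decide +kernel
theorem s6c668 : allBelow (fun k => fs6 (Nat.add (Nat.succ 202079) k)) 258 = true := by decide +kernel
theorem s6c669 : allBelow (fun k => fs6 (Nat.add (Nat.succ 202337) k)) 266 = true := by decide +kernel
theorem s6c670 : allBelow (fun k => fs6 (Nat.add (Nat.succ 202603) k)) 271 = true := by decide +kernel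
theorem s6c671 : allBelow (fun k => fs6 (Nat.add (Nat.succ 202874) k)) 267 = true := by decide +kernel
theorem s6c672 : allBelow (fun k => fs6 (Nat.add (Nat.succ 203141) k)) 264 = true := by decide +kernel
theorem s6c673 : allBelow (fun k => fs6 (Nat.add (Nat.succ 203405) k)) 269 = true := by decide +kernel
theorem s6c674 : allBelow (fun k => fs6 (Nat.add (Nat.succ 203674) k)) 258 = true := by decide +kernel
theorem s6c675 : allBelow (fun k => fs6 (Nat.add (Nat.succ 203932) k)) 258 = true := by decide +kernel
theorem s6c676 : allBelow (fun k => fs6 (Nat.add (Nat.succ 204190) k)) 280 = true := by decide +kernel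
theorem s6c677 : allBelow (fun k => fs6 (Nat.add (Nat.succ 204470) k)) 276 = true := by decide +kernel
theorem s6c678 : allBelow (fun k => fs6 (Nat.add (Nat.succ 204746) k)) 270 = true := by decide +kernel
theorem s6c679 : allBelow (fun k => fs6 (Nat.add (Nat.succ 205016) k)) 275 = true := by decide +kernel
theorem s6c680 : allBelow (fun k => fs6 (Nat.add (Nat.succ 205291) k)) 280 = true := by decide +kernel
theorem s6c681 : allBelow (fun k => fs6 (Nat.add (Nat.succ 205571) k)) 276 = true := by decide +kernel
theorem s6c682 : allBelow (fun k => fs6 (Nat.add (Nat.succ 205847) k)) 285 = true := by decide +kernel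
theorem s6c683 : allBelow (fun k => fs6 (Nat.add (Nat.succ 206132) k)) 274 = true := by decide +kernel
theorem s6c684 : allBelow (fun k => fs6 (Nat.add (Nat.succ 206406) k)) 281 = true := by decide +kernel
theorem s6c685 : allBelow (fun k => fs6 (Nat.add (Nat.succ 206687) k)) 267 = true := by decide +kernel
theorem s6c686 : allBelow (fun k => fs6 (Nat.add (Nat.succ 206954) k)) 277 = true := by decide +kernel
theorem s6c687 : allBelow (fun k => fs6 (Nat.add (Nat.succ 207231) k)) 269 = true := by decide +kernel
theorem s6c688 : allBelow (fun k => fs6 (Nat.add (Nat.succ 207500) k)) 263 = true := by decide +kernel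
theorem s6c689 : allBelow (fun k => fs6 (Nat.add (Nat.succ 207763) k)) 274 = true := by decide +kernel
theorem s6c690 : allBelow (fun k => fs6 (Nat.add (Nat.succ 208037) k)) 277 = true := by decide +kernel
theorem s6c691 : allBelow (fun k => fs6 (Nat.add (Nat.succ 208314) k)) 272 = true := by decide +kernel
theorem s6c692 : allBelow (fun k => fs6 (Nat.add (Nat.succ 208586) k)) 292 = true := by decide +kernel
theorem s6c693 : allBelow (fun k => fs6 (Nat.add (Nat.succ 208878) k)) 273 = true := by decide +kernel
theorem s6c694 : allBelow (fun k => fs6 (Nat.add (Nat.succ 209151) k)) 272 = true := by decide +kernel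
theorem s6c695 : allBelow (fun k => fs6 (Nat.add (Nat.succ 209423) k)) 285 = true := by decide +kernel
theorem s6c696 : allBelow (fun k => fs6 (Nat.add (Nat.succ 209708) k)) 282 = true := by decide +kernel
theorem s6c697 : allBelow (fun k => fs6 (Nat.add (Nat.succ 209990) k)) 291 = true := by decide +kernel
theorem s6c698 : allBelow (fun k => fs6 (Nat.add (Nat.succ 210281) k)) 281 = true := by decide +kernel
theorem s6c699 : allBelow (fun k => fs6 (Nat.add (Nat.succ 210562) k)) 288 = true := by decide +kernel
theorem s6c700 : allBelow (fun k => fs6 (Nat.add (Nat.succ 210850) k)) 272 = true := by decide +kernel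
theorem s6c701 : allBelow (fun k => fs6 (Nat.add (Nat.succ 211122) k)) 270 = true := by decide +kernel
theorem s6c702 : allBelow (fun k => fs6 (Nat.add (Nat.succ 211392) k)) 277 = true := by decide +kernel
theorem s6c703 : allBelow (fun k => fs6 (Nat.add (Nat.succ 211669) k)) 281 = true := by decide +kernel
theorem s6c704 : allBelow (fun k => fs6 (Nat.add (Nat.succ 211950) k)) 282 = true := by decide +kernel
theorem s6c705 : allBelow (fun k => fs6 (Nat.add (Nat.succ 212232) k)) 272 = true := by decide +kernel
theorem s6c706 : allBelow (fun k => fs6 (Nat.add (Nat.succ 212504) k)) 272 = true := by decide +kernel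
theorem s6c707 : allBelow (fun k => fs6 (Nat.add (Nat.succ 212776) k)) 273 = true := by decide +kernel
theorem s6c708 : allBelow (fun k => fs6 (Nat.add (Nat.succ 213049) k)) 281 = true := by decide +kernel
theorem s6c709 : allBelow (fun k => fs6 (Nat.add (Nat.succ 213330) k)) 266 = true := by decide +kernel

end Cfsg.Agent.Lib.Helper35.Fi24a
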