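import Cfsg.Agent.Lib.Helper35.Fi24a.Data

set_option Elab.async false

namespace Cfsg.Agent.Lib.Helper35.Fi24a

open Cfsg.Agent.Lib.Helper35

theorem s6c710 : allBelow (fun k => fs6 (Nat.add (Nat.succ 213596) k)) 276 = true := by decide +kernel
theorem s6c711 : allBelow (fun k => fs6 (Nat.add (Nat.succ 213872) k)) 279 = true := by decide +kernel
theorem s6c712 : allBelow (fun k => fs6 (Nat.add (Nat.succ 214151) k)) 284 = true := by decide +kernel
theorem s6c713 : allBelow (fun k => fs6 (Nat.add (Nat.succ 214435) k)) 288 = true := by decide +kernel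
theorem s6c714 : allBelow (fun k => fs6 (Nat.add (Nat.succ 214723) k)) 283 = true := by decide +kernel
theorem s6c715 : allBelow (fun k => fs6 (Nat.add (Nat.succ 215006) k)) 289 = true := by decide +kernel
theorem s6c716 : allBelow (fun k => fs6 (Nat.add (Nat.succ 215295) k)) 288 = true := by decide +kernel
theorem s6c717 : allBelow (fun k => fs6 (Nat.add (Nat.succ 215583) k)) 282 = true := by decide +kernel
theorem s6c718 : allBelow (fun k => fs6 (Nat.add (Nat.succ 215865) k)) 280 = true := by decide +kernel
theorem s6c719 : allBelow (fun k => fs6 (Nat.add (Nat.succ 216145) k)) 295 = true := by decide +kernel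
theorem s6c720 : allBelow (fun k => fs6 (Nat.add (Nat.succ 216440) k)) 292 = true := by decide +kernel
theorem s6c721 : allBelow (fun k => fs6 (Nat.add (Nat.succ 216732) k)) 279 = true := by decide +kernel
theorem s6c722 : allBelow (fun k => fs6 (Nat.add (Nat.succ 217011) k)) 291 = true := by decide +kernel
theorem s6c723 : allBelow (fun k => fs6 (Nat.add (Nat.succ 217302) k)) 283 = true := by decide +kernel
theorem s6c724 : allBelow (fun k => fs6 (Nat.add (Nat.succ 217585) k)) 281 = true := by decide +kernel
theorem s6c725 : allBelow (fun k => fs6 (Nat.add (Nat.succ 217866) k)) 281 = true := by decide +kernel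
theorem s6c726 : allBelow (fun k => fs6 (Nat.add (Nat.succ 218147) k)) 286 = true := by decide +kernel
theorem s6c727 : allBelow (fun k => fs6 (Nat.add (Nat.succ 218433) k)) 290 = true := by decide +kernel
theorem s6c728 : allBelow (fun k => fs6 (Nat.add (Nat.succ 218723) k)) 279 = true := by decide +kernel
theorem s6c729 : allBelow (fun k => fs6 (Nat.add (Nat.succ 219002) k)) 272 = true := by decide +kernel
theorem s6c730 : allBelow (fun k => fs6 (Nat.add (Nat.succ 219274) k)) 281 = true := by decide +kernel
theorem s6c731 : allBelow (fun k => fs6 (Nat.add (Nat.succ 219555) k)) 292 = true := by decide +kernel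
theorem s6c732 : allBelow (fun k => fs6 (Nat.add (Nat.succ 219847) k)) 298 = true := by decide +kernel
theorem s6c733 : allBelow (fun k => fs6 (Nat.add (Nat.succ 220145) k)) 300 = true := by decide +kernel
theorem s6c734 : allBelow (fun k => fs6 (Nat.add (Nat.succ 220445) k)) 306 = true := by decide +kernel
theorem s6c735 : allBelow (fun k => fs6 (Nat.add (Nat.succ 220751) k)) 308 = true := by decide +kernel
theorem s6c736 : allBelow (fun k => fs6 (Nat.add (Nat.succ 221059) k)) 328 = true := by decide +kernel
theorem s6c737 : allBelow (fun k => fs6 (Nat.add (Nat.succ 221387) k)) 265 = true := by decide +kernel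
theorem s6c738 : allBelow (fun k => fs6 (Nat.add (Nat.succ 221652) k)) 263 = true := by decide +kernel
theorem s6c739 : allBelow (fun k => fs6 (Nat.add (Nat.succ 221915) k)) 261 = true := by decide +kernel
theorem s6c740 : allBelow (fun k => fs6 (Nat.add (Nat.succ 222176) k)) 267 = true := by decide +kernel
theorem s6c741 : allBelow (fun k => fs6 (Nat.add (Nat.succ 222443) k)) 271 = true := by decide +kernel
theorem s6c742 : allBelow (fun k => fs6 (Nat.add (Nat.succ 222714) k)) 263 = true := by decide +kernel
theorem s6c743 : allBelow (fun k => fs6 (Nat.add (Nat.succ 222977) k)) 252 = true := by decide +kernel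
theorem s6c744 : allBelow (fun k => fs6 (Nat.add (Nat.succ 223229) k)) 266 = true := by decide +kernel
theorem s6c745 : allBelow (fun k => fs6 (Nat.add (Nat.succ 223495) k)) 273 = true := by decide +kernel
theorem s6c746 : allBelow (fun k => fs6 (Nat.add (Nat.succ 223768) k)) 256 = true := by decide +kernel
theorem s6c747 : allBelow (fun k => fs6 (Nat.add (Nat.succ 224024) k)) 267 = true := by decide +kernel
theorem s6c748 : allBelow (fun k => fs6 (Nat.add (Nat.succ 224291) k)) 263 = true := by decide +kernel
theorem s6c749 : allBelow (fun k => fs6 (Nat.add (Nat.succ 224554) k)) 273 = true := by decide +kernel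
theorem s6c750 : allBelow (fun k => fs6 (Nat.add (Nat.succ 224827) k)) 266 = true := by decide +kernel
theorem s6c751 : allBelow (fun k => fs6 (Nat.add (Nat.succ 225093) k)) 258 = true := by decide +kernel
theorem s6c752 : allBelow (fun k => fs6 (Nat.add (Nat.succ 225351) k)) 265 = true := by decide +kernel
theorem s6c753 : allBelow (fun k => fs6 (Nat.add (Nat.succ 225616) k)) 275 = true := by decide +kernel
theorem s6c754 : allBelow (fun k => fs6 (Nat.add (Nat.succ 225891) k)) 271 = true := by decide +kernel
theorem s6c755 : allBelow (fun k => fs6 (Nat.add (Nat.succ 226162) k)) 257 = true := by decide +kernel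
theorem s6c756 : allBelow (fun k => fs6 (Nat.add (Nat.succ 226419) k)) 270 = true := by decide +kernel
theorem s6c757 : allBelow (fun k => fs6 (Nat.add (Nat.succ 226689) k)) 267 = true := by decide +kernel
theorem s6c758 : allBelow (fun k => fs6 (Nat.add (Nat.succ 226956) k)) 271 = true := by decide +kernel
theorem s6c759 : allBelow (fun k => fs6 (Nat.add (Nat.succ 227227) k)) 269 = true := by decide +kernel
theorem s6c760 : allBelow (fun k => fs6 (Nat.add (Nat.succ 227496) k)) 274 = true := by decide +kernel
theorem s6c761 : allBelow (fun k => fs6 (Nat.add (Nat.succ 227770) k)) 276 = true := by decide +kernel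
theorem s6c762 : allBelow (fun k => fs6 (Nat.add (Nat.succ 228046) k)) 267 = true := by decide +kernel
theorem s6c763 : allBelow (fun k => fs6 (Nat.add (Nat.succ 228313) k)) 277 = true := by decide +kernel
theorem s6c764 : allBelow (fun k => fs6 (Nat.add (Nat.succ 228590) k)) 283 = true := by decide +kernel
theorem s6c765 : allBelow (fun k => fs6 (Nat.add (Nat.succ 228873) k)) 272 = true := by decide +kernel
theorem s6c766 : allBelow (fun k => fs6 (Nat.add (Nat.succ 229145) k)) 276 = true := by decide +kernel
theorem s6c767 : allBelow (fun k => fs6 (Nat.add (Nat.succ 229421) k)) 278 = true := by decide +kernel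
theorem s6c768 : allBelow (fun k => fs6 (Nat.add (Nat.succ 229699) k)) 278 = true := by decide +kernel
theorem s6c769 : allBelow (fun k => fs6 (Nat.add (Nat.succ 229977) k)) 271 = true := by decide +kernel
theorem s6c770 : allBelow (fun k => fs6 (Nat.add (Nat.succ 230248) k)) 271 = true := by decide +kernel
theorem s6c771 : allBelow (fun k => fs6 (Nat.add (Nat.succ 230519) k)) 266 = true := by decide +kernel
theorem s6c772 : allBelow (fun k => fs6 (Nat.add (Nat.succ 230785) k)) 276 = true := by decide +kernel
theorem s6c773 : allBelow (fun k => fs6 (Nat.add (Nat.succ 231061) k)) 267 = true := by decide +kernel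
theorem s6c774 : allBelow (fun k => fs6 (Nat.add (Nat.succ 231328) k)) 285 = true := by decide +kernel
theorem s6c775 : allBelow (fun k => fs6 (Nat.add (Nat.succ 231613) k)) 290 = true := by decide +kernel
theorem s6c776 : allBelow (fun k => fs6 (Nat.add (Nat.succ 231903) k)) 295 = true := by decide +kernel
theorem s6c777 : allBelow (fun k => fs6 (Nat.add (Nat.succ 232198) k)) 286 = true := by decide +kernel
theorem s6c778 : allBelow (fun k => fs6 (Nat.add (Nat.succ 232484) k)) 280 = true := by decide +kernel
theorem s6c779 : allBelow (fun k => fs6 (Nat.add (Nat.succ 232764) k)) 290 = true := by decide +kernel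
theorem s6c780 : allBelow (fun k => fs6 (Nat.add (Nat.succ 233054) k)) 281 = true := by decide +kernel
theorem s6c781 : allBelow (fun k => fs6 (Nat.add (Nat.succ 233335) k)) 290 = true := by decide +kernel
theorem s6c782 : allBelow (fun k => fs6 (Nat.add (Nat.succ 233625) k)) 287 = true := by decide +kernel
theorem s6c783 : allBelow (fun k => fs6 (Nat.add (Nat.succ 233912) k)) 291 = true := by decide +kernel
theorem s6c784 : allBelow (fun k => fs6 (Nat.add (Nat.succ 234203) k)) 282 = true := by decide +kernel
theorem s6c785 : allBelow (fun k => fs6 (Nat.add (Nat.succ 234485) k)) 269 = true := by decide +kernel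
theorem s6c786 : allBelow (fun k => fs6 (Nat.add (Nat.succ 234754) k)) 271 = true := by decide +kernel
theorem s6c787 : allBelow (fun k => fs6 (Nat.add (Nat.succ 235025) k)) 276 = true := by decide +kernel
theorem s6c788 : allBelow (fun k => fs6 (Nat.add (Nat.succ 235301) k)) 282 = true := by decide +kernel
theorem s6c789 : allBelow (fun k => fs6 (Nat.add (Nat.succ 235583) k)) 281 = true := by decide +kernel
theorem s6c790 : allBelow (fun k => fs6 (Nat.add (Nat.succ 235864) k)) 268 = true := by decide +kernel
theorem s6c791 : allBelow (fun k => fs6 (Nat.add (Nat.succ 236132) k)) 287 = true := by decide +kernel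
theorem s6c792 : allBelow (fun k => fs6 (Nat.add (Nat.succ 236419) k)) 276 = true := by decide +kernel
theorem s6c793 : allBelow (fun k => fs6 (Nat.add (Nat.succ 236695) k)) 276 = true := by decide +kernel
theorem s6c794 : allBelow (fun k => fs6 (Nat.add (Nat.succ 236971) k)) 282 = true := by decide +kernel
theorem s6c795 : allBelow (fun k => fs6 (Nat.add (Nat.succ 237253) k)) 271 = true := by decide +kernel
theorem s6c796 : allBelow (fun k => fs6 (Nat.add (Nat.succ 237524) k)) 277 = true := by decide +kernel
theorem s6c797 : allBelow (fun k => fs6 (Nat.add (Nat.succ 237801) k)) 277 = true := by decide +kernel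
theorem s6c798 : allBelow (fun k => fs6 (Nat.add (Nat.succ 238078) k)) 284 = true := by decide +kernel
theorem s6c799 : allBelow (fun k => fs6 (Nat.add (Nat.succ 238362) k)) 289 = true := by decide +kernel
theorem s6c800 : allBelow (fun k => fs6 (Nat.add (Nat.succ 238651) k)) 284 = true := by decide +kernel
theorem s6c801 : allBelow (fun k => fs6 (Nat.add (Nat.succ 238935) k)) 283 = true := by decide +kernel
theorem s6c802 : allBelow (fun k => fs6 (Nat.add (Nat.succ 239218) k)) 283 = true := by decide +kernel
theorem s6c803 : allBelow (fun k => fs6 (Nat.add (Nat.succ 239501) k)) 288 = true := by decide +kernel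
theorem s6c804 : allBelow (fun k => fs6 (Nat.add (Nat.succ 239789) k)) 282 = true := by decide +kernel
theorem s6c805 : allBelow (fun k => fs6 (Nat.add (Nat.succ 240071) k)) 294 = true := by decide +kernel
theorem s6c806 : allBelow (fun k => fs6 (Nat.add (Nat.succ 240365) k)) 292 = true := by decide +kernel
theorem s6c807 : allBelow (fun k => fs6 (Nat.add (Nat.succ 240657) k)) 284 = true := by decide +kernel
theorem s6c808 : allBelow (fun k => fs6 (Nat.add (Nat.succ 240941) k)) 278 = true := by decide +kernel
theorem s6c809 : allBelow (fun k => fs6 (Nat.add (Nat.succ 241219) k)) 287 = true := by decide +kernel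
theorem s6c810 : allBelow (fun k => fs6 (Nat.add (Nat.succ 241506) k)) 276 = true := by decide +kernel
theorem s6c811 : allBelow (fun k => fs6 (Nat.add (Nat.succ 241782) k)) 282 = true := by decide +kernel
theorem s6c812 : allBelow (fun k => fs6 (Nat.add (Nat.succ 242064) k)) 287 = true := by decide +kernel
theorem s6c813 : allBelow (fun k => fs6 (Nat.add (Nat.succ 242351) k)) 282 = true := by decide +kernel
theorem s6c814 : allBelow (fun k => fs6 (Nat.add (Nat.succ 242633) k)) 281 = true := by decide +kernel
theorem s6c815 : allBelow (fun k => fs6 (Nat.add (Nat.succ 242914) k)) 274 = true := by decide +kernel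
theorem s6c816 : allBelow (fun k => fs6 (Nat.add (Nat.succ 243188) k)) 288 = true := by decide +kernel
theorem s6c817 : allBelow (fun k => fs6 (Nat.add (Nat.succ 243476) k)) 265 = true := by decide +kernel
theorem s6c818 : allBelow (fun k => fs6 (Nat.add (Nat.succ 243741) k)) 290 = true := by decide +kernel
theorem s6c819 : allBelow (fun k => fs6 (Nat.add (Nat.succ 244031) k)) 297 = true := by decide +kernel
theorem s6c820 : allBelow (fun k => fs6 (Nat.add (Nat.succ 244328) k)) 305 = true := by decide +kernel
theorem s6c821 : allBelow (fun k => fs6 (Nat.add (Nat.succ 244633) k)) 297 = true := by decide +kernel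
theorem s6c822 : allBelow (fun k => fs6 (Nat.add (Nat.succ 244930) k)) 311 = true := by decide +kernel
theorem s6c823 : allBelow (fun k => fs6 (Nat.add (Nat.succ 245241) k)) 314 = true := by decide +kernel
theorem s6c824 : allBelow (fun k => fs6 (Nat.add (Nat.succ 245555) k)) 285 = true := by decide +kernel
theorem s6c825 : allBelow (fun k => fs6 (Nat.add (Nat.succ 245840) k)) 263 = true := by decide +kernel
theorem s6c826 : allBelow (fun k => fs6 (Nat.add (Nat.succ 246103) k)) 267 = true := by decide +kernel
theorem s6c827 : allBelow (fun k => fs6 (Nat.add (Nat.succ 246370) k)) 275 = true := by decide +kernel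
theorem s6c828 : allBelow (fun k => fs6 (Nat.add (Nat.succ 246645) k)) 282 = true := by decide +kernel
theorem s6c829 : allBelow (fun k => fs6 (Nat.add (Nat.succ 246927) k)) 258 = true := by decide +kernel
theorem s6c830 : allBelow (fun k => fs6 (Nat.add (Nat.succ 247185) k)) 256 = true := by decide +kernel
theorem s6c831 : allBelow (fun k => fs6 (Nat.add (Nat.succ 247441) k)) 275 = true := by decide +kernel
theorem s6c832 : allBelow (fun k => fs6 (Nat.add (Nat.succ 247716) k)) 275 = true := by decide +kernel
theorem s6c833 : allBelow (fun k => fs6 (Nat.add (Nat.succ 247991) k)) 261 = true := by decide +kernel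
theorem s6c834 : allBelow (fun k => fs6 (Nat.add (Nat.succ 248252) k)) 269 = true := by decide +kernel
theorem s6c835 : allBelow (fun k => fs6 (Nat.add (Nat.succ 248521) k)) 274 = true := by decide +kernel
theorem s6c836 : allBelow (fun k => fs6 (Nat.add (Nat.succ 248795) k)) 280 = true := by decide +kernel
theorem s6c837 : allBelow (fun k => fs6 (Nat.add (Nat.succ 249075) k)) 274 = true := by decide +kernel
theorem s6c838 : allBelow (fun k => fs6 (Nat.add (Nat.succ 249349) k)) 259 = true := by decide +kernel
theorem s6c839 : allBelow (fun k => fs6 (Nat.add (Nat.succ 249608) k)) 265 = true := by decide +kernel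
theorem s6c840 : allBelow (fun k => fs6 (Nat.add (Nat.succ 249873) k)) 278 = true := by decide +kernel
theorem s6c841 : allBelow (fun k => fs6 (Nat.add (Nat.succ 250151) k)) 263 = true := by decide +kernel
theorem s6c842 : allBelow (fun k => fs6 (Nat.add (Nat.succ 250414) k)) 275 = true := by decide +kernel
theorem s6c843 : allBelow (fun k => fs6 (Nat.add (Nat.succ 250689) k)) 271 = true := by decide +kernel
theorem s6c844 : allBelow (fun k => fs6 (Nat.add (Nat.succ 250960) k)) 276 = true := by decide +kernel
theorem s6c845 : allBelow (fun k => fs6 (Nat.add (Nat.succ 251236) k)) 265 = true := by decide +kernel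
theorem s6c846 : allBelow (fun k => fs6 (Nat.add (Nat.succ 251501) k)) 275 = true := by decide +kernel
theorem s6c847 : allBelow (fun k => fs6 (Nat.add (Nat.succ 251776) k)) 279 = true := by decide +kernel
theorem s6c848 : allBelow (fun k => fs6 (Nat.add (Nat.succ 252055) k)) 273 = true := by decide +kernel
theorem s6c849 : allBelow (fun k => fs6 (Nat.add (Nat.succ 252328) k)) 266 = true := by decide +kernel
theorem s6c850 : allBelow (fun k => fs6 (Nat.add (Nat.succ 252594) k)) 279 = true := by decide +kernel
theorem s6c851 : allBelow (fun k => fs6 (Nat.add (Nat.succ 252873) k)) 266 = true := by decide +kernel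
theorem s6c852 : allBelow (fun k => fs6 (Nat.add (Nat.succ 253139) k)) 288 = true := by decide +kernel
theorem s6c853 : allBelow (fun k => fs6 (Nat.add (Nat.succ 253427) k)) 276 = true := by decide +kernel
theorem s6c854 : allBelow (fun k => fs6 (Nat.add (Nat.succ 253703) k)) 273 = true := by decide +kernel
theorem s6c855 : allBelow (fun k => fs6 (Nat.add (Nat.succ 253976) k)) 273 = true := by decide +kernel
theorem s6c856 : allBelow (fun k => fs6 (Nat.add (Nat.succ 254249) k)) 274 = true := by decide +kernel
theorem s6c857 : allBelow (fun k => fs6 (Nat.add (Nat.succ 254523) k)) 276 = true := by decide +kernel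
theorem s6c858 : allBelow (fun k => fs6 (Nat.add (Nat.succ 254799) k)) 279 = true := by decide +kernel
theorem s6c859 : allBelow (fun k => fs6 (Nat.add (Nat.succ 255078) k)) 274 = true := by decide +kernel
theorem s6c860 : allBelow (fun k => fs6 (Nat.add (Nat.succ 255352) k)) 268 = true := by decide +kernel
theorem s6c861 : allBelow (fun k => fs6 (Nat.add (Nat.succ 255620) k)) 279 = true := by decide +kernel
theorem s6c862 : allBelow (fun k => fs6 (Nat.add (Nat.succ 255899) k)) 276 = true := by decide +kernel
theorem s6c863 : allBelow (fun k => fs6 (Nat.add (Nat.succ 256175) k)) 292 = true := by decide +kernel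
theorem s6c864 : allBelow (fun k => fs6 (Nat.add (Nat.succ 256467) k)) 290 = true := by decide +kernel
theorem s6c865 : allBelow (fun k => fs6 (Nat.add (Nat.succ 256757) k)) 291 = true := by decide +kernel
theorem s6c866 : allBelow (fun k => fs6 (Nat.add (Nat.succ 257048) k)) 294 = true := by decide +kernel
theorem s6c867 : allBelow (fun k => fs6 (Nat.add (Nat.succ 257342) k)) 277 = true := by decide +kernel
theorem s6c868 : allBelow (fun k => fs6 (Nat.add (Nat.succ 257619) k)) 292 = true := by decide +kernel
theorem s6c869 : allBelow (fun k => fs6 (Nat.add (Nat.succ 257911) k)) 283 = true := by decide +kernel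
theorem s6c870 : allBelow (fun k => fs6 (Nat.add (Nat.succ 258194) k)) 293 = true := by decide +kernel
theorem s6c871 : allBelow (fun k => fs6 (Nat.add (Nat.succ 258487) k)) 290 = true := by decide +kernel
theorem s6c872 : allBelow (fun k => fs6 (Nat.add (Nat.succ 258777) k)) 287 = true := by decide +kernel
theorem s6c873 : allBelow (fun k => fs6 (Nat.add (Nat.succ 259064) k)) 279 = true := by decide +kernel
theorem s6c874 : allBelow (fun k => fs6 (Nat.add (Nat.succ 259343) k)) 268 = true := by decide +kernel
theorem s6c875 : allBelow (fun k => fs6 (Nat.add (Nat.succ 259611) k)) 272 = true := by decide +kernel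
theorem s6c876 : allBelow (fun k => fs6 (Nat.add (Nat.succ 259883) k)) 275 = true := by decide +kernel
theorem s6c877 : allBelow (fun k => fs6 (Nat.add (Nat.succ 260158) k)) 280 = true := by decide +kernel
theorem s6c878 : allBelow (fun k => fs6 (Nat.add (Nat.succ 260438) k)) 282 = true := by decide +kernel
theorem s6c879 : allBelow (fun k => fs6 (Nat.add (Nat.succ 260720) k)) 284 = true := by decide +kernel
theorem s6c880 : allBelow (fun k => fs6 (Nat.add (Nat.succ 261004) k)) 273 = true := by decide +kernel
theorem s6c881 : allBelow (fun k => fs6 (Nat.add (Nat.succ 261277) k)) 291 = true := by decide +kernel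
theorem s6c882 : allBelow (fun k => fs6 (Nat.add (Nat.succ 261568) k)) 275 = true := by decide +kernel
theorem s6c883 : allBelow (fun k => fs6 (Nat.add (Nat.succ 261843) k)) 278 = true := by decide +kernel
theorem s6c884 : allBelow (fun k => fs6 (Nat.add (Nat.succ 262121) k)) 289 = true := by decide +kernel
theorem s6c885 : allBelow (fun k => fs6 (Nat.add (Nat.succ 262410) k)) 272 = true := by decide +kernel
theorem s6c886 : allBelow (fun k => fs6 (Nat.add (Nat.succ 262682) k)) 268 = true := by decide +kernel
theorem s6c887 : allBelow (fun k => fs6 (Nat.add (Nat.succ 262950) k)) 281 = true := by decide +kernel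
theorem s6c888 : allBelow (fun k => fs6 (Nat.add (Nat.succ 263231) k)) 264 = true := by decide +kernel
theorem s6c889 : allBelow (fun k => fs6 (Nat.add (Nat.succ 263495) k)) 280 = true := by decide +kernel
theorem s6c890 : allBelow (fun k => fs6 (Nat.add (Nat.succ 263775) k)) 282 = true := by decide +kernel
theorem s6c891 : allBelow (fun k => fs6 (Nat.add (Nat.succ 264057) k)) 286 = true := by decide +kernel
theorem s6c892 : allBelow (fun k => fs6 (Nat.add (Nat.succ 264343) k)) 272 = true := by decide +kernel
theorem s6c893 : allBelow (fun k => fs6 (Nat.add (Nat.succ 264615) k)) 287 = true := by decide +kernel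
theorem s6c894 : allBelow (fun k => fs6 (Nat.add (Nat.succ 264902) k)) 274 = true := by decide +kernel
theorem s6c895 : allBelow (fun k => fs6 (Nat.add (Nat.succ 265176) k)) 278 = true := by decide +kernel
theorem s6c896 : allBelow (fun k => fs6 (Nat.add (Nat.succ 265454) k)) 293 = true := by decide +kernel
theorem s6c897 : allBelow (fun k => fs6 (Nat.add (Nat.succ 265747) k)) 280 = true := by decide +kernel
theorem s6c898 : allBelow (fun k => fs6 (Nat.add (Nat.succ 266027) k)) 285 = true := by decide +kernel
theorem s6c899 : allBelow (fun k => fs6 (Nat.add (Nat.succ 266312) k)) 282 = true := by decide +kernel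
theorem s6c900 : allBelow (fun k => fs6 (Nat.add (Nat.succ 266594) k)) 284 = true := by decide +kernel
theorem s6c901 : allBelow (fun k => fs6 (Nat.add (Nat.succ 266878) k)) 275 = true := by decide +kernel
theorem s6c902 : allBelow (fun k => fs6 (Nat.add (Nat.succ 267153) k)) 273 = true := by decide +kernel
theorem s6c903 : allBelow (fun k => fs6 (Nat.add (Nat.succ 267426) k)) 277 = true := by decide +kernel
theorem s6c904 : allBelow (fun k => fs6 (Nat.add (Nat.succ 267703) k)) 285 = true := by decide +kernel
theorem s6c905 : allBelow (fun k => fs6 (Nat.add (Nat.succ 267988) k)) 285 = true := by decide +kernel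
theorem s6c906 : allBelow (fun k => fs6 (Nat.add (Nat.succ 268273) k)) 273 = true := by decide +kernel
theorem s6c907 : allBelow (fun k => fs6 (Nat.add (Nat.succ 268546) k)) 276 = true := by decide +kernel
theorem s6c908 : allBelow (fun k => fs6 (Nat.add (Nat.succ 268822) k)) 273 = true := by decide +kernel
theorem s6c909 : allBelow (fun k => fs6 (Nat.add (Nat.succ 269095) k)) 287 = true := by decide +kernel
theorem s6c910 : allBelow (fun k => fs6 (Nat.add (Nat.succ 269382) k)) 295 = true := by decide +kernel
theorem s6c911 : allBelow (fun k => fs6 (Nat.add (Nat.succ 269677) k)) 308 = true := by decide +kernel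
theorem s6c912 : allBelow (fun k => fs6 (Nat.add (Nat.succ 269985) k)) 305 = true := by decide +kernel
theorem s6c913 : allBelow (fun k => fs6 (Nat.add (Nat.succ 270290) k)) 291 = true := by decide +kernel
theorem s6c914 : allBelow (fun k => fs6 (Nat.add (Nat.succ 270581) k)) 276 = true := by decide +kernel
theorem s6c915 : allBelow (fun k => fs6 (Nat.add (Nat.succ 270857) k)) 275 = true := by decide +kernel
theorem s6c916 : allBelow (fun k => fs6 (Nat.add (Nat.succ 271132) k)) 265 = true := by decide +kernel
theorem s6c917 : allBelow (fun k => fs6 (Nat.add (Nat.succ 271397) k)) 276 = true := by decide +kernel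
theorem s6c918 : allBelow (fun k => fs6 (Nat.add (Nat.succ 271673) k)) 294 = true := by decide +kernel
theorem s6c919 : allBelow (fun k => fs6 (Nat.add (Nat.succ 271967) k)) 283 = true := by decide +kernel
theorem s6c920 : allBelow (fun k => fs6 (Nat.add (Nat.succ 272250) k)) 259 = true := by decide +kernel
theorem s6c921 : allBelow (fun k => fs6 (Nat.add (Nat.succ 272509) k)) 269 = true := by decide +kernel
theorem s6c922 : allBelow (fun k => fs6 (Nat.add (Nat.succ 272778) k)) 279 = true := by decide +kernel
theorem s6c923 : allBelow (fun k => fs6 (Nat.add (Nat.succ 273057) k)) 274 = true := by decide +kernel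
theorem s6c924 : allBelow (fun k => fs6 (Nat.add (Nat.succ 273331) k)) 269 = true := by decide +kernel
theorem s6c925 : allBelow (fun k => fs6 (Nat.add (Nat.succ 273600) k)) 278 = true := by decide +kernel
theorem s6c926 : allBelow (fun k => fs6 (Nat.add (Nat.succ 273878) k)) 284 = true := by decide +kernel
theorem s6c927 : allBelow (fun k => fs6 (Nat.add (Nat.succ 274162) k)) 270 = true := by decide +kernel
theorem s6c928 : allBelow (fun k => fs6 (Nat.add (Nat.succ 274432) k)) 277 = true := by decide +kernel
theorem s6c929 : allBelow (fun k => fs6 (Nat.add (Nat.succ 274709) k)) 259 = true := by decide +kernel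
theorem s6c930 : allBelow (fun k => fs6 (Nat.add (Nat.succ 274968) k)) 258 = true := by decide +kernel
theorem s6c931 : allBelow (fun k => fs6 (Nat.add (Nat.succ 275226) k)) 274 = true := by decide +kernel
theorem s6c932 : allBelow (fun k => fs6 (Nat.add (Nat.succ 275500) k)) 266 = true := by decide +kernel
theorem s6c933 : allBelow (fun k => fs6 (Nat.add (Nat.succ 275766) k)) 279 = true := by decide +kernel
theorem s6c934 : allBelow (fun k => fs6 (Nat.add (Nat.succ 276045) k)) 263 = true := by decide +kernel
theorem s6c935 : allBelow (fun k => fs6 (Nat.add (Nat.succ 276308) k)) 284 = true := by decide +kernel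
theorem s6c936 : allBelow (fun k => fs6 (Nat.add (Nat.succ 276592) k)) 284 = true := by decide +kernel
theorem s6c937 : allBelow (fun k => fs6 (Nat.add (Nat.succ 276876) k)) 273 = true := by decide +kernel
theorem s6c938 : allBelow (fun k => fs6 (Nat.add (Nat.succ 277149) k)) 276 = true := by decide +kernel
theorem s6c939 : allBelow (fun k => fs6 (Nat.add (Nat.succ 277425) k)) 279 = true := by decide +kernel
theorem s6c940 : allBelow (fun k => fs6 (Nat.add (Nat.succ 277704) k)) 271 = true := by decide +kernel
theorem s6c941 : allBelow (fun k => fs6 (Nat.add (Nat.succ 277975) k)) 247 = true := by decide +kernel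
theorem s6c942 : allBelow (fun k => fs6 (Nat.add (Nat.succ 278222) k)) 284 = true := by decide +kernel
theorem s6c943 : allBelow (fun k => fs6 (Nat.add (Nat.succ 278506) k)) 266 = true := by decide +kernel
theorem s6c944 : allBelow (fun k => fs6 (Nat.add (Nat.succ 278772) k)) 290 = true := by decide +kernel
theorem s6c945 : allBelow (fun k => fs6 (Nat.add (Nat.succ 279062) k)) 268 = true := by decide +kernel
theorem s6c946 : allBelow (fun k => fs6 (Nat.add (Nat.succ 279330) k)) 278 = true := by decide +kernel
theorem s6c947 : allBelow (fun k => fs6 (Nat.add (Nat.succ 279608) k)) 271 = true := by decide +kernel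
theorem s6c948 : allBelow (fun k => fs6 (Nat.add (Nat.succ 279879) k)) 270 = true := by decide +kernel
theorem s6c949 : allBelow (fun k => fs6 (Nat.add (Nat.succ 280149) k)) 271 = true := by decide +kernel
theorem s6c950 : allBelow (fun k => fs6 (Nat.add (Nat.succ 280420) k)) 279 = true := by decide +kernel
theorem s6c951 : allBelow (fun k => fs6 (Nat.add (Nat.succ 280699) k)) 272 = true := by decide +kernel
theorem s6c952 : allBelow (fun k => fs6 (Nat.add (Nat.succ 280971) k)) 274 = true := by decide +kernel
theorem s6c953 : allBelow (fun k => fs6 (Nat.add (Nat.succ 281245) k)) 276 = true := by decide +kernel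
theorem s6c954 : allBelow (fun k => fs6 (Nat.add (Nat.succ 281521) k)) 276 = true := by decide +kernel
theorem s6c955 : allBelow (fun k => fs6 (Nat.add (Nat.succ 281797) k)) 297 = true := by decide +kernel
theorem s6c956 : allBelow (fun k => fs6 (Nat.add (Nat.succ 282094) k)) 278 = true := by decide +kernel
theorem s6c957 : allBelow (fun k => fs6 (Nat.add (Nat.succ 282372) k)) 253 = true := by decide +kernel
theorem s6c958 : allBelow (fun k => fs6 (Nat.add (Nat.succ 282625) k)) 297 = true := by decide +kernel
theorem s6c959 : allBelow (fun k => fs6 (Nat.add (Nat.succ 282922) k)) 279 = true := by decide +kernel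
theorem s6c960 : allBelow (fun k => fs6 (Nat.add (Nat.succ 283201) k)) 288 = true := by decide +kernel
theorem s6c961 : allBelow (fun k => fs6 (Nat.add (Nat.succ 283489) k)) 279 = true := by decide +kernel
theorem s6c962 : allBelow (fun k => fs6 (Nat.add (Nat.succ 283768) k)) 278 = true := by decide +kernel
theorem s6c963 : allBelow (fun k => fs6 (Nat.add (Nat.succ 284046) k)) 289 = true := by decide +kernel
theorem s6c964 : allBelow (fun k => fs6 (Nat.add (Nat.succ 284335) k)) 272 = true := by decide +kernel
theorem s6c965 : allBelow (fun k => fs6 (Nat.add (Nat.succ 284607) k)) 274 = true := by decide +kernel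
theorem s6c966 : allBelow (fun k => fs6 (Nat.add (Nat.succ 284881) k)) 263 = true := by decide +kernel
theorem s6c967 : allBelow (fun k => fs6 (Nat.add (Nat.succ 285144) k)) 270 = true := by decide +kernel
theorem s6c968 : allBelow (fun k => fs6 (Nat.add (Nat.succ 285414) k)) 263 = true := by decide +kernel
theorem s6c969 : allBelow (fun k => fs6 (Nat.add (Nat.succ 285677) k)) 278 = true := by decide +kernel
theorem s6c970 : allBelow (fun k => fs6 (Nat.add (Nat.succ 285955) k)) 290 = true := by decide +kernel
theorem s6c971 : allBelow (fun k => fs6 (Nat.add (Nat.succ 286245) k)) 267 = true := by decide +kernel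
theorem s6c972 : allBelow (fun k => fs6 (Nat.add (Nat.succ 286512) k)) 285 = true := by decide +kernel
theorem s6c973 : allBelow (fun k => fs6 (Nat.add (Nat.succ 286797) k)) 283 = true := by decide +kernel
theorem s6c974 : allBelow (fun k => fs6 (Nat.add (Nat.succ 287080) k)) 287 = true := by decide +kernel
theorem s6c975 : allBelow (fun k => fs6 (Nat.add (Nat.succ 287367) k)) 269 = true := by decide +kernel
theorem s6c976 : allBelow (fun k => fs6 (Nat.add (Nat.succ 287636) k)) 275 = true := by decide +kernel
theorem s6c977 : allBelow (fun k => fs6 (Nat.add (Nat.succ 287911) k)) 274 = true := by decide +kernel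
theorem s6c978 : allBelow (fun k => fs6 (Nat.add (Nat.succ 288185) k)) 268 = true := by decide +kernel
theorem s6c979 : allBelow (fun k => fs6 (Nat.add (Nat.succ 288453) k)) 270 = true := by decide +kernel
theorem s6c980 : allBelow (fun k => fs6 (Nat.add (Nat.succ 288723) k)) 280 = true := by decide +kernel
theorem s6c981 : allBelow (fun k => fs6 (Nat.add (Nat.succ 289003) k)) 252 = true := by decide +kernel
theorem s6c982 : allBelow (fun k => fs6 (Nat.add (Nat.succ 289255) k)) 268 = true := by decide +kernel
theorem s6c983 : allBelow (fun k => fs6 (Nat.add (Nat.succ 289523) k)) 280 = true := by decide +kernel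
theorem s6c984 : allBelow (fun k => fs6 (Nat.add (Nat.succ 289803) k)) 260 = true := by decide +kernel
theorem s6c985 : allBelow (fun k => fs6 (Nat.add (Nat.succ 290063) k)) 270 = true := by decide +kernel
theorem s6c986 : allBelow (fun k => fs6 (Nat.add (Nat.succ 290333) k)) 278 = true := by decide +kernel
theorem s6c987 : allBelow (fun k => fs6 (Nat.add (Nat.succ 290611) k)) 272 = true := by decide +kernel
theorem s6c988 : allBelow (fun k => fs6 (Nat.add (Nat.succ 290883) k)) 278 = true := by decide +kernel
theorem s6c989 : allBelow (fun k => fs6 (Nat.add (Nat.succ 291161) k)) 278 = true := by decide +kernel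
theorem s6c990 : allBelow (fun k => fs6 (Nat.add (Nat.succ 291439) k)) 283 = true := by decide +kernel
theorem s6c991 : allBelow (fun k => fs6 (Nat.add (Nat.succ 291722) k)) 279 = true := by decide +kernel
theorem s6c992 : allBelow (fun k => fs6 (Nat.add (Nat.succ 292001) k)) 279 = true := by decide +kernel
theorem s6c993 : allBelow (fun k => fs6 (Nat.add (Nat.succ 292280) k)) 283 = true := by decide +kernel
theorem s6c994 : allBelow (fun k => fs6 (Nat.add (Nat.succ 292563) k)) 273 = true := by decide +kernel
theorem s6c995 : allBelow (fun k => fs6 (Nat.add (Nat.succ 292836) k)) 268 = true := by decide +kernel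
theorem s6c996 : allBelow (fun k => fs6 (Nat.add (Nat.succ 293104) k)) 277 = true := by decide +kernel
theorem s6c997 : allBelow (fun k => fs6 (Nat.add (Nat.succ 293381) k)) 283 = true := by decide +kernel
theorem s6c998 : allBelow (fun k => fs6 (Nat.add (Nat.succ 293664) k)) 269 = true := by decide +kernel
theorem s6c999 : allBelow (fun k => fs6 (Nat.add (Nat.succ 293933) k)) 271 = true := by decide +kernel
theorem s6c1000 : allBelow (fun k => fs6 (Nat.add (Nat.succ 294204) k)) 287 = true := by decide +kernel
theorem s6c1001 : allBelow (fun k => fs6 (Nat.add (Nat.succ 294491) k)) 287 = true := by decide +kernel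
theorem s6c1002 : allBelow (fun k => fs6 (Nat.add (Nat.succ 294778) k)) 291 = true := by decide +kernel
theorem s6c1003 : allBelow (fun k => fs6 (Nat.add (Nat.succ 295069) k)) 303 = true := by decide +kernel
theorem s6c1004 : allBelow (fun k => fs6 (Nat.add (Nat.succ 295372) k)) 281 = true := by decide +kernel
theorem s6c1005 : allBelow (fun k => fs6 (Nat.add (Nat.succ 295653) k)) 251 = true := by decide +kernel
theorem s6c1006 : allBelow (fun k => fs6 (Nat.add (Nat.succ 295904) k)) 262 = true := by decide +kernel
theorem s6c1007 : allBelow (fun k => fs6 (Nat.add (Nat.succ 296166) k)) 281 = true := by decide +kernel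
theorem s6c1008 : allBelow (fun k => fs6 (Nat.add (Nat.succ 296447) k)) 284 = true := by decide +kernel
theorem s6c1009 : allBelow (fun k => fs6 (Nat.add (Nat.succ 296731) k)) 299 = true := by decide +kernel
theorem s6c1010 : allBelow (fun k => fs6 (Nat.add (Nat.succ 297030) k)) 277 = true := by decide +kernel
theorem s6c1011 : allBelow (fun k => fs6 (Nat.add (Nat.succ 297307) k)) 264 = true := by decide +kernel
theorem s6c1012 : allBelow (fun k => fs6 (Nat.add (Nat.succ 297571) k)) 254 = true := by decide +kernel
theorem s6c1013 : allBelow (fun k => fs6 (Nat.add (Nat.succ 297825) k)) 275 = true := by decide +kernel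
theorem s6c1014 : allBelow (fun k => fs6 (Nat.add (Nat.succ 298100) k)) 269 = true := by decide +kernel
theorem s6c1015 : allBelow (fun k => fs6 (Nat.add (Nat.succ 298369) k)) 269 = true := by decide +kernel
theorem s6c1016 : allBelow (fun k => fs6 (Nat.add (Nat.succ 298638) k)) 274 = true := by decide +kernel
theorem s6c1017 : allBelow (fun k => fs6 (Nat.add (Nat.succ 298912) k)) 276 = true := by decide +kernel
theorem s6c1018 : allBelow (fun k => fs6 (Nat.add (Nat.succ 299188) k)) 265 = true := by decide +kernel
theorem s6c1019 : allBelow (fun k => fs6 (Nat.add (Nat.succ 299453) k)) 262 = true := by decide +kernel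
theorem s6c1020 : allBelow (fun k => fs6 (Nat.add (Nat.succ 299715) k)) 253 = true := by decide +kernel
theorem s6c1021 : allBelow (fun k => fs6 (Nat.add (Nat.succ 299968) k)) 253 = true := by decide +kernel
theorem s6c1022 : allBelow (fun k => fs6 (Nat.add (Nat.succ 300221) k)) 269 = true := by decide +kernel
theorem s6c1023 : allBelow (fun k => fs6 (Nat.add (Nat.succ 300490) k)) 260 = true := by decide +kernel
theorem s6c1024 : allBelow (fun k => fs6 (Nat.add (Nat.succ 300750) k)) 275 = true := by decide +kernel
theorem s6c1025 : allBelow (fun k => fs6 (Nat.add (Nat.succ 301025) k)) 266 = true := by decide +kernel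
theorem s6c1026 : allBelow (fun k => fs6 (Nat.add (Nat.succ 301291) k)) 271 = true := by decide +kernel
theorem s6c1027 : allBelow (fun k => fs6 (Nat.add (Nat.succ 301562) k)) 289 = true := by decide +kernel
theorem s6c1028 : allBelow (fun k => fs6 (Nat.add (Nat.succ 301851) k)) 274 = true := by decide +kernel

end Cfsg.Agent.Lib.Helper35.Fi24a
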