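import Cfsg.Agent.Lib.Helper35.Fi24a.Data

set_option Elab.async false

namespace Cfsg.Agent.Lib.Helper35.Fi24a

open Cfsg.Agent.Lib.Helper35

theorem s6c1029 : allBelow (fun k => fs6 (Nat.add (Nat.succ 302125) k)) 266 = true := by decide +kernel
theorem s6c1030 : allBelow (fun k => fs6 (Nat.add (Nat.succ 302391) k)) 266 = true := by decide +kernel
theorem s6c1031 : allBelow (fun k => fs6 (Nat.add (Nat.succ 302657) k)) 276 = true := by decide +kernel
theorem s6c1032 : allBelow (fun k => fs6 (Nat.add (Nat.succ 302933) k)) 241 = true := by decide +kernel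
theorem s6c1033 : allBelow (fun k => fs6 (Nat.add (Nat.succ 303174) k)) 270 = true := by decide +kernel
theorem s6c1034 : allBelow (fun k => fs6 (Nat.add (Nat.succ 303444) k)) 261 = true := by decide +kernel
theorem s6c1035 : allBelow (fun k => fs6 (Nat.add (Nat.succ 303705) k)) 264 = true := by decide +kernel
theorem s6c1036 : allBelow (fun k => fs6 (Nat.add (Nat.succ 303969) k)) 274 = true := by decide +kernel
theorem s6c1037 : allBelow (fun k => fs6 (Nat.add (Nat.succ 304243) k)) 272 = true := by decide +kernel
theorem s6c1038 : allBelow (fun k => fs6 (Nat.add (Nat.succ 304515) k)) 268 = true := by decide +kernel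
theorem s6c1039 : allBelow (fun k => fs6 (Nat.add (Nat.succ 304783) k)) 250 = true := by decide +kernel
theorem s6c1040 : allBelow (fun k => fs6 (Nat.add (Nat.succ 305033) k)) 267 = true := by decide +kernel
theorem s6c1041 : allBelow (fun k => fs6 (Nat.add (Nat.succ 305300) k)) 263 = true := by decide +kernel
theorem s6c1042 : allBelow (fun k => fs6 (Nat.add (Nat.succ 305563) k)) 272 = true := by decide +kernel
theorem s6c1043 : allBelow (fun k => fs6 (Nat.add (Nat.succ 305835) k)) 283 = true := by decide +kernel
theorem s6c1044 : allBelow (fun k => fs6 (Nat.add (Nat.succ 306118) k)) 269 = true := by decide +kernel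
theorem s6c1045 : allBelow (fun k => fs6 (Nat.add (Nat.succ 306387) k)) 284 = true := by decide +kernel
theorem s6c1046 : allBelow (fun k => fs6 (Nat.add (Nat.succ 306671) k)) 271 = true := by decide +kernel
theorem s6c1047 : allBelow (fun k => fs6 (Nat.add (Nat.succ 306942) k)) 232 = true := by decide +kernel
theorem s6c1048 : allBelow (fun k => fs6 (Nat.add (Nat.succ 307174) k)) 267 = true := by decide +kernel
theorem s6c1049 : allBelow (fun k => fs6 (Nat.add (Nat.succ 307441) k)) 290 = true := by decide +kernel
theorem s6c1050 : allBelow (fun k => fs6 (Nat.add (Nat.succ 307731) k)) 273 = true := by decide +kernel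
theorem s6c1051 : allBelow (fun k => fs6 (Nat.add (Nat.succ 308004) k)) 261 = true := by decide +kernel
theorem s6c1052 : allBelow (fun k => fs6 (Nat.add (Nat.succ 308265) k)) 265 = true := by decide +kernel
theorem s6c1053 : allBelow (fun k => fs6 (Nat.add (Nat.succ 308530) k)) 275 = true := by decide +kernel
theorem s6c1054 : allBelow (fun k => fs6 (Nat.add (Nat.succ 308805) k)) 266 = true := by decide +kernel
theorem s6c1055 : allBelow (fun k => fs6 (Nat.add (Nat.succ 309071) k)) 250 = true := by decide +kernel
theorem s6c1056 : allBelow (fun k => fs6 (Nat.add (Nat.succ 309321) k)) 261 = true := by decide +kernel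
theorem s6c1057 : allBelow (fun k => fs6 (Nat.add (Nat.succ 309582) k)) 253 = true := by decide +kernel
theorem s6c1058 : allBelow (fun k => fs6 (Nat.add (Nat.succ 309835) k)) 278 = true := by decide +kernel
theorem s6c1059 : allBelow (fun k => fs6 (Nat.add (Nat.succ 310113) k)) 283 = true := by decide +kernel
theorem s6c1060 : allBelow (fun k => fs6 (Nat.add (Nat.succ 310396) k)) 265 = true := by decide +kernel
theorem s6c1061 : allBelow (fun k => fs6 (Nat.add (Nat.succ 310661) k)) 270 = true := by decide +kernel
theorem s6c1062 : allBelow (fun k => fs6 (Nat.add (Nat.succ 310931) k)) 275 = true := by decide +kernel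
theorem s6c1063 : allBelow (fun k => fs6 (Nat.add (Nat.succ 311206) k)) 270 = true := by decide +kernel
theorem s6c1064 : allBelow (fun k => fs6 (Nat.add (Nat.succ 311476) k)) 270 = true := by decide +kernel
theorem s6c1065 : allBelow (fun k => fs6 (Nat.add (Nat.succ 311746) k)) 268 = true := by decide +kernel
theorem s6c1066 : allBelow (fun k => fs6 (Nat.add (Nat.succ 312014) k)) 258 = true := by decide +kernel
theorem s6c1067 : allBelow (fun k => fs6 (Nat.add (Nat.succ 312272) k)) 266 = true := by decide +kernel
theorem s6c1068 : allBelow (fun k => fs6 (Nat.add (Nat.succ 312538) k)) 273 = true := by decide +kernel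
theorem s6c1069 : allBelow (fun k => fs6 (Nat.add (Nat.succ 312811) k)) 255 = true := by decide +kernel
theorem s6c1070 : allBelow (fun k => fs6 (Nat.add (Nat.succ 313066) k)) 249 = true := by decide +kernel
theorem s6c1071 : allBelow (fun k => fs6 (Nat.add (Nat.succ 313315) k)) 271 = true := by decide +kernel
theorem s6c1072 : allBelow (fun k => fs6 (Nat.add (Nat.succ 313586) k)) 258 = true := by decide +kernel
theorem s6c1073 : allBelow (fun k => fs6 (Nat.add (Nat.succ 313844) k)) 269 = true := by decide +kernel
theorem s6c1074 : allBelow (fun k => fs6 (Nat.add (Nat.succ 314113) k)) 265 = true := by decide +kernel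
theorem s6c1075 : allBelow (fun k => fs6 (Nat.add (Nat.succ 314378) k)) 266 = true := by decide +kernel
theorem s6c1076 : allBelow (fun k => fs6 (Nat.add (Nat.succ 314644) k)) 289 = true := by decide +kernel
theorem s6c1077 : allBelow (fun k => fs6 (Nat.add (Nat.succ 314933) k)) 267 = true := by decide +kernel
theorem s6c1078 : allBelow (fun k => fs6 (Nat.add (Nat.succ 315200) k)) 275 = true := by decide +kernel
theorem s6c1079 : allBelow (fun k => fs6 (Nat.add (Nat.succ 315475) k)) 275 = true := by decide +kernel
theorem s6c1080 : allBelow (fun k => fs6 (Nat.add (Nat.succ 315750) k)) 266 = true := by decide +kernel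
theorem s6c1081 : allBelow (fun k => fs6 (Nat.add (Nat.succ 316016) k)) 267 = true := by decide +kernel
theorem s6c1082 : allBelow (fun k => fs6 (Nat.add (Nat.succ 316283) k)) 268 = true := by decide +kernel
theorem s6c1083 : allBelow (fun k => fs6 (Nat.add (Nat.succ 316551) k)) 268 = true := by decide +kernel
theorem s6c1084 : allBelow (fun k => fs6 (Nat.add (Nat.succ 316819) k)) 288 = true := by decide +kernel
theorem s6c1085 : allBelow (fun k => fs6 (Nat.add (Nat.succ 317107) k)) 272 = true := by decide +kernel
theorem s6c1086 : allBelow (fun k => fs6 (Nat.add (Nat.succ 317379) k)) 281 = true := by decide +kernel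
theorem s6c1087 : allBelow (fun k => fs6 (Nat.add (Nat.succ 317660) k)) 277 = true := by decide +kernel
theorem s6c1088 : allBelow (fun k => fs6 (Nat.add (Nat.succ 317937) k)) 265 = true := by decide +kernel
theorem s6c1089 : allBelow (fun k => fs6 (Nat.add (Nat.succ 318202) k)) 267 = true := by decide +kernel
theorem s6c1090 : allBelow (fun k => fs6 (Nat.add (Nat.succ 318469) k)) 287 = true := by decide +kernel
theorem s6c1091 : allBelow (fun k => fs6 (Nat.add (Nat.succ 318756) k)) 291 = true := by decide +kernel
theorem s6c1092 : allBelow (fun k => fs6 (Nat.add (Nat.succ 319047) k)) 300 = true := by decide +kernel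
theorem s6c1093 : allBelow (fun k => fs6 (Nat.add (Nat.succ 319347) k)) 269 = true := by decide +kernel
theorem s6c1094 : allBelow (fun k => fs6 (Nat.add (Nat.succ 319616) k)) 246 = true := by decide +kernel
theorem s6c1095 : allBelow (fun k => fs6 (Nat.add (Nat.succ 319862) k)) 263 = true := by decide +kernel
theorem s6c1096 : allBelow (fun k => fs6 (Nat.add (Nat.succ 320125) k)) 258 = true := by decide +kernel
theorem s6c1097 : allBelow (fun k => fs6 (Nat.add (Nat.succ 320383) k)) 248 = true := by decide +kernel
theorem s6c1098 : allBelow (fun k => fs6 (Nat.add (Nat.succ 320631) k)) 260 = true := by decide +kernel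
theorem s6c1099 : allBelow (fun k => fs6 (Nat.add (Nat.succ 320891) k)) 251 = true := by decide +kernel
theorem s6c1100 : allBelow (fun k => fs6 (Nat.add (Nat.succ 321142) k)) 249 = true := by decide +kernel
theorem s6c1101 : allBelow (fun k => fs6 (Nat.add (Nat.succ 321391) k)) 248 = true := by decide +kernel
theorem s6c1102 : allBelow (fun k => fs6 (Nat.add (Nat.succ 321639) k)) 249 = true := by decide +kernel
theorem s6c1103 : allBelow (fun k => fs6 (Nat.add (Nat.succ 321888) k)) 254 = true := by decide +kernel
theorem s6c1104 : allBelow (fun k => fs6 (Nat.add (Nat.succ 322142) k)) 254 = true := by decide +kernel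
theorem s6c1105 : allBelow (fun k => fs6 (Nat.add (Nat.succ 322396) k)) 257 = true := by decide +kernel
theorem s6c1106 : allBelow (fun k => fs6 (Nat.add (Nat.succ 322653) k)) 271 = true := by decide +kernel
theorem s6c1107 : allBelow (fun k => fs6 (Nat.add (Nat.succ 322924) k)) 256 = true := by decide +kernel
theorem s6c1108 : allBelow (fun k => fs6 (Nat.add (Nat.succ 323180) k)) 265 = true := by decide +kernel
theorem s6c1109 : allBelow (fun k => fs6 (Nat.add (Nat.succ 323445) k)) 262 = true := by decide +kernel
theorem s6c1110 : allBelow (fun k => fs6 (Nat.add (Nat.succ 323707) k)) 268 = true := by decide +kernel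
theorem s6c1111 : allBelow (fun k => fs6 (Nat.add (Nat.succ 323975) k)) 250 = true := by decide +kernel
theorem s6c1112 : allBelow (fun k => fs6 (Nat.add (Nat.succ 324225) k)) 251 = true := by decide +kernel
theorem s6c1113 : allBelow (fun k => fs6 (Nat.add (Nat.succ 324476) k)) 252 = true := by decide +kernel
theorem s6c1114 : allBelow (fun k => fs6 (Nat.add (Nat.succ 324728) k)) 259 = true := by decide +kernel
theorem s6c1115 : allBelow (fun k => fs6 (Nat.add (Nat.succ 324987) k)) 243 = true := by decide +kernel
theorem s6c1116 : allBelow (fun k => fs6 (Nat.add (Nat.succ 325230) k)) 270 = true := by decide +kernel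
theorem s6c1117 : allBelow (fun k => fs6 (Nat.add (Nat.succ 325500) k)) 271 = true := by decide +kernel
theorem s6c1118 : allBelow (fun k => fs6 (Nat.add (Nat.succ 325771) k)) 243 = true := by decide +kernel
theorem s6c1119 : allBelow (fun k => fs6 (Nat.add (Nat.succ 326014) k)) 236 = true := by decide +kernel
theorem s6c1120 : allBelow (fun k => fs6 (Nat.add (Nat.succ 326250) k)) 258 = true := by decide +kernel
theorem s6c1121 : allBelow (fun k => fs6 (Nat.add (Nat.succ 326508) k)) 278 = true := by decide +kernel
theorem s6c1122 : allBelow (fun k => fs6 (Nat.add (Nat.succ 326786) k)) 252 = true := by decide +kernel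
theorem s6c1123 : allBelow (fun k => fs6 (Nat.add (Nat.succ 327038) k)) 265 = true := by decide +kernel
theorem s6c1124 : allBelow (fun k => fs6 (Nat.add (Nat.succ 327303) k)) 259 = true := by decide +kernel
theorem s6c1125 : allBelow (fun k => fs6 (Nat.add (Nat.succ 327562) k)) 237 = true := by decide +kernel
theorem s6c1126 : allBelow (fun k => fs6 (Nat.add (Nat.succ 327799) k)) 286 = true := by decide +kernel
theorem s6c1127 : allBelow (fun k => fs6 (Nat.add (Nat.succ 328085) k)) 263 = true := by decide +kernel
theorem s6c1128 : allBelow (fun k => fs6 (Nat.add (Nat.succ 328348) k)) 261 = true := by decide +kernel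
theorem s6c1129 : allBelow (fun k => fs6 (Nat.add (Nat.succ 328609) k)) 256 = true := by decide +kernel
theorem s6c1130 : allBelow (fun k => fs6 (Nat.add (Nat.succ 328865) k)) 256 = true := by decide +kernel
theorem s6c1131 : allBelow (fun k => fs6 (Nat.add (Nat.succ 329121) k)) 252 = true := by decide +kernel
theorem s6c1132 : allBelow (fun k => fs6 (Nat.add (Nat.succ 329373) k)) 252 = true := by decide +kernel
theorem s6c1133 : allBelow (fun k => fs6 (Nat.add (Nat.succ 329625) k)) 271 = true := by decide +kernel
theorem s6c1134 : allBelow (fun k => fs6 (Nat.add (Nat.succ 329896) k)) 263 = true := by decide +kernel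
theorem s6c1135 : allBelow (fun k => fs6 (Nat.add (Nat.succ 330159) k)) 262 = true := by decide +kernel
theorem s6c1136 : allBelow (fun k => fs6 (Nat.add (Nat.succ 330421) k)) 270 = true := by decide +kernel
theorem s6c1137 : allBelow (fun k => fs6 (Nat.add (Nat.succ 330691) k)) 255 = true := by decide +kernel
theorem s6c1138 : allBelow (fun k => fs6 (Nat.add (Nat.succ 330946) k)) 269 = true := by decide +kernel
theorem s6c1139 : allBelow (fun k => fs6 (Nat.add (Nat.succ 331215) k)) 250 = true := by decide +kernel
theorem s6c1140 : allBelow (fun k => fs6 (Nat.add (Nat.succ 331465) k)) 255 = true := by decide +kernel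
theorem s6c1141 : allBelow (fun k => fs6 (Nat.add (Nat.succ 331720) k)) 276 = true := by decide +kernel
theorem s6c1142 : allBelow (fun k => fs6 (Nat.add (Nat.succ 331996) k)) 246 = true := by decide +kernel
theorem s6c1143 : allBelow (fun k => fs6 (Nat.add (Nat.succ 332242) k)) 258 = true := by decide +kernel
theorem s6c1144 : allBelow (fun k => fs6 (Nat.add (Nat.succ 332500) k)) 257 = true := by decide +kernel
theorem s6c1145 : allBelow (fun k => fs6 (Nat.add (Nat.succ 332757) k)) 258 = true := by decide +kernel
theorem s6c1146 : allBelow (fun k => fs6 (Nat.add (Nat.succ 333015) k)) 275 = true := by decide +kernel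
theorem s6c1147 : allBelow (fun k => fs6 (Nat.add (Nat.succ 333290) k)) 259 = true := by decide +kernel
theorem s6c1148 : allBelow (fun k => fs6 (Nat.add (Nat.succ 333549) k)) 261 = true := by decide +kernel
theorem s6c1149 : allBelow (fun k => fs6 (Nat.add (Nat.succ 333810) k)) 255 = true := by decide +kernel
theorem s6c1150 : allBelow (fun k => fs6 (Nat.add (Nat.succ 334065) k)) 266 = true := by decide +kernel
theorem s6c1151 : allBelow (fun k => fs6 (Nat.add (Nat.succ 334331) k)) 273 = true := by decide +kernel
theorem s6c1152 : allBelow (fun k => fs6 (Nat.add (Nat.succ 334604) k)) 260 = true := by decide +kernel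
theorem s6c1153 : allBelow (fun k => fs6 (Nat.add (Nat.succ 334864) k)) 269 = true := by decide +kernel
theorem s6c1154 : allBelow (fun k => fs6 (Nat.add (Nat.succ 335133) k)) 276 = true := by decide +kernel
theorem s6c1155 : allBelow (fun k => fs6 (Nat.add (Nat.succ 335409) k)) 281 = true := by decide +kernel
theorem s6c1156 : allBelow (fun k => fs6 (Nat.add (Nat.succ 335690) k)) 286 = true := by decide +kernel
theorem s6c1157 : allBelow (fun k => fs6 (Nat.add (Nat.succ 335976) k)) 281 = true := by decide +kernel
theorem s6c1158 : allBelow (fun k => fs6 (Nat.add (Nat.succ 336257) k)) 264 = true := by decide +kernel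
theorem s6c1159 : allBelow (fun k => fs6 (Nat.add (Nat.succ 336521) k)) 231 = true := by decide +kernel
theorem s6c1160 : allBelow (fun k => fs6 (Nat.add (Nat.succ 336752) k)) 250 = true := by decide +kernel
theorem s6c1161 : allBelow (fun k => fs6 (Nat.add (Nat.succ 337002) k)) 238 = true := by decide +kernel
theorem s6c1162 : allBelow (fun k => fs6 (Nat.add (Nat.succ 337240) k)) 248 = true := by decide +kernel
theorem s6c1163 : allBelow (fun k => fs6 (Nat.add (Nat.succ 337488) k)) 242 = true := by decide +kernel
theorem s6c1164 : allBelow (fun k => fs6 (Nat.add (Nat.succ 337730) k)) 236 = true := by decide +kernel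
theorem s6c1165 : allBelow (fun k => fs6 (Nat.add (Nat.succ 337966) k)) 252 = true := by decide +kernel
theorem s6c1166 : allBelow (fun k => fs6 (Nat.add (Nat.succ 338218) k)) 242 = true := by decide +kernel
theorem s6c1167 : allBelow (fun k => fs6 (Nat.add (Nat.succ 338460) k)) 253 = true := by decide +kernel
theorem s6c1168 : allBelow (fun k => fs6 (Nat.add (Nat.succ 338713) k)) 254 = true := by decide +kernel
theorem s6c1169 : allBelow (fun k => fs6 (Nat.add (Nat.succ 338967) k)) 241 = true := by decide +kernel
theorem s6c1170 : allBelow (fun k => fs6 (Nat.add (Nat.succ 339208) k)) 249 = true := by decide +kernel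
theorem s6c1171 : allBelow (fun k => fs6 (Nat.add (Nat.succ 339457) k)) 245 = true := by decide +kernel
theorem s6c1172 : allBelow (fun k => fs6 (Nat.add (Nat.succ 339702) k)) 252 = true := by decide +kernel
theorem s6c1173 : allBelow (fun k => fs6 (Nat.add (Nat.succ 339954) k)) 255 = true := by decide +kernel
theorem s6c1174 : allBelow (fun k => fs6 (Nat.add (Nat.succ 340209) k)) 240 = true := by decide +kernel
theorem s6c1175 : allBelow (fun k => fs6 (Nat.add (Nat.succ 340449) k)) 245 = true := by decide +kernel
theorem s6c1176 : allBelow (fun k => fs6 (Nat.add (Nat.succ 340694) k)) 227 = true := by decide +kernel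
theorem s6c1177 : allBelow (fun k => fs6 (Nat.add (Nat.succ 340921) k)) 250 = true := by decide +kernel
theorem s6c1178 : allBelow (fun k => fs6 (Nat.add (Nat.succ 341171) k)) 248 = true := by decide +kernel
theorem s6c1179 : allBelow (fun k => fs6 (Nat.add (Nat.succ 341419) k)) 258 = true := by decide +kernel
theorem s6c1180 : allBelow (fun k => fs6 (Nat.add (Nat.succ 341677) k)) 239 = true := by decide +kernel
theorem s6c1181 : allBelow (fun k => fs6 (Nat.add (Nat.succ 341916) k)) 280 = true := by decide +kernel
theorem s6c1182 : allBelow (fun k => fs6 (Nat.add (Nat.succ 342196) k)) 251 = true := by decide +kernel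
theorem s6c1183 : allBelow (fun k => fs6 (Nat.add (Nat.succ 342447) k)) 251 = true := by decide +kernel
theorem s6c1184 : allBelow (fun k => fs6 (Nat.add (Nat.succ 342698) k)) 251 = true := by decide +kernel
theorem s6c1185 : allBelow (fun k => fs6 (Nat.add (Nat.succ 342949) k)) 221 = true := by decide +kernel
theorem s6c1186 : allBelow (fun k => fs6 (Nat.add (Nat.succ 343170) k)) 266 = true := by decide +kernel
theorem s6c1187 : allBelow (fun k => fs6 (Nat.add (Nat.succ 343436) k)) 251 = true := by decide +kernel
theorem s6c1188 : allBelow (fun k => fs6 (Nat.add (Nat.succ 343687) k)) 251 = true := by decide +kernel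
theorem s6c1189 : allBelow (fun k => fs6 (Nat.add (Nat.succ 343938) k)) 249 = true := by decide +kernel
theorem s6c1190 : allBelow (fun k => fs6 (Nat.add (Nat.succ 344187) k)) 251 = true := by decide +kernel
theorem s6c1191 : allBelow (fun k => fs6 (Nat.add (Nat.succ 344438) k)) 260 = true := by decide +kernel
theorem s6c1192 : allBelow (fun k => fs6 (Nat.add (Nat.succ 344698) k)) 248 = true := by decide +kernel
theorem s6c1193 : allBelow (fun k => fs6 (Nat.add (Nat.succ 344946) k)) 260 = true := by decide +kernel
theorem s6c1194 : allBelow (fun k => fs6 (Nat.add (Nat.succ 345206) k)) 252 = true := by decide +kernel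
theorem s6c1195 : allBelow (fun k => fs6 (Nat.add (Nat.succ 345458) k)) 257 = true := by decide +kernel
theorem s6c1196 : allBelow (fun k => fs6 (Nat.add (Nat.succ 345715) k)) 260 = true := by decide +kernel
theorem s6c1197 : allBelow (fun k => fs6 (Nat.add (Nat.succ 345975) k)) 248 = true := by decide +kernel
theorem s6c1198 : allBelow (fun k => fs6 (Nat.add (Nat.succ 346223) k)) 275 = true := by decide +kernel
theorem s6c1199 : allBelow (fun k => fs6 (Nat.add (Nat.succ 346498) k)) 267 = true := by decide +kernel
theorem s6c1200 : allBelow (fun k => fs6 (Nat.add (Nat.succ 346765) k)) 271 = true := by decide +kernel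
theorem s6c1201 : allBelow (fun k => fs6 (Nat.add (Nat.succ 347036) k)) 257 = true := by decide +kernel
theorem s6c1202 : allBelow (fun k => fs6 (Nat.add (Nat.succ 347293) k)) 231 = true := by decide +kernel
theorem s6c1203 : allBelow (fun k => fs6 (Nat.add (Nat.succ 347524) k)) 228 = true := by decide +kernel
theorem s6c1204 : allBelow (fun k => fs6 (Nat.add (Nat.succ 347752) k)) 239 = true := by decide +kernel
theorem s6c1205 : allBelow (fun k => fs6 (Nat.add (Nat.succ 347991) k)) 223 = true := by decide +kernel
theorem s6c1206 : allBelow (fun k => fs6 (Nat.add (Nat.succ 348214) k)) 218 = true := by decide +kernel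
theorem s6c1207 : allBelow (fun k => fs6 (Nat.add (Nat.succ 348432) k)) 245 = true := by decide +kernel
theorem s6c1208 : allBelow (fun k => fs6 (Nat.add (Nat.succ 348677) k)) 228 = true := by decide +kernel
theorem s6c1209 : allBelow (fun k => fs6 (Nat.add (Nat.succ 348905) k)) 238 = true := by decide +kernel
theorem s6c1210 : allBelow (fun k => fs6 (Nat.add (Nat.succ 349143) k)) 247 = true := by decide +kernel
theorem s6c1211 : allBelow (fun k => fs6 (Nat.add (Nat.succ 349390) k)) 193 = true := by decide +kernel
theorem s6c1212 : allBelow (fun k => fs6 (Nat.add (Nat.succ 349583) k)) 225 = true := by decide +kernel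
theorem s6c1213 : allBelow (fun k => fs6 (Nat.add (Nat.succ 349808) k)) 235 = true := by decide +kernel
theorem s6c1214 : allBelow (fun k => fs6 (Nat.add (Nat.succ 350043) k)) 249 = true := by decide +kernel
theorem s6c1215 : allBelow (fun k => fs6 (Nat.add (Nat.succ 350292) k)) 268 = true := by decide +kernel
theorem s6c1216 : allBelow (fun k => fs6 (Nat.add (Nat.succ 350560) k)) 256 = true := by decide +kernel
theorem s6c1217 : allBelow (fun k => fs6 (Nat.add (Nat.succ 350816) k)) 249 = true := by decide +kernel
theorem s6c1218 : allBelow (fun k => fs6 (Nat.add (Nat.succ 351065) k)) 237 = true := by decide +kernel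
theorem s6c1219 : allBelow (fun k => fs6 (Nat.add (Nat.succ 351302) k)) 241 = true := by decide +kernel
theorem s6c1220 : allBelow (fun k => fs6 (Nat.add (Nat.succ 351543) k)) 250 = true := by decide +kernel
theorem s6c1221 : allBelow (fun k => fs6 (Nat.add (Nat.succ 351793) k)) 253 = true := by decide +kernel
theorem s6c1222 : allBelow (fun k => fs6 (Nat.add (Nat.succ 352046) k)) 251 = true := by decide +kernel
theorem s6c1223 : allBelow (fun k => fs6 (Nat.add (Nat.succ 352297) k)) 247 = true := by decide +kernel
theorem s6c1224 : allBelow (fun k => fs6 (Nat.add (Nat.succ 352544) k)) 248 = true := by decide +kernel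
theorem s6c1225 : allBelow (fun k => fs6 (Nat.add (Nat.succ 352792) k)) 257 = true := by decide +kernel
theorem s6c1226 : allBelow (fun k => fs6 (Nat.add (Nat.succ 353049) k)) 224 = true := by decide +kernel
theorem s6c1227 : allBelow (fun k => fs6 (Nat.add (Nat.succ 353273) k)) 222 = true := by decide +kernel
theorem s6c1228 : allBelow (fun k => fs6 (Nat.add (Nat.succ 353495) k)) 192 = true := by decide +kernel
theorem s6c1229 : allBelow (fun k => fs6 (Nat.add (Nat.succ 353687) k)) 224 = true := by decide +kernel
theorem s6c1230 : allBelow (fun k => fs6 (Nat.add (Nat.succ 353911) k)) 181 = true := by decide +kernel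
theorem s6c1231 : allBelow (fun k => fs6 (Nat.add (Nat.succ 354092) k)) 234 = true := by decide +kernel
theorem s6c1232 : allBelow (fun k => fs6 (Nat.add (Nat.succ 354326) k)) 220 = true := by decide +kernel
theorem s6c1233 : allBelow (fun k => fs6 (Nat.add (Nat.succ 354546) k)) 240 = true := by decide +kernel
theorem s6c1234 : allBelow (fun k => fs6 (Nat.add (Nat.succ 354786) k)) 258 = true := by decide +kernel
theorem s6c1235 : allBelow (fun k => fs6 (Nat.add (Nat.succ 355044) k)) 224 = true := by decide +kernel
theorem s6c1236 : allBelow (fun k => fs6 (Nat.add (Nat.succ 355268) k)) 241 = true := by decide +kernel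
theorem s6c1237 : allBelow (fun k => fs6 (Nat.add (Nat.succ 355509) k)) 166 = true := by decide +kernel
theorem s6c1238 : allBelow (fun k => fs6 (Nat.add (Nat.succ 355675) k)) 210 = true := by decide +kernel
theorem s6c1239 : allBelow (fun k => fs6 (Nat.add (Nat.succ 355885) k)) 197 = true := by decide +kernel
theorem s6c1240 : allBelow (fun k => fs6 (Nat.add (Nat.succ 356082) k)) 190 = true := by decide +kernel
theorem s6c1241 : allBelow (fun k => fs6 (Nat.add (Nat.succ 356272) k)) 217 = true := by decide +kernel
theorem s6c1242 : allBelow (fun k => fs6 (Nat.add (Nat.succ 356489) k)) 238 = true := by decide +kernel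
theorem s6c1243 : allBelow (fun k => fs6 (Nat.add (Nat.succ 356727) k)) 116 = true := by decide +kernel
theorem s6c1244 : allBelow (fun k => fs6 (Nat.add (Nat.succ 356843) k)) 161 = true := by decide +kernel
theorem s6c1245 : allBelow (fun k => fs6 (Nat.add (Nat.succ 357004) k)) 195 = true := by decide +kernel
theorem s6c1246 : allBelow (fun k => fs6 (Nat.add (Nat.succ 357199) k)) 154 = true := by decide +kernel
theorem s6c1247 : allBelow (fun k => fs6 (Nat.add (Nat.succ 357353) k)) 112 = true := by decide +kernel
theorem s7c0 : allBelow (fun k => fs7 (Nat.add (Nat.succ 0) k)) 257 = true := by decide +kernel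
theorem s7c1 : allBelow (fun k => fs7 (Nat.add (Nat.succ 257) k)) 284 = true := by decide +kernel
theorem s7c2 : allBelow (fun k => fs7 (Nat.add (Nat.succ 541) k)) 269 = true := by decide +kernel
theorem s7c3 : allBelow (fun k => fs7 (Nat.add (Nat.succ 810) k)) 267 = true := by decide +kernel
theorem s7c4 : allBelow (fun k => fs7 (Nat.add (Nat.succ 1077) k)) 266 = true := by decide +kernel
theorem s7c5 : allBelow (fun k => fs7 (Nat.add (Nat.succ 1343) k)) 277 = true := by decide +kernel
theorem s7c6 : allBelow (fun k => fs7 (Nat.add (Nat.succ 1620) k)) 297 = true := by decide +kernel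
theorem s7c7 : allBelow (fun k => fs7 (Nat.add (Nat.succ 1917) k)) 278 = true := by decide +kernel
theorem s7c8 : allBelow (fun k => fs7 (Nat.add (Nat.succ 2195) k)) 298 = true := by decide +kernel
theorem s7c9 : allBelow (fun k => fs7 (Nat.add (Nat.succ 2493) k)) 290 = true := by decide +kernel
theorem s7c10 : allBelow (fun k => fs7 (Nat.add (Nat.succ 2783) k)) 290 = true := by decide +kernel
theorem s7c11 : allBelow (fun k => fs7 (Nat.add (Nat.succ 3073) k)) 306 = true := by decide +kernel
theorem s7c12 : allBelow (fun k => fs7 (Nat.add (Nat.succ 3379) k)) 303 = true := by decide +kernel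
theorem s7c13 : allBelow (fun k => fs7 (Nat.add (Nat.succ 3682) k)) 290 = true := by decide +kernel
theorem s7c14 : allBelow (fun k => fs7 (Nat.add (Nat.succ 3972) k)) 286 = true := by decide +kernel
theorem s7c15 : allBelow (fun k => fs7 (Nat.add (Nat.succ 4258) k)) 314 = true := by decide +kernel
theorem s7c16 : allBelow (fun k => fs7 (Nat.add (Nat.succ 4572) k)) 291 = true := by decide +kernel
theorem s7c17 : allBelow (fun k => fs7 (Nat.add (Nat.succ 4863) k)) 328 = true := by decide +kernel
theorem s7c18 : allBelow (fun k => fs7 (Nat.add (Nat.succ 5191) k)) 297 = true := by decide +kernel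
theorem s7c19 : allBelow (fun k => fs7 (Nat.add (Nat.succ 5488) k)) 296 = true := by decide +kernel
theorem s7c20 : allBelow (fun k => fs7 (Nat.add (Nat.succ 5784) k)) 313 = true := by decide +kernel
theorem s7c21 : allBelow (fun k => fs7 (Nat.add (Nat.succ 6097) k)) 297 = true := by decide +kernel
theorem s7c22 : allBelow (fun k => fs7 (Nat.add (Nat.succ 6394) k)) 301 = true := by decide +kernel
theorem s7c23 : allBelow (fun k => fs7 (Nat.add (Nat.succ 6695) k)) 331 = true := by decide +kernel
theorem s7c24 : allBelow (fun k => fs7 (Nat.add (Nat.succ 7026) k)) 301 = true := by decide +kernel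
theorem s7c25 : allBelow (fun k => fs7 (Nat.add (Nat.succ 7327) k)) 314 = true := by decide +kernel
theorem s7c26 : allBelow (fun k => fs7 (Nat.add (Nat.succ 7641) k)) 299 = true := by decide +kernel
theorem s7c27 : allBelow (fun k => fs7 (Nat.add (Nat.succ 7940) k)) 279 = true := by decide +kernel
theorem s7c28 : allBelow (fun k => fs7 (Nat.add (Nat.succ 8219) k)) 346 = true := by decide +kernel
theorem s7c29 : allBelow (fun k => fs7 (Nat.add (Nat.succ 8565) k)) 285 = true := by decide +kernel
theorem s7c30 : allBelow (fun k => fs7 (Nat.add (Nat.succ 8850) k)) 312 = true := by decide +kernel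
theorem s7c31 : allBelow (fun k => fs7 (Nat.add (Nat.succ 9162) k)) 305 = true := by decide +kernel
theorem s7c32 : allBelow (fun k => fs7 (Nat.add (Nat.succ 9467) k)) 362 = true := by decide +kernel
theorem s7c33 : allBelow (fun k => fs7 (Nat.add (Nat.succ 9829) k)) 302 = true := by decide +kernel
theorem s7c34 : allBelow (fun k => fs7 (Nat.add (Nat.succ 10131) k)) 303 = true := by decide +kernel
theorem s7c35 : allBelow (fun k => fs7 (Nat.add (Nat.succ 10434) k)) 291 = true := by decide +kernel
theorem s7c36 : allBelow (fun k => fs7 (Nat.add (Nat.succ 10725) k)) 281 = true := by decide +kernel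
theorem s7c37 : allBelow (fun k => fs7 (Nat.add (Nat.succ 11006) k)) 284 = true := by decide +kernel
theorem s7c38 : allBelow (fun k => fs7 (Nat.add (Nat.succ 11290) k)) 290 = true := by decide +kernel
theorem s7c39 : allBelow (fun k => fs7 (Nat.add (Nat.succ 11580) k)) 279 = true := by decide +kernel
theorem s7c40 : allBelow (fun k => fs7 (Nat.add (Nat.succ 11859) k)) 296 = true := by decide +kernel
theorem s7c41 : allBelow (fun k => fs7 (Nat.add (Nat.succ 12155) k)) 282 = true := by decide +kernel
theorem s7c42 : allBelow (fun k => fs7 (Nat.add (Nat.succ 12437) k)) 317 = true := by decide +kernel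
theorem s7c43 : allBelow (fun k => fs7 (Nat.add (Nat.succ 12754) k)) 288 = true := by decide +kernel
theorem s7c44 : allBelow (fun k => fs7 (Nat.add (Nat.succ 13042) k)) 286 = true := by decide +kernel
theorem s7c45 : allBelow (fun k => fs7 (Nat.add (Nat.succ 13328) k)) 304 = true := by decide +kernel
theorem s7c46 : allBelow (fun k => fs7 (Nat.add (Nat.succ 13632) k)) 285 = true := by decide +kernel
theorem s7c47 : allBelow (fun k => fs7 (Nat.add (Nat.succ 13917) k)) 284 = true := by decide +kernel
theorem s7c48 : allBelow (fun k => fs7 (Nat.add (Nat.succ 14201) k)) 300 = true := by decide +kernel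
theorem s7c49 : allBelow (fun k => fs7 (Nat.add (Nat.succ 14501) k)) 290 = true := by decide +kernel
theorem s7c50 : allBelow (fun k => fs7 (Nat.add (Nat.succ 14791) k)) 286 = true := by decide +kernel
theorem s7c51 : allBelow (fun k => fs7 (Nat.add (Nat.succ 15077) k)) 290 = true := by decide +kernel
theorem s7c52 : allBelow (fun k => fs7 (Nat.add (Nat.succ 15367) k)) 296 = true := by decide +kernel
theorem s7c53 : allBelow (fun k => fs7 (Nat.add (Nat.succ 15663) k)) 267 = true := by decide +kernel
theorem s7c54 : allBelow (fun k => fs7 (Nat.add (Nat.succ 15930) k)) 318 = true := by decide +kernel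
theorem s7c55 : allBelow (fun k => fs7 (Nat.add (Nat.succ 16248) k)) 353 = true := by decide +kernel
theorem s7c56 : allBelow (fun k => fs7 (Nat.add (Nat.succ 16601) k)) 285 = true := by decide +kernel
theorem s7c57 : allBelow (fun k => fs7 (Nat.add (Nat.succ 16886) k)) 303 = true := by decide +kernel
theorem s7c58 : allBelow (fun k => fs7 (Nat.add (Nat.succ 17189) k)) 318 = true := by decide +kernel
theorem s7c59 : allBelow (fun k => fs7 (Nat.add (Nat.succ 17507) k)) 286 = true := by decide +kernel
theorem s7c60 : allBelow (fun k => fs7 (Nat.add (Nat.succ 17793) k)) 275 = true := by decide +kernel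
theorem s7c61 : allBelow (fun k => fs7 (Nat.add (Nat.succ 18068) k)) 303 = true := by decide +kernel
theorem s7c62 : allBelow (fun k => fs7 (Nat.add (Nat.succ 18371) k)) 283 = true := by decide +kernel
theorem s7c63 : allBelow (fun k => fs7 (Nat.add (Nat.succ 18654) k)) 318 = true := by decide +kernel
theorem s7c64 : allBelow (fun k => fs7 (Nat.add (Nat.succ 18972) k)) 300 = true := by decide +kernel
theorem s7c65 : allBelow (fun k => fs7 (Nat.add (Nat.succ 19272) k)) 283 = true := by decide +kernel
theorem s7c66 : allBelow (fun k => fs7 (Nat.add (Nat.succ 19555) k)) 279 = true := by decide +kernel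
theorem s7c67 : allBelow (fun k => fs7 (Nat.add (Nat.succ 19834) k)) 291 = true := by decide +kernel
theorem s7c68 : allBelow (fun k => fs7 (Nat.add (Nat.succ 20125) k)) 283 = true := by decide +kernel
theorem s7c69 : allBelow (fun k => fs7 (Nat.add (Nat.succ 20408) k)) 303 = true := by decide +kernel
theorem s7c70 : allBelow (fun k => fs7 (Nat.add (Nat.succ 20711) k)) 277 = true := by decide +kernel
theorem s7c71 : allBelow (fun k => fs7 (Nat.add (Nat.succ 20988) k)) 340 = true := by decide +kernel
theorem s7c72 : allBelow (fun k => fs7 (Nat.add (Nat.succ 21328) k)) 341 = true := by decide +kernel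
theorem s7c73 : allBelow (fun k => fs7 (Nat.add (Nat.succ 21669) k)) 350 = true := by decide +kernel
theorem s7c74 : allBelow (fun k => fs7 (Nat.add (Nat.succ 22019) k)) 278 = true := by decide +kernel
theorem s7c75 : allBelow (fun k => fs7 (Nat.add (Nat.succ 22297) k)) 331 = true := by decide +kernel
theorem s7c76 : allBelow (fun k => fs7 (Nat.add (Nat.succ 22628) k)) 279 = true := by decide +kernel
theorem s7c77 : allBelow (fun k => fs7 (Nat.add (Nat.succ 22907) k)) 347 = true := by decide +kernel
theorem s7c78 : allBelow (fun k => fs7 (Nat.add (Nat.succ 23254) k)) 283 = true := by decide +kernel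
theorem s7c79 : allBelow (fun k => fs7 (Nat.add (Nat.succ 23537) k)) 276 = true := by decide +kernel
theorem s7c80 : allBelow (fun k => fs7 (Nat.add (Nat.succ 23813) k)) 301 = true := by decide +kernel
theorem s7c81 : allBelow (fun k => fs7 (Nat.add (Nat.succ 24114) k)) 305 = true := by decide +kernel
theorem s7c82 : allBelow (fun k => fs7 (Nat.add (Nat.succ 24419) k)) 281 = true := by decide +kernel
theorem s7c83 : allBelow (fun k => fs7 (Nat.add (Nat.succ 24700) k)) 311 = true := by decide +kernel
theorem s7c84 : allBelow (fun k => fs7 (Nat.add (Nat.succ 25011) k)) 348 = true := by decide +kernel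
theorem s7c85 : allBelow (fun k => fs7 (Nat.add (Nat.succ 25359) k)) 285 = true := by decide +kernel
theorem s7c86 : allBelow (fun k => fs7 (Nat.add (Nat.succ 25644) k)) 274 = true := by decide +kernel
theorem s7c87 : allBelow (fun k => fs7 (Nat.add (Nat.succ 25918) k)) 295 = true := by decide +kernel
theorem s7c88 : allBelow (fun k => fs7 (Nat.add (Nat.succ 26213) k)) 272 = true := by decide +kernel
theorem s7c89 : allBelow (fun k => fs7 (Nat.add (Nat.succ 26485) k)) 318 = true := by decide +kernel
theorem s7c90 : allBelow (fun k => fs7 (Nat.add (Nat.succ 26803) k)) 297 = true := by decide +kernel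
theorem s7c91 : allBelow (fun k => fs7 (Nat.add (Nat.succ 27100) k)) 317 = true := by decide +kernel
theorem s7c92 : allBelow (fun k => fs7 (Nat.add (Nat.succ 27417) k)) 290 = true := by decide +kernel
theorem s7c93 : allBelow (fun k => fs7 (Nat.add (Nat.succ 27707) k)) 286 = true := by decide +kernel
theorem s7c94 : allBelow (fun k => fs7 (Nat.add (Nat.succ 27993) k)) 339 = true := by decide +kernel
theorem s7c95 : allBelow (fun k => fs7 (Nat.add (Nat.succ 28332) k)) 371 = true := by decide +kernel
theorem s7c96 : allBelow (fun k => fs7 (Nat.add (Nat.succ 28703) k)) 382 = true := by decide +kernel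
theorem s7c97 : allBelow (fun k => fs7 (Nat.add (Nat.succ 29085) k)) 313 = true := by decide +kernel
theorem s7c98 : allBelow (fun k => fs7 (Nat.add (Nat.succ 29398) k)) 287 = true := by decide +kernel
theorem s7c99 : allBelow (fun k => fs7 (Nat.add (Nat.succ 29685) k)) 313 = true := by decide +kernel

end Cfsg.Agent.Lib.Helper35.Fi24a
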