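import Cfsg.Agent.Lib.Helper35.Fi24a.Data

set_option Elab.async false

namespace Cfsg.Agent.Lib.Helper35.Fi24a

open Cfsg.Agent.Lib.Helper35

theorem s7c100 : allBelow (fun k => fs7 (Nat.add (Nat.succ 29998) k)) 330 = true := by decide +kernel
theorem s7c101 : allBelow (fun k => fs7 (Nat.add (Nat.succ 30328) k)) 316 = true := by decide +kernel
theorem s7c102 : allBelow (fun k => fs7 (Nat.add (Nat.succ 30644) k)) 364 = true := by decide +kernel
theorem s7c103 : allBelow (fun k => fs7 (Nat.add (Nat.succ 31008) k)) 271 = true := by decide +kernel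
theorem s7c104 : allBelow (fun k => fs7 (Nat.add (Nat.succ 31279) k)) 288 = true := by decide +kernel
theorem s7c105 : allBelow (fun k => fs7 (Nat.add (Nat.succ 31567) k)) 280 = true := by decide +kernel
theorem s7c106 : allBelow (fun k => fs7 (Nat.add (Nat.succ 31847) k)) 294 = true := by decide +kernel
theorem s7c107 : allBelow (fun k => fs7 (Nat.add (Nat.succ 32141) k)) 331 = true := by decide +kernel
theorem s7c108 : allBelow (fun k => fs7 (Nat.add (Nat.succ 32472) k)) 319 = true := by decide +kernel
theorem s7c109 : allBelow (fun k => fs7 (Nat.add (Nat.succ 32791) k)) 281 = true := by decide +kernel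
theorem s7c110 : allBelow (fun k => fs7 (Nat.add (Nat.succ 33072) k)) 292 = true := by decide +kernel
theorem s7c111 : allBelow (fun k => fs7 (Nat.add (Nat.succ 33364) k)) 392 = true := by decide +kernel
theorem s7c112 : allBelow (fun k => fs7 (Nat.add (Nat.succ 33756) k)) 335 = true := by decide +kernel
theorem s7c113 : allBelow (fun k => fs7 (Nat.add (Nat.succ 34091) k)) 295 = true := by decide +kernel
theorem s7c114 : allBelow (fun k => fs7 (Nat.add (Nat.succ 34386) k)) 276 = true := by decide +kernel
theorem s7c115 : allBelow (fun k => fs7 (Nat.add (Nat.succ 34662) k)) 291 = true := by decide +kernel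
theorem s7c116 : allBelow (fun k => fs7 (Nat.add (Nat.succ 34953) k)) 291 = true := by decide +kernel
theorem s7c117 : allBelow (fun k => fs7 (Nat.add (Nat.succ 35244) k)) 279 = true := by decide +kernel
theorem s7c118 : allBelow (fun k => fs7 (Nat.add (Nat.succ 35523) k)) 307 = true := by decide +kernel
theorem s7c119 : allBelow (fun k => fs7 (Nat.add (Nat.succ 35830) k)) 328 = true := by decide +kernel
theorem s7c120 : allBelow (fun k => fs7 (Nat.add (Nat.succ 36158) k)) 306 = true := by decide +kernel
theorem s7c121 : allBelow (fun k => fs7 (Nat.add (Nat.succ 36464) k)) 276 = true := by decide +kernel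
theorem s7c122 : allBelow (fun k => fs7 (Nat.add (Nat.succ 36740) k)) 373 = true := by decide +kernel
theorem s7c123 : allBelow (fun k => fs7 (Nat.add (Nat.succ 37113) k)) 291 = true := by decide +kernel
theorem s7c124 : allBelow (fun k => fs7 (Nat.add (Nat.succ 37404) k)) 299 = true := by decide +kernel
theorem s7c125 : allBelow (fun k => fs7 (Nat.add (Nat.succ 37703) k)) 317 = true := by decide +kernel
theorem s7c126 : allBelow (fun k => fs7 (Nat.add (Nat.succ 38020) k)) 385 = true := by decide +kernel
theorem s7c127 : allBelow (fun k => fs7 (Nat.add (Nat.succ 38405) k)) 384 = true := by decide +kernel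
theorem s7c128 : allBelow (fun k => fs7 (Nat.add (Nat.succ 38789) k)) 416 = true := by decide +kernel
theorem s7c129 : allBelow (fun k => fs7 (Nat.add (Nat.succ 39205) k)) 305 = true := by decide +kernel
theorem s7c130 : allBelow (fun k => fs7 (Nat.add (Nat.succ 39510) k)) 302 = true := by decide +kernel
theorem s7c131 : allBelow (fun k => fs7 (Nat.add (Nat.succ 39812) k)) 301 = true := by decide +kernel
theorem s7c132 : allBelow (fun k => fs7 (Nat.add (Nat.succ 40113) k)) 351 = true := by decide +kernel
theorem s7c133 : allBelow (fun k => fs7 (Nat.add (Nat.succ 40464) k)) 368 = true := by decide +kernel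
theorem s7c134 : allBelow (fun k => fs7 (Nat.add (Nat.succ 40832) k)) 310 = true := by decide +kernel
theorem s7c135 : allBelow (fun k => fs7 (Nat.add (Nat.succ 41142) k)) 404 = true := by decide +kernel
theorem s7c136 : allBelow (fun k => fs7 (Nat.add (Nat.succ 41546) k)) 311 = true := by decide +kernel
theorem s7c137 : allBelow (fun k => fs7 (Nat.add (Nat.succ 41857) k)) 277 = true := by decide +kernel
theorem s7c138 : allBelow (fun k => fs7 (Nat.add (Nat.succ 42134) k)) 279 = true := by decide +kernel
theorem s7c139 : allBelow (fun k => fs7 (Nat.add (Nat.succ 42413) k)) 297 = true := by decide +kernel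
theorem s7c140 : allBelow (fun k => fs7 (Nat.add (Nat.succ 42710) k)) 286 = true := by decide +kernel
theorem s7c141 : allBelow (fun k => fs7 (Nat.add (Nat.succ 42996) k)) 307 = true := by decide +kernel
theorem s7c142 : allBelow (fun k => fs7 (Nat.add (Nat.succ 43303) k)) 350 = true := by decide +kernel
theorem s7c143 : allBelow (fun k => fs7 (Nat.add (Nat.succ 43653) k)) 322 = true := by decide +kernel
theorem s7c144 : allBelow (fun k => fs7 (Nat.add (Nat.succ 43975) k)) 324 = true := by decide +kernel
theorem s7c145 : allBelow (fun k => fs7 (Nat.add (Nat.succ 44299) k)) 307 = true := by decide +kernel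
theorem s7c146 : allBelow (fun k => fs7 (Nat.add (Nat.succ 44606) k)) 306 = true := by decide +kernel
theorem s7c147 : allBelow (fun k => fs7 (Nat.add (Nat.succ 44912) k)) 318 = true := by decide +kernel
theorem s7c148 : allBelow (fun k => fs7 (Nat.add (Nat.succ 45230) k)) 438 = true := by decide +kernel
theorem s7c149 : allBelow (fun k => fs7 (Nat.add (Nat.succ 45668) k)) 362 = true := by decide +kernel
theorem s7c150 : allBelow (fun k => fs7 (Nat.add (Nat.succ 46030) k)) 305 = true := by decide +kernel
theorem s7c151 : allBelow (fun k => fs7 (Nat.add (Nat.succ 46335) k)) 287 = true := by decide +kernel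
theorem s7c152 : allBelow (fun k => fs7 (Nat.add (Nat.succ 46622) k)) 275 = true := by decide +kernel
theorem s7c153 : allBelow (fun k => fs7 (Nat.add (Nat.succ 46897) k)) 284 = true := by decide +kernel
theorem s7c154 : allBelow (fun k => fs7 (Nat.add (Nat.succ 47181) k)) 309 = true := by decide +kernel
theorem s7c155 : allBelow (fun k => fs7 (Nat.add (Nat.succ 47490) k)) 286 = true := by decide +kernel
theorem s7c156 : allBelow (fun k => fs7 (Nat.add (Nat.succ 47776) k)) 287 = true := by decide +kernel
theorem s7c157 : allBelow (fun k => fs7 (Nat.add (Nat.succ 48063) k)) 291 = true := by decide +kernel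
theorem s7c158 : allBelow (fun k => fs7 (Nat.add (Nat.succ 48354) k)) 324 = true := by decide +kernel
theorem s7c159 : allBelow (fun k => fs7 (Nat.add (Nat.succ 48678) k)) 341 = true := by decide +kernel
theorem s7c160 : allBelow (fun k => fs7 (Nat.add (Nat.succ 49019) k)) 303 = true := by decide +kernel
theorem s7c161 : allBelow (fun k => fs7 (Nat.add (Nat.succ 49322) k)) 332 = true := by decide +kernel
theorem s7c162 : allBelow (fun k => fs7 (Nat.add (Nat.succ 49654) k)) 311 = true := by decide +kernel
theorem s7c163 : allBelow (fun k => fs7 (Nat.add (Nat.succ 49965) k)) 388 = true := by decide +kernel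
theorem s7c164 : allBelow (fun k => fs7 (Nat.add (Nat.succ 50353) k)) 297 = true := by decide +kernel
theorem s7c165 : allBelow (fun k => fs7 (Nat.add (Nat.succ 50650) k)) 314 = true := by decide +kernel
theorem s7c166 : allBelow (fun k => fs7 (Nat.add (Nat.succ 50964) k)) 306 = true := by decide +kernel
theorem s7c167 : allBelow (fun k => fs7 (Nat.add (Nat.succ 51270) k)) 343 = true := by decide +kernel
theorem s7c168 : allBelow (fun k => fs7 (Nat.add (Nat.succ 51613) k)) 417 = true := by decide +kernel
theorem s7c169 : allBelow (fun k => fs7 (Nat.add (Nat.succ 52030) k)) 406 = true := by decide +kernel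
theorem s7c170 : allBelow (fun k => fs7 (Nat.add (Nat.succ 52436) k)) 406 = true := by decide +kernel
theorem s7c171 : allBelow (fun k => fs7 (Nat.add (Nat.succ 52842) k)) 391 = true := by decide +kernel
theorem s7c172 : allBelow (fun k => fs7 (Nat.add (Nat.succ 53233) k)) 283 = true := by decide +kernel
theorem s7c173 : allBelow (fun k => fs7 (Nat.add (Nat.succ 53516) k)) 312 = true := by decide +kernel
theorem s7c174 : allBelow (fun k => fs7 (Nat.add (Nat.succ 53828) k)) 310 = true := by decide +kernel
theorem s7c175 : allBelow (fun k => fs7 (Nat.add (Nat.succ 54138) k)) 323 = true := by decide +kernel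
theorem s7c176 : allBelow (fun k => fs7 (Nat.add (Nat.succ 54461) k)) 396 = true := by decide +kernel
theorem s7c177 : allBelow (fun k => fs7 (Nat.add (Nat.succ 54857) k)) 387 = true := by decide +kernel
theorem s7c178 : allBelow (fun k => fs7 (Nat.add (Nat.succ 55244) k)) 331 = true := by decide +kernel
theorem s7c179 : allBelow (fun k => fs7 (Nat.add (Nat.succ 55575) k)) 435 = true := by decide +kernel
theorem s7c180 : allBelow (fun k => fs7 (Nat.add (Nat.succ 56010) k)) 366 = true := by decide +kernel
theorem s7c181 : allBelow (fun k => fs7 (Nat.add (Nat.succ 56376) k)) 272 = true := by decide +kernel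
theorem s7c182 : allBelow (fun k => fs7 (Nat.add (Nat.succ 56648) k)) 281 = true := by decide +kernel
theorem s7c183 : allBelow (fun k => fs7 (Nat.add (Nat.succ 56929) k)) 273 = true := by decide +kernel
theorem s7c184 : allBelow (fun k => fs7 (Nat.add (Nat.succ 57202) k)) 314 = true := by decide +kernel
theorem s7c185 : allBelow (fun k => fs7 (Nat.add (Nat.succ 57516) k)) 284 = true := by decide +kernel
theorem s7c186 : allBelow (fun k => fs7 (Nat.add (Nat.succ 57800) k)) 297 = true := by decide +kernel
theorem s7c187 : allBelow (fun k => fs7 (Nat.add (Nat.succ 58097) k)) 295 = true := by decide +kernel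
theorem s7c188 : allBelow (fun k => fs7 (Nat.add (Nat.succ 58392) k)) 325 = true := by decide +kernel
theorem s7c189 : allBelow (fun k => fs7 (Nat.add (Nat.succ 58717) k)) 374 = true := by decide +kernel
theorem s7c190 : allBelow (fun k => fs7 (Nat.add (Nat.succ 59091) k)) 334 = true := by decide +kernel
theorem s7c191 : allBelow (fun k => fs7 (Nat.add (Nat.succ 59425) k)) 346 = true := by decide +kernel
theorem s7c192 : allBelow (fun k => fs7 (Nat.add (Nat.succ 59771) k)) 363 = true := by decide +kernel
theorem s7c193 : allBelow (fun k => fs7 (Nat.add (Nat.succ 60134) k)) 280 = true := by decide +kernel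
theorem s7c194 : allBelow (fun k => fs7 (Nat.add (Nat.succ 60414) k)) 342 = true := by decide +kernel
theorem s7c195 : allBelow (fun k => fs7 (Nat.add (Nat.succ 60756) k)) 349 = true := by decide +kernel
theorem s7c196 : allBelow (fun k => fs7 (Nat.add (Nat.succ 61105) k)) 449 = true := by decide +kernel
theorem s7c197 : allBelow (fun k => fs7 (Nat.add (Nat.succ 61554) k)) 428 = true := by decide +kernel
theorem s7c198 : allBelow (fun k => fs7 (Nat.add (Nat.succ 61982) k)) 296 = true := by decide +kernel
theorem s7c199 : allBelow (fun k => fs7 (Nat.add (Nat.succ 62278) k)) 320 = true := by decide +kernel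
theorem s7c200 : allBelow (fun k => fs7 (Nat.add (Nat.succ 62598) k)) 283 = true := by decide +kernel
theorem s7c201 : allBelow (fun k => fs7 (Nat.add (Nat.succ 62881) k)) 308 = true := by decide +kernel
theorem s7c202 : allBelow (fun k => fs7 (Nat.add (Nat.succ 63189) k)) 267 = true := by decide +kernel
theorem s7c203 : allBelow (fun k => fs7 (Nat.add (Nat.succ 63456) k)) 294 = true := by decide +kernel
theorem s7c204 : allBelow (fun k => fs7 (Nat.add (Nat.succ 63750) k)) 314 = true := by decide +kernel
theorem s7c205 : allBelow (fun k => fs7 (Nat.add (Nat.succ 64064) k)) 298 = true := by decide +kernel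
theorem s7c206 : allBelow (fun k => fs7 (Nat.add (Nat.succ 64362) k)) 283 = true := by decide +kernel
theorem s7c207 : allBelow (fun k => fs7 (Nat.add (Nat.succ 64645) k)) 303 = true := by decide +kernel
theorem s7c208 : allBelow (fun k => fs7 (Nat.add (Nat.succ 64948) k)) 284 = true := by decide +kernel
theorem s7c209 : allBelow (fun k => fs7 (Nat.add (Nat.succ 65232) k)) 310 = true := by decide +kernel
theorem s7c210 : allBelow (fun k => fs7 (Nat.add (Nat.succ 65542) k)) 349 = true := by decide +kernel
theorem s7c211 : allBelow (fun k => fs7 (Nat.add (Nat.succ 65891) k)) 348 = true := by decide +kernel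
theorem s7c212 : allBelow (fun k => fs7 (Nat.add (Nat.succ 66239) k)) 352 = true := by decide +kernel
theorem s7c213 : allBelow (fun k => fs7 (Nat.add (Nat.succ 66591) k)) 322 = true := by decide +kernel
theorem s7c214 : allBelow (fun k => fs7 (Nat.add (Nat.succ 66913) k)) 360 = true := by decide +kernel
theorem s7c215 : allBelow (fun k => fs7 (Nat.add (Nat.succ 67273) k)) 346 = true := by decide +kernel
theorem s7c216 : allBelow (fun k => fs7 (Nat.add (Nat.succ 67619) k)) 410 = true := by decide +kernel
theorem s7c217 : allBelow (fun k => fs7 (Nat.add (Nat.succ 68029) k)) 316 = true := by decide +kernel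
theorem s7c218 : allBelow (fun k => fs7 (Nat.add (Nat.succ 68345) k)) 281 = true := by decide +kernel
theorem s7c219 : allBelow (fun k => fs7 (Nat.add (Nat.succ 68626) k)) 345 = true := by decide +kernel
theorem s7c220 : allBelow (fun k => fs7 (Nat.add (Nat.succ 68971) k)) 325 = true := by decide +kernel
theorem s7c221 : allBelow (fun k => fs7 (Nat.add (Nat.succ 69296) k)) 359 = true := by decide +kernel
theorem s7c222 : allBelow (fun k => fs7 (Nat.add (Nat.succ 69655) k)) 444 = true := by decide +kernel
theorem s7c223 : allBelow (fun k => fs7 (Nat.add (Nat.succ 70099) k)) 402 = true := by decide +kernel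
theorem s7c224 : allBelow (fun k => fs7 (Nat.add (Nat.succ 70501) k)) 430 = true := by decide +kernel
theorem s7c225 : allBelow (fun k => fs7 (Nat.add (Nat.succ 70931) k)) 476 = true := by decide +kernel
theorem s7c226 : allBelow (fun k => fs7 (Nat.add (Nat.succ 71407) k)) 270 = true := by decide +kernel
theorem s7c227 : allBelow (fun k => fs7 (Nat.add (Nat.succ 71677) k)) 303 = true := by decide +kernel
theorem s7c228 : allBelow (fun k => fs7 (Nat.add (Nat.succ 71980) k)) 323 = true := by decide +kernel
theorem s7c229 : allBelow (fun k => fs7 (Nat.add (Nat.succ 72303) k)) 313 = true := by decide +kernel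
theorem s7c230 : allBelow (fun k => fs7 (Nat.add (Nat.succ 72616) k)) 324 = true := by decide +kernel
theorem s7c231 : allBelow (fun k => fs7 (Nat.add (Nat.succ 72940) k)) 382 = true := by decide +kernel
theorem s7c232 : allBelow (fun k => fs7 (Nat.add (Nat.succ 73322) k)) 428 = true := by decide +kernel
theorem s7c233 : allBelow (fun k => fs7 (Nat.add (Nat.succ 73750) k)) 403 = true := by decide +kernel
theorem s7c234 : allBelow (fun k => fs7 (Nat.add (Nat.succ 74153) k)) 371 = true := by decide +kernel
theorem s7c235 : allBelow (fun k => fs7 (Nat.add (Nat.succ 74524) k)) 427 = true := by decide +kernel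
theorem s7c236 : allBelow (fun k => fs7 (Nat.add (Nat.succ 74951) k)) 431 = true := by decide +kernel
theorem s7c237 : allBelow (fun k => fs7 (Nat.add (Nat.succ 75382) k)) 271 = true := by decide +kernel
theorem s7c238 : allBelow (fun k => fs7 (Nat.add (Nat.succ 75653) k)) 277 = true := by decide +kernel
theorem s7c239 : allBelow (fun k => fs7 (Nat.add (Nat.succ 75930) k)) 297 = true := by decide +kernel
theorem s7c240 : allBelow (fun k => fs7 (Nat.add (Nat.succ 76227) k)) 274 = true := by decide +kernel
theorem s7c241 : allBelow (fun k => fs7 (Nat.add (Nat.succ 76501) k)) 303 = true := by decide +kernel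
theorem s7c242 : allBelow (fun k => fs7 (Nat.add (Nat.succ 76804) k)) 309 = true := by decide +kernel
theorem s7c243 : allBelow (fun k => fs7 (Nat.add (Nat.succ 77113) k)) 296 = true := by decide +kernel
theorem s7c244 : allBelow (fun k => fs7 (Nat.add (Nat.succ 77409) k)) 291 = true := by decide +kernel
theorem s7c245 : allBelow (fun k => fs7 (Nat.add (Nat.succ 77700) k)) 304 = true := by decide +kernel
theorem s7c246 : allBelow (fun k => fs7 (Nat.add (Nat.succ 78004) k)) 289 = true := by decide +kernel
theorem s7c247 : allBelow (fun k => fs7 (Nat.add (Nat.succ 78293) k)) 333 = true := by decide +kernel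
theorem s7c248 : allBelow (fun k => fs7 (Nat.add (Nat.succ 78626) k)) 345 = true := by decide +kernel
theorem s7c249 : allBelow (fun k => fs7 (Nat.add (Nat.succ 78971) k)) 411 = true := by decide +kernel
theorem s7c250 : allBelow (fun k => fs7 (Nat.add (Nat.succ 79382) k)) 367 = true := by decide +kernel
theorem s7c251 : allBelow (fun k => fs7 (Nat.add (Nat.succ 79749) k)) 385 = true := by decide +kernel
theorem s7c252 : allBelow (fun k => fs7 (Nat.add (Nat.succ 80134) k)) 372 = true := by decide +kernel
theorem s7c253 : allBelow (fun k => fs7 (Nat.add (Nat.succ 80506) k)) 289 = true := by decide +kernel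
theorem s7c254 : allBelow (fun k => fs7 (Nat.add (Nat.succ 80795) k)) 318 = true := by decide +kernel
theorem s7c255 : allBelow (fun k => fs7 (Nat.add (Nat.succ 81113) k)) 369 = true := by decide +kernel
theorem s7c256 : allBelow (fun k => fs7 (Nat.add (Nat.succ 81482) k)) 378 = true := by decide +kernel
theorem s7c257 : allBelow (fun k => fs7 (Nat.add (Nat.succ 81860) k)) 457 = true := by decide +kernel
theorem s7c258 : allBelow (fun k => fs7 (Nat.add (Nat.succ 82317) k)) 449 = true := by decide +kernel
theorem s7c259 : allBelow (fun k => fs7 (Nat.add (Nat.succ 82766) k)) 296 = true := by decide +kernel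
theorem s7c260 : allBelow (fun k => fs7 (Nat.add (Nat.succ 83062) k)) 331 = true := by decide +kernel
theorem s7c261 : allBelow (fun k => fs7 (Nat.add (Nat.succ 83393) k)) 290 = true := by decide +kernel
theorem s7c262 : allBelow (fun k => fs7 (Nat.add (Nat.succ 83683) k)) 290 = true := by decide +kernel
theorem s7c263 : allBelow (fun k => fs7 (Nat.add (Nat.succ 83973) k)) 319 = true := by decide +kernel
theorem s7c264 : allBelow (fun k => fs7 (Nat.add (Nat.succ 84292) k)) 277 = true := by decide +kernel
theorem s7c265 : allBelow (fun k => fs7 (Nat.add (Nat.succ 84569) k)) 269 = true := by decide +kernel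
theorem s7c266 : allBelow (fun k => fs7 (Nat.add (Nat.succ 84838) k)) 295 = true := by decide +kernel
theorem s7c267 : allBelow (fun k => fs7 (Nat.add (Nat.succ 85133) k)) 317 = true := by decide +kernel
theorem s7c268 : allBelow (fun k => fs7 (Nat.add (Nat.succ 85450) k)) 316 = true := by decide +kernel
theorem s7c269 : allBelow (fun k => fs7 (Nat.add (Nat.succ 85766) k)) 297 = true := by decide +kernel
theorem s7c270 : allBelow (fun k => fs7 (Nat.add (Nat.succ 86063) k)) 286 = true := by decide +kernel
theorem s7c271 : allBelow (fun k => fs7 (Nat.add (Nat.succ 86349) k)) 290 = true := by decide +kernel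
theorem s7c272 : allBelow (fun k => fs7 (Nat.add (Nat.succ 86639) k)) 311 = true := by decide +kernel
theorem s7c273 : allBelow (fun k => fs7 (Nat.add (Nat.succ 86950) k)) 284 = true := by decide +kernel
theorem s7c274 : allBelow (fun k => fs7 (Nat.add (Nat.succ 87234) k)) 310 = true := by decide +kernel
theorem s7c275 : allBelow (fun k => fs7 (Nat.add (Nat.succ 87544) k)) 326 = true := by decide +kernel
theorem s7c276 : allBelow (fun k => fs7 (Nat.add (Nat.succ 87870) k)) 380 = true := by decide +kernel
theorem s7c277 : allBelow (fun k => fs7 (Nat.add (Nat.succ 88250) k)) 347 = true := by decide +kernel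
theorem s7c278 : allBelow (fun k => fs7 (Nat.add (Nat.succ 88597) k)) 372 = true := by decide +kernel
theorem s7c279 : allBelow (fun k => fs7 (Nat.add (Nat.succ 88969) k)) 338 = true := by decide +kernel
theorem s7c280 : allBelow (fun k => fs7 (Nat.add (Nat.succ 89307) k)) 350 = true := by decide +kernel
theorem s7c281 : allBelow (fun k => fs7 (Nat.add (Nat.succ 89657) k)) 349 = true := by decide +kernel
theorem s7c282 : allBelow (fun k => fs7 (Nat.add (Nat.succ 90006) k)) 403 = true := by decide +kernel
theorem s7c283 : allBelow (fun k => fs7 (Nat.add (Nat.succ 90409) k)) 403 = true := by decide +kernel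
theorem s7c284 : allBelow (fun k => fs7 (Nat.add (Nat.succ 90812) k)) 322 = true := by decide +kernel
theorem s7c285 : allBelow (fun k => fs7 (Nat.add (Nat.succ 91134) k)) 304 = true := by decide +kernel
theorem s7c286 : allBelow (fun k => fs7 (Nat.add (Nat.succ 91438) k)) 369 = true := by decide +kernel
theorem s7c287 : allBelow (fun k => fs7 (Nat.add (Nat.succ 91807) k)) 332 = true := by decide +kernel
theorem s7c288 : allBelow (fun k => fs7 (Nat.add (Nat.succ 92139) k)) 360 = true := by decide +kernel
theorem s7c289 : allBelow (fun k => fs7 (Nat.add (Nat.succ 92499) k)) 418 = true := by decide +kernel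
theorem s7c290 : allBelow (fun k => fs7 (Nat.add (Nat.succ 92917) k)) 450 = true := by decide +kernel
theorem s7c291 : allBelow (fun k => fs7 (Nat.add (Nat.succ 93367) k)) 444 = true := by decide +kernel
theorem s7c292 : allBelow (fun k => fs7 (Nat.add (Nat.succ 93811) k)) 506 = true := by decide +kernel
theorem s7c293 : allBelow (fun k => fs7 (Nat.add (Nat.succ 94317) k)) 299 = true := by decide +kernel
theorem s7c294 : allBelow (fun k => fs7 (Nat.add (Nat.succ 94616) k)) 278 = true := by decide +kernel
theorem s7c295 : allBelow (fun k => fs7 (Nat.add (Nat.succ 94894) k)) 326 = true := by decide +kernel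
theorem s7c296 : allBelow (fun k => fs7 (Nat.add (Nat.succ 95220) k)) 339 = true := by decide +kernel
theorem s7c297 : allBelow (fun k => fs7 (Nat.add (Nat.succ 95559) k)) 327 = true := by decide +kernel
theorem s7c298 : allBelow (fun k => fs7 (Nat.add (Nat.succ 95886) k)) 308 = true := by decide +kernel
theorem s7c299 : allBelow (fun k => fs7 (Nat.add (Nat.succ 96194) k)) 390 = true := by decide +kernel
theorem s7c300 : allBelow (fun k => fs7 (Nat.add (Nat.succ 96584) k)) 425 = true := by decide +kernel
theorem s7c301 : allBelow (fun k => fs7 (Nat.add (Nat.succ 97009) k)) 462 = true := by decide +kernel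
theorem s7c302 : allBelow (fun k => fs7 (Nat.add (Nat.succ 97471) k)) 351 = true := by decide +kernel
theorem s7c303 : allBelow (fun k => fs7 (Nat.add (Nat.succ 97822) k)) 423 = true := by decide +kernel
theorem s7c304 : allBelow (fun k => fs7 (Nat.add (Nat.succ 98245) k)) 480 = true := by decide +kernel
theorem s7c305 : allBelow (fun k => fs7 (Nat.add (Nat.succ 98725) k)) 322 = true := by decide +kernel
theorem s7c306 : allBelow (fun k => fs7 (Nat.add (Nat.succ 99047) k)) 282 = true := by decide +kernel
theorem s7c307 : allBelow (fun k => fs7 (Nat.add (Nat.succ 99329) k)) 290 = true := by decide +kernel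
theorem s7c308 : allBelow (fun k => fs7 (Nat.add (Nat.succ 99619) k)) 321 = true := by decide +kernel
theorem s7c309 : allBelow (fun k => fs7 (Nat.add (Nat.succ 99940) k)) 286 = true := by decide +kernel
theorem s7c310 : allBelow (fun k => fs7 (Nat.add (Nat.succ 100226) k)) 282 = true := by decide +kernel
theorem s7c311 : allBelow (fun k => fs7 (Nat.add (Nat.succ 100508) k)) 300 = true := by decide +kernel
theorem s7c312 : allBelow (fun k => fs7 (Nat.add (Nat.succ 100808) k)) 311 = true := by decide +kernel
theorem s7c313 : allBelow (fun k => fs7 (Nat.add (Nat.succ 101119) k)) 352 = true := by decide +kernel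
theorem s7c314 : allBelow (fun k => fs7 (Nat.add (Nat.succ 101471) k)) 280 = true := by decide +kernel
theorem s7c315 : allBelow (fun k => fs7 (Nat.add (Nat.succ 101751) k)) 299 = true := by decide +kernel
theorem s7c316 : allBelow (fun k => fs7 (Nat.add (Nat.succ 102050) k)) 328 = true := by decide +kernel
theorem s7c317 : allBelow (fun k => fs7 (Nat.add (Nat.succ 102378) k)) 294 = true := by decide +kernel
theorem s7c318 : allBelow (fun k => fs7 (Nat.add (Nat.succ 102672) k)) 302 = true := by decide +kernel
theorem s7c319 : allBelow (fun k => fs7 (Nat.add (Nat.succ 102974) k)) 352 = true := by decide +kernel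
theorem s7c320 : allBelow (fun k => fs7 (Nat.add (Nat.succ 103326) k)) 364 = true := by decide +kernel
theorem s7c321 : allBelow (fun k => fs7 (Nat.add (Nat.succ 103690) k)) 435 = true := by decide +kernel
theorem s7c322 : allBelow (fun k => fs7 (Nat.add (Nat.succ 104125) k)) 392 = true := by decide +kernel
theorem s7c323 : allBelow (fun k => fs7 (Nat.add (Nat.succ 104517) k)) 428 = true := by decide +kernel
theorem s7c324 : allBelow (fun k => fs7 (Nat.add (Nat.succ 104945) k)) 359 = true := by decide +kernel
theorem s7c325 : allBelow (fun k => fs7 (Nat.add (Nat.succ 105304) k)) 307 = true := by decide +kernel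
theorem s7c326 : allBelow (fun k => fs7 (Nat.add (Nat.succ 105611) k)) 314 = true := by decide +kernel
theorem s7c327 : allBelow (fun k => fs7 (Nat.add (Nat.succ 105925) k)) 405 = true := by decide +kernel
theorem s7c328 : allBelow (fun k => fs7 (Nat.add (Nat.succ 106330) k)) 403 = true := by decide +kernel
theorem s7c329 : allBelow (fun k => fs7 (Nat.add (Nat.succ 106733) k)) 436 = true := by decide +kernel
theorem s7c330 : allBelow (fun k => fs7 (Nat.add (Nat.succ 107169) k)) 424 = true := by decide +kernel
theorem s7c331 : allBelow (fun k => fs7 (Nat.add (Nat.succ 107593) k)) 311 = true := by decide +kernel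
theorem s7c332 : allBelow (fun k => fs7 (Nat.add (Nat.succ 107904) k)) 324 = true := by decide +kernel
theorem s7c333 : allBelow (fun k => fs7 (Nat.add (Nat.succ 108228) k)) 320 = true := by decide +kernel
theorem s7c334 : allBelow (fun k => fs7 (Nat.add (Nat.succ 108548) k)) 293 = true := by decide +kernel
theorem s7c335 : allBelow (fun k => fs7 (Nat.add (Nat.succ 108841) k)) 298 = true := by decide +kernel
theorem s7c336 : allBelow (fun k => fs7 (Nat.add (Nat.succ 109139) k)) 333 = true := by decide +kernel
theorem s7c337 : allBelow (fun k => fs7 (Nat.add (Nat.succ 109472) k)) 294 = true := by decide +kernel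
theorem s7c338 : allBelow (fun k => fs7 (Nat.add (Nat.succ 109766) k)) 270 = true := by decide +kernel
theorem s7c339 : allBelow (fun k => fs7 (Nat.add (Nat.succ 110036) k)) 275 = true := by decide +kernel
theorem s7c340 : allBelow (fun k => fs7 (Nat.add (Nat.succ 110311) k)) 272 = true := by decide +kernel
theorem s7c341 : allBelow (fun k => fs7 (Nat.add (Nat.succ 110583) k)) 359 = true := by decide +kernel
theorem s7c342 : allBelow (fun k => fs7 (Nat.add (Nat.succ 110942) k)) 295 = true := by decide +kernel
theorem s7c343 : allBelow (fun k => fs7 (Nat.add (Nat.succ 111237) k)) 335 = true := by decide +kernel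
theorem s7c344 : allBelow (fun k => fs7 (Nat.add (Nat.succ 111572) k)) 306 = true := by decide +kernel
theorem s7c345 : allBelow (fun k => fs7 (Nat.add (Nat.succ 111878) k)) 287 = true := by decide +kernel
theorem s7c346 : allBelow (fun k => fs7 (Nat.add (Nat.succ 112165) k)) 295 = true := by decide +kernel
theorem s7c347 : allBelow (fun k => fs7 (Nat.add (Nat.succ 112460) k)) 285 = true := by decide +kernel
theorem s7c348 : allBelow (fun k => fs7 (Nat.add (Nat.succ 112745) k)) 323 = true := by decide +kernel
theorem s7c349 : allBelow (fun k => fs7 (Nat.add (Nat.succ 113068) k)) 311 = true := by decide +kernel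
theorem s7c350 : allBelow (fun k => fs7 (Nat.add (Nat.succ 113379) k)) 296 = true := by decide +kernel
theorem s7c351 : allBelow (fun k => fs7 (Nat.add (Nat.succ 113675) k)) 329 = true := by decide +kernel
theorem s7c352 : allBelow (fun k => fs7 (Nat.add (Nat.succ 114004) k)) 340 = true := by decide +kernel
theorem s7c353 : allBelow (fun k => fs7 (Nat.add (Nat.succ 114344) k)) 360 = true := by decide +kernel
theorem s7c354 : allBelow (fun k => fs7 (Nat.add (Nat.succ 114704) k)) 364 = true := by decide +kernel
theorem s7c355 : allBelow (fun k => fs7 (Nat.add (Nat.succ 115068) k)) 403 = true := by decide +kernel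
theorem s7c356 : allBelow (fun k => fs7 (Nat.add (Nat.succ 115471) k)) 347 = true := by decide +kernel
theorem s7c357 : allBelow (fun k => fs7 (Nat.add (Nat.succ 115818) k)) 357 = true := by decide +kernel
theorem s7c358 : allBelow (fun k => fs7 (Nat.add (Nat.succ 116175) k)) 417 = true := by decide +kernel
theorem s7c359 : allBelow (fun k => fs7 (Nat.add (Nat.succ 116592) k)) 371 = true := by decide +kernel
theorem s7c360 : allBelow (fun k => fs7 (Nat.add (Nat.succ 116963) k)) 408 = true := by decide +kernel
theorem s7c361 : allBelow (fun k => fs7 (Nat.add (Nat.succ 117371) k)) 361 = true := by decide +kernel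
theorem s7c362 : allBelow (fun k => fs7 (Nat.add (Nat.succ 117732) k)) 325 = true := by decide +kernel
theorem s7c363 : allBelow (fun k => fs7 (Nat.add (Nat.succ 118057) k)) 328 = true := by decide +kernel
theorem s7c364 : allBelow (fun k => fs7 (Nat.add (Nat.succ 118385) k)) 344 = true := by decide +kernel
theorem s7c365 : allBelow (fun k => fs7 (Nat.add (Nat.succ 118729) k)) 385 = true := by decide +kernel
theorem s7c366 : allBelow (fun k => fs7 (Nat.add (Nat.succ 119114) k)) 383 = true := by decide +kernel
theorem s7c367 : allBelow (fun k => fs7 (Nat.add (Nat.succ 119497) k)) 452 = true := by decide +kernel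
theorem s7c368 : allBelow (fun k => fs7 (Nat.add (Nat.succ 119949) k)) 514 = true := by decide +kernel
theorem s7c369 : allBelow (fun k => fs7 (Nat.add (Nat.succ 120463) k)) 315 = true := by decide +kernel
theorem s7c370 : allBelow (fun k => fs7 (Nat.add (Nat.succ 120778) k)) 281 = true := by decide +kernel
theorem s7c371 : allBelow (fun k => fs7 (Nat.add (Nat.succ 121059) k)) 314 = true := by decide +kernel
theorem s7c372 : allBelow (fun k => fs7 (Nat.add (Nat.succ 121373) k)) 357 = true := by decide +kernel
theorem s7c373 : allBelow (fun k => fs7 (Nat.add (Nat.succ 121730) k)) 326 = true := by decide +kernel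
theorem s7c374 : allBelow (fun k => fs7 (Nat.add (Nat.succ 122056) k)) 331 = true := by decide +kernel
theorem s7c375 : allBelow (fun k => fs7 (Nat.add (Nat.succ 122387) k)) 320 = true := by decide +kernel
theorem s7c376 : allBelow (fun k => fs7 (Nat.add (Nat.succ 122707) k)) 359 = true := by decide +kernel
theorem s7c377 : allBelow (fun k => fs7 (Nat.add (Nat.succ 123066) k)) 465 = true := by decide +kernel
theorem s7c378 : allBelow (fun k => fs7 (Nat.add (Nat.succ 123531) k)) 424 = true := by decide +kernel
theorem s7c379 : allBelow (fun k => fs7 (Nat.add (Nat.succ 123955) k)) 388 = true := by decide +kernel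
theorem s7c380 : allBelow (fun k => fs7 (Nat.add (Nat.succ 124343) k)) 411 = true := by decide +kernel
theorem s7c381 : allBelow (fun k => fs7 (Nat.add (Nat.succ 124754) k)) 262 = true := by decide +kernel
theorem s7c382 : allBelow (fun k => fs7 (Nat.add (Nat.succ 125016) k)) 271 = true := by decide +kernel
theorem s7c383 : allBelow (fun k => fs7 (Nat.add (Nat.succ 125287) k)) 263 = true := by decide +kernel
theorem s7c384 : allBelow (fun k => fs7 (Nat.add (Nat.succ 125550) k)) 260 = true := by decide +kernel
theorem s7c385 : allBelow (fun k => fs7 (Nat.add (Nat.succ 125810) k)) 267 = true := by decide +kernel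
theorem s7c386 : allBelow (fun k => fs7 (Nat.add (Nat.succ 126077) k)) 266 = true := by decide +kernel
theorem s7c387 : allBelow (fun k => fs7 (Nat.add (Nat.succ 126343) k)) 262 = true := by decide +kernel
theorem s7c388 : allBelow (fun k => fs7 (Nat.add (Nat.succ 126605) k)) 247 = true := by decide +kernel
theorem s7c389 : allBelow (fun k => fs7 (Nat.add (Nat.succ 126852) k)) 261 = true := by decide +kernel
theorem s7c390 : allBelow (fun k => fs7 (Nat.add (Nat.succ 127113) k)) 265 = true := by decide +kernel
theorem s7c391 : allBelow (fun k => fs7 (Nat.add (Nat.succ 127378) k)) 267 = true := by decide +kernel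
theorem s7c392 : allBelow (fun k => fs7 (Nat.add (Nat.succ 127645) k)) 277 = true := by decide +kernel
theorem s7c393 : allBelow (fun k => fs7 (Nat.add (Nat.succ 127922) k)) 275 = true := by decide +kernel
theorem s7c394 : allBelow (fun k => fs7 (Nat.add (Nat.succ 128197) k)) 281 = true := by decide +kernel
theorem s7c395 : allBelow (fun k => fs7 (Nat.add (Nat.succ 128478) k)) 252 = true := by decide +kernel
theorem s7c396 : allBelow (fun k => fs7 (Nat.add (Nat.succ 128730) k)) 258 = true := by decide +kernel
theorem s7c397 : allBelow (fun k => fs7 (Nat.add (Nat.succ 128988) k)) 277 = true := by decide +kernel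
theorem s7c398 : allBelow (fun k => fs7 (Nat.add (Nat.succ 129265) k)) 275 = true := by decide +kernel
theorem s7c399 : allBelow (fun k => fs7 (Nat.add (Nat.succ 129540) k)) 253 = true := by decide +kernel
theorem s7c400 : allBelow (fun k => fs7 (Nat.add (Nat.succ 129793) k)) 232 = true := by decide +kernel
theorem s7c401 : allBelow (fun k => fs7 (Nat.add (Nat.succ 130025) k)) 262 = true := by decide +kernel
theorem s7c402 : allBelow (fun k => fs7 (Nat.add (Nat.succ 130287) k)) 272 = true := by decide +kernel
theorem s7c403 : allBelow (fun k => fs7 (Nat.add (Nat.succ 130559) k)) 276 = true := by decide +kernel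
theorem s7c404 : allBelow (fun k => fs7 (Nat.add (Nat.succ 130835) k)) 275 = true := by decide +kernel
theorem s7c405 : allBelow (fun k => fs7 (Nat.add (Nat.succ 131110) k)) 284 = true := by decide +kernel
theorem s7c406 : allBelow (fun k => fs7 (Nat.add (Nat.succ 131394) k)) 283 = true := by decide +kernel
theorem s7c407 : allBelow (fun k => fs7 (Nat.add (Nat.succ 131677) k)) 268 = true := by decide +kernel
theorem s7c408 : allBelow (fun k => fs7 (Nat.add (Nat.succ 131945) k)) 262 = true := by decide +kernel
theorem s7c409 : allBelow (fun k => fs7 (Nat.add (Nat.succ 132207) k)) 266 = true := by decide +kernel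
theorem s7c410 : allBelow (fun k => fs7 (Nat.add (Nat.succ 132473) k)) 264 = true := by decide +kernel
theorem s7c411 : allBelow (fun k => fs7 (Nat.add (Nat.succ 132737) k)) 262 = true := by decide +kernel
theorem s7c412 : allBelow (fun k => fs7 (Nat.add (Nat.succ 132999) k)) 277 = true := by decide +kernel
theorem s7c413 : allBelow (fun k => fs7 (Nat.add (Nat.succ 133276) k)) 253 = true := by decide +kernel
theorem s7c414 : allBelow (fun k => fs7 (Nat.add (Nat.succ 133529) k)) 268 = true := by decide +kernel
theorem s7c415 : allBelow (fun k => fs7 (Nat.add (Nat.succ 133797) k)) 270 = true := by decide +kernel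
theorem s7c416 : allBelow (fun k => fs7 (Nat.add (Nat.succ 134067) k)) 267 = true := by decide +kernel
theorem s7c417 : allBelow (fun k => fs7 (Nat.add (Nat.succ 134334) k)) 279 = true := by decide +kernel
theorem s7c418 : allBelow (fun k => fs7 (Nat.add (Nat.succ 134613) k)) 270 = true := by decide +kernel

end Cfsg.Agent.Lib.Helper35.Fi24a
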