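import Cfsg.Agent.Lib.Helper35.Fi24a.Data

set_option Elab.async false

namespace Cfsg.Agent.Lib.Helper35.Fi24a

open Cfsg.Agent.Lib.Helper35

theorem s7c419 : allBelow (fun k => fs7 (Nat.add (Nat.succ 134883) k)) 283 = true := by decide +kernel
theorem s7c420 : allBelow (fun k => fs7 (Nat.add (Nat.succ 135166) k)) 282 = true := by decide +kernel
theorem s7c421 : allBelow (fun k => fs7 (Nat.add (Nat.succ 135448) k)) 281 = true := by decide +kernel
theorem s7c422 : allBelow (fun k => fs7 (Nat.add (Nat.succ 135729) k)) 282 = true := by decide +kernel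
theorem s7c423 : allBelow (fun k => fs7 (Nat.add (Nat.succ 136011) k)) 287 = true := by decide +kernel
theorem s7c424 : allBelow (fun k => fs7 (Nat.add (Nat.succ 136298) k)) 259 = true := by decide +kernel
theorem s7c425 : allBelow (fun k => fs7 (Nat.add (Nat.succ 136557) k)) 274 = true := by decide +kernel
theorem s7c426 : allBelow (fun k => fs7 (Nat.add (Nat.succ 136831) k)) 279 = true := by decide +kernel
theorem s7c427 : allBelow (fun k => fs7 (Nat.add (Nat.succ 137110) k)) 278 = true := by decide +kernel
theorem s7c428 : allBelow (fun k => fs7 (Nat.add (Nat.succ 137388) k)) 275 = true := by decide +kernel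
theorem s7c429 : allBelow (fun k => fs7 (Nat.add (Nat.succ 137663) k)) 277 = true := by decide +kernel
theorem s7c430 : allBelow (fun k => fs7 (Nat.add (Nat.succ 137940) k)) 274 = true := by decide +kernel
theorem s7c431 : allBelow (fun k => fs7 (Nat.add (Nat.succ 138214) k)) 237 = true := by decide +kernel
theorem s7c432 : allBelow (fun k => fs7 (Nat.add (Nat.succ 138451) k)) 270 = true := by decide +kernel
theorem s7c433 : allBelow (fun k => fs7 (Nat.add (Nat.succ 138721) k)) 295 = true := by decide +kernel
theorem s7c434 : allBelow (fun k => fs7 (Nat.add (Nat.succ 139016) k)) 262 = true := by decide +kernel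
theorem s7c435 : allBelow (fun k => fs7 (Nat.add (Nat.succ 139278) k)) 249 = true := by decide +kernel
theorem s7c436 : allBelow (fun k => fs7 (Nat.add (Nat.succ 139527) k)) 258 = true := by decide +kernel
theorem s7c437 : allBelow (fun k => fs7 (Nat.add (Nat.succ 139785) k)) 251 = true := by decide +kernel
theorem s7c438 : allBelow (fun k => fs7 (Nat.add (Nat.succ 140036) k)) 256 = true := by decide +kernel
theorem s7c439 : allBelow (fun k => fs7 (Nat.add (Nat.succ 140292) k)) 273 = true := by decide +kernel
theorem s7c440 : allBelow (fun k => fs7 (Nat.add (Nat.succ 140565) k)) 262 = true := by decide +kernel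
theorem s7c441 : allBelow (fun k => fs7 (Nat.add (Nat.succ 140827) k)) 267 = true := by decide +kernel
theorem s7c442 : allBelow (fun k => fs7 (Nat.add (Nat.succ 141094) k)) 255 = true := by decide +kernel
theorem s7c443 : allBelow (fun k => fs7 (Nat.add (Nat.succ 141349) k)) 267 = true := by decide +kernel
theorem s7c444 : allBelow (fun k => fs7 (Nat.add (Nat.succ 141616) k)) 274 = true := by decide +kernel
theorem s7c445 : allBelow (fun k => fs7 (Nat.add (Nat.succ 141890) k)) 261 = true := by decide +kernel
theorem s7c446 : allBelow (fun k => fs7 (Nat.add (Nat.succ 142151) k)) 254 = true := by decide +kernel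
theorem s7c447 : allBelow (fun k => fs7 (Nat.add (Nat.succ 142405) k)) 256 = true := by decide +kernel
theorem s7c448 : allBelow (fun k => fs7 (Nat.add (Nat.succ 142661) k)) 265 = true := by decide +kernel
theorem s7c449 : allBelow (fun k => fs7 (Nat.add (Nat.succ 142926) k)) 263 = true := by decide +kernel
theorem s7c450 : allBelow (fun k => fs7 (Nat.add (Nat.succ 143189) k)) 261 = true := by decide +kernel
theorem s7c451 : allBelow (fun k => fs7 (Nat.add (Nat.succ 143450) k)) 249 = true := by decide +kernel
theorem s7c452 : allBelow (fun k => fs7 (Nat.add (Nat.succ 143699) k)) 252 = true := by decide +kernel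
theorem s7c453 : allBelow (fun k => fs7 (Nat.add (Nat.succ 143951) k)) 264 = true := by decide +kernel
theorem s7c454 : allBelow (fun k => fs7 (Nat.add (Nat.succ 144215) k)) 264 = true := by decide +kernel
theorem s7c455 : allBelow (fun k => fs7 (Nat.add (Nat.succ 144479) k)) 261 = true := by decide +kernel
theorem s7c456 : allBelow (fun k => fs7 (Nat.add (Nat.succ 144740) k)) 275 = true := by decide +kernel
theorem s7c457 : allBelow (fun k => fs7 (Nat.add (Nat.succ 145015) k)) 280 = true := by decide +kernel
theorem s7c458 : allBelow (fun k => fs7 (Nat.add (Nat.succ 145295) k)) 273 = true := by decide +kernel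
theorem s7c459 : allBelow (fun k => fs7 (Nat.add (Nat.succ 145568) k)) 268 = true := by decide +kernel
theorem s7c460 : allBelow (fun k => fs7 (Nat.add (Nat.succ 145836) k)) 254 = true := by decide +kernel
theorem s7c461 : allBelow (fun k => fs7 (Nat.add (Nat.succ 146090) k)) 273 = true := by decide +kernel
theorem s7c462 : allBelow (fun k => fs7 (Nat.add (Nat.succ 146363) k)) 258 = true := by decide +kernel
theorem s7c463 : allBelow (fun k => fs7 (Nat.add (Nat.succ 146621) k)) 266 = true := by decide +kernel
theorem s7c464 : allBelow (fun k => fs7 (Nat.add (Nat.succ 146887) k)) 250 = true := by decide +kernel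
theorem s7c465 : allBelow (fun k => fs7 (Nat.add (Nat.succ 147137) k)) 234 = true := by decide +kernel
theorem s7c466 : allBelow (fun k => fs7 (Nat.add (Nat.succ 147371) k)) 273 = true := by decide +kernel
theorem s7c467 : allBelow (fun k => fs7 (Nat.add (Nat.succ 147644) k)) 267 = true := by decide +kernel
theorem s7c468 : allBelow (fun k => fs7 (Nat.add (Nat.succ 147911) k)) 261 = true := by decide +kernel
theorem s7c469 : allBelow (fun k => fs7 (Nat.add (Nat.succ 148172) k)) 277 = true := by decide +kernel
theorem s7c470 : allBelow (fun k => fs7 (Nat.add (Nat.succ 148449) k)) 284 = true := by decide +kernel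
theorem s7c471 : allBelow (fun k => fs7 (Nat.add (Nat.succ 148733) k)) 282 = true := by decide +kernel
theorem s7c472 : allBelow (fun k => fs7 (Nat.add (Nat.succ 149015) k)) 271 = true := by decide +kernel
theorem s7c473 : allBelow (fun k => fs7 (Nat.add (Nat.succ 149286) k)) 265 = true := by decide +kernel
theorem s7c474 : allBelow (fun k => fs7 (Nat.add (Nat.succ 149551) k)) 257 = true := by decide +kernel
theorem s7c475 : allBelow (fun k => fs7 (Nat.add (Nat.succ 149808) k)) 253 = true := by decide +kernel
theorem s7c476 : allBelow (fun k => fs7 (Nat.add (Nat.succ 150061) k)) 269 = true := by decide +kernel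
theorem s7c477 : allBelow (fun k => fs7 (Nat.add (Nat.succ 150330) k)) 266 = true := by decide +kernel
theorem s7c478 : allBelow (fun k => fs7 (Nat.add (Nat.succ 150596) k)) 275 = true := by decide +kernel
theorem s7c479 : allBelow (fun k => fs7 (Nat.add (Nat.succ 150871) k)) 253 = true := by decide +kernel
theorem s7c480 : allBelow (fun k => fs7 (Nat.add (Nat.succ 151124) k)) 256 = true := by decide +kernel
theorem s7c481 : allBelow (fun k => fs7 (Nat.add (Nat.succ 151380) k)) 271 = true := by decide +kernel
theorem s7c482 : allBelow (fun k => fs7 (Nat.add (Nat.succ 151651) k)) 271 = true := by decide +kernel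
theorem s7c483 : allBelow (fun k => fs7 (Nat.add (Nat.succ 151922) k)) 259 = true := by decide +kernel
theorem s7c484 : allBelow (fun k => fs7 (Nat.add (Nat.succ 152181) k)) 277 = true := by decide +kernel
theorem s7c485 : allBelow (fun k => fs7 (Nat.add (Nat.succ 152458) k)) 275 = true := by decide +kernel
theorem s7c486 : allBelow (fun k => fs7 (Nat.add (Nat.succ 152733) k)) 277 = true := by decide +kernel
theorem s7c487 : allBelow (fun k => fs7 (Nat.add (Nat.succ 153010) k)) 285 = true := by decide +kernel
theorem s7c488 : allBelow (fun k => fs7 (Nat.add (Nat.succ 153295) k)) 282 = true := by decide +kernel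
theorem s7c489 : allBelow (fun k => fs7 (Nat.add (Nat.succ 153577) k)) 282 = true := by decide +kernel
theorem s7c490 : allBelow (fun k => fs7 (Nat.add (Nat.succ 153859) k)) 276 = true := by decide +kernel
theorem s7c491 : allBelow (fun k => fs7 (Nat.add (Nat.succ 154135) k)) 278 = true := by decide +kernel
theorem s7c492 : allBelow (fun k => fs7 (Nat.add (Nat.succ 154413) k)) 282 = true := by decide +kernel
theorem s7c493 : allBelow (fun k => fs7 (Nat.add (Nat.succ 154695) k)) 255 = true := by decide +kernel
theorem s7c494 : allBelow (fun k => fs7 (Nat.add (Nat.succ 154950) k)) 272 = true := by decide +kernel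
theorem s7c495 : allBelow (fun k => fs7 (Nat.add (Nat.succ 155222) k)) 282 = true := by decide +kernel
theorem s7c496 : allBelow (fun k => fs7 (Nat.add (Nat.succ 155504) k)) 275 = true := by decide +kernel
theorem s7c497 : allBelow (fun k => fs7 (Nat.add (Nat.succ 155779) k)) 282 = true := by decide +kernel
theorem s7c498 : allBelow (fun k => fs7 (Nat.add (Nat.succ 156061) k)) 284 = true := by decide +kernel
theorem s7c499 : allBelow (fun k => fs7 (Nat.add (Nat.succ 156345) k)) 244 = true := by decide +kernel
theorem s7c500 : allBelow (fun k => fs7 (Nat.add (Nat.succ 156589) k)) 263 = true := by decide +kernel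
theorem s7c501 : allBelow (fun k => fs7 (Nat.add (Nat.succ 156852) k)) 272 = true := by decide +kernel
theorem s7c502 : allBelow (fun k => fs7 (Nat.add (Nat.succ 157124) k)) 274 = true := by decide +kernel
theorem s7c503 : allBelow (fun k => fs7 (Nat.add (Nat.succ 157398) k)) 243 = true := by decide +kernel
theorem s7c504 : allBelow (fun k => fs7 (Nat.add (Nat.succ 157641) k)) 257 = true := by decide +kernel
theorem s7c505 : allBelow (fun k => fs7 (Nat.add (Nat.succ 157898) k)) 249 = true := by decide +kernel
theorem s7c506 : allBelow (fun k => fs7 (Nat.add (Nat.succ 158147) k)) 255 = true := by decide +kernel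
theorem s7c507 : allBelow (fun k => fs7 (Nat.add (Nat.succ 158402) k)) 271 = true := by decide +kernel
theorem s7c508 : allBelow (fun k => fs7 (Nat.add (Nat.succ 158673) k)) 255 = true := by decide +kernel
theorem s7c509 : allBelow (fun k => fs7 (Nat.add (Nat.succ 158928) k)) 259 = true := by decide +kernel
theorem s7c510 : allBelow (fun k => fs7 (Nat.add (Nat.succ 159187) k)) 259 = true := by decide +kernel
theorem s7c511 : allBelow (fun k => fs7 (Nat.add (Nat.succ 159446) k)) 259 = true := by decide +kernel
theorem s7c512 : allBelow (fun k => fs7 (Nat.add (Nat.succ 159705) k)) 267 = true := by decide +kernel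
theorem s7c513 : allBelow (fun k => fs7 (Nat.add (Nat.succ 159972) k)) 262 = true := by decide +kernel
theorem s7c514 : allBelow (fun k => fs7 (Nat.add (Nat.succ 160234) k)) 251 = true := by decide +kernel
theorem s7c515 : allBelow (fun k => fs7 (Nat.add (Nat.succ 160485) k)) 251 = true := by decide +kernel
theorem s7c516 : allBelow (fun k => fs7 (Nat.add (Nat.succ 160736) k)) 241 = true := by decide +kernel
theorem s7c517 : allBelow (fun k => fs7 (Nat.add (Nat.succ 160977) k)) 240 = true := by decide +kernel
theorem s7c518 : allBelow (fun k => fs7 (Nat.add (Nat.succ 161217) k)) 257 = true := by decide +kernel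
theorem s7c519 : allBelow (fun k => fs7 (Nat.add (Nat.succ 161474) k)) 269 = true := by decide +kernel
theorem s7c520 : allBelow (fun k => fs7 (Nat.add (Nat.succ 161743) k)) 261 = true := by decide +kernel
theorem s7c521 : allBelow (fun k => fs7 (Nat.add (Nat.succ 162004) k)) 256 = true := by decide +kernel
theorem s7c522 : allBelow (fun k => fs7 (Nat.add (Nat.succ 162260) k)) 234 = true := by decide +kernel
theorem s7c523 : allBelow (fun k => fs7 (Nat.add (Nat.succ 162494) k)) 266 = true := by decide +kernel
theorem s7c524 : allBelow (fun k => fs7 (Nat.add (Nat.succ 162760) k)) 253 = true := by decide +kernel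
theorem s7c525 : allBelow (fun k => fs7 (Nat.add (Nat.succ 163013) k)) 273 = true := by decide +kernel
theorem s7c526 : allBelow (fun k => fs7 (Nat.add (Nat.succ 163286) k)) 258 = true := by decide +kernel
theorem s7c527 : allBelow (fun k => fs7 (Nat.add (Nat.succ 163544) k)) 273 = true := by decide +kernel
theorem s7c528 : allBelow (fun k => fs7 (Nat.add (Nat.succ 163817) k)) 280 = true := by decide +kernel
theorem s7c529 : allBelow (fun k => fs7 (Nat.add (Nat.succ 164097) k)) 275 = true := by decide +kernel
theorem s7c530 : allBelow (fun k => fs7 (Nat.add (Nat.succ 164372) k)) 274 = true := by decide +kernel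
theorem s7c531 : allBelow (fun k => fs7 (Nat.add (Nat.succ 164646) k)) 263 = true := by decide +kernel
theorem s7c532 : allBelow (fun k => fs7 (Nat.add (Nat.succ 164909) k)) 256 = true := by decide +kernel
theorem s7c533 : allBelow (fun k => fs7 (Nat.add (Nat.succ 165165) k)) 276 = true := by decide +kernel
theorem s7c534 : allBelow (fun k => fs7 (Nat.add (Nat.succ 165441) k)) 270 = true := by decide +kernel
theorem s7c535 : allBelow (fun k => fs7 (Nat.add (Nat.succ 165711) k)) 259 = true := by decide +kernel
theorem s7c536 : allBelow (fun k => fs7 (Nat.add (Nat.succ 165970) k)) 237 = true := by decide +kernel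
theorem s7c537 : allBelow (fun k => fs7 (Nat.add (Nat.succ 166207) k)) 249 = true := by decide +kernel
theorem s7c538 : allBelow (fun k => fs7 (Nat.add (Nat.succ 166456) k)) 263 = true := by decide +kernel
theorem s7c539 : allBelow (fun k => fs7 (Nat.add (Nat.succ 166719) k)) 266 = true := by decide +kernel
theorem s7c540 : allBelow (fun k => fs7 (Nat.add (Nat.succ 166985) k)) 280 = true := by decide +kernel
theorem s7c541 : allBelow (fun k => fs7 (Nat.add (Nat.succ 167265) k)) 283 = true := by decide +kernel
theorem s7c542 : allBelow (fun k => fs7 (Nat.add (Nat.succ 167548) k)) 280 = true := by decide +kernel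
theorem s7c543 : allBelow (fun k => fs7 (Nat.add (Nat.succ 167828) k)) 276 = true := by decide +kernel
theorem s7c544 : allBelow (fun k => fs7 (Nat.add (Nat.succ 168104) k)) 264 = true := by decide +kernel
theorem s7c545 : allBelow (fun k => fs7 (Nat.add (Nat.succ 168368) k)) 260 = true := by decide +kernel
theorem s7c546 : allBelow (fun k => fs7 (Nat.add (Nat.succ 168628) k)) 247 = true := by decide +kernel
theorem s7c547 : allBelow (fun k => fs7 (Nat.add (Nat.succ 168875) k)) 265 = true := by decide +kernel
theorem s7c548 : allBelow (fun k => fs7 (Nat.add (Nat.succ 169140) k)) 271 = true := by decide +kernel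
theorem s7c549 : allBelow (fun k => fs7 (Nat.add (Nat.succ 169411) k)) 261 = true := by decide +kernel
theorem s7c550 : allBelow (fun k => fs7 (Nat.add (Nat.succ 169672) k)) 273 = true := by decide +kernel
theorem s7c551 : allBelow (fun k => fs7 (Nat.add (Nat.succ 169945) k)) 269 = true := by decide +kernel
theorem s7c552 : allBelow (fun k => fs7 (Nat.add (Nat.succ 170214) k)) 251 = true := by decide +kernel
theorem s7c553 : allBelow (fun k => fs7 (Nat.add (Nat.succ 170465) k)) 250 = true := by decide +kernel
theorem s7c554 : allBelow (fun k => fs7 (Nat.add (Nat.succ 170715) k)) 268 = true := by decide +kernel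
theorem s7c555 : allBelow (fun k => fs7 (Nat.add (Nat.succ 170983) k)) 272 = true := by decide +kernel
theorem s7c556 : allBelow (fun k => fs7 (Nat.add (Nat.succ 171255) k)) 259 = true := by decide +kernel
theorem s7c557 : allBelow (fun k => fs7 (Nat.add (Nat.succ 171514) k)) 260 = true := by decide +kernel
theorem s7c558 : allBelow (fun k => fs7 (Nat.add (Nat.succ 171774) k)) 267 = true := by decide +kernel
theorem s7c559 : allBelow (fun k => fs7 (Nat.add (Nat.succ 172041) k)) 271 = true := by decide +kernel
theorem s7c560 : allBelow (fun k => fs7 (Nat.add (Nat.succ 172312) k)) 276 = true := by decide +kernel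
theorem s7c561 : allBelow (fun k => fs7 (Nat.add (Nat.succ 172588) k)) 287 = true := by decide +kernel
theorem s7c562 : allBelow (fun k => fs7 (Nat.add (Nat.succ 172875) k)) 283 = true := by decide +kernel
theorem s7c563 : allBelow (fun k => fs7 (Nat.add (Nat.succ 173158) k)) 280 = true := by decide +kernel
theorem s7c564 : allBelow (fun k => fs7 (Nat.add (Nat.succ 173438) k)) 281 = true := by decide +kernel
theorem s7c565 : allBelow (fun k => fs7 (Nat.add (Nat.succ 173719) k)) 278 = true := by decide +kernel
theorem s7c566 : allBelow (fun k => fs7 (Nat.add (Nat.succ 173997) k)) 280 = true := by decide +kernel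
theorem s7c567 : allBelow (fun k => fs7 (Nat.add (Nat.succ 174277) k)) 277 = true := by decide +kernel
theorem s7c568 : allBelow (fun k => fs7 (Nat.add (Nat.succ 174554) k)) 280 = true := by decide +kernel
theorem s7c569 : allBelow (fun k => fs7 (Nat.add (Nat.succ 174834) k)) 250 = true := by decide +kernel
theorem s7c570 : allBelow (fun k => fs7 (Nat.add (Nat.succ 175084) k)) 274 = true := by decide +kernel
theorem s7c571 : allBelow (fun k => fs7 (Nat.add (Nat.succ 175358) k)) 278 = true := by decide +kernel
theorem s7c572 : allBelow (fun k => fs7 (Nat.add (Nat.succ 175636) k)) 271 = true := by decide +kernel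
theorem s7c573 : allBelow (fun k => fs7 (Nat.add (Nat.succ 175907) k)) 286 = true := by decide +kernel
theorem s7c574 : allBelow (fun k => fs7 (Nat.add (Nat.succ 176193) k)) 283 = true := by decide +kernel
theorem s7c575 : allBelow (fun k => fs7 (Nat.add (Nat.succ 176476) k)) 249 = true := by decide +kernel
theorem s7c576 : allBelow (fun k => fs7 (Nat.add (Nat.succ 176725) k)) 283 = true := by decide +kernel
theorem s7c577 : allBelow (fun k => fs7 (Nat.add (Nat.succ 177008) k)) 266 = true := by decide +kernel
theorem s7c578 : allBelow (fun k => fs7 (Nat.add (Nat.succ 177274) k)) 252 = true := by decide +kernel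
theorem s7c579 : allBelow (fun k => fs7 (Nat.add (Nat.succ 177526) k)) 258 = true := by decide +kernel
theorem s7c580 : allBelow (fun k => fs7 (Nat.add (Nat.succ 177784) k)) 238 = true := by decide +kernel
theorem s7c581 : allBelow (fun k => fs7 (Nat.add (Nat.succ 178022) k)) 260 = true := by decide +kernel
theorem s7c582 : allBelow (fun k => fs7 (Nat.add (Nat.succ 178282) k)) 268 = true := by decide +kernel
theorem s7c583 : allBelow (fun k => fs7 (Nat.add (Nat.succ 178550) k)) 262 = true := by decide +kernel
theorem s7c584 : allBelow (fun k => fs7 (Nat.add (Nat.succ 178812) k)) 262 = true := by decide +kernel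
theorem s7c585 : allBelow (fun k => fs7 (Nat.add (Nat.succ 179074) k)) 259 = true := by decide +kernel
theorem s7c586 : allBelow (fun k => fs7 (Nat.add (Nat.succ 179333) k)) 262 = true := by decide +kernel
theorem s7c587 : allBelow (fun k => fs7 (Nat.add (Nat.succ 179595) k)) 261 = true := by decide +kernel
theorem s7c588 : allBelow (fun k => fs7 (Nat.add (Nat.succ 179856) k)) 267 = true := by decide +kernel
theorem s7c589 : allBelow (fun k => fs7 (Nat.add (Nat.succ 180123) k)) 259 = true := by decide +kernel
theorem s7c590 : allBelow (fun k => fs7 (Nat.add (Nat.succ 180382) k)) 255 = true := by decide +kernel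
theorem s7c591 : allBelow (fun k => fs7 (Nat.add (Nat.succ 180637) k)) 236 = true := by decide +kernel
theorem s7c592 : allBelow (fun k => fs7 (Nat.add (Nat.succ 180873) k)) 249 = true := by decide +kernel
theorem s7c593 : allBelow (fun k => fs7 (Nat.add (Nat.succ 181122) k)) 246 = true := by decide +kernel
theorem s7c594 : allBelow (fun k => fs7 (Nat.add (Nat.succ 181368) k)) 266 = true := by decide +kernel
theorem s7c595 : allBelow (fun k => fs7 (Nat.add (Nat.succ 181634) k)) 263 = true := by decide +kernel
theorem s7c596 : allBelow (fun k => fs7 (Nat.add (Nat.succ 181897) k)) 261 = true := by decide +kernel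
theorem s7c597 : allBelow (fun k => fs7 (Nat.add (Nat.succ 182158) k)) 266 = true := by decide +kernel
theorem s7c598 : allBelow (fun k => fs7 (Nat.add (Nat.succ 182424) k)) 244 = true := by decide +kernel
theorem s7c599 : allBelow (fun k => fs7 (Nat.add (Nat.succ 182668) k)) 257 = true := by decide +kernel
theorem s7c600 : allBelow (fun k => fs7 (Nat.add (Nat.succ 182925) k)) 261 = true := by decide +kernel
theorem s7c601 : allBelow (fun k => fs7 (Nat.add (Nat.succ 183186) k)) 260 = true := by decide +kernel
theorem s7c602 : allBelow (fun k => fs7 (Nat.add (Nat.succ 183446) k)) 270 = true := by decide +kernel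
theorem s7c603 : allBelow (fun k => fs7 (Nat.add (Nat.succ 183716) k)) 265 = true := by decide +kernel
theorem s7c604 : allBelow (fun k => fs7 (Nat.add (Nat.succ 183981) k)) 276 = true := by decide +kernel
theorem s7c605 : allBelow (fun k => fs7 (Nat.add (Nat.succ 184257) k)) 281 = true := by decide +kernel
theorem s7c606 : allBelow (fun k => fs7 (Nat.add (Nat.succ 184538) k)) 272 = true := by decide +kernel
theorem s7c607 : allBelow (fun k => fs7 (Nat.add (Nat.succ 184810) k)) 273 = true := by decide +kernel
theorem s7c608 : allBelow (fun k => fs7 (Nat.add (Nat.succ 185083) k)) 275 = true := by decide +kernel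
theorem s7c609 : allBelow (fun k => fs7 (Nat.add (Nat.succ 185358) k)) 248 = true := by decide +kernel
theorem s7c610 : allBelow (fun k => fs7 (Nat.add (Nat.succ 185606) k)) 272 = true := by decide +kernel
theorem s7c611 : allBelow (fun k => fs7 (Nat.add (Nat.succ 185878) k)) 260 = true := by decide +kernel
theorem s7c612 : allBelow (fun k => fs7 (Nat.add (Nat.succ 186138) k)) 276 = true := by decide +kernel
theorem s7c613 : allBelow (fun k => fs7 (Nat.add (Nat.succ 186414) k)) 231 = true := by decide +kernel
theorem s7c614 : allBelow (fun k => fs7 (Nat.add (Nat.succ 186645) k)) 252 = true := by decide +kernel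
theorem s7c615 : allBelow (fun k => fs7 (Nat.add (Nat.succ 186897) k)) 270 = true := by decide +kernel
theorem s7c616 : allBelow (fun k => fs7 (Nat.add (Nat.succ 187167) k)) 270 = true := by decide +kernel
theorem s7c617 : allBelow (fun k => fs7 (Nat.add (Nat.succ 187437) k)) 275 = true := by decide +kernel
theorem s7c618 : allBelow (fun k => fs7 (Nat.add (Nat.succ 187712) k)) 284 = true := by decide +kernel
theorem s7c619 : allBelow (fun k => fs7 (Nat.add (Nat.succ 187996) k)) 279 = true := by decide +kernel
theorem s7c620 : allBelow (fun k => fs7 (Nat.add (Nat.succ 188275) k)) 273 = true := by decide +kernel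
theorem s7c621 : allBelow (fun k => fs7 (Nat.add (Nat.succ 188548) k)) 264 = true := by decide +kernel
theorem s7c622 : allBelow (fun k => fs7 (Nat.add (Nat.succ 188812) k)) 258 = true := by decide +kernel
theorem s7c623 : allBelow (fun k => fs7 (Nat.add (Nat.succ 189070) k)) 256 = true := by decide +kernel
theorem s7c624 : allBelow (fun k => fs7 (Nat.add (Nat.succ 189326) k)) 261 = true := by decide +kernel
theorem s7c625 : allBelow (fun k => fs7 (Nat.add (Nat.succ 189587) k)) 273 = true := by decide +kernel
theorem s7c626 : allBelow (fun k => fs7 (Nat.add (Nat.succ 189860) k)) 273 = true := by decide +kernel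
theorem s7c627 : allBelow (fun k => fs7 (Nat.add (Nat.succ 190133) k)) 261 = true := by decide +kernel
theorem s7c628 : allBelow (fun k => fs7 (Nat.add (Nat.succ 190394) k)) 264 = true := by decide +kernel
theorem s7c629 : allBelow (fun k => fs7 (Nat.add (Nat.succ 190658) k)) 274 = true := by decide +kernel
theorem s7c630 : allBelow (fun k => fs7 (Nat.add (Nat.succ 190932) k)) 264 = true := by decide +kernel
theorem s7c631 : allBelow (fun k => fs7 (Nat.add (Nat.succ 191196) k)) 248 = true := by decide +kernel
theorem s7c632 : allBelow (fun k => fs7 (Nat.add (Nat.succ 191444) k)) 250 = true := by decide +kernel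
theorem s7c633 : allBelow (fun k => fs7 (Nat.add (Nat.succ 191694) k)) 269 = true := by decide +kernel
theorem s7c634 : allBelow (fun k => fs7 (Nat.add (Nat.succ 191963) k)) 270 = true := by decide +kernel
theorem s7c635 : allBelow (fun k => fs7 (Nat.add (Nat.succ 192233) k)) 257 = true := by decide +kernel
theorem s7c636 : allBelow (fun k => fs7 (Nat.add (Nat.succ 192490) k)) 260 = true := by decide +kernel
theorem s7c637 : allBelow (fun k => fs7 (Nat.add (Nat.succ 192750) k)) 273 = true := by decide +kernel
theorem s7c638 : allBelow (fun k => fs7 (Nat.add (Nat.succ 193023) k)) 276 = true := by decide +kernel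
theorem s7c639 : allBelow (fun k => fs7 (Nat.add (Nat.succ 193299) k)) 268 = true := by decide +kernel
theorem s7c640 : allBelow (fun k => fs7 (Nat.add (Nat.succ 193567) k)) 287 = true := by decide +kernel
theorem s7c641 : allBelow (fun k => fs7 (Nat.add (Nat.succ 193854) k)) 288 = true := by decide +kernel
theorem s7c642 : allBelow (fun k => fs7 (Nat.add (Nat.succ 194142) k)) 281 = true := by decide +kernel
theorem s7c643 : allBelow (fun k => fs7 (Nat.add (Nat.succ 194423) k)) 276 = true := by decide +kernel
theorem s7c644 : allBelow (fun k => fs7 (Nat.add (Nat.succ 194699) k)) 283 = true := by decide +kernel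
theorem s7c645 : allBelow (fun k => fs7 (Nat.add (Nat.succ 194982) k)) 283 = true := by decide +kernel
theorem s7c646 : allBelow (fun k => fs7 (Nat.add (Nat.succ 195265) k)) 275 = true := by decide +kernel
theorem s7c647 : allBelow (fun k => fs7 (Nat.add (Nat.succ 195540) k)) 277 = true := by decide +kernel
theorem s7c648 : allBelow (fun k => fs7 (Nat.add (Nat.succ 195817) k)) 281 = true := by decide +kernel
theorem s7c649 : allBelow (fun k => fs7 (Nat.add (Nat.succ 196098) k)) 285 = true := by decide +kernel
theorem s7c650 : allBelow (fun k => fs7 (Nat.add (Nat.succ 196383) k)) 256 = true := by decide +kernel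
theorem s7c651 : allBelow (fun k => fs7 (Nat.add (Nat.succ 196639) k)) 274 = true := by decide +kernel
theorem s7c652 : allBelow (fun k => fs7 (Nat.add (Nat.succ 196913) k)) 273 = true := by decide +kernel
theorem s7c653 : allBelow (fun k => fs7 (Nat.add (Nat.succ 197186) k)) 274 = true := by decide +kernel
theorem s7c654 : allBelow (fun k => fs7 (Nat.add (Nat.succ 197460) k)) 283 = true := by decide +kernel
theorem s7c655 : allBelow (fun k => fs7 (Nat.add (Nat.succ 197743) k)) 277 = true := by decide +kernel
theorem s7c656 : allBelow (fun k => fs7 (Nat.add (Nat.succ 198020) k)) 284 = true := by decide +kernel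
theorem s7c657 : allBelow (fun k => fs7 (Nat.add (Nat.succ 198304) k)) 289 = true := by decide +kernel
theorem s7c658 : allBelow (fun k => fs7 (Nat.add (Nat.succ 198593) k)) 254 = true := by decide +kernel
theorem s7c659 : allBelow (fun k => fs7 (Nat.add (Nat.succ 198847) k)) 251 = true := by decide +kernel
theorem s7c660 : allBelow (fun k => fs7 (Nat.add (Nat.succ 199098) k)) 245 = true := by decide +kernel
theorem s7c661 : allBelow (fun k => fs7 (Nat.add (Nat.succ 199343) k)) 265 = true := by decide +kernel
theorem s7c662 : allBelow (fun k => fs7 (Nat.add (Nat.succ 199608) k)) 256 = true := by decide +kernel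
theorem s7c663 : allBelow (fun k => fs7 (Nat.add (Nat.succ 199864) k)) 256 = true := by decide +kernel
theorem s7c664 : allBelow (fun k => fs7 (Nat.add (Nat.succ 200120) k)) 267 = true := by decide +kernel
theorem s7c665 : allBelow (fun k => fs7 (Nat.add (Nat.succ 200387) k)) 257 = true := by decide +kernel
theorem s7c666 : allBelow (fun k => fs7 (Nat.add (Nat.succ 200644) k)) 260 = true := by decide +kernel
theorem s7c667 : allBelow (fun k => fs7 (Nat.add (Nat.succ 200904) k)) 251 = true := by decide +kernel
theorem s7c668 : allBelow (fun k => fs7 (Nat.add (Nat.succ 201155) k)) 263 = true := by decide +kernel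
theorem s7c669 : allBelow (fun k => fs7 (Nat.add (Nat.succ 201418) k)) 260 = true := by decide +kernel
theorem s7c670 : allBelow (fun k => fs7 (Nat.add (Nat.succ 201678) k)) 250 = true := by decide +kernel
theorem s7c671 : allBelow (fun k => fs7 (Nat.add (Nat.succ 201928) k)) 253 = true := by decide +kernel
theorem s7c672 : allBelow (fun k => fs7 (Nat.add (Nat.succ 202181) k)) 242 = true := by decide +kernel
theorem s7c673 : allBelow (fun k => fs7 (Nat.add (Nat.succ 202423) k)) 252 = true := by decide +kernel
theorem s7c674 : allBelow (fun k => fs7 (Nat.add (Nat.succ 202675) k)) 259 = true := by decide +kernel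
theorem s7c675 : allBelow (fun k => fs7 (Nat.add (Nat.succ 202934) k)) 271 = true := by decide +kernel
theorem s7c676 : allBelow (fun k => fs7 (Nat.add (Nat.succ 203205) k)) 260 = true := by decide +kernel
theorem s7c677 : allBelow (fun k => fs7 (Nat.add (Nat.succ 203465) k)) 256 = true := by decide +kernel
theorem s7c678 : allBelow (fun k => fs7 (Nat.add (Nat.succ 203721) k)) 266 = true := by decide +kernel
theorem s7c679 : allBelow (fun k => fs7 (Nat.add (Nat.succ 203987) k)) 253 = true := by decide +kernel
theorem s7c680 : allBelow (fun k => fs7 (Nat.add (Nat.succ 204240) k)) 240 = true := by decide +kernel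
theorem s7c681 : allBelow (fun k => fs7 (Nat.add (Nat.succ 204480) k)) 269 = true := by decide +kernel
theorem s7c682 : allBelow (fun k => fs7 (Nat.add (Nat.succ 204749) k)) 251 = true := by decide +kernel
theorem s7c683 : allBelow (fun k => fs7 (Nat.add (Nat.succ 205000) k)) 272 = true := by decide +kernel
theorem s7c684 : allBelow (fun k => fs7 (Nat.add (Nat.succ 205272) k)) 264 = true := by decide +kernel
theorem s7c685 : allBelow (fun k => fs7 (Nat.add (Nat.succ 205536) k)) 276 = true := by decide +kernel
theorem s7c686 : allBelow (fun k => fs7 (Nat.add (Nat.succ 205812) k)) 277 = true := by decide +kernel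
theorem s7c687 : allBelow (fun k => fs7 (Nat.add (Nat.succ 206089) k)) 281 = true := by decide +kernel
theorem s7c688 : allBelow (fun k => fs7 (Nat.add (Nat.succ 206370) k)) 279 = true := by decide +kernel
theorem s7c689 : allBelow (fun k => fs7 (Nat.add (Nat.succ 206649) k)) 268 = true := by decide +kernel
theorem s7c690 : allBelow (fun k => fs7 (Nat.add (Nat.succ 206917) k)) 278 = true := by decide +kernel
theorem s7c691 : allBelow (fun k => fs7 (Nat.add (Nat.succ 207195) k)) 270 = true := by decide +kernel
theorem s7c692 : allBelow (fun k => fs7 (Nat.add (Nat.succ 207465) k)) 263 = true := by decide +kernel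
theorem s7c693 : allBelow (fun k => fs7 (Nat.add (Nat.succ 207728) k)) 262 = true := by decide +kernel
theorem s7c694 : allBelow (fun k => fs7 (Nat.add (Nat.succ 207990) k)) 271 = true := by decide +kernel
theorem s7c695 : allBelow (fun k => fs7 (Nat.add (Nat.succ 208261) k)) 259 = true := by decide +kernel
theorem s7c696 : allBelow (fun k => fs7 (Nat.add (Nat.succ 208520) k)) 267 = true := by decide +kernel
theorem s7c697 : allBelow (fun k => fs7 (Nat.add (Nat.succ 208787) k)) 271 = true := by decide +kernel
theorem s7c698 : allBelow (fun k => fs7 (Nat.add (Nat.succ 209058) k)) 272 = true := by decide +kernel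
theorem s7c699 : allBelow (fun k => fs7 (Nat.add (Nat.succ 209330) k)) 277 = true := by decide +kernel
theorem s7c700 : allBelow (fun k => fs7 (Nat.add (Nat.succ 209607) k)) 277 = true := by decide +kernel
theorem s7c701 : allBelow (fun k => fs7 (Nat.add (Nat.succ 209884) k)) 280 = true := by decide +kernel
theorem s7c702 : allBelow (fun k => fs7 (Nat.add (Nat.succ 210164) k)) 274 = true := by decide +kernel
theorem s7c703 : allBelow (fun k => fs7 (Nat.add (Nat.succ 210438) k)) 275 = true := by decide +kernel
theorem s7c704 : allBelow (fun k => fs7 (Nat.add (Nat.succ 210713) k)) 256 = true := by decide +kernel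
theorem s7c705 : allBelow (fun k => fs7 (Nat.add (Nat.succ 210969) k)) 263 = true := by decide +kernel
theorem s7c706 : allBelow (fun k => fs7 (Nat.add (Nat.succ 211232) k)) 261 = true := by decide +kernel
theorem s7c707 : allBelow (fun k => fs7 (Nat.add (Nat.succ 211493) k)) 270 = true := by decide +kernel
theorem s7c708 : allBelow (fun k => fs7 (Nat.add (Nat.succ 211763) k)) 275 = true := by decide +kernel
theorem s7c709 : allBelow (fun k => fs7 (Nat.add (Nat.succ 212038) k)) 268 = true := by decide +kernel
theorem s7c710 : allBelow (fun k => fs7 (Nat.add (Nat.succ 212306) k)) 262 = true := by decide +kernel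
theorem s7c711 : allBelow (fun k => fs7 (Nat.add (Nat.succ 212568) k)) 263 = true := by decide +kernel
theorem s7c712 : allBelow (fun k => fs7 (Nat.add (Nat.succ 212831) k)) 271 = true := by decide +kernel
theorem s7c713 : allBelow (fun k => fs7 (Nat.add (Nat.succ 213102) k)) 264 = true := by decide +kernel
theorem s7c714 : allBelow (fun k => fs7 (Nat.add (Nat.succ 213366) k)) 265 = true := by decide +kernel
theorem s7c715 : allBelow (fun k => fs7 (Nat.add (Nat.succ 213631) k)) 248 = true := by decide +kernel
theorem s7c716 : allBelow (fun k => fs7 (Nat.add (Nat.succ 213879) k)) 248 = true := by decide +kernel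
theorem s7c717 : allBelow (fun k => fs7 (Nat.add (Nat.succ 214127) k)) 271 = true := by decide +kernel
theorem s7c718 : allBelow (fun k => fs7 (Nat.add (Nat.succ 214398) k)) 265 = true := by decide +kernel
theorem s7c719 : allBelow (fun k => fs7 (Nat.add (Nat.succ 214663) k)) 263 = true := by decide +kernel
theorem s7c720 : allBelow (fun k => fs7 (Nat.add (Nat.succ 214926) k)) 259 = true := by decide +kernel
theorem s7c721 : allBelow (fun k => fs7 (Nat.add (Nat.succ 215185) k)) 275 = true := by decide +kernel
theorem s7c722 : allBelow (fun k => fs7 (Nat.add (Nat.succ 215460) k)) 272 = true := by decide +kernel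
theorem s7c723 : allBelow (fun k => fs7 (Nat.add (Nat.succ 215732) k)) 273 = true := by decide +kernel
theorem s7c724 : allBelow (fun k => fs7 (Nat.add (Nat.succ 216005) k)) 281 = true := by decide +kernel
theorem s7c725 : allBelow (fun k => fs7 (Nat.add (Nat.succ 216286) k)) 287 = true := by decide +kernel
theorem s7c726 : allBelow (fun k => fs7 (Nat.add (Nat.succ 216573) k)) 286 = true := by decide +kernel
theorem s7c727 : allBelow (fun k => fs7 (Nat.add (Nat.succ 216859) k)) 284 = true := by decide +kernel
theorem s7c728 : allBelow (fun k => fs7 (Nat.add (Nat.succ 217143) k)) 278 = true := by decide +kernel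
theorem s7c729 : allBelow (fun k => fs7 (Nat.add (Nat.succ 217421) k)) 279 = true := by decide +kernel
theorem s7c730 : allBelow (fun k => fs7 (Nat.add (Nat.succ 217700) k)) 278 = true := by decide +kernel
theorem s7c731 : allBelow (fun k => fs7 (Nat.add (Nat.succ 217978) k)) 283 = true := by decide +kernel
theorem s7c732 : allBelow (fun k => fs7 (Nat.add (Nat.succ 218261) k)) 279 = true := by decide +kernel
theorem s7c733 : allBelow (fun k => fs7 (Nat.add (Nat.succ 218540) k)) 277 = true := by decide +kernel
theorem s7c734 : allBelow (fun k => fs7 (Nat.add (Nat.succ 218817) k)) 281 = true := by decide +kernel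
theorem s7c735 : allBelow (fun k => fs7 (Nat.add (Nat.succ 219098) k)) 284 = true := by decide +kernel
theorem s7c736 : allBelow (fun k => fs7 (Nat.add (Nat.succ 219382) k)) 262 = true := by decide +kernel
theorem s7c737 : allBelow (fun k => fs7 (Nat.add (Nat.succ 219644) k)) 272 = true := by decide +kernel

end Cfsg.Agent.Lib.Helper35.Fi24a
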