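import Cfsg.Agent.Lib.Helper35.Fi24a.Data

set_option Elab.async false

namespace Cfsg.Agent.Lib.Helper35.Fi24a

open Cfsg.Agent.Lib.Helper35

theorem s0c957 : allBelow (fun k => fs0 (Nat.add (Nat.succ 279833) k)) 232 = true := by decide +kernel
theorem s0c958 : allBelow (fun k => fs0 (Nat.add (Nat.succ 280065) k)) 232 = true := by decide +kernel
theorem s0c959 : allBelow (fun k => fs0 (Nat.add (Nat.succ 280297) k)) 229 = true := by decide +kernel
theorem s0c960 : allBelow (fun k => fs0 (Nat.add (Nat.succ 280526) k)) 237 = true := by decide +kernel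
theorem s0c961 : allBelow (fun k => fs0 (Nat.add (Nat.succ 280763) k)) 229 = true := by decide +kernel
theorem s0c962 : allBelow (fun k => fs0 (Nat.add (Nat.succ 280992) k)) 229 = true := by decide +kernel
theorem s0c963 : allBelow (fun k => fs0 (Nat.add (Nat.succ 281221) k)) 230 = true := by decide +kernel
theorem s0c964 : allBelow (fun k => fs0 (Nat.add (Nat.succ 281451) k)) 235 = true := by decide +kernel
theorem s0c965 : allBelow (fun k => fs0 (Nat.add (Nat.succ 281686) k)) 228 = true := by decide +kernel
theorem s0c966 : allBelow (fun k => fs0 (Nat.add (Nat.succ 281914) k)) 228 = true := by decide +kernel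
theorem s0c967 : allBelow (fun k => fs0 (Nat.add (Nat.succ 282142) k)) 227 = true := by decide +kernel
theorem s0c968 : allBelow (fun k => fs0 (Nat.add (Nat.succ 282369) k)) 230 = true := by decide +kernel
theorem s0c969 : allBelow (fun k => fs0 (Nat.add (Nat.succ 282599) k)) 228 = true := by decide +kernel
theorem s0c970 : allBelow (fun k => fs0 (Nat.add (Nat.succ 282827) k)) 265 = true := by decide +kernel
theorem s0c971 : allBelow (fun k => fs0 (Nat.add (Nat.succ 283092) k)) 313 = true := by decide +kernel
theorem s0c972 : allBelow (fun k => fs0 (Nat.add (Nat.succ 283405) k)) 271 = true := by decide +kernel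
theorem s0c973 : allBelow (fun k => fs0 (Nat.add (Nat.succ 283676) k)) 312 = true := by decide +kernel
theorem s0c974 : allBelow (fun k => fs0 (Nat.add (Nat.succ 283988) k)) 313 = true := by decide +kernel
theorem s0c975 : allBelow (fun k => fs0 (Nat.add (Nat.succ 284301) k)) 288 = true := by decide +kernel
theorem s0c976 : allBelow (fun k => fs0 (Nat.add (Nat.succ 284589) k)) 304 = true := by decide +kernel
theorem s0c977 : allBelow (fun k => fs0 (Nat.add (Nat.succ 284893) k)) 305 = true := by decide +kernel
theorem s0c978 : allBelow (fun k => fs0 (Nat.add (Nat.succ 285198) k)) 307 = true := by decide +kernel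
theorem s0c979 : allBelow (fun k => fs0 (Nat.add (Nat.succ 285505) k)) 272 = true := by decide +kernel
theorem s0c980 : allBelow (fun k => fs0 (Nat.add (Nat.succ 285777) k)) 285 = true := by decide +kernel
theorem s0c981 : allBelow (fun k => fs0 (Nat.add (Nat.succ 286062) k)) 305 = true := by decide +kernel
theorem s0c982 : allBelow (fun k => fs0 (Nat.add (Nat.succ 286367) k)) 309 = true := by decide +kernel
theorem s0c983 : allBelow (fun k => fs0 (Nat.add (Nat.succ 286676) k)) 314 = true := by decide +kernel
theorem s0c984 : allBelow (fun k => fs0 (Nat.add (Nat.succ 286990) k)) 313 = true := by decide +kernel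
theorem s0c985 : allBelow (fun k => fs0 (Nat.add (Nat.succ 287303) k)) 288 = true := by decide +kernel
theorem s0c986 : allBelow (fun k => fs0 (Nat.add (Nat.succ 287591) k)) 304 = true := by decide +kernel
theorem s0c987 : allBelow (fun k => fs0 (Nat.add (Nat.succ 287895) k)) 303 = true := by decide +kernel
theorem s0c988 : allBelow (fun k => fs0 (Nat.add (Nat.succ 288198) k)) 308 = true := by decide +kernel
theorem s0c989 : allBelow (fun k => fs0 (Nat.add (Nat.succ 288506) k)) 303 = true := by decide +kernel
theorem s0c990 : allBelow (fun k => fs0 (Nat.add (Nat.succ 288809) k)) 274 = true := by decide +kernel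
theorem s0c991 : allBelow (fun k => fs0 (Nat.add (Nat.succ 289083) k)) 285 = true := by decide +kernel
theorem s0c992 : allBelow (fun k => fs0 (Nat.add (Nat.succ 289368) k)) 303 = true := by decide +kernel
theorem s0c993 : allBelow (fun k => fs0 (Nat.add (Nat.succ 289671) k)) 277 = true := by decide +kernel
theorem s0c994 : allBelow (fun k => fs0 (Nat.add (Nat.succ 289948) k)) 250 = true := by decide +kernel
theorem s0c995 : allBelow (fun k => fs0 (Nat.add (Nat.succ 290198) k)) 311 = true := by decide +kernel
theorem s0c996 : allBelow (fun k => fs0 (Nat.add (Nat.succ 290509) k)) 310 = true := by decide +kernel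
theorem s0c997 : allBelow (fun k => fs0 (Nat.add (Nat.succ 290819) k)) 309 = true := by decide +kernel
theorem s0c998 : allBelow (fun k => fs0 (Nat.add (Nat.succ 291128) k)) 255 = true := by decide +kernel
theorem s0c999 : allBelow (fun k => fs0 (Nat.add (Nat.succ 291383) k)) 283 = true := by decide +kernel
theorem s0c1000 : allBelow (fun k => fs0 (Nat.add (Nat.succ 291666) k)) 300 = true := by decide +kernel
theorem s0c1001 : allBelow (fun k => fs0 (Nat.add (Nat.succ 291966) k)) 309 = true := by decide +kernel
theorem s0c1002 : allBelow (fun k => fs0 (Nat.add (Nat.succ 292275) k)) 259 = true := by decide +kernel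
theorem s0c1003 : allBelow (fun k => fs0 (Nat.add (Nat.succ 292534) k)) 317 = true := by decide +kernel
theorem s0c1004 : allBelow (fun k => fs0 (Nat.add (Nat.succ 292851) k)) 309 = true := by decide +kernel
theorem s0c1005 : allBelow (fun k => fs0 (Nat.add (Nat.succ 293160) k)) 311 = true := by decide +kernel
theorem s0c1006 : allBelow (fun k => fs0 (Nat.add (Nat.succ 293471) k)) 298 = true := by decide +kernel
theorem s0c1007 : allBelow (fun k => fs0 (Nat.add (Nat.succ 293769) k)) 315 = true := by decide +kernel
theorem s0c1008 : allBelow (fun k => fs0 (Nat.add (Nat.succ 294084) k)) 317 = true := by decide +kernel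
theorem s0c1009 : allBelow (fun k => fs0 (Nat.add (Nat.succ 294401) k)) 311 = true := by decide +kernel
theorem s0c1010 : allBelow (fun k => fs0 (Nat.add (Nat.succ 294712) k)) 315 = true := by decide +kernel
theorem s0c1011 : allBelow (fun k => fs0 (Nat.add (Nat.succ 295027) k)) 318 = true := by decide +kernel
theorem s0c1012 : allBelow (fun k => fs0 (Nat.add (Nat.succ 295345) k)) 311 = true := by decide +kernel
theorem s0c1013 : allBelow (fun k => fs0 (Nat.add (Nat.succ 295656) k)) 292 = true := by decide +kernel
theorem s0c1014 : allBelow (fun k => fs0 (Nat.add (Nat.succ 295948) k)) 279 = true := by decide +kernel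
theorem s0c1015 : allBelow (fun k => fs0 (Nat.add (Nat.succ 296227) k)) 228 = true := by decide +kernel
theorem s0c1016 : allBelow (fun k => fs0 (Nat.add (Nat.succ 296455) k)) 228 = true := by decide +kernel
theorem s0c1017 : allBelow (fun k => fs0 (Nat.add (Nat.succ 296683) k)) 228 = true := by decide +kernel
theorem s0c1018 : allBelow (fun k => fs0 (Nat.add (Nat.succ 296911) k)) 228 = true := by decide +kernel
theorem s0c1019 : allBelow (fun k => fs0 (Nat.add (Nat.succ 297139) k)) 228 = true := by decide +kernel
theorem s0c1020 : allBelow (fun k => fs0 (Nat.add (Nat.succ 297367) k)) 228 = true := by decide +kernel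
theorem s0c1021 : allBelow (fun k => fs0 (Nat.add (Nat.succ 297595) k)) 227 = true := by decide +kernel
theorem s0c1022 : allBelow (fun k => fs0 (Nat.add (Nat.succ 297822) k)) 227 = true := by decide +kernel
theorem s0c1023 : allBelow (fun k => fs0 (Nat.add (Nat.succ 298049) k)) 228 = true := by decide +kernel
theorem s0c1024 : allBelow (fun k => fs0 (Nat.add (Nat.succ 298277) k)) 236 = true := by decide +kernel
theorem s0c1025 : allBelow (fun k => fs0 (Nat.add (Nat.succ 298513) k)) 252 = true := by decide +kernel
theorem s0c1026 : allBelow (fun k => fs0 (Nat.add (Nat.succ 298765) k)) 231 = true := by decide +kernel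
theorem s0c1027 : allBelow (fun k => fs0 (Nat.add (Nat.succ 298996) k)) 230 = true := by decide +kernel
theorem s0c1028 : allBelow (fun k => fs0 (Nat.add (Nat.succ 299226) k)) 229 = true := by decide +kernel
theorem s0c1029 : allBelow (fun k => fs0 (Nat.add (Nat.succ 299455) k)) 229 = true := by decide +kernel
theorem s0c1030 : allBelow (fun k => fs0 (Nat.add (Nat.succ 299684) k)) 228 = true := by decide +kernel
theorem s0c1031 : allBelow (fun k => fs0 (Nat.add (Nat.succ 299912) k)) 227 = true := by decide +kernel
theorem s0c1032 : allBelow (fun k => fs0 (Nat.add (Nat.succ 300139) k)) 228 = true := by decide +kernel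
theorem s0c1033 : allBelow (fun k => fs0 (Nat.add (Nat.succ 300367) k)) 228 = true := by decide +kernel
theorem s0c1034 : allBelow (fun k => fs0 (Nat.add (Nat.succ 300595) k)) 247 = true := by decide +kernel
theorem s0c1035 : allBelow (fun k => fs0 (Nat.add (Nat.succ 300842) k)) 247 = true := by decide +kernel
theorem s0c1036 : allBelow (fun k => fs0 (Nat.add (Nat.succ 301089) k)) 228 = true := by decide +kernel
theorem s0c1037 : allBelow (fun k => fs0 (Nat.add (Nat.succ 301317) k)) 228 = true := by decide +kernel
theorem s0c1038 : allBelow (fun k => fs0 (Nat.add (Nat.succ 301545) k)) 228 = true := by decide +kernel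
theorem s0c1039 : allBelow (fun k => fs0 (Nat.add (Nat.succ 301773) k)) 228 = true := by decide +kernel
theorem s0c1040 : allBelow (fun k => fs0 (Nat.add (Nat.succ 302001) k)) 233 = true := by decide +kernel
theorem s0c1041 : allBelow (fun k => fs0 (Nat.add (Nat.succ 302234) k)) 229 = true := by decide +kernel
theorem s0c1042 : allBelow (fun k => fs0 (Nat.add (Nat.succ 302463) k)) 228 = true := by decide +kernel
theorem s0c1043 : allBelow (fun k => fs0 (Nat.add (Nat.succ 302691) k)) 228 = true := by decide +kernel
theorem s0c1044 : allBelow (fun k => fs0 (Nat.add (Nat.succ 302919) k)) 228 = true := by decide +kernel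
theorem s0c1045 : allBelow (fun k => fs0 (Nat.add (Nat.succ 303147) k)) 228 = true := by decide +kernel
theorem s0c1046 : allBelow (fun k => fs0 (Nat.add (Nat.succ 303375) k)) 228 = true := by decide +kernel
theorem s0c1047 : allBelow (fun k => fs0 (Nat.add (Nat.succ 303603) k)) 228 = true := by decide +kernel
theorem s0c1048 : allBelow (fun k => fs0 (Nat.add (Nat.succ 303831) k)) 229 = true := by decide +kernel
theorem s0c1049 : allBelow (fun k => fs0 (Nat.add (Nat.succ 304060) k)) 230 = true := by decide +kernel
theorem s0c1050 : allBelow (fun k => fs0 (Nat.add (Nat.succ 304290) k)) 233 = true := by decide +kernel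
theorem s0c1051 : allBelow (fun k => fs0 (Nat.add (Nat.succ 304523) k)) 253 = true := by decide +kernel
theorem s0c1052 : allBelow (fun k => fs0 (Nat.add (Nat.succ 304776) k)) 233 = true := by decide +kernel
theorem s0c1053 : allBelow (fun k => fs0 (Nat.add (Nat.succ 305009) k)) 230 = true := by decide +kernel
theorem s0c1054 : allBelow (fun k => fs0 (Nat.add (Nat.succ 305239) k)) 235 = true := by decide +kernel
theorem s0c1055 : allBelow (fun k => fs0 (Nat.add (Nat.succ 305474) k)) 229 = true := by decide +kernel
theorem s0c1056 : allBelow (fun k => fs0 (Nat.add (Nat.succ 305703) k)) 229 = true := by decide +kernel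
theorem s0c1057 : allBelow (fun k => fs0 (Nat.add (Nat.succ 305932) k)) 230 = true := by decide +kernel
theorem s0c1058 : allBelow (fun k => fs0 (Nat.add (Nat.succ 306162) k)) 234 = true := by decide +kernel
theorem s0c1059 : allBelow (fun k => fs0 (Nat.add (Nat.succ 306396) k)) 227 = true := by decide +kernel
theorem s0c1060 : allBelow (fun k => fs0 (Nat.add (Nat.succ 306623) k)) 228 = true := by decide +kernel
theorem s0c1061 : allBelow (fun k => fs0 (Nat.add (Nat.succ 306851) k)) 227 = true := by decide +kernel
theorem s0c1062 : allBelow (fun k => fs0 (Nat.add (Nat.succ 307078) k)) 228 = true := by decide +kernel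
theorem s0c1063 : allBelow (fun k => fs0 (Nat.add (Nat.succ 307306) k)) 228 = true := by decide +kernel
theorem s0c1064 : allBelow (fun k => fs0 (Nat.add (Nat.succ 307534) k)) 311 = true := by decide +kernel
theorem s0c1065 : allBelow (fun k => fs0 (Nat.add (Nat.succ 307845) k)) 294 = true := by decide +kernel
theorem s0c1066 : allBelow (fun k => fs0 (Nat.add (Nat.succ 308139) k)) 290 = true := by decide +kernel
theorem s0c1067 : allBelow (fun k => fs0 (Nat.add (Nat.succ 308429) k)) 301 = true := by decide +kernel
theorem s0c1068 : allBelow (fun k => fs0 (Nat.add (Nat.succ 308730) k)) 297 = true := by decide +kernel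
theorem s0c1069 : allBelow (fun k => fs0 (Nat.add (Nat.succ 309027) k)) 289 = true := by decide +kernel
theorem s0c1070 : allBelow (fun k => fs0 (Nat.add (Nat.succ 309316) k)) 304 = true := by decide +kernel
theorem s0c1071 : allBelow (fun k => fs0 (Nat.add (Nat.succ 309620) k)) 277 = true := by decide +kernel
theorem s0c1072 : allBelow (fun k => fs0 (Nat.add (Nat.succ 309897) k)) 282 = true := by decide +kernel
theorem s0c1073 : allBelow (fun k => fs0 (Nat.add (Nat.succ 310179) k)) 303 = true := by decide +kernel
theorem s0c1074 : allBelow (fun k => fs0 (Nat.add (Nat.succ 310482) k)) 306 = true := by decide +kernel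
theorem s0c1075 : allBelow (fun k => fs0 (Nat.add (Nat.succ 310788) k)) 311 = true := by decide +kernel
theorem s0c1076 : allBelow (fun k => fs0 (Nat.add (Nat.succ 311099) k)) 313 = true := by decide +kernel
theorem s0c1077 : allBelow (fun k => fs0 (Nat.add (Nat.succ 311412) k)) 297 = true := by decide +kernel
theorem s0c1078 : allBelow (fun k => fs0 (Nat.add (Nat.succ 311709) k)) 299 = true := by decide +kernel
theorem s0c1079 : allBelow (fun k => fs0 (Nat.add (Nat.succ 312008) k)) 298 = true := by decide +kernel
theorem s0c1080 : allBelow (fun k => fs0 (Nat.add (Nat.succ 312306) k)) 302 = true := by decide +kernel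
theorem s0c1081 : allBelow (fun k => fs0 (Nat.add (Nat.succ 312608) k)) 304 = true := by decide +kernel
theorem s0c1082 : allBelow (fun k => fs0 (Nat.add (Nat.succ 312912) k)) 271 = true := by decide +kernel
theorem s0c1083 : allBelow (fun k => fs0 (Nat.add (Nat.succ 313183) k)) 295 = true := by decide +kernel
theorem s0c1084 : allBelow (fun k => fs0 (Nat.add (Nat.succ 313478) k)) 250 = true := by decide +kernel
theorem s0c1085 : allBelow (fun k => fs0 (Nat.add (Nat.succ 313728) k)) 312 = true := by decide +kernel
theorem s0c1086 : allBelow (fun k => fs0 (Nat.add (Nat.succ 314040) k)) 313 = true := by decide +kernel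
theorem s0c1087 : allBelow (fun k => fs0 (Nat.add (Nat.succ 314353) k)) 266 = true := by decide +kernel
theorem s0c1088 : allBelow (fun k => fs0 (Nat.add (Nat.succ 314619) k)) 279 = true := by decide +kernel
theorem s0c1089 : allBelow (fun k => fs0 (Nat.add (Nat.succ 314898) k)) 289 = true := by decide +kernel
theorem s0c1090 : allBelow (fun k => fs0 (Nat.add (Nat.succ 315187) k)) 308 = true := by decide +kernel
theorem s0c1091 : allBelow (fun k => fs0 (Nat.add (Nat.succ 315495) k)) 273 = true := by decide +kernel
theorem s0c1092 : allBelow (fun k => fs0 (Nat.add (Nat.succ 315768) k)) 313 = true := by decide +kernel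
theorem s0c1093 : allBelow (fun k => fs0 (Nat.add (Nat.succ 316081) k)) 307 = true := by decide +kernel
theorem s0c1094 : allBelow (fun k => fs0 (Nat.add (Nat.succ 316388) k)) 305 = true := by decide +kernel
theorem s0c1095 : allBelow (fun k => fs0 (Nat.add (Nat.succ 316693) k)) 316 = true := by decide +kernel
theorem s0c1096 : allBelow (fun k => fs0 (Nat.add (Nat.succ 317009) k)) 312 = true := by decide +kernel
theorem s0c1097 : allBelow (fun k => fs0 (Nat.add (Nat.succ 317321) k)) 316 = true := by decide +kernel
theorem s0c1098 : allBelow (fun k => fs0 (Nat.add (Nat.succ 317637) k)) 318 = true := by decide +kernel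
theorem s0c1099 : allBelow (fun k => fs0 (Nat.add (Nat.succ 317955) k)) 301 = true := by decide +kernel
theorem s0c1100 : allBelow (fun k => fs0 (Nat.add (Nat.succ 318256) k)) 273 = true := by decide +kernel
theorem s0c1101 : allBelow (fun k => fs0 (Nat.add (Nat.succ 318529) k)) 228 = true := by decide +kernel
theorem s0c1102 : allBelow (fun k => fs0 (Nat.add (Nat.succ 318757) k)) 228 = true := by decide +kernel
theorem s0c1103 : allBelow (fun k => fs0 (Nat.add (Nat.succ 318985) k)) 228 = true := by decide +kernel
theorem s0c1104 : allBelow (fun k => fs0 (Nat.add (Nat.succ 319213) k)) 228 = true := by decide +kernel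
theorem s0c1105 : allBelow (fun k => fs0 (Nat.add (Nat.succ 319441) k)) 228 = true := by decide +kernel
theorem s0c1106 : allBelow (fun k => fs0 (Nat.add (Nat.succ 319669) k)) 228 = true := by decide +kernel
theorem s0c1107 : allBelow (fun k => fs0 (Nat.add (Nat.succ 319897) k)) 228 = true := by decide +kernel
theorem s0c1108 : allBelow (fun k => fs0 (Nat.add (Nat.succ 320125) k)) 228 = true := by decide +kernel
theorem s0c1109 : allBelow (fun k => fs0 (Nat.add (Nat.succ 320353) k)) 228 = true := by decide +kernel
theorem s0c1110 : allBelow (fun k => fs0 (Nat.add (Nat.succ 320581) k)) 235 = true := by decide +kernel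
theorem s0c1111 : allBelow (fun k => fs0 (Nat.add (Nat.succ 320816) k)) 240 = true := by decide +kernel
theorem s0c1112 : allBelow (fun k => fs0 (Nat.add (Nat.succ 321056) k)) 230 = true := by decide +kernel
theorem s0c1113 : allBelow (fun k => fs0 (Nat.add (Nat.succ 321286) k)) 229 = true := by decide +kernel
theorem s0c1114 : allBelow (fun k => fs0 (Nat.add (Nat.succ 321515) k)) 229 = true := by decide +kernel
theorem s0c1115 : allBelow (fun k => fs0 (Nat.add (Nat.succ 321744) k)) 228 = true := by decide +kernel
theorem s0c1116 : allBelow (fun k => fs0 (Nat.add (Nat.succ 321972) k)) 228 = true := by decide +kernel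
theorem s0c1117 : allBelow (fun k => fs0 (Nat.add (Nat.succ 322200) k)) 228 = true := by decide +kernel
theorem s0c1118 : allBelow (fun k => fs0 (Nat.add (Nat.succ 322428) k)) 241 = true := by decide +kernel
theorem s0c1119 : allBelow (fun k => fs0 (Nat.add (Nat.succ 322669) k)) 241 = true := by decide +kernel
theorem s0c1120 : allBelow (fun k => fs0 (Nat.add (Nat.succ 322910) k)) 228 = true := by decide +kernel
theorem s0c1121 : allBelow (fun k => fs0 (Nat.add (Nat.succ 323138) k)) 228 = true := by decide +kernel
theorem s0c1122 : allBelow (fun k => fs0 (Nat.add (Nat.succ 323366) k)) 228 = true := by decide +kernel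
theorem s0c1123 : allBelow (fun k => fs0 (Nat.add (Nat.succ 323594) k)) 228 = true := by decide +kernel
theorem s0c1124 : allBelow (fun k => fs0 (Nat.add (Nat.succ 323822) k)) 232 = true := by decide +kernel
theorem s0c1125 : allBelow (fun k => fs0 (Nat.add (Nat.succ 324054) k)) 228 = true := by decide +kernel
theorem s0c1126 : allBelow (fun k => fs0 (Nat.add (Nat.succ 324282) k)) 228 = true := by decide +kernel
theorem s0c1127 : allBelow (fun k => fs0 (Nat.add (Nat.succ 324510) k)) 228 = true := by decide +kernel
theorem s0c1128 : allBelow (fun k => fs0 (Nat.add (Nat.succ 324738) k)) 227 = true := by decide +kernel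
theorem s0c1129 : allBelow (fun k => fs0 (Nat.add (Nat.succ 324965) k)) 228 = true := by decide +kernel
theorem s0c1130 : allBelow (fun k => fs0 (Nat.add (Nat.succ 325193) k)) 228 = true := by decide +kernel
theorem s0c1131 : allBelow (fun k => fs0 (Nat.add (Nat.succ 325421) k)) 228 = true := by decide +kernel
theorem s0c1132 : allBelow (fun k => fs0 (Nat.add (Nat.succ 325649) k)) 244 = true := by decide +kernel
theorem s0c1133 : allBelow (fun k => fs0 (Nat.add (Nat.succ 325893) k)) 228 = true := by decide +kernel
theorem s0c1134 : allBelow (fun k => fs0 (Nat.add (Nat.succ 326121) k)) 231 = true := by decide +kernel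
theorem s0c1135 : allBelow (fun k => fs0 (Nat.add (Nat.succ 326352) k)) 229 = true := by decide +kernel
theorem s0c1136 : allBelow (fun k => fs0 (Nat.add (Nat.succ 326581) k)) 229 = true := by decide +kernel
theorem s0c1137 : allBelow (fun k => fs0 (Nat.add (Nat.succ 326810) k)) 231 = true := by decide +kernel
theorem s0c1138 : allBelow (fun k => fs0 (Nat.add (Nat.succ 327041) k)) 227 = true := by decide +kernel
theorem s0c1139 : allBelow (fun k => fs0 (Nat.add (Nat.succ 327268) k)) 226 = true := by decide +kernel
theorem s0c1140 : allBelow (fun k => fs0 (Nat.add (Nat.succ 327494) k)) 228 = true := by decide +kernel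
theorem s0c1141 : allBelow (fun k => fs0 (Nat.add (Nat.succ 327722) k)) 228 = true := by decide +kernel
theorem s0c1142 : allBelow (fun k => fs0 (Nat.add (Nat.succ 327950) k)) 277 = true := by decide +kernel
theorem s0c1143 : allBelow (fun k => fs0 (Nat.add (Nat.succ 328227) k)) 293 = true := by decide +kernel
theorem s0c1144 : allBelow (fun k => fs0 (Nat.add (Nat.succ 328520) k)) 300 = true := by decide +kernel
theorem s0c1145 : allBelow (fun k => fs0 (Nat.add (Nat.succ 328820) k)) 293 = true := by decide +kernel
theorem s0c1146 : allBelow (fun k => fs0 (Nat.add (Nat.succ 329113) k)) 291 = true := by decide +kernel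
theorem s0c1147 : allBelow (fun k => fs0 (Nat.add (Nat.succ 329404) k)) 265 = true := by decide +kernel
theorem s0c1148 : allBelow (fun k => fs0 (Nat.add (Nat.succ 329669) k)) 305 = true := by decide +kernel
theorem s0c1149 : allBelow (fun k => fs0 (Nat.add (Nat.succ 329974) k)) 305 = true := by decide +kernel
theorem s0c1150 : allBelow (fun k => fs0 (Nat.add (Nat.succ 330279) k)) 306 = true := by decide +kernel
theorem s0c1151 : allBelow (fun k => fs0 (Nat.add (Nat.succ 330585) k)) 315 = true := by decide +kernel
theorem s0c1152 : allBelow (fun k => fs0 (Nat.add (Nat.succ 330900) k)) 297 = true := by decide +kernel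
theorem s0c1153 : allBelow (fun k => fs0 (Nat.add (Nat.succ 331197) k)) 293 = true := by decide +kernel
theorem s0c1154 : allBelow (fun k => fs0 (Nat.add (Nat.succ 331490) k)) 296 = true := by decide +kernel
theorem s0c1155 : allBelow (fun k => fs0 (Nat.add (Nat.succ 331786) k)) 292 = true := by decide +kernel
theorem s0c1156 : allBelow (fun k => fs0 (Nat.add (Nat.succ 332078) k)) 273 = true := by decide +kernel
theorem s0c1157 : allBelow (fun k => fs0 (Nat.add (Nat.succ 332351) k)) 296 = true := by decide +kernel
theorem s0c1158 : allBelow (fun k => fs0 (Nat.add (Nat.succ 332647) k)) 294 = true := by decide +kernel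
theorem s0c1159 : allBelow (fun k => fs0 (Nat.add (Nat.succ 332941) k)) 271 = true := by decide +kernel
theorem s0c1160 : allBelow (fun k => fs0 (Nat.add (Nat.succ 333212) k)) 282 = true := by decide +kernel
theorem s0c1161 : allBelow (fun k => fs0 (Nat.add (Nat.succ 333494) k)) 295 = true := by decide +kernel
theorem s0c1162 : allBelow (fun k => fs0 (Nat.add (Nat.succ 333789) k)) 300 = true := by decide +kernel
theorem s0c1163 : allBelow (fun k => fs0 (Nat.add (Nat.succ 334089) k)) 309 = true := by decide +kernel
theorem s0c1164 : allBelow (fun k => fs0 (Nat.add (Nat.succ 334398) k)) 313 = true := by decide +kernel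
theorem s0c1165 : allBelow (fun k => fs0 (Nat.add (Nat.succ 334711) k)) 319 = true := by decide +kernel
theorem s0c1166 : allBelow (fun k => fs0 (Nat.add (Nat.succ 335030) k)) 308 = true := by decide +kernel
theorem s0c1167 : allBelow (fun k => fs0 (Nat.add (Nat.succ 335338) k)) 260 = true := by decide +kernel
theorem s0c1168 : allBelow (fun k => fs0 (Nat.add (Nat.succ 335598) k)) 228 = true := by decide +kernel
theorem s0c1169 : allBelow (fun k => fs0 (Nat.add (Nat.succ 335826) k)) 228 = true := by decide +kernel
theorem s0c1170 : allBelow (fun k => fs0 (Nat.add (Nat.succ 336054) k)) 228 = true := by decide +kernel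
theorem s0c1171 : allBelow (fun k => fs0 (Nat.add (Nat.succ 336282) k)) 228 = true := by decide +kernel
theorem s0c1172 : allBelow (fun k => fs0 (Nat.add (Nat.succ 336510) k)) 228 = true := by decide +kernel
theorem s0c1173 : allBelow (fun k => fs0 (Nat.add (Nat.succ 336738) k)) 228 = true := by decide +kernel
theorem s0c1174 : allBelow (fun k => fs0 (Nat.add (Nat.succ 336966) k)) 228 = true := by decide +kernel
theorem s0c1175 : allBelow (fun k => fs0 (Nat.add (Nat.succ 337194) k)) 229 = true := by decide +kernel
theorem s0c1176 : allBelow (fun k => fs0 (Nat.add (Nat.succ 337423) k)) 234 = true := by decide +kernel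
theorem s0c1177 : allBelow (fun k => fs0 (Nat.add (Nat.succ 337657) k)) 229 = true := by decide +kernel
theorem s0c1178 : allBelow (fun k => fs0 (Nat.add (Nat.succ 337886) k)) 228 = true := by decide +kernel
theorem s0c1179 : allBelow (fun k => fs0 (Nat.add (Nat.succ 338114) k)) 228 = true := by decide +kernel
theorem s0c1180 : allBelow (fun k => fs0 (Nat.add (Nat.succ 338342) k)) 231 = true := by decide +kernel
theorem s0c1181 : allBelow (fun k => fs0 (Nat.add (Nat.succ 338573) k)) 231 = true := by decide +kernel
theorem s0c1182 : allBelow (fun k => fs0 (Nat.add (Nat.succ 338804) k)) 228 = true := by decide +kernel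
theorem s0c1183 : allBelow (fun k => fs0 (Nat.add (Nat.succ 339032) k)) 228 = true := by decide +kernel
theorem s0c1184 : allBelow (fun k => fs0 (Nat.add (Nat.succ 339260) k)) 228 = true := by decide +kernel
theorem s0c1185 : allBelow (fun k => fs0 (Nat.add (Nat.succ 339488) k)) 229 = true := by decide +kernel
theorem s0c1186 : allBelow (fun k => fs0 (Nat.add (Nat.succ 339717) k)) 228 = true := by decide +kernel
theorem s0c1187 : allBelow (fun k => fs0 (Nat.add (Nat.succ 339945) k)) 228 = true := by decide +kernel
theorem s0c1188 : allBelow (fun k => fs0 (Nat.add (Nat.succ 340173) k)) 227 = true := by decide +kernel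
theorem s0c1189 : allBelow (fun k => fs0 (Nat.add (Nat.succ 340400) k)) 227 = true := by decide +kernel
theorem s0c1190 : allBelow (fun k => fs0 (Nat.add (Nat.succ 340627) k)) 234 = true := by decide +kernel
theorem s0c1191 : allBelow (fun k => fs0 (Nat.add (Nat.succ 340861) k)) 228 = true := by decide +kernel
theorem s0c1192 : allBelow (fun k => fs0 (Nat.add (Nat.succ 341089) k)) 229 = true := by decide +kernel
theorem s0c1193 : allBelow (fun k => fs0 (Nat.add (Nat.succ 341318) k)) 227 = true := by decide +kernel
theorem s0c1194 : allBelow (fun k => fs0 (Nat.add (Nat.succ 341545) k)) 226 = true := by decide +kernel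
theorem s0c1195 : allBelow (fun k => fs0 (Nat.add (Nat.succ 341771) k)) 228 = true := by decide +kernel
theorem s0c1196 : allBelow (fun k => fs0 (Nat.add (Nat.succ 341999) k)) 237 = true := by decide +kernel
theorem s0c1197 : allBelow (fun k => fs0 (Nat.add (Nat.succ 342236) k)) 310 = true := by decide +kernel
theorem s0c1198 : allBelow (fun k => fs0 (Nat.add (Nat.succ 342546) k)) 285 = true := by decide +kernel
theorem s0c1199 : allBelow (fun k => fs0 (Nat.add (Nat.succ 342831) k)) 295 = true := by decide +kernel
theorem s0c1200 : allBelow (fun k => fs0 (Nat.add (Nat.succ 343126) k)) 289 = true := by decide +kernel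
theorem s0c1201 : allBelow (fun k => fs0 (Nat.add (Nat.succ 343415) k)) 303 = true := by decide +kernel
theorem s0c1202 : allBelow (fun k => fs0 (Nat.add (Nat.succ 343718) k)) 315 = true := by decide +kernel
theorem s0c1203 : allBelow (fun k => fs0 (Nat.add (Nat.succ 344033) k)) 298 = true := by decide +kernel
theorem s0c1204 : allBelow (fun k => fs0 (Nat.add (Nat.succ 344331) k)) 285 = true := by decide +kernel
theorem s0c1205 : allBelow (fun k => fs0 (Nat.add (Nat.succ 344616) k)) 279 = true := by decide +kernel
theorem s0c1206 : allBelow (fun k => fs0 (Nat.add (Nat.succ 344895) k)) 293 = true := by decide +kernel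
theorem s0c1207 : allBelow (fun k => fs0 (Nat.add (Nat.succ 345188) k)) 279 = true := by decide +kernel
theorem s0c1208 : allBelow (fun k => fs0 (Nat.add (Nat.succ 345467) k)) 305 = true := by decide +kernel
theorem s0c1209 : allBelow (fun k => fs0 (Nat.add (Nat.succ 345772) k)) 317 = true := by decide +kernel
theorem s0c1210 : allBelow (fun k => fs0 (Nat.add (Nat.succ 346089) k)) 308 = true := by decide +kernel
theorem s0c1211 : allBelow (fun k => fs0 (Nat.add (Nat.succ 346397) k)) 242 = true := by decide +kernel
theorem s0c1212 : allBelow (fun k => fs0 (Nat.add (Nat.succ 346639) k)) 228 = true := by decide +kernel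
theorem s0c1213 : allBelow (fun k => fs0 (Nat.add (Nat.succ 346867) k)) 228 = true := by decide +kernel
theorem s0c1214 : allBelow (fun k => fs0 (Nat.add (Nat.succ 347095) k)) 228 = true := by decide +kernel
theorem s0c1215 : allBelow (fun k => fs0 (Nat.add (Nat.succ 347323) k)) 228 = true := by decide +kernel
theorem s0c1216 : allBelow (fun k => fs0 (Nat.add (Nat.succ 347551) k)) 228 = true := by decide +kernel
theorem s0c1217 : allBelow (fun k => fs0 (Nat.add (Nat.succ 347779) k)) 229 = true := by decide +kernel
theorem s0c1218 : allBelow (fun k => fs0 (Nat.add (Nat.succ 348008) k)) 228 = true := by decide +kernel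
theorem s0c1219 : allBelow (fun k => fs0 (Nat.add (Nat.succ 348236) k)) 229 = true := by decide +kernel
theorem s0c1220 : allBelow (fun k => fs0 (Nat.add (Nat.succ 348465) k)) 229 = true := by decide +kernel
theorem s0c1221 : allBelow (fun k => fs0 (Nat.add (Nat.succ 348694) k)) 228 = true := by decide +kernel
theorem s0c1222 : allBelow (fun k => fs0 (Nat.add (Nat.succ 348922) k)) 227 = true := by decide +kernel
theorem s0c1223 : allBelow (fun k => fs0 (Nat.add (Nat.succ 349149) k)) 228 = true := by decide +kernel
theorem s0c1224 : allBelow (fun k => fs0 (Nat.add (Nat.succ 349377) k)) 227 = true := by decide +kernel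
theorem s0c1225 : allBelow (fun k => fs0 (Nat.add (Nat.succ 349604) k)) 230 = true := by decide +kernel
theorem s0c1226 : allBelow (fun k => fs0 (Nat.add (Nat.succ 349834) k)) 228 = true := by decide +kernel
theorem s0c1227 : allBelow (fun k => fs0 (Nat.add (Nat.succ 350062) k)) 225 = true := by decide +kernel
theorem s0c1228 : allBelow (fun k => fs0 (Nat.add (Nat.succ 350287) k)) 228 = true := by decide +kernel
theorem s0c1229 : allBelow (fun k => fs0 (Nat.add (Nat.succ 350515) k)) 231 = true := by decide +kernel
theorem s0c1230 : allBelow (fun k => fs0 (Nat.add (Nat.succ 350746) k)) 291 = true := by decide +kernel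
theorem s0c1231 : allBelow (fun k => fs0 (Nat.add (Nat.succ 351037) k)) 305 = true := by decide +kernel
theorem s0c1232 : allBelow (fun k => fs0 (Nat.add (Nat.succ 351342) k)) 311 = true := by decide +kernel
theorem s0c1233 : allBelow (fun k => fs0 (Nat.add (Nat.succ 351653) k)) 297 = true := by decide +kernel
theorem s0c1234 : allBelow (fun k => fs0 (Nat.add (Nat.succ 351950) k)) 285 = true := by decide +kernel
theorem s0c1235 : allBelow (fun k => fs0 (Nat.add (Nat.succ 352235) k)) 313 = true := by decide +kernel
theorem s0c1236 : allBelow (fun k => fs0 (Nat.add (Nat.succ 352548) k)) 241 = true := by decide +kernel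
theorem s0c1237 : allBelow (fun k => fs0 (Nat.add (Nat.succ 352789) k)) 228 = true := by decide +kernel
theorem s0c1238 : allBelow (fun k => fs0 (Nat.add (Nat.succ 353017) k)) 228 = true := by decide +kernel
theorem s0c1239 : allBelow (fun k => fs0 (Nat.add (Nat.succ 353245) k)) 228 = true := by decide +kernel
theorem s0c1240 : allBelow (fun k => fs0 (Nat.add (Nat.succ 353473) k)) 228 = true := by decide +kernel
theorem s0c1241 : allBelow (fun k => fs0 (Nat.add (Nat.succ 353701) k)) 195 = true := by decide +kernel
theorem s0c1242 : allBelow (fun k => fs0 (Nat.add (Nat.succ 353896) k)) 227 = true := by decide +kernel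
theorem s0c1243 : allBelow (fun k => fs0 (Nat.add (Nat.succ 354123) k)) 228 = true := by decide +kernel
theorem s0c1244 : allBelow (fun k => fs0 (Nat.add (Nat.succ 354351) k)) 227 = true := by decide +kernel
theorem s0c1245 : allBelow (fun k => fs0 (Nat.add (Nat.succ 354578) k)) 227 = true := by decide +kernel
theorem s0c1246 : allBelow (fun k => fs0 (Nat.add (Nat.succ 354805) k)) 274 = true := by decide +kernel
theorem s0c1247 : allBelow (fun k => fs0 (Nat.add (Nat.succ 355079) k)) 306 = true := by decide +kernel
theorem s0c1248 : allBelow (fun k => fs0 (Nat.add (Nat.succ 355385) k)) 269 = true := by decide +kernel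
theorem s0c1249 : allBelow (fun k => fs0 (Nat.add (Nat.succ 355654) k)) 228 = true := by decide +kernel
theorem s0c1250 : allBelow (fun k => fs0 (Nat.add (Nat.succ 355882) k)) 228 = true := by decide +kernel
theorem s0c1251 : allBelow (fun k => fs0 (Nat.add (Nat.succ 356110) k)) 228 = true := by decide +kernel
theorem s0c1252 : allBelow (fun k => fs0 (Nat.add (Nat.succ 356338) k)) 227 = true := by decide +kernel
theorem s0c1253 : allBelow (fun k => fs0 (Nat.add (Nat.succ 356565) k)) 263 = true := by decide +kernel
theorem s0c1254 : allBelow (fun k => fs0 (Nat.add (Nat.succ 356828) k)) 228 = true := by decide +kernel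
theorem s0c1255 : allBelow (fun k => fs0 (Nat.add (Nat.succ 357056) k)) 230 = true := by decide +kernel
theorem s0c1256 : allBelow (fun k => fs0 (Nat.add (Nat.succ 357286) k)) 179 = true := by decide +kernel
theorem s1c0 : allBelow (fun k => fs1 (Nat.add (Nat.succ 0) k)) 253 = true := by decide +kernel
theorem s1c1 : allBelow (fun k => fs1 (Nat.add (Nat.succ 253) k)) 275 = true := by decide +kernel
theorem s1c2 : allBelow (fun k => fs1 (Nat.add (Nat.succ 528) k)) 255 = true := by decide +kernel
theorem s1c3 : allBelow (fun k => fs1 (Nat.add (Nat.succ 783) k)) 265 = true := by decide +kernel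
theorem s1c4 : allBelow (fun k => fs1 (Nat.add (Nat.succ 1048) k)) 264 = true := by decide +kernel
theorem s1c5 : allBelow (fun k => fs1 (Nat.add (Nat.succ 1312) k)) 251 = true := by decide +kernel
theorem s1c6 : allBelow (fun k => fs1 (Nat.add (Nat.succ 1563) k)) 286 = true := by decide +kernel
theorem s1c7 : allBelow (fun k => fs1 (Nat.add (Nat.succ 1849) k)) 255 = true := by decide +kernel
theorem s1c8 : allBelow (fun k => fs1 (Nat.add (Nat.succ 2104) k)) 298 = true := by decide +kernel
theorem s1c9 : allBelow (fun k => fs1 (Nat.add (Nat.succ 2402) k)) 277 = true := by decide +kernel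
theorem s1c10 : allBelow (fun k => fs1 (Nat.add (Nat.succ 2679) k)) 252 = true := by decide +kernel
theorem s1c11 : allBelow (fun k => fs1 (Nat.add (Nat.succ 2931) k)) 315 = true := by decide +kernel
theorem s1c12 : allBelow (fun k => fs1 (Nat.add (Nat.succ 3246) k)) 263 = true := by decide +kernel
theorem s1c13 : allBelow (fun k => fs1 (Nat.add (Nat.succ 3509) k)) 274 = true := by decide +kernel
theorem s1c14 : allBelow (fun k => fs1 (Nat.add (Nat.succ 3783) k)) 270 = true := by decide +kernel
theorem s1c15 : allBelow (fun k => fs1 (Nat.add (Nat.succ 4053) k)) 333 = true := by decide +kernel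
theorem s1c16 : allBelow (fun k => fs1 (Nat.add (Nat.succ 4386) k)) 268 = true := by decide +kernel
theorem s1c17 : allBelow (fun k => fs1 (Nat.add (Nat.succ 4654) k)) 296 = true := by decide +kernel
theorem s1c18 : allBelow (fun k => fs1 (Nat.add (Nat.succ 4950) k)) 270 = true := by decide +kernel

end Cfsg.Agent.Lib.Helper35.Fi24a
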