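import Cfsg.Agent.Lib.Helper35.Fi24a.Data

set_option Elab.async false

namespace Cfsg.Agent.Lib.Helper35.Fi24a

open Cfsg.Agent.Lib.Helper35

theorem s7c738 : allBelow (fun k => fs7 (Nat.add (Nat.succ 219916) k)) 272 = true := by decide +kernel
theorem s7c739 : allBelow (fun k => fs7 (Nat.add (Nat.succ 220188) k)) 280 = true := by decide +kernel
theorem s7c740 : allBelow (fun k => fs7 (Nat.add (Nat.succ 220468) k)) 284 = true := by decide +kernel
theorem s7c741 : allBelow (fun k => fs7 (Nat.add (Nat.succ 220752) k)) 286 = true := by decide +kernel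
theorem s7c742 : allBelow (fun k => fs7 (Nat.add (Nat.succ 221038) k)) 311 = true := by decide +kernel
theorem s7c743 : allBelow (fun k => fs7 (Nat.add (Nat.succ 221349) k)) 262 = true := by decide +kernel
theorem s7c744 : allBelow (fun k => fs7 (Nat.add (Nat.succ 221611) k)) 254 = true := by decide +kernel
theorem s7c745 : allBelow (fun k => fs7 (Nat.add (Nat.succ 221865) k)) 241 = true := by decide +kernel
theorem s7c746 : allBelow (fun k => fs7 (Nat.add (Nat.succ 222106) k)) 266 = true := by decide +kernel
theorem s7c747 : allBelow (fun k => fs7 (Nat.add (Nat.succ 222372) k)) 265 = true := by decide +kernel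
theorem s7c748 : allBelow (fun k => fs7 (Nat.add (Nat.succ 222637) k)) 261 = true := by decide +kernel
theorem s7c749 : allBelow (fun k => fs7 (Nat.add (Nat.succ 222898) k)) 252 = true := by decide +kernel
theorem s7c750 : allBelow (fun k => fs7 (Nat.add (Nat.succ 223150) k)) 258 = true := by decide +kernel
theorem s7c751 : allBelow (fun k => fs7 (Nat.add (Nat.succ 223408) k)) 258 = true := by decide +kernel
theorem s7c752 : allBelow (fun k => fs7 (Nat.add (Nat.succ 223666) k)) 252 = true := by decide +kernel
theorem s7c753 : allBelow (fun k => fs7 (Nat.add (Nat.succ 223918) k)) 266 = true := by decide +kernel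
theorem s7c754 : allBelow (fun k => fs7 (Nat.add (Nat.succ 224184) k)) 254 = true := by decide +kernel
theorem s7c755 : allBelow (fun k => fs7 (Nat.add (Nat.succ 224438) k)) 257 = true := by decide +kernel
theorem s7c756 : allBelow (fun k => fs7 (Nat.add (Nat.succ 224695) k)) 245 = true := by decide +kernel
theorem s7c757 : allBelow (fun k => fs7 (Nat.add (Nat.succ 224940) k)) 253 = true := by decide +kernel
theorem s7c758 : allBelow (fun k => fs7 (Nat.add (Nat.succ 225193) k)) 253 = true := by decide +kernel
theorem s7c759 : allBelow (fun k => fs7 (Nat.add (Nat.succ 225446) k)) 253 = true := by decide +kernel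
theorem s7c760 : allBelow (fun k => fs7 (Nat.add (Nat.succ 225699) k)) 266 = true := by decide +kernel
theorem s7c761 : allBelow (fun k => fs7 (Nat.add (Nat.succ 225965) k)) 268 = true := by decide +kernel
theorem s7c762 : allBelow (fun k => fs7 (Nat.add (Nat.succ 226233) k)) 262 = true := by decide +kernel
theorem s7c763 : allBelow (fun k => fs7 (Nat.add (Nat.succ 226495) k)) 251 = true := by decide +kernel
theorem s7c764 : allBelow (fun k => fs7 (Nat.add (Nat.succ 226746) k)) 260 = true := by decide +kernel
theorem s7c765 : allBelow (fun k => fs7 (Nat.add (Nat.succ 227006) k)) 259 = true := by decide +kernel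
theorem s7c766 : allBelow (fun k => fs7 (Nat.add (Nat.succ 227265) k)) 248 = true := by decide +kernel
theorem s7c767 : allBelow (fun k => fs7 (Nat.add (Nat.succ 227513) k)) 247 = true := by decide +kernel
theorem s7c768 : allBelow (fun k => fs7 (Nat.add (Nat.succ 227760) k)) 268 = true := by decide +kernel
theorem s7c769 : allBelow (fun k => fs7 (Nat.add (Nat.succ 228028) k)) 254 = true := by decide +kernel
theorem s7c770 : allBelow (fun k => fs7 (Nat.add (Nat.succ 228282) k)) 276 = true := by decide +kernel
theorem s7c771 : allBelow (fun k => fs7 (Nat.add (Nat.succ 228558) k)) 274 = true := by decide +kernel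
theorem s7c772 : allBelow (fun k => fs7 (Nat.add (Nat.succ 228832) k)) 275 = true := by decide +kernel
theorem s7c773 : allBelow (fun k => fs7 (Nat.add (Nat.succ 229107) k)) 254 = true := by decide +kernel
theorem s7c774 : allBelow (fun k => fs7 (Nat.add (Nat.succ 229361) k)) 283 = true := by decide +kernel
theorem s7c775 : allBelow (fun k => fs7 (Nat.add (Nat.succ 229644) k)) 269 = true := by decide +kernel
theorem s7c776 : allBelow (fun k => fs7 (Nat.add (Nat.succ 229913) k)) 273 = true := by decide +kernel
theorem s7c777 : allBelow (fun k => fs7 (Nat.add (Nat.succ 230186) k)) 266 = true := by decide +kernel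
theorem s7c778 : allBelow (fun k => fs7 (Nat.add (Nat.succ 230452) k)) 274 = true := by decide +kernel
theorem s7c779 : allBelow (fun k => fs7 (Nat.add (Nat.succ 230726) k)) 268 = true := by decide +kernel
theorem s7c780 : allBelow (fun k => fs7 (Nat.add (Nat.succ 230994) k)) 262 = true := by decide +kernel
theorem s7c781 : allBelow (fun k => fs7 (Nat.add (Nat.succ 231256) k)) 267 = true := by decide +kernel
theorem s7c782 : allBelow (fun k => fs7 (Nat.add (Nat.succ 231523) k)) 267 = true := by decide +kernel
theorem s7c783 : allBelow (fun k => fs7 (Nat.add (Nat.succ 231790) k)) 264 = true := by decide +kernel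
theorem s7c784 : allBelow (fun k => fs7 (Nat.add (Nat.succ 232054) k)) 287 = true := by decide +kernel
theorem s7c785 : allBelow (fun k => fs7 (Nat.add (Nat.succ 232341) k)) 276 = true := by decide +kernel
theorem s7c786 : allBelow (fun k => fs7 (Nat.add (Nat.succ 232617) k)) 270 = true := by decide +kernel
theorem s7c787 : allBelow (fun k => fs7 (Nat.add (Nat.succ 232887) k)) 278 = true := by decide +kernel
theorem s7c788 : allBelow (fun k => fs7 (Nat.add (Nat.succ 233165) k)) 279 = true := by decide +kernel
theorem s7c789 : allBelow (fun k => fs7 (Nat.add (Nat.succ 233444) k)) 278 = true := by decide +kernel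
theorem s7c790 : allBelow (fun k => fs7 (Nat.add (Nat.succ 233722) k)) 266 = true := by decide +kernel
theorem s7c791 : allBelow (fun k => fs7 (Nat.add (Nat.succ 233988) k)) 272 = true := by decide +kernel
theorem s7c792 : allBelow (fun k => fs7 (Nat.add (Nat.succ 234260) k)) 262 = true := by decide +kernel
theorem s7c793 : allBelow (fun k => fs7 (Nat.add (Nat.succ 234522) k)) 262 = true := by decide +kernel
theorem s7c794 : allBelow (fun k => fs7 (Nat.add (Nat.succ 234784) k)) 259 = true := by decide +kernel
theorem s7c795 : allBelow (fun k => fs7 (Nat.add (Nat.succ 235043) k)) 271 = true := by decide +kernel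
theorem s7c796 : allBelow (fun k => fs7 (Nat.add (Nat.succ 235314) k)) 275 = true := by decide +kernel
theorem s7c797 : allBelow (fun k => fs7 (Nat.add (Nat.succ 235589) k)) 269 = true := by decide +kernel
theorem s7c798 : allBelow (fun k => fs7 (Nat.add (Nat.succ 235858) k)) 255 = true := by decide +kernel
theorem s7c799 : allBelow (fun k => fs7 (Nat.add (Nat.succ 236113) k)) 260 = true := by decide +kernel
theorem s7c800 : allBelow (fun k => fs7 (Nat.add (Nat.succ 236373) k)) 265 = true := by decide +kernel
theorem s7c801 : allBelow (fun k => fs7 (Nat.add (Nat.succ 236638) k)) 261 = true := by decide +kernel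
theorem s7c802 : allBelow (fun k => fs7 (Nat.add (Nat.succ 236899) k)) 268 = true := by decide +kernel
theorem s7c803 : allBelow (fun k => fs7 (Nat.add (Nat.succ 237167) k)) 261 = true := by decide +kernel
theorem s7c804 : allBelow (fun k => fs7 (Nat.add (Nat.succ 237428) k)) 259 = true := by decide +kernel
theorem s7c805 : allBelow (fun k => fs7 (Nat.add (Nat.succ 237687) k)) 246 = true := by decide +kernel
theorem s7c806 : allBelow (fun k => fs7 (Nat.add (Nat.succ 237933) k)) 263 = true := by decide +kernel
theorem s7c807 : allBelow (fun k => fs7 (Nat.add (Nat.succ 238196) k)) 270 = true := by decide +kernel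
theorem s7c808 : allBelow (fun k => fs7 (Nat.add (Nat.succ 238466) k)) 275 = true := by decide +kernel
theorem s7c809 : allBelow (fun k => fs7 (Nat.add (Nat.succ 238741) k)) 257 = true := by decide +kernel
theorem s7c810 : allBelow (fun k => fs7 (Nat.add (Nat.succ 238998) k)) 265 = true := by decide +kernel
theorem s7c811 : allBelow (fun k => fs7 (Nat.add (Nat.succ 239263) k)) 276 = true := by decide +kernel
theorem s7c812 : allBelow (fun k => fs7 (Nat.add (Nat.succ 239539) k)) 273 = true := by decide +kernel
theorem s7c813 : allBelow (fun k => fs7 (Nat.add (Nat.succ 239812) k)) 282 = true := by decide +kernel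
theorem s7c814 : allBelow (fun k => fs7 (Nat.add (Nat.succ 240094) k)) 286 = true := by decide +kernel
theorem s7c815 : allBelow (fun k => fs7 (Nat.add (Nat.succ 240380) k)) 286 = true := by decide +kernel
theorem s7c816 : allBelow (fun k => fs7 (Nat.add (Nat.succ 240666) k)) 287 = true := by decide +kernel
theorem s7c817 : allBelow (fun k => fs7 (Nat.add (Nat.succ 240953) k)) 284 = true := by decide +kernel
theorem s7c818 : allBelow (fun k => fs7 (Nat.add (Nat.succ 241237) k)) 281 = true := by decide +kernel
theorem s7c819 : allBelow (fun k => fs7 (Nat.add (Nat.succ 241518) k)) 277 = true := by decide +kernel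
theorem s7c820 : allBelow (fun k => fs7 (Nat.add (Nat.succ 241795) k)) 275 = true := by decide +kernel
theorem s7c821 : allBelow (fun k => fs7 (Nat.add (Nat.succ 242070) k)) 284 = true := by decide +kernel
theorem s7c822 : allBelow (fun k => fs7 (Nat.add (Nat.succ 242354) k)) 289 = true := by decide +kernel
theorem s7c823 : allBelow (fun k => fs7 (Nat.add (Nat.succ 242643) k)) 277 = true := by decide +kernel
theorem s7c824 : allBelow (fun k => fs7 (Nat.add (Nat.succ 242920) k)) 275 = true := by decide +kernel
theorem s7c825 : allBelow (fun k => fs7 (Nat.add (Nat.succ 243195) k)) 286 = true := by decide +kernel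
theorem s7c826 : allBelow (fun k => fs7 (Nat.add (Nat.succ 243481) k)) 286 = true := by decide +kernel
theorem s7c827 : allBelow (fun k => fs7 (Nat.add (Nat.succ 243767) k)) 268 = true := by decide +kernel
theorem s7c828 : allBelow (fun k => fs7 (Nat.add (Nat.succ 244035) k)) 273 = true := by decide +kernel
theorem s7c829 : allBelow (fun k => fs7 (Nat.add (Nat.succ 244308) k)) 270 = true := by decide +kernel
theorem s7c830 : allBelow (fun k => fs7 (Nat.add (Nat.succ 244578) k)) 275 = true := by decide +kernel
theorem s7c831 : allBelow (fun k => fs7 (Nat.add (Nat.succ 244853) k)) 289 = true := by decide +kernel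
theorem s7c832 : allBelow (fun k => fs7 (Nat.add (Nat.succ 245142) k)) 304 = true := by decide +kernel
theorem s7c833 : allBelow (fun k => fs7 (Nat.add (Nat.succ 245446) k)) 322 = true := by decide +kernel
theorem s7c834 : allBelow (fun k => fs7 (Nat.add (Nat.succ 245768) k)) 233 = true := by decide +kernel
theorem s7c835 : allBelow (fun k => fs7 (Nat.add (Nat.succ 246001) k)) 251 = true := by decide +kernel
theorem s7c836 : allBelow (fun k => fs7 (Nat.add (Nat.succ 246252) k)) 256 = true := by decide +kernel
theorem s7c837 : allBelow (fun k => fs7 (Nat.add (Nat.succ 246508) k)) 272 = true := by decide +kernel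
theorem s7c838 : allBelow (fun k => fs7 (Nat.add (Nat.succ 246780) k)) 266 = true := by decide +kernel
theorem s7c839 : allBelow (fun k => fs7 (Nat.add (Nat.succ 247046) k)) 258 = true := by decide +kernel
theorem s7c840 : allBelow (fun k => fs7 (Nat.add (Nat.succ 247304) k)) 259 = true := by decide +kernel
theorem s7c841 : allBelow (fun k => fs7 (Nat.add (Nat.succ 247563) k)) 255 = true := by decide +kernel
theorem s7c842 : allBelow (fun k => fs7 (Nat.add (Nat.succ 247818) k)) 263 = true := by decide +kernel
theorem s7c843 : allBelow (fun k => fs7 (Nat.add (Nat.succ 248081) k)) 264 = true := by decide +kernel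
theorem s7c844 : allBelow (fun k => fs7 (Nat.add (Nat.succ 248345) k)) 255 = true := by decide +kernel
theorem s7c845 : allBelow (fun k => fs7 (Nat.add (Nat.succ 248600) k)) 249 = true := by decide +kernel
theorem s7c846 : allBelow (fun k => fs7 (Nat.add (Nat.succ 248849) k)) 250 = true := by decide +kernel
theorem s7c847 : allBelow (fun k => fs7 (Nat.add (Nat.succ 249099) k)) 243 = true := by decide +kernel
theorem s7c848 : allBelow (fun k => fs7 (Nat.add (Nat.succ 249342) k)) 251 = true := by decide +kernel
theorem s7c849 : allBelow (fun k => fs7 (Nat.add (Nat.succ 249593) k)) 256 = true := by decide +kernel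
theorem s7c850 : allBelow (fun k => fs7 (Nat.add (Nat.succ 249849) k)) 251 = true := by decide +kernel
theorem s7c851 : allBelow (fun k => fs7 (Nat.add (Nat.succ 250100) k)) 256 = true := by decide +kernel
theorem s7c852 : allBelow (fun k => fs7 (Nat.add (Nat.succ 250356) k)) 253 = true := by decide +kernel
theorem s7c853 : allBelow (fun k => fs7 (Nat.add (Nat.succ 250609) k)) 261 = true := by decide +kernel
theorem s7c854 : allBelow (fun k => fs7 (Nat.add (Nat.succ 250870) k)) 255 = true := by decide +kernel
theorem s7c855 : allBelow (fun k => fs7 (Nat.add (Nat.succ 251125) k)) 255 = true := by decide +kernel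
theorem s7c856 : allBelow (fun k => fs7 (Nat.add (Nat.succ 251380) k)) 255 = true := by decide +kernel
theorem s7c857 : allBelow (fun k => fs7 (Nat.add (Nat.succ 251635) k)) 254 = true := by decide +kernel
theorem s7c858 : allBelow (fun k => fs7 (Nat.add (Nat.succ 251889) k)) 246 = true := by decide +kernel
theorem s7c859 : allBelow (fun k => fs7 (Nat.add (Nat.succ 252135) k)) 244 = true := by decide +kernel
theorem s7c860 : allBelow (fun k => fs7 (Nat.add (Nat.succ 252379) k)) 267 = true := by decide +kernel
theorem s7c861 : allBelow (fun k => fs7 (Nat.add (Nat.succ 252646) k)) 252 = true := by decide +kernel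
theorem s7c862 : allBelow (fun k => fs7 (Nat.add (Nat.succ 252898) k)) 270 = true := by decide +kernel
theorem s7c863 : allBelow (fun k => fs7 (Nat.add (Nat.succ 253168) k)) 283 = true := by decide +kernel
theorem s7c864 : allBelow (fun k => fs7 (Nat.add (Nat.succ 253451) k)) 281 = true := by decide +kernel
theorem s7c865 : allBelow (fun k => fs7 (Nat.add (Nat.succ 253732) k)) 270 = true := by decide +kernel
theorem s7c866 : allBelow (fun k => fs7 (Nat.add (Nat.succ 254002) k)) 278 = true := by decide +kernel
theorem s7c867 : allBelow (fun k => fs7 (Nat.add (Nat.succ 254280) k)) 273 = true := by decide +kernel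
theorem s7c868 : allBelow (fun k => fs7 (Nat.add (Nat.succ 254553) k)) 281 = true := by decide +kernel
theorem s7c869 : allBelow (fun k => fs7 (Nat.add (Nat.succ 254834) k)) 267 = true := by decide +kernel
theorem s7c870 : allBelow (fun k => fs7 (Nat.add (Nat.succ 255101) k)) 272 = true := by decide +kernel
theorem s7c871 : allBelow (fun k => fs7 (Nat.add (Nat.succ 255373) k)) 282 = true := by decide +kernel
theorem s7c872 : allBelow (fun k => fs7 (Nat.add (Nat.succ 255655) k)) 263 = true := by decide +kernel
theorem s7c873 : allBelow (fun k => fs7 (Nat.add (Nat.succ 255918) k)) 266 = true := by decide +kernel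
theorem s7c874 : allBelow (fun k => fs7 (Nat.add (Nat.succ 256184) k)) 261 = true := by decide +kernel
theorem s7c875 : allBelow (fun k => fs7 (Nat.add (Nat.succ 256445) k)) 259 = true := by decide +kernel
theorem s7c876 : allBelow (fun k => fs7 (Nat.add (Nat.succ 256704) k)) 290 = true := by decide +kernel
theorem s7c877 : allBelow (fun k => fs7 (Nat.add (Nat.succ 256994) k)) 286 = true := by decide +kernel
theorem s7c878 : allBelow (fun k => fs7 (Nat.add (Nat.succ 257280) k)) 273 = true := by decide +kernel
theorem s7c879 : allBelow (fun k => fs7 (Nat.add (Nat.succ 257553) k)) 276 = true := by decide +kernel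
theorem s7c880 : allBelow (fun k => fs7 (Nat.add (Nat.succ 257829) k)) 277 = true := by decide +kernel
theorem s7c881 : allBelow (fun k => fs7 (Nat.add (Nat.succ 258106) k)) 274 = true := by decide +kernel
theorem s7c882 : allBelow (fun k => fs7 (Nat.add (Nat.succ 258380) k)) 285 = true := by decide +kernel
theorem s7c883 : allBelow (fun k => fs7 (Nat.add (Nat.succ 258665) k)) 262 = true := by decide +kernel
theorem s7c884 : allBelow (fun k => fs7 (Nat.add (Nat.succ 258927) k)) 273 = true := by decide +kernel
theorem s7c885 : allBelow (fun k => fs7 (Nat.add (Nat.succ 259200) k)) 266 = true := by decide +kernel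
theorem s7c886 : allBelow (fun k => fs7 (Nat.add (Nat.succ 259466) k)) 262 = true := by decide +kernel
theorem s7c887 : allBelow (fun k => fs7 (Nat.add (Nat.succ 259728) k)) 258 = true := by decide +kernel
theorem s7c888 : allBelow (fun k => fs7 (Nat.add (Nat.succ 259986) k)) 266 = true := by decide +kernel
theorem s7c889 : allBelow (fun k => fs7 (Nat.add (Nat.succ 260252) k)) 273 = true := by decide +kernel
theorem s7c890 : allBelow (fun k => fs7 (Nat.add (Nat.succ 260525) k)) 272 = true := by decide +kernel
theorem s7c891 : allBelow (fun k => fs7 (Nat.add (Nat.succ 260797) k)) 268 = true := by decide +kernel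
theorem s7c892 : allBelow (fun k => fs7 (Nat.add (Nat.succ 261065) k)) 267 = true := by decide +kernel
theorem s7c893 : allBelow (fun k => fs7 (Nat.add (Nat.succ 261332) k)) 263 = true := by decide +kernel
theorem s7c894 : allBelow (fun k => fs7 (Nat.add (Nat.succ 261595) k)) 261 = true := by decide +kernel
theorem s7c895 : allBelow (fun k => fs7 (Nat.add (Nat.succ 261856) k)) 261 = true := by decide +kernel
theorem s7c896 : allBelow (fun k => fs7 (Nat.add (Nat.succ 262117) k)) 265 = true := by decide +kernel
theorem s7c897 : allBelow (fun k => fs7 (Nat.add (Nat.succ 262382) k)) 264 = true := by decide +kernel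
theorem s7c898 : allBelow (fun k => fs7 (Nat.add (Nat.succ 262646) k)) 260 = true := by decide +kernel
theorem s7c899 : allBelow (fun k => fs7 (Nat.add (Nat.succ 262906) k)) 255 = true := by decide +kernel
theorem s7c900 : allBelow (fun k => fs7 (Nat.add (Nat.succ 263161) k)) 253 = true := by decide +kernel
theorem s7c901 : allBelow (fun k => fs7 (Nat.add (Nat.succ 263414) k)) 274 = true := by decide +kernel
theorem s7c902 : allBelow (fun k => fs7 (Nat.add (Nat.succ 263688) k)) 269 = true := by decide +kernel
theorem s7c903 : allBelow (fun k => fs7 (Nat.add (Nat.succ 263957) k)) 260 = true := by decide +kernel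
theorem s7c904 : allBelow (fun k => fs7 (Nat.add (Nat.succ 264217) k)) 269 = true := by decide +kernel
theorem s7c905 : allBelow (fun k => fs7 (Nat.add (Nat.succ 264486) k)) 276 = true := by decide +kernel
theorem s7c906 : allBelow (fun k => fs7 (Nat.add (Nat.succ 264762) k)) 278 = true := by decide +kernel
theorem s7c907 : allBelow (fun k => fs7 (Nat.add (Nat.succ 265040) k)) 280 = true := by decide +kernel
theorem s7c908 : allBelow (fun k => fs7 (Nat.add (Nat.succ 265320) k)) 288 = true := by decide +kernel
theorem s7c909 : allBelow (fun k => fs7 (Nat.add (Nat.succ 265608) k)) 285 = true := by decide +kernel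
theorem s7c910 : allBelow (fun k => fs7 (Nat.add (Nat.succ 265893) k)) 285 = true := by decide +kernel
theorem s7c911 : allBelow (fun k => fs7 (Nat.add (Nat.succ 266178) k)) 282 = true := by decide +kernel
theorem s7c912 : allBelow (fun k => fs7 (Nat.add (Nat.succ 266460) k)) 285 = true := by decide +kernel
theorem s7c913 : allBelow (fun k => fs7 (Nat.add (Nat.succ 266745) k)) 281 = true := by decide +kernel
theorem s7c914 : allBelow (fun k => fs7 (Nat.add (Nat.succ 267026) k)) 273 = true := by decide +kernel
theorem s7c915 : allBelow (fun k => fs7 (Nat.add (Nat.succ 267299) k)) 277 = true := by decide +kernel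
theorem s7c916 : allBelow (fun k => fs7 (Nat.add (Nat.succ 267576) k)) 287 = true := by decide +kernel
theorem s7c917 : allBelow (fun k => fs7 (Nat.add (Nat.succ 267863) k)) 289 = true := by decide +kernel
theorem s7c918 : allBelow (fun k => fs7 (Nat.add (Nat.succ 268152) k)) 277 = true := by decide +kernel
theorem s7c919 : allBelow (fun k => fs7 (Nat.add (Nat.succ 268429) k)) 281 = true := by decide +kernel
theorem s7c920 : allBelow (fun k => fs7 (Nat.add (Nat.succ 268710) k)) 286 = true := by decide +kernel
theorem s7c921 : allBelow (fun k => fs7 (Nat.add (Nat.succ 268996) k)) 287 = true := by decide +kernel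
theorem s7c922 : allBelow (fun k => fs7 (Nat.add (Nat.succ 269283) k)) 273 = true := by decide +kernel
theorem s7c923 : allBelow (fun k => fs7 (Nat.add (Nat.succ 269556) k)) 274 = true := by decide +kernel
theorem s7c924 : allBelow (fun k => fs7 (Nat.add (Nat.succ 269830) k)) 260 = true := by decide +kernel
theorem s7c925 : allBelow (fun k => fs7 (Nat.add (Nat.succ 270090) k)) 267 = true := by decide +kernel
theorem s7c926 : allBelow (fun k => fs7 (Nat.add (Nat.succ 270357) k)) 308 = true := by decide +kernel
theorem s7c927 : allBelow (fun k => fs7 (Nat.add (Nat.succ 270665) k)) 308 = true := by decide +kernel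
theorem s7c928 : allBelow (fun k => fs7 (Nat.add (Nat.succ 270973) k)) 270 = true := by decide +kernel
theorem s7c929 : allBelow (fun k => fs7 (Nat.add (Nat.succ 271243) k)) 241 = true := by decide +kernel
theorem s7c930 : allBelow (fun k => fs7 (Nat.add (Nat.succ 271484) k)) 247 = true := by decide +kernel
theorem s7c931 : allBelow (fun k => fs7 (Nat.add (Nat.succ 271731) k)) 283 = true := by decide +kernel
theorem s7c932 : allBelow (fun k => fs7 (Nat.add (Nat.succ 272014) k)) 272 = true := by decide +kernel
theorem s7c933 : allBelow (fun k => fs7 (Nat.add (Nat.succ 272286) k)) 242 = true := by decide +kernel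
theorem s7c934 : allBelow (fun k => fs7 (Nat.add (Nat.succ 272528) k)) 254 = true := by decide +kernel
theorem s7c935 : allBelow (fun k => fs7 (Nat.add (Nat.succ 272782) k)) 254 = true := by decide +kernel
theorem s7c936 : allBelow (fun k => fs7 (Nat.add (Nat.succ 273036) k)) 263 = true := by decide +kernel
theorem s7c937 : allBelow (fun k => fs7 (Nat.add (Nat.succ 273299) k)) 255 = true := by decide +kernel
theorem s7c938 : allBelow (fun k => fs7 (Nat.add (Nat.succ 273554) k)) 253 = true := by decide +kernel
theorem s7c939 : allBelow (fun k => fs7 (Nat.add (Nat.succ 273807) k)) 254 = true := by decide +kernel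
theorem s7c940 : allBelow (fun k => fs7 (Nat.add (Nat.succ 274061) k)) 240 = true := by decide +kernel
theorem s7c941 : allBelow (fun k => fs7 (Nat.add (Nat.succ 274301) k)) 251 = true := by decide +kernel
theorem s7c942 : allBelow (fun k => fs7 (Nat.add (Nat.succ 274552) k)) 248 = true := by decide +kernel
theorem s7c943 : allBelow (fun k => fs7 (Nat.add (Nat.succ 274800) k)) 248 = true := by decide +kernel
theorem s7c944 : allBelow (fun k => fs7 (Nat.add (Nat.succ 275048) k)) 253 = true := by decide +kernel
theorem s7c945 : allBelow (fun k => fs7 (Nat.add (Nat.succ 275301) k)) 249 = true := by decide +kernel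
theorem s7c946 : allBelow (fun k => fs7 (Nat.add (Nat.succ 275550) k)) 252 = true := by decide +kernel
theorem s7c947 : allBelow (fun k => fs7 (Nat.add (Nat.succ 275802) k)) 257 = true := by decide +kernel
theorem s7c948 : allBelow (fun k => fs7 (Nat.add (Nat.succ 276059) k)) 260 = true := by decide +kernel
theorem s7c949 : allBelow (fun k => fs7 (Nat.add (Nat.succ 276319) k)) 257 = true := by decide +kernel
theorem s7c950 : allBelow (fun k => fs7 (Nat.add (Nat.succ 276576) k)) 259 = true := by decide +kernel
theorem s7c951 : allBelow (fun k => fs7 (Nat.add (Nat.succ 276835) k)) 249 = true := by decide +kernel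
theorem s7c952 : allBelow (fun k => fs7 (Nat.add (Nat.succ 277084) k)) 248 = true := by decide +kernel
theorem s7c953 : allBelow (fun k => fs7 (Nat.add (Nat.succ 277332) k)) 254 = true := by decide +kernel
theorem s7c954 : allBelow (fun k => fs7 (Nat.add (Nat.succ 277586) k)) 247 = true := by decide +kernel
theorem s7c955 : allBelow (fun k => fs7 (Nat.add (Nat.succ 277833) k)) 248 = true := by decide +kernel
theorem s7c956 : allBelow (fun k => fs7 (Nat.add (Nat.succ 278081) k)) 264 = true := by decide +kernel
theorem s7c957 : allBelow (fun k => fs7 (Nat.add (Nat.succ 278345) k)) 256 = true := by decide +kernel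
theorem s7c958 : allBelow (fun k => fs7 (Nat.add (Nat.succ 278601) k)) 279 = true := by decide +kernel
theorem s7c959 : allBelow (fun k => fs7 (Nat.add (Nat.succ 278880) k)) 283 = true := by decide +kernel
theorem s7c960 : allBelow (fun k => fs7 (Nat.add (Nat.succ 279163) k)) 280 = true := by decide +kernel
theorem s7c961 : allBelow (fun k => fs7 (Nat.add (Nat.succ 279443) k)) 265 = true := by decide +kernel
theorem s7c962 : allBelow (fun k => fs7 (Nat.add (Nat.succ 279708) k)) 275 = true := by decide +kernel
theorem s7c963 : allBelow (fun k => fs7 (Nat.add (Nat.succ 279983) k)) 269 = true := by decide +kernel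
theorem s7c964 : allBelow (fun k => fs7 (Nat.add (Nat.succ 280252) k)) 281 = true := by decide +kernel
theorem s7c965 : allBelow (fun k => fs7 (Nat.add (Nat.succ 280533) k)) 264 = true := by decide +kernel
theorem s7c966 : allBelow (fun k => fs7 (Nat.add (Nat.succ 280797) k)) 277 = true := by decide +kernel
theorem s7c967 : allBelow (fun k => fs7 (Nat.add (Nat.succ 281074) k)) 286 = true := by decide +kernel
theorem s7c968 : allBelow (fun k => fs7 (Nat.add (Nat.succ 281360) k)) 258 = true := by decide +kernel
theorem s7c969 : allBelow (fun k => fs7 (Nat.add (Nat.succ 281618) k)) 261 = true := by decide +kernel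
theorem s7c970 : allBelow (fun k => fs7 (Nat.add (Nat.succ 281879) k)) 254 = true := by decide +kernel
theorem s7c971 : allBelow (fun k => fs7 (Nat.add (Nat.succ 282133) k)) 269 = true := by decide +kernel
theorem s7c972 : allBelow (fun k => fs7 (Nat.add (Nat.succ 282402) k)) 285 = true := by decide +kernel
theorem s7c973 : allBelow (fun k => fs7 (Nat.add (Nat.succ 282687) k)) 288 = true := by decide +kernel
theorem s7c974 : allBelow (fun k => fs7 (Nat.add (Nat.succ 282975) k)) 269 = true := by decide +kernel
theorem s7c975 : allBelow (fun k => fs7 (Nat.add (Nat.succ 283244) k)) 291 = true := by decide +kernel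
theorem s7c976 : allBelow (fun k => fs7 (Nat.add (Nat.succ 283535) k)) 266 = true := by decide +kernel
theorem s7c977 : allBelow (fun k => fs7 (Nat.add (Nat.succ 283801) k)) 270 = true := by decide +kernel
theorem s7c978 : allBelow (fun k => fs7 (Nat.add (Nat.succ 284071) k)) 281 = true := by decide +kernel
theorem s7c979 : allBelow (fun k => fs7 (Nat.add (Nat.succ 284352) k)) 258 = true := by decide +kernel
theorem s7c980 : allBelow (fun k => fs7 (Nat.add (Nat.succ 284610) k)) 271 = true := by decide +kernel
theorem s7c981 : allBelow (fun k => fs7 (Nat.add (Nat.succ 284881) k)) 252 = true := by decide +kernel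
theorem s7c982 : allBelow (fun k => fs7 (Nat.add (Nat.succ 285133) k)) 254 = true := by decide +kernel
theorem s7c983 : allBelow (fun k => fs7 (Nat.add (Nat.succ 285387) k)) 255 = true := by decide +kernel
theorem s7c984 : allBelow (fun k => fs7 (Nat.add (Nat.succ 285642) k)) 273 = true := by decide +kernel
theorem s7c985 : allBelow (fun k => fs7 (Nat.add (Nat.succ 285915) k)) 270 = true := by decide +kernel
theorem s7c986 : allBelow (fun k => fs7 (Nat.add (Nat.succ 286185) k)) 271 = true := by decide +kernel
theorem s7c987 : allBelow (fun k => fs7 (Nat.add (Nat.succ 286456) k)) 255 = true := by decide +kernel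
theorem s7c988 : allBelow (fun k => fs7 (Nat.add (Nat.succ 286711) k)) 271 = true := by decide +kernel
theorem s7c989 : allBelow (fun k => fs7 (Nat.add (Nat.succ 286982) k)) 269 = true := by decide +kernel
theorem s7c990 : allBelow (fun k => fs7 (Nat.add (Nat.succ 287251) k)) 263 = true := by decide +kernel
theorem s7c991 : allBelow (fun k => fs7 (Nat.add (Nat.succ 287514) k)) 262 = true := by decide +kernel
theorem s7c992 : allBelow (fun k => fs7 (Nat.add (Nat.succ 287776) k)) 260 = true := by decide +kernel
theorem s7c993 : allBelow (fun k => fs7 (Nat.add (Nat.succ 288036) k)) 262 = true := by decide +kernel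
theorem s7c994 : allBelow (fun k => fs7 (Nat.add (Nat.succ 288298) k)) 258 = true := by decide +kernel
theorem s7c995 : allBelow (fun k => fs7 (Nat.add (Nat.succ 288556) k)) 261 = true := by decide +kernel
theorem s7c996 : allBelow (fun k => fs7 (Nat.add (Nat.succ 288817) k)) 240 = true := by decide +kernel
theorem s7c997 : allBelow (fun k => fs7 (Nat.add (Nat.succ 289057) k)) 263 = true := by decide +kernel
theorem s7c998 : allBelow (fun k => fs7 (Nat.add (Nat.succ 289320) k)) 271 = true := by decide +kernel
theorem s7c999 : allBelow (fun k => fs7 (Nat.add (Nat.succ 289591) k)) 267 = true := by decide +kernel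
theorem s7c1000 : allBelow (fun k => fs7 (Nat.add (Nat.succ 289858) k)) 262 = true := by decide +kernel
theorem s7c1001 : allBelow (fun k => fs7 (Nat.add (Nat.succ 290120) k)) 274 = true := by decide +kernel
theorem s7c1002 : allBelow (fun k => fs7 (Nat.add (Nat.succ 290394) k)) 286 = true := by decide +kernel
theorem s7c1003 : allBelow (fun k => fs7 (Nat.add (Nat.succ 290680) k)) 285 = true := by decide +kernel
theorem s7c1004 : allBelow (fun k => fs7 (Nat.add (Nat.succ 290965) k)) 287 = true := by decide +kernel
theorem s7c1005 : allBelow (fun k => fs7 (Nat.add (Nat.succ 291252) k)) 280 = true := by decide +kernel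
theorem s7c1006 : allBelow (fun k => fs7 (Nat.add (Nat.succ 291532) k)) 281 = true := by decide +kernel
theorem s7c1007 : allBelow (fun k => fs7 (Nat.add (Nat.succ 291813) k)) 280 = true := by decide +kernel
theorem s7c1008 : allBelow (fun k => fs7 (Nat.add (Nat.succ 292093) k)) 287 = true := by decide +kernel
theorem s7c1009 : allBelow (fun k => fs7 (Nat.add (Nat.succ 292380) k)) 273 = true := by decide +kernel
theorem s7c1010 : allBelow (fun k => fs7 (Nat.add (Nat.succ 292653) k)) 275 = true := by decide +kernel
theorem s7c1011 : allBelow (fun k => fs7 (Nat.add (Nat.succ 292928) k)) 274 = true := by decide +kernel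
theorem s7c1012 : allBelow (fun k => fs7 (Nat.add (Nat.succ 293202) k)) 295 = true := by decide +kernel
theorem s7c1013 : allBelow (fun k => fs7 (Nat.add (Nat.succ 293497) k)) 283 = true := by decide +kernel
theorem s7c1014 : allBelow (fun k => fs7 (Nat.add (Nat.succ 293780) k)) 286 = true := by decide +kernel
theorem s7c1015 : allBelow (fun k => fs7 (Nat.add (Nat.succ 294066) k)) 286 = true := by decide +kernel
theorem s7c1016 : allBelow (fun k => fs7 (Nat.add (Nat.succ 294352) k)) 289 = true := by decide +kernel
theorem s7c1017 : allBelow (fun k => fs7 (Nat.add (Nat.succ 294641) k)) 261 = true := by decide +kernel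
theorem s7c1018 : allBelow (fun k => fs7 (Nat.add (Nat.succ 294902) k)) 261 = true := by decide +kernel
theorem s7c1019 : allBelow (fun k => fs7 (Nat.add (Nat.succ 295163) k)) 258 = true := by decide +kernel
theorem s7c1020 : allBelow (fun k => fs7 (Nat.add (Nat.succ 295421) k)) 291 = true := by decide +kernel
theorem s7c1021 : allBelow (fun k => fs7 (Nat.add (Nat.succ 295712) k)) 291 = true := by decide +kernel
theorem s7c1022 : allBelow (fun k => fs7 (Nat.add (Nat.succ 296003) k)) 267 = true := by decide +kernel
theorem s7c1023 : allBelow (fun k => fs7 (Nat.add (Nat.succ 296270) k)) 244 = true := by decide +kernel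
theorem s7c1024 : allBelow (fun k => fs7 (Nat.add (Nat.succ 296514) k)) 253 = true := by decide +kernel
theorem s7c1025 : allBelow (fun k => fs7 (Nat.add (Nat.succ 296767) k)) 287 = true := by decide +kernel
theorem s7c1026 : allBelow (fun k => fs7 (Nat.add (Nat.succ 297054) k)) 259 = true := by decide +kernel
theorem s7c1027 : allBelow (fun k => fs7 (Nat.add (Nat.succ 297313) k)) 239 = true := by decide +kernel
theorem s7c1028 : allBelow (fun k => fs7 (Nat.add (Nat.succ 297552) k)) 241 = true := by decide +kernel
theorem s7c1029 : allBelow (fun k => fs7 (Nat.add (Nat.succ 297793) k)) 259 = true := by decide +kernel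
theorem s7c1030 : allBelow (fun k => fs7 (Nat.add (Nat.succ 298052) k)) 261 = true := by decide +kernel
theorem s7c1031 : allBelow (fun k => fs7 (Nat.add (Nat.succ 298313) k)) 254 = true := by decide +kernel
theorem s7c1032 : allBelow (fun k => fs7 (Nat.add (Nat.succ 298567) k)) 251 = true := by decide +kernel
theorem s7c1033 : allBelow (fun k => fs7 (Nat.add (Nat.succ 298818) k)) 250 = true := by decide +kernel
theorem s7c1034 : allBelow (fun k => fs7 (Nat.add (Nat.succ 299068) k)) 247 = true := by decide +kernel
theorem s7c1035 : allBelow (fun k => fs7 (Nat.add (Nat.succ 299315) k)) 241 = true := by decide +kernel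
theorem s7c1036 : allBelow (fun k => fs7 (Nat.add (Nat.succ 299556) k)) 248 = true := by decide +kernel
theorem s7c1037 : allBelow (fun k => fs7 (Nat.add (Nat.succ 299804) k)) 232 = true := by decide +kernel
theorem s7c1038 : allBelow (fun k => fs7 (Nat.add (Nat.succ 300036) k)) 246 = true := by decide +kernel
theorem s7c1039 : allBelow (fun k => fs7 (Nat.add (Nat.succ 300282) k)) 242 = true := by decide +kernel
theorem s7c1040 : allBelow (fun k => fs7 (Nat.add (Nat.succ 300524) k)) 248 = true := by decide +kernel
theorem s7c1041 : allBelow (fun k => fs7 (Nat.add (Nat.succ 300772) k)) 251 = true := by decide +kernel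
theorem s7c1042 : allBelow (fun k => fs7 (Nat.add (Nat.succ 301023) k)) 259 = true := by decide +kernel
theorem s7c1043 : allBelow (fun k => fs7 (Nat.add (Nat.succ 301282) k)) 246 = true := by decide +kernel
theorem s7c1044 : allBelow (fun k => fs7 (Nat.add (Nat.succ 301528) k)) 258 = true := by decide +kernel
theorem s7c1045 : allBelow (fun k => fs7 (Nat.add (Nat.succ 301786) k)) 261 = true := by decide +kernel
theorem s7c1046 : allBelow (fun k => fs7 (Nat.add (Nat.succ 302047) k)) 243 = true := by decide +kernel
theorem s7c1047 : allBelow (fun k => fs7 (Nat.add (Nat.succ 302290) k)) 252 = true := by decide +kernel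
theorem s7c1048 : allBelow (fun k => fs7 (Nat.add (Nat.succ 302542) k)) 254 = true := by decide +kernel
theorem s7c1049 : allBelow (fun k => fs7 (Nat.add (Nat.succ 302796) k)) 251 = true := by decide +kernel
theorem s7c1050 : allBelow (fun k => fs7 (Nat.add (Nat.succ 303047) k)) 240 = true := by decide +kernel
theorem s7c1051 : allBelow (fun k => fs7 (Nat.add (Nat.succ 303287) k)) 261 = true := by decide +kernel
theorem s7c1052 : allBelow (fun k => fs7 (Nat.add (Nat.succ 303548) k)) 279 = true := by decide +kernel
theorem s7c1053 : allBelow (fun k => fs7 (Nat.add (Nat.succ 303827) k)) 282 = true := by decide +kernel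
theorem s7c1054 : allBelow (fun k => fs7 (Nat.add (Nat.succ 304109) k)) 278 = true := by decide +kernel
theorem s7c1055 : allBelow (fun k => fs7 (Nat.add (Nat.succ 304387) k)) 258 = true := by decide +kernel
theorem s7c1056 : allBelow (fun k => fs7 (Nat.add (Nat.succ 304645) k)) 262 = true := by decide +kernel

end Cfsg.Agent.Lib.Helper35.Fi24a
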