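import Cfsg.Agent.Lib.Helper35.Fi24a.Data

set_option Elab.async false

namespace Cfsg.Agent.Lib.Helper35.Fi24a

open Cfsg.Agent.Lib.Helper35

theorem s7c1057 : allBelow (fun k => fs7 (Nat.add (Nat.succ 304907) k)) 272 = true := by decide +kernel
theorem s7c1058 : allBelow (fun k => fs7 (Nat.add (Nat.succ 305179) k)) 276 = true := by decide +kernel
theorem s7c1059 : allBelow (fun k => fs7 (Nat.add (Nat.succ 305455) k)) 265 = true := by decide +kernel
theorem s7c1060 : allBelow (fun k => fs7 (Nat.add (Nat.succ 305720) k)) 286 = true := by decide +kernel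
theorem s7c1061 : allBelow (fun k => fs7 (Nat.add (Nat.succ 306006) k)) 254 = true := by decide +kernel
theorem s7c1062 : allBelow (fun k => fs7 (Nat.add (Nat.succ 306260) k)) 256 = true := by decide +kernel
theorem s7c1063 : allBelow (fun k => fs7 (Nat.add (Nat.succ 306516) k)) 244 = true := by decide +kernel
theorem s7c1064 : allBelow (fun k => fs7 (Nat.add (Nat.succ 306760) k)) 261 = true := by decide +kernel
theorem s7c1065 : allBelow (fun k => fs7 (Nat.add (Nat.succ 307021) k)) 262 = true := by decide +kernel
theorem s7c1066 : allBelow (fun k => fs7 (Nat.add (Nat.succ 307283) k)) 286 = true := by decide +kernel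
theorem s7c1067 : allBelow (fun k => fs7 (Nat.add (Nat.succ 307569) k)) 264 = true := by decide +kernel
theorem s7c1068 : allBelow (fun k => fs7 (Nat.add (Nat.succ 307833) k)) 289 = true := by decide +kernel
theorem s7c1069 : allBelow (fun k => fs7 (Nat.add (Nat.succ 308122) k)) 263 = true := by decide +kernel
theorem s7c1070 : allBelow (fun k => fs7 (Nat.add (Nat.succ 308385) k)) 276 = true := by decide +kernel
theorem s7c1071 : allBelow (fun k => fs7 (Nat.add (Nat.succ 308661) k)) 249 = true := by decide +kernel
theorem s7c1072 : allBelow (fun k => fs7 (Nat.add (Nat.succ 308910) k)) 284 = true := by decide +kernel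
theorem s7c1073 : allBelow (fun k => fs7 (Nat.add (Nat.succ 309194) k)) 250 = true := by decide +kernel
theorem s7c1074 : allBelow (fun k => fs7 (Nat.add (Nat.succ 309444) k)) 255 = true := by decide +kernel
theorem s7c1075 : allBelow (fun k => fs7 (Nat.add (Nat.succ 309699) k)) 260 = true := by decide +kernel
theorem s7c1076 : allBelow (fun k => fs7 (Nat.add (Nat.succ 309959) k)) 263 = true := by decide +kernel
theorem s7c1077 : allBelow (fun k => fs7 (Nat.add (Nat.succ 310222) k)) 278 = true := by decide +kernel
theorem s7c1078 : allBelow (fun k => fs7 (Nat.add (Nat.succ 310500) k)) 256 = true := by decide +kernel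
theorem s7c1079 : allBelow (fun k => fs7 (Nat.add (Nat.succ 310756) k)) 260 = true := by decide +kernel
theorem s7c1080 : allBelow (fun k => fs7 (Nat.add (Nat.succ 311016) k)) 277 = true := by decide +kernel
theorem s7c1081 : allBelow (fun k => fs7 (Nat.add (Nat.succ 311293) k)) 268 = true := by decide +kernel
theorem s7c1082 : allBelow (fun k => fs7 (Nat.add (Nat.succ 311561) k)) 252 = true := by decide +kernel
theorem s7c1083 : allBelow (fun k => fs7 (Nat.add (Nat.succ 311813) k)) 246 = true := by decide +kernel
theorem s7c1084 : allBelow (fun k => fs7 (Nat.add (Nat.succ 312059) k)) 262 = true := by decide +kernel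
theorem s7c1085 : allBelow (fun k => fs7 (Nat.add (Nat.succ 312321) k)) 261 = true := by decide +kernel
theorem s7c1086 : allBelow (fun k => fs7 (Nat.add (Nat.succ 312582) k)) 270 = true := by decide +kernel
theorem s7c1087 : allBelow (fun k => fs7 (Nat.add (Nat.succ 312852) k)) 249 = true := by decide +kernel
theorem s7c1088 : allBelow (fun k => fs7 (Nat.add (Nat.succ 313101) k)) 270 = true := by decide +kernel
theorem s7c1089 : allBelow (fun k => fs7 (Nat.add (Nat.succ 313371) k)) 265 = true := by decide +kernel
theorem s7c1090 : allBelow (fun k => fs7 (Nat.add (Nat.succ 313636) k)) 266 = true := by decide +kernel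
theorem s7c1091 : allBelow (fun k => fs7 (Nat.add (Nat.succ 313902) k)) 288 = true := by decide +kernel
theorem s7c1092 : allBelow (fun k => fs7 (Nat.add (Nat.succ 314190) k)) 290 = true := by decide +kernel
theorem s7c1093 : allBelow (fun k => fs7 (Nat.add (Nat.succ 314480) k)) 272 = true := by decide +kernel
theorem s7c1094 : allBelow (fun k => fs7 (Nat.add (Nat.succ 314752) k)) 287 = true := by decide +kernel
theorem s7c1095 : allBelow (fun k => fs7 (Nat.add (Nat.succ 315039) k)) 260 = true := by decide +kernel
theorem s7c1096 : allBelow (fun k => fs7 (Nat.add (Nat.succ 315299) k)) 281 = true := by decide +kernel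
theorem s7c1097 : allBelow (fun k => fs7 (Nat.add (Nat.succ 315580) k)) 267 = true := by decide +kernel
theorem s7c1098 : allBelow (fun k => fs7 (Nat.add (Nat.succ 315847) k)) 274 = true := by decide +kernel
theorem s7c1099 : allBelow (fun k => fs7 (Nat.add (Nat.succ 316121) k)) 291 = true := by decide +kernel
theorem s7c1100 : allBelow (fun k => fs7 (Nat.add (Nat.succ 316412) k)) 287 = true := by decide +kernel
theorem s7c1101 : allBelow (fun k => fs7 (Nat.add (Nat.succ 316699) k)) 283 = true := by decide +kernel
theorem s7c1102 : allBelow (fun k => fs7 (Nat.add (Nat.succ 316982) k)) 289 = true := by decide +kernel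
theorem s7c1103 : allBelow (fun k => fs7 (Nat.add (Nat.succ 317271) k)) 251 = true := by decide +kernel
theorem s7c1104 : allBelow (fun k => fs7 (Nat.add (Nat.succ 317522) k)) 252 = true := by decide +kernel
theorem s7c1105 : allBelow (fun k => fs7 (Nat.add (Nat.succ 317774) k)) 272 = true := by decide +kernel
theorem s7c1106 : allBelow (fun k => fs7 (Nat.add (Nat.succ 318046) k)) 281 = true := by decide +kernel
theorem s7c1107 : allBelow (fun k => fs7 (Nat.add (Nat.succ 318327) k)) 256 = true := by decide +kernel
theorem s7c1108 : allBelow (fun k => fs7 (Nat.add (Nat.succ 318583) k)) 259 = true := by decide +kernel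
theorem s7c1109 : allBelow (fun k => fs7 (Nat.add (Nat.succ 318842) k)) 252 = true := by decide +kernel
theorem s7c1110 : allBelow (fun k => fs7 (Nat.add (Nat.succ 319094) k)) 286 = true := by decide +kernel
theorem s7c1111 : allBelow (fun k => fs7 (Nat.add (Nat.succ 319380) k)) 260 = true := by decide +kernel
theorem s7c1112 : allBelow (fun k => fs7 (Nat.add (Nat.succ 319640) k)) 231 = true := by decide +kernel
theorem s7c1113 : allBelow (fun k => fs7 (Nat.add (Nat.succ 319871) k)) 239 = true := by decide +kernel
theorem s7c1114 : allBelow (fun k => fs7 (Nat.add (Nat.succ 320110) k)) 254 = true := by decide +kernel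
theorem s7c1115 : allBelow (fun k => fs7 (Nat.add (Nat.succ 320364) k)) 259 = true := by decide +kernel
theorem s7c1116 : allBelow (fun k => fs7 (Nat.add (Nat.succ 320623) k)) 248 = true := by decide +kernel
theorem s7c1117 : allBelow (fun k => fs7 (Nat.add (Nat.succ 320871) k)) 242 = true := by decide +kernel
theorem s7c1118 : allBelow (fun k => fs7 (Nat.add (Nat.succ 321113) k)) 241 = true := by decide +kernel
theorem s7c1119 : allBelow (fun k => fs7 (Nat.add (Nat.succ 321354) k)) 240 = true := by decide +kernel
theorem s7c1120 : allBelow (fun k => fs7 (Nat.add (Nat.succ 321594) k)) 253 = true := by decide +kernel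
theorem s7c1121 : allBelow (fun k => fs7 (Nat.add (Nat.succ 321847) k)) 228 = true := by decide +kernel
theorem s7c1122 : allBelow (fun k => fs7 (Nat.add (Nat.succ 322075) k)) 241 = true := by decide +kernel
theorem s7c1123 : allBelow (fun k => fs7 (Nat.add (Nat.succ 322316) k)) 236 = true := by decide +kernel
theorem s7c1124 : allBelow (fun k => fs7 (Nat.add (Nat.succ 322552) k)) 242 = true := by decide +kernel
theorem s7c1125 : allBelow (fun k => fs7 (Nat.add (Nat.succ 322794) k)) 263 = true := by decide +kernel
theorem s7c1126 : allBelow (fun k => fs7 (Nat.add (Nat.succ 323057) k)) 234 = true := by decide +kernel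
theorem s7c1127 : allBelow (fun k => fs7 (Nat.add (Nat.succ 323291) k)) 264 = true := by decide +kernel
theorem s7c1128 : allBelow (fun k => fs7 (Nat.add (Nat.succ 323555) k)) 259 = true := by decide +kernel
theorem s7c1129 : allBelow (fun k => fs7 (Nat.add (Nat.succ 323814) k)) 250 = true := by decide +kernel
theorem s7c1130 : allBelow (fun k => fs7 (Nat.add (Nat.succ 324064) k)) 256 = true := by decide +kernel
theorem s7c1131 : allBelow (fun k => fs7 (Nat.add (Nat.succ 324320) k)) 253 = true := by decide +kernel
theorem s7c1132 : allBelow (fun k => fs7 (Nat.add (Nat.succ 324573) k)) 236 = true := by decide +kernel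
theorem s7c1133 : allBelow (fun k => fs7 (Nat.add (Nat.succ 324809) k)) 273 = true := by decide +kernel
theorem s7c1134 : allBelow (fun k => fs7 (Nat.add (Nat.succ 325082) k)) 268 = true := by decide +kernel
theorem s7c1135 : allBelow (fun k => fs7 (Nat.add (Nat.succ 325350) k)) 268 = true := by decide +kernel
theorem s7c1136 : allBelow (fun k => fs7 (Nat.add (Nat.succ 325618) k)) 250 = true := by decide +kernel
theorem s7c1137 : allBelow (fun k => fs7 (Nat.add (Nat.succ 325868) k)) 272 = true := by decide +kernel
theorem s7c1138 : allBelow (fun k => fs7 (Nat.add (Nat.succ 326140) k)) 262 = true := by decide +kernel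
theorem s7c1139 : allBelow (fun k => fs7 (Nat.add (Nat.succ 326402) k)) 283 = true := by decide +kernel
theorem s7c1140 : allBelow (fun k => fs7 (Nat.add (Nat.succ 326685) k)) 254 = true := by decide +kernel
theorem s7c1141 : allBelow (fun k => fs7 (Nat.add (Nat.succ 326939) k)) 245 = true := by decide +kernel
theorem s7c1142 : allBelow (fun k => fs7 (Nat.add (Nat.succ 327184) k)) 245 = true := by decide +kernel
theorem s7c1143 : allBelow (fun k => fs7 (Nat.add (Nat.succ 327429) k)) 250 = true := by decide +kernel
theorem s7c1144 : allBelow (fun k => fs7 (Nat.add (Nat.succ 327679) k)) 269 = true := by decide +kernel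
theorem s7c1145 : allBelow (fun k => fs7 (Nat.add (Nat.succ 327948) k)) 269 = true := by decide +kernel
theorem s7c1146 : allBelow (fun k => fs7 (Nat.add (Nat.succ 328217) k)) 291 = true := by decide +kernel
theorem s7c1147 : allBelow (fun k => fs7 (Nat.add (Nat.succ 328508) k)) 275 = true := by decide +kernel
theorem s7c1148 : allBelow (fun k => fs7 (Nat.add (Nat.succ 328783) k)) 270 = true := by decide +kernel
theorem s7c1149 : allBelow (fun k => fs7 (Nat.add (Nat.succ 329053) k)) 253 = true := by decide +kernel
theorem s7c1150 : allBelow (fun k => fs7 (Nat.add (Nat.succ 329306) k)) 265 = true := by decide +kernel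
theorem s7c1151 : allBelow (fun k => fs7 (Nat.add (Nat.succ 329571) k)) 260 = true := by decide +kernel
theorem s7c1152 : allBelow (fun k => fs7 (Nat.add (Nat.succ 329831) k)) 269 = true := by decide +kernel
theorem s7c1153 : allBelow (fun k => fs7 (Nat.add (Nat.succ 330100) k)) 253 = true := by decide +kernel
theorem s7c1154 : allBelow (fun k => fs7 (Nat.add (Nat.succ 330353) k)) 267 = true := by decide +kernel
theorem s7c1155 : allBelow (fun k => fs7 (Nat.add (Nat.succ 330620) k)) 265 = true := by decide +kernel
theorem s7c1156 : allBelow (fun k => fs7 (Nat.add (Nat.succ 330885) k)) 262 = true := by decide +kernel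
theorem s7c1157 : allBelow (fun k => fs7 (Nat.add (Nat.succ 331147) k)) 259 = true := by decide +kernel
theorem s7c1158 : allBelow (fun k => fs7 (Nat.add (Nat.succ 331406) k)) 260 = true := by decide +kernel
theorem s7c1159 : allBelow (fun k => fs7 (Nat.add (Nat.succ 331666) k)) 265 = true := by decide +kernel
theorem s7c1160 : allBelow (fun k => fs7 (Nat.add (Nat.succ 331931) k)) 219 = true := by decide +kernel
theorem s7c1161 : allBelow (fun k => fs7 (Nat.add (Nat.succ 332150) k)) 262 = true := by decide +kernel
theorem s7c1162 : allBelow (fun k => fs7 (Nat.add (Nat.succ 332412) k)) 282 = true := by decide +kernel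
theorem s7c1163 : allBelow (fun k => fs7 (Nat.add (Nat.succ 332694) k)) 276 = true := by decide +kernel
theorem s7c1164 : allBelow (fun k => fs7 (Nat.add (Nat.succ 332970) k)) 269 = true := by decide +kernel
theorem s7c1165 : allBelow (fun k => fs7 (Nat.add (Nat.succ 333239) k)) 258 = true := by decide +kernel
theorem s7c1166 : allBelow (fun k => fs7 (Nat.add (Nat.succ 333497) k)) 267 = true := by decide +kernel
theorem s7c1167 : allBelow (fun k => fs7 (Nat.add (Nat.succ 333764) k)) 272 = true := by decide +kernel
theorem s7c1168 : allBelow (fun k => fs7 (Nat.add (Nat.succ 334036) k)) 283 = true := by decide +kernel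
theorem s7c1169 : allBelow (fun k => fs7 (Nat.add (Nat.succ 334319) k)) 292 = true := by decide +kernel
theorem s7c1170 : allBelow (fun k => fs7 (Nat.add (Nat.succ 334611) k)) 249 = true := by decide +kernel
theorem s7c1171 : allBelow (fun k => fs7 (Nat.add (Nat.succ 334860) k)) 241 = true := by decide +kernel
theorem s7c1172 : allBelow (fun k => fs7 (Nat.add (Nat.succ 335101) k)) 272 = true := by decide +kernel
theorem s7c1173 : allBelow (fun k => fs7 (Nat.add (Nat.succ 335373) k)) 242 = true := by decide +kernel
theorem s7c1174 : allBelow (fun k => fs7 (Nat.add (Nat.succ 335615) k)) 263 = true := by decide +kernel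
theorem s7c1175 : allBelow (fun k => fs7 (Nat.add (Nat.succ 335878) k)) 259 = true := by decide +kernel
theorem s7c1176 : allBelow (fun k => fs7 (Nat.add (Nat.succ 336137) k)) 277 = true := by decide +kernel
theorem s7c1177 : allBelow (fun k => fs7 (Nat.add (Nat.succ 336414) k)) 233 = true := by decide +kernel
theorem s7c1178 : allBelow (fun k => fs7 (Nat.add (Nat.succ 336647) k)) 255 = true := by decide +kernel
theorem s7c1179 : allBelow (fun k => fs7 (Nat.add (Nat.succ 336902) k)) 262 = true := by decide +kernel
theorem s7c1180 : allBelow (fun k => fs7 (Nat.add (Nat.succ 337164) k)) 250 = true := by decide +kernel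
theorem s7c1181 : allBelow (fun k => fs7 (Nat.add (Nat.succ 337414) k)) 242 = true := by decide +kernel
theorem s7c1182 : allBelow (fun k => fs7 (Nat.add (Nat.succ 337656) k)) 244 = true := by decide +kernel
theorem s7c1183 : allBelow (fun k => fs7 (Nat.add (Nat.succ 337900) k)) 248 = true := by decide +kernel
theorem s7c1184 : allBelow (fun k => fs7 (Nat.add (Nat.succ 338148) k)) 235 = true := by decide +kernel
theorem s7c1185 : allBelow (fun k => fs7 (Nat.add (Nat.succ 338383) k)) 230 = true := by decide +kernel
theorem s7c1186 : allBelow (fun k => fs7 (Nat.add (Nat.succ 338613) k)) 226 = true := by decide +kernel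
theorem s7c1187 : allBelow (fun k => fs7 (Nat.add (Nat.succ 338839) k)) 243 = true := by decide +kernel
theorem s7c1188 : allBelow (fun k => fs7 (Nat.add (Nat.succ 339082) k)) 264 = true := by decide +kernel
theorem s7c1189 : allBelow (fun k => fs7 (Nat.add (Nat.succ 339346) k)) 260 = true := by decide +kernel
theorem s7c1190 : allBelow (fun k => fs7 (Nat.add (Nat.succ 339606) k)) 245 = true := by decide +kernel
theorem s7c1191 : allBelow (fun k => fs7 (Nat.add (Nat.succ 339851) k)) 220 = true := by decide +kernel
theorem s7c1192 : allBelow (fun k => fs7 (Nat.add (Nat.succ 340071) k)) 222 = true := by decide +kernel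
theorem s7c1193 : allBelow (fun k => fs7 (Nat.add (Nat.succ 340293) k)) 253 = true := by decide +kernel
theorem s7c1194 : allBelow (fun k => fs7 (Nat.add (Nat.succ 340546) k)) 246 = true := by decide +kernel
theorem s7c1195 : allBelow (fun k => fs7 (Nat.add (Nat.succ 340792) k)) 268 = true := by decide +kernel
theorem s7c1196 : allBelow (fun k => fs7 (Nat.add (Nat.succ 341060) k)) 270 = true := by decide +kernel
theorem s7c1197 : allBelow (fun k => fs7 (Nat.add (Nat.succ 341330) k)) 241 = true := by decide +kernel
theorem s7c1198 : allBelow (fun k => fs7 (Nat.add (Nat.succ 341571) k)) 248 = true := by decide +kernel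
theorem s7c1199 : allBelow (fun k => fs7 (Nat.add (Nat.succ 341819) k)) 237 = true := by decide +kernel
theorem s7c1200 : allBelow (fun k => fs7 (Nat.add (Nat.succ 342056) k)) 289 = true := by decide +kernel
theorem s7c1201 : allBelow (fun k => fs7 (Nat.add (Nat.succ 342345) k)) 274 = true := by decide +kernel
theorem s7c1202 : allBelow (fun k => fs7 (Nat.add (Nat.succ 342619) k)) 261 = true := by decide +kernel
theorem s7c1203 : allBelow (fun k => fs7 (Nat.add (Nat.succ 342880) k)) 258 = true := by decide +kernel
theorem s7c1204 : allBelow (fun k => fs7 (Nat.add (Nat.succ 343138) k)) 254 = true := by decide +kernel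
theorem s7c1205 : allBelow (fun k => fs7 (Nat.add (Nat.succ 343392) k)) 255 = true := by decide +kernel
theorem s7c1206 : allBelow (fun k => fs7 (Nat.add (Nat.succ 343647) k)) 265 = true := by decide +kernel
theorem s7c1207 : allBelow (fun k => fs7 (Nat.add (Nat.succ 343912) k)) 262 = true := by decide +kernel
theorem s7c1208 : allBelow (fun k => fs7 (Nat.add (Nat.succ 344174) k)) 252 = true := by decide +kernel
theorem s7c1209 : allBelow (fun k => fs7 (Nat.add (Nat.succ 344426) k)) 266 = true := by decide +kernel
theorem s7c1210 : allBelow (fun k => fs7 (Nat.add (Nat.succ 344692) k)) 251 = true := by decide +kernel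
theorem s7c1211 : allBelow (fun k => fs7 (Nat.add (Nat.succ 344943) k)) 264 = true := by decide +kernel
theorem s7c1212 : allBelow (fun k => fs7 (Nat.add (Nat.succ 345207) k)) 259 = true := by decide +kernel
theorem s7c1213 : allBelow (fun k => fs7 (Nat.add (Nat.succ 345466) k)) 270 = true := by decide +kernel
theorem s7c1214 : allBelow (fun k => fs7 (Nat.add (Nat.succ 345736) k)) 268 = true := by decide +kernel
theorem s7c1215 : allBelow (fun k => fs7 (Nat.add (Nat.succ 346004) k)) 257 = true := by decide +kernel
theorem s7c1216 : allBelow (fun k => fs7 (Nat.add (Nat.succ 346261) k)) 254 = true := by decide +kernel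
theorem s7c1217 : allBelow (fun k => fs7 (Nat.add (Nat.succ 346515) k)) 259 = true := by decide +kernel
theorem s7c1218 : allBelow (fun k => fs7 (Nat.add (Nat.succ 346774) k)) 253 = true := by decide +kernel
theorem s7c1219 : allBelow (fun k => fs7 (Nat.add (Nat.succ 347027) k)) 261 = true := by decide +kernel
theorem s7c1220 : allBelow (fun k => fs7 (Nat.add (Nat.succ 347288) k)) 259 = true := by decide +kernel
theorem s7c1221 : allBelow (fun k => fs7 (Nat.add (Nat.succ 347547) k)) 251 = true := by decide +kernel
theorem s7c1222 : allBelow (fun k => fs7 (Nat.add (Nat.succ 347798) k)) 247 = true := by decide +kernel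
theorem s7c1223 : allBelow (fun k => fs7 (Nat.add (Nat.succ 348045) k)) 231 = true := by decide +kernel
theorem s7c1224 : allBelow (fun k => fs7 (Nat.add (Nat.succ 348276) k)) 189 = true := by decide +kernel
theorem s7c1225 : allBelow (fun k => fs7 (Nat.add (Nat.succ 348465) k)) 203 = true := by decide +kernel
theorem s7c1226 : allBelow (fun k => fs7 (Nat.add (Nat.succ 348668) k)) 245 = true := by decide +kernel
theorem s7c1227 : allBelow (fun k => fs7 (Nat.add (Nat.succ 348913) k)) 259 = true := by decide +kernel
theorem s7c1228 : allBelow (fun k => fs7 (Nat.add (Nat.succ 349172) k)) 260 = true := by decide +kernel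
theorem s7c1229 : allBelow (fun k => fs7 (Nat.add (Nat.succ 349432) k)) 258 = true := by decide +kernel
theorem s7c1230 : allBelow (fun k => fs7 (Nat.add (Nat.succ 349690) k)) 257 = true := by decide +kernel
theorem s7c1231 : allBelow (fun k => fs7 (Nat.add (Nat.succ 349947) k)) 237 = true := by decide +kernel
theorem s7c1232 : allBelow (fun k => fs7 (Nat.add (Nat.succ 350184) k)) 241 = true := by decide +kernel
theorem s7c1233 : allBelow (fun k => fs7 (Nat.add (Nat.succ 350425) k)) 268 = true := by decide +kernel
theorem s7c1234 : allBelow (fun k => fs7 (Nat.add (Nat.succ 350693) k)) 258 = true := by decide +kernel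
theorem s7c1235 : allBelow (fun k => fs7 (Nat.add (Nat.succ 350951) k)) 248 = true := by decide +kernel
theorem s7c1236 : allBelow (fun k => fs7 (Nat.add (Nat.succ 351199) k)) 250 = true := by decide +kernel
theorem s7c1237 : allBelow (fun k => fs7 (Nat.add (Nat.succ 351449) k)) 257 = true := by decide +kernel
theorem s7c1238 : allBelow (fun k => fs7 (Nat.add (Nat.succ 351706) k)) 251 = true := by decide +kernel
theorem s7c1239 : allBelow (fun k => fs7 (Nat.add (Nat.succ 351957) k)) 242 = true := by decide +kernel
theorem s7c1240 : allBelow (fun k => fs7 (Nat.add (Nat.succ 352199) k)) 256 = true := by decide +kernel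
theorem s7c1241 : allBelow (fun k => fs7 (Nat.add (Nat.succ 352455) k)) 275 = true := by decide +kernel
theorem s7c1242 : allBelow (fun k => fs7 (Nat.add (Nat.succ 352730) k)) 268 = true := by decide +kernel
theorem s7c1243 : allBelow (fun k => fs7 (Nat.add (Nat.succ 352998) k)) 276 = true := by decide +kernel
theorem s7c1244 : allBelow (fun k => fs7 (Nat.add (Nat.succ 353274) k)) 250 = true := by decide +kernel
theorem s7c1245 : allBelow (fun k => fs7 (Nat.add (Nat.succ 353524) k)) 239 = true := by decide +kernel
theorem s7c1246 : allBelow (fun k => fs7 (Nat.add (Nat.succ 353763) k)) 232 = true := by decide +kernel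
theorem s7c1247 : allBelow (fun k => fs7 (Nat.add (Nat.succ 353995) k)) 252 = true := by decide +kernel
theorem s7c1248 : allBelow (fun k => fs7 (Nat.add (Nat.succ 354247) k)) 240 = true := by decide +kernel
theorem s7c1249 : allBelow (fun k => fs7 (Nat.add (Nat.succ 354487) k)) 239 = true := by decide +kernel
theorem s7c1250 : allBelow (fun k => fs7 (Nat.add (Nat.succ 354726) k)) 270 = true := by decide +kernel
theorem s7c1251 : allBelow (fun k => fs7 (Nat.add (Nat.succ 354996) k)) 231 = true := by decide +kernel
theorem s7c1252 : allBelow (fun k => fs7 (Nat.add (Nat.succ 355227) k)) 250 = true := by decide +kernel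
theorem s7c1253 : allBelow (fun k => fs7 (Nat.add (Nat.succ 355477) k)) 277 = true := by decide +kernel
theorem s7c1254 : allBelow (fun k => fs7 (Nat.add (Nat.succ 355754) k)) 272 = true := by decide +kernel
theorem s7c1255 : allBelow (fun k => fs7 (Nat.add (Nat.succ 356026) k)) 230 = true := by decide +kernel
theorem s7c1256 : allBelow (fun k => fs7 (Nat.add (Nat.succ 356256) k)) 245 = true := by decide +kernel
theorem s7c1257 : allBelow (fun k => fs7 (Nat.add (Nat.succ 356501) k)) 262 = true := by decide +kernel
theorem s7c1258 : allBelow (fun k => fs7 (Nat.add (Nat.succ 356763) k)) 267 = true := by decide +kernel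
theorem s7c1259 : allBelow (fun k => fs7 (Nat.add (Nat.succ 357030) k)) 261 = true := by decide +kernel
theorem s7c1260 : allBelow (fun k => fs7 (Nat.add (Nat.succ 357291) k)) 174 = true := by decide +kernel
theorem s8c0 : allBelow (fun k => fs8 (Nat.add (Nat.succ 0) k)) 256 = true := by decide +kernel
theorem s8c1 : allBelow (fun k => fs8 (Nat.add (Nat.succ 256) k)) 273 = true := by decide +kernel
theorem s8c2 : allBelow (fun k => fs8 (Nat.add (Nat.succ 529) k)) 264 = true := by decide +kernel
theorem s8c3 : allBelow (fun k => fs8 (Nat.add (Nat.succ 793) k)) 272 = true := by decide +kernel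
theorem s8c4 : allBelow (fun k => fs8 (Nat.add (Nat.succ 1065) k)) 266 = true := by decide +kernel
theorem s8c5 : allBelow (fun k => fs8 (Nat.add (Nat.succ 1331) k)) 275 = true := by decide +kernel
theorem s8c6 : allBelow (fun k => fs8 (Nat.add (Nat.succ 1606) k)) 272 = true := by decide +kernel
theorem s8c7 : allBelow (fun k => fs8 (Nat.add (Nat.succ 1878) k)) 282 = true := by decide +kernel
theorem s8c8 : allBelow (fun k => fs8 (Nat.add (Nat.succ 2160) k)) 276 = true := by decide +kernel
theorem s8c9 : allBelow (fun k => fs8 (Nat.add (Nat.succ 2436) k)) 286 = true := by decide +kernel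
theorem s8c10 : allBelow (fun k => fs8 (Nat.add (Nat.succ 2722) k)) 268 = true := by decide +kernel
theorem s8c11 : allBelow (fun k => fs8 (Nat.add (Nat.succ 2990) k)) 288 = true := by decide +kernel
theorem s8c12 : allBelow (fun k => fs8 (Nat.add (Nat.succ 3278) k)) 292 = true := by decide +kernel
theorem s8c13 : allBelow (fun k => fs8 (Nat.add (Nat.succ 3570) k)) 274 = true := by decide +kernel
theorem s8c14 : allBelow (fun k => fs8 (Nat.add (Nat.succ 3844) k)) 280 = true := by decide +kernel
theorem s8c15 : allBelow (fun k => fs8 (Nat.add (Nat.succ 4124) k)) 304 = true := by decide +kernel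
theorem s8c16 : allBelow (fun k => fs8 (Nat.add (Nat.succ 4428) k)) 277 = true := by decide +kernel
theorem s8c17 : allBelow (fun k => fs8 (Nat.add (Nat.succ 4705) k)) 311 = true := by decide +kernel
theorem s8c18 : allBelow (fun k => fs8 (Nat.add (Nat.succ 5016) k)) 274 = true := by decide +kernel
theorem s8c19 : allBelow (fun k => fs8 (Nat.add (Nat.succ 5290) k)) 293 = true := by decide +kernel
theorem s8c20 : allBelow (fun k => fs8 (Nat.add (Nat.succ 5583) k)) 284 = true := by decide +kernel
theorem s8c21 : allBelow (fun k => fs8 (Nat.add (Nat.succ 5867) k)) 310 = true := by decide +kernel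
theorem s8c22 : allBelow (fun k => fs8 (Nat.add (Nat.succ 6177) k)) 276 = true := by decide +kernel
theorem s8c23 : allBelow (fun k => fs8 (Nat.add (Nat.succ 6453) k)) 294 = true := by decide +kernel
theorem s8c24 : allBelow (fun k => fs8 (Nat.add (Nat.succ 6747) k)) 318 = true := by decide +kernel
theorem s8c25 : allBelow (fun k => fs8 (Nat.add (Nat.succ 7065) k)) 287 = true := by decide +kernel
theorem s8c26 : allBelow (fun k => fs8 (Nat.add (Nat.succ 7352) k)) 319 = true := by decide +kernel
theorem s8c27 : allBelow (fun k => fs8 (Nat.add (Nat.succ 7671) k)) 282 = true := by decide +kernel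
theorem s8c28 : allBelow (fun k => fs8 (Nat.add (Nat.succ 7953) k)) 303 = true := by decide +kernel
theorem s8c29 : allBelow (fun k => fs8 (Nat.add (Nat.succ 8256) k)) 322 = true := by decide +kernel
theorem s8c30 : allBelow (fun k => fs8 (Nat.add (Nat.succ 8578) k)) 278 = true := by decide +kernel
theorem s8c31 : allBelow (fun k => fs8 (Nat.add (Nat.succ 8856) k)) 291 = true := by decide +kernel
theorem s8c32 : allBelow (fun k => fs8 (Nat.add (Nat.succ 9147) k)) 336 = true := by decide +kernel
theorem s8c33 : allBelow (fun k => fs8 (Nat.add (Nat.succ 9483) k)) 356 = true := by decide +kernel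
theorem s8c34 : allBelow (fun k => fs8 (Nat.add (Nat.succ 9839) k)) 286 = true := by decide +kernel
theorem s8c35 : allBelow (fun k => fs8 (Nat.add (Nat.succ 10125) k)) 326 = true := by decide +kernel
theorem s8c36 : allBelow (fun k => fs8 (Nat.add (Nat.succ 10451) k)) 285 = true := by decide +kernel
theorem s8c37 : allBelow (fun k => fs8 (Nat.add (Nat.succ 10736) k)) 269 = true := by decide +kernel
theorem s8c38 : allBelow (fun k => fs8 (Nat.add (Nat.succ 11005) k)) 303 = true := by decide +kernel
theorem s8c39 : allBelow (fun k => fs8 (Nat.add (Nat.succ 11308) k)) 284 = true := by decide +kernel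
theorem s8c40 : allBelow (fun k => fs8 (Nat.add (Nat.succ 11592) k)) 281 = true := by decide +kernel
theorem s8c41 : allBelow (fun k => fs8 (Nat.add (Nat.succ 11873) k)) 282 = true := by decide +kernel
theorem s8c42 : allBelow (fun k => fs8 (Nat.add (Nat.succ 12155) k)) 310 = true := by decide +kernel
theorem s8c43 : allBelow (fun k => fs8 (Nat.add (Nat.succ 12465) k)) 332 = true := by decide +kernel
theorem s8c44 : allBelow (fun k => fs8 (Nat.add (Nat.succ 12797) k)) 286 = true := by decide +kernel
theorem s8c45 : allBelow (fun k => fs8 (Nat.add (Nat.succ 13083) k)) 317 = true := by decide +kernel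
theorem s8c46 : allBelow (fun k => fs8 (Nat.add (Nat.succ 13400) k)) 286 = true := by decide +kernel
theorem s8c47 : allBelow (fun k => fs8 (Nat.add (Nat.succ 13686) k)) 290 = true := by decide +kernel
theorem s8c48 : allBelow (fun k => fs8 (Nat.add (Nat.succ 13976) k)) 275 = true := by decide +kernel
theorem s8c49 : allBelow (fun k => fs8 (Nat.add (Nat.succ 14251) k)) 326 = true := by decide +kernel
theorem s8c50 : allBelow (fun k => fs8 (Nat.add (Nat.succ 14577) k)) 289 = true := by decide +kernel
theorem s8c51 : allBelow (fun k => fs8 (Nat.add (Nat.succ 14866) k)) 281 = true := by decide +kernel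
theorem s8c52 : allBelow (fun k => fs8 (Nat.add (Nat.succ 15147) k)) 286 = true := by decide +kernel
theorem s8c53 : allBelow (fun k => fs8 (Nat.add (Nat.succ 15433) k)) 285 = true := by decide +kernel
theorem s8c54 : allBelow (fun k => fs8 (Nat.add (Nat.succ 15718) k)) 307 = true := by decide +kernel
theorem s8c55 : allBelow (fun k => fs8 (Nat.add (Nat.succ 16025) k)) 347 = true := by decide +kernel
theorem s8c56 : allBelow (fun k => fs8 (Nat.add (Nat.succ 16372) k)) 340 = true := by decide +kernel
theorem s8c57 : allBelow (fun k => fs8 (Nat.add (Nat.succ 16712) k)) 295 = true := by decide +kernel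
theorem s8c58 : allBelow (fun k => fs8 (Nat.add (Nat.succ 17007) k)) 293 = true := by decide +kernel
theorem s8c59 : allBelow (fun k => fs8 (Nat.add (Nat.succ 17300) k)) 349 = true := by decide +kernel
theorem s8c60 : allBelow (fun k => fs8 (Nat.add (Nat.succ 17649) k)) 280 = true := by decide +kernel
theorem s8c61 : allBelow (fun k => fs8 (Nat.add (Nat.succ 17929) k)) 299 = true := by decide +kernel
theorem s8c62 : allBelow (fun k => fs8 (Nat.add (Nat.succ 18228) k)) 278 = true := by decide +kernel
theorem s8c63 : allBelow (fun k => fs8 (Nat.add (Nat.succ 18506) k)) 301 = true := by decide +kernel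
theorem s8c64 : allBelow (fun k => fs8 (Nat.add (Nat.succ 18807) k)) 346 = true := by decide +kernel
theorem s8c65 : allBelow (fun k => fs8 (Nat.add (Nat.succ 19153) k)) 288 = true := by decide +kernel
theorem s8c66 : allBelow (fun k => fs8 (Nat.add (Nat.succ 19441) k)) 283 = true := by decide +kernel
theorem s8c67 : allBelow (fun k => fs8 (Nat.add (Nat.succ 19724) k)) 282 = true := by decide +kernel
theorem s8c68 : allBelow (fun k => fs8 (Nat.add (Nat.succ 20006) k)) 291 = true := by decide +kernel
theorem s8c69 : allBelow (fun k => fs8 (Nat.add (Nat.succ 20297) k)) 290 = true := by decide +kernel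
theorem s8c70 : allBelow (fun k => fs8 (Nat.add (Nat.succ 20587) k)) 291 = true := by decide +kernel
theorem s8c71 : allBelow (fun k => fs8 (Nat.add (Nat.succ 20878) k)) 335 = true := by decide +kernel
theorem s8c72 : allBelow (fun k => fs8 (Nat.add (Nat.succ 21213) k)) 365 = true := by decide +kernel
theorem s8c73 : allBelow (fun k => fs8 (Nat.add (Nat.succ 21578) k)) 362 = true := by decide +kernel
theorem s8c74 : allBelow (fun k => fs8 (Nat.add (Nat.succ 21940) k)) 285 = true := by decide +kernel
theorem s8c75 : allBelow (fun k => fs8 (Nat.add (Nat.succ 22225) k)) 313 = true := by decide +kernel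
theorem s8c76 : allBelow (fun k => fs8 (Nat.add (Nat.succ 22538) k)) 312 = true := by decide +kernel
theorem s8c77 : allBelow (fun k => fs8 (Nat.add (Nat.succ 22850) k)) 377 = true := by decide +kernel
theorem s8c78 : allBelow (fun k => fs8 (Nat.add (Nat.succ 23227) k)) 287 = true := by decide +kernel
theorem s8c79 : allBelow (fun k => fs8 (Nat.add (Nat.succ 23514) k)) 278 = true := by decide +kernel
theorem s8c80 : allBelow (fun k => fs8 (Nat.add (Nat.succ 23792) k)) 308 = true := by decide +kernel
theorem s8c81 : allBelow (fun k => fs8 (Nat.add (Nat.succ 24100) k)) 296 = true := by decide +kernel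
theorem s8c82 : allBelow (fun k => fs8 (Nat.add (Nat.succ 24396) k)) 290 = true := by decide +kernel
theorem s8c83 : allBelow (fun k => fs8 (Nat.add (Nat.succ 24686) k)) 311 = true := by decide +kernel
theorem s8c84 : allBelow (fun k => fs8 (Nat.add (Nat.succ 24997) k)) 361 = true := by decide +kernel
theorem s8c85 : allBelow (fun k => fs8 (Nat.add (Nat.succ 25358) k)) 303 = true := by decide +kernel
theorem s8c86 : allBelow (fun k => fs8 (Nat.add (Nat.succ 25661) k)) 276 = true := by decide +kernel
theorem s8c87 : allBelow (fun k => fs8 (Nat.add (Nat.succ 25937) k)) 280 = true := by decide +kernel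
theorem s8c88 : allBelow (fun k => fs8 (Nat.add (Nat.succ 26217) k)) 274 = true := by decide +kernel
theorem s8c89 : allBelow (fun k => fs8 (Nat.add (Nat.succ 26491) k)) 307 = true := by decide +kernel
theorem s8c90 : allBelow (fun k => fs8 (Nat.add (Nat.succ 26798) k)) 293 = true := by decide +kernel
theorem s8c91 : allBelow (fun k => fs8 (Nat.add (Nat.succ 27091) k)) 314 = true := by decide +kernel
theorem s8c92 : allBelow (fun k => fs8 (Nat.add (Nat.succ 27405) k)) 300 = true := by decide +kernel
theorem s8c93 : allBelow (fun k => fs8 (Nat.add (Nat.succ 27705) k)) 289 = true := by decide +kernel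
theorem s8c94 : allBelow (fun k => fs8 (Nat.add (Nat.succ 27994) k)) 367 = true := by decide +kernel
theorem s8c95 : allBelow (fun k => fs8 (Nat.add (Nat.succ 28361) k)) 382 = true := by decide +kernel
theorem s8c96 : allBelow (fun k => fs8 (Nat.add (Nat.succ 28743) k)) 405 = true := by decide +kernel
theorem s8c97 : allBelow (fun k => fs8 (Nat.add (Nat.succ 29148) k)) 292 = true := by decide +kernel
theorem s8c98 : allBelow (fun k => fs8 (Nat.add (Nat.succ 29440) k)) 285 = true := by decide +kernel
theorem s8c99 : allBelow (fun k => fs8 (Nat.add (Nat.succ 29725) k)) 316 = true := by decide +kernel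
theorem s8c100 : allBelow (fun k => fs8 (Nat.add (Nat.succ 30041) k)) 336 = true := by decide +kernel
theorem s8c101 : allBelow (fun k => fs8 (Nat.add (Nat.succ 30377) k)) 362 = true := by decide +kernel
theorem s8c102 : allBelow (fun k => fs8 (Nat.add (Nat.succ 30739) k)) 351 = true := by decide +kernel
theorem s8c103 : allBelow (fun k => fs8 (Nat.add (Nat.succ 31090) k)) 282 = true := by decide +kernel
theorem s8c104 : allBelow (fun k => fs8 (Nat.add (Nat.succ 31372) k)) 284 = true := by decide +kernel
theorem s8c105 : allBelow (fun k => fs8 (Nat.add (Nat.succ 31656) k)) 276 = true := by decide +kernel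
theorem s8c106 : allBelow (fun k => fs8 (Nat.add (Nat.succ 31932) k)) 324 = true := by decide +kernel
theorem s8c107 : allBelow (fun k => fs8 (Nat.add (Nat.succ 32256) k)) 303 = true := by decide +kernel
theorem s8c108 : allBelow (fun k => fs8 (Nat.add (Nat.succ 32559) k)) 310 = true := by decide +kernel
theorem s8c109 : allBelow (fun k => fs8 (Nat.add (Nat.succ 32869) k)) 300 = true := by decide +kernel
theorem s8c110 : allBelow (fun k => fs8 (Nat.add (Nat.succ 33169) k)) 310 = true := by decide +kernel
theorem s8c111 : allBelow (fun k => fs8 (Nat.add (Nat.succ 33479) k)) 417 = true := by decide +kernel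
theorem s8c112 : allBelow (fun k => fs8 (Nat.add (Nat.succ 33896) k)) 309 = true := by decide +kernel
theorem s8c113 : allBelow (fun k => fs8 (Nat.add (Nat.succ 34205) k)) 304 = true := by decide +kernel
theorem s8c114 : allBelow (fun k => fs8 (Nat.add (Nat.succ 34509) k)) 274 = true := by decide +kernel

end Cfsg.Agent.Lib.Helper35.Fi24a
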