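import Cfsg.Agent.Lib.Helper35.Fi24a.Data

set_option Elab.async false

namespace Cfsg.Agent.Lib.Helper35.Fi24a

open Cfsg.Agent.Lib.Helper35

theorem s8c434 : allBelow (fun k => fs8 (Nat.add (Nat.succ 138896) k)) 294 = true := by decide +kernel
theorem s8c435 : allBelow (fun k => fs8 (Nat.add (Nat.succ 139190) k)) 251 = true := by decide +kernel
theorem s8c436 : allBelow (fun k => fs8 (Nat.add (Nat.succ 139441) k)) 249 = true := by decide +kernel
theorem s8c437 : allBelow (fun k => fs8 (Nat.add (Nat.succ 139690) k)) 254 = true := by decide +kernel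
theorem s8c438 : allBelow (fun k => fs8 (Nat.add (Nat.succ 139944) k)) 270 = true := by decide +kernel
theorem s8c439 : allBelow (fun k => fs8 (Nat.add (Nat.succ 140214) k)) 268 = true := by decide +kernel
theorem s8c440 : allBelow (fun k => fs8 (Nat.add (Nat.succ 140482) k)) 268 = true := by decide +kernel
theorem s8c441 : allBelow (fun k => fs8 (Nat.add (Nat.succ 140750) k)) 246 = true := by decide +kernel
theorem s8c442 : allBelow (fun k => fs8 (Nat.add (Nat.succ 140996) k)) 259 = true := by decide +kernel
theorem s8c443 : allBelow (fun k => fs8 (Nat.add (Nat.succ 141255) k)) 260 = true := by decide +kernel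
theorem s8c444 : allBelow (fun k => fs8 (Nat.add (Nat.succ 141515) k)) 266 = true := by decide +kernel
theorem s8c445 : allBelow (fun k => fs8 (Nat.add (Nat.succ 141781) k)) 263 = true := by decide +kernel
theorem s8c446 : allBelow (fun k => fs8 (Nat.add (Nat.succ 142044) k)) 266 = true := by decide +kernel
theorem s8c447 : allBelow (fun k => fs8 (Nat.add (Nat.succ 142310) k)) 250 = true := by decide +kernel
theorem s8c448 : allBelow (fun k => fs8 (Nat.add (Nat.succ 142560) k)) 259 = true := by decide +kernel
theorem s8c449 : allBelow (fun k => fs8 (Nat.add (Nat.succ 142819) k)) 251 = true := by decide +kernel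
theorem s8c450 : allBelow (fun k => fs8 (Nat.add (Nat.succ 143070) k)) 257 = true := by decide +kernel
theorem s8c451 : allBelow (fun k => fs8 (Nat.add (Nat.succ 143327) k)) 262 = true := by decide +kernel
theorem s8c452 : allBelow (fun k => fs8 (Nat.add (Nat.succ 143589) k)) 245 = true := by decide +kernel
theorem s8c453 : allBelow (fun k => fs8 (Nat.add (Nat.succ 143834) k)) 266 = true := by decide +kernel
theorem s8c454 : allBelow (fun k => fs8 (Nat.add (Nat.succ 144100) k)) 263 = true := by decide +kernel
theorem s8c455 : allBelow (fun k => fs8 (Nat.add (Nat.succ 144363) k)) 281 = true := by decide +kernel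
theorem s8c456 : allBelow (fun k => fs8 (Nat.add (Nat.succ 144644) k)) 261 = true := by decide +kernel
theorem s8c457 : allBelow (fun k => fs8 (Nat.add (Nat.succ 144905) k)) 274 = true := by decide +kernel
theorem s8c458 : allBelow (fun k => fs8 (Nat.add (Nat.succ 145179) k)) 273 = true := by decide +kernel
theorem s8c459 : allBelow (fun k => fs8 (Nat.add (Nat.succ 145452) k)) 289 = true := by decide +kernel
theorem s8c460 : allBelow (fun k => fs8 (Nat.add (Nat.succ 145741) k)) 271 = true := by decide +kernel
theorem s8c461 : allBelow (fun k => fs8 (Nat.add (Nat.succ 146012) k)) 256 = true := by decide +kernel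
theorem s8c462 : allBelow (fun k => fs8 (Nat.add (Nat.succ 146268) k)) 253 = true := by decide +kernel
theorem s8c463 : allBelow (fun k => fs8 (Nat.add (Nat.succ 146521) k)) 244 = true := by decide +kernel
theorem s8c464 : allBelow (fun k => fs8 (Nat.add (Nat.succ 146765) k)) 253 = true := by decide +kernel
theorem s8c465 : allBelow (fun k => fs8 (Nat.add (Nat.succ 147018) k)) 249 = true := by decide +kernel
theorem s8c466 : allBelow (fun k => fs8 (Nat.add (Nat.succ 147267) k)) 258 = true := by decide +kernel
theorem s8c467 : allBelow (fun k => fs8 (Nat.add (Nat.succ 147525) k)) 266 = true := by decide +kernel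
theorem s8c468 : allBelow (fun k => fs8 (Nat.add (Nat.succ 147791) k)) 274 = true := by decide +kernel
theorem s8c469 : allBelow (fun k => fs8 (Nat.add (Nat.succ 148065) k)) 274 = true := by decide +kernel
theorem s8c470 : allBelow (fun k => fs8 (Nat.add (Nat.succ 148339) k)) 281 = true := by decide +kernel
theorem s8c471 : allBelow (fun k => fs8 (Nat.add (Nat.succ 148620) k)) 278 = true := by decide +kernel
theorem s8c472 : allBelow (fun k => fs8 (Nat.add (Nat.succ 148898) k)) 274 = true := by decide +kernel
theorem s8c473 : allBelow (fun k => fs8 (Nat.add (Nat.succ 149172) k)) 262 = true := by decide +kernel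
theorem s8c474 : allBelow (fun k => fs8 (Nat.add (Nat.succ 149434) k)) 256 = true := by decide +kernel
theorem s8c475 : allBelow (fun k => fs8 (Nat.add (Nat.succ 149690) k)) 255 = true := by decide +kernel
theorem s8c476 : allBelow (fun k => fs8 (Nat.add (Nat.succ 149945) k)) 264 = true := by decide +kernel
theorem s8c477 : allBelow (fun k => fs8 (Nat.add (Nat.succ 150209) k)) 258 = true := by decide +kernel
theorem s8c478 : allBelow (fun k => fs8 (Nat.add (Nat.succ 150467) k)) 266 = true := by decide +kernel
theorem s8c479 : allBelow (fun k => fs8 (Nat.add (Nat.succ 150733) k)) 259 = true := by decide +kernel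
theorem s8c480 : allBelow (fun k => fs8 (Nat.add (Nat.succ 150992) k)) 244 = true := by decide +kernel
theorem s8c481 : allBelow (fun k => fs8 (Nat.add (Nat.succ 151236) k)) 268 = true := by decide +kernel
theorem s8c482 : allBelow (fun k => fs8 (Nat.add (Nat.succ 151504) k)) 274 = true := by decide +kernel
theorem s8c483 : allBelow (fun k => fs8 (Nat.add (Nat.succ 151778) k)) 270 = true := by decide +kernel
theorem s8c484 : allBelow (fun k => fs8 (Nat.add (Nat.succ 152048) k)) 272 = true := by decide +kernel
theorem s8c485 : allBelow (fun k => fs8 (Nat.add (Nat.succ 152320) k)) 282 = true := by decide +kernel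
theorem s8c486 : allBelow (fun k => fs8 (Nat.add (Nat.succ 152602) k)) 282 = true := by decide +kernel
theorem s8c487 : allBelow (fun k => fs8 (Nat.add (Nat.succ 152884) k)) 276 = true := by decide +kernel
theorem s8c488 : allBelow (fun k => fs8 (Nat.add (Nat.succ 153160) k)) 271 = true := by decide +kernel
theorem s8c489 : allBelow (fun k => fs8 (Nat.add (Nat.succ 153431) k)) 280 = true := by decide +kernel
theorem s8c490 : allBelow (fun k => fs8 (Nat.add (Nat.succ 153711) k)) 283 = true := by decide +kernel
theorem s8c491 : allBelow (fun k => fs8 (Nat.add (Nat.succ 153994) k)) 283 = true := by decide +kernel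
theorem s8c492 : allBelow (fun k => fs8 (Nat.add (Nat.succ 154277) k)) 290 = true := by decide +kernel
theorem s8c493 : allBelow (fun k => fs8 (Nat.add (Nat.succ 154567) k)) 291 = true := by decide +kernel
theorem s8c494 : allBelow (fun k => fs8 (Nat.add (Nat.succ 154858) k)) 271 = true := by decide +kernel
theorem s8c495 : allBelow (fun k => fs8 (Nat.add (Nat.succ 155129) k)) 253 = true := by decide +kernel
theorem s8c496 : allBelow (fun k => fs8 (Nat.add (Nat.succ 155382) k)) 261 = true := by decide +kernel
theorem s8c497 : allBelow (fun k => fs8 (Nat.add (Nat.succ 155643) k)) 242 = true := by decide +kernel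
theorem s8c498 : allBelow (fun k => fs8 (Nat.add (Nat.succ 155885) k)) 261 = true := by decide +kernel
theorem s8c499 : allBelow (fun k => fs8 (Nat.add (Nat.succ 156146) k)) 273 = true := by decide +kernel
theorem s8c500 : allBelow (fun k => fs8 (Nat.add (Nat.succ 156419) k)) 274 = true := by decide +kernel
theorem s8c501 : allBelow (fun k => fs8 (Nat.add (Nat.succ 156693) k)) 271 = true := by decide +kernel
theorem s8c502 : allBelow (fun k => fs8 (Nat.add (Nat.succ 156964) k)) 288 = true := by decide +kernel
theorem s8c503 : allBelow (fun k => fs8 (Nat.add (Nat.succ 157252) k)) 260 = true := by decide +kernel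
theorem s8c504 : allBelow (fun k => fs8 (Nat.add (Nat.succ 157512) k)) 247 = true := by decide +kernel
theorem s8c505 : allBelow (fun k => fs8 (Nat.add (Nat.succ 157759) k)) 251 = true := by decide +kernel
theorem s8c506 : allBelow (fun k => fs8 (Nat.add (Nat.succ 158010) k)) 254 = true := by decide +kernel
theorem s8c507 : allBelow (fun k => fs8 (Nat.add (Nat.succ 158264) k)) 263 = true := by decide +kernel
theorem s8c508 : allBelow (fun k => fs8 (Nat.add (Nat.succ 158527) k)) 276 = true := by decide +kernel
theorem s8c509 : allBelow (fun k => fs8 (Nat.add (Nat.succ 158803) k)) 259 = true := by decide +kernel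
theorem s8c510 : allBelow (fun k => fs8 (Nat.add (Nat.succ 159062) k)) 246 = true := by decide +kernel
theorem s8c511 : allBelow (fun k => fs8 (Nat.add (Nat.succ 159308) k)) 259 = true := by decide +kernel
theorem s8c512 : allBelow (fun k => fs8 (Nat.add (Nat.succ 159567) k)) 261 = true := by decide +kernel
theorem s8c513 : allBelow (fun k => fs8 (Nat.add (Nat.succ 159828) k)) 266 = true := by decide +kernel
theorem s8c514 : allBelow (fun k => fs8 (Nat.add (Nat.succ 160094) k)) 259 = true := by decide +kernel
theorem s8c515 : allBelow (fun k => fs8 (Nat.add (Nat.succ 160353) k)) 263 = true := by decide +kernel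
theorem s8c516 : allBelow (fun k => fs8 (Nat.add (Nat.succ 160616) k)) 252 = true := by decide +kernel
theorem s8c517 : allBelow (fun k => fs8 (Nat.add (Nat.succ 160868) k)) 253 = true := by decide +kernel
theorem s8c518 : allBelow (fun k => fs8 (Nat.add (Nat.succ 161121) k)) 254 = true := by decide +kernel
theorem s8c519 : allBelow (fun k => fs8 (Nat.add (Nat.succ 161375) k)) 257 = true := by decide +kernel
theorem s8c520 : allBelow (fun k => fs8 (Nat.add (Nat.succ 161632) k)) 252 = true := by decide +kernel
theorem s8c521 : allBelow (fun k => fs8 (Nat.add (Nat.succ 161884) k)) 262 = true := by decide +kernel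
theorem s8c522 : allBelow (fun k => fs8 (Nat.add (Nat.succ 162146) k)) 245 = true := by decide +kernel
theorem s8c523 : allBelow (fun k => fs8 (Nat.add (Nat.succ 162391) k)) 254 = true := by decide +kernel
theorem s8c524 : allBelow (fun k => fs8 (Nat.add (Nat.succ 162645) k)) 269 = true := by decide +kernel
theorem s8c525 : allBelow (fun k => fs8 (Nat.add (Nat.succ 162914) k)) 265 = true := by decide +kernel
theorem s8c526 : allBelow (fun k => fs8 (Nat.add (Nat.succ 163179) k)) 280 = true := by decide +kernel
theorem s8c527 : allBelow (fun k => fs8 (Nat.add (Nat.succ 163459) k)) 259 = true := by decide +kernel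
theorem s8c528 : allBelow (fun k => fs8 (Nat.add (Nat.succ 163718) k)) 270 = true := by decide +kernel
theorem s8c529 : allBelow (fun k => fs8 (Nat.add (Nat.succ 163988) k)) 282 = true := by decide +kernel
theorem s8c530 : allBelow (fun k => fs8 (Nat.add (Nat.succ 164270) k)) 275 = true := by decide +kernel
theorem s8c531 : allBelow (fun k => fs8 (Nat.add (Nat.succ 164545) k)) 289 = true := by decide +kernel
theorem s8c532 : allBelow (fun k => fs8 (Nat.add (Nat.succ 164834) k)) 265 = true := by decide +kernel
theorem s8c533 : allBelow (fun k => fs8 (Nat.add (Nat.succ 165099) k)) 251 = true := by decide +kernel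
theorem s8c534 : allBelow (fun k => fs8 (Nat.add (Nat.succ 165350) k)) 249 = true := by decide +kernel
theorem s8c535 : allBelow (fun k => fs8 (Nat.add (Nat.succ 165599) k)) 253 = true := by decide +kernel
theorem s8c536 : allBelow (fun k => fs8 (Nat.add (Nat.succ 165852) k)) 242 = true := by decide +kernel
theorem s8c537 : allBelow (fun k => fs8 (Nat.add (Nat.succ 166094) k)) 252 = true := by decide +kernel
theorem s8c538 : allBelow (fun k => fs8 (Nat.add (Nat.succ 166346) k)) 255 = true := by decide +kernel
theorem s8c539 : allBelow (fun k => fs8 (Nat.add (Nat.succ 166601) k)) 277 = true := by decide +kernel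
theorem s8c540 : allBelow (fun k => fs8 (Nat.add (Nat.succ 166878) k)) 279 = true := by decide +kernel
theorem s8c541 : allBelow (fun k => fs8 (Nat.add (Nat.succ 167157) k)) 279 = true := by decide +kernel
theorem s8c542 : allBelow (fun k => fs8 (Nat.add (Nat.succ 167436) k)) 282 = true := by decide +kernel
theorem s8c543 : allBelow (fun k => fs8 (Nat.add (Nat.succ 167718) k)) 278 = true := by decide +kernel
theorem s8c544 : allBelow (fun k => fs8 (Nat.add (Nat.succ 167996) k)) 266 = true := by decide +kernel
theorem s8c545 : allBelow (fun k => fs8 (Nat.add (Nat.succ 168262) k)) 264 = true := by decide +kernel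
theorem s8c546 : allBelow (fun k => fs8 (Nat.add (Nat.succ 168526) k)) 255 = true := by decide +kernel
theorem s8c547 : allBelow (fun k => fs8 (Nat.add (Nat.succ 168781) k)) 249 = true := by decide +kernel
theorem s8c548 : allBelow (fun k => fs8 (Nat.add (Nat.succ 169030) k)) 264 = true := by decide +kernel
theorem s8c549 : allBelow (fun k => fs8 (Nat.add (Nat.succ 169294) k)) 263 = true := by decide +kernel
theorem s8c550 : allBelow (fun k => fs8 (Nat.add (Nat.succ 169557) k)) 256 = true := by decide +kernel
theorem s8c551 : allBelow (fun k => fs8 (Nat.add (Nat.succ 169813) k)) 268 = true := by decide +kernel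
theorem s8c552 : allBelow (fun k => fs8 (Nat.add (Nat.succ 170081) k)) 254 = true := by decide +kernel
theorem s8c553 : allBelow (fun k => fs8 (Nat.add (Nat.succ 170335) k)) 240 = true := by decide +kernel
theorem s8c554 : allBelow (fun k => fs8 (Nat.add (Nat.succ 170575) k)) 274 = true := by decide +kernel
theorem s8c555 : allBelow (fun k => fs8 (Nat.add (Nat.succ 170849) k)) 268 = true := by decide +kernel
theorem s8c556 : allBelow (fun k => fs8 (Nat.add (Nat.succ 171117) k)) 268 = true := by decide +kernel
theorem s8c557 : allBelow (fun k => fs8 (Nat.add (Nat.succ 171385) k)) 273 = true := by decide +kernel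
theorem s8c558 : allBelow (fun k => fs8 (Nat.add (Nat.succ 171658) k)) 273 = true := by decide +kernel
theorem s8c559 : allBelow (fun k => fs8 (Nat.add (Nat.succ 171931) k)) 285 = true := by decide +kernel
theorem s8c560 : allBelow (fun k => fs8 (Nat.add (Nat.succ 172216) k)) 285 = true := by decide +kernel
theorem s8c561 : allBelow (fun k => fs8 (Nat.add (Nat.succ 172501) k)) 277 = true := by decide +kernel
theorem s8c562 : allBelow (fun k => fs8 (Nat.add (Nat.succ 172778) k)) 272 = true := by decide +kernel
theorem s8c563 : allBelow (fun k => fs8 (Nat.add (Nat.succ 173050) k)) 279 = true := by decide +kernel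
theorem s8c564 : allBelow (fun k => fs8 (Nat.add (Nat.succ 173329) k)) 280 = true := by decide +kernel
theorem s8c565 : allBelow (fun k => fs8 (Nat.add (Nat.succ 173609) k)) 283 = true := by decide +kernel
theorem s8c566 : allBelow (fun k => fs8 (Nat.add (Nat.succ 173892) k)) 284 = true := by decide +kernel
theorem s8c567 : allBelow (fun k => fs8 (Nat.add (Nat.succ 174176) k)) 291 = true := by decide +kernel
theorem s8c568 : allBelow (fun k => fs8 (Nat.add (Nat.succ 174467) k)) 287 = true := by decide +kernel
theorem s8c569 : allBelow (fun k => fs8 (Nat.add (Nat.succ 174754) k)) 304 = true := by decide +kernel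
theorem s8c570 : allBelow (fun k => fs8 (Nat.add (Nat.succ 175058) k)) 252 = true := by decide +kernel
theorem s8c571 : allBelow (fun k => fs8 (Nat.add (Nat.succ 175310) k)) 256 = true := by decide +kernel
theorem s8c572 : allBelow (fun k => fs8 (Nat.add (Nat.succ 175566) k)) 260 = true := by decide +kernel
theorem s8c573 : allBelow (fun k => fs8 (Nat.add (Nat.succ 175826) k)) 257 = true := by decide +kernel
theorem s8c574 : allBelow (fun k => fs8 (Nat.add (Nat.succ 176083) k)) 262 = true := by decide +kernel
theorem s8c575 : allBelow (fun k => fs8 (Nat.add (Nat.succ 176345) k)) 277 = true := by decide +kernel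
theorem s8c576 : allBelow (fun k => fs8 (Nat.add (Nat.succ 176622) k)) 274 = true := by decide +kernel
theorem s8c577 : allBelow (fun k => fs8 (Nat.add (Nat.succ 176896) k)) 288 = true := by decide +kernel
theorem s8c578 : allBelow (fun k => fs8 (Nat.add (Nat.succ 177184) k)) 243 = true := by decide +kernel
theorem s8c579 : allBelow (fun k => fs8 (Nat.add (Nat.succ 177427) k)) 245 = true := by decide +kernel
theorem s8c580 : allBelow (fun k => fs8 (Nat.add (Nat.succ 177672) k)) 245 = true := by decide +kernel
theorem s8c581 : allBelow (fun k => fs8 (Nat.add (Nat.succ 177917) k)) 264 = true := by decide +kernel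
theorem s8c582 : allBelow (fun k => fs8 (Nat.add (Nat.succ 178181) k)) 267 = true := by decide +kernel
theorem s8c583 : allBelow (fun k => fs8 (Nat.add (Nat.succ 178448) k)) 271 = true := by decide +kernel
theorem s8c584 : allBelow (fun k => fs8 (Nat.add (Nat.succ 178719) k)) 245 = true := by decide +kernel
theorem s8c585 : allBelow (fun k => fs8 (Nat.add (Nat.succ 178964) k)) 258 = true := by decide +kernel
theorem s8c586 : allBelow (fun k => fs8 (Nat.add (Nat.succ 179222) k)) 251 = true := by decide +kernel
theorem s8c587 : allBelow (fun k => fs8 (Nat.add (Nat.succ 179473) k)) 266 = true := by decide +kernel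
theorem s8c588 : allBelow (fun k => fs8 (Nat.add (Nat.succ 179739) k)) 260 = true := by decide +kernel
theorem s8c589 : allBelow (fun k => fs8 (Nat.add (Nat.succ 179999) k)) 261 = true := by decide +kernel
theorem s8c590 : allBelow (fun k => fs8 (Nat.add (Nat.succ 180260) k)) 252 = true := by decide +kernel
theorem s8c591 : allBelow (fun k => fs8 (Nat.add (Nat.succ 180512) k)) 254 = true := by decide +kernel
theorem s8c592 : allBelow (fun k => fs8 (Nat.add (Nat.succ 180766) k)) 250 = true := by decide +kernel
theorem s8c593 : allBelow (fun k => fs8 (Nat.add (Nat.succ 181016) k)) 256 = true := by decide +kernel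
theorem s8c594 : allBelow (fun k => fs8 (Nat.add (Nat.succ 181272) k)) 244 = true := by decide +kernel
theorem s8c595 : allBelow (fun k => fs8 (Nat.add (Nat.succ 181516) k)) 262 = true := by decide +kernel
theorem s8c596 : allBelow (fun k => fs8 (Nat.add (Nat.succ 181778) k)) 250 = true := by decide +kernel
theorem s8c597 : allBelow (fun k => fs8 (Nat.add (Nat.succ 182028) k)) 261 = true := by decide +kernel
theorem s8c598 : allBelow (fun k => fs8 (Nat.add (Nat.succ 182289) k)) 250 = true := by decide +kernel
theorem s8c599 : allBelow (fun k => fs8 (Nat.add (Nat.succ 182539) k)) 242 = true := by decide +kernel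
theorem s8c600 : allBelow (fun k => fs8 (Nat.add (Nat.succ 182781) k)) 269 = true := by decide +kernel
theorem s8c601 : allBelow (fun k => fs8 (Nat.add (Nat.succ 183050) k)) 253 = true := by decide +kernel
theorem s8c602 : allBelow (fun k => fs8 (Nat.add (Nat.succ 183303) k)) 282 = true := by decide +kernel
theorem s8c603 : allBelow (fun k => fs8 (Nat.add (Nat.succ 183585) k)) 269 = true := by decide +kernel
theorem s8c604 : allBelow (fun k => fs8 (Nat.add (Nat.succ 183854) k)) 259 = true := by decide +kernel
theorem s8c605 : allBelow (fun k => fs8 (Nat.add (Nat.succ 184113) k)) 273 = true := by decide +kernel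
theorem s8c606 : allBelow (fun k => fs8 (Nat.add (Nat.succ 184386) k)) 283 = true := by decide +kernel
theorem s8c607 : allBelow (fun k => fs8 (Nat.add (Nat.succ 184669) k)) 267 = true := by decide +kernel
theorem s8c608 : allBelow (fun k => fs8 (Nat.add (Nat.succ 184936) k)) 290 = true := by decide +kernel
theorem s8c609 : allBelow (fun k => fs8 (Nat.add (Nat.succ 185226) k)) 287 = true := by decide +kernel
theorem s8c610 : allBelow (fun k => fs8 (Nat.add (Nat.succ 185513) k)) 251 = true := by decide +kernel
theorem s8c611 : allBelow (fun k => fs8 (Nat.add (Nat.succ 185764) k)) 249 = true := by decide +kernel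
theorem s8c612 : allBelow (fun k => fs8 (Nat.add (Nat.succ 186013) k)) 252 = true := by decide +kernel
theorem s8c613 : allBelow (fun k => fs8 (Nat.add (Nat.succ 186265) k)) 246 = true := by decide +kernel
theorem s8c614 : allBelow (fun k => fs8 (Nat.add (Nat.succ 186511) k)) 247 = true := by decide +kernel
theorem s8c615 : allBelow (fun k => fs8 (Nat.add (Nat.succ 186758) k)) 254 = true := by decide +kernel
theorem s8c616 : allBelow (fun k => fs8 (Nat.add (Nat.succ 187012) k)) 284 = true := by decide +kernel
theorem s8c617 : allBelow (fun k => fs8 (Nat.add (Nat.succ 187296) k)) 282 = true := by decide +kernel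
theorem s8c618 : allBelow (fun k => fs8 (Nat.add (Nat.succ 187578) k)) 275 = true := by decide +kernel
theorem s8c619 : allBelow (fun k => fs8 (Nat.add (Nat.succ 187853) k)) 284 = true := by decide +kernel
theorem s8c620 : allBelow (fun k => fs8 (Nat.add (Nat.succ 188137) k)) 275 = true := by decide +kernel
theorem s8c621 : allBelow (fun k => fs8 (Nat.add (Nat.succ 188412) k)) 275 = true := by decide +kernel
theorem s8c622 : allBelow (fun k => fs8 (Nat.add (Nat.succ 188687) k)) 261 = true := by decide +kernel
theorem s8c623 : allBelow (fun k => fs8 (Nat.add (Nat.succ 188948) k)) 256 = true := by decide +kernel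
theorem s8c624 : allBelow (fun k => fs8 (Nat.add (Nat.succ 189204) k)) 248 = true := by decide +kernel
theorem s8c625 : allBelow (fun k => fs8 (Nat.add (Nat.succ 189452) k)) 253 = true := by decide +kernel
theorem s8c626 : allBelow (fun k => fs8 (Nat.add (Nat.succ 189705) k)) 267 = true := by decide +kernel
theorem s8c627 : allBelow (fun k => fs8 (Nat.add (Nat.succ 189972) k)) 260 = true := by decide +kernel
theorem s8c628 : allBelow (fun k => fs8 (Nat.add (Nat.succ 190232) k)) 253 = true := by decide +kernel
theorem s8c629 : allBelow (fun k => fs8 (Nat.add (Nat.succ 190485) k)) 266 = true := by decide +kernel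
theorem s8c630 : allBelow (fun k => fs8 (Nat.add (Nat.succ 190751) k)) 264 = true := by decide +kernel
theorem s8c631 : allBelow (fun k => fs8 (Nat.add (Nat.succ 191015) k)) 253 = true := by decide +kernel
theorem s8c632 : allBelow (fun k => fs8 (Nat.add (Nat.succ 191268) k)) 236 = true := by decide +kernel
theorem s8c633 : allBelow (fun k => fs8 (Nat.add (Nat.succ 191504) k)) 279 = true := by decide +kernel
theorem s8c634 : allBelow (fun k => fs8 (Nat.add (Nat.succ 191783) k)) 269 = true := by decide +kernel
theorem s8c635 : allBelow (fun k => fs8 (Nat.add (Nat.succ 192052) k)) 262 = true := by decide +kernel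
theorem s8c636 : allBelow (fun k => fs8 (Nat.add (Nat.succ 192314) k)) 277 = true := by decide +kernel
theorem s8c637 : allBelow (fun k => fs8 (Nat.add (Nat.succ 192591) k)) 269 = true := by decide +kernel
theorem s8c638 : allBelow (fun k => fs8 (Nat.add (Nat.succ 192860) k)) 285 = true := by decide +kernel
theorem s8c639 : allBelow (fun k => fs8 (Nat.add (Nat.succ 193145) k)) 284 = true := by decide +kernel
theorem s8c640 : allBelow (fun k => fs8 (Nat.add (Nat.succ 193429) k)) 285 = true := by decide +kernel
theorem s8c641 : allBelow (fun k => fs8 (Nat.add (Nat.succ 193714) k)) 279 = true := by decide +kernel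
theorem s8c642 : allBelow (fun k => fs8 (Nat.add (Nat.succ 193993) k)) 272 = true := by decide +kernel
theorem s8c643 : allBelow (fun k => fs8 (Nat.add (Nat.succ 194265) k)) 275 = true := by decide +kernel
theorem s8c644 : allBelow (fun k => fs8 (Nat.add (Nat.succ 194540) k)) 287 = true := by decide +kernel
theorem s8c645 : allBelow (fun k => fs8 (Nat.add (Nat.succ 194827) k)) 282 = true := by decide +kernel
theorem s8c646 : allBelow (fun k => fs8 (Nat.add (Nat.succ 195109) k)) 286 = true := by decide +kernel
theorem s8c647 : allBelow (fun k => fs8 (Nat.add (Nat.succ 195395) k)) 286 = true := by decide +kernel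
theorem s8c648 : allBelow (fun k => fs8 (Nat.add (Nat.succ 195681) k)) 289 = true := by decide +kernel
theorem s8c649 : allBelow (fun k => fs8 (Nat.add (Nat.succ 195970) k)) 295 = true := by decide +kernel
theorem s8c650 : allBelow (fun k => fs8 (Nat.add (Nat.succ 196265) k)) 300 = true := by decide +kernel
theorem s8c651 : allBelow (fun k => fs8 (Nat.add (Nat.succ 196565) k)) 264 = true := by decide +kernel
theorem s8c652 : allBelow (fun k => fs8 (Nat.add (Nat.succ 196829) k)) 262 = true := by decide +kernel
theorem s8c653 : allBelow (fun k => fs8 (Nat.add (Nat.succ 197091) k)) 262 = true := by decide +kernel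
theorem s8c654 : allBelow (fun k => fs8 (Nat.add (Nat.succ 197353) k)) 260 = true := by decide +kernel
theorem s8c655 : allBelow (fun k => fs8 (Nat.add (Nat.succ 197613) k)) 271 = true := by decide +kernel
theorem s8c656 : allBelow (fun k => fs8 (Nat.add (Nat.succ 197884) k)) 275 = true := by decide +kernel
theorem s8c657 : allBelow (fun k => fs8 (Nat.add (Nat.succ 198159) k)) 293 = true := by decide +kernel
theorem s8c658 : allBelow (fun k => fs8 (Nat.add (Nat.succ 198452) k)) 253 = true := by decide +kernel
theorem s8c659 : allBelow (fun k => fs8 (Nat.add (Nat.succ 198705) k)) 245 = true := by decide +kernel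
theorem s8c660 : allBelow (fun k => fs8 (Nat.add (Nat.succ 198950) k)) 241 = true := by decide +kernel
theorem s8c661 : allBelow (fun k => fs8 (Nat.add (Nat.succ 199191) k)) 262 = true := by decide +kernel
theorem s8c662 : allBelow (fun k => fs8 (Nat.add (Nat.succ 199453) k)) 269 = true := by decide +kernel
theorem s8c663 : allBelow (fun k => fs8 (Nat.add (Nat.succ 199722) k)) 272 = true := by decide +kernel
theorem s8c664 : allBelow (fun k => fs8 (Nat.add (Nat.succ 199994) k)) 252 = true := by decide +kernel
theorem s8c665 : allBelow (fun k => fs8 (Nat.add (Nat.succ 200246) k)) 248 = true := by decide +kernel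
theorem s8c666 : allBelow (fun k => fs8 (Nat.add (Nat.succ 200494) k)) 249 = true := by decide +kernel
theorem s8c667 : allBelow (fun k => fs8 (Nat.add (Nat.succ 200743) k)) 258 = true := by decide +kernel
theorem s8c668 : allBelow (fun k => fs8 (Nat.add (Nat.succ 201001) k)) 263 = true := by decide +kernel
theorem s8c669 : allBelow (fun k => fs8 (Nat.add (Nat.succ 201264) k)) 253 = true := by decide +kernel
theorem s8c670 : allBelow (fun k => fs8 (Nat.add (Nat.succ 201517) k)) 254 = true := by decide +kernel
theorem s8c671 : allBelow (fun k => fs8 (Nat.add (Nat.succ 201771) k)) 243 = true := by decide +kernel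
theorem s8c672 : allBelow (fun k => fs8 (Nat.add (Nat.succ 202014) k)) 253 = true := by decide +kernel
theorem s8c673 : allBelow (fun k => fs8 (Nat.add (Nat.succ 202267) k)) 250 = true := by decide +kernel
theorem s8c674 : allBelow (fun k => fs8 (Nat.add (Nat.succ 202517) k)) 243 = true := by decide +kernel
theorem s8c675 : allBelow (fun k => fs8 (Nat.add (Nat.succ 202760) k)) 246 = true := by decide +kernel
theorem s8c676 : allBelow (fun k => fs8 (Nat.add (Nat.succ 203006) k)) 264 = true := by decide +kernel
theorem s8c677 : allBelow (fun k => fs8 (Nat.add (Nat.succ 203270) k)) 253 = true := by decide +kernel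
theorem s8c678 : allBelow (fun k => fs8 (Nat.add (Nat.succ 203523) k)) 240 = true := by decide +kernel
theorem s8c679 : allBelow (fun k => fs8 (Nat.add (Nat.succ 203763) k)) 263 = true := by decide +kernel
theorem s8c680 : allBelow (fun k => fs8 (Nat.add (Nat.succ 204026) k)) 246 = true := by decide +kernel
theorem s8c681 : allBelow (fun k => fs8 (Nat.add (Nat.succ 204272) k)) 244 = true := by decide +kernel
theorem s8c682 : allBelow (fun k => fs8 (Nat.add (Nat.succ 204516) k)) 266 = true := by decide +kernel
theorem s8c683 : allBelow (fun k => fs8 (Nat.add (Nat.succ 204782) k)) 253 = true := by decide +kernel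
theorem s8c684 : allBelow (fun k => fs8 (Nat.add (Nat.succ 205035) k)) 286 = true := by decide +kernel
theorem s8c685 : allBelow (fun k => fs8 (Nat.add (Nat.succ 205321) k)) 270 = true := by decide +kernel
theorem s8c686 : allBelow (fun k => fs8 (Nat.add (Nat.succ 205591) k)) 256 = true := by decide +kernel
theorem s8c687 : allBelow (fun k => fs8 (Nat.add (Nat.succ 205847) k)) 272 = true := by decide +kernel
theorem s8c688 : allBelow (fun k => fs8 (Nat.add (Nat.succ 206119) k)) 281 = true := by decide +kernel
theorem s8c689 : allBelow (fun k => fs8 (Nat.add (Nat.succ 206400) k)) 277 = true := by decide +kernel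
theorem s8c690 : allBelow (fun k => fs8 (Nat.add (Nat.succ 206677) k)) 272 = true := by decide +kernel
theorem s8c691 : allBelow (fun k => fs8 (Nat.add (Nat.succ 206949) k)) 290 = true := by decide +kernel
theorem s8c692 : allBelow (fun k => fs8 (Nat.add (Nat.succ 207239) k)) 281 = true := by decide +kernel
theorem s8c693 : allBelow (fun k => fs8 (Nat.add (Nat.succ 207520) k)) 258 = true := by decide +kernel
theorem s8c694 : allBelow (fun k => fs8 (Nat.add (Nat.succ 207778) k)) 247 = true := by decide +kernel
theorem s8c695 : allBelow (fun k => fs8 (Nat.add (Nat.succ 208025) k)) 255 = true := by decide +kernel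
theorem s8c696 : allBelow (fun k => fs8 (Nat.add (Nat.succ 208280) k)) 243 = true := by decide +kernel
theorem s8c697 : allBelow (fun k => fs8 (Nat.add (Nat.succ 208523) k)) 255 = true := by decide +kernel
theorem s8c698 : allBelow (fun k => fs8 (Nat.add (Nat.succ 208778) k)) 277 = true := by decide +kernel
theorem s8c699 : allBelow (fun k => fs8 (Nat.add (Nat.succ 209055) k)) 287 = true := by decide +kernel
theorem s8c700 : allBelow (fun k => fs8 (Nat.add (Nat.succ 209342) k)) 286 = true := by decide +kernel
theorem s8c701 : allBelow (fun k => fs8 (Nat.add (Nat.succ 209628) k)) 271 = true := by decide +kernel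
theorem s8c702 : allBelow (fun k => fs8 (Nat.add (Nat.succ 209899) k)) 282 = true := by decide +kernel
theorem s8c703 : allBelow (fun k => fs8 (Nat.add (Nat.succ 210181) k)) 274 = true := by decide +kernel
theorem s8c704 : allBelow (fun k => fs8 (Nat.add (Nat.succ 210455) k)) 275 = true := by decide +kernel
theorem s8c705 : allBelow (fun k => fs8 (Nat.add (Nat.succ 210730) k)) 258 = true := by decide +kernel
theorem s8c706 : allBelow (fun k => fs8 (Nat.add (Nat.succ 210988) k)) 252 = true := by decide +kernel
theorem s8c707 : allBelow (fun k => fs8 (Nat.add (Nat.succ 211240) k)) 245 = true := by decide +kernel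
theorem s8c708 : allBelow (fun k => fs8 (Nat.add (Nat.succ 211485) k)) 251 = true := by decide +kernel
theorem s8c709 : allBelow (fun k => fs8 (Nat.add (Nat.succ 211736) k)) 265 = true := by decide +kernel
theorem s8c710 : allBelow (fun k => fs8 (Nat.add (Nat.succ 212001) k)) 265 = true := by decide +kernel
theorem s8c711 : allBelow (fun k => fs8 (Nat.add (Nat.succ 212266) k)) 256 = true := by decide +kernel
theorem s8c712 : allBelow (fun k => fs8 (Nat.add (Nat.succ 212522) k)) 250 = true := by decide +kernel
theorem s8c713 : allBelow (fun k => fs8 (Nat.add (Nat.succ 212772) k)) 263 = true := by decide +kernel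
theorem s8c714 : allBelow (fun k => fs8 (Nat.add (Nat.succ 213035) k)) 267 = true := by decide +kernel
theorem s8c715 : allBelow (fun k => fs8 (Nat.add (Nat.succ 213302) k)) 253 = true := by decide +kernel
theorem s8c716 : allBelow (fun k => fs8 (Nat.add (Nat.succ 213555) k)) 245 = true := by decide +kernel
theorem s8c717 : allBelow (fun k => fs8 (Nat.add (Nat.succ 213800) k)) 256 = true := by decide +kernel
theorem s8c718 : allBelow (fun k => fs8 (Nat.add (Nat.succ 214056) k)) 274 = true := by decide +kernel
theorem s8c719 : allBelow (fun k => fs8 (Nat.add (Nat.succ 214330) k)) 269 = true := by decide +kernel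
theorem s8c720 : allBelow (fun k => fs8 (Nat.add (Nat.succ 214599) k)) 258 = true := by decide +kernel
theorem s8c721 : allBelow (fun k => fs8 (Nat.add (Nat.succ 214857) k)) 279 = true := by decide +kernel
theorem s8c722 : allBelow (fun k => fs8 (Nat.add (Nat.succ 215136) k)) 271 = true := by decide +kernel
theorem s8c723 : allBelow (fun k => fs8 (Nat.add (Nat.succ 215407) k)) 291 = true := by decide +kernel
theorem s8c724 : allBelow (fun k => fs8 (Nat.add (Nat.succ 215698) k)) 286 = true := by decide +kernel
theorem s8c725 : allBelow (fun k => fs8 (Nat.add (Nat.succ 215984) k)) 288 = true := by decide +kernel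
theorem s8c726 : allBelow (fun k => fs8 (Nat.add (Nat.succ 216272) k)) 278 = true := by decide +kernel
theorem s8c727 : allBelow (fun k => fs8 (Nat.add (Nat.succ 216550) k)) 275 = true := by decide +kernel
theorem s8c728 : allBelow (fun k => fs8 (Nat.add (Nat.succ 216825) k)) 271 = true := by decide +kernel
theorem s8c729 : allBelow (fun k => fs8 (Nat.add (Nat.succ 217096) k)) 285 = true := by decide +kernel
theorem s8c730 : allBelow (fun k => fs8 (Nat.add (Nat.succ 217381) k)) 291 = true := by decide +kernel
theorem s8c731 : allBelow (fun k => fs8 (Nat.add (Nat.succ 217672) k)) 283 = true := by decide +kernel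
theorem s8c732 : allBelow (fun k => fs8 (Nat.add (Nat.succ 217955) k)) 292 = true := by decide +kernel
theorem s8c733 : allBelow (fun k => fs8 (Nat.add (Nat.succ 218247) k)) 283 = true := by decide +kernel
theorem s8c734 : allBelow (fun k => fs8 (Nat.add (Nat.succ 218530) k)) 291 = true := by decide +kernel
theorem s8c735 : allBelow (fun k => fs8 (Nat.add (Nat.succ 218821) k)) 279 = true := by decide +kernel
theorem s8c736 : allBelow (fun k => fs8 (Nat.add (Nat.succ 219100) k)) 299 = true := by decide +kernel
theorem s8c737 : allBelow (fun k => fs8 (Nat.add (Nat.succ 219399) k)) 289 = true := by decide +kernel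
theorem s8c738 : allBelow (fun k => fs8 (Nat.add (Nat.succ 219688) k)) 261 = true := by decide +kernel
theorem s8c739 : allBelow (fun k => fs8 (Nat.add (Nat.succ 219949) k)) 268 = true := by decide +kernel
theorem s8c740 : allBelow (fun k => fs8 (Nat.add (Nat.succ 220217) k)) 256 = true := by decide +kernel
theorem s8c741 : allBelow (fun k => fs8 (Nat.add (Nat.succ 220473) k)) 268 = true := by decide +kernel
theorem s8c742 : allBelow (fun k => fs8 (Nat.add (Nat.succ 220741) k)) 283 = true := by decide +kernel
theorem s8c743 : allBelow (fun k => fs8 (Nat.add (Nat.succ 221024) k)) 298 = true := by decide +kernel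
theorem s8c744 : allBelow (fun k => fs8 (Nat.add (Nat.succ 221322) k)) 259 = true := by decide +kernel
theorem s8c745 : allBelow (fun k => fs8 (Nat.add (Nat.succ 221581) k)) 238 = true := by decide +kernel
theorem s8c746 : allBelow (fun k => fs8 (Nat.add (Nat.succ 221819) k)) 244 = true := by decide +kernel
theorem s8c747 : allBelow (fun k => fs8 (Nat.add (Nat.succ 222063) k)) 261 = true := by decide +kernel
theorem s8c748 : allBelow (fun k => fs8 (Nat.add (Nat.succ 222324) k)) 273 = true := by decide +kernel
theorem s8c749 : allBelow (fun k => fs8 (Nat.add (Nat.succ 222597) k)) 263 = true := by decide +kernel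
theorem s8c750 : allBelow (fun k => fs8 (Nat.add (Nat.succ 222860) k)) 256 = true := by decide +kernel
theorem s8c751 : allBelow (fun k => fs8 (Nat.add (Nat.succ 223116) k)) 238 = true := by decide +kernel
theorem s8c752 : allBelow (fun k => fs8 (Nat.add (Nat.succ 223354) k)) 248 = true := by decide +kernel

end Cfsg.Agent.Lib.Helper35.Fi24a
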