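import Cfsg.Agent.Lib.Helper35.Fi24a.Data

set_option Elab.async false

namespace Cfsg.Agent.Lib.Helper35.Fi24a

open Cfsg.Agent.Lib.Helper35

theorem s8c753 : allBelow (fun k => fs8 (Nat.add (Nat.succ 223602) k)) 255 = true := by decide +kernel
theorem s8c754 : allBelow (fun k => fs8 (Nat.add (Nat.succ 223857) k)) 260 = true := by decide +kernel
theorem s8c755 : allBelow (fun k => fs8 (Nat.add (Nat.succ 224117) k)) 245 = true := by decide +kernel
theorem s8c756 : allBelow (fun k => fs8 (Nat.add (Nat.succ 224362) k)) 253 = true := by decide +kernel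
theorem s8c757 : allBelow (fun k => fs8 (Nat.add (Nat.succ 224615) k)) 247 = true := by decide +kernel
theorem s8c758 : allBelow (fun k => fs8 (Nat.add (Nat.succ 224862) k)) 248 = true := by decide +kernel
theorem s8c759 : allBelow (fun k => fs8 (Nat.add (Nat.succ 225110) k)) 241 = true := by decide +kernel
theorem s8c760 : allBelow (fun k => fs8 (Nat.add (Nat.succ 225351) k)) 248 = true := by decide +kernel
theorem s8c761 : allBelow (fun k => fs8 (Nat.add (Nat.succ 225599) k)) 243 = true := by decide +kernel
theorem s8c762 : allBelow (fun k => fs8 (Nat.add (Nat.succ 225842) k)) 245 = true := by decide +kernel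
theorem s8c763 : allBelow (fun k => fs8 (Nat.add (Nat.succ 226087) k)) 260 = true := by decide +kernel
theorem s8c764 : allBelow (fun k => fs8 (Nat.add (Nat.succ 226347) k)) 251 = true := by decide +kernel
theorem s8c765 : allBelow (fun k => fs8 (Nat.add (Nat.succ 226598) k)) 242 = true := by decide +kernel
theorem s8c766 : allBelow (fun k => fs8 (Nat.add (Nat.succ 226840) k)) 254 = true := by decide +kernel
theorem s8c767 : allBelow (fun k => fs8 (Nat.add (Nat.succ 227094) k)) 256 = true := by decide +kernel
theorem s8c768 : allBelow (fun k => fs8 (Nat.add (Nat.succ 227350) k)) 241 = true := by decide +kernel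
theorem s8c769 : allBelow (fun k => fs8 (Nat.add (Nat.succ 227591) k)) 253 = true := by decide +kernel
theorem s8c770 : allBelow (fun k => fs8 (Nat.add (Nat.succ 227844) k)) 259 = true := by decide +kernel
theorem s8c771 : allBelow (fun k => fs8 (Nat.add (Nat.succ 228103) k)) 263 = true := by decide +kernel
theorem s8c772 : allBelow (fun k => fs8 (Nat.add (Nat.succ 228366) k)) 285 = true := by decide +kernel
theorem s8c773 : allBelow (fun k => fs8 (Nat.add (Nat.succ 228651) k)) 264 = true := by decide +kernel
theorem s8c774 : allBelow (fun k => fs8 (Nat.add (Nat.succ 228915) k)) 256 = true := by decide +kernel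
theorem s8c775 : allBelow (fun k => fs8 (Nat.add (Nat.succ 229171) k)) 269 = true := by decide +kernel
theorem s8c776 : allBelow (fun k => fs8 (Nat.add (Nat.succ 229440) k)) 277 = true := by decide +kernel
theorem s8c777 : allBelow (fun k => fs8 (Nat.add (Nat.succ 229717) k)) 283 = true := by decide +kernel
theorem s8c778 : allBelow (fun k => fs8 (Nat.add (Nat.succ 230000) k)) 268 = true := by decide +kernel
theorem s8c779 : allBelow (fun k => fs8 (Nat.add (Nat.succ 230268) k)) 280 = true := by decide +kernel
theorem s8c780 : allBelow (fun k => fs8 (Nat.add (Nat.succ 230548) k)) 283 = true := by decide +kernel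
theorem s8c781 : allBelow (fun k => fs8 (Nat.add (Nat.succ 230831) k)) 269 = true := by decide +kernel
theorem s8c782 : allBelow (fun k => fs8 (Nat.add (Nat.succ 231100) k)) 248 = true := by decide +kernel
theorem s8c783 : allBelow (fun k => fs8 (Nat.add (Nat.succ 231348) k)) 252 = true := by decide +kernel
theorem s8c784 : allBelow (fun k => fs8 (Nat.add (Nat.succ 231600) k)) 257 = true := by decide +kernel
theorem s8c785 : allBelow (fun k => fs8 (Nat.add (Nat.succ 231857) k)) 250 = true := by decide +kernel
theorem s8c786 : allBelow (fun k => fs8 (Nat.add (Nat.succ 232107) k)) 269 = true := by decide +kernel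
theorem s8c787 : allBelow (fun k => fs8 (Nat.add (Nat.succ 232376) k)) 294 = true := by decide +kernel
theorem s8c788 : allBelow (fun k => fs8 (Nat.add (Nat.succ 232670) k)) 288 = true := by decide +kernel
theorem s8c789 : allBelow (fun k => fs8 (Nat.add (Nat.succ 232958) k)) 274 = true := by decide +kernel
theorem s8c790 : allBelow (fun k => fs8 (Nat.add (Nat.succ 233232) k)) 285 = true := by decide +kernel
theorem s8c791 : allBelow (fun k => fs8 (Nat.add (Nat.succ 233517) k)) 277 = true := by decide +kernel
theorem s8c792 : allBelow (fun k => fs8 (Nat.add (Nat.succ 233794) k)) 267 = true := by decide +kernel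
theorem s8c793 : allBelow (fun k => fs8 (Nat.add (Nat.succ 234061) k)) 261 = true := by decide +kernel
theorem s8c794 : allBelow (fun k => fs8 (Nat.add (Nat.succ 234322) k)) 252 = true := by decide +kernel
theorem s8c795 : allBelow (fun k => fs8 (Nat.add (Nat.succ 234574) k)) 254 = true := by decide +kernel
theorem s8c796 : allBelow (fun k => fs8 (Nat.add (Nat.succ 234828) k)) 243 = true := by decide +kernel
theorem s8c797 : allBelow (fun k => fs8 (Nat.add (Nat.succ 235071) k)) 253 = true := by decide +kernel
theorem s8c798 : allBelow (fun k => fs8 (Nat.add (Nat.succ 235324) k)) 263 = true := by decide +kernel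
theorem s8c799 : allBelow (fun k => fs8 (Nat.add (Nat.succ 235587) k)) 265 = true := by decide +kernel
theorem s8c800 : allBelow (fun k => fs8 (Nat.add (Nat.succ 235852) k)) 261 = true := by decide +kernel
theorem s8c801 : allBelow (fun k => fs8 (Nat.add (Nat.succ 236113) k)) 256 = true := by decide +kernel
theorem s8c802 : allBelow (fun k => fs8 (Nat.add (Nat.succ 236369) k)) 254 = true := by decide +kernel
theorem s8c803 : allBelow (fun k => fs8 (Nat.add (Nat.succ 236623) k)) 262 = true := by decide +kernel
theorem s8c804 : allBelow (fun k => fs8 (Nat.add (Nat.succ 236885) k)) 260 = true := by decide +kernel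
theorem s8c805 : allBelow (fun k => fs8 (Nat.add (Nat.succ 237145) k)) 258 = true := by decide +kernel
theorem s8c806 : allBelow (fun k => fs8 (Nat.add (Nat.succ 237403) k)) 250 = true := by decide +kernel
theorem s8c807 : allBelow (fun k => fs8 (Nat.add (Nat.succ 237653) k)) 245 = true := by decide +kernel
theorem s8c808 : allBelow (fun k => fs8 (Nat.add (Nat.succ 237898) k)) 278 = true := by decide +kernel
theorem s8c809 : allBelow (fun k => fs8 (Nat.add (Nat.succ 238176) k)) 268 = true := by decide +kernel
theorem s8c810 : allBelow (fun k => fs8 (Nat.add (Nat.succ 238444) k)) 263 = true := by decide +kernel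
theorem s8c811 : allBelow (fun k => fs8 (Nat.add (Nat.succ 238707) k)) 281 = true := by decide +kernel
theorem s8c812 : allBelow (fun k => fs8 (Nat.add (Nat.succ 238988) k)) 262 = true := by decide +kernel
theorem s8c813 : allBelow (fun k => fs8 (Nat.add (Nat.succ 239250) k)) 281 = true := by decide +kernel
theorem s8c814 : allBelow (fun k => fs8 (Nat.add (Nat.succ 239531) k)) 287 = true := by decide +kernel
theorem s8c815 : allBelow (fun k => fs8 (Nat.add (Nat.succ 239818) k)) 293 = true := by decide +kernel
theorem s8c816 : allBelow (fun k => fs8 (Nat.add (Nat.succ 240111) k)) 285 = true := by decide +kernel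
theorem s8c817 : allBelow (fun k => fs8 (Nat.add (Nat.succ 240396) k)) 277 = true := by decide +kernel
theorem s8c818 : allBelow (fun k => fs8 (Nat.add (Nat.succ 240673) k)) 280 = true := by decide +kernel
theorem s8c819 : allBelow (fun k => fs8 (Nat.add (Nat.succ 240953) k)) 273 = true := by decide +kernel
theorem s8c820 : allBelow (fun k => fs8 (Nat.add (Nat.succ 241226) k)) 285 = true := by decide +kernel
theorem s8c821 : allBelow (fun k => fs8 (Nat.add (Nat.succ 241511) k)) 288 = true := by decide +kernel
theorem s8c822 : allBelow (fun k => fs8 (Nat.add (Nat.succ 241799) k)) 284 = true := by decide +kernel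
theorem s8c823 : allBelow (fun k => fs8 (Nat.add (Nat.succ 242083) k)) 290 = true := by decide +kernel
theorem s8c824 : allBelow (fun k => fs8 (Nat.add (Nat.succ 242373) k)) 295 = true := by decide +kernel
theorem s8c825 : allBelow (fun k => fs8 (Nat.add (Nat.succ 242668) k)) 280 = true := by decide +kernel
theorem s8c826 : allBelow (fun k => fs8 (Nat.add (Nat.succ 242948) k)) 282 = true := by decide +kernel
theorem s8c827 : allBelow (fun k => fs8 (Nat.add (Nat.succ 243230) k)) 278 = true := by decide +kernel
theorem s8c828 : allBelow (fun k => fs8 (Nat.add (Nat.succ 243508) k)) 297 = true := by decide +kernel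
theorem s8c829 : allBelow (fun k => fs8 (Nat.add (Nat.succ 243805) k)) 287 = true := by decide +kernel
theorem s8c830 : allBelow (fun k => fs8 (Nat.add (Nat.succ 244092) k)) 260 = true := by decide +kernel
theorem s8c831 : allBelow (fun k => fs8 (Nat.add (Nat.succ 244352) k)) 268 = true := by decide +kernel
theorem s8c832 : allBelow (fun k => fs8 (Nat.add (Nat.succ 244620) k)) 258 = true := by decide +kernel
theorem s8c833 : allBelow (fun k => fs8 (Nat.add (Nat.succ 244878) k)) 281 = true := by decide +kernel
theorem s8c834 : allBelow (fun k => fs8 (Nat.add (Nat.succ 245159) k)) 293 = true := by decide +kernel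
theorem s8c835 : allBelow (fun k => fs8 (Nat.add (Nat.succ 245452) k)) 317 = true := by decide +kernel
theorem s8c836 : allBelow (fun k => fs8 (Nat.add (Nat.succ 245769) k)) 234 = true := by decide +kernel
theorem s8c837 : allBelow (fun k => fs8 (Nat.add (Nat.succ 246003) k)) 242 = true := by decide +kernel
theorem s8c838 : allBelow (fun k => fs8 (Nat.add (Nat.succ 246245) k)) 260 = true := by decide +kernel
theorem s8c839 : allBelow (fun k => fs8 (Nat.add (Nat.succ 246505) k)) 277 = true := by decide +kernel
theorem s8c840 : allBelow (fun k => fs8 (Nat.add (Nat.succ 246782) k)) 259 = true := by decide +kernel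
theorem s8c841 : allBelow (fun k => fs8 (Nat.add (Nat.succ 247041) k)) 254 = true := by decide +kernel
theorem s8c842 : allBelow (fun k => fs8 (Nat.add (Nat.succ 247295) k)) 235 = true := by decide +kernel
theorem s8c843 : allBelow (fun k => fs8 (Nat.add (Nat.succ 247530) k)) 246 = true := by decide +kernel
theorem s8c844 : allBelow (fun k => fs8 (Nat.add (Nat.succ 247776) k)) 246 = true := by decide +kernel
theorem s8c845 : allBelow (fun k => fs8 (Nat.add (Nat.succ 248022) k)) 249 = true := by decide +kernel
theorem s8c846 : allBelow (fun k => fs8 (Nat.add (Nat.succ 248271) k)) 251 = true := by decide +kernel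
theorem s8c847 : allBelow (fun k => fs8 (Nat.add (Nat.succ 248522) k)) 242 = true := by decide +kernel
theorem s8c848 : allBelow (fun k => fs8 (Nat.add (Nat.succ 248764) k)) 252 = true := by decide +kernel
theorem s8c849 : allBelow (fun k => fs8 (Nat.add (Nat.succ 249016) k)) 243 = true := by decide +kernel
theorem s8c850 : allBelow (fun k => fs8 (Nat.add (Nat.succ 249259) k)) 248 = true := by decide +kernel
theorem s8c851 : allBelow (fun k => fs8 (Nat.add (Nat.succ 249507) k)) 239 = true := by decide +kernel
theorem s8c852 : allBelow (fun k => fs8 (Nat.add (Nat.succ 249746) k)) 245 = true := by decide +kernel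
theorem s8c853 : allBelow (fun k => fs8 (Nat.add (Nat.succ 249991) k)) 241 = true := by decide +kernel
theorem s8c854 : allBelow (fun k => fs8 (Nat.add (Nat.succ 250232) k)) 242 = true := by decide +kernel
theorem s8c855 : allBelow (fun k => fs8 (Nat.add (Nat.succ 250474) k)) 256 = true := by decide +kernel
theorem s8c856 : allBelow (fun k => fs8 (Nat.add (Nat.succ 250730) k)) 253 = true := by decide +kernel
theorem s8c857 : allBelow (fun k => fs8 (Nat.add (Nat.succ 250983) k)) 251 = true := by decide +kernel
theorem s8c858 : allBelow (fun k => fs8 (Nat.add (Nat.succ 251234) k)) 241 = true := by decide +kernel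
theorem s8c859 : allBelow (fun k => fs8 (Nat.add (Nat.succ 251475) k)) 253 = true := by decide +kernel
theorem s8c860 : allBelow (fun k => fs8 (Nat.add (Nat.succ 251728) k)) 253 = true := by decide +kernel
theorem s8c861 : allBelow (fun k => fs8 (Nat.add (Nat.succ 251981) k)) 242 = true := by decide +kernel
theorem s8c862 : allBelow (fun k => fs8 (Nat.add (Nat.succ 252223) k)) 250 = true := by decide +kernel
theorem s8c863 : allBelow (fun k => fs8 (Nat.add (Nat.succ 252473) k)) 260 = true := by decide +kernel
theorem s8c864 : allBelow (fun k => fs8 (Nat.add (Nat.succ 252733) k)) 257 = true := by decide +kernel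
theorem s8c865 : allBelow (fun k => fs8 (Nat.add (Nat.succ 252990) k)) 280 = true := by decide +kernel
theorem s8c866 : allBelow (fun k => fs8 (Nat.add (Nat.succ 253270) k)) 270 = true := by decide +kernel
theorem s8c867 : allBelow (fun k => fs8 (Nat.add (Nat.succ 253540) k)) 259 = true := by decide +kernel
theorem s8c868 : allBelow (fun k => fs8 (Nat.add (Nat.succ 253799) k)) 266 = true := by decide +kernel
theorem s8c869 : allBelow (fun k => fs8 (Nat.add (Nat.succ 254065) k)) 280 = true := by decide +kernel
theorem s8c870 : allBelow (fun k => fs8 (Nat.add (Nat.succ 254345) k)) 269 = true := by decide +kernel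
theorem s8c871 : allBelow (fun k => fs8 (Nat.add (Nat.succ 254614) k)) 289 = true := by decide +kernel
theorem s8c872 : allBelow (fun k => fs8 (Nat.add (Nat.succ 254903) k)) 267 = true := by decide +kernel
theorem s8c873 : allBelow (fun k => fs8 (Nat.add (Nat.succ 255170) k)) 268 = true := by decide +kernel
theorem s8c874 : allBelow (fun k => fs8 (Nat.add (Nat.succ 255438) k)) 290 = true := by decide +kernel
theorem s8c875 : allBelow (fun k => fs8 (Nat.add (Nat.succ 255728) k)) 260 = true := by decide +kernel
theorem s8c876 : allBelow (fun k => fs8 (Nat.add (Nat.succ 255988) k)) 246 = true := by decide +kernel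
theorem s8c877 : allBelow (fun k => fs8 (Nat.add (Nat.succ 256234) k)) 257 = true := by decide +kernel
theorem s8c878 : allBelow (fun k => fs8 (Nat.add (Nat.succ 256491) k)) 253 = true := by decide +kernel
theorem s8c879 : allBelow (fun k => fs8 (Nat.add (Nat.succ 256744) k)) 276 = true := by decide +kernel
theorem s8c880 : allBelow (fun k => fs8 (Nat.add (Nat.succ 257020) k)) 291 = true := by decide +kernel
theorem s8c881 : allBelow (fun k => fs8 (Nat.add (Nat.succ 257311) k)) 285 = true := by decide +kernel
theorem s8c882 : allBelow (fun k => fs8 (Nat.add (Nat.succ 257596) k)) 292 = true := by decide +kernel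
theorem s8c883 : allBelow (fun k => fs8 (Nat.add (Nat.succ 257888) k)) 263 = true := by decide +kernel
theorem s8c884 : allBelow (fun k => fs8 (Nat.add (Nat.succ 258151) k)) 279 = true := by decide +kernel
theorem s8c885 : allBelow (fun k => fs8 (Nat.add (Nat.succ 258430) k)) 277 = true := by decide +kernel
theorem s8c886 : allBelow (fun k => fs8 (Nat.add (Nat.succ 258707) k)) 261 = true := by decide +kernel
theorem s8c887 : allBelow (fun k => fs8 (Nat.add (Nat.succ 258968) k)) 256 = true := by decide +kernel
theorem s8c888 : allBelow (fun k => fs8 (Nat.add (Nat.succ 259224) k)) 254 = true := by decide +kernel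
theorem s8c889 : allBelow (fun k => fs8 (Nat.add (Nat.succ 259478) k)) 254 = true := by decide +kernel
theorem s8c890 : allBelow (fun k => fs8 (Nat.add (Nat.succ 259732) k)) 242 = true := by decide +kernel
theorem s8c891 : allBelow (fun k => fs8 (Nat.add (Nat.succ 259974) k)) 244 = true := by decide +kernel
theorem s8c892 : allBelow (fun k => fs8 (Nat.add (Nat.succ 260218) k)) 265 = true := by decide +kernel
theorem s8c893 : allBelow (fun k => fs8 (Nat.add (Nat.succ 260483) k)) 265 = true := by decide +kernel
theorem s8c894 : allBelow (fun k => fs8 (Nat.add (Nat.succ 260748) k)) 264 = true := by decide +kernel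
theorem s8c895 : allBelow (fun k => fs8 (Nat.add (Nat.succ 261012) k)) 258 = true := by decide +kernel
theorem s8c896 : allBelow (fun k => fs8 (Nat.add (Nat.succ 261270) k)) 257 = true := by decide +kernel
theorem s8c897 : allBelow (fun k => fs8 (Nat.add (Nat.succ 261527) k)) 256 = true := by decide +kernel
theorem s8c898 : allBelow (fun k => fs8 (Nat.add (Nat.succ 261783) k)) 261 = true := by decide +kernel
theorem s8c899 : allBelow (fun k => fs8 (Nat.add (Nat.succ 262044) k)) 257 = true := by decide +kernel
theorem s8c900 : allBelow (fun k => fs8 (Nat.add (Nat.succ 262301) k)) 257 = true := by decide +kernel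
theorem s8c901 : allBelow (fun k => fs8 (Nat.add (Nat.succ 262558) k)) 253 = true := by decide +kernel
theorem s8c902 : allBelow (fun k => fs8 (Nat.add (Nat.succ 262811) k)) 249 = true := by decide +kernel
theorem s8c903 : allBelow (fun k => fs8 (Nat.add (Nat.succ 263060) k)) 268 = true := by decide +kernel
theorem s8c904 : allBelow (fun k => fs8 (Nat.add (Nat.succ 263328) k)) 267 = true := by decide +kernel
theorem s8c905 : allBelow (fun k => fs8 (Nat.add (Nat.succ 263595) k)) 264 = true := by decide +kernel
theorem s8c906 : allBelow (fun k => fs8 (Nat.add (Nat.succ 263859) k)) 257 = true := by decide +kernel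
theorem s8c907 : allBelow (fun k => fs8 (Nat.add (Nat.succ 264116) k)) 278 = true := by decide +kernel
theorem s8c908 : allBelow (fun k => fs8 (Nat.add (Nat.succ 264394) k)) 269 = true := by decide +kernel
theorem s8c909 : allBelow (fun k => fs8 (Nat.add (Nat.succ 264663) k)) 283 = true := by decide +kernel
theorem s8c910 : allBelow (fun k => fs8 (Nat.add (Nat.succ 264946) k)) 272 = true := by decide +kernel
theorem s8c911 : allBelow (fun k => fs8 (Nat.add (Nat.succ 265218) k)) 299 = true := by decide +kernel
theorem s8c912 : allBelow (fun k => fs8 (Nat.add (Nat.succ 265517) k)) 284 = true := by decide +kernel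
theorem s8c913 : allBelow (fun k => fs8 (Nat.add (Nat.succ 265801) k)) 277 = true := by decide +kernel
theorem s8c914 : allBelow (fun k => fs8 (Nat.add (Nat.succ 266078) k)) 279 = true := by decide +kernel
theorem s8c915 : allBelow (fun k => fs8 (Nat.add (Nat.succ 266357) k)) 271 = true := by decide +kernel
theorem s8c916 : allBelow (fun k => fs8 (Nat.add (Nat.succ 266628) k)) 284 = true := by decide +kernel
theorem s8c917 : allBelow (fun k => fs8 (Nat.add (Nat.succ 266912) k)) 289 = true := by decide +kernel
theorem s8c918 : allBelow (fun k => fs8 (Nat.add (Nat.succ 267201) k)) 295 = true := by decide +kernel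
theorem s8c919 : allBelow (fun k => fs8 (Nat.add (Nat.succ 267496) k)) 280 = true := by decide +kernel
theorem s8c920 : allBelow (fun k => fs8 (Nat.add (Nat.succ 267776) k)) 302 = true := by decide +kernel
theorem s8c921 : allBelow (fun k => fs8 (Nat.add (Nat.succ 268078) k)) 275 = true := by decide +kernel
theorem s8c922 : allBelow (fun k => fs8 (Nat.add (Nat.succ 268353) k)) 282 = true := by decide +kernel
theorem s8c923 : allBelow (fun k => fs8 (Nat.add (Nat.succ 268635) k)) 272 = true := by decide +kernel
theorem s8c924 : allBelow (fun k => fs8 (Nat.add (Nat.succ 268907) k)) 294 = true := by decide +kernel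
theorem s8c925 : allBelow (fun k => fs8 (Nat.add (Nat.succ 269201) k)) 294 = true := by decide +kernel
theorem s8c926 : allBelow (fun k => fs8 (Nat.add (Nat.succ 269495) k)) 261 = true := by decide +kernel
theorem s8c927 : allBelow (fun k => fs8 (Nat.add (Nat.succ 269756) k)) 267 = true := by decide +kernel
theorem s8c928 : allBelow (fun k => fs8 (Nat.add (Nat.succ 270023) k)) 262 = true := by decide +kernel
theorem s8c929 : allBelow (fun k => fs8 (Nat.add (Nat.succ 270285) k)) 292 = true := by decide +kernel
theorem s8c930 : allBelow (fun k => fs8 (Nat.add (Nat.succ 270577) k)) 316 = true := by decide +kernel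
theorem s8c931 : allBelow (fun k => fs8 (Nat.add (Nat.succ 270893) k)) 295 = true := by decide +kernel
theorem s8c932 : allBelow (fun k => fs8 (Nat.add (Nat.succ 271188) k)) 238 = true := by decide +kernel
theorem s8c933 : allBelow (fun k => fs8 (Nat.add (Nat.succ 271426) k)) 251 = true := by decide +kernel
theorem s8c934 : allBelow (fun k => fs8 (Nat.add (Nat.succ 271677) k)) 278 = true := by decide +kernel
theorem s8c935 : allBelow (fun k => fs8 (Nat.add (Nat.succ 271955) k)) 272 = true := by decide +kernel
theorem s8c936 : allBelow (fun k => fs8 (Nat.add (Nat.succ 272227) k)) 250 = true := by decide +kernel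
theorem s8c937 : allBelow (fun k => fs8 (Nat.add (Nat.succ 272477) k)) 234 = true := by decide +kernel
theorem s8c938 : allBelow (fun k => fs8 (Nat.add (Nat.succ 272711) k)) 235 = true := by decide +kernel
theorem s8c939 : allBelow (fun k => fs8 (Nat.add (Nat.succ 272946) k)) 240 = true := by decide +kernel
theorem s8c940 : allBelow (fun k => fs8 (Nat.add (Nat.succ 273186) k)) 249 = true := by decide +kernel
theorem s8c941 : allBelow (fun k => fs8 (Nat.add (Nat.succ 273435) k)) 247 = true := by decide +kernel
theorem s8c942 : allBelow (fun k => fs8 (Nat.add (Nat.succ 273682) k)) 250 = true := by decide +kernel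
theorem s8c943 : allBelow (fun k => fs8 (Nat.add (Nat.succ 273932) k)) 241 = true := by decide +kernel
theorem s8c944 : allBelow (fun k => fs8 (Nat.add (Nat.succ 274173) k)) 246 = true := by decide +kernel
theorem s8c945 : allBelow (fun k => fs8 (Nat.add (Nat.succ 274419) k)) 244 = true := by decide +kernel
theorem s8c946 : allBelow (fun k => fs8 (Nat.add (Nat.succ 274663) k)) 245 = true := by decide +kernel
theorem s8c947 : allBelow (fun k => fs8 (Nat.add (Nat.succ 274908) k)) 239 = true := by decide +kernel
theorem s8c948 : allBelow (fun k => fs8 (Nat.add (Nat.succ 275147) k)) 240 = true := by decide +kernel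
theorem s8c949 : allBelow (fun k => fs8 (Nat.add (Nat.succ 275387) k)) 236 = true := by decide +kernel
theorem s8c950 : allBelow (fun k => fs8 (Nat.add (Nat.succ 275623) k)) 242 = true := by decide +kernel
theorem s8c951 : allBelow (fun k => fs8 (Nat.add (Nat.succ 275865) k)) 243 = true := by decide +kernel
theorem s8c952 : allBelow (fun k => fs8 (Nat.add (Nat.succ 276108) k)) 256 = true := by decide +kernel
theorem s8c953 : allBelow (fun k => fs8 (Nat.add (Nat.succ 276364) k)) 252 = true := by decide +kernel
theorem s8c954 : allBelow (fun k => fs8 (Nat.add (Nat.succ 276616) k)) 254 = true := by decide +kernel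
theorem s8c955 : allBelow (fun k => fs8 (Nat.add (Nat.succ 276870) k)) 243 = true := by decide +kernel
theorem s8c956 : allBelow (fun k => fs8 (Nat.add (Nat.succ 277113) k)) 252 = true := by decide +kernel
theorem s8c957 : allBelow (fun k => fs8 (Nat.add (Nat.succ 277365) k)) 250 = true := by decide +kernel
theorem s8c958 : allBelow (fun k => fs8 (Nat.add (Nat.succ 277615) k)) 243 = true := by decide +kernel
theorem s8c959 : allBelow (fun k => fs8 (Nat.add (Nat.succ 277858) k)) 248 = true := by decide +kernel
theorem s8c960 : allBelow (fun k => fs8 (Nat.add (Nat.succ 278106) k)) 254 = true := by decide +kernel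
theorem s8c961 : allBelow (fun k => fs8 (Nat.add (Nat.succ 278360) k)) 259 = true := by decide +kernel
theorem s8c962 : allBelow (fun k => fs8 (Nat.add (Nat.succ 278619) k)) 272 = true := by decide +kernel
theorem s8c963 : allBelow (fun k => fs8 (Nat.add (Nat.succ 278891) k)) 268 = true := by decide +kernel
theorem s8c964 : allBelow (fun k => fs8 (Nat.add (Nat.succ 279159) k)) 260 = true := by decide +kernel
theorem s8c965 : allBelow (fun k => fs8 (Nat.add (Nat.succ 279419) k)) 268 = true := by decide +kernel
theorem s8c966 : allBelow (fun k => fs8 (Nat.add (Nat.succ 279687) k)) 279 = true := by decide +kernel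
theorem s8c967 : allBelow (fun k => fs8 (Nat.add (Nat.succ 279966) k)) 262 = true := by decide +kernel
theorem s8c968 : allBelow (fun k => fs8 (Nat.add (Nat.succ 280228) k)) 293 = true := by decide +kernel
theorem s8c969 : allBelow (fun k => fs8 (Nat.add (Nat.succ 280521) k)) 266 = true := by decide +kernel
theorem s8c970 : allBelow (fun k => fs8 (Nat.add (Nat.succ 280787) k)) 259 = true := by decide +kernel
theorem s8c971 : allBelow (fun k => fs8 (Nat.add (Nat.succ 281046) k)) 289 = true := by decide +kernel
theorem s8c972 : allBelow (fun k => fs8 (Nat.add (Nat.succ 281335) k)) 260 = true := by decide +kernel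
theorem s8c973 : allBelow (fun k => fs8 (Nat.add (Nat.succ 281595) k)) 247 = true := by decide +kernel
theorem s8c974 : allBelow (fun k => fs8 (Nat.add (Nat.succ 281842) k)) 256 = true := by decide +kernel
theorem s8c975 : allBelow (fun k => fs8 (Nat.add (Nat.succ 282098) k)) 260 = true := by decide +kernel
theorem s8c976 : allBelow (fun k => fs8 (Nat.add (Nat.succ 282358) k)) 295 = true := by decide +kernel
theorem s8c977 : allBelow (fun k => fs8 (Nat.add (Nat.succ 282653) k)) 295 = true := by decide +kernel
theorem s8c978 : allBelow (fun k => fs8 (Nat.add (Nat.succ 282948) k)) 278 = true := by decide +kernel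
theorem s8c979 : allBelow (fun k => fs8 (Nat.add (Nat.succ 283226) k)) 293 = true := by decide +kernel
theorem s8c980 : allBelow (fun k => fs8 (Nat.add (Nat.succ 283519) k)) 254 = true := by decide +kernel
theorem s8c981 : allBelow (fun k => fs8 (Nat.add (Nat.succ 283773) k)) 276 = true := by decide +kernel
theorem s8c982 : allBelow (fun k => fs8 (Nat.add (Nat.succ 284049) k)) 270 = true := by decide +kernel
theorem s8c983 : allBelow (fun k => fs8 (Nat.add (Nat.succ 284319) k)) 250 = true := by decide +kernel
theorem s8c984 : allBelow (fun k => fs8 (Nat.add (Nat.succ 284569) k)) 251 = true := by decide +kernel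
theorem s8c985 : allBelow (fun k => fs8 (Nat.add (Nat.succ 284820) k)) 249 = true := by decide +kernel
theorem s8c986 : allBelow (fun k => fs8 (Nat.add (Nat.succ 285069) k)) 251 = true := by decide +kernel
theorem s8c987 : allBelow (fun k => fs8 (Nat.add (Nat.succ 285320) k)) 240 = true := by decide +kernel
theorem s8c988 : allBelow (fun k => fs8 (Nat.add (Nat.succ 285560) k)) 243 = true := by decide +kernel
theorem s8c989 : allBelow (fun k => fs8 (Nat.add (Nat.succ 285803) k)) 261 = true := by decide +kernel
theorem s8c990 : allBelow (fun k => fs8 (Nat.add (Nat.succ 286064) k)) 266 = true := by decide +kernel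
theorem s8c991 : allBelow (fun k => fs8 (Nat.add (Nat.succ 286330) k)) 262 = true := by decide +kernel
theorem s8c992 : allBelow (fun k => fs8 (Nat.add (Nat.succ 286592) k)) 259 = true := by decide +kernel
theorem s8c993 : allBelow (fun k => fs8 (Nat.add (Nat.succ 286851) k)) 261 = true := by decide +kernel
theorem s8c994 : allBelow (fun k => fs8 (Nat.add (Nat.succ 287112) k)) 259 = true := by decide +kernel
theorem s8c995 : allBelow (fun k => fs8 (Nat.add (Nat.succ 287371) k)) 257 = true := by decide +kernel
theorem s8c996 : allBelow (fun k => fs8 (Nat.add (Nat.succ 287628) k)) 259 = true := by decide +kernel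
theorem s8c997 : allBelow (fun k => fs8 (Nat.add (Nat.succ 287887) k)) 249 = true := by decide +kernel
theorem s8c998 : allBelow (fun k => fs8 (Nat.add (Nat.succ 288136) k)) 251 = true := by decide +kernel
theorem s8c999 : allBelow (fun k => fs8 (Nat.add (Nat.succ 288387) k)) 255 = true := by decide +kernel
theorem s8c1000 : allBelow (fun k => fs8 (Nat.add (Nat.succ 288642) k)) 249 = true := by decide +kernel
theorem s8c1001 : allBelow (fun k => fs8 (Nat.add (Nat.succ 288891) k)) 269 = true := by decide +kernel
theorem s8c1002 : allBelow (fun k => fs8 (Nat.add (Nat.succ 289160) k)) 261 = true := by decide +kernel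
theorem s8c1003 : allBelow (fun k => fs8 (Nat.add (Nat.succ 289421) k)) 249 = true := by decide +kernel
theorem s8c1004 : allBelow (fun k => fs8 (Nat.add (Nat.succ 289670) k)) 276 = true := by decide +kernel
theorem s8c1005 : allBelow (fun k => fs8 (Nat.add (Nat.succ 289946) k)) 257 = true := by decide +kernel
theorem s8c1006 : allBelow (fun k => fs8 (Nat.add (Nat.succ 290203) k)) 269 = true := by decide +kernel
theorem s8c1007 : allBelow (fun k => fs8 (Nat.add (Nat.succ 290472) k)) 281 = true := by decide +kernel
theorem s8c1008 : allBelow (fun k => fs8 (Nat.add (Nat.succ 290753) k)) 289 = true := by decide +kernel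
theorem s8c1009 : allBelow (fun k => fs8 (Nat.add (Nat.succ 291042) k)) 284 = true := by decide +kernel
theorem s8c1010 : allBelow (fun k => fs8 (Nat.add (Nat.succ 291326) k)) 276 = true := by decide +kernel
theorem s8c1011 : allBelow (fun k => fs8 (Nat.add (Nat.succ 291602) k)) 281 = true := by decide +kernel
theorem s8c1012 : allBelow (fun k => fs8 (Nat.add (Nat.succ 291883) k)) 270 = true := by decide +kernel
theorem s8c1013 : allBelow (fun k => fs8 (Nat.add (Nat.succ 292153) k)) 279 = true := by decide +kernel
theorem s8c1014 : allBelow (fun k => fs8 (Nat.add (Nat.succ 292432) k)) 287 = true := by decide +kernel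
theorem s8c1015 : allBelow (fun k => fs8 (Nat.add (Nat.succ 292719) k)) 300 = true := by decide +kernel
theorem s8c1016 : allBelow (fun k => fs8 (Nat.add (Nat.succ 293019) k)) 279 = true := by decide +kernel
theorem s8c1017 : allBelow (fun k => fs8 (Nat.add (Nat.succ 293298) k)) 305 = true := by decide +kernel
theorem s8c1018 : allBelow (fun k => fs8 (Nat.add (Nat.succ 293603) k)) 266 = true := by decide +kernel
theorem s8c1019 : allBelow (fun k => fs8 (Nat.add (Nat.succ 293869) k)) 274 = true := by decide +kernel
theorem s8c1020 : allBelow (fun k => fs8 (Nat.add (Nat.succ 294143) k)) 295 = true := by decide +kernel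
theorem s8c1021 : allBelow (fun k => fs8 (Nat.add (Nat.succ 294438) k)) 289 = true := by decide +kernel
theorem s8c1022 : allBelow (fun k => fs8 (Nat.add (Nat.succ 294727) k)) 268 = true := by decide +kernel
theorem s8c1023 : allBelow (fun k => fs8 (Nat.add (Nat.succ 294995) k)) 260 = true := by decide +kernel
theorem s8c1024 : allBelow (fun k => fs8 (Nat.add (Nat.succ 295255) k)) 266 = true := by decide +kernel
theorem s8c1025 : allBelow (fun k => fs8 (Nat.add (Nat.succ 295521) k)) 322 = true := by decide +kernel
theorem s8c1026 : allBelow (fun k => fs8 (Nat.add (Nat.succ 295843) k)) 319 = true := by decide +kernel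
theorem s8c1027 : allBelow (fun k => fs8 (Nat.add (Nat.succ 296162) k)) 238 = true := by decide +kernel
theorem s8c1028 : allBelow (fun k => fs8 (Nat.add (Nat.succ 296400) k)) 251 = true := by decide +kernel
theorem s8c1029 : allBelow (fun k => fs8 (Nat.add (Nat.succ 296651) k)) 272 = true := by decide +kernel
theorem s8c1030 : allBelow (fun k => fs8 (Nat.add (Nat.succ 296923) k)) 283 = true := by decide +kernel
theorem s8c1031 : allBelow (fun k => fs8 (Nat.add (Nat.succ 297206) k)) 242 = true := by decide +kernel
theorem s8c1032 : allBelow (fun k => fs8 (Nat.add (Nat.succ 297448) k)) 237 = true := by decide +kernel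
theorem s8c1033 : allBelow (fun k => fs8 (Nat.add (Nat.succ 297685) k)) 229 = true := by decide +kernel
theorem s8c1034 : allBelow (fun k => fs8 (Nat.add (Nat.succ 297914) k)) 239 = true := by decide +kernel
theorem s8c1035 : allBelow (fun k => fs8 (Nat.add (Nat.succ 298153) k)) 244 = true := by decide +kernel
theorem s8c1036 : allBelow (fun k => fs8 (Nat.add (Nat.succ 298397) k)) 243 = true := by decide +kernel
theorem s8c1037 : allBelow (fun k => fs8 (Nat.add (Nat.succ 298640) k)) 250 = true := by decide +kernel
theorem s8c1038 : allBelow (fun k => fs8 (Nat.add (Nat.succ 298890) k)) 239 = true := by decide +kernel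
theorem s8c1039 : allBelow (fun k => fs8 (Nat.add (Nat.succ 299129) k)) 235 = true := by decide +kernel
theorem s8c1040 : allBelow (fun k => fs8 (Nat.add (Nat.succ 299364) k)) 240 = true := by decide +kernel
theorem s8c1041 : allBelow (fun k => fs8 (Nat.add (Nat.succ 299604) k)) 244 = true := by decide +kernel
theorem s8c1042 : allBelow (fun k => fs8 (Nat.add (Nat.succ 299848) k)) 237 = true := by decide +kernel
theorem s8c1043 : allBelow (fun k => fs8 (Nat.add (Nat.succ 300085) k)) 237 = true := by decide +kernel
theorem s8c1044 : allBelow (fun k => fs8 (Nat.add (Nat.succ 300322) k)) 237 = true := by decide +kernel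
theorem s8c1045 : allBelow (fun k => fs8 (Nat.add (Nat.succ 300559) k)) 238 = true := by decide +kernel
theorem s8c1046 : allBelow (fun k => fs8 (Nat.add (Nat.succ 300797) k)) 237 = true := by decide +kernel
theorem s8c1047 : allBelow (fun k => fs8 (Nat.add (Nat.succ 301034) k)) 251 = true := by decide +kernel
theorem s8c1048 : allBelow (fun k => fs8 (Nat.add (Nat.succ 301285) k)) 248 = true := by decide +kernel
theorem s8c1049 : allBelow (fun k => fs8 (Nat.add (Nat.succ 301533) k)) 251 = true := by decide +kernel
theorem s8c1050 : allBelow (fun k => fs8 (Nat.add (Nat.succ 301784) k)) 258 = true := by decide +kernel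
theorem s8c1051 : allBelow (fun k => fs8 (Nat.add (Nat.succ 302042) k)) 243 = true := by decide +kernel
theorem s8c1052 : allBelow (fun k => fs8 (Nat.add (Nat.succ 302285) k)) 243 = true := by decide +kernel
theorem s8c1053 : allBelow (fun k => fs8 (Nat.add (Nat.succ 302528) k)) 246 = true := by decide +kernel
theorem s8c1054 : allBelow (fun k => fs8 (Nat.add (Nat.succ 302774) k)) 245 = true := by decide +kernel
theorem s8c1055 : allBelow (fun k => fs8 (Nat.add (Nat.succ 303019) k)) 242 = true := by decide +kernel
theorem s8c1056 : allBelow (fun k => fs8 (Nat.add (Nat.succ 303261) k)) 248 = true := by decide +kernel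
theorem s8c1057 : allBelow (fun k => fs8 (Nat.add (Nat.succ 303509) k)) 268 = true := by decide +kernel
theorem s8c1058 : allBelow (fun k => fs8 (Nat.add (Nat.succ 303777) k)) 267 = true := by decide +kernel
theorem s8c1059 : allBelow (fun k => fs8 (Nat.add (Nat.succ 304044) k)) 260 = true := by decide +kernel
theorem s8c1060 : allBelow (fun k => fs8 (Nat.add (Nat.succ 304304) k)) 265 = true := by decide +kernel
theorem s8c1061 : allBelow (fun k => fs8 (Nat.add (Nat.succ 304569) k)) 270 = true := by decide +kernel
theorem s8c1062 : allBelow (fun k => fs8 (Nat.add (Nat.succ 304839) k)) 267 = true := by decide +kernel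
theorem s8c1063 : allBelow (fun k => fs8 (Nat.add (Nat.succ 305106) k)) 278 = true := by decide +kernel
theorem s8c1064 : allBelow (fun k => fs8 (Nat.add (Nat.succ 305384) k)) 261 = true := by decide +kernel
theorem s8c1065 : allBelow (fun k => fs8 (Nat.add (Nat.succ 305645) k)) 276 = true := by decide +kernel
theorem s8c1066 : allBelow (fun k => fs8 (Nat.add (Nat.succ 305921) k)) 266 = true := by decide +kernel
theorem s8c1067 : allBelow (fun k => fs8 (Nat.add (Nat.succ 306187) k)) 242 = true := by decide +kernel
theorem s8c1068 : allBelow (fun k => fs8 (Nat.add (Nat.succ 306429) k)) 256 = true := by decide +kernel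
theorem s8c1069 : allBelow (fun k => fs8 (Nat.add (Nat.succ 306685) k)) 262 = true := by decide +kernel
theorem s8c1070 : allBelow (fun k => fs8 (Nat.add (Nat.succ 306947) k)) 300 = true := by decide +kernel
theorem s8c1071 : allBelow (fun k => fs8 (Nat.add (Nat.succ 307247) k)) 299 = true := by decide +kernel

end Cfsg.Agent.Lib.Helper35.Fi24a
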