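import Cfsg.Agent.Lib.Helper35.Fi24a.Data

set_option Elab.async false

namespace Cfsg.Agent.Lib.Helper35.Fi24a

open Cfsg.Agent.Lib.Helper35

theorem s8c1072 : allBelow (fun k => fs8 (Nat.add (Nat.succ 307546) k)) 270 = true := by decide +kernel
theorem s8c1073 : allBelow (fun k => fs8 (Nat.add (Nat.succ 307816) k)) 285 = true := by decide +kernel
theorem s8c1074 : allBelow (fun k => fs8 (Nat.add (Nat.succ 308101) k)) 251 = true := by decide +kernel
theorem s8c1075 : allBelow (fun k => fs8 (Nat.add (Nat.succ 308352) k)) 252 = true := by decide +kernel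
theorem s8c1076 : allBelow (fun k => fs8 (Nat.add (Nat.succ 308604) k)) 263 = true := by decide +kernel
theorem s8c1077 : allBelow (fun k => fs8 (Nat.add (Nat.succ 308867) k)) 213 = true := by decide +kernel
theorem s8c1078 : allBelow (fun k => fs8 (Nat.add (Nat.succ 309080) k)) 246 = true := by decide +kernel
theorem s8c1079 : allBelow (fun k => fs8 (Nat.add (Nat.succ 309326) k)) 244 = true := by decide +kernel
theorem s8c1080 : allBelow (fun k => fs8 (Nat.add (Nat.succ 309570) k)) 240 = true := by decide +kernel
theorem s8c1081 : allBelow (fun k => fs8 (Nat.add (Nat.succ 309810) k)) 251 = true := by decide +kernel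
theorem s8c1082 : allBelow (fun k => fs8 (Nat.add (Nat.succ 310061) k)) 256 = true := by decide +kernel
theorem s8c1083 : allBelow (fun k => fs8 (Nat.add (Nat.succ 310317) k)) 270 = true := by decide +kernel
theorem s8c1084 : allBelow (fun k => fs8 (Nat.add (Nat.succ 310587) k)) 258 = true := by decide +kernel
theorem s8c1085 : allBelow (fun k => fs8 (Nat.add (Nat.succ 310845) k)) 255 = true := by decide +kernel
theorem s8c1086 : allBelow (fun k => fs8 (Nat.add (Nat.succ 311100) k)) 266 = true := by decide +kernel
theorem s8c1087 : allBelow (fun k => fs8 (Nat.add (Nat.succ 311366) k)) 263 = true := by decide +kernel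
theorem s8c1088 : allBelow (fun k => fs8 (Nat.add (Nat.succ 311629) k)) 259 = true := by decide +kernel
theorem s8c1089 : allBelow (fun k => fs8 (Nat.add (Nat.succ 311888) k)) 249 = true := by decide +kernel
theorem s8c1090 : allBelow (fun k => fs8 (Nat.add (Nat.succ 312137) k)) 244 = true := by decide +kernel
theorem s8c1091 : allBelow (fun k => fs8 (Nat.add (Nat.succ 312381) k)) 256 = true := by decide +kernel
theorem s8c1092 : allBelow (fun k => fs8 (Nat.add (Nat.succ 312637) k)) 249 = true := by decide +kernel
theorem s8c1093 : allBelow (fun k => fs8 (Nat.add (Nat.succ 312886) k)) 264 = true := by decide +kernel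
theorem s8c1094 : allBelow (fun k => fs8 (Nat.add (Nat.succ 313150) k)) 247 = true := by decide +kernel
theorem s8c1095 : allBelow (fun k => fs8 (Nat.add (Nat.succ 313397) k)) 273 = true := by decide +kernel
theorem s8c1096 : allBelow (fun k => fs8 (Nat.add (Nat.succ 313670) k)) 266 = true := by decide +kernel
theorem s8c1097 : allBelow (fun k => fs8 (Nat.add (Nat.succ 313936) k)) 278 = true := by decide +kernel
theorem s8c1098 : allBelow (fun k => fs8 (Nat.add (Nat.succ 314214) k)) 284 = true := by decide +kernel
theorem s8c1099 : allBelow (fun k => fs8 (Nat.add (Nat.succ 314498) k)) 278 = true := by decide +kernel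
theorem s8c1100 : allBelow (fun k => fs8 (Nat.add (Nat.succ 314776) k)) 284 = true := by decide +kernel
theorem s8c1101 : allBelow (fun k => fs8 (Nat.add (Nat.succ 315060) k)) 255 = true := by decide +kernel
theorem s8c1102 : allBelow (fun k => fs8 (Nat.add (Nat.succ 315315) k)) 282 = true := by decide +kernel
theorem s8c1103 : allBelow (fun k => fs8 (Nat.add (Nat.succ 315597) k)) 283 = true := by decide +kernel
theorem s8c1104 : allBelow (fun k => fs8 (Nat.add (Nat.succ 315880) k)) 294 = true := by decide +kernel
theorem s8c1105 : allBelow (fun k => fs8 (Nat.add (Nat.succ 316174) k)) 302 = true := by decide +kernel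
theorem s8c1106 : allBelow (fun k => fs8 (Nat.add (Nat.succ 316476) k)) 270 = true := by decide +kernel
theorem s8c1107 : allBelow (fun k => fs8 (Nat.add (Nat.succ 316746) k)) 287 = true := by decide +kernel
theorem s8c1108 : allBelow (fun k => fs8 (Nat.add (Nat.succ 317033) k)) 286 = true := by decide +kernel
theorem s8c1109 : allBelow (fun k => fs8 (Nat.add (Nat.succ 317319) k)) 266 = true := by decide +kernel
theorem s8c1110 : allBelow (fun k => fs8 (Nat.add (Nat.succ 317585) k)) 257 = true := by decide +kernel
theorem s8c1111 : allBelow (fun k => fs8 (Nat.add (Nat.succ 317842) k)) 297 = true := by decide +kernel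
theorem s8c1112 : allBelow (fun k => fs8 (Nat.add (Nat.succ 318139) k)) 324 = true := by decide +kernel
theorem s8c1113 : allBelow (fun k => fs8 (Nat.add (Nat.succ 318463) k)) 237 = true := by decide +kernel
theorem s8c1114 : allBelow (fun k => fs8 (Nat.add (Nat.succ 318700) k)) 252 = true := by decide +kernel
theorem s8c1115 : allBelow (fun k => fs8 (Nat.add (Nat.succ 318952) k)) 268 = true := by decide +kernel
theorem s8c1116 : allBelow (fun k => fs8 (Nat.add (Nat.succ 319220) k)) 284 = true := by decide +kernel
theorem s8c1117 : allBelow (fun k => fs8 (Nat.add (Nat.succ 319504) k)) 236 = true := by decide +kernel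
theorem s8c1118 : allBelow (fun k => fs8 (Nat.add (Nat.succ 319740) k)) 231 = true := by decide +kernel
theorem s8c1119 : allBelow (fun k => fs8 (Nat.add (Nat.succ 319971) k)) 227 = true := by decide +kernel
theorem s8c1120 : allBelow (fun k => fs8 (Nat.add (Nat.succ 320198) k)) 238 = true := by decide +kernel
theorem s8c1121 : allBelow (fun k => fs8 (Nat.add (Nat.succ 320436) k)) 236 = true := by decide +kernel
theorem s8c1122 : allBelow (fun k => fs8 (Nat.add (Nat.succ 320672) k)) 237 = true := by decide +kernel
theorem s8c1123 : allBelow (fun k => fs8 (Nat.add (Nat.succ 320909) k)) 237 = true := by decide +kernel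
theorem s8c1124 : allBelow (fun k => fs8 (Nat.add (Nat.succ 321146) k)) 227 = true := by decide +kernel
theorem s8c1125 : allBelow (fun k => fs8 (Nat.add (Nat.succ 321373) k)) 234 = true := by decide +kernel
theorem s8c1126 : allBelow (fun k => fs8 (Nat.add (Nat.succ 321607) k)) 243 = true := by decide +kernel
theorem s8c1127 : allBelow (fun k => fs8 (Nat.add (Nat.succ 321850) k)) 233 = true := by decide +kernel
theorem s8c1128 : allBelow (fun k => fs8 (Nat.add (Nat.succ 322083) k)) 237 = true := by decide +kernel
theorem s8c1129 : allBelow (fun k => fs8 (Nat.add (Nat.succ 322320) k)) 234 = true := by decide +kernel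
theorem s8c1130 : allBelow (fun k => fs8 (Nat.add (Nat.succ 322554) k)) 236 = true := by decide +kernel
theorem s8c1131 : allBelow (fun k => fs8 (Nat.add (Nat.succ 322790) k)) 245 = true := by decide +kernel
theorem s8c1132 : allBelow (fun k => fs8 (Nat.add (Nat.succ 323035) k)) 244 = true := by decide +kernel
theorem s8c1133 : allBelow (fun k => fs8 (Nat.add (Nat.succ 323279) k)) 247 = true := by decide +kernel
theorem s8c1134 : allBelow (fun k => fs8 (Nat.add (Nat.succ 323526) k)) 260 = true := by decide +kernel
theorem s8c1135 : allBelow (fun k => fs8 (Nat.add (Nat.succ 323786) k)) 245 = true := by decide +kernel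
theorem s8c1136 : allBelow (fun k => fs8 (Nat.add (Nat.succ 324031) k)) 239 = true := by decide +kernel
theorem s8c1137 : allBelow (fun k => fs8 (Nat.add (Nat.succ 324270) k)) 246 = true := by decide +kernel
theorem s8c1138 : allBelow (fun k => fs8 (Nat.add (Nat.succ 324516) k)) 240 = true := by decide +kernel
theorem s8c1139 : allBelow (fun k => fs8 (Nat.add (Nat.succ 324756) k)) 248 = true := by decide +kernel
theorem s8c1140 : allBelow (fun k => fs8 (Nat.add (Nat.succ 325004) k)) 263 = true := by decide +kernel
theorem s8c1141 : allBelow (fun k => fs8 (Nat.add (Nat.succ 325267) k)) 259 = true := by decide +kernel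
theorem s8c1142 : allBelow (fun k => fs8 (Nat.add (Nat.succ 325526) k)) 259 = true := by decide +kernel
theorem s8c1143 : allBelow (fun k => fs8 (Nat.add (Nat.succ 325785) k)) 270 = true := by decide +kernel
theorem s8c1144 : allBelow (fun k => fs8 (Nat.add (Nat.succ 326055) k)) 263 = true := by decide +kernel
theorem s8c1145 : allBelow (fun k => fs8 (Nat.add (Nat.succ 326318) k)) 254 = true := by decide +kernel
theorem s8c1146 : allBelow (fun k => fs8 (Nat.add (Nat.succ 326572) k)) 267 = true := by decide +kernel
theorem s8c1147 : allBelow (fun k => fs8 (Nat.add (Nat.succ 326839) k)) 249 = true := by decide +kernel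
theorem s8c1148 : allBelow (fun k => fs8 (Nat.add (Nat.succ 327088) k)) 252 = true := by decide +kernel
theorem s8c1149 : allBelow (fun k => fs8 (Nat.add (Nat.succ 327340) k)) 271 = true := by decide +kernel
theorem s8c1150 : allBelow (fun k => fs8 (Nat.add (Nat.succ 327611) k)) 311 = true := by decide +kernel
theorem s8c1151 : allBelow (fun k => fs8 (Nat.add (Nat.succ 327922) k)) 274 = true := by decide +kernel
theorem s8c1152 : allBelow (fun k => fs8 (Nat.add (Nat.succ 328196) k)) 271 = true := by decide +kernel
theorem s8c1153 : allBelow (fun k => fs8 (Nat.add (Nat.succ 328467) k)) 247 = true := by decide +kernel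
theorem s8c1154 : allBelow (fun k => fs8 (Nat.add (Nat.succ 328714) k)) 251 = true := by decide +kernel
theorem s8c1155 : allBelow (fun k => fs8 (Nat.add (Nat.succ 328965) k)) 250 = true := by decide +kernel
theorem s8c1156 : allBelow (fun k => fs8 (Nat.add (Nat.succ 329215) k)) 246 = true := by decide +kernel
theorem s8c1157 : allBelow (fun k => fs8 (Nat.add (Nat.succ 329461) k)) 244 = true := by decide +kernel
theorem s8c1158 : allBelow (fun k => fs8 (Nat.add (Nat.succ 329705) k)) 253 = true := by decide +kernel
theorem s8c1159 : allBelow (fun k => fs8 (Nat.add (Nat.succ 329958) k)) 270 = true := by decide +kernel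
theorem s8c1160 : allBelow (fun k => fs8 (Nat.add (Nat.succ 330228) k)) 247 = true := by decide +kernel
theorem s8c1161 : allBelow (fun k => fs8 (Nat.add (Nat.succ 330475) k)) 273 = true := by decide +kernel
theorem s8c1162 : allBelow (fun k => fs8 (Nat.add (Nat.succ 330748) k)) 266 = true := by decide +kernel
theorem s8c1163 : allBelow (fun k => fs8 (Nat.add (Nat.succ 331014) k)) 257 = true := by decide +kernel
theorem s8c1164 : allBelow (fun k => fs8 (Nat.add (Nat.succ 331271) k)) 246 = true := by decide +kernel
theorem s8c1165 : allBelow (fun k => fs8 (Nat.add (Nat.succ 331517) k)) 254 = true := by decide +kernel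
theorem s8c1166 : allBelow (fun k => fs8 (Nat.add (Nat.succ 331771) k)) 254 = true := by decide +kernel
theorem s8c1167 : allBelow (fun k => fs8 (Nat.add (Nat.succ 332025) k)) 251 = true := by decide +kernel
theorem s8c1168 : allBelow (fun k => fs8 (Nat.add (Nat.succ 332276) k)) 276 = true := by decide +kernel
theorem s8c1169 : allBelow (fun k => fs8 (Nat.add (Nat.succ 332552) k)) 275 = true := by decide +kernel
theorem s8c1170 : allBelow (fun k => fs8 (Nat.add (Nat.succ 332827) k)) 273 = true := by decide +kernel
theorem s8c1171 : allBelow (fun k => fs8 (Nat.add (Nat.succ 333100) k)) 278 = true := by decide +kernel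
theorem s8c1172 : allBelow (fun k => fs8 (Nat.add (Nat.succ 333378) k)) 259 = true := by decide +kernel
theorem s8c1173 : allBelow (fun k => fs8 (Nat.add (Nat.succ 333637) k)) 283 = true := by decide +kernel
theorem s8c1174 : allBelow (fun k => fs8 (Nat.add (Nat.succ 333920) k)) 288 = true := by decide +kernel
theorem s8c1175 : allBelow (fun k => fs8 (Nat.add (Nat.succ 334208) k)) 286 = true := by decide +kernel
theorem s8c1176 : allBelow (fun k => fs8 (Nat.add (Nat.succ 334494) k)) 275 = true := by decide +kernel
theorem s8c1177 : allBelow (fun k => fs8 (Nat.add (Nat.succ 334769) k)) 257 = true := by decide +kernel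
theorem s8c1178 : allBelow (fun k => fs8 (Nat.add (Nat.succ 335026) k)) 308 = true := by decide +kernel
theorem s8c1179 : allBelow (fun k => fs8 (Nat.add (Nat.succ 335334) k)) 276 = true := by decide +kernel
theorem s8c1180 : allBelow (fun k => fs8 (Nat.add (Nat.succ 335610) k)) 247 = true := by decide +kernel
theorem s8c1181 : allBelow (fun k => fs8 (Nat.add (Nat.succ 335857) k)) 257 = true := by decide +kernel
theorem s8c1182 : allBelow (fun k => fs8 (Nat.add (Nat.succ 336114) k)) 287 = true := by decide +kernel
theorem s8c1183 : allBelow (fun k => fs8 (Nat.add (Nat.succ 336401) k)) 231 = true := by decide +kernel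
theorem s8c1184 : allBelow (fun k => fs8 (Nat.add (Nat.succ 336632) k)) 227 = true := by decide +kernel
theorem s8c1185 : allBelow (fun k => fs8 (Nat.add (Nat.succ 336859) k)) 226 = true := by decide +kernel
theorem s8c1186 : allBelow (fun k => fs8 (Nat.add (Nat.succ 337085) k)) 240 = true := by decide +kernel
theorem s8c1187 : allBelow (fun k => fs8 (Nat.add (Nat.succ 337325) k)) 234 = true := by decide +kernel
theorem s8c1188 : allBelow (fun k => fs8 (Nat.add (Nat.succ 337559) k)) 232 = true := by decide +kernel
theorem s8c1189 : allBelow (fun k => fs8 (Nat.add (Nat.succ 337791) k)) 234 = true := by decide +kernel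
theorem s8c1190 : allBelow (fun k => fs8 (Nat.add (Nat.succ 338025) k)) 242 = true := by decide +kernel
theorem s8c1191 : allBelow (fun k => fs8 (Nat.add (Nat.succ 338267) k)) 233 = true := by decide +kernel
theorem s8c1192 : allBelow (fun k => fs8 (Nat.add (Nat.succ 338500) k)) 235 = true := by decide +kernel
theorem s8c1193 : allBelow (fun k => fs8 (Nat.add (Nat.succ 338735) k)) 243 = true := by decide +kernel
theorem s8c1194 : allBelow (fun k => fs8 (Nat.add (Nat.succ 338978) k)) 240 = true := by decide +kernel
theorem s8c1195 : allBelow (fun k => fs8 (Nat.add (Nat.succ 339218) k)) 264 = true := by decide +kernel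
theorem s8c1196 : allBelow (fun k => fs8 (Nat.add (Nat.succ 339482) k)) 244 = true := by decide +kernel
theorem s8c1197 : allBelow (fun k => fs8 (Nat.add (Nat.succ 339726) k)) 242 = true := by decide +kernel
theorem s8c1198 : allBelow (fun k => fs8 (Nat.add (Nat.succ 339968) k)) 245 = true := by decide +kernel
theorem s8c1199 : allBelow (fun k => fs8 (Nat.add (Nat.succ 340213) k)) 248 = true := by decide +kernel
theorem s8c1200 : allBelow (fun k => fs8 (Nat.add (Nat.succ 340461) k)) 256 = true := by decide +kernel
theorem s8c1201 : allBelow (fun k => fs8 (Nat.add (Nat.succ 340717) k)) 253 = true := by decide +kernel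
theorem s8c1202 : allBelow (fun k => fs8 (Nat.add (Nat.succ 340970) k)) 261 = true := by decide +kernel
theorem s8c1203 : allBelow (fun k => fs8 (Nat.add (Nat.succ 341231) k)) 251 = true := by decide +kernel
theorem s8c1204 : allBelow (fun k => fs8 (Nat.add (Nat.succ 341482) k)) 252 = true := by decide +kernel
theorem s8c1205 : allBelow (fun k => fs8 (Nat.add (Nat.succ 341734) k)) 309 = true := by decide +kernel
theorem s8c1206 : allBelow (fun k => fs8 (Nat.add (Nat.succ 342043) k)) 275 = true := by decide +kernel
theorem s8c1207 : allBelow (fun k => fs8 (Nat.add (Nat.succ 342318) k)) 259 = true := by decide +kernel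
theorem s8c1208 : allBelow (fun k => fs8 (Nat.add (Nat.succ 342577) k)) 249 = true := by decide +kernel
theorem s8c1209 : allBelow (fun k => fs8 (Nat.add (Nat.succ 342826) k)) 245 = true := by decide +kernel
theorem s8c1210 : allBelow (fun k => fs8 (Nat.add (Nat.succ 343071) k)) 245 = true := by decide +kernel
theorem s8c1211 : allBelow (fun k => fs8 (Nat.add (Nat.succ 343316) k)) 263 = true := by decide +kernel
theorem s8c1212 : allBelow (fun k => fs8 (Nat.add (Nat.succ 343579) k)) 249 = true := by decide +kernel
theorem s8c1213 : allBelow (fun k => fs8 (Nat.add (Nat.succ 343828) k)) 275 = true := by decide +kernel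
theorem s8c1214 : allBelow (fun k => fs8 (Nat.add (Nat.succ 344103) k)) 251 = true := by decide +kernel
theorem s8c1215 : allBelow (fun k => fs8 (Nat.add (Nat.succ 344354) k)) 251 = true := by decide +kernel
theorem s8c1216 : allBelow (fun k => fs8 (Nat.add (Nat.succ 344605) k)) 183 = true := by decide +kernel
theorem s8c1217 : allBelow (fun k => fs8 (Nat.add (Nat.succ 344788) k)) 266 = true := by decide +kernel
theorem s8c1218 : allBelow (fun k => fs8 (Nat.add (Nat.succ 345054) k)) 266 = true := by decide +kernel
theorem s8c1219 : allBelow (fun k => fs8 (Nat.add (Nat.succ 345320) k)) 270 = true := by decide +kernel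
theorem s8c1220 : allBelow (fun k => fs8 (Nat.add (Nat.succ 345590) k)) 294 = true := by decide +kernel
theorem s8c1221 : allBelow (fun k => fs8 (Nat.add (Nat.succ 345884) k)) 256 = true := by decide +kernel
theorem s8c1222 : allBelow (fun k => fs8 (Nat.add (Nat.succ 346140) k)) 301 = true := by decide +kernel
theorem s8c1223 : allBelow (fun k => fs8 (Nat.add (Nat.succ 346441) k)) 203 = true := by decide +kernel
theorem s8c1224 : allBelow (fun k => fs8 (Nat.add (Nat.succ 346644) k)) 254 = true := by decide +kernel
theorem s8c1225 : allBelow (fun k => fs8 (Nat.add (Nat.succ 346898) k)) 274 = true := by decide +kernel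
theorem s8c1226 : allBelow (fun k => fs8 (Nat.add (Nat.succ 347172) k)) 237 = true := by decide +kernel
theorem s8c1227 : allBelow (fun k => fs8 (Nat.add (Nat.succ 347409) k)) 225 = true := by decide +kernel
theorem s8c1228 : allBelow (fun k => fs8 (Nat.add (Nat.succ 347634) k)) 236 = true := by decide +kernel
theorem s8c1229 : allBelow (fun k => fs8 (Nat.add (Nat.succ 347870) k)) 228 = true := by decide +kernel
theorem s8c1230 : allBelow (fun k => fs8 (Nat.add (Nat.succ 348098) k)) 235 = true := by decide +kernel
theorem s8c1231 : allBelow (fun k => fs8 (Nat.add (Nat.succ 348333) k)) 235 = true := by decide +kernel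
theorem s8c1232 : allBelow (fun k => fs8 (Nat.add (Nat.succ 348568) k)) 235 = true := by decide +kernel
theorem s8c1233 : allBelow (fun k => fs8 (Nat.add (Nat.succ 348803) k)) 231 = true := by decide +kernel
theorem s8c1234 : allBelow (fun k => fs8 (Nat.add (Nat.succ 349034) k)) 203 = true := by decide +kernel
theorem s8c1235 : allBelow (fun k => fs8 (Nat.add (Nat.succ 349237) k)) 211 = true := by decide +kernel
theorem s8c1236 : allBelow (fun k => fs8 (Nat.add (Nat.succ 349448) k)) 243 = true := by decide +kernel
theorem s8c1237 : allBelow (fun k => fs8 (Nat.add (Nat.succ 349691) k)) 256 = true := by decide +kernel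
theorem s8c1238 : allBelow (fun k => fs8 (Nat.add (Nat.succ 349947) k)) 244 = true := by decide +kernel
theorem s8c1239 : allBelow (fun k => fs8 (Nat.add (Nat.succ 350191) k)) 194 = true := by decide +kernel
theorem s8c1240 : allBelow (fun k => fs8 (Nat.add (Nat.succ 350385) k)) 289 = true := by decide +kernel
theorem s8c1241 : allBelow (fun k => fs8 (Nat.add (Nat.succ 350674) k)) 251 = true := by decide +kernel
theorem s8c1242 : allBelow (fun k => fs8 (Nat.add (Nat.succ 350925) k)) 210 = true := by decide +kernel
theorem s8c1243 : allBelow (fun k => fs8 (Nat.add (Nat.succ 351135) k)) 252 = true := by decide +kernel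
theorem s8c1244 : allBelow (fun k => fs8 (Nat.add (Nat.succ 351387) k)) 258 = true := by decide +kernel
theorem s8c1245 : allBelow (fun k => fs8 (Nat.add (Nat.succ 351645) k)) 210 = true := by decide +kernel
theorem s8c1246 : allBelow (fun k => fs8 (Nat.add (Nat.succ 351855) k)) 271 = true := by decide +kernel
theorem s8c1247 : allBelow (fun k => fs8 (Nat.add (Nat.succ 352126) k)) 268 = true := by decide +kernel
theorem s8c1248 : allBelow (fun k => fs8 (Nat.add (Nat.succ 352394) k)) 254 = true := by decide +kernel
theorem s8c1249 : allBelow (fun k => fs8 (Nat.add (Nat.succ 352648) k)) 211 = true := by decide +kernel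
theorem s8c1250 : allBelow (fun k => fs8 (Nat.add (Nat.succ 352859) k)) 266 = true := by decide +kernel
theorem s8c1251 : allBelow (fun k => fs8 (Nat.add (Nat.succ 353125) k)) 233 = true := by decide +kernel
theorem s8c1252 : allBelow (fun k => fs8 (Nat.add (Nat.succ 353358) k)) 225 = true := by decide +kernel
theorem s8c1253 : allBelow (fun k => fs8 (Nat.add (Nat.succ 353583) k)) 160 = true := by decide +kernel
theorem s8c1254 : allBelow (fun k => fs8 (Nat.add (Nat.succ 353743) k)) 234 = true := by decide +kernel
theorem s8c1255 : allBelow (fun k => fs8 (Nat.add (Nat.succ 353977) k)) 199 = true := by decide +kernel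
theorem s8c1256 : allBelow (fun k => fs8 (Nat.add (Nat.succ 354176) k)) 153 = true := by decide +kernel
theorem s8c1257 : allBelow (fun k => fs8 (Nat.add (Nat.succ 354329) k)) 211 = true := by decide +kernel
theorem s8c1258 : allBelow (fun k => fs8 (Nat.add (Nat.succ 354540) k)) 257 = true := by decide +kernel
theorem s8c1259 : allBelow (fun k => fs8 (Nat.add (Nat.succ 354797) k)) 265 = true := by decide +kernel
theorem s8c1260 : allBelow (fun k => fs8 (Nat.add (Nat.succ 355062) k)) 242 = true := by decide +kernel
theorem s8c1261 : allBelow (fun k => fs8 (Nat.add (Nat.succ 355304) k)) 219 = true := by decide +kernel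
theorem s8c1262 : allBelow (fun k => fs8 (Nat.add (Nat.succ 355523) k)) 163 = true := by decide +kernel
theorem s8c1263 : allBelow (fun k => fs8 (Nat.add (Nat.succ 355686) k)) 265 = true := by decide +kernel
theorem s8c1264 : allBelow (fun k => fs8 (Nat.add (Nat.succ 355951) k)) 202 = true := by decide +kernel
theorem s8c1265 : allBelow (fun k => fs8 (Nat.add (Nat.succ 356153) k)) 161 = true := by decide +kernel
theorem s8c1266 : allBelow (fun k => fs8 (Nat.add (Nat.succ 356314) k)) 243 = true := by decide +kernel
theorem s8c1267 : allBelow (fun k => fs8 (Nat.add (Nat.succ 356557) k)) 193 = true := by decide +kernel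
theorem s8c1268 : allBelow (fun k => fs8 (Nat.add (Nat.succ 356750) k)) 172 = true := by decide +kernel
theorem s8c1269 : allBelow (fun k => fs8 (Nat.add (Nat.succ 356922) k)) 250 = true := by decide +kernel
theorem s8c1270 : allBelow (fun k => fs8 (Nat.add (Nat.succ 357172) k)) 172 = true := by decide +kernel
theorem s8c1271 : allBelow (fun k => fs8 (Nat.add (Nat.succ 357344) k)) 121 = true := by decide +kernel
theorem s9c0 : allBelow (fun k => fs9 (Nat.add (Nat.succ 0) k)) 249 = true := by decide +kernel
theorem s9c1 : allBelow (fun k => fs9 (Nat.add (Nat.succ 249) k)) 282 = true := by decide +kernel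
theorem s9c2 : allBelow (fun k => fs9 (Nat.add (Nat.succ 531) k)) 265 = true := by decide +kernel
theorem s9c3 : allBelow (fun k => fs9 (Nat.add (Nat.succ 796) k)) 267 = true := by decide +kernel
theorem s9c4 : allBelow (fun k => fs9 (Nat.add (Nat.succ 1063) k)) 260 = true := by decide +kernel
theorem s9c5 : allBelow (fun k => fs9 (Nat.add (Nat.succ 1323) k)) 270 = true := by decide +kernel
theorem s9c6 : allBelow (fun k => fs9 (Nat.add (Nat.succ 1593) k)) 282 = true := by decide +kernel
theorem s9c7 : allBelow (fun k => fs9 (Nat.add (Nat.succ 1875) k)) 266 = true := by decide +kernel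
theorem s9c8 : allBelow (fun k => fs9 (Nat.add (Nat.succ 2141) k)) 268 = true := by decide +kernel
theorem s9c9 : allBelow (fun k => fs9 (Nat.add (Nat.succ 2409) k)) 299 = true := by decide +kernel
theorem s9c10 : allBelow (fun k => fs9 (Nat.add (Nat.succ 2708) k)) 256 = true := by decide +kernel
theorem s9c11 : allBelow (fun k => fs9 (Nat.add (Nat.succ 2964) k)) 286 = true := by decide +kernel
theorem s9c12 : allBelow (fun k => fs9 (Nat.add (Nat.succ 3250) k)) 304 = true := by decide +kernel
theorem s9c13 : allBelow (fun k => fs9 (Nat.add (Nat.succ 3554) k)) 266 = true := by decide +kernel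
theorem s9c14 : allBelow (fun k => fs9 (Nat.add (Nat.succ 3820) k)) 271 = true := by decide +kernel
theorem s9c15 : allBelow (fun k => fs9 (Nat.add (Nat.succ 4091) k)) 314 = true := by decide +kernel
theorem s9c16 : allBelow (fun k => fs9 (Nat.add (Nat.succ 4405) k)) 260 = true := by decide +kernel
theorem s9c17 : allBelow (fun k => fs9 (Nat.add (Nat.succ 4665) k)) 343 = true := by decide +kernel
theorem s9c18 : allBelow (fun k => fs9 (Nat.add (Nat.succ 5008) k)) 266 = true := by decide +kernel
theorem s9c19 : allBelow (fun k => fs9 (Nat.add (Nat.succ 5274) k)) 295 = true := by decide +kernel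
theorem s9c20 : allBelow (fun k => fs9 (Nat.add (Nat.succ 5569) k)) 296 = true := by decide +kernel
theorem s9c21 : allBelow (fun k => fs9 (Nat.add (Nat.succ 5865) k)) 304 = true := by decide +kernel
theorem s9c22 : allBelow (fun k => fs9 (Nat.add (Nat.succ 6169) k)) 253 = true := by decide +kernel
theorem s9c23 : allBelow (fun k => fs9 (Nat.add (Nat.succ 6422) k)) 340 = true := by decide +kernel
theorem s9c24 : allBelow (fun k => fs9 (Nat.add (Nat.succ 6762) k)) 351 = true := by decide +kernel
theorem s9c25 : allBelow (fun k => fs9 (Nat.add (Nat.succ 7113) k)) 263 = true := by decide +kernel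
theorem s9c26 : allBelow (fun k => fs9 (Nat.add (Nat.succ 7376) k)) 310 = true := by decide +kernel
theorem s9c27 : allBelow (fun k => fs9 (Nat.add (Nat.succ 7686) k)) 267 = true := by decide +kernel
theorem s9c28 : allBelow (fun k => fs9 (Nat.add (Nat.succ 7953) k)) 369 = true := by decide +kernel
theorem s9c29 : allBelow (fun k => fs9 (Nat.add (Nat.succ 8322) k)) 259 = true := by decide +kernel
theorem s9c30 : allBelow (fun k => fs9 (Nat.add (Nat.succ 8581) k)) 256 = true := by decide +kernel
theorem s9c31 : allBelow (fun k => fs9 (Nat.add (Nat.succ 8837) k)) 343 = true := by decide +kernel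
theorem s9c32 : allBelow (fun k => fs9 (Nat.add (Nat.succ 9180) k)) 408 = true := by decide +kernel
theorem s9c33 : allBelow (fun k => fs9 (Nat.add (Nat.succ 9588) k)) 297 = true := by decide +kernel
theorem s9c34 : allBelow (fun k => fs9 (Nat.add (Nat.succ 9885) k)) 276 = true := by decide +kernel
theorem s9c35 : allBelow (fun k => fs9 (Nat.add (Nat.succ 10161) k)) 318 = true := by decide +kernel
theorem s9c36 : allBelow (fun k => fs9 (Nat.add (Nat.succ 10479) k)) 247 = true := by decide +kernel
theorem s9c37 : allBelow (fun k => fs9 (Nat.add (Nat.succ 10726) k)) 299 = true := by decide +kernel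
theorem s9c38 : allBelow (fun k => fs9 (Nat.add (Nat.succ 11025) k)) 294 = true := by decide +kernel
theorem s9c39 : allBelow (fun k => fs9 (Nat.add (Nat.succ 11319) k)) 251 = true := by decide +kernel
theorem s9c40 : allBelow (fun k => fs9 (Nat.add (Nat.succ 11570) k)) 260 = true := by decide +kernel
theorem s9c41 : allBelow (fun k => fs9 (Nat.add (Nat.succ 11830) k)) 301 = true := by decide +kernel
theorem s9c42 : allBelow (fun k => fs9 (Nat.add (Nat.succ 12131) k)) 345 = true := by decide +kernel
theorem s9c43 : allBelow (fun k => fs9 (Nat.add (Nat.succ 12476) k)) 300 = true := by decide +kernel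
theorem s9c44 : allBelow (fun k => fs9 (Nat.add (Nat.succ 12776) k)) 253 = true := by decide +kernel
theorem s9c45 : allBelow (fun k => fs9 (Nat.add (Nat.succ 13029) k)) 336 = true := by decide +kernel
theorem s9c46 : allBelow (fun k => fs9 (Nat.add (Nat.succ 13365) k)) 246 = true := by decide +kernel
theorem s9c47 : allBelow (fun k => fs9 (Nat.add (Nat.succ 13611) k)) 260 = true := by decide +kernel
theorem s9c48 : allBelow (fun k => fs9 (Nat.add (Nat.succ 13871) k)) 291 = true := by decide +kernel
theorem s9c49 : allBelow (fun k => fs9 (Nat.add (Nat.succ 14162) k)) 348 = true := by decide +kernel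
theorem s9c50 : allBelow (fun k => fs9 (Nat.add (Nat.succ 14510) k)) 248 = true := by decide +kernel
theorem s9c51 : allBelow (fun k => fs9 (Nat.add (Nat.succ 14758) k)) 258 = true := by decide +kernel
theorem s9c52 : allBelow (fun k => fs9 (Nat.add (Nat.succ 15016) k)) 267 = true := by decide +kernel
theorem s9c53 : allBelow (fun k => fs9 (Nat.add (Nat.succ 15283) k)) 269 = true := by decide +kernel
theorem s9c54 : allBelow (fun k => fs9 (Nat.add (Nat.succ 15552) k)) 331 = true := by decide +kernel
theorem s9c55 : allBelow (fun k => fs9 (Nat.add (Nat.succ 15883) k)) 356 = true := by decide +kernel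
theorem s9c56 : allBelow (fun k => fs9 (Nat.add (Nat.succ 16239) k)) 343 = true := by decide +kernel
theorem s9c57 : allBelow (fun k => fs9 (Nat.add (Nat.succ 16582) k)) 251 = true := by decide +kernel
theorem s9c58 : allBelow (fun k => fs9 (Nat.add (Nat.succ 16833) k)) 301 = true := by decide +kernel
theorem s9c59 : allBelow (fun k => fs9 (Nat.add (Nat.succ 17134) k)) 350 = true := by decide +kernel
theorem s9c60 : allBelow (fun k => fs9 (Nat.add (Nat.succ 17484) k)) 245 = true := by decide +kernel
theorem s9c61 : allBelow (fun k => fs9 (Nat.add (Nat.succ 17729) k)) 251 = true := by decide +kernel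
theorem s9c62 : allBelow (fun k => fs9 (Nat.add (Nat.succ 17980) k)) 286 = true := by decide +kernel
theorem s9c63 : allBelow (fun k => fs9 (Nat.add (Nat.succ 18266) k)) 309 = true := by decide +kernel
theorem s9c64 : allBelow (fun k => fs9 (Nat.add (Nat.succ 18575) k)) 351 = true := by decide +kernel
theorem s9c65 : allBelow (fun k => fs9 (Nat.add (Nat.succ 18926) k)) 286 = true := by decide +kernel
theorem s9c66 : allBelow (fun k => fs9 (Nat.add (Nat.succ 19212) k)) 261 = true := by decide +kernel
theorem s9c67 : allBelow (fun k => fs9 (Nat.add (Nat.succ 19473) k)) 263 = true := by decide +kernel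
theorem s9c68 : allBelow (fun k => fs9 (Nat.add (Nat.succ 19736) k)) 276 = true := by decide +kernel
theorem s9c69 : allBelow (fun k => fs9 (Nat.add (Nat.succ 20012) k)) 276 = true := by decide +kernel
theorem s9c70 : allBelow (fun k => fs9 (Nat.add (Nat.succ 20288) k)) 301 = true := by decide +kernel
theorem s9c71 : allBelow (fun k => fs9 (Nat.add (Nat.succ 20589) k)) 330 = true := by decide +kernel
theorem s9c72 : allBelow (fun k => fs9 (Nat.add (Nat.succ 20919) k)) 359 = true := by decide +kernel
theorem s9c73 : allBelow (fun k => fs9 (Nat.add (Nat.succ 21278) k)) 361 = true := by decide +kernel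
theorem s9c74 : allBelow (fun k => fs9 (Nat.add (Nat.succ 21639) k)) 335 = true := by decide +kernel
theorem s9c75 : allBelow (fun k => fs9 (Nat.add (Nat.succ 21974) k)) 250 = true := by decide +kernel
theorem s9c76 : allBelow (fun k => fs9 (Nat.add (Nat.succ 22224) k)) 311 = true := by decide +kernel
theorem s9c77 : allBelow (fun k => fs9 (Nat.add (Nat.succ 22535) k)) 356 = true := by decide +kernel
theorem s9c78 : allBelow (fun k => fs9 (Nat.add (Nat.succ 22891) k)) 315 = true := by decide +kernel
theorem s9c79 : allBelow (fun k => fs9 (Nat.add (Nat.succ 23206) k)) 262 = true := by decide +kernel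
theorem s9c80 : allBelow (fun k => fs9 (Nat.add (Nat.succ 23468) k)) 256 = true := by decide +kernel
theorem s9c81 : allBelow (fun k => fs9 (Nat.add (Nat.succ 23724) k)) 290 = true := by decide +kernel
theorem s9c82 : allBelow (fun k => fs9 (Nat.add (Nat.succ 24014) k)) 287 = true := by decide +kernel
theorem s9c83 : allBelow (fun k => fs9 (Nat.add (Nat.succ 24301) k)) 324 = true := by decide +kernel
theorem s9c84 : allBelow (fun k => fs9 (Nat.add (Nat.succ 24625) k)) 350 = true := by decide +kernel
theorem s9c85 : allBelow (fun k => fs9 (Nat.add (Nat.succ 24975) k)) 351 = true := by decide +kernel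
theorem s9c86 : allBelow (fun k => fs9 (Nat.add (Nat.succ 25326) k)) 255 = true := by decide +kernel
theorem s9c87 : allBelow (fun k => fs9 (Nat.add (Nat.succ 25581) k)) 267 = true := by decide +kernel
theorem s9c88 : allBelow (fun k => fs9 (Nat.add (Nat.succ 25848) k)) 264 = true := by decide +kernel
theorem s9c89 : allBelow (fun k => fs9 (Nat.add (Nat.succ 26112) k)) 263 = true := by decide +kernel
theorem s9c90 : allBelow (fun k => fs9 (Nat.add (Nat.succ 26375) k)) 293 = true := by decide +kernel
theorem s9c91 : allBelow (fun k => fs9 (Nat.add (Nat.succ 26668) k)) 283 = true := by decide +kernel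
theorem s9c92 : allBelow (fun k => fs9 (Nat.add (Nat.succ 26951) k)) 290 = true := by decide +kernel
theorem s9c93 : allBelow (fun k => fs9 (Nat.add (Nat.succ 27241) k)) 356 = true := by decide +kernel
theorem s9c94 : allBelow (fun k => fs9 (Nat.add (Nat.succ 27597) k)) 328 = true := by decide +kernel
theorem s9c95 : allBelow (fun k => fs9 (Nat.add (Nat.succ 27925) k)) 359 = true := by decide +kernel
theorem s9c96 : allBelow (fun k => fs9 (Nat.add (Nat.succ 28284) k)) 385 = true := by decide +kernel
theorem s9c97 : allBelow (fun k => fs9 (Nat.add (Nat.succ 28669) k)) 392 = true := by decide +kernel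
theorem s9c98 : allBelow (fun k => fs9 (Nat.add (Nat.succ 29061) k)) 301 = true := by decide +kernel
theorem s9c99 : allBelow (fun k => fs9 (Nat.add (Nat.succ 29362) k)) 262 = true := by decide +kernel
theorem s9c100 : allBelow (fun k => fs9 (Nat.add (Nat.succ 29624) k)) 301 = true := by decide +kernel
theorem s9c101 : allBelow (fun k => fs9 (Nat.add (Nat.succ 29925) k)) 350 = true := by decide +kernel
theorem s9c102 : allBelow (fun k => fs9 (Nat.add (Nat.succ 30275) k)) 379 = true := by decide +kernel
theorem s9c103 : allBelow (fun k => fs9 (Nat.add (Nat.succ 30654) k)) 322 = true := by decide +kernel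
theorem s9c104 : allBelow (fun k => fs9 (Nat.add (Nat.succ 30976) k)) 246 = true := by decide +kernel
theorem s9c105 : allBelow (fun k => fs9 (Nat.add (Nat.succ 31222) k)) 278 = true := by decide +kernel
theorem s9c106 : allBelow (fun k => fs9 (Nat.add (Nat.succ 31500) k)) 254 = true := by decide +kernel
theorem s9c107 : allBelow (fun k => fs9 (Nat.add (Nat.succ 31754) k)) 274 = true := by decide +kernel
theorem s9c108 : allBelow (fun k => fs9 (Nat.add (Nat.succ 32028) k)) 323 = true := by decide +kernel
theorem s9c109 : allBelow (fun k => fs9 (Nat.add (Nat.succ 32351) k)) 296 = true := by decide +kernel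
theorem s9c110 : allBelow (fun k => fs9 (Nat.add (Nat.succ 32647) k)) 351 = true := by decide +kernel
theorem s9c111 : allBelow (fun k => fs9 (Nat.add (Nat.succ 32998) k)) 335 = true := by decide +kernel
theorem s9c112 : allBelow (fun k => fs9 (Nat.add (Nat.succ 33333) k)) 400 = true := by decide +kernel
theorem s9c113 : allBelow (fun k => fs9 (Nat.add (Nat.succ 33733) k)) 322 = true := by decide +kernel
theorem s9c114 : allBelow (fun k => fs9 (Nat.add (Nat.succ 34055) k)) 260 = true := by decide +kernel
theorem s9c115 : allBelow (fun k => fs9 (Nat.add (Nat.succ 34315) k)) 279 = true := by decide +kernel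
theorem s9c116 : allBelow (fun k => fs9 (Nat.add (Nat.succ 34594) k)) 275 = true := by decide +kernel
theorem s9c117 : allBelow (fun k => fs9 (Nat.add (Nat.succ 34869) k)) 264 = true := by decide +kernel
theorem s9c118 : allBelow (fun k => fs9 (Nat.add (Nat.succ 35133) k)) 262 = true := by decide +kernel

end Cfsg.Agent.Lib.Helper35.Fi24a
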