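import Cfsg.Agent.Lib.Helper35.Fi24a.Data

set_option Elab.async false

namespace Cfsg.Agent.Lib.Helper35.Fi24a

open Cfsg.Agent.Lib.Helper35

theorem s9c119 : allBelow (fun k => fs9 (Nat.add (Nat.succ 35395) k)) 268 = true := by decide +kernel
theorem s9c120 : allBelow (fun k => fs9 (Nat.add (Nat.succ 35663) k)) 318 = true := by decide +kernel
theorem s9c121 : allBelow (fun k => fs9 (Nat.add (Nat.succ 35981) k)) 296 = true := by decide +kernel
theorem s9c122 : allBelow (fun k => fs9 (Nat.add (Nat.succ 36277) k)) 286 = true := by decide +kernel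
theorem s9c123 : allBelow (fun k => fs9 (Nat.add (Nat.succ 36563) k)) 366 = true := by decide +kernel
theorem s9c124 : allBelow (fun k => fs9 (Nat.add (Nat.succ 36929) k)) 359 = true := by decide +kernel
theorem s9c125 : allBelow (fun k => fs9 (Nat.add (Nat.succ 37288) k)) 334 = true := by decide +kernel
theorem s9c126 : allBelow (fun k => fs9 (Nat.add (Nat.succ 37622) k)) 334 = true := by decide +kernel
theorem s9c127 : allBelow (fun k => fs9 (Nat.add (Nat.succ 37956) k)) 407 = true := by decide +kernel
theorem s9c128 : allBelow (fun k => fs9 (Nat.add (Nat.succ 38363) k)) 404 = true := by decide +kernel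
theorem s9c129 : allBelow (fun k => fs9 (Nat.add (Nat.succ 38767) k)) 382 = true := by decide +kernel
theorem s9c130 : allBelow (fun k => fs9 (Nat.add (Nat.succ 39149) k)) 314 = true := by decide +kernel
theorem s9c131 : allBelow (fun k => fs9 (Nat.add (Nat.succ 39463) k)) 290 = true := by decide +kernel
theorem s9c132 : allBelow (fun k => fs9 (Nat.add (Nat.succ 39753) k)) 271 = true := by decide +kernel
theorem s9c133 : allBelow (fun k => fs9 (Nat.add (Nat.succ 40024) k)) 329 = true := by decide +kernel
theorem s9c134 : allBelow (fun k => fs9 (Nat.add (Nat.succ 40353) k)) 358 = true := by decide +kernel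
theorem s9c135 : allBelow (fun k => fs9 (Nat.add (Nat.succ 40711) k)) 394 = true := by decide +kernel
theorem s9c136 : allBelow (fun k => fs9 (Nat.add (Nat.succ 41105) k)) 414 = true := by decide +kernel
theorem s9c137 : allBelow (fun k => fs9 (Nat.add (Nat.succ 41519) k)) 283 = true := by decide +kernel
theorem s9c138 : allBelow (fun k => fs9 (Nat.add (Nat.succ 41802) k)) 259 = true := by decide +kernel
theorem s9c139 : allBelow (fun k => fs9 (Nat.add (Nat.succ 42061) k)) 280 = true := by decide +kernel
theorem s9c140 : allBelow (fun k => fs9 (Nat.add (Nat.succ 42341) k)) 277 = true := by decide +kernel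
theorem s9c141 : allBelow (fun k => fs9 (Nat.add (Nat.succ 42618) k)) 256 = true := by decide +kernel
theorem s9c142 : allBelow (fun k => fs9 (Nat.add (Nat.succ 42874) k)) 267 = true := by decide +kernel
theorem s9c143 : allBelow (fun k => fs9 (Nat.add (Nat.succ 43141) k)) 341 = true := by decide +kernel
theorem s9c144 : allBelow (fun k => fs9 (Nat.add (Nat.succ 43482) k)) 322 = true := by decide +kernel
theorem s9c145 : allBelow (fun k => fs9 (Nat.add (Nat.succ 43804) k)) 313 = true := by decide +kernel
theorem s9c146 : allBelow (fun k => fs9 (Nat.add (Nat.succ 44117) k)) 367 = true := by decide +kernel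
theorem s9c147 : allBelow (fun k => fs9 (Nat.add (Nat.succ 44484) k)) 360 = true := by decide +kernel
theorem s9c148 : allBelow (fun k => fs9 (Nat.add (Nat.succ 44844) k)) 349 = true := by decide +kernel
theorem s9c149 : allBelow (fun k => fs9 (Nat.add (Nat.succ 45193) k)) 417 = true := by decide +kernel
theorem s9c150 : allBelow (fun k => fs9 (Nat.add (Nat.succ 45610) k)) 359 = true := by decide +kernel
theorem s9c151 : allBelow (fun k => fs9 (Nat.add (Nat.succ 45969) k)) 270 = true := by decide +kernel
theorem s9c152 : allBelow (fun k => fs9 (Nat.add (Nat.succ 46239) k)) 254 = true := by decide +kernel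
theorem s9c153 : allBelow (fun k => fs9 (Nat.add (Nat.succ 46493) k)) 299 = true := by decide +kernel
theorem s9c154 : allBelow (fun k => fs9 (Nat.add (Nat.succ 46792) k)) 269 = true := by decide +kernel
theorem s9c155 : allBelow (fun k => fs9 (Nat.add (Nat.succ 47061) k)) 293 = true := by decide +kernel
theorem s9c156 : allBelow (fun k => fs9 (Nat.add (Nat.succ 47354) k)) 261 = true := by decide +kernel
theorem s9c157 : allBelow (fun k => fs9 (Nat.add (Nat.succ 47615) k)) 262 = true := by decide +kernel
theorem s9c158 : allBelow (fun k => fs9 (Nat.add (Nat.succ 47877) k)) 270 = true := by decide +kernel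
theorem s9c159 : allBelow (fun k => fs9 (Nat.add (Nat.succ 48147) k)) 284 = true := by decide +kernel
theorem s9c160 : allBelow (fun k => fs9 (Nat.add (Nat.succ 48431) k)) 348 = true := by decide +kernel
theorem s9c161 : allBelow (fun k => fs9 (Nat.add (Nat.succ 48779) k)) 308 = true := by decide +kernel
theorem s9c162 : allBelow (fun k => fs9 (Nat.add (Nat.succ 49087) k)) 301 = true := by decide +kernel
theorem s9c163 : allBelow (fun k => fs9 (Nat.add (Nat.succ 49388) k)) 292 = true := by decide +kernel
theorem s9c164 : allBelow (fun k => fs9 (Nat.add (Nat.succ 49680) k)) 386 = true := by decide +kernel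
theorem s9c165 : allBelow (fun k => fs9 (Nat.add (Nat.succ 50066) k)) 405 = true := by decide +kernel
theorem s9c166 : allBelow (fun k => fs9 (Nat.add (Nat.succ 50471) k)) 373 = true := by decide +kernel
theorem s9c167 : allBelow (fun k => fs9 (Nat.add (Nat.succ 50844) k)) 318 = true := by decide +kernel
theorem s9c168 : allBelow (fun k => fs9 (Nat.add (Nat.succ 51162) k)) 357 = true := by decide +kernel
theorem s9c169 : allBelow (fun k => fs9 (Nat.add (Nat.succ 51519) k)) 429 = true := by decide +kernel
theorem s9c170 : allBelow (fun k => fs9 (Nat.add (Nat.succ 51948) k)) 396 = true := by decide +kernel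
theorem s9c171 : allBelow (fun k => fs9 (Nat.add (Nat.succ 52344) k)) 414 = true := by decide +kernel
theorem s9c172 : allBelow (fun k => fs9 (Nat.add (Nat.succ 52758) k)) 421 = true := by decide +kernel
theorem s9c173 : allBelow (fun k => fs9 (Nat.add (Nat.succ 53179) k)) 279 = true := by decide +kernel
theorem s9c174 : allBelow (fun k => fs9 (Nat.add (Nat.succ 53458) k)) 315 = true := by decide +kernel
theorem s9c175 : allBelow (fun k => fs9 (Nat.add (Nat.succ 53773) k)) 287 = true := by decide +kernel
theorem s9c176 : allBelow (fun k => fs9 (Nat.add (Nat.succ 54060) k)) 339 = true := by decide +kernel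
theorem s9c177 : allBelow (fun k => fs9 (Nat.add (Nat.succ 54399) k)) 363 = true := by decide +kernel
theorem s9c178 : allBelow (fun k => fs9 (Nat.add (Nat.succ 54762) k)) 403 = true := by decide +kernel
theorem s9c179 : allBelow (fun k => fs9 (Nat.add (Nat.succ 55165) k)) 413 = true := by decide +kernel
theorem s9c180 : allBelow (fun k => fs9 (Nat.add (Nat.succ 55578) k)) 440 = true := by decide +kernel
theorem s9c181 : allBelow (fun k => fs9 (Nat.add (Nat.succ 56018) k)) 347 = true := by decide +kernel
theorem s9c182 : allBelow (fun k => fs9 (Nat.add (Nat.succ 56365) k)) 232 = true := by decide +kernel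
theorem s9c183 : allBelow (fun k => fs9 (Nat.add (Nat.succ 56597) k)) 286 = true := by decide +kernel
theorem s9c184 : allBelow (fun k => fs9 (Nat.add (Nat.succ 56883) k)) 254 = true := by decide +kernel
theorem s9c185 : allBelow (fun k => fs9 (Nat.add (Nat.succ 57137) k)) 322 = true := by decide +kernel
theorem s9c186 : allBelow (fun k => fs9 (Nat.add (Nat.succ 57459) k)) 271 = true := by decide +kernel
theorem s9c187 : allBelow (fun k => fs9 (Nat.add (Nat.succ 57730) k)) 268 = true := by decide +kernel
theorem s9c188 : allBelow (fun k => fs9 (Nat.add (Nat.succ 57998) k)) 269 = true := by decide +kernel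
theorem s9c189 : allBelow (fun k => fs9 (Nat.add (Nat.succ 58267) k)) 264 = true := by decide +kernel
theorem s9c190 : allBelow (fun k => fs9 (Nat.add (Nat.succ 58531) k)) 391 = true := by decide +kernel
theorem s9c191 : allBelow (fun k => fs9 (Nat.add (Nat.succ 58922) k)) 348 = true := by decide +kernel
theorem s9c192 : allBelow (fun k => fs9 (Nat.add (Nat.succ 59270) k)) 299 = true := by decide +kernel
theorem s9c193 : allBelow (fun k => fs9 (Nat.add (Nat.succ 59569) k)) 423 = true := by decide +kernel
theorem s9c194 : allBelow (fun k => fs9 (Nat.add (Nat.succ 59992) k)) 352 = true := by decide +kernel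
theorem s9c195 : allBelow (fun k => fs9 (Nat.add (Nat.succ 60344) k)) 375 = true := by decide +kernel
theorem s9c196 : allBelow (fun k => fs9 (Nat.add (Nat.succ 60719) k)) 369 = true := by decide +kernel
theorem s9c197 : allBelow (fun k => fs9 (Nat.add (Nat.succ 61088) k)) 444 = true := by decide +kernel
theorem s9c198 : allBelow (fun k => fs9 (Nat.add (Nat.succ 61532) k)) 424 = true := by decide +kernel
theorem s9c199 : allBelow (fun k => fs9 (Nat.add (Nat.succ 61956) k)) 276 = true := by decide +kernel
theorem s9c200 : allBelow (fun k => fs9 (Nat.add (Nat.succ 62232) k)) 291 = true := by decide +kernel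
theorem s9c201 : allBelow (fun k => fs9 (Nat.add (Nat.succ 62523) k)) 259 = true := by decide +kernel
theorem s9c202 : allBelow (fun k => fs9 (Nat.add (Nat.succ 62782) k)) 315 = true := by decide +kernel
theorem s9c203 : allBelow (fun k => fs9 (Nat.add (Nat.succ 63097) k)) 263 = true := by decide +kernel
theorem s9c204 : allBelow (fun k => fs9 (Nat.add (Nat.succ 63360) k)) 268 = true := by decide +kernel
theorem s9c205 : allBelow (fun k => fs9 (Nat.add (Nat.succ 63628) k)) 314 = true := by decide +kernel
theorem s9c206 : allBelow (fun k => fs9 (Nat.add (Nat.succ 63942) k)) 288 = true := by decide +kernel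
theorem s9c207 : allBelow (fun k => fs9 (Nat.add (Nat.succ 64230) k)) 264 = true := by decide +kernel
theorem s9c208 : allBelow (fun k => fs9 (Nat.add (Nat.succ 64494) k)) 260 = true := by decide +kernel
theorem s9c209 : allBelow (fun k => fs9 (Nat.add (Nat.succ 64754) k)) 273 = true := by decide +kernel
theorem s9c210 : allBelow (fun k => fs9 (Nat.add (Nat.succ 65027) k)) 294 = true := by decide +kernel
theorem s9c211 : allBelow (fun k => fs9 (Nat.add (Nat.succ 65321) k)) 303 = true := by decide +kernel
theorem s9c212 : allBelow (fun k => fs9 (Nat.add (Nat.succ 65624) k)) 386 = true := by decide +kernel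
theorem s9c213 : allBelow (fun k => fs9 (Nat.add (Nat.succ 66010) k)) 317 = true := by decide +kernel
theorem s9c214 : allBelow (fun k => fs9 (Nat.add (Nat.succ 66327) k)) 307 = true := by decide +kernel
theorem s9c215 : allBelow (fun k => fs9 (Nat.add (Nat.succ 66634) k)) 330 = true := by decide +kernel
theorem s9c216 : allBelow (fun k => fs9 (Nat.add (Nat.succ 66964) k)) 311 = true := by decide +kernel
theorem s9c217 : allBelow (fun k => fs9 (Nat.add (Nat.succ 67275) k)) 420 = true := by decide +kernel
theorem s9c218 : allBelow (fun k => fs9 (Nat.add (Nat.succ 67695) k)) 447 = true := by decide +kernel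
theorem s9c219 : allBelow (fun k => fs9 (Nat.add (Nat.succ 68142) k)) 369 = true := by decide +kernel
theorem s9c220 : allBelow (fun k => fs9 (Nat.add (Nat.succ 68511) k)) 376 = true := by decide +kernel
theorem s9c221 : allBelow (fun k => fs9 (Nat.add (Nat.succ 68887) k)) 323 = true := by decide +kernel
theorem s9c222 : allBelow (fun k => fs9 (Nat.add (Nat.succ 69210) k)) 366 = true := by decide +kernel
theorem s9c223 : allBelow (fun k => fs9 (Nat.add (Nat.succ 69576) k)) 457 = true := by decide +kernel
theorem s9c224 : allBelow (fun k => fs9 (Nat.add (Nat.succ 70033) k)) 401 = true := by decide +kernel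
theorem s9c225 : allBelow (fun k => fs9 (Nat.add (Nat.succ 70434) k)) 464 = true := by decide +kernel
theorem s9c226 : allBelow (fun k => fs9 (Nat.add (Nat.succ 70898) k)) 442 = true := by decide +kernel
theorem s9c227 : allBelow (fun k => fs9 (Nat.add (Nat.succ 71340) k)) 314 = true := by decide +kernel
theorem s9c228 : allBelow (fun k => fs9 (Nat.add (Nat.succ 71654) k)) 311 = true := by decide +kernel
theorem s9c229 : allBelow (fun k => fs9 (Nat.add (Nat.succ 71965) k)) 320 = true := by decide +kernel
theorem s9c230 : allBelow (fun k => fs9 (Nat.add (Nat.succ 72285) k)) 303 = true := by decide +kernel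
theorem s9c231 : allBelow (fun k => fs9 (Nat.add (Nat.succ 72588) k)) 294 = true := by decide +kernel
theorem s9c232 : allBelow (fun k => fs9 (Nat.add (Nat.succ 72882) k)) 406 = true := by decide +kernel
theorem s9c233 : allBelow (fun k => fs9 (Nat.add (Nat.succ 73288) k)) 395 = true := by decide +kernel
theorem s9c234 : allBelow (fun k => fs9 (Nat.add (Nat.succ 73683) k)) 441 = true := by decide +kernel
theorem s9c235 : allBelow (fun k => fs9 (Nat.add (Nat.succ 74124) k)) 444 = true := by decide +kernel
theorem s9c236 : allBelow (fun k => fs9 (Nat.add (Nat.succ 74568) k)) 499 = true := by decide +kernel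
theorem s9c237 : allBelow (fun k => fs9 (Nat.add (Nat.succ 75067) k)) 388 = true := by decide +kernel
theorem s9c238 : allBelow (fun k => fs9 (Nat.add (Nat.succ 75455) k)) 229 = true := by decide +kernel
theorem s9c239 : allBelow (fun k => fs9 (Nat.add (Nat.succ 75684) k)) 245 = true := by decide +kernel
theorem s9c240 : allBelow (fun k => fs9 (Nat.add (Nat.succ 75929) k)) 312 = true := by decide +kernel
theorem s9c241 : allBelow (fun k => fs9 (Nat.add (Nat.succ 76241) k)) 259 = true := by decide +kernel
theorem s9c242 : allBelow (fun k => fs9 (Nat.add (Nat.succ 76500) k)) 300 = true := by decide +kernel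
theorem s9c243 : allBelow (fun k => fs9 (Nat.add (Nat.succ 76800) k)) 318 = true := by decide +kernel
theorem s9c244 : allBelow (fun k => fs9 (Nat.add (Nat.succ 77118) k)) 280 = true := by decide +kernel
theorem s9c245 : allBelow (fun k => fs9 (Nat.add (Nat.succ 77398) k)) 282 = true := by decide +kernel
theorem s9c246 : allBelow (fun k => fs9 (Nat.add (Nat.succ 77680) k)) 272 = true := by decide +kernel
theorem s9c247 : allBelow (fun k => fs9 (Nat.add (Nat.succ 77952) k)) 282 = true := by decide +kernel
theorem s9c248 : allBelow (fun k => fs9 (Nat.add (Nat.succ 78234) k)) 281 = true := by decide +kernel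
theorem s9c249 : allBelow (fun k => fs9 (Nat.add (Nat.succ 78515) k)) 401 = true := by decide +kernel
theorem s9c250 : allBelow (fun k => fs9 (Nat.add (Nat.succ 78916) k)) 323 = true := by decide +kernel
theorem s9c251 : allBelow (fun k => fs9 (Nat.add (Nat.succ 79239) k)) 382 = true := by decide +kernel
theorem s9c252 : allBelow (fun k => fs9 (Nat.add (Nat.succ 79621) k)) 335 = true := by decide +kernel
theorem s9c253 : allBelow (fun k => fs9 (Nat.add (Nat.succ 79956) k)) 449 = true := by decide +kernel
theorem s9c254 : allBelow (fun k => fs9 (Nat.add (Nat.succ 80405) k)) 363 = true := by decide +kernel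
theorem s9c255 : allBelow (fun k => fs9 (Nat.add (Nat.succ 80768) k)) 384 = true := by decide +kernel
theorem s9c256 : allBelow (fun k => fs9 (Nat.add (Nat.succ 81152) k)) 383 = true := by decide +kernel
theorem s9c257 : allBelow (fun k => fs9 (Nat.add (Nat.succ 81535) k)) 422 = true := by decide +kernel
theorem s9c258 : allBelow (fun k => fs9 (Nat.add (Nat.succ 81957) k)) 471 = true := by decide +kernel
theorem s9c259 : allBelow (fun k => fs9 (Nat.add (Nat.succ 82428) k)) 413 = true := by decide +kernel
theorem s9c260 : allBelow (fun k => fs9 (Nat.add (Nat.succ 82841) k)) 273 = true := by decide +kernel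
theorem s9c261 : allBelow (fun k => fs9 (Nat.add (Nat.succ 83114) k)) 318 = true := by decide +kernel
theorem s9c262 : allBelow (fun k => fs9 (Nat.add (Nat.succ 83432) k)) 262 = true := by decide +kernel
theorem s9c263 : allBelow (fun k => fs9 (Nat.add (Nat.succ 83694) k)) 272 = true := by decide +kernel
theorem s9c264 : allBelow (fun k => fs9 (Nat.add (Nat.succ 83966) k)) 343 = true := by decide +kernel
theorem s9c265 : allBelow (fun k => fs9 (Nat.add (Nat.succ 84309) k)) 272 = true := by decide +kernel
theorem s9c266 : allBelow (fun k => fs9 (Nat.add (Nat.succ 84581) k)) 258 = true := by decide +kernel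
theorem s9c267 : allBelow (fun k => fs9 (Nat.add (Nat.succ 84839) k)) 286 = true := by decide +kernel
theorem s9c268 : allBelow (fun k => fs9 (Nat.add (Nat.succ 85125) k)) 327 = true := by decide +kernel
theorem s9c269 : allBelow (fun k => fs9 (Nat.add (Nat.succ 85452) k)) 305 = true := by decide +kernel
theorem s9c270 : allBelow (fun k => fs9 (Nat.add (Nat.succ 85757) k)) 270 = true := by decide +kernel
theorem s9c271 : allBelow (fun k => fs9 (Nat.add (Nat.succ 86027) k)) 271 = true := by decide +kernel
theorem s9c272 : allBelow (fun k => fs9 (Nat.add (Nat.succ 86298) k)) 269 = true := by decide +kernel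
theorem s9c273 : allBelow (fun k => fs9 (Nat.add (Nat.succ 86567) k)) 279 = true := by decide +kernel
theorem s9c274 : allBelow (fun k => fs9 (Nat.add (Nat.succ 86846) k)) 281 = true := by decide +kernel
theorem s9c275 : allBelow (fun k => fs9 (Nat.add (Nat.succ 87127) k)) 323 = true := by decide +kernel
theorem s9c276 : allBelow (fun k => fs9 (Nat.add (Nat.succ 87450) k)) 312 = true := by decide +kernel
theorem s9c277 : allBelow (fun k => fs9 (Nat.add (Nat.succ 87762) k)) 350 = true := by decide +kernel
theorem s9c278 : allBelow (fun k => fs9 (Nat.add (Nat.succ 88112) k)) 392 = true := by decide +kernel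
theorem s9c279 : allBelow (fun k => fs9 (Nat.add (Nat.succ 88504) k)) 336 = true := by decide +kernel
theorem s9c280 : allBelow (fun k => fs9 (Nat.add (Nat.succ 88840) k)) 340 = true := by decide +kernel
theorem s9c281 : allBelow (fun k => fs9 (Nat.add (Nat.succ 89180) k)) 360 = true := by decide +kernel
theorem s9c282 : allBelow (fun k => fs9 (Nat.add (Nat.succ 89540) k)) 327 = true := by decide +kernel
theorem s9c283 : allBelow (fun k => fs9 (Nat.add (Nat.succ 89867) k)) 412 = true := by decide +kernel
theorem s9c284 : allBelow (fun k => fs9 (Nat.add (Nat.succ 90279) k)) 461 = true := by decide +kernel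
theorem s9c285 : allBelow (fun k => fs9 (Nat.add (Nat.succ 90740) k)) 363 = true := by decide +kernel
theorem s9c286 : allBelow (fun k => fs9 (Nat.add (Nat.succ 91103) k)) 372 = true := by decide +kernel
theorem s9c287 : allBelow (fun k => fs9 (Nat.add (Nat.succ 91475) k)) 404 = true := by decide +kernel
theorem s9c288 : allBelow (fun k => fs9 (Nat.add (Nat.succ 91879) k)) 334 = true := by decide +kernel
theorem s9c289 : allBelow (fun k => fs9 (Nat.add (Nat.succ 92213) k)) 359 = true := by decide +kernel
theorem s9c290 : allBelow (fun k => fs9 (Nat.add (Nat.succ 92572) k)) 506 = true := by decide +kernel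
theorem s9c291 : allBelow (fun k => fs9 (Nat.add (Nat.succ 93078) k)) 426 = true := by decide +kernel
theorem s9c292 : allBelow (fun k => fs9 (Nat.add (Nat.succ 93504) k)) 483 = true := by decide +kernel
theorem s9c293 : allBelow (fun k => fs9 (Nat.add (Nat.succ 93987) k)) 454 = true := by decide +kernel
theorem s9c294 : allBelow (fun k => fs9 (Nat.add (Nat.succ 94441) k)) 307 = true := by decide +kernel
theorem s9c295 : allBelow (fun k => fs9 (Nat.add (Nat.succ 94748) k)) 299 = true := by decide +kernel
theorem s9c296 : allBelow (fun k => fs9 (Nat.add (Nat.succ 95047) k)) 365 = true := by decide +kernel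
theorem s9c297 : allBelow (fun k => fs9 (Nat.add (Nat.succ 95412) k)) 307 = true := by decide +kernel
theorem s9c298 : allBelow (fun k => fs9 (Nat.add (Nat.succ 95719) k)) 295 = true := by decide +kernel
theorem s9c299 : allBelow (fun k => fs9 (Nat.add (Nat.succ 96014) k)) 303 = true := by decide +kernel
theorem s9c300 : allBelow (fun k => fs9 (Nat.add (Nat.succ 96317) k)) 429 = true := by decide +kernel
theorem s9c301 : allBelow (fun k => fs9 (Nat.add (Nat.succ 96746) k)) 448 = true := by decide +kernel
theorem s9c302 : allBelow (fun k => fs9 (Nat.add (Nat.succ 97194) k)) 455 = true := by decide +kernel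
theorem s9c303 : allBelow (fun k => fs9 (Nat.add (Nat.succ 97649) k)) 476 = true := by decide +kernel
theorem s9c304 : allBelow (fun k => fs9 (Nat.add (Nat.succ 98125) k)) 562 = true := by decide +kernel
theorem s9c305 : allBelow (fun k => fs9 (Nat.add (Nat.succ 98687) k)) 323 = true := by decide +kernel
theorem s9c306 : allBelow (fun k => fs9 (Nat.add (Nat.succ 99010) k)) 237 = true := by decide +kernel
theorem s9c307 : allBelow (fun k => fs9 (Nat.add (Nat.succ 99247) k)) 252 = true := by decide +kernel
theorem s9c308 : allBelow (fun k => fs9 (Nat.add (Nat.succ 99499) k)) 299 = true := by decide +kernel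
theorem s9c309 : allBelow (fun k => fs9 (Nat.add (Nat.succ 99798) k)) 300 = true := by decide +kernel
theorem s9c310 : allBelow (fun k => fs9 (Nat.add (Nat.succ 100098) k)) 265 = true := by decide +kernel
theorem s9c311 : allBelow (fun k => fs9 (Nat.add (Nat.succ 100363) k)) 262 = true := by decide +kernel
theorem s9c312 : allBelow (fun k => fs9 (Nat.add (Nat.succ 100625) k)) 348 = true := by decide +kernel
theorem s9c313 : allBelow (fun k => fs9 (Nat.add (Nat.succ 100973) k)) 317 = true := by decide +kernel
theorem s9c314 : allBelow (fun k => fs9 (Nat.add (Nat.succ 101290) k)) 298 = true := by decide +kernel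
theorem s9c315 : allBelow (fun k => fs9 (Nat.add (Nat.succ 101588) k)) 290 = true := by decide +kernel
theorem s9c316 : allBelow (fun k => fs9 (Nat.add (Nat.succ 101878) k)) 279 = true := by decide +kernel
theorem s9c317 : allBelow (fun k => fs9 (Nat.add (Nat.succ 102157) k)) 280 = true := by decide +kernel
theorem s9c318 : allBelow (fun k => fs9 (Nat.add (Nat.succ 102437) k)) 286 = true := by decide +kernel
theorem s9c319 : allBelow (fun k => fs9 (Nat.add (Nat.succ 102723) k)) 278 = true := by decide +kernel
theorem s9c320 : allBelow (fun k => fs9 (Nat.add (Nat.succ 103001) k)) 295 = true := by decide +kernel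
theorem s9c321 : allBelow (fun k => fs9 (Nat.add (Nat.succ 103296) k)) 419 = true := by decide +kernel
theorem s9c322 : allBelow (fun k => fs9 (Nat.add (Nat.succ 103715) k)) 373 = true := by decide +kernel
theorem s9c323 : allBelow (fun k => fs9 (Nat.add (Nat.succ 104088) k)) 390 = true := by decide +kernel
theorem s9c324 : allBelow (fun k => fs9 (Nat.add (Nat.succ 104478) k)) 407 = true := by decide +kernel
theorem s9c325 : allBelow (fun k => fs9 (Nat.add (Nat.succ 104885) k)) 414 = true := by decide +kernel
theorem s9c326 : allBelow (fun k => fs9 (Nat.add (Nat.succ 105299) k)) 397 = true := by decide +kernel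
theorem s9c327 : allBelow (fun k => fs9 (Nat.add (Nat.succ 105696) k)) 442 = true := by decide +kernel
theorem s9c328 : allBelow (fun k => fs9 (Nat.add (Nat.succ 106138) k)) 410 = true := by decide +kernel
theorem s9c329 : allBelow (fun k => fs9 (Nat.add (Nat.succ 106548) k)) 533 = true := by decide +kernel
theorem s9c330 : allBelow (fun k => fs9 (Nat.add (Nat.succ 107081) k)) 482 = true := by decide +kernel
theorem s9c331 : allBelow (fun k => fs9 (Nat.add (Nat.succ 107563) k)) 307 = true := by decide +kernel
theorem s9c332 : allBelow (fun k => fs9 (Nat.add (Nat.succ 107870) k)) 333 = true := by decide +kernel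
theorem s9c333 : allBelow (fun k => fs9 (Nat.add (Nat.succ 108203) k)) 289 = true := by decide +kernel
theorem s9c334 : allBelow (fun k => fs9 (Nat.add (Nat.succ 108492) k)) 270 = true := by decide +kernel
theorem s9c335 : allBelow (fun k => fs9 (Nat.add (Nat.succ 108762) k)) 284 = true := by decide +kernel
theorem s9c336 : allBelow (fun k => fs9 (Nat.add (Nat.succ 109046) k)) 333 = true := by decide +kernel
theorem s9c337 : allBelow (fun k => fs9 (Nat.add (Nat.succ 109379) k)) 340 = true := by decide +kernel
theorem s9c338 : allBelow (fun k => fs9 (Nat.add (Nat.succ 109719) k)) 260 = true := by decide +kernel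
theorem s9c339 : allBelow (fun k => fs9 (Nat.add (Nat.succ 109979) k)) 262 = true := by decide +kernel
theorem s9c340 : allBelow (fun k => fs9 (Nat.add (Nat.succ 110241) k)) 265 = true := by decide +kernel
theorem s9c341 : allBelow (fun k => fs9 (Nat.add (Nat.succ 110506) k)) 332 = true := by decide +kernel
theorem s9c342 : allBelow (fun k => fs9 (Nat.add (Nat.succ 110838) k)) 320 = true := by decide +kernel
theorem s9c343 : allBelow (fun k => fs9 (Nat.add (Nat.succ 111158) k)) 302 = true := by decide +kernel
theorem s9c344 : allBelow (fun k => fs9 (Nat.add (Nat.succ 111460) k)) 290 = true := by decide +kernel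
theorem s9c345 : allBelow (fun k => fs9 (Nat.add (Nat.succ 111750) k)) 273 = true := by decide +kernel
theorem s9c346 : allBelow (fun k => fs9 (Nat.add (Nat.succ 112023) k)) 272 = true := by decide +kernel
theorem s9c347 : allBelow (fun k => fs9 (Nat.add (Nat.succ 112295) k)) 291 = true := by decide +kernel
theorem s9c348 : allBelow (fun k => fs9 (Nat.add (Nat.succ 112586) k)) 272 = true := by decide +kernel
theorem s9c349 : allBelow (fun k => fs9 (Nat.add (Nat.succ 112858) k)) 299 = true := by decide +kernel
theorem s9c350 : allBelow (fun k => fs9 (Nat.add (Nat.succ 113157) k)) 281 = true := by decide +kernel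
theorem s9c351 : allBelow (fun k => fs9 (Nat.add (Nat.succ 113438) k)) 335 = true := by decide +kernel
theorem s9c352 : allBelow (fun k => fs9 (Nat.add (Nat.succ 113773) k)) 311 = true := by decide +kernel
theorem s9c353 : allBelow (fun k => fs9 (Nat.add (Nat.succ 114084) k)) 345 = true := by decide +kernel
theorem s9c354 : allBelow (fun k => fs9 (Nat.add (Nat.succ 114429) k)) 407 = true := by decide +kernel
theorem s9c355 : allBelow (fun k => fs9 (Nat.add (Nat.succ 114836) k)) 364 = true := by decide +kernel
theorem s9c356 : allBelow (fun k => fs9 (Nat.add (Nat.succ 115200) k)) 351 = true := by decide +kernel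
theorem s9c357 : allBelow (fun k => fs9 (Nat.add (Nat.succ 115551) k)) 361 = true := by decide +kernel
theorem s9c358 : allBelow (fun k => fs9 (Nat.add (Nat.succ 115912) k)) 379 = true := by decide +kernel
theorem s9c359 : allBelow (fun k => fs9 (Nat.add (Nat.succ 116291) k)) 349 = true := by decide +kernel
theorem s9c360 : allBelow (fun k => fs9 (Nat.add (Nat.succ 116640) k)) 406 = true := by decide +kernel
theorem s9c361 : allBelow (fun k => fs9 (Nat.add (Nat.succ 117046) k)) 472 = true := by decide +kernel
theorem s9c362 : allBelow (fun k => fs9 (Nat.add (Nat.succ 117518) k)) 425 = true := by decide +kernel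
theorem s9c363 : allBelow (fun k => fs9 (Nat.add (Nat.succ 117943) k)) 362 = true := by decide +kernel
theorem s9c364 : allBelow (fun k => fs9 (Nat.add (Nat.succ 118305) k)) 420 = true := by decide +kernel
theorem s9c365 : allBelow (fun k => fs9 (Nat.add (Nat.succ 118725) k)) 399 = true := by decide +kernel
theorem s9c366 : allBelow (fun k => fs9 (Nat.add (Nat.succ 119124) k)) 408 = true := by decide +kernel
theorem s9c367 : allBelow (fun k => fs9 (Nat.add (Nat.succ 119532) k)) 545 = true := by decide +kernel
theorem s9c368 : allBelow (fun k => fs9 (Nat.add (Nat.succ 120077) k)) 505 = true := by decide +kernel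
theorem s9c369 : allBelow (fun k => fs9 (Nat.add (Nat.succ 120582) k)) 313 = true := by decide +kernel
theorem s9c370 : allBelow (fun k => fs9 (Nat.add (Nat.succ 120895) k)) 290 = true := by decide +kernel
theorem s9c371 : allBelow (fun k => fs9 (Nat.add (Nat.succ 121185) k)) 361 = true := by decide +kernel
theorem s9c372 : allBelow (fun k => fs9 (Nat.add (Nat.succ 121546) k)) 337 = true := by decide +kernel
theorem s9c373 : allBelow (fun k => fs9 (Nat.add (Nat.succ 121883) k)) 309 = true := by decide +kernel
theorem s9c374 : allBelow (fun k => fs9 (Nat.add (Nat.succ 122192) k)) 302 = true := by decide +kernel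
theorem s9c375 : allBelow (fun k => fs9 (Nat.add (Nat.succ 122494) k)) 310 = true := by decide +kernel
theorem s9c376 : allBelow (fun k => fs9 (Nat.add (Nat.succ 122804) k)) 375 = true := by decide +kernel
theorem s9c377 : allBelow (fun k => fs9 (Nat.add (Nat.succ 123179) k)) 481 = true := by decide +kernel
theorem s9c378 : allBelow (fun k => fs9 (Nat.add (Nat.succ 123660) k)) 513 = true := by decide +kernel
theorem s9c379 : allBelow (fun k => fs9 (Nat.add (Nat.succ 124173) k)) 559 = true := by decide +kernel
theorem s9c380 : allBelow (fun k => fs9 (Nat.add (Nat.succ 124732) k)) 229 = true := by decide +kernel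
theorem s9c381 : allBelow (fun k => fs9 (Nat.add (Nat.succ 124961) k)) 234 = true := by decide +kernel
theorem s9c382 : allBelow (fun k => fs9 (Nat.add (Nat.succ 125195) k)) 235 = true := by decide +kernel
theorem s9c383 : allBelow (fun k => fs9 (Nat.add (Nat.succ 125430) k)) 242 = true := by decide +kernel
theorem s9c384 : allBelow (fun k => fs9 (Nat.add (Nat.succ 125672) k)) 256 = true := by decide +kernel
theorem s9c385 : allBelow (fun k => fs9 (Nat.add (Nat.succ 125928) k)) 258 = true := by decide +kernel
theorem s9c386 : allBelow (fun k => fs9 (Nat.add (Nat.succ 126186) k)) 258 = true := by decide +kernel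
theorem s9c387 : allBelow (fun k => fs9 (Nat.add (Nat.succ 126444) k)) 256 = true := by decide +kernel
theorem s9c388 : allBelow (fun k => fs9 (Nat.add (Nat.succ 126700) k)) 261 = true := by decide +kernel
theorem s9c389 : allBelow (fun k => fs9 (Nat.add (Nat.succ 126961) k)) 263 = true := by decide +kernel
theorem s9c390 : allBelow (fun k => fs9 (Nat.add (Nat.succ 127224) k)) 257 = true := by decide +kernel
theorem s9c391 : allBelow (fun k => fs9 (Nat.add (Nat.succ 127481) k)) 253 = true := by decide +kernel
theorem s9c392 : allBelow (fun k => fs9 (Nat.add (Nat.succ 127734) k)) 261 = true := by decide +kernel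
theorem s9c393 : allBelow (fun k => fs9 (Nat.add (Nat.succ 127995) k)) 256 = true := by decide +kernel
theorem s9c394 : allBelow (fun k => fs9 (Nat.add (Nat.succ 128251) k)) 251 = true := by decide +kernel
theorem s9c395 : allBelow (fun k => fs9 (Nat.add (Nat.succ 128502) k)) 243 = true := by decide +kernel
theorem s9c396 : allBelow (fun k => fs9 (Nat.add (Nat.succ 128745) k)) 243 = true := by decide +kernel
theorem s9c397 : allBelow (fun k => fs9 (Nat.add (Nat.succ 128988) k)) 250 = true := by decide +kernel
theorem s9c398 : allBelow (fun k => fs9 (Nat.add (Nat.succ 129238) k)) 266 = true := by decide +kernel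
theorem s9c399 : allBelow (fun k => fs9 (Nat.add (Nat.succ 129504) k)) 295 = true := by decide +kernel
theorem s9c400 : allBelow (fun k => fs9 (Nat.add (Nat.succ 129799) k)) 312 = true := by decide +kernel
theorem s9c401 : allBelow (fun k => fs9 (Nat.add (Nat.succ 130111) k)) 304 = true := by decide +kernel
theorem s9c402 : allBelow (fun k => fs9 (Nat.add (Nat.succ 130415) k)) 280 = true := by decide +kernel
theorem s9c403 : allBelow (fun k => fs9 (Nat.add (Nat.succ 130695) k)) 275 = true := by decide +kernel
theorem s9c404 : allBelow (fun k => fs9 (Nat.add (Nat.succ 130970) k)) 276 = true := by decide +kernel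
theorem s9c405 : allBelow (fun k => fs9 (Nat.add (Nat.succ 131246) k)) 271 = true := by decide +kernel
theorem s9c406 : allBelow (fun k => fs9 (Nat.add (Nat.succ 131517) k)) 272 = true := by decide +kernel
theorem s9c407 : allBelow (fun k => fs9 (Nat.add (Nat.succ 131789) k)) 272 = true := by decide +kernel
theorem s9c408 : allBelow (fun k => fs9 (Nat.add (Nat.succ 132061) k)) 256 = true := by decide +kernel
theorem s9c409 : allBelow (fun k => fs9 (Nat.add (Nat.succ 132317) k)) 258 = true := by decide +kernel
theorem s9c410 : allBelow (fun k => fs9 (Nat.add (Nat.succ 132575) k)) 256 = true := by decide +kernel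
theorem s9c411 : allBelow (fun k => fs9 (Nat.add (Nat.succ 132831) k)) 260 = true := by decide +kernel
theorem s9c412 : allBelow (fun k => fs9 (Nat.add (Nat.succ 133091) k)) 261 = true := by decide +kernel
theorem s9c413 : allBelow (fun k => fs9 (Nat.add (Nat.succ 133352) k)) 264 = true := by decide +kernel
theorem s9c414 : allBelow (fun k => fs9 (Nat.add (Nat.succ 133616) k)) 262 = true := by decide +kernel
theorem s9c415 : allBelow (fun k => fs9 (Nat.add (Nat.succ 133878) k)) 267 = true := by decide +kernel
theorem s9c416 : allBelow (fun k => fs9 (Nat.add (Nat.succ 134145) k)) 253 = true := by decide +kernel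
theorem s9c417 : allBelow (fun k => fs9 (Nat.add (Nat.succ 134398) k)) 264 = true := by decide +kernel
theorem s9c418 : allBelow (fun k => fs9 (Nat.add (Nat.succ 134662) k)) 262 = true := by decide +kernel
theorem s9c419 : allBelow (fun k => fs9 (Nat.add (Nat.succ 134924) k)) 264 = true := by decide +kernel
theorem s9c420 : allBelow (fun k => fs9 (Nat.add (Nat.succ 135188) k)) 267 = true := by decide +kernel
theorem s9c421 : allBelow (fun k => fs9 (Nat.add (Nat.succ 135455) k)) 267 = true := by decide +kernel
theorem s9c422 : allBelow (fun k => fs9 (Nat.add (Nat.succ 135722) k)) 267 = true := by decide +kernel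
theorem s9c423 : allBelow (fun k => fs9 (Nat.add (Nat.succ 135989) k)) 269 = true := by decide +kernel
theorem s9c424 : allBelow (fun k => fs9 (Nat.add (Nat.succ 136258) k)) 279 = true := by decide +kernel
theorem s9c425 : allBelow (fun k => fs9 (Nat.add (Nat.succ 136537) k)) 277 = true := by decide +kernel
theorem s9c426 : allBelow (fun k => fs9 (Nat.add (Nat.succ 136814) k)) 284 = true := by decide +kernel
theorem s9c427 : allBelow (fun k => fs9 (Nat.add (Nat.succ 137098) k)) 275 = true := by decide +kernel
theorem s9c428 : allBelow (fun k => fs9 (Nat.add (Nat.succ 137373) k)) 269 = true := by decide +kernel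
theorem s9c429 : allBelow (fun k => fs9 (Nat.add (Nat.succ 137642) k)) 279 = true := by decide +kernel
theorem s9c430 : allBelow (fun k => fs9 (Nat.add (Nat.succ 137921) k)) 296 = true := by decide +kernel
theorem s9c431 : allBelow (fun k => fs9 (Nat.add (Nat.succ 138217) k)) 312 = true := by decide +kernel
theorem s9c432 : allBelow (fun k => fs9 (Nat.add (Nat.succ 138529) k)) 308 = true := by decide +kernel
theorem s9c433 : allBelow (fun k => fs9 (Nat.add (Nat.succ 138837) k)) 300 = true := by decide +kernel
theorem s9c434 : allBelow (fun k => fs9 (Nat.add (Nat.succ 139137) k)) 263 = true := by decide +kernel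
theorem s9c435 : allBelow (fun k => fs9 (Nat.add (Nat.succ 139400) k)) 259 = true := by decide +kernel
theorem s9c436 : allBelow (fun k => fs9 (Nat.add (Nat.succ 139659) k)) 260 = true := by decide +kernel
theorem s9c437 : allBelow (fun k => fs9 (Nat.add (Nat.succ 139919) k)) 258 = true := by decide +kernel

end Cfsg.Agent.Lib.Helper35.Fi24a
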