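import Cfsg.Agent.Lib.Helper35.Fi24a.Data

set_option Elab.async false

namespace Cfsg.Agent.Lib.Helper35.Fi24a

open Cfsg.Agent.Lib.Helper35

theorem s9c438 : allBelow (fun k => fs9 (Nat.add (Nat.succ 140177) k)) 254 = true := by decide +kernel
theorem s9c439 : allBelow (fun k => fs9 (Nat.add (Nat.succ 140431) k)) 246 = true := by decide +kernel
theorem s9c440 : allBelow (fun k => fs9 (Nat.add (Nat.succ 140677) k)) 246 = true := by decide +kernel
theorem s9c441 : allBelow (fun k => fs9 (Nat.add (Nat.succ 140923) k)) 267 = true := by decide +kernel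
theorem s9c442 : allBelow (fun k => fs9 (Nat.add (Nat.succ 141190) k)) 229 = true := by decide +kernel
theorem s9c443 : allBelow (fun k => fs9 (Nat.add (Nat.succ 141419) k)) 235 = true := by decide +kernel
theorem s9c444 : allBelow (fun k => fs9 (Nat.add (Nat.succ 141654) k)) 237 = true := by decide +kernel
theorem s9c445 : allBelow (fun k => fs9 (Nat.add (Nat.succ 141891) k)) 241 = true := by decide +kernel
theorem s9c446 : allBelow (fun k => fs9 (Nat.add (Nat.succ 142132) k)) 241 = true := by decide +kernel
theorem s9c447 : allBelow (fun k => fs9 (Nat.add (Nat.succ 142373) k)) 255 = true := by decide +kernel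
theorem s9c448 : allBelow (fun k => fs9 (Nat.add (Nat.succ 142628) k)) 256 = true := by decide +kernel
theorem s9c449 : allBelow (fun k => fs9 (Nat.add (Nat.succ 142884) k)) 255 = true := by decide +kernel
theorem s9c450 : allBelow (fun k => fs9 (Nat.add (Nat.succ 143139) k)) 253 = true := by decide +kernel
theorem s9c451 : allBelow (fun k => fs9 (Nat.add (Nat.succ 143392) k)) 260 = true := by decide +kernel
theorem s9c452 : allBelow (fun k => fs9 (Nat.add (Nat.succ 143652) k)) 259 = true := by decide +kernel
theorem s9c453 : allBelow (fun k => fs9 (Nat.add (Nat.succ 143911) k)) 266 = true := by decide +kernel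
theorem s9c454 : allBelow (fun k => fs9 (Nat.add (Nat.succ 144177) k)) 251 = true := by decide +kernel
theorem s9c455 : allBelow (fun k => fs9 (Nat.add (Nat.succ 144428) k)) 257 = true := by decide +kernel
theorem s9c456 : allBelow (fun k => fs9 (Nat.add (Nat.succ 144685) k)) 257 = true := by decide +kernel
theorem s9c457 : allBelow (fun k => fs9 (Nat.add (Nat.succ 144942) k)) 262 = true := by decide +kernel
theorem s9c458 : allBelow (fun k => fs9 (Nat.add (Nat.succ 145204) k)) 264 = true := by decide +kernel
theorem s9c459 : allBelow (fun k => fs9 (Nat.add (Nat.succ 145468) k)) 250 = true := by decide +kernel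
theorem s9c460 : allBelow (fun k => fs9 (Nat.add (Nat.succ 145718) k)) 242 = true := by decide +kernel
theorem s9c461 : allBelow (fun k => fs9 (Nat.add (Nat.succ 145960) k)) 253 = true := by decide +kernel
theorem s9c462 : allBelow (fun k => fs9 (Nat.add (Nat.succ 146213) k)) 240 = true := by decide +kernel
theorem s9c463 : allBelow (fun k => fs9 (Nat.add (Nat.succ 146453) k)) 255 = true := by decide +kernel
theorem s9c464 : allBelow (fun k => fs9 (Nat.add (Nat.succ 146708) k)) 274 = true := by decide +kernel
theorem s9c465 : allBelow (fun k => fs9 (Nat.add (Nat.succ 146982) k)) 312 = true := by decide +kernel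
theorem s9c466 : allBelow (fun k => fs9 (Nat.add (Nat.succ 147294) k)) 311 = true := by decide +kernel
theorem s9c467 : allBelow (fun k => fs9 (Nat.add (Nat.succ 147605) k)) 290 = true := by decide +kernel
theorem s9c468 : allBelow (fun k => fs9 (Nat.add (Nat.succ 147895) k)) 287 = true := by decide +kernel
theorem s9c469 : allBelow (fun k => fs9 (Nat.add (Nat.succ 148182) k)) 281 = true := by decide +kernel
theorem s9c470 : allBelow (fun k => fs9 (Nat.add (Nat.succ 148463) k)) 274 = true := by decide +kernel
theorem s9c471 : allBelow (fun k => fs9 (Nat.add (Nat.succ 148737) k)) 274 = true := by decide +kernel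
theorem s9c472 : allBelow (fun k => fs9 (Nat.add (Nat.succ 149011) k)) 281 = true := by decide +kernel
theorem s9c473 : allBelow (fun k => fs9 (Nat.add (Nat.succ 149292) k)) 265 = true := by decide +kernel
theorem s9c474 : allBelow (fun k => fs9 (Nat.add (Nat.succ 149557) k)) 258 = true := by decide +kernel
theorem s9c475 : allBelow (fun k => fs9 (Nat.add (Nat.succ 149815) k)) 251 = true := by decide +kernel
theorem s9c476 : allBelow (fun k => fs9 (Nat.add (Nat.succ 150066) k)) 264 = true := by decide +kernel
theorem s9c477 : allBelow (fun k => fs9 (Nat.add (Nat.succ 150330) k)) 263 = true := by decide +kernel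
theorem s9c478 : allBelow (fun k => fs9 (Nat.add (Nat.succ 150593) k)) 263 = true := by decide +kernel
theorem s9c479 : allBelow (fun k => fs9 (Nat.add (Nat.succ 150856) k)) 259 = true := by decide +kernel
theorem s9c480 : allBelow (fun k => fs9 (Nat.add (Nat.succ 151115) k)) 267 = true := by decide +kernel
theorem s9c481 : allBelow (fun k => fs9 (Nat.add (Nat.succ 151382) k)) 262 = true := by decide +kernel
theorem s9c482 : allBelow (fun k => fs9 (Nat.add (Nat.succ 151644) k)) 270 = true := by decide +kernel
theorem s9c483 : allBelow (fun k => fs9 (Nat.add (Nat.succ 151914) k)) 257 = true := by decide +kernel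
theorem s9c484 : allBelow (fun k => fs9 (Nat.add (Nat.succ 152171) k)) 261 = true := by decide +kernel
theorem s9c485 : allBelow (fun k => fs9 (Nat.add (Nat.succ 152432) k)) 263 = true := by decide +kernel
theorem s9c486 : allBelow (fun k => fs9 (Nat.add (Nat.succ 152695) k)) 265 = true := by decide +kernel
theorem s9c487 : allBelow (fun k => fs9 (Nat.add (Nat.succ 152960) k)) 266 = true := by decide +kernel
theorem s9c488 : allBelow (fun k => fs9 (Nat.add (Nat.succ 153226) k)) 268 = true := by decide +kernel
theorem s9c489 : allBelow (fun k => fs9 (Nat.add (Nat.succ 153494) k)) 271 = true := by decide +kernel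
theorem s9c490 : allBelow (fun k => fs9 (Nat.add (Nat.succ 153765) k)) 264 = true := by decide +kernel
theorem s9c491 : allBelow (fun k => fs9 (Nat.add (Nat.succ 154029) k)) 275 = true := by decide +kernel
theorem s9c492 : allBelow (fun k => fs9 (Nat.add (Nat.succ 154304) k)) 277 = true := by decide +kernel
theorem s9c493 : allBelow (fun k => fs9 (Nat.add (Nat.succ 154581) k)) 282 = true := by decide +kernel
theorem s9c494 : allBelow (fun k => fs9 (Nat.add (Nat.succ 154863) k)) 280 = true := by decide +kernel
theorem s9c495 : allBelow (fun k => fs9 (Nat.add (Nat.succ 155143) k)) 290 = true := by decide +kernel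
theorem s9c496 : allBelow (fun k => fs9 (Nat.add (Nat.succ 155433) k)) 287 = true := by decide +kernel
theorem s9c497 : allBelow (fun k => fs9 (Nat.add (Nat.succ 155720) k)) 273 = true := by decide +kernel
theorem s9c498 : allBelow (fun k => fs9 (Nat.add (Nat.succ 155993) k)) 286 = true := by decide +kernel
theorem s9c499 : allBelow (fun k => fs9 (Nat.add (Nat.succ 156279) k)) 305 = true := by decide +kernel
theorem s9c500 : allBelow (fun k => fs9 (Nat.add (Nat.succ 156584) k)) 316 = true := by decide +kernel
theorem s9c501 : allBelow (fun k => fs9 (Nat.add (Nat.succ 156900) k)) 305 = true := by decide +kernel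
theorem s9c502 : allBelow (fun k => fs9 (Nat.add (Nat.succ 157205) k)) 270 = true := by decide +kernel
theorem s9c503 : allBelow (fun k => fs9 (Nat.add (Nat.succ 157475) k)) 253 = true := by decide +kernel
theorem s9c504 : allBelow (fun k => fs9 (Nat.add (Nat.succ 157728) k)) 259 = true := by decide +kernel
theorem s9c505 : allBelow (fun k => fs9 (Nat.add (Nat.succ 157987) k)) 260 = true := by decide +kernel
theorem s9c506 : allBelow (fun k => fs9 (Nat.add (Nat.succ 158247) k)) 251 = true := by decide +kernel
theorem s9c507 : allBelow (fun k => fs9 (Nat.add (Nat.succ 158498) k)) 259 = true := by decide +kernel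
theorem s9c508 : allBelow (fun k => fs9 (Nat.add (Nat.succ 158757) k)) 243 = true := by decide +kernel
theorem s9c509 : allBelow (fun k => fs9 (Nat.add (Nat.succ 159000) k)) 259 = true := by decide +kernel
theorem s9c510 : allBelow (fun k => fs9 (Nat.add (Nat.succ 159259) k)) 232 = true := by decide +kernel
theorem s9c511 : allBelow (fun k => fs9 (Nat.add (Nat.succ 159491) k)) 229 = true := by decide +kernel
theorem s9c512 : allBelow (fun k => fs9 (Nat.add (Nat.succ 159720) k)) 237 = true := by decide +kernel
theorem s9c513 : allBelow (fun k => fs9 (Nat.add (Nat.succ 159957) k)) 236 = true := by decide +kernel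
theorem s9c514 : allBelow (fun k => fs9 (Nat.add (Nat.succ 160193) k)) 240 = true := by decide +kernel
theorem s9c515 : allBelow (fun k => fs9 (Nat.add (Nat.succ 160433) k)) 245 = true := by decide +kernel
theorem s9c516 : allBelow (fun k => fs9 (Nat.add (Nat.succ 160678) k)) 253 = true := by decide +kernel
theorem s9c517 : allBelow (fun k => fs9 (Nat.add (Nat.succ 160931) k)) 253 = true := by decide +kernel
theorem s9c518 : allBelow (fun k => fs9 (Nat.add (Nat.succ 161184) k)) 251 = true := by decide +kernel
theorem s9c519 : allBelow (fun k => fs9 (Nat.add (Nat.succ 161435) k)) 260 = true := by decide +kernel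
theorem s9c520 : allBelow (fun k => fs9 (Nat.add (Nat.succ 161695) k)) 253 = true := by decide +kernel
theorem s9c521 : allBelow (fun k => fs9 (Nat.add (Nat.succ 161948) k)) 262 = true := by decide +kernel
theorem s9c522 : allBelow (fun k => fs9 (Nat.add (Nat.succ 162210) k)) 256 = true := by decide +kernel
theorem s9c523 : allBelow (fun k => fs9 (Nat.add (Nat.succ 162466) k)) 264 = true := by decide +kernel
theorem s9c524 : allBelow (fun k => fs9 (Nat.add (Nat.succ 162730) k)) 262 = true := by decide +kernel
theorem s9c525 : allBelow (fun k => fs9 (Nat.add (Nat.succ 162992) k)) 257 = true := by decide +kernel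
theorem s9c526 : allBelow (fun k => fs9 (Nat.add (Nat.succ 163249) k)) 250 = true := by decide +kernel
theorem s9c527 : allBelow (fun k => fs9 (Nat.add (Nat.succ 163499) k)) 264 = true := by decide +kernel
theorem s9c528 : allBelow (fun k => fs9 (Nat.add (Nat.succ 163763) k)) 259 = true := by decide +kernel
theorem s9c529 : allBelow (fun k => fs9 (Nat.add (Nat.succ 164022) k)) 266 = true := by decide +kernel
theorem s9c530 : allBelow (fun k => fs9 (Nat.add (Nat.succ 164288) k)) 256 = true := by decide +kernel
theorem s9c531 : allBelow (fun k => fs9 (Nat.add (Nat.succ 164544) k)) 253 = true := by decide +kernel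
theorem s9c532 : allBelow (fun k => fs9 (Nat.add (Nat.succ 164797) k)) 239 = true := by decide +kernel
theorem s9c533 : allBelow (fun k => fs9 (Nat.add (Nat.succ 165036) k)) 256 = true := by decide +kernel
theorem s9c534 : allBelow (fun k => fs9 (Nat.add (Nat.succ 165292) k)) 235 = true := by decide +kernel
theorem s9c535 : allBelow (fun k => fs9 (Nat.add (Nat.succ 165527) k)) 258 = true := by decide +kernel
theorem s9c536 : allBelow (fun k => fs9 (Nat.add (Nat.succ 165785) k)) 285 = true := by decide +kernel
theorem s9c537 : allBelow (fun k => fs9 (Nat.add (Nat.succ 166070) k)) 316 = true := by decide +kernel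
theorem s9c538 : allBelow (fun k => fs9 (Nat.add (Nat.succ 166386) k)) 302 = true := by decide +kernel
theorem s9c539 : allBelow (fun k => fs9 (Nat.add (Nat.succ 166688) k)) 295 = true := by decide +kernel
theorem s9c540 : allBelow (fun k => fs9 (Nat.add (Nat.succ 166983) k)) 287 = true := by decide +kernel
theorem s9c541 : allBelow (fun k => fs9 (Nat.add (Nat.succ 167270) k)) 279 = true := by decide +kernel
theorem s9c542 : allBelow (fun k => fs9 (Nat.add (Nat.succ 167549) k)) 284 = true := by decide +kernel
theorem s9c543 : allBelow (fun k => fs9 (Nat.add (Nat.succ 167833) k)) 275 = true := by decide +kernel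
theorem s9c544 : allBelow (fun k => fs9 (Nat.add (Nat.succ 168108) k)) 281 = true := by decide +kernel
theorem s9c545 : allBelow (fun k => fs9 (Nat.add (Nat.succ 168389) k)) 257 = true := by decide +kernel
theorem s9c546 : allBelow (fun k => fs9 (Nat.add (Nat.succ 168646) k)) 255 = true := by decide +kernel
theorem s9c547 : allBelow (fun k => fs9 (Nat.add (Nat.succ 168901) k)) 251 = true := by decide +kernel
theorem s9c548 : allBelow (fun k => fs9 (Nat.add (Nat.succ 169152) k)) 265 = true := by decide +kernel
theorem s9c549 : allBelow (fun k => fs9 (Nat.add (Nat.succ 169417) k)) 263 = true := by decide +kernel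
theorem s9c550 : allBelow (fun k => fs9 (Nat.add (Nat.succ 169680) k)) 265 = true := by decide +kernel
theorem s9c551 : allBelow (fun k => fs9 (Nat.add (Nat.succ 169945) k)) 263 = true := by decide +kernel
theorem s9c552 : allBelow (fun k => fs9 (Nat.add (Nat.succ 170208) k)) 263 = true := by decide +kernel
theorem s9c553 : allBelow (fun k => fs9 (Nat.add (Nat.succ 170471) k)) 261 = true := by decide +kernel
theorem s9c554 : allBelow (fun k => fs9 (Nat.add (Nat.succ 170732) k)) 258 = true := by decide +kernel
theorem s9c555 : allBelow (fun k => fs9 (Nat.add (Nat.succ 170990) k)) 270 = true := by decide +kernel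
theorem s9c556 : allBelow (fun k => fs9 (Nat.add (Nat.succ 171260) k)) 265 = true := by decide +kernel
theorem s9c557 : allBelow (fun k => fs9 (Nat.add (Nat.succ 171525) k)) 255 = true := by decide +kernel
theorem s9c558 : allBelow (fun k => fs9 (Nat.add (Nat.succ 171780) k)) 264 = true := by decide +kernel
theorem s9c559 : allBelow (fun k => fs9 (Nat.add (Nat.succ 172044) k)) 267 = true := by decide +kernel
theorem s9c560 : allBelow (fun k => fs9 (Nat.add (Nat.succ 172311) k)) 264 = true := by decide +kernel
theorem s9c561 : allBelow (fun k => fs9 (Nat.add (Nat.succ 172575) k)) 266 = true := by decide +kernel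
theorem s9c562 : allBelow (fun k => fs9 (Nat.add (Nat.succ 172841) k)) 270 = true := by decide +kernel
theorem s9c563 : allBelow (fun k => fs9 (Nat.add (Nat.succ 173111) k)) 271 = true := by decide +kernel
theorem s9c564 : allBelow (fun k => fs9 (Nat.add (Nat.succ 173382) k)) 273 = true := by decide +kernel
theorem s9c565 : allBelow (fun k => fs9 (Nat.add (Nat.succ 173655) k)) 275 = true := by decide +kernel
theorem s9c566 : allBelow (fun k => fs9 (Nat.add (Nat.succ 173930) k)) 276 = true := by decide +kernel
theorem s9c567 : allBelow (fun k => fs9 (Nat.add (Nat.succ 174206) k)) 280 = true := by decide +kernel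
theorem s9c568 : allBelow (fun k => fs9 (Nat.add (Nat.succ 174486) k)) 275 = true := by decide +kernel
theorem s9c569 : allBelow (fun k => fs9 (Nat.add (Nat.succ 174761) k)) 295 = true := by decide +kernel
theorem s9c570 : allBelow (fun k => fs9 (Nat.add (Nat.succ 175056) k)) 282 = true := by decide +kernel
theorem s9c571 : allBelow (fun k => fs9 (Nat.add (Nat.succ 175338) k)) 297 = true := by decide +kernel
theorem s9c572 : allBelow (fun k => fs9 (Nat.add (Nat.succ 175635) k)) 282 = true := by decide +kernel
theorem s9c573 : allBelow (fun k => fs9 (Nat.add (Nat.succ 175917) k)) 288 = true := by decide +kernel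
theorem s9c574 : allBelow (fun k => fs9 (Nat.add (Nat.succ 176205) k)) 302 = true := by decide +kernel
theorem s9c575 : allBelow (fun k => fs9 (Nat.add (Nat.succ 176507) k)) 317 = true := by decide +kernel
theorem s9c576 : allBelow (fun k => fs9 (Nat.add (Nat.succ 176824) k)) 302 = true := by decide +kernel
theorem s9c577 : allBelow (fun k => fs9 (Nat.add (Nat.succ 177126) k)) 258 = true := by decide +kernel
theorem s9c578 : allBelow (fun k => fs9 (Nat.add (Nat.succ 177384) k)) 256 = true := by decide +kernel
theorem s9c579 : allBelow (fun k => fs9 (Nat.add (Nat.succ 177640) k)) 259 = true := by decide +kernel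
theorem s9c580 : allBelow (fun k => fs9 (Nat.add (Nat.succ 177899) k)) 256 = true := by decide +kernel
theorem s9c581 : allBelow (fun k => fs9 (Nat.add (Nat.succ 178155) k)) 256 = true := by decide +kernel
theorem s9c582 : allBelow (fun k => fs9 (Nat.add (Nat.succ 178411) k)) 252 = true := by decide +kernel
theorem s9c583 : allBelow (fun k => fs9 (Nat.add (Nat.succ 178663) k)) 249 = true := by decide +kernel
theorem s9c584 : allBelow (fun k => fs9 (Nat.add (Nat.succ 178912) k)) 232 = true := by decide +kernel
theorem s9c585 : allBelow (fun k => fs9 (Nat.add (Nat.succ 179144) k)) 230 = true := by decide +kernel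
theorem s9c586 : allBelow (fun k => fs9 (Nat.add (Nat.succ 179374) k)) 232 = true := by decide +kernel
theorem s9c587 : allBelow (fun k => fs9 (Nat.add (Nat.succ 179606) k)) 239 = true := by decide +kernel
theorem s9c588 : allBelow (fun k => fs9 (Nat.add (Nat.succ 179845) k)) 235 = true := by decide +kernel
theorem s9c589 : allBelow (fun k => fs9 (Nat.add (Nat.succ 180080) k)) 239 = true := by decide +kernel
theorem s9c590 : allBelow (fun k => fs9 (Nat.add (Nat.succ 180319) k)) 247 = true := by decide +kernel
theorem s9c591 : allBelow (fun k => fs9 (Nat.add (Nat.succ 180566) k)) 252 = true := by decide +kernel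
theorem s9c592 : allBelow (fun k => fs9 (Nat.add (Nat.succ 180818) k)) 247 = true := by decide +kernel
theorem s9c593 : allBelow (fun k => fs9 (Nat.add (Nat.succ 181065) k)) 250 = true := by decide +kernel
theorem s9c594 : allBelow (fun k => fs9 (Nat.add (Nat.succ 181315) k)) 254 = true := by decide +kernel
theorem s9c595 : allBelow (fun k => fs9 (Nat.add (Nat.succ 181569) k)) 262 = true := by decide +kernel
theorem s9c596 : allBelow (fun k => fs9 (Nat.add (Nat.succ 181831) k)) 253 = true := by decide +kernel
theorem s9c597 : allBelow (fun k => fs9 (Nat.add (Nat.succ 182084) k)) 263 = true := by decide +kernel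
theorem s9c598 : allBelow (fun k => fs9 (Nat.add (Nat.succ 182347) k)) 254 = true := by decide +kernel
theorem s9c599 : allBelow (fun k => fs9 (Nat.add (Nat.succ 182601) k)) 257 = true := by decide +kernel
theorem s9c600 : allBelow (fun k => fs9 (Nat.add (Nat.succ 182858) k)) 272 = true := by decide +kernel
theorem s9c601 : allBelow (fun k => fs9 (Nat.add (Nat.succ 183130) k)) 246 = true := by decide +kernel
theorem s9c602 : allBelow (fun k => fs9 (Nat.add (Nat.succ 183376) k)) 262 = true := by decide +kernel
theorem s9c603 : allBelow (fun k => fs9 (Nat.add (Nat.succ 183638) k)) 248 = true := by decide +kernel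
theorem s9c604 : allBelow (fun k => fs9 (Nat.add (Nat.succ 183886) k)) 264 = true := by decide +kernel
theorem s9c605 : allBelow (fun k => fs9 (Nat.add (Nat.succ 184150) k)) 263 = true := by decide +kernel
theorem s9c606 : allBelow (fun k => fs9 (Nat.add (Nat.succ 184413) k)) 268 = true := by decide +kernel
theorem s9c607 : allBelow (fun k => fs9 (Nat.add (Nat.succ 184681) k)) 261 = true := by decide +kernel
theorem s9c608 : allBelow (fun k => fs9 (Nat.add (Nat.succ 184942) k)) 252 = true := by decide +kernel
theorem s9c609 : allBelow (fun k => fs9 (Nat.add (Nat.succ 185194) k)) 247 = true := by decide +kernel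
theorem s9c610 : allBelow (fun k => fs9 (Nat.add (Nat.succ 185441) k)) 239 = true := by decide +kernel
theorem s9c611 : allBelow (fun k => fs9 (Nat.add (Nat.succ 185680) k)) 249 = true := by decide +kernel
theorem s9c612 : allBelow (fun k => fs9 (Nat.add (Nat.succ 185929) k)) 242 = true := by decide +kernel
theorem s9c613 : allBelow (fun k => fs9 (Nat.add (Nat.succ 186171) k)) 268 = true := by decide +kernel
theorem s9c614 : allBelow (fun k => fs9 (Nat.add (Nat.succ 186439) k)) 316 = true := by decide +kernel
theorem s9c615 : allBelow (fun k => fs9 (Nat.add (Nat.succ 186755) k)) 307 = true := by decide +kernel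
theorem s9c616 : allBelow (fun k => fs9 (Nat.add (Nat.succ 187062) k)) 299 = true := by decide +kernel
theorem s9c617 : allBelow (fun k => fs9 (Nat.add (Nat.succ 187361) k)) 294 = true := by decide +kernel
theorem s9c618 : allBelow (fun k => fs9 (Nat.add (Nat.succ 187655) k)) 282 = true := by decide +kernel
theorem s9c619 : allBelow (fun k => fs9 (Nat.add (Nat.succ 187937) k)) 287 = true := by decide +kernel
theorem s9c620 : allBelow (fun k => fs9 (Nat.add (Nat.succ 188224) k)) 281 = true := by decide +kernel
theorem s9c621 : allBelow (fun k => fs9 (Nat.add (Nat.succ 188505) k)) 286 = true := by decide +kernel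
theorem s9c622 : allBelow (fun k => fs9 (Nat.add (Nat.succ 188791) k)) 266 = true := by decide +kernel
theorem s9c623 : allBelow (fun k => fs9 (Nat.add (Nat.succ 189057) k)) 254 = true := by decide +kernel
theorem s9c624 : allBelow (fun k => fs9 (Nat.add (Nat.succ 189311) k)) 250 = true := by decide +kernel
theorem s9c625 : allBelow (fun k => fs9 (Nat.add (Nat.succ 189561) k)) 261 = true := by decide +kernel
theorem s9c626 : allBelow (fun k => fs9 (Nat.add (Nat.succ 189822) k)) 263 = true := by decide +kernel
theorem s9c627 : allBelow (fun k => fs9 (Nat.add (Nat.succ 190085) k)) 263 = true := by decide +kernel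
theorem s9c628 : allBelow (fun k => fs9 (Nat.add (Nat.succ 190348) k)) 263 = true := by decide +kernel
theorem s9c629 : allBelow (fun k => fs9 (Nat.add (Nat.succ 190611) k)) 271 = true := by decide +kernel
theorem s9c630 : allBelow (fun k => fs9 (Nat.add (Nat.succ 190882) k)) 261 = true := by decide +kernel
theorem s9c631 : allBelow (fun k => fs9 (Nat.add (Nat.succ 191143) k)) 266 = true := by decide +kernel
theorem s9c632 : allBelow (fun k => fs9 (Nat.add (Nat.succ 191409) k)) 259 = true := by decide +kernel
theorem s9c633 : allBelow (fun k => fs9 (Nat.add (Nat.succ 191668) k)) 257 = true := by decide +kernel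
theorem s9c634 : allBelow (fun k => fs9 (Nat.add (Nat.succ 191925) k)) 270 = true := by decide +kernel
theorem s9c635 : allBelow (fun k => fs9 (Nat.add (Nat.succ 192195) k)) 267 = true := by decide +kernel
theorem s9c636 : allBelow (fun k => fs9 (Nat.add (Nat.succ 192462) k)) 255 = true := by decide +kernel
theorem s9c637 : allBelow (fun k => fs9 (Nat.add (Nat.succ 192717) k)) 270 = true := by decide +kernel
theorem s9c638 : allBelow (fun k => fs9 (Nat.add (Nat.succ 192987) k)) 267 = true := by decide +kernel
theorem s9c639 : allBelow (fun k => fs9 (Nat.add (Nat.succ 193254) k)) 279 = true := by decide +kernel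
theorem s9c640 : allBelow (fun k => fs9 (Nat.add (Nat.succ 193533) k)) 256 = true := by decide +kernel
theorem s9c641 : allBelow (fun k => fs9 (Nat.add (Nat.succ 193789) k)) 269 = true := by decide +kernel
theorem s9c642 : allBelow (fun k => fs9 (Nat.add (Nat.succ 194058) k)) 274 = true := by decide +kernel
theorem s9c643 : allBelow (fun k => fs9 (Nat.add (Nat.succ 194332) k)) 271 = true := by decide +kernel
theorem s9c644 : allBelow (fun k => fs9 (Nat.add (Nat.succ 194603) k)) 277 = true := by decide +kernel
theorem s9c645 : allBelow (fun k => fs9 (Nat.add (Nat.succ 194880) k)) 274 = true := by decide +kernel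
theorem s9c646 : allBelow (fun k => fs9 (Nat.add (Nat.succ 195154) k)) 272 = true := by decide +kernel
theorem s9c647 : allBelow (fun k => fs9 (Nat.add (Nat.succ 195426) k)) 286 = true := by decide +kernel
theorem s9c648 : allBelow (fun k => fs9 (Nat.add (Nat.succ 195712) k)) 287 = true := by decide +kernel
theorem s9c649 : allBelow (fun k => fs9 (Nat.add (Nat.succ 195999) k)) 287 = true := by decide +kernel
theorem s9c650 : allBelow (fun k => fs9 (Nat.add (Nat.succ 196286) k)) 296 = true := by decide +kernel
theorem s9c651 : allBelow (fun k => fs9 (Nat.add (Nat.succ 196582) k)) 291 = true := by decide +kernel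
theorem s9c652 : allBelow (fun k => fs9 (Nat.add (Nat.succ 196873) k)) 299 = true := by decide +kernel
theorem s9c653 : allBelow (fun k => fs9 (Nat.add (Nat.succ 197172) k)) 293 = true := by decide +kernel
theorem s9c654 : allBelow (fun k => fs9 (Nat.add (Nat.succ 197465) k)) 296 = true := by decide +kernel
theorem s9c655 : allBelow (fun k => fs9 (Nat.add (Nat.succ 197761) k)) 311 = true := by decide +kernel
theorem s9c656 : allBelow (fun k => fs9 (Nat.add (Nat.succ 198072) k)) 309 = true := by decide +kernel
theorem s9c657 : allBelow (fun k => fs9 (Nat.add (Nat.succ 198381) k)) 271 = true := by decide +kernel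
theorem s9c658 : allBelow (fun k => fs9 (Nat.add (Nat.succ 198652) k)) 254 = true := by decide +kernel
theorem s9c659 : allBelow (fun k => fs9 (Nat.add (Nat.succ 198906) k)) 260 = true := by decide +kernel
theorem s9c660 : allBelow (fun k => fs9 (Nat.add (Nat.succ 199166) k)) 257 = true := by decide +kernel
theorem s9c661 : allBelow (fun k => fs9 (Nat.add (Nat.succ 199423) k)) 255 = true := by decide +kernel
theorem s9c662 : allBelow (fun k => fs9 (Nat.add (Nat.succ 199678) k)) 252 = true := by decide +kernel
theorem s9c663 : allBelow (fun k => fs9 (Nat.add (Nat.succ 199930) k)) 240 = true := by decide +kernel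
theorem s9c664 : allBelow (fun k => fs9 (Nat.add (Nat.succ 200170) k)) 235 = true := by decide +kernel
theorem s9c665 : allBelow (fun k => fs9 (Nat.add (Nat.succ 200405) k)) 228 = true := by decide +kernel
theorem s9c666 : allBelow (fun k => fs9 (Nat.add (Nat.succ 200633) k)) 229 = true := by decide +kernel
theorem s9c667 : allBelow (fun k => fs9 (Nat.add (Nat.succ 200862) k)) 237 = true := by decide +kernel
theorem s9c668 : allBelow (fun k => fs9 (Nat.add (Nat.succ 201099) k)) 242 = true := by decide +kernel
theorem s9c669 : allBelow (fun k => fs9 (Nat.add (Nat.succ 201341) k)) 237 = true := by decide +kernel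
theorem s9c670 : allBelow (fun k => fs9 (Nat.add (Nat.succ 201578) k)) 236 = true := by decide +kernel
theorem s9c671 : allBelow (fun k => fs9 (Nat.add (Nat.succ 201814) k)) 248 = true := by decide +kernel
theorem s9c672 : allBelow (fun k => fs9 (Nat.add (Nat.succ 202062) k)) 253 = true := by decide +kernel
theorem s9c673 : allBelow (fun k => fs9 (Nat.add (Nat.succ 202315) k)) 251 = true := by decide +kernel
theorem s9c674 : allBelow (fun k => fs9 (Nat.add (Nat.succ 202566) k)) 241 = true := by decide +kernel
theorem s9c675 : allBelow (fun k => fs9 (Nat.add (Nat.succ 202807) k)) 257 = true := by decide +kernel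
theorem s9c676 : allBelow (fun k => fs9 (Nat.add (Nat.succ 203064) k)) 264 = true := by decide +kernel
theorem s9c677 : allBelow (fun k => fs9 (Nat.add (Nat.succ 203328) k)) 261 = true := by decide +kernel
theorem s9c678 : allBelow (fun k => fs9 (Nat.add (Nat.succ 203589) k)) 249 = true := by decide +kernel
theorem s9c679 : allBelow (fun k => fs9 (Nat.add (Nat.succ 203838) k)) 265 = true := by decide +kernel
theorem s9c680 : allBelow (fun k => fs9 (Nat.add (Nat.succ 204103) k)) 254 = true := by decide +kernel
theorem s9c681 : allBelow (fun k => fs9 (Nat.add (Nat.succ 204357) k)) 259 = true := by decide +kernel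
theorem s9c682 : allBelow (fun k => fs9 (Nat.add (Nat.succ 204616) k)) 269 = true := by decide +kernel
theorem s9c683 : allBelow (fun k => fs9 (Nat.add (Nat.succ 204885) k)) 242 = true := by decide +kernel
theorem s9c684 : allBelow (fun k => fs9 (Nat.add (Nat.succ 205127) k)) 267 = true := by decide +kernel
theorem s9c685 : allBelow (fun k => fs9 (Nat.add (Nat.succ 205394) k)) 249 = true := by decide +kernel
theorem s9c686 : allBelow (fun k => fs9 (Nat.add (Nat.succ 205643) k)) 270 = true := by decide +kernel
theorem s9c687 : allBelow (fun k => fs9 (Nat.add (Nat.succ 205913) k)) 258 = true := by decide +kernel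
theorem s9c688 : allBelow (fun k => fs9 (Nat.add (Nat.succ 206171) k)) 271 = true := by decide +kernel
theorem s9c689 : allBelow (fun k => fs9 (Nat.add (Nat.succ 206442) k)) 261 = true := by decide +kernel
theorem s9c690 : allBelow (fun k => fs9 (Nat.add (Nat.succ 206703) k)) 253 = true := by decide +kernel
theorem s9c691 : allBelow (fun k => fs9 (Nat.add (Nat.succ 206956) k)) 257 = true := by decide +kernel
theorem s9c692 : allBelow (fun k => fs9 (Nat.add (Nat.succ 207213) k)) 246 = true := by decide +kernel
theorem s9c693 : allBelow (fun k => fs9 (Nat.add (Nat.succ 207459) k)) 239 = true := by decide +kernel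
theorem s9c694 : allBelow (fun k => fs9 (Nat.add (Nat.succ 207698) k)) 241 = true := by decide +kernel
theorem s9c695 : allBelow (fun k => fs9 (Nat.add (Nat.succ 207939) k)) 250 = true := by decide +kernel
theorem s9c696 : allBelow (fun k => fs9 (Nat.add (Nat.succ 208189) k)) 272 = true := by decide +kernel
theorem s9c697 : allBelow (fun k => fs9 (Nat.add (Nat.succ 208461) k)) 315 = true := by decide +kernel
theorem s9c698 : allBelow (fun k => fs9 (Nat.add (Nat.succ 208776) k)) 303 = true := by decide +kernel
theorem s9c699 : allBelow (fun k => fs9 (Nat.add (Nat.succ 209079) k)) 299 = true := by decide +kernel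
theorem s9c700 : allBelow (fun k => fs9 (Nat.add (Nat.succ 209378) k)) 293 = true := by decide +kernel
theorem s9c701 : allBelow (fun k => fs9 (Nat.add (Nat.succ 209671) k)) 284 = true := by decide +kernel
theorem s9c702 : allBelow (fun k => fs9 (Nat.add (Nat.succ 209955) k)) 293 = true := by decide +kernel
theorem s9c703 : allBelow (fun k => fs9 (Nat.add (Nat.succ 210248) k)) 283 = true := by decide +kernel
theorem s9c704 : allBelow (fun k => fs9 (Nat.add (Nat.succ 210531) k)) 290 = true := by decide +kernel
theorem s9c705 : allBelow (fun k => fs9 (Nat.add (Nat.succ 210821) k)) 262 = true := by decide +kernel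
theorem s9c706 : allBelow (fun k => fs9 (Nat.add (Nat.succ 211083) k)) 256 = true := by decide +kernel
theorem s9c707 : allBelow (fun k => fs9 (Nat.add (Nat.succ 211339) k)) 249 = true := by decide +kernel
theorem s9c708 : allBelow (fun k => fs9 (Nat.add (Nat.succ 211588) k)) 257 = true := by decide +kernel
theorem s9c709 : allBelow (fun k => fs9 (Nat.add (Nat.succ 211845) k)) 271 = true := by decide +kernel
theorem s9c710 : allBelow (fun k => fs9 (Nat.add (Nat.succ 212116) k)) 264 = true := by decide +kernel
theorem s9c711 : allBelow (fun k => fs9 (Nat.add (Nat.succ 212380) k)) 260 = true := by decide +kernel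
theorem s9c712 : allBelow (fun k => fs9 (Nat.add (Nat.succ 212640) k)) 268 = true := by decide +kernel
theorem s9c713 : allBelow (fun k => fs9 (Nat.add (Nat.succ 212908) k)) 272 = true := by decide +kernel
theorem s9c714 : allBelow (fun k => fs9 (Nat.add (Nat.succ 213180) k)) 264 = true := by decide +kernel
theorem s9c715 : allBelow (fun k => fs9 (Nat.add (Nat.succ 213444) k)) 262 = true := by decide +kernel
theorem s9c716 : allBelow (fun k => fs9 (Nat.add (Nat.succ 213706) k)) 263 = true := by decide +kernel
theorem s9c717 : allBelow (fun k => fs9 (Nat.add (Nat.succ 213969) k)) 254 = true := by decide +kernel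
theorem s9c718 : allBelow (fun k => fs9 (Nat.add (Nat.succ 214223) k)) 267 = true := by decide +kernel
theorem s9c719 : allBelow (fun k => fs9 (Nat.add (Nat.succ 214490) k)) 270 = true := by decide +kernel
theorem s9c720 : allBelow (fun k => fs9 (Nat.add (Nat.succ 214760) k)) 266 = true := by decide +kernel
theorem s9c721 : allBelow (fun k => fs9 (Nat.add (Nat.succ 215026) k)) 256 = true := by decide +kernel
theorem s9c722 : allBelow (fun k => fs9 (Nat.add (Nat.succ 215282) k)) 277 = true := by decide +kernel
theorem s9c723 : allBelow (fun k => fs9 (Nat.add (Nat.succ 215559) k)) 267 = true := by decide +kernel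
theorem s9c724 : allBelow (fun k => fs9 (Nat.add (Nat.succ 215826) k)) 281 = true := by decide +kernel
theorem s9c725 : allBelow (fun k => fs9 (Nat.add (Nat.succ 216107) k)) 256 = true := by decide +kernel
theorem s9c726 : allBelow (fun k => fs9 (Nat.add (Nat.succ 216363) k)) 271 = true := by decide +kernel
theorem s9c727 : allBelow (fun k => fs9 (Nat.add (Nat.succ 216634) k)) 278 = true := by decide +kernel
theorem s9c728 : allBelow (fun k => fs9 (Nat.add (Nat.succ 216912) k)) 276 = true := by decide +kernel
theorem s9c729 : allBelow (fun k => fs9 (Nat.add (Nat.succ 217188) k)) 275 = true := by decide +kernel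
theorem s9c730 : allBelow (fun k => fs9 (Nat.add (Nat.succ 217463) k)) 277 = true := by decide +kernel
theorem s9c731 : allBelow (fun k => fs9 (Nat.add (Nat.succ 217740) k)) 277 = true := by decide +kernel
theorem s9c732 : allBelow (fun k => fs9 (Nat.add (Nat.succ 218017) k)) 276 = true := by decide +kernel
theorem s9c733 : allBelow (fun k => fs9 (Nat.add (Nat.succ 218293) k)) 285 = true := by decide +kernel
theorem s9c734 : allBelow (fun k => fs9 (Nat.add (Nat.succ 218578) k)) 288 = true := by decide +kernel
theorem s9c735 : allBelow (fun k => fs9 (Nat.add (Nat.succ 218866) k)) 281 = true := by decide +kernel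
theorem s9c736 : allBelow (fun k => fs9 (Nat.add (Nat.succ 219147) k)) 300 = true := by decide +kernel
theorem s9c737 : allBelow (fun k => fs9 (Nat.add (Nat.succ 219447) k)) 297 = true := by decide +kernel
theorem s9c738 : allBelow (fun k => fs9 (Nat.add (Nat.succ 219744) k)) 302 = true := by decide +kernel
theorem s9c739 : allBelow (fun k => fs9 (Nat.add (Nat.succ 220046) k)) 294 = true := by decide +kernel
theorem s9c740 : allBelow (fun k => fs9 (Nat.add (Nat.succ 220340) k)) 300 = true := by decide +kernel
theorem s9c741 : allBelow (fun k => fs9 (Nat.add (Nat.succ 220640) k)) 307 = true := by decide +kernel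
theorem s9c742 : allBelow (fun k => fs9 (Nat.add (Nat.succ 220947) k)) 305 = true := by decide +kernel
theorem s9c743 : allBelow (fun k => fs9 (Nat.add (Nat.succ 221252) k)) 265 = true := by decide +kernel
theorem s9c744 : allBelow (fun k => fs9 (Nat.add (Nat.succ 221517) k)) 250 = true := by decide +kernel
theorem s9c745 : allBelow (fun k => fs9 (Nat.add (Nat.succ 221767) k)) 261 = true := by decide +kernel
theorem s9c746 : allBelow (fun k => fs9 (Nat.add (Nat.succ 222028) k)) 253 = true := by decide +kernel
theorem s9c747 : allBelow (fun k => fs9 (Nat.add (Nat.succ 222281) k)) 258 = true := by decide +kernel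
theorem s9c748 : allBelow (fun k => fs9 (Nat.add (Nat.succ 222539) k)) 251 = true := by decide +kernel
theorem s9c749 : allBelow (fun k => fs9 (Nat.add (Nat.succ 222790) k)) 231 = true := by decide +kernel
theorem s9c750 : allBelow (fun k => fs9 (Nat.add (Nat.succ 223021) k)) 232 = true := by decide +kernel
theorem s9c751 : allBelow (fun k => fs9 (Nat.add (Nat.succ 223253) k)) 229 = true := by decide +kernel
theorem s9c752 : allBelow (fun k => fs9 (Nat.add (Nat.succ 223482) k)) 228 = true := by decide +kernel
theorem s9c753 : allBelow (fun k => fs9 (Nat.add (Nat.succ 223710) k)) 239 = true := by decide +kernel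
theorem s9c754 : allBelow (fun k => fs9 (Nat.add (Nat.succ 223949) k)) 243 = true := by decide +kernel
theorem s9c755 : allBelow (fun k => fs9 (Nat.add (Nat.succ 224192) k)) 237 = true := by decide +kernel
theorem s9c756 : allBelow (fun k => fs9 (Nat.add (Nat.succ 224429) k)) 238 = true := by decide +kernel

end Cfsg.Agent.Lib.Helper35.Fi24a
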