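import Cfsg.Agent.Lib.Helper35.Fi24a.Data

set_option Elab.async false

namespace Cfsg.Agent.Lib.Helper35.Fi24a

open Cfsg.Agent.Lib.Helper35

theorem s9c757 : allBelow (fun k => fs9 (Nat.add (Nat.succ 224667) k)) 241 = true := by decide +kernel
theorem s9c758 : allBelow (fun k => fs9 (Nat.add (Nat.succ 224908) k)) 249 = true := by decide +kernel
theorem s9c759 : allBelow (fun k => fs9 (Nat.add (Nat.succ 225157) k)) 246 = true := by decide +kernel
theorem s9c760 : allBelow (fun k => fs9 (Nat.add (Nat.succ 225403) k)) 252 = true := by decide +kernel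
theorem s9c761 : allBelow (fun k => fs9 (Nat.add (Nat.succ 225655) k)) 246 = true := by decide +kernel
theorem s9c762 : allBelow (fun k => fs9 (Nat.add (Nat.succ 225901) k)) 258 = true := by decide +kernel
theorem s9c763 : allBelow (fun k => fs9 (Nat.add (Nat.succ 226159) k)) 263 = true := by decide +kernel
theorem s9c764 : allBelow (fun k => fs9 (Nat.add (Nat.succ 226422) k)) 264 = true := by decide +kernel
theorem s9c765 : allBelow (fun k => fs9 (Nat.add (Nat.succ 226686) k)) 247 = true := by decide +kernel
theorem s9c766 : allBelow (fun k => fs9 (Nat.add (Nat.succ 226933) k)) 262 = true := by decide +kernel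
theorem s9c767 : allBelow (fun k => fs9 (Nat.add (Nat.succ 227195) k)) 260 = true := by decide +kernel
theorem s9c768 : allBelow (fun k => fs9 (Nat.add (Nat.succ 227455) k)) 251 = true := by decide +kernel
theorem s9c769 : allBelow (fun k => fs9 (Nat.add (Nat.succ 227706) k)) 267 = true := by decide +kernel
theorem s9c770 : allBelow (fun k => fs9 (Nat.add (Nat.succ 227973) k)) 256 = true := by decide +kernel
theorem s9c771 : allBelow (fun k => fs9 (Nat.add (Nat.succ 228229) k)) 251 = true := by decide +kernel
theorem s9c772 : allBelow (fun k => fs9 (Nat.add (Nat.succ 228480) k)) 259 = true := by decide +kernel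
theorem s9c773 : allBelow (fun k => fs9 (Nat.add (Nat.succ 228739) k)) 255 = true := by decide +kernel
theorem s9c774 : allBelow (fun k => fs9 (Nat.add (Nat.succ 228994) k)) 269 = true := by decide +kernel
theorem s9c775 : allBelow (fun k => fs9 (Nat.add (Nat.succ 229263) k)) 259 = true := by decide +kernel
theorem s9c776 : allBelow (fun k => fs9 (Nat.add (Nat.succ 229522) k)) 268 = true := by decide +kernel
theorem s9c777 : allBelow (fun k => fs9 (Nat.add (Nat.succ 229790) k)) 262 = true := by decide +kernel
theorem s9c778 : allBelow (fun k => fs9 (Nat.add (Nat.succ 230052) k)) 256 = true := by decide +kernel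
theorem s9c779 : allBelow (fun k => fs9 (Nat.add (Nat.succ 230308) k)) 246 = true := by decide +kernel
theorem s9c780 : allBelow (fun k => fs9 (Nat.add (Nat.succ 230554) k)) 250 = true := by decide +kernel
theorem s9c781 : allBelow (fun k => fs9 (Nat.add (Nat.succ 230804) k)) 239 = true := by decide +kernel
theorem s9c782 : allBelow (fun k => fs9 (Nat.add (Nat.succ 231043) k)) 243 = true := by decide +kernel
theorem s9c783 : allBelow (fun k => fs9 (Nat.add (Nat.succ 231286) k)) 238 = true := by decide +kernel
theorem s9c784 : allBelow (fun k => fs9 (Nat.add (Nat.succ 231524) k)) 254 = true := by decide +kernel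
theorem s9c785 : allBelow (fun k => fs9 (Nat.add (Nat.succ 231778) k)) 295 = true := by decide +kernel
theorem s9c786 : allBelow (fun k => fs9 (Nat.add (Nat.succ 232073) k)) 291 = true := by decide +kernel
theorem s9c787 : allBelow (fun k => fs9 (Nat.add (Nat.succ 232364) k)) 305 = true := by decide +kernel
theorem s9c788 : allBelow (fun k => fs9 (Nat.add (Nat.succ 232669) k)) 298 = true := by decide +kernel
theorem s9c789 : allBelow (fun k => fs9 (Nat.add (Nat.succ 232967) k)) 291 = true := by decide +kernel
theorem s9c790 : allBelow (fun k => fs9 (Nat.add (Nat.succ 233258) k)) 288 = true := by decide +kernel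
theorem s9c791 : allBelow (fun k => fs9 (Nat.add (Nat.succ 233546) k)) 289 = true := by decide +kernel
theorem s9c792 : allBelow (fun k => fs9 (Nat.add (Nat.succ 233835) k)) 283 = true := by decide +kernel
theorem s9c793 : allBelow (fun k => fs9 (Nat.add (Nat.succ 234118) k)) 291 = true := by decide +kernel
theorem s9c794 : allBelow (fun k => fs9 (Nat.add (Nat.succ 234409) k)) 256 = true := by decide +kernel
theorem s9c795 : allBelow (fun k => fs9 (Nat.add (Nat.succ 234665) k)) 252 = true := by decide +kernel
theorem s9c796 : allBelow (fun k => fs9 (Nat.add (Nat.succ 234917) k)) 245 = true := by decide +kernel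
theorem s9c797 : allBelow (fun k => fs9 (Nat.add (Nat.succ 235162) k)) 265 = true := by decide +kernel
theorem s9c798 : allBelow (fun k => fs9 (Nat.add (Nat.succ 235427) k)) 272 = true := by decide +kernel
theorem s9c799 : allBelow (fun k => fs9 (Nat.add (Nat.succ 235699) k)) 263 = true := by decide +kernel
theorem s9c800 : allBelow (fun k => fs9 (Nat.add (Nat.succ 235962) k)) 260 = true := by decide +kernel
theorem s9c801 : allBelow (fun k => fs9 (Nat.add (Nat.succ 236222) k)) 264 = true := by decide +kernel
theorem s9c802 : allBelow (fun k => fs9 (Nat.add (Nat.succ 236486) k)) 276 = true := by decide +kernel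
theorem s9c803 : allBelow (fun k => fs9 (Nat.add (Nat.succ 236762) k)) 265 = true := by decide +kernel
theorem s9c804 : allBelow (fun k => fs9 (Nat.add (Nat.succ 237027) k)) 265 = true := by decide +kernel
theorem s9c805 : allBelow (fun k => fs9 (Nat.add (Nat.succ 237292) k)) 265 = true := by decide +kernel
theorem s9c806 : allBelow (fun k => fs9 (Nat.add (Nat.succ 237557) k)) 270 = true := by decide +kernel
theorem s9c807 : allBelow (fun k => fs9 (Nat.add (Nat.succ 237827) k)) 256 = true := by decide +kernel
theorem s9c808 : allBelow (fun k => fs9 (Nat.add (Nat.succ 238083) k)) 261 = true := by decide +kernel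
theorem s9c809 : allBelow (fun k => fs9 (Nat.add (Nat.succ 238344) k)) 271 = true := by decide +kernel
theorem s9c810 : allBelow (fun k => fs9 (Nat.add (Nat.succ 238615) k)) 268 = true := by decide +kernel
theorem s9c811 : allBelow (fun k => fs9 (Nat.add (Nat.succ 238883) k)) 253 = true := by decide +kernel
theorem s9c812 : allBelow (fun k => fs9 (Nat.add (Nat.succ 239136) k)) 273 = true := by decide +kernel
theorem s9c813 : allBelow (fun k => fs9 (Nat.add (Nat.succ 239409) k)) 280 = true := by decide +kernel
theorem s9c814 : allBelow (fun k => fs9 (Nat.add (Nat.succ 239689) k)) 267 = true := by decide +kernel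
theorem s9c815 : allBelow (fun k => fs9 (Nat.add (Nat.succ 239956) k)) 280 = true := by decide +kernel
theorem s9c816 : allBelow (fun k => fs9 (Nat.add (Nat.succ 240236) k)) 261 = true := by decide +kernel
theorem s9c817 : allBelow (fun k => fs9 (Nat.add (Nat.succ 240497) k)) 275 = true := by decide +kernel
theorem s9c818 : allBelow (fun k => fs9 (Nat.add (Nat.succ 240772) k)) 275 = true := by decide +kernel
theorem s9c819 : allBelow (fun k => fs9 (Nat.add (Nat.succ 241047) k)) 283 = true := by decide +kernel
theorem s9c820 : allBelow (fun k => fs9 (Nat.add (Nat.succ 241330) k)) 275 = true := by decide +kernel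
theorem s9c821 : allBelow (fun k => fs9 (Nat.add (Nat.succ 241605) k)) 279 = true := by decide +kernel
theorem s9c822 : allBelow (fun k => fs9 (Nat.add (Nat.succ 241884) k)) 274 = true := by decide +kernel
theorem s9c823 : allBelow (fun k => fs9 (Nat.add (Nat.succ 242158) k)) 285 = true := by decide +kernel
theorem s9c824 : allBelow (fun k => fs9 (Nat.add (Nat.succ 242443) k)) 275 = true := by decide +kernel
theorem s9c825 : allBelow (fun k => fs9 (Nat.add (Nat.succ 242718) k)) 288 = true := by decide +kernel
theorem s9c826 : allBelow (fun k => fs9 (Nat.add (Nat.succ 243006) k)) 293 = true := by decide +kernel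
theorem s9c827 : allBelow (fun k => fs9 (Nat.add (Nat.succ 243299) k)) 281 = true := by decide +kernel
theorem s9c828 : allBelow (fun k => fs9 (Nat.add (Nat.succ 243580) k)) 302 = true := by decide +kernel
theorem s9c829 : allBelow (fun k => fs9 (Nat.add (Nat.succ 243882) k)) 301 = true := by decide +kernel
theorem s9c830 : allBelow (fun k => fs9 (Nat.add (Nat.succ 244183) k)) 303 = true := by decide +kernel
theorem s9c831 : allBelow (fun k => fs9 (Nat.add (Nat.succ 244486) k)) 304 = true := by decide +kernel
theorem s9c832 : allBelow (fun k => fs9 (Nat.add (Nat.succ 244790) k)) 303 = true := by decide +kernel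
theorem s9c833 : allBelow (fun k => fs9 (Nat.add (Nat.succ 245093) k)) 299 = true := by decide +kernel
theorem s9c834 : allBelow (fun k => fs9 (Nat.add (Nat.succ 245392) k)) 280 = true := by decide +kernel
theorem s9c835 : allBelow (fun k => fs9 (Nat.add (Nat.succ 245672) k)) 251 = true := by decide +kernel
theorem s9c836 : allBelow (fun k => fs9 (Nat.add (Nat.succ 245923) k)) 253 = true := by decide +kernel
theorem s9c837 : allBelow (fun k => fs9 (Nat.add (Nat.succ 246176) k)) 257 = true := by decide +kernel
theorem s9c838 : allBelow (fun k => fs9 (Nat.add (Nat.succ 246433) k)) 258 = true := by decide +kernel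
theorem s9c839 : allBelow (fun k => fs9 (Nat.add (Nat.succ 246691) k)) 255 = true := by decide +kernel
theorem s9c840 : allBelow (fun k => fs9 (Nat.add (Nat.succ 246946) k)) 231 = true := by decide +kernel
theorem s9c841 : allBelow (fun k => fs9 (Nat.add (Nat.succ 247177) k)) 230 = true := by decide +kernel
theorem s9c842 : allBelow (fun k => fs9 (Nat.add (Nat.succ 247407) k)) 228 = true := by decide +kernel
theorem s9c843 : allBelow (fun k => fs9 (Nat.add (Nat.succ 247635) k)) 227 = true := by decide +kernel
theorem s9c844 : allBelow (fun k => fs9 (Nat.add (Nat.succ 247862) k)) 234 = true := by decide +kernel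
theorem s9c845 : allBelow (fun k => fs9 (Nat.add (Nat.succ 248096) k)) 240 = true := by decide +kernel
theorem s9c846 : allBelow (fun k => fs9 (Nat.add (Nat.succ 248336) k)) 242 = true := by decide +kernel
theorem s9c847 : allBelow (fun k => fs9 (Nat.add (Nat.succ 248578) k)) 235 = true := by decide +kernel
theorem s9c848 : allBelow (fun k => fs9 (Nat.add (Nat.succ 248813) k)) 237 = true := by decide +kernel
theorem s9c849 : allBelow (fun k => fs9 (Nat.add (Nat.succ 249050) k)) 237 = true := by decide +kernel
theorem s9c850 : allBelow (fun k => fs9 (Nat.add (Nat.succ 249287) k)) 249 = true := by decide +kernel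
theorem s9c851 : allBelow (fun k => fs9 (Nat.add (Nat.succ 249536) k)) 245 = true := by decide +kernel
theorem s9c852 : allBelow (fun k => fs9 (Nat.add (Nat.succ 249781) k)) 249 = true := by decide +kernel
theorem s9c853 : allBelow (fun k => fs9 (Nat.add (Nat.succ 250030) k)) 247 = true := by decide +kernel
theorem s9c854 : allBelow (fun k => fs9 (Nat.add (Nat.succ 250277) k)) 253 = true := by decide +kernel
theorem s9c855 : allBelow (fun k => fs9 (Nat.add (Nat.succ 250530) k)) 264 = true := by decide +kernel
theorem s9c856 : allBelow (fun k => fs9 (Nat.add (Nat.succ 250794) k)) 262 = true := by decide +kernel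
theorem s9c857 : allBelow (fun k => fs9 (Nat.add (Nat.succ 251056) k)) 259 = true := by decide +kernel
theorem s9c858 : allBelow (fun k => fs9 (Nat.add (Nat.succ 251315) k)) 241 = true := by decide +kernel
theorem s9c859 : allBelow (fun k => fs9 (Nat.add (Nat.succ 251556) k)) 262 = true := by decide +kernel
theorem s9c860 : allBelow (fun k => fs9 (Nat.add (Nat.succ 251818) k)) 262 = true := by decide +kernel
theorem s9c861 : allBelow (fun k => fs9 (Nat.add (Nat.succ 252080) k)) 251 = true := by decide +kernel
theorem s9c862 : allBelow (fun k => fs9 (Nat.add (Nat.succ 252331) k)) 264 = true := by decide +kernel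
theorem s9c863 : allBelow (fun k => fs9 (Nat.add (Nat.succ 252595) k)) 255 = true := by decide +kernel
theorem s9c864 : allBelow (fun k => fs9 (Nat.add (Nat.succ 252850) k)) 241 = true := by decide +kernel
theorem s9c865 : allBelow (fun k => fs9 (Nat.add (Nat.succ 253091) k)) 264 = true := by decide +kernel
theorem s9c866 : allBelow (fun k => fs9 (Nat.add (Nat.succ 253355) k)) 247 = true := by decide +kernel
theorem s9c867 : allBelow (fun k => fs9 (Nat.add (Nat.succ 253602) k)) 273 = true := by decide +kernel
theorem s9c868 : allBelow (fun k => fs9 (Nat.add (Nat.succ 253875) k)) 254 = true := by decide +kernel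
theorem s9c869 : allBelow (fun k => fs9 (Nat.add (Nat.succ 254129) k)) 266 = true := by decide +kernel
theorem s9c870 : allBelow (fun k => fs9 (Nat.add (Nat.succ 254395) k)) 261 = true := by decide +kernel
theorem s9c871 : allBelow (fun k => fs9 (Nat.add (Nat.succ 254656) k)) 264 = true := by decide +kernel
theorem s9c872 : allBelow (fun k => fs9 (Nat.add (Nat.succ 254920) k)) 246 = true := by decide +kernel
theorem s9c873 : allBelow (fun k => fs9 (Nat.add (Nat.succ 255166) k)) 248 = true := by decide +kernel
theorem s9c874 : allBelow (fun k => fs9 (Nat.add (Nat.succ 255414) k)) 251 = true := by decide +kernel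
theorem s9c875 : allBelow (fun k => fs9 (Nat.add (Nat.succ 255665) k)) 237 = true := by decide +kernel
theorem s9c876 : allBelow (fun k => fs9 (Nat.add (Nat.succ 255902) k)) 237 = true := by decide +kernel
theorem s9c877 : allBelow (fun k => fs9 (Nat.add (Nat.succ 256139) k)) 243 = true := by decide +kernel
theorem s9c878 : allBelow (fun k => fs9 (Nat.add (Nat.succ 256382) k)) 255 = true := by decide +kernel
theorem s9c879 : allBelow (fun k => fs9 (Nat.add (Nat.succ 256637) k)) 290 = true := by decide +kernel
theorem s9c880 : allBelow (fun k => fs9 (Nat.add (Nat.succ 256927) k)) 281 = true := by decide +kernel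
theorem s9c881 : allBelow (fun k => fs9 (Nat.add (Nat.succ 257208) k)) 303 = true := by decide +kernel
theorem s9c882 : allBelow (fun k => fs9 (Nat.add (Nat.succ 257511) k)) 299 = true := by decide +kernel
theorem s9c883 : allBelow (fun k => fs9 (Nat.add (Nat.succ 257810) k)) 290 = true := by decide +kernel
theorem s9c884 : allBelow (fun k => fs9 (Nat.add (Nat.succ 258100) k)) 295 = true := by decide +kernel
theorem s9c885 : allBelow (fun k => fs9 (Nat.add (Nat.succ 258395) k)) 288 = true := by decide +kernel
theorem s9c886 : allBelow (fun k => fs9 (Nat.add (Nat.succ 258683) k)) 276 = true := by decide +kernel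
theorem s9c887 : allBelow (fun k => fs9 (Nat.add (Nat.succ 258959) k)) 292 = true := by decide +kernel
theorem s9c888 : allBelow (fun k => fs9 (Nat.add (Nat.succ 259251) k)) 260 = true := by decide +kernel
theorem s9c889 : allBelow (fun k => fs9 (Nat.add (Nat.succ 259511) k)) 255 = true := by decide +kernel
theorem s9c890 : allBelow (fun k => fs9 (Nat.add (Nat.succ 259766) k)) 247 = true := by decide +kernel
theorem s9c891 : allBelow (fun k => fs9 (Nat.add (Nat.succ 260013) k)) 238 = true := by decide +kernel
theorem s9c892 : allBelow (fun k => fs9 (Nat.add (Nat.succ 260251) k)) 287 = true := by decide +kernel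
theorem s9c893 : allBelow (fun k => fs9 (Nat.add (Nat.succ 260538) k)) 270 = true := by decide +kernel
theorem s9c894 : allBelow (fun k => fs9 (Nat.add (Nat.succ 260808) k)) 260 = true := by decide +kernel
theorem s9c895 : allBelow (fun k => fs9 (Nat.add (Nat.succ 261068) k)) 259 = true := by decide +kernel
theorem s9c896 : allBelow (fun k => fs9 (Nat.add (Nat.succ 261327) k)) 263 = true := by decide +kernel
theorem s9c897 : allBelow (fun k => fs9 (Nat.add (Nat.succ 261590) k)) 269 = true := by decide +kernel
theorem s9c898 : allBelow (fun k => fs9 (Nat.add (Nat.succ 261859) k)) 283 = true := by decide +kernel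
theorem s9c899 : allBelow (fun k => fs9 (Nat.add (Nat.succ 262142) k)) 258 = true := by decide +kernel
theorem s9c900 : allBelow (fun k => fs9 (Nat.add (Nat.succ 262400) k)) 269 = true := by decide +kernel
theorem s9c901 : allBelow (fun k => fs9 (Nat.add (Nat.succ 262669) k)) 258 = true := by decide +kernel
theorem s9c902 : allBelow (fun k => fs9 (Nat.add (Nat.succ 262927) k)) 274 = true := by decide +kernel
theorem s9c903 : allBelow (fun k => fs9 (Nat.add (Nat.succ 263201) k)) 252 = true := by decide +kernel
theorem s9c904 : allBelow (fun k => fs9 (Nat.add (Nat.succ 263453) k)) 265 = true := by decide +kernel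
theorem s9c905 : allBelow (fun k => fs9 (Nat.add (Nat.succ 263718) k)) 273 = true := by decide +kernel
theorem s9c906 : allBelow (fun k => fs9 (Nat.add (Nat.succ 263991) k)) 262 = true := by decide +kernel
theorem s9c907 : allBelow (fun k => fs9 (Nat.add (Nat.succ 264253) k)) 254 = true := by decide +kernel
theorem s9c908 : allBelow (fun k => fs9 (Nat.add (Nat.succ 264507) k)) 280 = true := by decide +kernel
theorem s9c909 : allBelow (fun k => fs9 (Nat.add (Nat.succ 264787) k)) 280 = true := by decide +kernel
theorem s9c910 : allBelow (fun k => fs9 (Nat.add (Nat.succ 265067) k)) 273 = true := by decide +kernel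
theorem s9c911 : allBelow (fun k => fs9 (Nat.add (Nat.succ 265340) k)) 277 = true := by decide +kernel
theorem s9c912 : allBelow (fun k => fs9 (Nat.add (Nat.succ 265617) k)) 259 = true := by decide +kernel
theorem s9c913 : allBelow (fun k => fs9 (Nat.add (Nat.succ 265876) k)) 278 = true := by decide +kernel
theorem s9c914 : allBelow (fun k => fs9 (Nat.add (Nat.succ 266154) k)) 274 = true := by decide +kernel
theorem s9c915 : allBelow (fun k => fs9 (Nat.add (Nat.succ 266428) k)) 286 = true := by decide +kernel
theorem s9c916 : allBelow (fun k => fs9 (Nat.add (Nat.succ 266714) k)) 280 = true := by decide +kernel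
theorem s9c917 : allBelow (fun k => fs9 (Nat.add (Nat.succ 266994) k)) 273 = true := by decide +kernel
theorem s9c918 : allBelow (fun k => fs9 (Nat.add (Nat.succ 267267) k)) 280 = true := by decide +kernel
theorem s9c919 : allBelow (fun k => fs9 (Nat.add (Nat.succ 267547) k)) 282 = true := by decide +kernel
theorem s9c920 : allBelow (fun k => fs9 (Nat.add (Nat.succ 267829) k)) 288 = true := by decide +kernel
theorem s9c921 : allBelow (fun k => fs9 (Nat.add (Nat.succ 268117) k)) 282 = true := by decide +kernel
theorem s9c922 : allBelow (fun k => fs9 (Nat.add (Nat.succ 268399) k)) 288 = true := by decide +kernel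
theorem s9c923 : allBelow (fun k => fs9 (Nat.add (Nat.succ 268687) k)) 282 = true := by decide +kernel
theorem s9c924 : allBelow (fun k => fs9 (Nat.add (Nat.succ 268969) k)) 308 = true := by decide +kernel
theorem s9c925 : allBelow (fun k => fs9 (Nat.add (Nat.succ 269277) k)) 303 = true := by decide +kernel
theorem s9c926 : allBelow (fun k => fs9 (Nat.add (Nat.succ 269580) k)) 304 = true := by decide +kernel
theorem s9c927 : allBelow (fun k => fs9 (Nat.add (Nat.succ 269884) k)) 309 = true := by decide +kernel
theorem s9c928 : allBelow (fun k => fs9 (Nat.add (Nat.succ 270193) k)) 300 = true := by decide +kernel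
theorem s9c929 : allBelow (fun k => fs9 (Nat.add (Nat.succ 270493) k)) 282 = true := by decide +kernel
theorem s9c930 : allBelow (fun k => fs9 (Nat.add (Nat.succ 270775) k)) 254 = true := by decide +kernel
theorem s9c931 : allBelow (fun k => fs9 (Nat.add (Nat.succ 271029) k)) 243 = true := by decide +kernel
theorem s9c932 : allBelow (fun k => fs9 (Nat.add (Nat.succ 271272) k)) 253 = true := by decide +kernel
theorem s9c933 : allBelow (fun k => fs9 (Nat.add (Nat.succ 271525) k)) 259 = true := by decide +kernel
theorem s9c934 : allBelow (fun k => fs9 (Nat.add (Nat.succ 271784) k)) 263 = true := by decide +kernel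
theorem s9c935 : allBelow (fun k => fs9 (Nat.add (Nat.succ 272047) k)) 241 = true := by decide +kernel
theorem s9c936 : allBelow (fun k => fs9 (Nat.add (Nat.succ 272288) k)) 231 = true := by decide +kernel
theorem s9c937 : allBelow (fun k => fs9 (Nat.add (Nat.succ 272519) k)) 228 = true := by decide +kernel
theorem s9c938 : allBelow (fun k => fs9 (Nat.add (Nat.succ 272747) k)) 228 = true := by decide +kernel
theorem s9c939 : allBelow (fun k => fs9 (Nat.add (Nat.succ 272975) k)) 226 = true := by decide +kernel
theorem s9c940 : allBelow (fun k => fs9 (Nat.add (Nat.succ 273201) k)) 232 = true := by decide +kernel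
theorem s9c941 : allBelow (fun k => fs9 (Nat.add (Nat.succ 273433) k)) 238 = true := by decide +kernel
theorem s9c942 : allBelow (fun k => fs9 (Nat.add (Nat.succ 273671) k)) 243 = true := by decide +kernel
theorem s9c943 : allBelow (fun k => fs9 (Nat.add (Nat.succ 273914) k)) 236 = true := by decide +kernel
theorem s9c944 : allBelow (fun k => fs9 (Nat.add (Nat.succ 274150) k)) 232 = true := by decide +kernel
theorem s9c945 : allBelow (fun k => fs9 (Nat.add (Nat.succ 274382) k)) 233 = true := by decide +kernel
theorem s9c946 : allBelow (fun k => fs9 (Nat.add (Nat.succ 274615) k)) 242 = true := by decide +kernel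
theorem s9c947 : allBelow (fun k => fs9 (Nat.add (Nat.succ 274857) k)) 242 = true := by decide +kernel
theorem s9c948 : allBelow (fun k => fs9 (Nat.add (Nat.succ 275099) k)) 248 = true := by decide +kernel
theorem s9c949 : allBelow (fun k => fs9 (Nat.add (Nat.succ 275347) k)) 235 = true := by decide +kernel
theorem s9c950 : allBelow (fun k => fs9 (Nat.add (Nat.succ 275582) k)) 254 = true := by decide +kernel
theorem s9c951 : allBelow (fun k => fs9 (Nat.add (Nat.succ 275836) k)) 253 = true := by decide +kernel
theorem s9c952 : allBelow (fun k => fs9 (Nat.add (Nat.succ 276089) k)) 257 = true := by decide +kernel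
theorem s9c953 : allBelow (fun k => fs9 (Nat.add (Nat.succ 276346) k)) 257 = true := by decide +kernel
theorem s9c954 : allBelow (fun k => fs9 (Nat.add (Nat.succ 276603) k)) 265 = true := by decide +kernel
theorem s9c955 : allBelow (fun k => fs9 (Nat.add (Nat.succ 276868) k)) 251 = true := by decide +kernel
theorem s9c956 : allBelow (fun k => fs9 (Nat.add (Nat.succ 277119) k)) 256 = true := by decide +kernel
theorem s9c957 : allBelow (fun k => fs9 (Nat.add (Nat.succ 277375) k)) 257 = true := by decide +kernel
theorem s9c958 : allBelow (fun k => fs9 (Nat.add (Nat.succ 277632) k)) 250 = true := by decide +kernel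
theorem s9c959 : allBelow (fun k => fs9 (Nat.add (Nat.succ 277882) k)) 255 = true := by decide +kernel
theorem s9c960 : allBelow (fun k => fs9 (Nat.add (Nat.succ 278137) k)) 271 = true := by decide +kernel
theorem s9c961 : allBelow (fun k => fs9 (Nat.add (Nat.succ 278408) k)) 233 = true := by decide +kernel
theorem s9c962 : allBelow (fun k => fs9 (Nat.add (Nat.succ 278641) k)) 256 = true := by decide +kernel
theorem s9c963 : allBelow (fun k => fs9 (Nat.add (Nat.succ 278897) k)) 249 = true := by decide +kernel
theorem s9c964 : allBelow (fun k => fs9 (Nat.add (Nat.succ 279146) k)) 266 = true := by decide +kernel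
theorem s9c965 : allBelow (fun k => fs9 (Nat.add (Nat.succ 279412) k)) 262 = true := by decide +kernel
theorem s9c966 : allBelow (fun k => fs9 (Nat.add (Nat.succ 279674) k)) 258 = true := by decide +kernel
theorem s9c967 : allBelow (fun k => fs9 (Nat.add (Nat.succ 279932) k)) 260 = true := by decide +kernel
theorem s9c968 : allBelow (fun k => fs9 (Nat.add (Nat.succ 280192) k)) 263 = true := by decide +kernel
theorem s9c969 : allBelow (fun k => fs9 (Nat.add (Nat.succ 280455) k)) 253 = true := by decide +kernel
theorem s9c970 : allBelow (fun k => fs9 (Nat.add (Nat.succ 280708) k)) 245 = true := by decide +kernel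
theorem s9c971 : allBelow (fun k => fs9 (Nat.add (Nat.succ 280953) k)) 249 = true := by decide +kernel
theorem s9c972 : allBelow (fun k => fs9 (Nat.add (Nat.succ 281202) k)) 240 = true := by decide +kernel
theorem s9c973 : allBelow (fun k => fs9 (Nat.add (Nat.succ 281442) k)) 238 = true := by decide +kernel
theorem s9c974 : allBelow (fun k => fs9 (Nat.add (Nat.succ 281680) k)) 240 = true := by decide +kernel
theorem s9c975 : allBelow (fun k => fs9 (Nat.add (Nat.succ 281920) k)) 246 = true := by decide +kernel
theorem s9c976 : allBelow (fun k => fs9 (Nat.add (Nat.succ 282166) k)) 272 = true := by decide +kernel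
theorem s9c977 : allBelow (fun k => fs9 (Nat.add (Nat.succ 282438) k)) 263 = true := by decide +kernel
theorem s9c978 : allBelow (fun k => fs9 (Nat.add (Nat.succ 282701) k)) 297 = true := by decide +kernel
theorem s9c979 : allBelow (fun k => fs9 (Nat.add (Nat.succ 282998) k)) 297 = true := by decide +kernel
theorem s9c980 : allBelow (fun k => fs9 (Nat.add (Nat.succ 283295) k)) 296 = true := by decide +kernel
theorem s9c981 : allBelow (fun k => fs9 (Nat.add (Nat.succ 283591) k)) 285 = true := by decide +kernel
theorem s9c982 : allBelow (fun k => fs9 (Nat.add (Nat.succ 283876) k)) 281 = true := by decide +kernel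
theorem s9c983 : allBelow (fun k => fs9 (Nat.add (Nat.succ 284157) k)) 288 = true := by decide +kernel
theorem s9c984 : allBelow (fun k => fs9 (Nat.add (Nat.succ 284445) k)) 290 = true := by decide +kernel
theorem s9c985 : allBelow (fun k => fs9 (Nat.add (Nat.succ 284735) k)) 273 = true := by decide +kernel
theorem s9c986 : allBelow (fun k => fs9 (Nat.add (Nat.succ 285008) k)) 251 = true := by decide +kernel
theorem s9c987 : allBelow (fun k => fs9 (Nat.add (Nat.succ 285259) k)) 243 = true := by decide +kernel
theorem s9c988 : allBelow (fun k => fs9 (Nat.add (Nat.succ 285502) k)) 237 = true := by decide +kernel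
theorem s9c989 : allBelow (fun k => fs9 (Nat.add (Nat.succ 285739) k)) 267 = true := by decide +kernel
theorem s9c990 : allBelow (fun k => fs9 (Nat.add (Nat.succ 286006) k)) 285 = true := by decide +kernel
theorem s9c991 : allBelow (fun k => fs9 (Nat.add (Nat.succ 286291) k)) 256 = true := by decide +kernel
theorem s9c992 : allBelow (fun k => fs9 (Nat.add (Nat.succ 286547) k)) 256 = true := by decide +kernel
theorem s9c993 : allBelow (fun k => fs9 (Nat.add (Nat.succ 286803) k)) 262 = true := by decide +kernel
theorem s9c994 : allBelow (fun k => fs9 (Nat.add (Nat.succ 287065) k)) 263 = true := by decide +kernel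
theorem s9c995 : allBelow (fun k => fs9 (Nat.add (Nat.succ 287328) k)) 267 = true := by decide +kernel
theorem s9c996 : allBelow (fun k => fs9 (Nat.add (Nat.succ 287595) k)) 286 = true := by decide +kernel
theorem s9c997 : allBelow (fun k => fs9 (Nat.add (Nat.succ 287881) k)) 258 = true := by decide +kernel
theorem s9c998 : allBelow (fun k => fs9 (Nat.add (Nat.succ 288139) k)) 265 = true := by decide +kernel
theorem s9c999 : allBelow (fun k => fs9 (Nat.add (Nat.succ 288404) k)) 263 = true := by decide +kernel
theorem s9c1000 : allBelow (fun k => fs9 (Nat.add (Nat.succ 288667) k)) 274 = true := by decide +kernel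
theorem s9c1001 : allBelow (fun k => fs9 (Nat.add (Nat.succ 288941) k)) 251 = true := by decide +kernel
theorem s9c1002 : allBelow (fun k => fs9 (Nat.add (Nat.succ 289192) k)) 259 = true := by decide +kernel
theorem s9c1003 : allBelow (fun k => fs9 (Nat.add (Nat.succ 289451) k)) 270 = true := by decide +kernel
theorem s9c1004 : allBelow (fun k => fs9 (Nat.add (Nat.succ 289721) k)) 260 = true := by decide +kernel
theorem s9c1005 : allBelow (fun k => fs9 (Nat.add (Nat.succ 289981) k)) 257 = true := by decide +kernel
theorem s9c1006 : allBelow (fun k => fs9 (Nat.add (Nat.succ 290238) k)) 280 = true := by decide +kernel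
theorem s9c1007 : allBelow (fun k => fs9 (Nat.add (Nat.succ 290518) k)) 280 = true := by decide +kernel
theorem s9c1008 : allBelow (fun k => fs9 (Nat.add (Nat.succ 290798) k)) 284 = true := by decide +kernel
theorem s9c1009 : allBelow (fun k => fs9 (Nat.add (Nat.succ 291082) k)) 255 = true := by decide +kernel
theorem s9c1010 : allBelow (fun k => fs9 (Nat.add (Nat.succ 291337) k)) 270 = true := by decide +kernel
theorem s9c1011 : allBelow (fun k => fs9 (Nat.add (Nat.succ 291607) k)) 284 = true := by decide +kernel
theorem s9c1012 : allBelow (fun k => fs9 (Nat.add (Nat.succ 291891) k)) 279 = true := by decide +kernel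
theorem s9c1013 : allBelow (fun k => fs9 (Nat.add (Nat.succ 292170) k)) 289 = true := by decide +kernel
theorem s9c1014 : allBelow (fun k => fs9 (Nat.add (Nat.succ 292459) k)) 275 = true := by decide +kernel
theorem s9c1015 : allBelow (fun k => fs9 (Nat.add (Nat.succ 292734) k)) 284 = true := by decide +kernel
theorem s9c1016 : allBelow (fun k => fs9 (Nat.add (Nat.succ 293018) k)) 276 = true := by decide +kernel
theorem s9c1017 : allBelow (fun k => fs9 (Nat.add (Nat.succ 293294) k)) 292 = true := by decide +kernel
theorem s9c1018 : allBelow (fun k => fs9 (Nat.add (Nat.succ 293586) k)) 283 = true := by decide +kernel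
theorem s9c1019 : allBelow (fun k => fs9 (Nat.add (Nat.succ 293869) k)) 294 = true := by decide +kernel
theorem s9c1020 : allBelow (fun k => fs9 (Nat.add (Nat.succ 294163) k)) 304 = true := by decide +kernel
theorem s9c1021 : allBelow (fun k => fs9 (Nat.add (Nat.succ 294467) k)) 304 = true := by decide +kernel
theorem s9c1022 : allBelow (fun k => fs9 (Nat.add (Nat.succ 294771) k)) 303 = true := by decide +kernel
theorem s9c1023 : allBelow (fun k => fs9 (Nat.add (Nat.succ 295074) k)) 314 = true := by decide +kernel
theorem s9c1024 : allBelow (fun k => fs9 (Nat.add (Nat.succ 295388) k)) 286 = true := by decide +kernel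
theorem s9c1025 : allBelow (fun k => fs9 (Nat.add (Nat.succ 295674) k)) 251 = true := by decide +kernel
theorem s9c1026 : allBelow (fun k => fs9 (Nat.add (Nat.succ 295925) k)) 233 = true := by decide +kernel
theorem s9c1027 : allBelow (fun k => fs9 (Nat.add (Nat.succ 296158) k)) 250 = true := by decide +kernel
theorem s9c1028 : allBelow (fun k => fs9 (Nat.add (Nat.succ 296408) k)) 261 = true := by decide +kernel
theorem s9c1029 : allBelow (fun k => fs9 (Nat.add (Nat.succ 296669) k)) 260 = true := by decide +kernel
theorem s9c1030 : allBelow (fun k => fs9 (Nat.add (Nat.succ 296929) k)) 257 = true := by decide +kernel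
theorem s9c1031 : allBelow (fun k => fs9 (Nat.add (Nat.succ 297186) k)) 230 = true := by decide +kernel
theorem s9c1032 : allBelow (fun k => fs9 (Nat.add (Nat.succ 297416) k)) 228 = true := by decide +kernel
theorem s9c1033 : allBelow (fun k => fs9 (Nat.add (Nat.succ 297644) k)) 228 = true := by decide +kernel
theorem s9c1034 : allBelow (fun k => fs9 (Nat.add (Nat.succ 297872) k)) 228 = true := by decide +kernel
theorem s9c1035 : allBelow (fun k => fs9 (Nat.add (Nat.succ 298100) k)) 226 = true := by decide +kernel
theorem s9c1036 : allBelow (fun k => fs9 (Nat.add (Nat.succ 298326) k)) 232 = true := by decide +kernel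
theorem s9c1037 : allBelow (fun k => fs9 (Nat.add (Nat.succ 298558) k)) 237 = true := by decide +kernel
theorem s9c1038 : allBelow (fun k => fs9 (Nat.add (Nat.succ 298795) k)) 242 = true := by decide +kernel
theorem s9c1039 : allBelow (fun k => fs9 (Nat.add (Nat.succ 299037) k)) 236 = true := by decide +kernel
theorem s9c1040 : allBelow (fun k => fs9 (Nat.add (Nat.succ 299273) k)) 230 = true := by decide +kernel
theorem s9c1041 : allBelow (fun k => fs9 (Nat.add (Nat.succ 299503) k)) 232 = true := by decide +kernel
theorem s9c1042 : allBelow (fun k => fs9 (Nat.add (Nat.succ 299735) k)) 237 = true := by decide +kernel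
theorem s9c1043 : allBelow (fun k => fs9 (Nat.add (Nat.succ 299972) k)) 235 = true := by decide +kernel
theorem s9c1044 : allBelow (fun k => fs9 (Nat.add (Nat.succ 300207) k)) 239 = true := by decide +kernel
theorem s9c1045 : allBelow (fun k => fs9 (Nat.add (Nat.succ 300446) k)) 239 = true := by decide +kernel
theorem s9c1046 : allBelow (fun k => fs9 (Nat.add (Nat.succ 300685) k)) 250 = true := by decide +kernel
theorem s9c1047 : allBelow (fun k => fs9 (Nat.add (Nat.succ 300935) k)) 249 = true := by decide +kernel
theorem s9c1048 : allBelow (fun k => fs9 (Nat.add (Nat.succ 301184) k)) 253 = true := by decide +kernel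
theorem s9c1049 : allBelow (fun k => fs9 (Nat.add (Nat.succ 301437) k)) 259 = true := by decide +kernel
theorem s9c1050 : allBelow (fun k => fs9 (Nat.add (Nat.succ 301696) k)) 263 = true := by decide +kernel
theorem s9c1051 : allBelow (fun k => fs9 (Nat.add (Nat.succ 301959) k)) 250 = true := by decide +kernel
theorem s9c1052 : allBelow (fun k => fs9 (Nat.add (Nat.succ 302209) k)) 247 = true := by decide +kernel
theorem s9c1053 : allBelow (fun k => fs9 (Nat.add (Nat.succ 302456) k)) 255 = true := by decide +kernel
theorem s9c1054 : allBelow (fun k => fs9 (Nat.add (Nat.succ 302711) k)) 251 = true := by decide +kernel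
theorem s9c1055 : allBelow (fun k => fs9 (Nat.add (Nat.succ 302962) k)) 252 = true := by decide +kernel
theorem s9c1056 : allBelow (fun k => fs9 (Nat.add (Nat.succ 303214) k)) 257 = true := by decide +kernel
theorem s9c1057 : allBelow (fun k => fs9 (Nat.add (Nat.succ 303471) k)) 237 = true := by decide +kernel
theorem s9c1058 : allBelow (fun k => fs9 (Nat.add (Nat.succ 303708) k)) 252 = true := by decide +kernel
theorem s9c1059 : allBelow (fun k => fs9 (Nat.add (Nat.succ 303960) k)) 261 = true := by decide +kernel
theorem s9c1060 : allBelow (fun k => fs9 (Nat.add (Nat.succ 304221) k)) 265 = true := by decide +kernel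
theorem s9c1061 : allBelow (fun k => fs9 (Nat.add (Nat.succ 304486) k)) 257 = true := by decide +kernel
theorem s9c1062 : allBelow (fun k => fs9 (Nat.add (Nat.succ 304743) k)) 252 = true := by decide +kernel
theorem s9c1063 : allBelow (fun k => fs9 (Nat.add (Nat.succ 304995) k)) 262 = true := by decide +kernel
theorem s9c1064 : allBelow (fun k => fs9 (Nat.add (Nat.succ 305257) k)) 242 = true := by decide +kernel
theorem s9c1065 : allBelow (fun k => fs9 (Nat.add (Nat.succ 305499) k)) 241 = true := by decide +kernel
theorem s9c1066 : allBelow (fun k => fs9 (Nat.add (Nat.succ 305740) k)) 250 = true := by decide +kernel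
theorem s9c1067 : allBelow (fun k => fs9 (Nat.add (Nat.succ 305990) k)) 234 = true := by decide +kernel
theorem s9c1068 : allBelow (fun k => fs9 (Nat.add (Nat.succ 306224) k)) 238 = true := by decide +kernel
theorem s9c1069 : allBelow (fun k => fs9 (Nat.add (Nat.succ 306462) k)) 242 = true := by decide +kernel
theorem s9c1070 : allBelow (fun k => fs9 (Nat.add (Nat.succ 306704) k)) 255 = true := by decide +kernel
theorem s9c1071 : allBelow (fun k => fs9 (Nat.add (Nat.succ 306959) k)) 243 = true := by decide +kernel
theorem s9c1072 : allBelow (fun k => fs9 (Nat.add (Nat.succ 307202) k)) 278 = true := by decide +kernel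
theorem s9c1073 : allBelow (fun k => fs9 (Nat.add (Nat.succ 307480) k)) 303 = true := by decide +kernel
theorem s9c1074 : allBelow (fun k => fs9 (Nat.add (Nat.succ 307783) k)) 292 = true := by decide +kernel
theorem s9c1075 : allBelow (fun k => fs9 (Nat.add (Nat.succ 308075) k)) 288 = true := by decide +kernel

end Cfsg.Agent.Lib.Helper35.Fi24a
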