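import Cfsg.Agent.Lib.Helper35.Fi24a.Data

set_option Elab.async false

namespace Cfsg.Agent.Lib.Helper35.Fi24a

open Cfsg.Agent.Lib.Helper35

theorem s9c1076 : allBelow (fun k => fs9 (Nat.add (Nat.succ 308363) k)) 276 = true := by decide +kernel
theorem s9c1077 : allBelow (fun k => fs9 (Nat.add (Nat.succ 308639) k)) 282 = true := by decide +kernel
theorem s9c1078 : allBelow (fun k => fs9 (Nat.add (Nat.succ 308921) k)) 297 = true := by decide +kernel
theorem s9c1079 : allBelow (fun k => fs9 (Nat.add (Nat.succ 309218) k)) 247 = true := by decide +kernel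
theorem s9c1080 : allBelow (fun k => fs9 (Nat.add (Nat.succ 309465) k)) 236 = true := by decide +kernel
theorem s9c1081 : allBelow (fun k => fs9 (Nat.add (Nat.succ 309701) k)) 231 = true := by decide +kernel
theorem s9c1082 : allBelow (fun k => fs9 (Nat.add (Nat.succ 309932) k)) 280 = true := by decide +kernel
theorem s9c1083 : allBelow (fun k => fs9 (Nat.add (Nat.succ 310212) k)) 282 = true := by decide +kernel
theorem s9c1084 : allBelow (fun k => fs9 (Nat.add (Nat.succ 310494) k)) 251 = true := by decide +kernel
theorem s9c1085 : allBelow (fun k => fs9 (Nat.add (Nat.succ 310745) k)) 260 = true := by decide +kernel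
theorem s9c1086 : allBelow (fun k => fs9 (Nat.add (Nat.succ 311005) k)) 261 = true := by decide +kernel
theorem s9c1087 : allBelow (fun k => fs9 (Nat.add (Nat.succ 311266) k)) 261 = true := by decide +kernel
theorem s9c1088 : allBelow (fun k => fs9 (Nat.add (Nat.succ 311527) k)) 276 = true := by decide +kernel
theorem s9c1089 : allBelow (fun k => fs9 (Nat.add (Nat.succ 311803) k)) 276 = true := by decide +kernel
theorem s9c1090 : allBelow (fun k => fs9 (Nat.add (Nat.succ 312079) k)) 256 = true := by decide +kernel
theorem s9c1091 : allBelow (fun k => fs9 (Nat.add (Nat.succ 312335) k)) 265 = true := by decide +kernel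
theorem s9c1092 : allBelow (fun k => fs9 (Nat.add (Nat.succ 312600) k)) 273 = true := by decide +kernel
theorem s9c1093 : allBelow (fun k => fs9 (Nat.add (Nat.succ 312873) k)) 247 = true := by decide +kernel
theorem s9c1094 : allBelow (fun k => fs9 (Nat.add (Nat.succ 313120) k)) 261 = true := by decide +kernel
theorem s9c1095 : allBelow (fun k => fs9 (Nat.add (Nat.succ 313381) k)) 254 = true := by decide +kernel
theorem s9c1096 : allBelow (fun k => fs9 (Nat.add (Nat.succ 313635) k)) 268 = true := by decide +kernel
theorem s9c1097 : allBelow (fun k => fs9 (Nat.add (Nat.succ 313903) k)) 289 = true := by decide +kernel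
theorem s9c1098 : allBelow (fun k => fs9 (Nat.add (Nat.succ 314192) k)) 276 = true := by decide +kernel
theorem s9c1099 : allBelow (fun k => fs9 (Nat.add (Nat.succ 314468) k)) 256 = true := by decide +kernel
theorem s9c1100 : allBelow (fun k => fs9 (Nat.add (Nat.succ 314724) k)) 281 = true := by decide +kernel
theorem s9c1101 : allBelow (fun k => fs9 (Nat.add (Nat.succ 315005) k)) 280 = true := by decide +kernel
theorem s9c1102 : allBelow (fun k => fs9 (Nat.add (Nat.succ 315285) k)) 287 = true := by decide +kernel
theorem s9c1103 : allBelow (fun k => fs9 (Nat.add (Nat.succ 315572) k)) 280 = true := by decide +kernel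
theorem s9c1104 : allBelow (fun k => fs9 (Nat.add (Nat.succ 315852) k)) 286 = true := by decide +kernel
theorem s9c1105 : allBelow (fun k => fs9 (Nat.add (Nat.succ 316138) k)) 288 = true := by decide +kernel
theorem s9c1106 : allBelow (fun k => fs9 (Nat.add (Nat.succ 316426) k)) 292 = true := by decide +kernel
theorem s9c1107 : allBelow (fun k => fs9 (Nat.add (Nat.succ 316718) k)) 297 = true := by decide +kernel
theorem s9c1108 : allBelow (fun k => fs9 (Nat.add (Nat.succ 317015) k)) 307 = true := by decide +kernel
theorem s9c1109 : allBelow (fun k => fs9 (Nat.add (Nat.succ 317322) k)) 303 = true := by decide +kernel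
theorem s9c1110 : allBelow (fun k => fs9 (Nat.add (Nat.succ 317625) k)) 315 = true := by decide +kernel
theorem s9c1111 : allBelow (fun k => fs9 (Nat.add (Nat.succ 317940) k)) 262 = true := by decide +kernel
theorem s9c1112 : allBelow (fun k => fs9 (Nat.add (Nat.succ 318202) k)) 230 = true := by decide +kernel
theorem s9c1113 : allBelow (fun k => fs9 (Nat.add (Nat.succ 318432) k)) 243 = true := by decide +kernel
theorem s9c1114 : allBelow (fun k => fs9 (Nat.add (Nat.succ 318675) k)) 258 = true := by decide +kernel
theorem s9c1115 : allBelow (fun k => fs9 (Nat.add (Nat.succ 318933) k)) 259 = true := by decide +kernel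
theorem s9c1116 : allBelow (fun k => fs9 (Nat.add (Nat.succ 319192) k)) 261 = true := by decide +kernel
theorem s9c1117 : allBelow (fun k => fs9 (Nat.add (Nat.succ 319453) k)) 232 = true := by decide +kernel
theorem s9c1118 : allBelow (fun k => fs9 (Nat.add (Nat.succ 319685) k)) 228 = true := by decide +kernel
theorem s9c1119 : allBelow (fun k => fs9 (Nat.add (Nat.succ 319913) k)) 228 = true := by decide +kernel
theorem s9c1120 : allBelow (fun k => fs9 (Nat.add (Nat.succ 320141) k)) 228 = true := by decide +kernel
theorem s9c1121 : allBelow (fun k => fs9 (Nat.add (Nat.succ 320369) k)) 226 = true := by decide +kernel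
theorem s9c1122 : allBelow (fun k => fs9 (Nat.add (Nat.succ 320595) k)) 231 = true := by decide +kernel
theorem s9c1123 : allBelow (fun k => fs9 (Nat.add (Nat.succ 320826) k)) 236 = true := by decide +kernel
theorem s9c1124 : allBelow (fun k => fs9 (Nat.add (Nat.succ 321062) k)) 238 = true := by decide +kernel
theorem s9c1125 : allBelow (fun k => fs9 (Nat.add (Nat.succ 321300) k)) 234 = true := by decide +kernel
theorem s9c1126 : allBelow (fun k => fs9 (Nat.add (Nat.succ 321534) k)) 229 = true := by decide +kernel
theorem s9c1127 : allBelow (fun k => fs9 (Nat.add (Nat.succ 321763) k)) 234 = true := by decide +kernel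
theorem s9c1128 : allBelow (fun k => fs9 (Nat.add (Nat.succ 321997) k)) 231 = true := by decide +kernel
theorem s9c1129 : allBelow (fun k => fs9 (Nat.add (Nat.succ 322228) k)) 232 = true := by decide +kernel
theorem s9c1130 : allBelow (fun k => fs9 (Nat.add (Nat.succ 322460) k)) 247 = true := by decide +kernel
theorem s9c1131 : allBelow (fun k => fs9 (Nat.add (Nat.succ 322707) k)) 246 = true := by decide +kernel
theorem s9c1132 : allBelow (fun k => fs9 (Nat.add (Nat.succ 322953) k)) 245 = true := by decide +kernel
theorem s9c1133 : allBelow (fun k => fs9 (Nat.add (Nat.succ 323198) k)) 256 = true := by decide +kernel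
theorem s9c1134 : allBelow (fun k => fs9 (Nat.add (Nat.succ 323454) k)) 258 = true := by decide +kernel
theorem s9c1135 : allBelow (fun k => fs9 (Nat.add (Nat.succ 323712) k)) 252 = true := by decide +kernel
theorem s9c1136 : allBelow (fun k => fs9 (Nat.add (Nat.succ 323964) k)) 242 = true := by decide +kernel
theorem s9c1137 : allBelow (fun k => fs9 (Nat.add (Nat.succ 324206) k)) 253 = true := by decide +kernel
theorem s9c1138 : allBelow (fun k => fs9 (Nat.add (Nat.succ 324459) k)) 243 = true := by decide +kernel
theorem s9c1139 : allBelow (fun k => fs9 (Nat.add (Nat.succ 324702) k)) 243 = true := by decide +kernel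
theorem s9c1140 : allBelow (fun k => fs9 (Nat.add (Nat.succ 324945) k)) 248 = true := by decide +kernel
theorem s9c1141 : allBelow (fun k => fs9 (Nat.add (Nat.succ 325193) k)) 253 = true := by decide +kernel
theorem s9c1142 : allBelow (fun k => fs9 (Nat.add (Nat.succ 325446) k)) 262 = true := by decide +kernel
theorem s9c1143 : allBelow (fun k => fs9 (Nat.add (Nat.succ 325708) k)) 239 = true := by decide +kernel
theorem s9c1144 : allBelow (fun k => fs9 (Nat.add (Nat.succ 325947) k)) 255 = true := by decide +kernel
theorem s9c1145 : allBelow (fun k => fs9 (Nat.add (Nat.succ 326202) k)) 235 = true := by decide +kernel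
theorem s9c1146 : allBelow (fun k => fs9 (Nat.add (Nat.succ 326437) k)) 247 = true := by decide +kernel
theorem s9c1147 : allBelow (fun k => fs9 (Nat.add (Nat.succ 326684) k)) 237 = true := by decide +kernel
theorem s9c1148 : allBelow (fun k => fs9 (Nat.add (Nat.succ 326921) k)) 240 = true := by decide +kernel
theorem s9c1149 : allBelow (fun k => fs9 (Nat.add (Nat.succ 327161) k)) 237 = true := by decide +kernel
theorem s9c1150 : allBelow (fun k => fs9 (Nat.add (Nat.succ 327398) k)) 248 = true := by decide +kernel
theorem s9c1151 : allBelow (fun k => fs9 (Nat.add (Nat.succ 327646) k)) 249 = true := by decide +kernel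
theorem s9c1152 : allBelow (fun k => fs9 (Nat.add (Nat.succ 327895) k)) 302 = true := by decide +kernel
theorem s9c1153 : allBelow (fun k => fs9 (Nat.add (Nat.succ 328197) k)) 291 = true := by decide +kernel
theorem s9c1154 : allBelow (fun k => fs9 (Nat.add (Nat.succ 328488) k)) 272 = true := by decide +kernel
theorem s9c1155 : allBelow (fun k => fs9 (Nat.add (Nat.succ 328760) k)) 291 = true := by decide +kernel
theorem s9c1156 : allBelow (fun k => fs9 (Nat.add (Nat.succ 329051) k)) 265 = true := by decide +kernel
theorem s9c1157 : allBelow (fun k => fs9 (Nat.add (Nat.succ 329316) k)) 234 = true := by decide +kernel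
theorem s9c1158 : allBelow (fun k => fs9 (Nat.add (Nat.succ 329550) k)) 264 = true := by decide +kernel
theorem s9c1159 : allBelow (fun k => fs9 (Nat.add (Nat.succ 329814) k)) 283 = true := by decide +kernel
theorem s9c1160 : allBelow (fun k => fs9 (Nat.add (Nat.succ 330097) k)) 252 = true := by decide +kernel
theorem s9c1161 : allBelow (fun k => fs9 (Nat.add (Nat.succ 330349) k)) 255 = true := by decide +kernel
theorem s9c1162 : allBelow (fun k => fs9 (Nat.add (Nat.succ 330604) k)) 266 = true := by decide +kernel
theorem s9c1163 : allBelow (fun k => fs9 (Nat.add (Nat.succ 330870) k)) 265 = true := by decide +kernel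
theorem s9c1164 : allBelow (fun k => fs9 (Nat.add (Nat.succ 331135) k)) 275 = true := by decide +kernel
theorem s9c1165 : allBelow (fun k => fs9 (Nat.add (Nat.succ 331410) k)) 257 = true := by decide +kernel
theorem s9c1166 : allBelow (fun k => fs9 (Nat.add (Nat.succ 331667) k)) 265 = true := by decide +kernel
theorem s9c1167 : allBelow (fun k => fs9 (Nat.add (Nat.succ 331932) k)) 254 = true := by decide +kernel
theorem s9c1168 : allBelow (fun k => fs9 (Nat.add (Nat.succ 332186) k)) 250 = true := by decide +kernel
theorem s9c1169 : allBelow (fun k => fs9 (Nat.add (Nat.succ 332436) k)) 285 = true := by decide +kernel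
theorem s9c1170 : allBelow (fun k => fs9 (Nat.add (Nat.succ 332721) k)) 267 = true := by decide +kernel
theorem s9c1171 : allBelow (fun k => fs9 (Nat.add (Nat.succ 332988) k)) 268 = true := by decide +kernel
theorem s9c1172 : allBelow (fun k => fs9 (Nat.add (Nat.succ 333256) k)) 278 = true := by decide +kernel
theorem s9c1173 : allBelow (fun k => fs9 (Nat.add (Nat.succ 333534) k)) 289 = true := by decide +kernel
theorem s9c1174 : allBelow (fun k => fs9 (Nat.add (Nat.succ 333823) k)) 284 = true := by decide +kernel
theorem s9c1175 : allBelow (fun k => fs9 (Nat.add (Nat.succ 334107) k)) 293 = true := by decide +kernel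
theorem s9c1176 : allBelow (fun k => fs9 (Nat.add (Nat.succ 334400) k)) 306 = true := by decide +kernel
theorem s9c1177 : allBelow (fun k => fs9 (Nat.add (Nat.succ 334706) k)) 307 = true := by decide +kernel
theorem s9c1178 : allBelow (fun k => fs9 (Nat.add (Nat.succ 335013) k)) 277 = true := by decide +kernel
theorem s9c1179 : allBelow (fun k => fs9 (Nat.add (Nat.succ 335290) k)) 226 = true := by decide +kernel
theorem s9c1180 : allBelow (fun k => fs9 (Nat.add (Nat.succ 335516) k)) 243 = true := by decide +kernel
theorem s9c1181 : allBelow (fun k => fs9 (Nat.add (Nat.succ 335759) k)) 260 = true := by decide +kernel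
theorem s9c1182 : allBelow (fun k => fs9 (Nat.add (Nat.succ 336019) k)) 262 = true := by decide +kernel
theorem s9c1183 : allBelow (fun k => fs9 (Nat.add (Nat.succ 336281) k)) 243 = true := by decide +kernel
theorem s9c1184 : allBelow (fun k => fs9 (Nat.add (Nat.succ 336524) k)) 228 = true := by decide +kernel
theorem s9c1185 : allBelow (fun k => fs9 (Nat.add (Nat.succ 336752) k)) 228 = true := by decide +kernel
theorem s9c1186 : allBelow (fun k => fs9 (Nat.add (Nat.succ 336980) k)) 227 = true := by decide +kernel
theorem s9c1187 : allBelow (fun k => fs9 (Nat.add (Nat.succ 337207) k)) 226 = true := by decide +kernel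
theorem s9c1188 : allBelow (fun k => fs9 (Nat.add (Nat.succ 337433) k)) 233 = true := by decide +kernel
theorem s9c1189 : allBelow (fun k => fs9 (Nat.add (Nat.succ 337666) k)) 199 = true := by decide +kernel
theorem s9c1190 : allBelow (fun k => fs9 (Nat.add (Nat.succ 337865) k)) 162 = true := by decide +kernel
theorem s9c1191 : allBelow (fun k => fs9 (Nat.add (Nat.succ 338027) k)) 229 = true := by decide +kernel
theorem s9c1192 : allBelow (fun k => fs9 (Nat.add (Nat.succ 338256) k)) 229 = true := by decide +kernel
theorem s9c1193 : allBelow (fun k => fs9 (Nat.add (Nat.succ 338485) k)) 239 = true := by decide +kernel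
theorem s9c1194 : allBelow (fun k => fs9 (Nat.add (Nat.succ 338724) k)) 238 = true := by decide +kernel
theorem s9c1195 : allBelow (fun k => fs9 (Nat.add (Nat.succ 338962) k)) 249 = true := by decide +kernel
theorem s9c1196 : allBelow (fun k => fs9 (Nat.add (Nat.succ 339211) k)) 250 = true := by decide +kernel
theorem s9c1197 : allBelow (fun k => fs9 (Nat.add (Nat.succ 339461) k)) 245 = true := by decide +kernel
theorem s9c1198 : allBelow (fun k => fs9 (Nat.add (Nat.succ 339706) k)) 245 = true := by decide +kernel
theorem s9c1199 : allBelow (fun k => fs9 (Nat.add (Nat.succ 339951) k)) 244 = true := by decide +kernel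
theorem s9c1200 : allBelow (fun k => fs9 (Nat.add (Nat.succ 340195) k)) 242 = true := by decide +kernel
theorem s9c1201 : allBelow (fun k => fs9 (Nat.add (Nat.succ 340437) k)) 260 = true := by decide +kernel
theorem s9c1202 : allBelow (fun k => fs9 (Nat.add (Nat.succ 340697) k)) 244 = true := by decide +kernel
theorem s9c1203 : allBelow (fun k => fs9 (Nat.add (Nat.succ 340941) k)) 238 = true := by decide +kernel
theorem s9c1204 : allBelow (fun k => fs9 (Nat.add (Nat.succ 341179) k)) 241 = true := by decide +kernel
theorem s9c1205 : allBelow (fun k => fs9 (Nat.add (Nat.succ 341420) k)) 237 = true := by decide +kernel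
theorem s9c1206 : allBelow (fun k => fs9 (Nat.add (Nat.succ 341657) k)) 241 = true := by decide +kernel
theorem s9c1207 : allBelow (fun k => fs9 (Nat.add (Nat.succ 341898) k)) 268 = true := by decide +kernel
theorem s9c1208 : allBelow (fun k => fs9 (Nat.add (Nat.succ 342166) k)) 287 = true := by decide +kernel
theorem s9c1209 : allBelow (fun k => fs9 (Nat.add (Nat.succ 342453) k)) 280 = true := by decide +kernel
theorem s9c1210 : allBelow (fun k => fs9 (Nat.add (Nat.succ 342733) k)) 271 = true := by decide +kernel
theorem s9c1211 : allBelow (fun k => fs9 (Nat.add (Nat.succ 343004) k)) 248 = true := by decide +kernel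
theorem s9c1212 : allBelow (fun k => fs9 (Nat.add (Nat.succ 343252) k)) 278 = true := by decide +kernel
theorem s9c1213 : allBelow (fun k => fs9 (Nat.add (Nat.succ 343530) k)) 255 = true := by decide +kernel
theorem s9c1214 : allBelow (fun k => fs9 (Nat.add (Nat.succ 343785) k)) 263 = true := by decide +kernel
theorem s9c1215 : allBelow (fun k => fs9 (Nat.add (Nat.succ 344048) k)) 271 = true := by decide +kernel
theorem s9c1216 : allBelow (fun k => fs9 (Nat.add (Nat.succ 344319) k)) 253 = true := by decide +kernel
theorem s9c1217 : allBelow (fun k => fs9 (Nat.add (Nat.succ 344572) k)) 264 = true := by decide +kernel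
theorem s9c1218 : allBelow (fun k => fs9 (Nat.add (Nat.succ 344836) k)) 267 = true := by decide +kernel
theorem s9c1219 : allBelow (fun k => fs9 (Nat.add (Nat.succ 345103) k)) 268 = true := by decide +kernel
theorem s9c1220 : allBelow (fun k => fs9 (Nat.add (Nat.succ 345371) k)) 277 = true := by decide +kernel
theorem s9c1221 : allBelow (fun k => fs9 (Nat.add (Nat.succ 345648) k)) 296 = true := by decide +kernel
theorem s9c1222 : allBelow (fun k => fs9 (Nat.add (Nat.succ 345944) k)) 302 = true := by decide +kernel
theorem s9c1223 : allBelow (fun k => fs9 (Nat.add (Nat.succ 346246) k)) 218 = true := by decide +kernel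
theorem s9c1224 : allBelow (fun k => fs9 (Nat.add (Nat.succ 346464) k)) 241 = true := by decide +kernel
theorem s9c1225 : allBelow (fun k => fs9 (Nat.add (Nat.succ 346705) k)) 256 = true := by decide +kernel
theorem s9c1226 : allBelow (fun k => fs9 (Nat.add (Nat.succ 346961) k)) 259 = true := by decide +kernel
theorem s9c1227 : allBelow (fun k => fs9 (Nat.add (Nat.succ 347220) k)) 228 = true := by decide +kernel
theorem s9c1228 : allBelow (fun k => fs9 (Nat.add (Nat.succ 347448) k)) 228 = true := by decide +kernel
theorem s9c1229 : allBelow (fun k => fs9 (Nat.add (Nat.succ 347676) k)) 227 = true := by decide +kernel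
theorem s9c1230 : allBelow (fun k => fs9 (Nat.add (Nat.succ 347903) k)) 162 = true := by decide +kernel
theorem s9c1231 : allBelow (fun k => fs9 (Nat.add (Nat.succ 348065) k)) 163 = true := by decide +kernel
theorem s9c1232 : allBelow (fun k => fs9 (Nat.add (Nat.succ 348228) k)) 230 = true := by decide +kernel
theorem s9c1233 : allBelow (fun k => fs9 (Nat.add (Nat.succ 348458) k)) 238 = true := by decide +kernel
theorem s9c1234 : allBelow (fun k => fs9 (Nat.add (Nat.succ 348696) k)) 246 = true := by decide +kernel
theorem s9c1235 : allBelow (fun k => fs9 (Nat.add (Nat.succ 348942) k)) 243 = true := by decide +kernel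
theorem s9c1236 : allBelow (fun k => fs9 (Nat.add (Nat.succ 349185) k)) 249 = true := by decide +kernel
theorem s9c1237 : allBelow (fun k => fs9 (Nat.add (Nat.succ 349434) k)) 248 = true := by decide +kernel
theorem s9c1238 : allBelow (fun k => fs9 (Nat.add (Nat.succ 349682) k)) 236 = true := by decide +kernel
theorem s9c1239 : allBelow (fun k => fs9 (Nat.add (Nat.succ 349918) k)) 238 = true := by decide +kernel
theorem s9c1240 : allBelow (fun k => fs9 (Nat.add (Nat.succ 350156) k)) 233 = true := by decide +kernel
theorem s9c1241 : allBelow (fun k => fs9 (Nat.add (Nat.succ 350389) k)) 262 = true := by decide +kernel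
theorem s9c1242 : allBelow (fun k => fs9 (Nat.add (Nat.succ 350651) k)) 276 = true := by decide +kernel
theorem s9c1243 : allBelow (fun k => fs9 (Nat.add (Nat.succ 350927) k)) 260 = true := by decide +kernel
theorem s9c1244 : allBelow (fun k => fs9 (Nat.add (Nat.succ 351187) k)) 261 = true := by decide +kernel
theorem s9c1245 : allBelow (fun k => fs9 (Nat.add (Nat.succ 351448) k)) 263 = true := by decide +kernel
theorem s9c1246 : allBelow (fun k => fs9 (Nat.add (Nat.succ 351711) k)) 258 = true := by decide +kernel
theorem s9c1247 : allBelow (fun k => fs9 (Nat.add (Nat.succ 351969) k)) 227 = true := by decide +kernel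
theorem s9c1248 : allBelow (fun k => fs9 (Nat.add (Nat.succ 352196) k)) 290 = true := by decide +kernel
theorem s9c1249 : allBelow (fun k => fs9 (Nat.add (Nat.succ 352486) k)) 219 = true := by decide +kernel
theorem s9c1250 : allBelow (fun k => fs9 (Nat.add (Nat.succ 352705) k)) 251 = true := by decide +kernel
theorem s9c1251 : allBelow (fun k => fs9 (Nat.add (Nat.succ 352956) k)) 254 = true := by decide +kernel
theorem s9c1252 : allBelow (fun k => fs9 (Nat.add (Nat.succ 353210) k)) 193 = true := by decide +kernel
theorem s9c1253 : allBelow (fun k => fs9 (Nat.add (Nat.succ 353403) k)) 160 = true := by decide +kernel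
theorem s9c1254 : allBelow (fun k => fs9 (Nat.add (Nat.succ 353563) k)) 128 = true := by decide +kernel
theorem s9c1255 : allBelow (fun k => fs9 (Nat.add (Nat.succ 353691) k)) 233 = true := by decide +kernel
theorem s9c1256 : allBelow (fun k => fs9 (Nat.add (Nat.succ 353924) k)) 142 = true := by decide +kernel
theorem s9c1257 : allBelow (fun k => fs9 (Nat.add (Nat.succ 354066) k)) 207 = true := by decide +kernel
theorem s9c1258 : allBelow (fun k => fs9 (Nat.add (Nat.succ 354273) k)) 237 = true := by decide +kernel
theorem s9c1259 : allBelow (fun k => fs9 (Nat.add (Nat.succ 354510) k)) 225 = true := by decide +kernel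
theorem s9c1260 : allBelow (fun k => fs9 (Nat.add (Nat.succ 354735) k)) 269 = true := by decide +kernel
theorem s9c1261 : allBelow (fun k => fs9 (Nat.add (Nat.succ 355004) k)) 254 = true := by decide +kernel
theorem s9c1262 : allBelow (fun k => fs9 (Nat.add (Nat.succ 355258) k)) 257 = true := by decide +kernel
theorem s9c1263 : allBelow (fun k => fs9 (Nat.add (Nat.succ 355515) k)) 235 = true := by decide +kernel
theorem s9c1264 : allBelow (fun k => fs9 (Nat.add (Nat.succ 355750) k)) 226 = true := by decide +kernel
theorem s9c1265 : allBelow (fun k => fs9 (Nat.add (Nat.succ 355976) k)) 148 = true := by decide +kernel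
theorem s9c1266 : allBelow (fun k => fs9 (Nat.add (Nat.succ 356124) k)) 138 = true := by decide +kernel
theorem s9c1267 : allBelow (fun k => fs9 (Nat.add (Nat.succ 356262) k)) 197 = true := by decide +kernel
theorem s9c1268 : allBelow (fun k => fs9 (Nat.add (Nat.succ 356459) k)) 251 = true := by decide +kernel
theorem s9c1269 : allBelow (fun k => fs9 (Nat.add (Nat.succ 356710) k)) 244 = true := by decide +kernel
theorem s9c1270 : allBelow (fun k => fs9 (Nat.add (Nat.succ 356954) k)) 211 = true := by decide +kernel
theorem s9c1271 : allBelow (fun k => fs9 (Nat.add (Nat.succ 357165) k)) 244 = true := by decide +kernel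
theorem s9c1272 : allBelow (fun k => fs9 (Nat.add (Nat.succ 357409) k)) 56 = true := by decide +kernel
theorem s10c0 : allBelow (fun k => fs10 (Nat.add (Nat.succ 0) k)) 274 = true := by decide +kernel
theorem s10c1 : allBelow (fun k => fs10 (Nat.add (Nat.succ 274) k)) 298 = true := by decide +kernel
theorem s10c2 : allBelow (fun k => fs10 (Nat.add (Nat.succ 572) k)) 293 = true := by decide +kernel
theorem s10c3 : allBelow (fun k => fs10 (Nat.add (Nat.succ 865) k)) 287 = true := by decide +kernel
theorem s10c4 : allBelow (fun k => fs10 (Nat.add (Nat.succ 1152) k)) 291 = true := by decide +kernel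
theorem s10c5 : allBelow (fun k => fs10 (Nat.add (Nat.succ 1443) k)) 282 = true := by decide +kernel
theorem s10c6 : allBelow (fun k => fs10 (Nat.add (Nat.succ 1725) k)) 281 = true := by decide +kernel
theorem s10c7 : allBelow (fun k => fs10 (Nat.add (Nat.succ 2006) k)) 270 = true := by decide +kernel
theorem s10c8 : allBelow (fun k => fs10 (Nat.add (Nat.succ 2276) k)) 278 = true := by decide +kernel
theorem s10c9 : allBelow (fun k => fs10 (Nat.add (Nat.succ 2554) k)) 273 = true := by decide +kernel
theorem s10c10 : allBelow (fun k => fs10 (Nat.add (Nat.succ 2827) k)) 273 = true := by decide +kernel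
theorem s10c11 : allBelow (fun k => fs10 (Nat.add (Nat.succ 3100) k)) 284 = true := by decide +kernel
theorem s10c12 : allBelow (fun k => fs10 (Nat.add (Nat.succ 3384) k)) 283 = true := by decide +kernel
theorem s10c13 : allBelow (fun k => fs10 (Nat.add (Nat.succ 3667) k)) 270 = true := by decide +kernel
theorem s10c14 : allBelow (fun k => fs10 (Nat.add (Nat.succ 3937) k)) 277 = true := by decide +kernel
theorem s10c15 : allBelow (fun k => fs10 (Nat.add (Nat.succ 4214) k)) 290 = true := by decide +kernel
theorem s10c16 : allBelow (fun k => fs10 (Nat.add (Nat.succ 4504) k)) 285 = true := by decide +kernel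
theorem s10c17 : allBelow (fun k => fs10 (Nat.add (Nat.succ 4789) k)) 295 = true := by decide +kernel
theorem s10c18 : allBelow (fun k => fs10 (Nat.add (Nat.succ 5084) k)) 276 = true := by decide +kernel
theorem s10c19 : allBelow (fun k => fs10 (Nat.add (Nat.succ 5360) k)) 283 = true := by decide +kernel
theorem s10c20 : allBelow (fun k => fs10 (Nat.add (Nat.succ 5643) k)) 302 = true := by decide +kernel
theorem s10c21 : allBelow (fun k => fs10 (Nat.add (Nat.succ 5945) k)) 304 = true := by decide +kernel
theorem s10c22 : allBelow (fun k => fs10 (Nat.add (Nat.succ 6249) k)) 293 = true := by decide +kernel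
theorem s10c23 : allBelow (fun k => fs10 (Nat.add (Nat.succ 6542) k)) 329 = true := by decide +kernel
theorem s10c24 : allBelow (fun k => fs10 (Nat.add (Nat.succ 6871) k)) 300 = true := by decide +kernel
theorem s10c25 : allBelow (fun k => fs10 (Nat.add (Nat.succ 7171) k)) 290 = true := by decide +kernel
theorem s10c26 : allBelow (fun k => fs10 (Nat.add (Nat.succ 7461) k)) 306 = true := by decide +kernel
theorem s10c27 : allBelow (fun k => fs10 (Nat.add (Nat.succ 7767) k)) 292 = true := by decide +kernel
theorem s10c28 : allBelow (fun k => fs10 (Nat.add (Nat.succ 8059) k)) 328 = true := by decide +kernel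
theorem s10c29 : allBelow (fun k => fs10 (Nat.add (Nat.succ 8387) k)) 295 = true := by decide +kernel
theorem s10c30 : allBelow (fun k => fs10 (Nat.add (Nat.succ 8682) k)) 294 = true := by decide +kernel
theorem s10c31 : allBelow (fun k => fs10 (Nat.add (Nat.succ 8976) k)) 324 = true := by decide +kernel
theorem s10c32 : allBelow (fun k => fs10 (Nat.add (Nat.succ 9300) k)) 352 = true := by decide +kernel
theorem s10c33 : allBelow (fun k => fs10 (Nat.add (Nat.succ 9652) k)) 309 = true := by decide +kernel
theorem s10c34 : allBelow (fun k => fs10 (Nat.add (Nat.succ 9961) k)) 304 = true := by decide +kernel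
theorem s10c35 : allBelow (fun k => fs10 (Nat.add (Nat.succ 10265) k)) 301 = true := by decide +kernel
theorem s10c36 : allBelow (fun k => fs10 (Nat.add (Nat.succ 10566) k)) 292 = true := by decide +kernel
theorem s10c37 : allBelow (fun k => fs10 (Nat.add (Nat.succ 10858) k)) 306 = true := by decide +kernel
theorem s10c38 : allBelow (fun k => fs10 (Nat.add (Nat.succ 11164) k)) 273 = true := by decide +kernel
theorem s10c39 : allBelow (fun k => fs10 (Nat.add (Nat.succ 11437) k)) 302 = true := by decide +kernel
theorem s10c40 : allBelow (fun k => fs10 (Nat.add (Nat.succ 11739) k)) 302 = true := by decide +kernel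
theorem s10c41 : allBelow (fun k => fs10 (Nat.add (Nat.succ 12041) k)) 305 = true := by decide +kernel
theorem s10c42 : allBelow (fun k => fs10 (Nat.add (Nat.succ 12346) k)) 330 = true := by decide +kernel
theorem s10c43 : allBelow (fun k => fs10 (Nat.add (Nat.succ 12676) k)) 299 = true := by decide +kernel
theorem s10c44 : allBelow (fun k => fs10 (Nat.add (Nat.succ 12975) k)) 306 = true := by decide +kernel
theorem s10c45 : allBelow (fun k => fs10 (Nat.add (Nat.succ 13281) k)) 304 = true := by decide +kernel
theorem s10c46 : allBelow (fun k => fs10 (Nat.add (Nat.succ 13585) k)) 306 = true := by decide +kernel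
theorem s10c47 : allBelow (fun k => fs10 (Nat.add (Nat.succ 13891) k)) 304 = true := by decide +kernel
theorem s10c48 : allBelow (fun k => fs10 (Nat.add (Nat.succ 14195) k)) 325 = true := by decide +kernel
theorem s10c49 : allBelow (fun k => fs10 (Nat.add (Nat.succ 14520) k)) 296 = true := by decide +kernel
theorem s10c50 : allBelow (fun k => fs10 (Nat.add (Nat.succ 14816) k)) 300 = true := by decide +kernel
theorem s10c51 : allBelow (fun k => fs10 (Nat.add (Nat.succ 15116) k)) 318 = true := by decide +kernel
theorem s10c52 : allBelow (fun k => fs10 (Nat.add (Nat.succ 15434) k)) 308 = true := by decide +kernel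
theorem s10c53 : allBelow (fun k => fs10 (Nat.add (Nat.succ 15742) k)) 307 = true := by decide +kernel
theorem s10c54 : allBelow (fun k => fs10 (Nat.add (Nat.succ 16049) k)) 349 = true := by decide +kernel
theorem s10c55 : allBelow (fun k => fs10 (Nat.add (Nat.succ 16398) k)) 334 = true := by decide +kernel
theorem s10c56 : allBelow (fun k => fs10 (Nat.add (Nat.succ 16732) k)) 323 = true := by decide +kernel
theorem s10c57 : allBelow (fun k => fs10 (Nat.add (Nat.succ 17055) k)) 325 = true := by decide +kernel
theorem s10c58 : allBelow (fun k => fs10 (Nat.add (Nat.succ 17380) k)) 305 = true := by decide +kernel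
theorem s10c59 : allBelow (fun k => fs10 (Nat.add (Nat.succ 17685) k)) 302 = true := by decide +kernel
theorem s10c60 : allBelow (fun k => fs10 (Nat.add (Nat.succ 17987) k)) 332 = true := by decide +kernel
theorem s10c61 : allBelow (fun k => fs10 (Nat.add (Nat.succ 18319) k)) 310 = true := by decide +kernel
theorem s10c62 : allBelow (fun k => fs10 (Nat.add (Nat.succ 18629) k)) 320 = true := by decide +kernel
theorem s10c63 : allBelow (fun k => fs10 (Nat.add (Nat.succ 18949) k)) 318 = true := by decide +kernel
theorem s10c64 : allBelow (fun k => fs10 (Nat.add (Nat.succ 19267) k)) 312 = true := by decide +kernel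
theorem s10c65 : allBelow (fun k => fs10 (Nat.add (Nat.succ 19579) k)) 292 = true := by decide +kernel
theorem s10c66 : allBelow (fun k => fs10 (Nat.add (Nat.succ 19871) k)) 327 = true := by decide +kernel
theorem s10c67 : allBelow (fun k => fs10 (Nat.add (Nat.succ 20198) k)) 335 = true := by decide +kernel
theorem s10c68 : allBelow (fun k => fs10 (Nat.add (Nat.succ 20533) k)) 299 = true := by decide +kernel
theorem s10c69 : allBelow (fun k => fs10 (Nat.add (Nat.succ 20832) k)) 300 = true := by decide +kernel
theorem s10c70 : allBelow (fun k => fs10 (Nat.add (Nat.succ 21132) k)) 357 = true := by decide +kernel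
theorem s10c71 : allBelow (fun k => fs10 (Nat.add (Nat.succ 21489) k)) 384 = true := by decide +kernel
theorem s10c72 : allBelow (fun k => fs10 (Nat.add (Nat.succ 21873) k)) 306 = true := by decide +kernel
theorem s10c73 : allBelow (fun k => fs10 (Nat.add (Nat.succ 22179) k)) 343 = true := by decide +kernel
theorem s10c74 : allBelow (fun k => fs10 (Nat.add (Nat.succ 22522) k)) 323 = true := by decide +kernel
theorem s10c75 : allBelow (fun k => fs10 (Nat.add (Nat.succ 22845) k)) 336 = true := by decide +kernel
theorem s10c76 : allBelow (fun k => fs10 (Nat.add (Nat.succ 23181) k)) 296 = true := by decide +kernel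
theorem s10c77 : allBelow (fun k => fs10 (Nat.add (Nat.succ 23477) k)) 302 = true := by decide +kernel
theorem s10c78 : allBelow (fun k => fs10 (Nat.add (Nat.succ 23779) k)) 324 = true := by decide +kernel
theorem s10c79 : allBelow (fun k => fs10 (Nat.add (Nat.succ 24103) k)) 354 = true := by decide +kernel
theorem s10c80 : allBelow (fun k => fs10 (Nat.add (Nat.succ 24457) k)) 285 = true := by decide +kernel
theorem s10c81 : allBelow (fun k => fs10 (Nat.add (Nat.succ 24742) k)) 317 = true := by decide +kernel
theorem s10c82 : allBelow (fun k => fs10 (Nat.add (Nat.succ 25059) k)) 344 = true := by decide +kernel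
theorem s10c83 : allBelow (fun k => fs10 (Nat.add (Nat.succ 25403) k)) 306 = true := by decide +kernel
theorem s10c84 : allBelow (fun k => fs10 (Nat.add (Nat.succ 25709) k)) 306 = true := by decide +kernel
theorem s10c85 : allBelow (fun k => fs10 (Nat.add (Nat.succ 26015) k)) 302 = true := by decide +kernel
theorem s10c86 : allBelow (fun k => fs10 (Nat.add (Nat.succ 26317) k)) 300 = true := by decide +kernel
theorem s10c87 : allBelow (fun k => fs10 (Nat.add (Nat.succ 26617) k)) 332 = true := by decide +kernel
theorem s10c88 : allBelow (fun k => fs10 (Nat.add (Nat.succ 26949) k)) 333 = true := by decide +kernel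
theorem s10c89 : allBelow (fun k => fs10 (Nat.add (Nat.succ 27282) k)) 319 = true := by decide +kernel
theorem s10c90 : allBelow (fun k => fs10 (Nat.add (Nat.succ 27601) k)) 287 = true := by decide +kernel
theorem s10c91 : allBelow (fun k => fs10 (Nat.add (Nat.succ 27888) k)) 299 = true := by decide +kernel
theorem s10c92 : allBelow (fun k => fs10 (Nat.add (Nat.succ 28187) k)) 349 = true := by decide +kernel
theorem s10c93 : allBelow (fun k => fs10 (Nat.add (Nat.succ 28536) k)) 386 = true := by decide +kernel
theorem s10c94 : allBelow (fun k => fs10 (Nat.add (Nat.succ 28922) k)) 361 = true := by decide +kernel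
theorem s10c95 : allBelow (fun k => fs10 (Nat.add (Nat.succ 29283) k)) 317 = true := by decide +kernel
theorem s10c96 : allBelow (fun k => fs10 (Nat.add (Nat.succ 29600) k)) 333 = true := by decide +kernel
theorem s10c97 : allBelow (fun k => fs10 (Nat.add (Nat.succ 29933) k)) 362 = true := by decide +kernel
theorem s10c98 : allBelow (fun k => fs10 (Nat.add (Nat.succ 30295) k)) 284 = true := by decide +kernel
theorem s10c99 : allBelow (fun k => fs10 (Nat.add (Nat.succ 30579) k)) 362 = true := by decide +kernel
theorem s10c100 : allBelow (fun k => fs10 (Nat.add (Nat.succ 30941) k)) 281 = true := by decide +kernel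
theorem s10c101 : allBelow (fun k => fs10 (Nat.add (Nat.succ 31222) k)) 307 = true := by decide +kernel
theorem s10c102 : allBelow (fun k => fs10 (Nat.add (Nat.succ 31529) k)) 298 = true := by decide +kernel
theorem s10c103 : allBelow (fun k => fs10 (Nat.add (Nat.succ 31827) k)) 312 = true := by decide +kernel
theorem s10c104 : allBelow (fun k => fs10 (Nat.add (Nat.succ 32139) k)) 347 = true := by decide +kernel
theorem s10c105 : allBelow (fun k => fs10 (Nat.add (Nat.succ 32486) k)) 357 = true := by decide +kernel
theorem s10c106 : allBelow (fun k => fs10 (Nat.add (Nat.succ 32843) k)) 273 = true := by decide +kernel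
theorem s10c107 : allBelow (fun k => fs10 (Nat.add (Nat.succ 33116) k)) 279 = true := by decide +kernel
theorem s10c108 : allBelow (fun k => fs10 (Nat.add (Nat.succ 33395) k)) 347 = true := by decide +kernel
theorem s10c109 : allBelow (fun k => fs10 (Nat.add (Nat.succ 33742) k)) 342 = true := by decide +kernel
theorem s10c110 : allBelow (fun k => fs10 (Nat.add (Nat.succ 34084) k)) 301 = true := by decide +kernel
theorem s10c111 : allBelow (fun k => fs10 (Nat.add (Nat.succ 34385) k)) 315 = true := by decide +kernel
theorem s10c112 : allBelow (fun k => fs10 (Nat.add (Nat.succ 34700) k)) 310 = true := by decide +kernel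
theorem s10c113 : allBelow (fun k => fs10 (Nat.add (Nat.succ 35010) k)) 290 = true := by decide +kernel
theorem s10c114 : allBelow (fun k => fs10 (Nat.add (Nat.succ 35300) k)) 283 = true := by decide +kernel
theorem s10c115 : allBelow (fun k => fs10 (Nat.add (Nat.succ 35583) k)) 324 = true := by decide +kernel
theorem s10c116 : allBelow (fun k => fs10 (Nat.add (Nat.succ 35907) k)) 348 = true := by decide +kernel
theorem s10c117 : allBelow (fun k => fs10 (Nat.add (Nat.succ 36255) k)) 333 = true := by decide +kernel
theorem s10c118 : allBelow (fun k => fs10 (Nat.add (Nat.succ 36588) k)) 360 = true := by decide +kernel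
theorem s10c119 : allBelow (fun k => fs10 (Nat.add (Nat.succ 36948) k)) 308 = true := by decide +kernel
theorem s10c120 : allBelow (fun k => fs10 (Nat.add (Nat.succ 37256) k)) 283 = true := by decide +kernel
theorem s10c121 : allBelow (fun k => fs10 (Nat.add (Nat.succ 37539) k)) 285 = true := by decide +kernel

end Cfsg.Agent.Lib.Helper35.Fi24a
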