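import Cfsg.Agent.Lib.Helper35.Fi24a.Data

set_option Elab.async false

namespace Cfsg.Agent.Lib.Helper35.Fi24a

open Cfsg.Agent.Lib.Helper35

theorem s1c19 : allBelow (fun k => fs1 (Nat.add (Nat.succ 5220) k)) 260 = true := by decide +kernel
theorem s1c20 : allBelow (fun k => fs1 (Nat.add (Nat.succ 5480) k)) 323 = true := by decide +kernel
theorem s1c21 : allBelow (fun k => fs1 (Nat.add (Nat.succ 5803) k)) 340 = true := by decide +kernel
theorem s1c22 : allBelow (fun k => fs1 (Nat.add (Nat.succ 6143) k)) 246 = true := by decide +kernel
theorem s1c23 : allBelow (fun k => fs1 (Nat.add (Nat.succ 6389) k)) 294 = true := by decide +kernel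
theorem s1c24 : allBelow (fun k => fs1 (Nat.add (Nat.succ 6683) k)) 329 = true := by decide +kernel
theorem s1c25 : allBelow (fun k => fs1 (Nat.add (Nat.succ 7012) k)) 262 = true := by decide +kernel
theorem s1c26 : allBelow (fun k => fs1 (Nat.add (Nat.succ 7274) k)) 273 = true := by decide +kernel
theorem s1c27 : allBelow (fun k => fs1 (Nat.add (Nat.succ 7547) k)) 314 = true := by decide +kernel
theorem s1c28 : allBelow (fun k => fs1 (Nat.add (Nat.succ 7861) k)) 322 = true := by decide +kernel
theorem s1c29 : allBelow (fun k => fs1 (Nat.add (Nat.succ 8183) k)) 336 = true := by decide +kernel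
theorem s1c30 : allBelow (fun k => fs1 (Nat.add (Nat.succ 8519) k)) 251 = true := by decide +kernel
theorem s1c31 : allBelow (fun k => fs1 (Nat.add (Nat.succ 8770) k)) 296 = true := by decide +kernel
theorem s1c32 : allBelow (fun k => fs1 (Nat.add (Nat.succ 9066) k)) 285 = true := by decide +kernel
theorem s1c33 : allBelow (fun k => fs1 (Nat.add (Nat.succ 9351) k)) 364 = true := by decide +kernel
theorem s1c34 : allBelow (fun k => fs1 (Nat.add (Nat.succ 9715) k)) 272 = true := by decide +kernel
theorem s1c35 : allBelow (fun k => fs1 (Nat.add (Nat.succ 9987) k)) 262 = true := by decide +kernel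
theorem s1c36 : allBelow (fun k => fs1 (Nat.add (Nat.succ 10249) k)) 293 = true := by decide +kernel
theorem s1c37 : allBelow (fun k => fs1 (Nat.add (Nat.succ 10542) k)) 303 = true := by decide +kernel
theorem s1c38 : allBelow (fun k => fs1 (Nat.add (Nat.succ 10845) k)) 300 = true := by decide +kernel
theorem s1c39 : allBelow (fun k => fs1 (Nat.add (Nat.succ 11145) k)) 269 = true := by decide +kernel
theorem s1c40 : allBelow (fun k => fs1 (Nat.add (Nat.succ 11414) k)) 252 = true := by decide +kernel
theorem s1c41 : allBelow (fun k => fs1 (Nat.add (Nat.succ 11666) k)) 255 = true := by decide +kernel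
theorem s1c42 : allBelow (fun k => fs1 (Nat.add (Nat.succ 11921) k)) 262 = true := by decide +kernel
theorem s1c43 : allBelow (fun k => fs1 (Nat.add (Nat.succ 12183) k)) 301 = true := by decide +kernel
theorem s1c44 : allBelow (fun k => fs1 (Nat.add (Nat.succ 12484) k)) 302 = true := by decide +kernel
theorem s1c45 : allBelow (fun k => fs1 (Nat.add (Nat.succ 12786) k)) 241 = true := by decide +kernel
theorem s1c46 : allBelow (fun k => fs1 (Nat.add (Nat.succ 13027) k)) 261 = true := by decide +kernel
theorem s1c47 : allBelow (fun k => fs1 (Nat.add (Nat.succ 13288) k)) 290 = true := by decide +kernel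
theorem s1c48 : allBelow (fun k => fs1 (Nat.add (Nat.succ 13578) k)) 308 = true := by decide +kernel
theorem s1c49 : allBelow (fun k => fs1 (Nat.add (Nat.succ 13886) k)) 292 = true := by decide +kernel
theorem s1c50 : allBelow (fun k => fs1 (Nat.add (Nat.succ 14178) k)) 329 = true := by decide +kernel
theorem s1c51 : allBelow (fun k => fs1 (Nat.add (Nat.succ 14507) k)) 266 = true := by decide +kernel
theorem s1c52 : allBelow (fun k => fs1 (Nat.add (Nat.succ 14773) k)) 249 = true := by decide +kernel
theorem s1c53 : allBelow (fun k => fs1 (Nat.add (Nat.succ 15022) k)) 269 = true := by decide +kernel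
theorem s1c54 : allBelow (fun k => fs1 (Nat.add (Nat.succ 15291) k)) 276 = true := by decide +kernel
theorem s1c55 : allBelow (fun k => fs1 (Nat.add (Nat.succ 15567) k)) 262 = true := by decide +kernel
theorem s1c56 : allBelow (fun k => fs1 (Nat.add (Nat.succ 15829) k)) 317 = true := by decide +kernel
theorem s1c57 : allBelow (fun k => fs1 (Nat.add (Nat.succ 16146) k)) 366 = true := by decide +kernel
theorem s1c58 : allBelow (fun k => fs1 (Nat.add (Nat.succ 16512) k)) 265 = true := by decide +kernel
theorem s1c59 : allBelow (fun k => fs1 (Nat.add (Nat.succ 16777) k)) 262 = true := by decide +kernel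
theorem s1c60 : allBelow (fun k => fs1 (Nat.add (Nat.succ 17039) k)) 277 = true := by decide +kernel
theorem s1c61 : allBelow (fun k => fs1 (Nat.add (Nat.succ 17316) k)) 300 = true := by decide +kernel
theorem s1c62 : allBelow (fun k => fs1 (Nat.add (Nat.succ 17616) k)) 301 = true := by decide +kernel
theorem s1c63 : allBelow (fun k => fs1 (Nat.add (Nat.succ 17917) k)) 328 = true := by decide +kernel
theorem s1c64 : allBelow (fun k => fs1 (Nat.add (Nat.succ 18245) k)) 307 = true := by decide +kernel
theorem s1c65 : allBelow (fun k => fs1 (Nat.add (Nat.succ 18552) k)) 324 = true := by decide +kernel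
theorem s1c66 : allBelow (fun k => fs1 (Nat.add (Nat.succ 18876) k)) 313 = true := by decide +kernel
theorem s1c67 : allBelow (fun k => fs1 (Nat.add (Nat.succ 19189) k)) 261 = true := by decide +kernel
theorem s1c68 : allBelow (fun k => fs1 (Nat.add (Nat.succ 19450) k)) 252 = true := by decide +kernel
theorem s1c69 : allBelow (fun k => fs1 (Nat.add (Nat.succ 19702) k)) 270 = true := by decide +kernel
theorem s1c70 : allBelow (fun k => fs1 (Nat.add (Nat.succ 19972) k)) 294 = true := by decide +kernel
theorem s1c71 : allBelow (fun k => fs1 (Nat.add (Nat.succ 20266) k)) 295 = true := by decide +kernel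
theorem s1c72 : allBelow (fun k => fs1 (Nat.add (Nat.succ 20561) k)) 269 = true := by decide +kernel
theorem s1c73 : allBelow (fun k => fs1 (Nat.add (Nat.succ 20830) k)) 309 = true := by decide +kernel
theorem s1c74 : allBelow (fun k => fs1 (Nat.add (Nat.succ 21139) k)) 370 = true := by decide +kernel
theorem s1c75 : allBelow (fun k => fs1 (Nat.add (Nat.succ 21509) k)) 412 = true := by decide +kernel
theorem s1c76 : allBelow (fun k => fs1 (Nat.add (Nat.succ 21921) k)) 247 = true := by decide +kernel
theorem s1c77 : allBelow (fun k => fs1 (Nat.add (Nat.succ 22168) k)) 291 = true := by decide +kernel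
theorem s1c78 : allBelow (fun k => fs1 (Nat.add (Nat.succ 22459) k)) 298 = true := by decide +kernel
theorem s1c79 : allBelow (fun k => fs1 (Nat.add (Nat.succ 22757) k)) 341 = true := by decide +kernel
theorem s1c80 : allBelow (fun k => fs1 (Nat.add (Nat.succ 23098) k)) 271 = true := by decide +kernel
theorem s1c81 : allBelow (fun k => fs1 (Nat.add (Nat.succ 23369) k)) 303 = true := by decide +kernel
theorem s1c82 : allBelow (fun k => fs1 (Nat.add (Nat.succ 23672) k)) 341 = true := by decide +kernel
theorem s1c83 : allBelow (fun k => fs1 (Nat.add (Nat.succ 24013) k)) 327 = true := by decide +kernel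
theorem s1c84 : allBelow (fun k => fs1 (Nat.add (Nat.succ 24340) k)) 321 = true := by decide +kernel
theorem s1c85 : allBelow (fun k => fs1 (Nat.add (Nat.succ 24661) k)) 322 = true := by decide +kernel
theorem s1c86 : allBelow (fun k => fs1 (Nat.add (Nat.succ 24983) k)) 344 = true := by decide +kernel
theorem s1c87 : allBelow (fun k => fs1 (Nat.add (Nat.succ 25327) k)) 288 = true := by decide +kernel
theorem s1c88 : allBelow (fun k => fs1 (Nat.add (Nat.succ 25615) k)) 256 = true := by decide +kernel
theorem s1c89 : allBelow (fun k => fs1 (Nat.add (Nat.succ 25871) k)) 257 = true := by decide +kernel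
theorem s1c90 : allBelow (fun k => fs1 (Nat.add (Nat.succ 26128) k)) 256 = true := by decide +kernel
theorem s1c91 : allBelow (fun k => fs1 (Nat.add (Nat.succ 26384) k)) 315 = true := by decide +kernel
theorem s1c92 : allBelow (fun k => fs1 (Nat.add (Nat.succ 26699) k)) 307 = true := by decide +kernel
theorem s1c93 : allBelow (fun k => fs1 (Nat.add (Nat.succ 27006) k)) 312 = true := by decide +kernel
theorem s1c94 : allBelow (fun k => fs1 (Nat.add (Nat.succ 27318) k)) 306 = true := by decide +kernel
theorem s1c95 : allBelow (fun k => fs1 (Nat.add (Nat.succ 27624) k)) 274 = true := by decide +kernel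
theorem s1c96 : allBelow (fun k => fs1 (Nat.add (Nat.succ 27898) k)) 345 = true := by decide +kernel
theorem s1c97 : allBelow (fun k => fs1 (Nat.add (Nat.succ 28243) k)) 379 = true := by decide +kernel
theorem s1c98 : allBelow (fun k => fs1 (Nat.add (Nat.succ 28622) k)) 540 = true := by decide +kernel
theorem s1c99 : allBelow (fun k => fs1 (Nat.add (Nat.succ 29162) k)) 259 = true := by decide +kernel
theorem s1c100 : allBelow (fun k => fs1 (Nat.add (Nat.succ 29421) k)) 256 = true := by decide +kernel
theorem s1c101 : allBelow (fun k => fs1 (Nat.add (Nat.succ 29677) k)) 315 = true := by decide +kernel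
theorem s1c102 : allBelow (fun k => fs1 (Nat.add (Nat.succ 29992) k)) 339 = true := by decide +kernel
theorem s1c103 : allBelow (fun k => fs1 (Nat.add (Nat.succ 30331) k)) 307 = true := by decide +kernel
theorem s1c104 : allBelow (fun k => fs1 (Nat.add (Nat.succ 30638) k)) 348 = true := by decide +kernel
theorem s1c105 : allBelow (fun k => fs1 (Nat.add (Nat.succ 30986) k)) 282 = true := by decide +kernel
theorem s1c106 : allBelow (fun k => fs1 (Nat.add (Nat.succ 31268) k)) 314 = true := by decide +kernel
theorem s1c107 : allBelow (fun k => fs1 (Nat.add (Nat.succ 31582) k)) 285 = true := by decide +kernel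
theorem s1c108 : allBelow (fun k => fs1 (Nat.add (Nat.succ 31867) k)) 366 = true := by decide +kernel
theorem s1c109 : allBelow (fun k => fs1 (Nat.add (Nat.succ 32233) k)) 349 = true := by decide +kernel
theorem s1c110 : allBelow (fun k => fs1 (Nat.add (Nat.succ 32582) k)) 350 = true := by decide +kernel
theorem s1c111 : allBelow (fun k => fs1 (Nat.add (Nat.succ 32932) k)) 305 = true := by decide +kernel
theorem s1c112 : allBelow (fun k => fs1 (Nat.add (Nat.succ 33237) k)) 347 = true := by decide +kernel
theorem s1c113 : allBelow (fun k => fs1 (Nat.add (Nat.succ 33584) k)) 392 = true := by decide +kernel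
theorem s1c114 : allBelow (fun k => fs1 (Nat.add (Nat.succ 33976) k)) 280 = true := by decide +kernel
theorem s1c115 : allBelow (fun k => fs1 (Nat.add (Nat.succ 34256) k)) 286 = true := by decide +kernel
theorem s1c116 : allBelow (fun k => fs1 (Nat.add (Nat.succ 34542) k)) 265 = true := by decide +kernel
theorem s1c117 : allBelow (fun k => fs1 (Nat.add (Nat.succ 34807) k)) 266 = true := by decide +kernel
theorem s1c118 : allBelow (fun k => fs1 (Nat.add (Nat.succ 35073) k)) 257 = true := by decide +kernel
theorem s1c119 : allBelow (fun k => fs1 (Nat.add (Nat.succ 35330) k)) 263 = true := by decide +kernel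
theorem s1c120 : allBelow (fun k => fs1 (Nat.add (Nat.succ 35593) k)) 325 = true := by decide +kernel
theorem s1c121 : allBelow (fun k => fs1 (Nat.add (Nat.succ 35918) k)) 347 = true := by decide +kernel
theorem s1c122 : allBelow (fun k => fs1 (Nat.add (Nat.succ 36265) k)) 320 = true := by decide +kernel
theorem s1c123 : allBelow (fun k => fs1 (Nat.add (Nat.succ 36585) k)) 384 = true := by decide +kernel
theorem s1c124 : allBelow (fun k => fs1 (Nat.add (Nat.succ 36969) k)) 299 = true := by decide +kernel
theorem s1c125 : allBelow (fun k => fs1 (Nat.add (Nat.succ 37268) k)) 297 = true := by decide +kernel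
theorem s1c126 : allBelow (fun k => fs1 (Nat.add (Nat.succ 37565) k)) 275 = true := by decide +kernel
theorem s1c127 : allBelow (fun k => fs1 (Nat.add (Nat.succ 37840) k)) 425 = true := by decide +kernel
theorem s1c128 : allBelow (fun k => fs1 (Nat.add (Nat.succ 38265) k)) 429 = true := by decide +kernel
theorem s1c129 : allBelow (fun k => fs1 (Nat.add (Nat.succ 38694) k)) 591 = true := by decide +kernel
theorem s1c130 : allBelow (fun k => fs1 (Nat.add (Nat.succ 39285) k)) 258 = true := by decide +kernel
theorem s1c131 : allBelow (fun k => fs1 (Nat.add (Nat.succ 39543) k)) 266 = true := by decide +kernel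
theorem s1c132 : allBelow (fun k => fs1 (Nat.add (Nat.succ 39809) k)) 278 = true := by decide +kernel
theorem s1c133 : allBelow (fun k => fs1 (Nat.add (Nat.succ 40087) k)) 386 = true := by decide +kernel
theorem s1c134 : allBelow (fun k => fs1 (Nat.add (Nat.succ 40473) k)) 379 = true := by decide +kernel
theorem s1c135 : allBelow (fun k => fs1 (Nat.add (Nat.succ 40852) k)) 296 = true := by decide +kernel
theorem s1c136 : allBelow (fun k => fs1 (Nat.add (Nat.succ 41148) k)) 427 = true := by decide +kernel
theorem s1c137 : allBelow (fun k => fs1 (Nat.add (Nat.succ 41575) k)) 278 = true := by decide +kernel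
theorem s1c138 : allBelow (fun k => fs1 (Nat.add (Nat.succ 41853) k)) 294 = true := by decide +kernel
theorem s1c139 : allBelow (fun k => fs1 (Nat.add (Nat.succ 42147) k)) 328 = true := by decide +kernel
theorem s1c140 : allBelow (fun k => fs1 (Nat.add (Nat.succ 42475) k)) 291 = true := by decide +kernel
theorem s1c141 : allBelow (fun k => fs1 (Nat.add (Nat.succ 42766) k)) 292 = true := by decide +kernel
theorem s1c142 : allBelow (fun k => fs1 (Nat.add (Nat.succ 43058) k)) 357 = true := by decide +kernel
theorem s1c143 : allBelow (fun k => fs1 (Nat.add (Nat.succ 43415) k)) 382 = true := by decide +kernel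
theorem s1c144 : allBelow (fun k => fs1 (Nat.add (Nat.succ 43797) k)) 374 = true := by decide +kernel
theorem s1c145 : allBelow (fun k => fs1 (Nat.add (Nat.succ 44171) k)) 368 = true := by decide +kernel
theorem s1c146 : allBelow (fun k => fs1 (Nat.add (Nat.succ 44539) k)) 308 = true := by decide +kernel
theorem s1c147 : allBelow (fun k => fs1 (Nat.add (Nat.succ 44847) k)) 304 = true := by decide +kernel
theorem s1c148 : allBelow (fun k => fs1 (Nat.add (Nat.succ 45151) k)) 454 = true := by decide +kernel
theorem s1c149 : allBelow (fun k => fs1 (Nat.add (Nat.succ 45605) k)) 382 = true := by decide +kernel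
theorem s1c150 : allBelow (fun k => fs1 (Nat.add (Nat.succ 45987) k)) 283 = true := by decide +kernel
theorem s1c151 : allBelow (fun k => fs1 (Nat.add (Nat.succ 46270) k)) 312 = true := by decide +kernel
theorem s1c152 : allBelow (fun k => fs1 (Nat.add (Nat.succ 46582) k)) 265 = true := by decide +kernel
theorem s1c153 : allBelow (fun k => fs1 (Nat.add (Nat.succ 46847) k)) 268 = true := by decide +kernel
theorem s1c154 : allBelow (fun k => fs1 (Nat.add (Nat.succ 47115) k)) 294 = true := by decide +kernel
theorem s1c155 : allBelow (fun k => fs1 (Nat.add (Nat.succ 47409) k)) 260 = true := by decide +kernel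
theorem s1c156 : allBelow (fun k => fs1 (Nat.add (Nat.succ 47669) k)) 264 = true := by decide +kernel
theorem s1c157 : allBelow (fun k => fs1 (Nat.add (Nat.succ 47933) k)) 270 = true := by decide +kernel
theorem s1c158 : allBelow (fun k => fs1 (Nat.add (Nat.succ 48203) k)) 306 = true := by decide +kernel
theorem s1c159 : allBelow (fun k => fs1 (Nat.add (Nat.succ 48509) k)) 401 = true := by decide +kernel
theorem s1c160 : allBelow (fun k => fs1 (Nat.add (Nat.succ 48910) k)) 332 = true := by decide +kernel
theorem s1c161 : allBelow (fun k => fs1 (Nat.add (Nat.succ 49242) k)) 351 = true := by decide +kernel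
theorem s1c162 : allBelow (fun k => fs1 (Nat.add (Nat.succ 49593) k)) 363 = true := by decide +kernel
theorem s1c163 : allBelow (fun k => fs1 (Nat.add (Nat.succ 49956) k)) 395 = true := by decide +kernel
theorem s1c164 : allBelow (fun k => fs1 (Nat.add (Nat.succ 50351) k)) 304 = true := by decide +kernel
theorem s1c165 : allBelow (fun k => fs1 (Nat.add (Nat.succ 50655) k)) 323 = true := by decide +kernel
theorem s1c166 : allBelow (fun k => fs1 (Nat.add (Nat.succ 50978) k)) 286 = true := by decide +kernel
theorem s1c167 : allBelow (fun k => fs1 (Nat.add (Nat.succ 51264) k)) 375 = true := by decide +kernel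
theorem s1c168 : allBelow (fun k => fs1 (Nat.add (Nat.succ 51639) k)) 476 = true := by decide +kernel
theorem s1c169 : allBelow (fun k => fs1 (Nat.add (Nat.succ 52115) k)) 489 = true := by decide +kernel
theorem s1c170 : allBelow (fun k => fs1 (Nat.add (Nat.succ 52604) k)) 569 = true := by decide +kernel
theorem s1c171 : allBelow (fun k => fs1 (Nat.add (Nat.succ 53173) k)) 258 = true := by decide +kernel
theorem s1c172 : allBelow (fun k => fs1 (Nat.add (Nat.succ 53431) k)) 291 = true := by decide +kernel
theorem s1c173 : allBelow (fun k => fs1 (Nat.add (Nat.succ 53722) k)) 265 = true := by decide +kernel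
theorem s1c174 : allBelow (fun k => fs1 (Nat.add (Nat.succ 53987) k)) 322 = true := by decide +kernel
theorem s1c175 : allBelow (fun k => fs1 (Nat.add (Nat.succ 54309) k)) 447 = true := by decide +kernel
theorem s1c176 : allBelow (fun k => fs1 (Nat.add (Nat.succ 54756) k)) 412 = true := by decide +kernel
theorem s1c177 : allBelow (fun k => fs1 (Nat.add (Nat.succ 55168) k)) 319 = true := by decide +kernel
theorem s1c178 : allBelow (fun k => fs1 (Nat.add (Nat.succ 55487) k)) 374 = true := by decide +kernel
theorem s1c179 : allBelow (fun k => fs1 (Nat.add (Nat.succ 55861) k)) 452 = true := by decide +kernel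
theorem s1c180 : allBelow (fun k => fs1 (Nat.add (Nat.succ 56313) k)) 256 = true := by decide +kernel
theorem s1c181 : allBelow (fun k => fs1 (Nat.add (Nat.succ 56569) k)) 308 = true := by decide +kernel
theorem s1c182 : allBelow (fun k => fs1 (Nat.add (Nat.succ 56877) k)) 301 = true := by decide +kernel
theorem s1c183 : allBelow (fun k => fs1 (Nat.add (Nat.succ 57178) k)) 336 = true := by decide +kernel
theorem s1c184 : allBelow (fun k => fs1 (Nat.add (Nat.succ 57514) k)) 290 = true := by decide +kernel
theorem s1c185 : allBelow (fun k => fs1 (Nat.add (Nat.succ 57804) k)) 293 = true := by decide +kernel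
theorem s1c186 : allBelow (fun k => fs1 (Nat.add (Nat.succ 58097) k)) 299 = true := by decide +kernel
theorem s1c187 : allBelow (fun k => fs1 (Nat.add (Nat.succ 58396) k)) 378 = true := by decide +kernel
theorem s1c188 : allBelow (fun k => fs1 (Nat.add (Nat.succ 58774) k)) 414 = true := by decide +kernel
theorem s1c189 : allBelow (fun k => fs1 (Nat.add (Nat.succ 59188) k)) 402 = true := by decide +kernel
theorem s1c190 : allBelow (fun k => fs1 (Nat.add (Nat.succ 59590) k)) 467 = true := by decide +kernel
theorem s1c191 : allBelow (fun k => fs1 (Nat.add (Nat.succ 60057) k)) 282 = true := by decide +kernel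
theorem s1c192 : allBelow (fun k => fs1 (Nat.add (Nat.succ 60339) k)) 326 = true := by decide +kernel
theorem s1c193 : allBelow (fun k => fs1 (Nat.add (Nat.succ 60665) k)) 324 = true := by decide +kernel
theorem s1c194 : allBelow (fun k => fs1 (Nat.add (Nat.succ 60989) k)) 423 = true := by decide +kernel
theorem s1c195 : allBelow (fun k => fs1 (Nat.add (Nat.succ 61412) k)) 529 = true := by decide +kernel
theorem s1c196 : allBelow (fun k => fs1 (Nat.add (Nat.succ 61941) k)) 273 = true := by decide +kernel
theorem s1c197 : allBelow (fun k => fs1 (Nat.add (Nat.succ 62214) k)) 303 = true := by decide +kernel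
theorem s1c198 : allBelow (fun k => fs1 (Nat.add (Nat.succ 62517) k)) 302 = true := by decide +kernel
theorem s1c199 : allBelow (fun k => fs1 (Nat.add (Nat.succ 62819) k)) 312 = true := by decide +kernel
theorem s1c200 : allBelow (fun k => fs1 (Nat.add (Nat.succ 63131) k)) 259 = true := by decide +kernel
theorem s1c201 : allBelow (fun k => fs1 (Nat.add (Nat.succ 63390) k)) 276 = true := by decide +kernel
theorem s1c202 : allBelow (fun k => fs1 (Nat.add (Nat.succ 63666) k)) 292 = true := by decide +kernel
theorem s1c203 : allBelow (fun k => fs1 (Nat.add (Nat.succ 63958) k)) 312 = true := by decide +kernel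
theorem s1c204 : allBelow (fun k => fs1 (Nat.add (Nat.succ 64270) k)) 256 = true := by decide +kernel
theorem s1c205 : allBelow (fun k => fs1 (Nat.add (Nat.succ 64526) k)) 261 = true := by decide +kernel
theorem s1c206 : allBelow (fun k => fs1 (Nat.add (Nat.succ 64787) k)) 274 = true := by decide +kernel
theorem s1c207 : allBelow (fun k => fs1 (Nat.add (Nat.succ 65061) k)) 296 = true := by decide +kernel
theorem s1c208 : allBelow (fun k => fs1 (Nat.add (Nat.succ 65357) k)) 306 = true := by decide +kernel
theorem s1c209 : allBelow (fun k => fs1 (Nat.add (Nat.succ 65663) k)) 384 = true := by decide +kernel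
theorem s1c210 : allBelow (fun k => fs1 (Nat.add (Nat.succ 66047) k)) 411 = true := by decide +kernel
theorem s1c211 : allBelow (fun k => fs1 (Nat.add (Nat.succ 66458) k)) 352 = true := by decide +kernel
theorem s1c212 : allBelow (fun k => fs1 (Nat.add (Nat.succ 66810) k)) 382 = true := by decide +kernel
theorem s1c213 : allBelow (fun k => fs1 (Nat.add (Nat.succ 67192) k)) 403 = true := by decide +kernel
theorem s1c214 : allBelow (fun k => fs1 (Nat.add (Nat.succ 67595) k)) 453 = true := by decide +kernel
theorem s1c215 : allBelow (fun k => fs1 (Nat.add (Nat.succ 68048) k)) 341 = true := by decide +kernel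
theorem s1c216 : allBelow (fun k => fs1 (Nat.add (Nat.succ 68389) k)) 277 = true := by decide +kernel
theorem s1c217 : allBelow (fun k => fs1 (Nat.add (Nat.succ 68666) k)) 367 = true := by decide +kernel
theorem s1c218 : allBelow (fun k => fs1 (Nat.add (Nat.succ 69033) k)) 300 = true := by decide +kernel
theorem s1c219 : allBelow (fun k => fs1 (Nat.add (Nat.succ 69333) k)) 353 = true := by decide +kernel
theorem s1c220 : allBelow (fun k => fs1 (Nat.add (Nat.succ 69686) k)) 533 = true := by decide +kernel
theorem s1c221 : allBelow (fun k => fs1 (Nat.add (Nat.succ 70219) k)) 523 = true := by decide +kernel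
theorem s1c222 : allBelow (fun k => fs1 (Nat.add (Nat.succ 70742) k)) 650 = true := by decide +kernel
theorem s1c223 : allBelow (fun k => fs1 (Nat.add (Nat.succ 71392) k)) 263 = true := by decide +kernel
theorem s1c224 : allBelow (fun k => fs1 (Nat.add (Nat.succ 71655) k)) 287 = true := by decide +kernel
theorem s1c225 : allBelow (fun k => fs1 (Nat.add (Nat.succ 71942) k)) 300 = true := by decide +kernel
theorem s1c226 : allBelow (fun k => fs1 (Nat.add (Nat.succ 72242) k)) 296 = true := by decide +kernel
theorem s1c227 : allBelow (fun k => fs1 (Nat.add (Nat.succ 72538) k)) 317 = true := by decide +kernel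
theorem s1c228 : allBelow (fun k => fs1 (Nat.add (Nat.succ 72855) k)) 362 = true := by decide +kernel
theorem s1c229 : allBelow (fun k => fs1 (Nat.add (Nat.succ 73217) k)) 480 = true := by decide +kernel
theorem s1c230 : allBelow (fun k => fs1 (Nat.add (Nat.succ 73697) k)) 417 = true := by decide +kernel
theorem s1c231 : allBelow (fun k => fs1 (Nat.add (Nat.succ 74114) k)) 363 = true := by decide +kernel
theorem s1c232 : allBelow (fun k => fs1 (Nat.add (Nat.succ 74477) k)) 393 = true := by decide +kernel
theorem s1c233 : allBelow (fun k => fs1 (Nat.add (Nat.succ 74870) k)) 513 = true := by decide +kernel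
theorem s1c234 : allBelow (fun k => fs1 (Nat.add (Nat.succ 75383) k)) 261 = true := by decide +kernel
theorem s1c235 : allBelow (fun k => fs1 (Nat.add (Nat.succ 75644) k)) 270 = true := by decide +kernel
theorem s1c236 : allBelow (fun k => fs1 (Nat.add (Nat.succ 75914) k)) 335 = true := by decide +kernel
theorem s1c237 : allBelow (fun k => fs1 (Nat.add (Nat.succ 76249) k)) 288 = true := by decide +kernel
theorem s1c238 : allBelow (fun k => fs1 (Nat.add (Nat.succ 76537) k)) 347 = true := by decide +kernel
theorem s1c239 : allBelow (fun k => fs1 (Nat.add (Nat.succ 76884) k)) 314 = true := by decide +kernel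
theorem s1c240 : allBelow (fun k => fs1 (Nat.add (Nat.succ 77198) k)) 294 = true := by decide +kernel
theorem s1c241 : allBelow (fun k => fs1 (Nat.add (Nat.succ 77492) k)) 306 = true := by decide +kernel
theorem s1c242 : allBelow (fun k => fs1 (Nat.add (Nat.succ 77798) k)) 301 = true := by decide +kernel
theorem s1c243 : allBelow (fun k => fs1 (Nat.add (Nat.succ 78099) k)) 308 = true := by decide +kernel
theorem s1c244 : allBelow (fun k => fs1 (Nat.add (Nat.succ 78407) k)) 376 = true := by decide +kernel
theorem s1c245 : allBelow (fun k => fs1 (Nat.add (Nat.succ 78783) k)) 431 = true := by decide +kernel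
theorem s1c246 : allBelow (fun k => fs1 (Nat.add (Nat.succ 79214) k)) 426 = true := by decide +kernel
theorem s1c247 : allBelow (fun k => fs1 (Nat.add (Nat.succ 79640) k)) 437 = true := by decide +kernel
theorem s1c248 : allBelow (fun k => fs1 (Nat.add (Nat.succ 80077) k)) 449 = true := by decide +kernel
theorem s1c249 : allBelow (fun k => fs1 (Nat.add (Nat.succ 80526) k)) 302 = true := by decide +kernel
theorem s1c250 : allBelow (fun k => fs1 (Nat.add (Nat.succ 80828) k)) 357 = true := by decide +kernel
theorem s1c251 : allBelow (fun k => fs1 (Nat.add (Nat.succ 81185) k)) 326 = true := by decide +kernel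
theorem s1c252 : allBelow (fun k => fs1 (Nat.add (Nat.succ 81511) k)) 382 = true := by decide +kernel
theorem s1c253 : allBelow (fun k => fs1 (Nat.add (Nat.succ 81893) k)) 531 = true := by decide +kernel
theorem s1c254 : allBelow (fun k => fs1 (Nat.add (Nat.succ 82424) k)) 429 = true := by decide +kernel
theorem s1c255 : allBelow (fun k => fs1 (Nat.add (Nat.succ 82853) k)) 269 = true := by decide +kernel
theorem s1c256 : allBelow (fun k => fs1 (Nat.add (Nat.succ 83122) k)) 321 = true := by decide +kernel
theorem s1c257 : allBelow (fun k => fs1 (Nat.add (Nat.succ 83443) k)) 298 = true := by decide +kernel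
theorem s1c258 : allBelow (fun k => fs1 (Nat.add (Nat.succ 83741) k)) 318 = true := by decide +kernel
theorem s1c259 : allBelow (fun k => fs1 (Nat.add (Nat.succ 84059) k)) 304 = true := by decide +kernel
theorem s1c260 : allBelow (fun k => fs1 (Nat.add (Nat.succ 84363) k)) 269 = true := by decide +kernel
theorem s1c261 : allBelow (fun k => fs1 (Nat.add (Nat.succ 84632) k)) 264 = true := by decide +kernel
theorem s1c262 : allBelow (fun k => fs1 (Nat.add (Nat.succ 84896) k)) 303 = true := by decide +kernel
theorem s1c263 : allBelow (fun k => fs1 (Nat.add (Nat.succ 85199) k)) 303 = true := by decide +kernel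
theorem s1c264 : allBelow (fun k => fs1 (Nat.add (Nat.succ 85502) k)) 319 = true := by decide +kernel
theorem s1c265 : allBelow (fun k => fs1 (Nat.add (Nat.succ 85821) k)) 268 = true := by decide +kernel
theorem s1c266 : allBelow (fun k => fs1 (Nat.add (Nat.succ 86089) k)) 266 = true := by decide +kernel
theorem s1c267 : allBelow (fun k => fs1 (Nat.add (Nat.succ 86355) k)) 264 = true := by decide +kernel
theorem s1c268 : allBelow (fun k => fs1 (Nat.add (Nat.succ 86619) k)) 295 = true := by decide +kernel
theorem s1c269 : allBelow (fun k => fs1 (Nat.add (Nat.succ 86914) k)) 291 = true := by decide +kernel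
theorem s1c270 : allBelow (fun k => fs1 (Nat.add (Nat.succ 87205) k)) 318 = true := by decide +kernel
theorem s1c271 : allBelow (fun k => fs1 (Nat.add (Nat.succ 87523) k)) 329 = true := by decide +kernel
theorem s1c272 : allBelow (fun k => fs1 (Nat.add (Nat.succ 87852) k)) 412 = true := by decide +kernel
theorem s1c273 : allBelow (fun k => fs1 (Nat.add (Nat.succ 88264) k)) 386 = true := by decide +kernel
theorem s1c274 : allBelow (fun k => fs1 (Nat.add (Nat.succ 88650) k)) 394 = true := by decide +kernel
theorem s1c275 : allBelow (fun k => fs1 (Nat.add (Nat.succ 89044) k)) 378 = true := by decide +kernel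
theorem s1c276 : allBelow (fun k => fs1 (Nat.add (Nat.succ 89422) k)) 418 = true := by decide +kernel
theorem s1c277 : allBelow (fun k => fs1 (Nat.add (Nat.succ 89840) k)) 430 = true := by decide +kernel
theorem s1c278 : allBelow (fun k => fs1 (Nat.add (Nat.succ 90270) k)) 486 = true := by decide +kernel
theorem s1c279 : allBelow (fun k => fs1 (Nat.add (Nat.succ 90756) k)) 325 = true := by decide +kernel
theorem s1c280 : allBelow (fun k => fs1 (Nat.add (Nat.succ 91081) k)) 327 = true := by decide +kernel
theorem s1c281 : allBelow (fun k => fs1 (Nat.add (Nat.succ 91408) k)) 387 = true := by decide +kernel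
theorem s1c282 : allBelow (fun k => fs1 (Nat.add (Nat.succ 91795) k)) 312 = true := by decide +kernel
theorem s1c283 : allBelow (fun k => fs1 (Nat.add (Nat.succ 92107) k)) 338 = true := by decide +kernel
theorem s1c284 : allBelow (fun k => fs1 (Nat.add (Nat.succ 92445) k)) 397 = true := by decide +kernel
theorem s1c285 : allBelow (fun k => fs1 (Nat.add (Nat.succ 92842) k)) 546 = true := by decide +kernel
theorem s1c286 : allBelow (fun k => fs1 (Nat.add (Nat.succ 93388) k)) 548 = true := by decide +kernel
theorem s1c287 : allBelow (fun k => fs1 (Nat.add (Nat.succ 93936) k)) 525 = true := by decide +kernel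
theorem s1c288 : allBelow (fun k => fs1 (Nat.add (Nat.succ 94461) k)) 275 = true := by decide +kernel
theorem s1c289 : allBelow (fun k => fs1 (Nat.add (Nat.succ 94736) k)) 282 = true := by decide +kernel
theorem s1c290 : allBelow (fun k => fs1 (Nat.add (Nat.succ 95018) k)) 326 = true := by decide +kernel
theorem s1c291 : allBelow (fun k => fs1 (Nat.add (Nat.succ 95344) k)) 303 = true := by decide +kernel
theorem s1c292 : allBelow (fun k => fs1 (Nat.add (Nat.succ 95647) k)) 291 = true := by decide +kernel
theorem s1c293 : allBelow (fun k => fs1 (Nat.add (Nat.succ 95938) k)) 313 = true := by decide +kernel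
theorem s1c294 : allBelow (fun k => fs1 (Nat.add (Nat.succ 96251) k)) 405 = true := by decide +kernel
theorem s1c295 : allBelow (fun k => fs1 (Nat.add (Nat.succ 96656) k)) 467 = true := by decide +kernel
theorem s1c296 : allBelow (fun k => fs1 (Nat.add (Nat.succ 97123) k)) 440 = true := by decide +kernel
theorem s1c297 : allBelow (fun k => fs1 (Nat.add (Nat.succ 97563) k)) 364 = true := by decide +kernel
theorem s1c298 : allBelow (fun k => fs1 (Nat.add (Nat.succ 97927) k)) 393 = true := by decide +kernel
theorem s1c299 : allBelow (fun k => fs1 (Nat.add (Nat.succ 98320) k)) 545 = true := by decide +kernel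
theorem s1c300 : allBelow (fun k => fs1 (Nat.add (Nat.succ 98865) k)) 265 = true := by decide +kernel
theorem s1c301 : allBelow (fun k => fs1 (Nat.add (Nat.succ 99130) k)) 268 = true := by decide +kernel
theorem s1c302 : allBelow (fun k => fs1 (Nat.add (Nat.succ 99398) k)) 286 = true := by decide +kernel
theorem s1c303 : allBelow (fun k => fs1 (Nat.add (Nat.succ 99684) k)) 347 = true := by decide +kernel
theorem s1c304 : allBelow (fun k => fs1 (Nat.add (Nat.succ 100031) k)) 291 = true := by decide +kernel
theorem s1c305 : allBelow (fun k => fs1 (Nat.add (Nat.succ 100322) k)) 293 = true := by decide +kernel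
theorem s1c306 : allBelow (fun k => fs1 (Nat.add (Nat.succ 100615) k)) 343 = true := by decide +kernel
theorem s1c307 : allBelow (fun k => fs1 (Nat.add (Nat.succ 100958) k)) 311 = true := by decide +kernel
theorem s1c308 : allBelow (fun k => fs1 (Nat.add (Nat.succ 101269) k)) 308 = true := by decide +kernel
theorem s1c309 : allBelow (fun k => fs1 (Nat.add (Nat.succ 101577) k)) 290 = true := by decide +kernel
theorem s1c310 : allBelow (fun k => fs1 (Nat.add (Nat.succ 101867) k)) 315 = true := by decide +kernel
theorem s1c311 : allBelow (fun k => fs1 (Nat.add (Nat.succ 102182) k)) 306 = true := by decide +kernel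
theorem s1c312 : allBelow (fun k => fs1 (Nat.add (Nat.succ 102488) k)) 289 = true := by decide +kernel
theorem s1c313 : allBelow (fun k => fs1 (Nat.add (Nat.succ 102777) k)) 317 = true := by decide +kernel
theorem s1c314 : allBelow (fun k => fs1 (Nat.add (Nat.succ 103094) k)) 390 = true := by decide +kernel
theorem s1c315 : allBelow (fun k => fs1 (Nat.add (Nat.succ 103484) k)) 409 = true := by decide +kernel
theorem s1c316 : allBelow (fun k => fs1 (Nat.add (Nat.succ 103893) k)) 418 = true := by decide +kernel
theorem s1c317 : allBelow (fun k => fs1 (Nat.add (Nat.succ 104311) k)) 433 = true := by decide +kernel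
theorem s1c318 : allBelow (fun k => fs1 (Nat.add (Nat.succ 104744) k)) 455 = true := by decide +kernel
theorem s1c319 : allBelow (fun k => fs1 (Nat.add (Nat.succ 105199) k)) 312 = true := by decide +kernel
theorem s1c320 : allBelow (fun k => fs1 (Nat.add (Nat.succ 105511) k)) 301 = true := by decide +kernel
theorem s1c321 : allBelow (fun k => fs1 (Nat.add (Nat.succ 105812) k)) 350 = true := by decide +kernel
theorem s1c322 : allBelow (fun k => fs1 (Nat.add (Nat.succ 106162) k)) 364 = true := by decide +kernel
theorem s1c323 : allBelow (fun k => fs1 (Nat.add (Nat.succ 106526) k)) 436 = true := by decide +kernel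
theorem s1c324 : allBelow (fun k => fs1 (Nat.add (Nat.succ 106962) k)) 508 = true := by decide +kernel
theorem s1c325 : allBelow (fun k => fs1 (Nat.add (Nat.succ 107470) k)) 297 = true := by decide +kernel
theorem s1c326 : allBelow (fun k => fs1 (Nat.add (Nat.succ 107767) k)) 274 = true := by decide +kernel
theorem s1c327 : allBelow (fun k => fs1 (Nat.add (Nat.succ 108041) k)) 322 = true := by decide +kernel
theorem s1c328 : allBelow (fun k => fs1 (Nat.add (Nat.succ 108363) k)) 295 = true := by decide +kernel
theorem s1c329 : allBelow (fun k => fs1 (Nat.add (Nat.succ 108658) k)) 291 = true := by decide +kernel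
theorem s1c330 : allBelow (fun k => fs1 (Nat.add (Nat.succ 108949) k)) 349 = true := by decide +kernel
theorem s1c331 : allBelow (fun k => fs1 (Nat.add (Nat.succ 109298) k)) 298 = true := by decide +kernel
theorem s1c332 : allBelow (fun k => fs1 (Nat.add (Nat.succ 109596) k)) 274 = true := by decide +kernel
theorem s1c333 : allBelow (fun k => fs1 (Nat.add (Nat.succ 109870) k)) 268 = true := by decide +kernel
theorem s1c334 : allBelow (fun k => fs1 (Nat.add (Nat.succ 110138) k)) 276 = true := by decide +kernel
theorem s1c335 : allBelow (fun k => fs1 (Nat.add (Nat.succ 110414) k)) 293 = true := by decide +kernel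
theorem s1c336 : allBelow (fun k => fs1 (Nat.add (Nat.succ 110707) k)) 335 = true := by decide +kernel
theorem s1c337 : allBelow (fun k => fs1 (Nat.add (Nat.succ 111042) k)) 264 = true := by decide +kernel

end Cfsg.Agent.Lib.Helper35.Fi24a
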