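import Cfsg.Agent.Lib.Helper35.Fi24a.Data

set_option Elab.async false

namespace Cfsg.Agent.Lib.Helper35.Fi24a

open Cfsg.Agent.Lib.Helper35

theorem s10c122 : allBelow (fun k => fs10 (Nat.add (Nat.succ 37824) k)) 326 = true := by decide +kernel
theorem s10c123 : allBelow (fun k => fs10 (Nat.add (Nat.succ 38150) k)) 348 = true := by decide +kernel
theorem s10c124 : allBelow (fun k => fs10 (Nat.add (Nat.succ 38498) k)) 367 = true := by decide +kernel
theorem s10c125 : allBelow (fun k => fs10 (Nat.add (Nat.succ 38865) k)) 410 = true := by decide +kernel
theorem s10c126 : allBelow (fun k => fs10 (Nat.add (Nat.succ 39275) k)) 310 = true := by decide +kernel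
theorem s10c127 : allBelow (fun k => fs10 (Nat.add (Nat.succ 39585) k)) 304 = true := by decide +kernel
theorem s10c128 : allBelow (fun k => fs10 (Nat.add (Nat.succ 39889) k)) 319 = true := by decide +kernel
theorem s10c129 : allBelow (fun k => fs10 (Nat.add (Nat.succ 40208) k)) 360 = true := by decide +kernel
theorem s10c130 : allBelow (fun k => fs10 (Nat.add (Nat.succ 40568) k)) 352 = true := by decide +kernel
theorem s10c131 : allBelow (fun k => fs10 (Nat.add (Nat.succ 40920) k)) 283 = true := by decide +kernel
theorem s10c132 : allBelow (fun k => fs10 (Nat.add (Nat.succ 41203) k)) 361 = true := by decide +kernel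
theorem s10c133 : allBelow (fun k => fs10 (Nat.add (Nat.succ 41564) k)) 305 = true := by decide +kernel
theorem s10c134 : allBelow (fun k => fs10 (Nat.add (Nat.succ 41869) k)) 287 = true := by decide +kernel
theorem s10c135 : allBelow (fun k => fs10 (Nat.add (Nat.succ 42156) k)) 311 = true := by decide +kernel
theorem s10c136 : allBelow (fun k => fs10 (Nat.add (Nat.succ 42467) k)) 288 = true := by decide +kernel
theorem s10c137 : allBelow (fun k => fs10 (Nat.add (Nat.succ 42755) k)) 288 = true := by decide +kernel
theorem s10c138 : allBelow (fun k => fs10 (Nat.add (Nat.succ 43043) k)) 319 = true := by decide +kernel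
theorem s10c139 : allBelow (fun k => fs10 (Nat.add (Nat.succ 43362) k)) 357 = true := by decide +kernel
theorem s10c140 : allBelow (fun k => fs10 (Nat.add (Nat.succ 43719) k)) 341 = true := by decide +kernel
theorem s10c141 : allBelow (fun k => fs10 (Nat.add (Nat.succ 44060) k)) 361 = true := by decide +kernel
theorem s10c142 : allBelow (fun k => fs10 (Nat.add (Nat.succ 44421) k)) 269 = true := by decide +kernel
theorem s10c143 : allBelow (fun k => fs10 (Nat.add (Nat.succ 44690) k)) 292 = true := by decide +kernel
theorem s10c144 : allBelow (fun k => fs10 (Nat.add (Nat.succ 44982) k)) 306 = true := by decide +kernel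
theorem s10c145 : allBelow (fun k => fs10 (Nat.add (Nat.succ 45288) k)) 356 = true := by decide +kernel
theorem s10c146 : allBelow (fun k => fs10 (Nat.add (Nat.succ 45644) k)) 369 = true := by decide +kernel
theorem s10c147 : allBelow (fun k => fs10 (Nat.add (Nat.succ 46013) k)) 300 = true := by decide +kernel
theorem s10c148 : allBelow (fun k => fs10 (Nat.add (Nat.succ 46313) k)) 287 = true := by decide +kernel
theorem s10c149 : allBelow (fun k => fs10 (Nat.add (Nat.succ 46600) k)) 312 = true := by decide +kernel
theorem s10c150 : allBelow (fun k => fs10 (Nat.add (Nat.succ 46912) k)) 309 = true := by decide +kernel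
theorem s10c151 : allBelow (fun k => fs10 (Nat.add (Nat.succ 47221) k)) 297 = true := by decide +kernel
theorem s10c152 : allBelow (fun k => fs10 (Nat.add (Nat.succ 47518) k)) 278 = true := by decide +kernel
theorem s10c153 : allBelow (fun k => fs10 (Nat.add (Nat.succ 47796) k)) 300 = true := by decide +kernel
theorem s10c154 : allBelow (fun k => fs10 (Nat.add (Nat.succ 48096) k)) 265 = true := by decide +kernel
theorem s10c155 : allBelow (fun k => fs10 (Nat.add (Nat.succ 48361) k)) 342 = true := by decide +kernel
theorem s10c156 : allBelow (fun k => fs10 (Nat.add (Nat.succ 48703) k)) 366 = true := by decide +kernel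
theorem s10c157 : allBelow (fun k => fs10 (Nat.add (Nat.succ 49069) k)) 324 = true := by decide +kernel
theorem s10c158 : allBelow (fun k => fs10 (Nat.add (Nat.succ 49393) k)) 336 = true := by decide +kernel
theorem s10c159 : allBelow (fun k => fs10 (Nat.add (Nat.succ 49729) k)) 354 = true := by decide +kernel
theorem s10c160 : allBelow (fun k => fs10 (Nat.add (Nat.succ 50083) k)) 354 = true := by decide +kernel
theorem s10c161 : allBelow (fun k => fs10 (Nat.add (Nat.succ 50437) k)) 300 = true := by decide +kernel
theorem s10c162 : allBelow (fun k => fs10 (Nat.add (Nat.succ 50737) k)) 301 = true := by decide +kernel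
theorem s10c163 : allBelow (fun k => fs10 (Nat.add (Nat.succ 51038) k)) 284 = true := by decide +kernel
theorem s10c164 : allBelow (fun k => fs10 (Nat.add (Nat.succ 51322) k)) 333 = true := by decide +kernel
theorem s10c165 : allBelow (fun k => fs10 (Nat.add (Nat.succ 51655) k)) 359 = true := by decide +kernel
theorem s10c166 : allBelow (fun k => fs10 (Nat.add (Nat.succ 52014) k)) 349 = true := by decide +kernel
theorem s10c167 : allBelow (fun k => fs10 (Nat.add (Nat.succ 52363) k)) 381 = true := by decide +kernel
theorem s10c168 : allBelow (fun k => fs10 (Nat.add (Nat.succ 52744) k)) 409 = true := by decide +kernel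
theorem s10c169 : allBelow (fun k => fs10 (Nat.add (Nat.succ 53153) k)) 296 = true := by decide +kernel
theorem s10c170 : allBelow (fun k => fs10 (Nat.add (Nat.succ 53449) k)) 310 = true := by decide +kernel
theorem s10c171 : allBelow (fun k => fs10 (Nat.add (Nat.succ 53759) k)) 293 = true := by decide +kernel
theorem s10c172 : allBelow (fun k => fs10 (Nat.add (Nat.succ 54052) k)) 324 = true := by decide +kernel
theorem s10c173 : allBelow (fun k => fs10 (Nat.add (Nat.succ 54376) k)) 362 = true := by decide +kernel
theorem s10c174 : allBelow (fun k => fs10 (Nat.add (Nat.succ 54738) k)) 370 = true := by decide +kernel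
theorem s10c175 : allBelow (fun k => fs10 (Nat.add (Nat.succ 55108) k)) 318 = true := by decide +kernel
theorem s10c176 : allBelow (fun k => fs10 (Nat.add (Nat.succ 55426) k)) 296 = true := by decide +kernel
theorem s10c177 : allBelow (fun k => fs10 (Nat.add (Nat.succ 55722) k)) 392 = true := by decide +kernel
theorem s10c178 : allBelow (fun k => fs10 (Nat.add (Nat.succ 56114) k)) 319 = true := by decide +kernel
theorem s10c179 : allBelow (fun k => fs10 (Nat.add (Nat.succ 56433) k)) 277 = true := by decide +kernel
theorem s10c180 : allBelow (fun k => fs10 (Nat.add (Nat.succ 56710) k)) 286 = true := by decide +kernel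
theorem s10c181 : allBelow (fun k => fs10 (Nat.add (Nat.succ 56996) k)) 300 = true := by decide +kernel
theorem s10c182 : allBelow (fun k => fs10 (Nat.add (Nat.succ 57296) k)) 306 = true := by decide +kernel
theorem s10c183 : allBelow (fun k => fs10 (Nat.add (Nat.succ 57602) k)) 279 = true := by decide +kernel
theorem s10c184 : allBelow (fun k => fs10 (Nat.add (Nat.succ 57881) k)) 295 = true := by decide +kernel
theorem s10c185 : allBelow (fun k => fs10 (Nat.add (Nat.succ 58176) k)) 274 = true := by decide +kernel
theorem s10c186 : allBelow (fun k => fs10 (Nat.add (Nat.succ 58450) k)) 353 = true := by decide +kernel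
theorem s10c187 : allBelow (fun k => fs10 (Nat.add (Nat.succ 58803) k)) 365 = true := by decide +kernel
theorem s10c188 : allBelow (fun k => fs10 (Nat.add (Nat.succ 59168) k)) 342 = true := by decide +kernel
theorem s10c189 : allBelow (fun k => fs10 (Nat.add (Nat.succ 59510) k)) 352 = true := by decide +kernel
theorem s10c190 : allBelow (fun k => fs10 (Nat.add (Nat.succ 59862) k)) 341 = true := by decide +kernel
theorem s10c191 : allBelow (fun k => fs10 (Nat.add (Nat.succ 60203) k)) 281 = true := by decide +kernel
theorem s10c192 : allBelow (fun k => fs10 (Nat.add (Nat.succ 60484) k)) 305 = true := by decide +kernel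
theorem s10c193 : allBelow (fun k => fs10 (Nat.add (Nat.succ 60789) k)) 293 = true := by decide +kernel
theorem s10c194 : allBelow (fun k => fs10 (Nat.add (Nat.succ 61082) k)) 372 = true := by decide +kernel
theorem s10c195 : allBelow (fun k => fs10 (Nat.add (Nat.succ 61454) k)) 393 = true := by decide +kernel
theorem s10c196 : allBelow (fun k => fs10 (Nat.add (Nat.succ 61847) k)) 339 = true := by decide +kernel
theorem s10c197 : allBelow (fun k => fs10 (Nat.add (Nat.succ 62186) k)) 317 = true := by decide +kernel
theorem s10c198 : allBelow (fun k => fs10 (Nat.add (Nat.succ 62503) k)) 286 = true := by decide +kernel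
theorem s10c199 : allBelow (fun k => fs10 (Nat.add (Nat.succ 62789) k)) 318 = true := by decide +kernel
theorem s10c200 : allBelow (fun k => fs10 (Nat.add (Nat.succ 63107) k)) 305 = true := by decide +kernel
theorem s10c201 : allBelow (fun k => fs10 (Nat.add (Nat.succ 63412) k)) 305 = true := by decide +kernel
theorem s10c202 : allBelow (fun k => fs10 (Nat.add (Nat.succ 63717) k)) 311 = true := by decide +kernel
theorem s10c203 : allBelow (fun k => fs10 (Nat.add (Nat.succ 64028) k)) 287 = true := by decide +kernel
theorem s10c204 : allBelow (fun k => fs10 (Nat.add (Nat.succ 64315) k)) 286 = true := by decide +kernel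
theorem s10c205 : allBelow (fun k => fs10 (Nat.add (Nat.succ 64601) k)) 281 = true := by decide +kernel
theorem s10c206 : allBelow (fun k => fs10 (Nat.add (Nat.succ 64882) k)) 302 = true := by decide +kernel
theorem s10c207 : allBelow (fun k => fs10 (Nat.add (Nat.succ 65184) k)) 276 = true := by decide +kernel
theorem s10c208 : allBelow (fun k => fs10 (Nat.add (Nat.succ 65460) k)) 317 = true := by decide +kernel
theorem s10c209 : allBelow (fun k => fs10 (Nat.add (Nat.succ 65777) k)) 354 = true := by decide +kernel
theorem s10c210 : allBelow (fun k => fs10 (Nat.add (Nat.succ 66131) k)) 361 = true := by decide +kernel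
theorem s10c211 : allBelow (fun k => fs10 (Nat.add (Nat.succ 66492) k)) 326 = true := by decide +kernel
theorem s10c212 : allBelow (fun k => fs10 (Nat.add (Nat.succ 66818) k)) 331 = true := by decide +kernel
theorem s10c213 : allBelow (fun k => fs10 (Nat.add (Nat.succ 67149) k)) 340 = true := by decide +kernel
theorem s10c214 : allBelow (fun k => fs10 (Nat.add (Nat.succ 67489) k)) 373 = true := by decide +kernel
theorem s10c215 : allBelow (fun k => fs10 (Nat.add (Nat.succ 67862) k)) 375 = true := by decide +kernel
theorem s10c216 : allBelow (fun k => fs10 (Nat.add (Nat.succ 68237) k)) 332 = true := by decide +kernel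
theorem s10c217 : allBelow (fun k => fs10 (Nat.add (Nat.succ 68569) k)) 307 = true := by decide +kernel
theorem s10c218 : allBelow (fun k => fs10 (Nat.add (Nat.succ 68876) k)) 292 = true := by decide +kernel
theorem s10c219 : allBelow (fun k => fs10 (Nat.add (Nat.succ 69168) k)) 313 = true := by decide +kernel
theorem s10c220 : allBelow (fun k => fs10 (Nat.add (Nat.succ 69481) k)) 360 = true := by decide +kernel
theorem s10c221 : allBelow (fun k => fs10 (Nat.add (Nat.succ 69841) k)) 390 = true := by decide +kernel
theorem s10c222 : allBelow (fun k => fs10 (Nat.add (Nat.succ 70231) k)) 367 = true := by decide +kernel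
theorem s10c223 : allBelow (fun k => fs10 (Nat.add (Nat.succ 70598) k)) 388 = true := by decide +kernel
theorem s10c224 : allBelow (fun k => fs10 (Nat.add (Nat.succ 70986) k)) 420 = true := by decide +kernel
theorem s10c225 : allBelow (fun k => fs10 (Nat.add (Nat.succ 71406) k)) 291 = true := by decide +kernel
theorem s10c226 : allBelow (fun k => fs10 (Nat.add (Nat.succ 71697) k)) 304 = true := by decide +kernel
theorem s10c227 : allBelow (fun k => fs10 (Nat.add (Nat.succ 72001) k)) 300 = true := by decide +kernel
theorem s10c228 : allBelow (fun k => fs10 (Nat.add (Nat.succ 72301) k)) 289 = true := by decide +kernel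
theorem s10c229 : allBelow (fun k => fs10 (Nat.add (Nat.succ 72590) k)) 306 = true := by decide +kernel
theorem s10c230 : allBelow (fun k => fs10 (Nat.add (Nat.succ 72896) k)) 383 = true := by decide +kernel
theorem s10c231 : allBelow (fun k => fs10 (Nat.add (Nat.succ 73279) k)) 344 = true := by decide +kernel
theorem s10c232 : allBelow (fun k => fs10 (Nat.add (Nat.succ 73623) k)) 384 = true := by decide +kernel
theorem s10c233 : allBelow (fun k => fs10 (Nat.add (Nat.succ 74007) k)) 343 = true := by decide +kernel
theorem s10c234 : allBelow (fun k => fs10 (Nat.add (Nat.succ 74350) k)) 306 = true := by decide +kernel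
theorem s10c235 : allBelow (fun k => fs10 (Nat.add (Nat.succ 74656) k)) 389 = true := by decide +kernel
theorem s10c236 : allBelow (fun k => fs10 (Nat.add (Nat.succ 75045) k)) 382 = true := by decide +kernel
theorem s10c237 : allBelow (fun k => fs10 (Nat.add (Nat.succ 75427) k)) 274 = true := by decide +kernel
theorem s10c238 : allBelow (fun k => fs10 (Nat.add (Nat.succ 75701) k)) 298 = true := by decide +kernel
theorem s10c239 : allBelow (fun k => fs10 (Nat.add (Nat.succ 75999) k)) 289 = true := by decide +kernel
theorem s10c240 : allBelow (fun k => fs10 (Nat.add (Nat.succ 76288) k)) 277 = true := by decide +kernel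
theorem s10c241 : allBelow (fun k => fs10 (Nat.add (Nat.succ 76565) k)) 314 = true := by decide +kernel
theorem s10c242 : allBelow (fun k => fs10 (Nat.add (Nat.succ 76879) k)) 315 = true := by decide +kernel
theorem s10c243 : allBelow (fun k => fs10 (Nat.add (Nat.succ 77194) k)) 290 = true := by decide +kernel
theorem s10c244 : allBelow (fun k => fs10 (Nat.add (Nat.succ 77484) k)) 285 = true := by decide +kernel
theorem s10c245 : allBelow (fun k => fs10 (Nat.add (Nat.succ 77769) k)) 305 = true := by decide +kernel
theorem s10c246 : allBelow (fun k => fs10 (Nat.add (Nat.succ 78074) k)) 295 = true := by decide +kernel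
theorem s10c247 : allBelow (fun k => fs10 (Nat.add (Nat.succ 78369) k)) 340 = true := by decide +kernel
theorem s10c248 : allBelow (fun k => fs10 (Nat.add (Nat.succ 78709) k)) 364 = true := by decide +kernel
theorem s10c249 : allBelow (fun k => fs10 (Nat.add (Nat.succ 79073) k)) 361 = true := by decide +kernel
theorem s10c250 : allBelow (fun k => fs10 (Nat.add (Nat.succ 79434) k)) 361 = true := by decide +kernel
theorem s10c251 : allBelow (fun k => fs10 (Nat.add (Nat.succ 79795) k)) 358 = true := by decide +kernel
theorem s10c252 : allBelow (fun k => fs10 (Nat.add (Nat.succ 80153) k)) 379 = true := by decide +kernel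
theorem s10c253 : allBelow (fun k => fs10 (Nat.add (Nat.succ 80532) k)) 319 = true := by decide +kernel
theorem s10c254 : allBelow (fun k => fs10 (Nat.add (Nat.succ 80851) k)) 313 = true := by decide +kernel
theorem s10c255 : allBelow (fun k => fs10 (Nat.add (Nat.succ 81164) k)) 313 = true := by decide +kernel
theorem s10c256 : allBelow (fun k => fs10 (Nat.add (Nat.succ 81477) k)) 328 = true := by decide +kernel
theorem s10c257 : allBelow (fun k => fs10 (Nat.add (Nat.succ 81805) k)) 401 = true := by decide +kernel
theorem s10c258 : allBelow (fun k => fs10 (Nat.add (Nat.succ 82206) k)) 423 = true := by decide +kernel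
theorem s10c259 : allBelow (fun k => fs10 (Nat.add (Nat.succ 82629) k)) 351 = true := by decide +kernel
theorem s10c260 : allBelow (fun k => fs10 (Nat.add (Nat.succ 82980) k)) 315 = true := by decide +kernel
theorem s10c261 : allBelow (fun k => fs10 (Nat.add (Nat.succ 83295) k)) 322 = true := by decide +kernel
theorem s10c262 : allBelow (fun k => fs10 (Nat.add (Nat.succ 83617) k)) 292 = true := by decide +kernel
theorem s10c263 : allBelow (fun k => fs10 (Nat.add (Nat.succ 83909) k)) 333 = true := by decide +kernel
theorem s10c264 : allBelow (fun k => fs10 (Nat.add (Nat.succ 84242) k)) 319 = true := by decide +kernel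
theorem s10c265 : allBelow (fun k => fs10 (Nat.add (Nat.succ 84561) k)) 289 = true := by decide +kernel
theorem s10c266 : allBelow (fun k => fs10 (Nat.add (Nat.succ 84850) k)) 305 = true := by decide +kernel
theorem s10c267 : allBelow (fun k => fs10 (Nat.add (Nat.succ 85155) k)) 316 = true := by decide +kernel
theorem s10c268 : allBelow (fun k => fs10 (Nat.add (Nat.succ 85471) k)) 312 = true := by decide +kernel
theorem s10c269 : allBelow (fun k => fs10 (Nat.add (Nat.succ 85783) k)) 299 = true := by decide +kernel
theorem s10c270 : allBelow (fun k => fs10 (Nat.add (Nat.succ 86082) k)) 282 = true := by decide +kernel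
theorem s10c271 : allBelow (fun k => fs10 (Nat.add (Nat.succ 86364) k)) 288 = true := by decide +kernel
theorem s10c272 : allBelow (fun k => fs10 (Nat.add (Nat.succ 86652) k)) 302 = true := by decide +kernel
theorem s10c273 : allBelow (fun k => fs10 (Nat.add (Nat.succ 86954) k)) 310 = true := by decide +kernel
theorem s10c274 : allBelow (fun k => fs10 (Nat.add (Nat.succ 87264) k)) 298 = true := by decide +kernel
theorem s10c275 : allBelow (fun k => fs10 (Nat.add (Nat.succ 87562) k)) 302 = true := by decide +kernel
theorem s10c276 : allBelow (fun k => fs10 (Nat.add (Nat.succ 87864) k)) 352 = true := by decide +kernel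
theorem s10c277 : allBelow (fun k => fs10 (Nat.add (Nat.succ 88216) k)) 369 = true := by decide +kernel
theorem s10c278 : allBelow (fun k => fs10 (Nat.add (Nat.succ 88585) k)) 367 = true := by decide +kernel
theorem s10c279 : allBelow (fun k => fs10 (Nat.add (Nat.succ 88952) k)) 343 = true := by decide +kernel
theorem s10c280 : allBelow (fun k => fs10 (Nat.add (Nat.succ 89295) k)) 343 = true := by decide +kernel
theorem s10c281 : allBelow (fun k => fs10 (Nat.add (Nat.succ 89638) k)) 353 = true := by decide +kernel
theorem s10c282 : allBelow (fun k => fs10 (Nat.add (Nat.succ 89991) k)) 364 = true := by decide +kernel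
theorem s10c283 : allBelow (fun k => fs10 (Nat.add (Nat.succ 90355) k)) 419 = true := by decide +kernel
theorem s10c284 : allBelow (fun k => fs10 (Nat.add (Nat.succ 90774) k)) 345 = true := by decide +kernel
theorem s10c285 : allBelow (fun k => fs10 (Nat.add (Nat.succ 91119) k)) 338 = true := by decide +kernel
theorem s10c286 : allBelow (fun k => fs10 (Nat.add (Nat.succ 91457) k)) 318 = true := by decide +kernel
theorem s10c287 : allBelow (fun k => fs10 (Nat.add (Nat.succ 91775) k)) 316 = true := by decide +kernel
theorem s10c288 : allBelow (fun k => fs10 (Nat.add (Nat.succ 92091) k)) 318 = true := by decide +kernel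
theorem s10c289 : allBelow (fun k => fs10 (Nat.add (Nat.succ 92409) k)) 339 = true := by decide +kernel
theorem s10c290 : allBelow (fun k => fs10 (Nat.add (Nat.succ 92748) k)) 409 = true := by decide +kernel
theorem s10c291 : allBelow (fun k => fs10 (Nat.add (Nat.succ 93157) k)) 419 = true := by decide +kernel
theorem s10c292 : allBelow (fun k => fs10 (Nat.add (Nat.succ 93576) k)) 424 = true := by decide +kernel
theorem s10c293 : allBelow (fun k => fs10 (Nat.add (Nat.succ 94000) k)) 415 = true := by decide +kernel
theorem s10c294 : allBelow (fun k => fs10 (Nat.add (Nat.succ 94415) k)) 301 = true := by decide +kernel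
theorem s10c295 : allBelow (fun k => fs10 (Nat.add (Nat.succ 94716) k)) 291 = true := by decide +kernel
theorem s10c296 : allBelow (fun k => fs10 (Nat.add (Nat.succ 95007) k)) 319 = true := by decide +kernel
theorem s10c297 : allBelow (fun k => fs10 (Nat.add (Nat.succ 95326) k)) 299 = true := by decide +kernel
theorem s10c298 : allBelow (fun k => fs10 (Nat.add (Nat.succ 95625) k)) 307 = true := by decide +kernel
theorem s10c299 : allBelow (fun k => fs10 (Nat.add (Nat.succ 95932) k)) 315 = true := by decide +kernel
theorem s10c300 : allBelow (fun k => fs10 (Nat.add (Nat.succ 96247) k)) 370 = true := by decide +kernel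
theorem s10c301 : allBelow (fun k => fs10 (Nat.add (Nat.succ 96617) k)) 385 = true := by decide +kernel
theorem s10c302 : allBelow (fun k => fs10 (Nat.add (Nat.succ 97002) k)) 384 = true := by decide +kernel
theorem s10c303 : allBelow (fun k => fs10 (Nat.add (Nat.succ 97386) k)) 372 = true := by decide +kernel
theorem s10c304 : allBelow (fun k => fs10 (Nat.add (Nat.succ 97758) k)) 317 = true := by decide +kernel
theorem s10c305 : allBelow (fun k => fs10 (Nat.add (Nat.succ 98075) k)) 391 = true := by decide +kernel
theorem s10c306 : allBelow (fun k => fs10 (Nat.add (Nat.succ 98466) k)) 426 = true := by decide +kernel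
theorem s10c307 : allBelow (fun k => fs10 (Nat.add (Nat.succ 98892) k)) 289 = true := by decide +kernel
theorem s10c308 : allBelow (fun k => fs10 (Nat.add (Nat.succ 99181) k)) 291 = true := by decide +kernel
theorem s10c309 : allBelow (fun k => fs10 (Nat.add (Nat.succ 99472) k)) 323 = true := by decide +kernel
theorem s10c310 : allBelow (fun k => fs10 (Nat.add (Nat.succ 99795) k)) 301 = true := by decide +kernel
theorem s10c311 : allBelow (fun k => fs10 (Nat.add (Nat.succ 100096) k)) 280 = true := by decide +kernel
theorem s10c312 : allBelow (fun k => fs10 (Nat.add (Nat.succ 100376) k)) 280 = true := by decide +kernel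
theorem s10c313 : allBelow (fun k => fs10 (Nat.add (Nat.succ 100656) k)) 322 = true := by decide +kernel
theorem s10c314 : allBelow (fun k => fs10 (Nat.add (Nat.succ 100978) k)) 306 = true := by decide +kernel
theorem s10c315 : allBelow (fun k => fs10 (Nat.add (Nat.succ 101284) k)) 314 = true := by decide +kernel
theorem s10c316 : allBelow (fun k => fs10 (Nat.add (Nat.succ 101598) k)) 295 = true := by decide +kernel
theorem s10c317 : allBelow (fun k => fs10 (Nat.add (Nat.succ 101893) k)) 297 = true := by decide +kernel
theorem s10c318 : allBelow (fun k => fs10 (Nat.add (Nat.succ 102190) k)) 317 = true := by decide +kernel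
theorem s10c319 : allBelow (fun k => fs10 (Nat.add (Nat.succ 102507) k)) 310 = true := by decide +kernel
theorem s10c320 : allBelow (fun k => fs10 (Nat.add (Nat.succ 102817) k)) 326 = true := by decide +kernel
theorem s10c321 : allBelow (fun k => fs10 (Nat.add (Nat.succ 103143) k)) 361 = true := by decide +kernel
theorem s10c322 : allBelow (fun k => fs10 (Nat.add (Nat.succ 103504) k)) 385 = true := by decide +kernel
theorem s10c323 : allBelow (fun k => fs10 (Nat.add (Nat.succ 103889) k)) 369 = true := by decide +kernel
theorem s10c324 : allBelow (fun k => fs10 (Nat.add (Nat.succ 104258) k)) 401 = true := by decide +kernel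
theorem s10c325 : allBelow (fun k => fs10 (Nat.add (Nat.succ 104659) k)) 404 = true := by decide +kernel
theorem s10c326 : allBelow (fun k => fs10 (Nat.add (Nat.succ 105063) k)) 353 = true := by decide +kernel
theorem s10c327 : allBelow (fun k => fs10 (Nat.add (Nat.succ 105416) k)) 323 = true := by decide +kernel
theorem s10c328 : allBelow (fun k => fs10 (Nat.add (Nat.succ 105739) k)) 338 = true := by decide +kernel
theorem s10c329 : allBelow (fun k => fs10 (Nat.add (Nat.succ 106077) k)) 329 = true := by decide +kernel
theorem s10c330 : allBelow (fun k => fs10 (Nat.add (Nat.succ 106406) k)) 354 = true := by decide +kernel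
theorem s10c331 : allBelow (fun k => fs10 (Nat.add (Nat.succ 106760) k)) 436 = true := by decide +kernel
theorem s10c332 : allBelow (fun k => fs10 (Nat.add (Nat.succ 107196) k)) 405 = true := by decide +kernel
theorem s10c333 : allBelow (fun k => fs10 (Nat.add (Nat.succ 107601) k)) 310 = true := by decide +kernel
theorem s10c334 : allBelow (fun k => fs10 (Nat.add (Nat.succ 107911) k)) 350 = true := by decide +kernel
theorem s10c335 : allBelow (fun k => fs10 (Nat.add (Nat.succ 108261) k)) 318 = true := by decide +kernel
theorem s10c336 : allBelow (fun k => fs10 (Nat.add (Nat.succ 108579) k)) 302 = true := by decide +kernel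
theorem s10c337 : allBelow (fun k => fs10 (Nat.add (Nat.succ 108881) k)) 301 = true := by decide +kernel
theorem s10c338 : allBelow (fun k => fs10 (Nat.add (Nat.succ 109182) k)) 353 = true := by decide +kernel
theorem s10c339 : allBelow (fun k => fs10 (Nat.add (Nat.succ 109535) k)) 320 = true := by decide +kernel
theorem s10c340 : allBelow (fun k => fs10 (Nat.add (Nat.succ 109855) k)) 293 = true := by decide +kernel
theorem s10c341 : allBelow (fun k => fs10 (Nat.add (Nat.succ 110148) k)) 293 = true := by decide +kernel
theorem s10c342 : allBelow (fun k => fs10 (Nat.add (Nat.succ 110441) k)) 312 = true := by decide +kernel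
theorem s10c343 : allBelow (fun k => fs10 (Nat.add (Nat.succ 110753) k)) 327 = true := by decide +kernel
theorem s10c344 : allBelow (fun k => fs10 (Nat.add (Nat.succ 111080) k)) 314 = true := by decide +kernel
theorem s10c345 : allBelow (fun k => fs10 (Nat.add (Nat.succ 111394) k)) 313 = true := by decide +kernel
theorem s10c346 : allBelow (fun k => fs10 (Nat.add (Nat.succ 111707) k)) 303 = true := by decide +kernel
theorem s10c347 : allBelow (fun k => fs10 (Nat.add (Nat.succ 112010) k)) 284 = true := by decide +kernel
theorem s10c348 : allBelow (fun k => fs10 (Nat.add (Nat.succ 112294) k)) 304 = true := by decide +kernel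
theorem s10c349 : allBelow (fun k => fs10 (Nat.add (Nat.succ 112598) k)) 289 = true := by decide +kernel
theorem s10c350 : allBelow (fun k => fs10 (Nat.add (Nat.succ 112887) k)) 315 = true := by decide +kernel
theorem s10c351 : allBelow (fun k => fs10 (Nat.add (Nat.succ 113202) k)) 306 = true := by decide +kernel
theorem s10c352 : allBelow (fun k => fs10 (Nat.add (Nat.succ 113508) k)) 319 = true := by decide +kernel
theorem s10c353 : allBelow (fun k => fs10 (Nat.add (Nat.succ 113827) k)) 307 = true := by decide +kernel
theorem s10c354 : allBelow (fun k => fs10 (Nat.add (Nat.succ 114134) k)) 321 = true := by decide +kernel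
theorem s10c355 : allBelow (fun k => fs10 (Nat.add (Nat.succ 114455) k)) 340 = true := by decide +kernel
theorem s10c356 : allBelow (fun k => fs10 (Nat.add (Nat.succ 114795) k)) 356 = true := by decide +kernel
theorem s10c357 : allBelow (fun k => fs10 (Nat.add (Nat.succ 115151) k)) 369 = true := by decide +kernel
theorem s10c358 : allBelow (fun k => fs10 (Nat.add (Nat.succ 115520) k)) 364 = true := by decide +kernel
theorem s10c359 : allBelow (fun k => fs10 (Nat.add (Nat.succ 115884) k)) 352 = true := by decide +kernel
theorem s10c360 : allBelow (fun k => fs10 (Nat.add (Nat.succ 116236) k)) 382 = true := by decide +kernel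
theorem s10c361 : allBelow (fun k => fs10 (Nat.add (Nat.succ 116618) k)) 375 = true := by decide +kernel
theorem s10c362 : allBelow (fun k => fs10 (Nat.add (Nat.succ 116993) k)) 414 = true := by decide +kernel
theorem s10c363 : allBelow (fun k => fs10 (Nat.add (Nat.succ 117407) k)) 347 = true := by decide +kernel
theorem s10c364 : allBelow (fun k => fs10 (Nat.add (Nat.succ 117754) k)) 356 = true := by decide +kernel
theorem s10c365 : allBelow (fun k => fs10 (Nat.add (Nat.succ 118110) k)) 317 = true := by decide +kernel
theorem s10c366 : allBelow (fun k => fs10 (Nat.add (Nat.succ 118427) k)) 323 = true := by decide +kernel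
theorem s10c367 : allBelow (fun k => fs10 (Nat.add (Nat.succ 118750) k)) 346 = true := by decide +kernel
theorem s10c368 : allBelow (fun k => fs10 (Nat.add (Nat.succ 119096) k)) 327 = true := by decide +kernel
theorem s10c369 : allBelow (fun k => fs10 (Nat.add (Nat.succ 119423) k)) 401 = true := by decide +kernel
theorem s10c370 : allBelow (fun k => fs10 (Nat.add (Nat.succ 119824) k)) 445 = true := by decide +kernel
theorem s10c371 : allBelow (fun k => fs10 (Nat.add (Nat.succ 120269) k)) 372 = true := by decide +kernel
theorem s10c372 : allBelow (fun k => fs10 (Nat.add (Nat.succ 120641) k)) 313 = true := by decide +kernel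
theorem s10c373 : allBelow (fun k => fs10 (Nat.add (Nat.succ 120954) k)) 283 = true := by decide +kernel
theorem s10c374 : allBelow (fun k => fs10 (Nat.add (Nat.succ 121237) k)) 315 = true := by decide +kernel
theorem s10c375 : allBelow (fun k => fs10 (Nat.add (Nat.succ 121552) k)) 327 = true := by decide +kernel
theorem s10c376 : allBelow (fun k => fs10 (Nat.add (Nat.succ 121879) k)) 309 = true := by decide +kernel
theorem s10c377 : allBelow (fun k => fs10 (Nat.add (Nat.succ 122188) k)) 320 = true := by decide +kernel
theorem s10c378 : allBelow (fun k => fs10 (Nat.add (Nat.succ 122508) k)) 323 = true := by decide +kernel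
theorem s10c379 : allBelow (fun k => fs10 (Nat.add (Nat.succ 122831) k)) 386 = true := by decide +kernel
theorem s10c380 : allBelow (fun k => fs10 (Nat.add (Nat.succ 123217) k)) 390 = true := by decide +kernel
theorem s10c381 : allBelow (fun k => fs10 (Nat.add (Nat.succ 123607) k)) 389 = true := by decide +kernel
theorem s10c382 : allBelow (fun k => fs10 (Nat.add (Nat.succ 123996) k)) 334 = true := by decide +kernel
theorem s10c383 : allBelow (fun k => fs10 (Nat.add (Nat.succ 124330) k)) 406 = true := by decide +kernel
theorem s10c384 : allBelow (fun k => fs10 (Nat.add (Nat.succ 124736) k)) 284 = true := by decide +kernel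
theorem s10c385 : allBelow (fun k => fs10 (Nat.add (Nat.succ 125020) k)) 282 = true := by decide +kernel
theorem s10c386 : allBelow (fun k => fs10 (Nat.add (Nat.succ 125302) k)) 282 = true := by decide +kernel
theorem s10c387 : allBelow (fun k => fs10 (Nat.add (Nat.succ 125584) k)) 256 = true := by decide +kernel
theorem s10c388 : allBelow (fun k => fs10 (Nat.add (Nat.succ 125840) k)) 278 = true := by decide +kernel
theorem s10c389 : allBelow (fun k => fs10 (Nat.add (Nat.succ 126118) k)) 281 = true := by decide +kernel
theorem s10c390 : allBelow (fun k => fs10 (Nat.add (Nat.succ 126399) k)) 277 = true := by decide +kernel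
theorem s10c391 : allBelow (fun k => fs10 (Nat.add (Nat.succ 126676) k)) 268 = true := by decide +kernel
theorem s10c392 : allBelow (fun k => fs10 (Nat.add (Nat.succ 126944) k)) 282 = true := by decide +kernel
theorem s10c393 : allBelow (fun k => fs10 (Nat.add (Nat.succ 127226) k)) 280 = true := by decide +kernel
theorem s10c394 : allBelow (fun k => fs10 (Nat.add (Nat.succ 127506) k)) 284 = true := by decide +kernel
theorem s10c395 : allBelow (fun k => fs10 (Nat.add (Nat.succ 127790) k)) 298 = true := by decide +kernel
theorem s10c396 : allBelow (fun k => fs10 (Nat.add (Nat.succ 128088) k)) 284 = true := by decide +kernel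
theorem s10c397 : allBelow (fun k => fs10 (Nat.add (Nat.succ 128372) k)) 287 = true := by decide +kernel
theorem s10c398 : allBelow (fun k => fs10 (Nat.add (Nat.succ 128659) k)) 285 = true := by decide +kernel
theorem s10c399 : allBelow (fun k => fs10 (Nat.add (Nat.succ 128944) k)) 294 = true := by decide +kernel
theorem s10c400 : allBelow (fun k => fs10 (Nat.add (Nat.succ 129238) k)) 268 = true := by decide +kernel
theorem s10c401 : allBelow (fun k => fs10 (Nat.add (Nat.succ 129506) k)) 293 = true := by decide +kernel
theorem s10c402 : allBelow (fun k => fs10 (Nat.add (Nat.succ 129799) k)) 289 = true := by decide +kernel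
theorem s10c403 : allBelow (fun k => fs10 (Nat.add (Nat.succ 130088) k)) 306 = true := by decide +kernel
theorem s10c404 : allBelow (fun k => fs10 (Nat.add (Nat.succ 130394) k)) 299 = true := by decide +kernel
theorem s10c405 : allBelow (fun k => fs10 (Nat.add (Nat.succ 130693) k)) 281 = true := by decide +kernel
theorem s10c406 : allBelow (fun k => fs10 (Nat.add (Nat.succ 130974) k)) 303 = true := by decide +kernel
theorem s10c407 : allBelow (fun k => fs10 (Nat.add (Nat.succ 131277) k)) 296 = true := by decide +kernel
theorem s10c408 : allBelow (fun k => fs10 (Nat.add (Nat.succ 131573) k)) 293 = true := by decide +kernel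
theorem s10c409 : allBelow (fun k => fs10 (Nat.add (Nat.succ 131866) k)) 262 = true := by decide +kernel
theorem s10c410 : allBelow (fun k => fs10 (Nat.add (Nat.succ 132128) k)) 271 = true := by decide +kernel
theorem s10c411 : allBelow (fun k => fs10 (Nat.add (Nat.succ 132399) k)) 297 = true := by decide +kernel
theorem s10c412 : allBelow (fun k => fs10 (Nat.add (Nat.succ 132696) k)) 292 = true := by decide +kernel
theorem s10c413 : allBelow (fun k => fs10 (Nat.add (Nat.succ 132988) k)) 297 = true := by decide +kernel
theorem s10c414 : allBelow (fun k => fs10 (Nat.add (Nat.succ 133285) k)) 276 = true := by decide +kernel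
theorem s10c415 : allBelow (fun k => fs10 (Nat.add (Nat.succ 133561) k)) 279 = true := by decide +kernel
theorem s10c416 : allBelow (fun k => fs10 (Nat.add (Nat.succ 133840) k)) 300 = true := by decide +kernel
theorem s10c417 : allBelow (fun k => fs10 (Nat.add (Nat.succ 134140) k)) 278 = true := by decide +kernel
theorem s10c418 : allBelow (fun k => fs10 (Nat.add (Nat.succ 134418) k)) 299 = true := by decide +kernel
theorem s10c419 : allBelow (fun k => fs10 (Nat.add (Nat.succ 134717) k)) 281 = true := by decide +kernel
theorem s10c420 : allBelow (fun k => fs10 (Nat.add (Nat.succ 134998) k)) 296 = true := by decide +kernel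
theorem s10c421 : allBelow (fun k => fs10 (Nat.add (Nat.succ 135294) k)) 292 = true := by decide +kernel
theorem s10c422 : allBelow (fun k => fs10 (Nat.add (Nat.succ 135586) k)) 291 = true := by decide +kernel
theorem s10c423 : allBelow (fun k => fs10 (Nat.add (Nat.succ 135877) k)) 302 = true := by decide +kernel
theorem s10c424 : allBelow (fun k => fs10 (Nat.add (Nat.succ 136179) k)) 302 = true := by decide +kernel
theorem s10c425 : allBelow (fun k => fs10 (Nat.add (Nat.succ 136481) k)) 300 = true := by decide +kernel
theorem s10c426 : allBelow (fun k => fs10 (Nat.add (Nat.succ 136781) k)) 295 = true := by decide +kernel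
theorem s10c427 : allBelow (fun k => fs10 (Nat.add (Nat.succ 137076) k)) 307 = true := by decide +kernel
theorem s10c428 : allBelow (fun k => fs10 (Nat.add (Nat.succ 137383) k)) 283 = true := by decide +kernel
theorem s10c429 : allBelow (fun k => fs10 (Nat.add (Nat.succ 137666) k)) 288 = true := by decide +kernel
theorem s10c430 : allBelow (fun k => fs10 (Nat.add (Nat.succ 137954) k)) 292 = true := by decide +kernel
theorem s10c431 : allBelow (fun k => fs10 (Nat.add (Nat.succ 138246) k)) 297 = true := by decide +kernel
theorem s10c432 : allBelow (fun k => fs10 (Nat.add (Nat.succ 138543) k)) 290 = true := by decide +kernel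
theorem s10c433 : allBelow (fun k => fs10 (Nat.add (Nat.succ 138833) k)) 305 = true := by decide +kernel
theorem s10c434 : allBelow (fun k => fs10 (Nat.add (Nat.succ 139138) k)) 268 = true := by decide +kernel
theorem s10c435 : allBelow (fun k => fs10 (Nat.add (Nat.succ 139406) k)) 276 = true := by decide +kernel
theorem s10c436 : allBelow (fun k => fs10 (Nat.add (Nat.succ 139682) k)) 282 = true := by decide +kernel
theorem s10c437 : allBelow (fun k => fs10 (Nat.add (Nat.succ 139964) k)) 293 = true := by decide +kernel
theorem s10c438 : allBelow (fun k => fs10 (Nat.add (Nat.succ 140257) k)) 291 = true := by decide +kernel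
theorem s10c439 : allBelow (fun k => fs10 (Nat.add (Nat.succ 140548) k)) 293 = true := by decide +kernel
theorem s10c440 : allBelow (fun k => fs10 (Nat.add (Nat.succ 140841) k)) 283 = true := by decide +kernel

end Cfsg.Agent.Lib.Helper35.Fi24a
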