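import Cfsg.Agent.Lib.Helper35.Fi24a.Data

set_option Elab.async false

namespace Cfsg.Agent.Lib.Helper35.Fi24a

open Cfsg.Agent.Lib.Helper35

theorem s10c441 : allBelow (fun k => fs10 (Nat.add (Nat.succ 141124) k)) 289 = true := by decide +kernel
theorem s10c442 : allBelow (fun k => fs10 (Nat.add (Nat.succ 141413) k)) 289 = true := by decide +kernel
theorem s10c443 : allBelow (fun k => fs10 (Nat.add (Nat.succ 141702) k)) 281 = true := by decide +kernel
theorem s10c444 : allBelow (fun k => fs10 (Nat.add (Nat.succ 141983) k)) 277 = true := by decide +kernel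
theorem s10c445 : allBelow (fun k => fs10 (Nat.add (Nat.succ 142260) k)) 254 = true := by decide +kernel
theorem s10c446 : allBelow (fun k => fs10 (Nat.add (Nat.succ 142514) k)) 276 = true := by decide +kernel
theorem s10c447 : allBelow (fun k => fs10 (Nat.add (Nat.succ 142790) k)) 281 = true := by decide +kernel
theorem s10c448 : allBelow (fun k => fs10 (Nat.add (Nat.succ 143071) k)) 284 = true := by decide +kernel
theorem s10c449 : allBelow (fun k => fs10 (Nat.add (Nat.succ 143355) k)) 290 = true := by decide +kernel
theorem s10c450 : allBelow (fun k => fs10 (Nat.add (Nat.succ 143645) k)) 274 = true := by decide +kernel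
theorem s10c451 : allBelow (fun k => fs10 (Nat.add (Nat.succ 143919) k)) 291 = true := by decide +kernel
theorem s10c452 : allBelow (fun k => fs10 (Nat.add (Nat.succ 144210) k)) 285 = true := by decide +kernel
theorem s10c453 : allBelow (fun k => fs10 (Nat.add (Nat.succ 144495) k)) 292 = true := by decide +kernel
theorem s10c454 : allBelow (fun k => fs10 (Nat.add (Nat.succ 144787) k)) 295 = true := by decide +kernel
theorem s10c455 : allBelow (fun k => fs10 (Nat.add (Nat.succ 145082) k)) 293 = true := by decide +kernel
theorem s10c456 : allBelow (fun k => fs10 (Nat.add (Nat.succ 145375) k)) 306 = true := by decide +kernel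
theorem s10c457 : allBelow (fun k => fs10 (Nat.add (Nat.succ 145681) k)) 293 = true := by decide +kernel
theorem s10c458 : allBelow (fun k => fs10 (Nat.add (Nat.succ 145974) k)) 284 = true := by decide +kernel
theorem s10c459 : allBelow (fun k => fs10 (Nat.add (Nat.succ 146258) k)) 299 = true := by decide +kernel
theorem s10c460 : allBelow (fun k => fs10 (Nat.add (Nat.succ 146557) k)) 265 = true := by decide +kernel
theorem s10c461 : allBelow (fun k => fs10 (Nat.add (Nat.succ 146822) k)) 299 = true := by decide +kernel
theorem s10c462 : allBelow (fun k => fs10 (Nat.add (Nat.succ 147121) k)) 287 = true := by decide +kernel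
theorem s10c463 : allBelow (fun k => fs10 (Nat.add (Nat.succ 147408) k)) 292 = true := by decide +kernel
theorem s10c464 : allBelow (fun k => fs10 (Nat.add (Nat.succ 147700) k)) 299 = true := by decide +kernel
theorem s10c465 : allBelow (fun k => fs10 (Nat.add (Nat.succ 147999) k)) 289 = true := by decide +kernel
theorem s10c466 : allBelow (fun k => fs10 (Nat.add (Nat.succ 148288) k)) 299 = true := by decide +kernel
theorem s10c467 : allBelow (fun k => fs10 (Nat.add (Nat.succ 148587) k)) 293 = true := by decide +kernel
theorem s10c468 : allBelow (fun k => fs10 (Nat.add (Nat.succ 148880) k)) 298 = true := by decide +kernel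
theorem s10c469 : allBelow (fun k => fs10 (Nat.add (Nat.succ 149178) k)) 274 = true := by decide +kernel
theorem s10c470 : allBelow (fun k => fs10 (Nat.add (Nat.succ 149452) k)) 279 = true := by decide +kernel
theorem s10c471 : allBelow (fun k => fs10 (Nat.add (Nat.succ 149731) k)) 295 = true := by decide +kernel
theorem s10c472 : allBelow (fun k => fs10 (Nat.add (Nat.succ 150026) k)) 298 = true := by decide +kernel
theorem s10c473 : allBelow (fun k => fs10 (Nat.add (Nat.succ 150324) k)) 298 = true := by decide +kernel
theorem s10c474 : allBelow (fun k => fs10 (Nat.add (Nat.succ 150622) k)) 304 = true := by decide +kernel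
theorem s10c475 : allBelow (fun k => fs10 (Nat.add (Nat.succ 150926) k)) 282 = true := by decide +kernel
theorem s10c476 : allBelow (fun k => fs10 (Nat.add (Nat.succ 151208) k)) 284 = true := by decide +kernel
theorem s10c477 : allBelow (fun k => fs10 (Nat.add (Nat.succ 151492) k)) 293 = true := by decide +kernel
theorem s10c478 : allBelow (fun k => fs10 (Nat.add (Nat.succ 151785) k)) 292 = true := by decide +kernel
theorem s10c479 : allBelow (fun k => fs10 (Nat.add (Nat.succ 152077) k)) 290 = true := by decide +kernel
theorem s10c480 : allBelow (fun k => fs10 (Nat.add (Nat.succ 152367) k)) 301 = true := by decide +kernel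
theorem s10c481 : allBelow (fun k => fs10 (Nat.add (Nat.succ 152668) k)) 288 = true := by decide +kernel
theorem s10c482 : allBelow (fun k => fs10 (Nat.add (Nat.succ 152956) k)) 295 = true := by decide +kernel
theorem s10c483 : allBelow (fun k => fs10 (Nat.add (Nat.succ 153251) k)) 296 = true := by decide +kernel
theorem s10c484 : allBelow (fun k => fs10 (Nat.add (Nat.succ 153547) k)) 300 = true := by decide +kernel
theorem s10c485 : allBelow (fun k => fs10 (Nat.add (Nat.succ 153847) k)) 287 = true := by decide +kernel
theorem s10c486 : allBelow (fun k => fs10 (Nat.add (Nat.succ 154134) k)) 307 = true := by decide +kernel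
theorem s10c487 : allBelow (fun k => fs10 (Nat.add (Nat.succ 154441) k)) 308 = true := by decide +kernel
theorem s10c488 : allBelow (fun k => fs10 (Nat.add (Nat.succ 154749) k)) 304 = true := by decide +kernel
theorem s10c489 : allBelow (fun k => fs10 (Nat.add (Nat.succ 155053) k)) 299 = true := by decide +kernel
theorem s10c490 : allBelow (fun k => fs10 (Nat.add (Nat.succ 155352) k)) 311 = true := by decide +kernel
theorem s10c491 : allBelow (fun k => fs10 (Nat.add (Nat.succ 155663) k)) 287 = true := by decide +kernel
theorem s10c492 : allBelow (fun k => fs10 (Nat.add (Nat.succ 155950) k)) 281 = true := by decide +kernel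
theorem s10c493 : allBelow (fun k => fs10 (Nat.add (Nat.succ 156231) k)) 287 = true := by decide +kernel
theorem s10c494 : allBelow (fun k => fs10 (Nat.add (Nat.succ 156518) k)) 291 = true := by decide +kernel
theorem s10c495 : allBelow (fun k => fs10 (Nat.add (Nat.succ 156809) k)) 294 = true := by decide +kernel
theorem s10c496 : allBelow (fun k => fs10 (Nat.add (Nat.succ 157103) k)) 294 = true := by decide +kernel
theorem s10c497 : allBelow (fun k => fs10 (Nat.add (Nat.succ 157397) k)) 273 = true := by decide +kernel
theorem s10c498 : allBelow (fun k => fs10 (Nat.add (Nat.succ 157670) k)) 291 = true := by decide +kernel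
theorem s10c499 : allBelow (fun k => fs10 (Nat.add (Nat.succ 157961) k)) 283 = true := by decide +kernel
theorem s10c500 : allBelow (fun k => fs10 (Nat.add (Nat.succ 158244) k)) 299 = true := by decide +kernel
theorem s10c501 : allBelow (fun k => fs10 (Nat.add (Nat.succ 158543) k)) 303 = true := by decide +kernel
theorem s10c502 : allBelow (fun k => fs10 (Nat.add (Nat.succ 158846) k)) 287 = true := by decide +kernel
theorem s10c503 : allBelow (fun k => fs10 (Nat.add (Nat.succ 159133) k)) 270 = true := by decide +kernel
theorem s10c504 : allBelow (fun k => fs10 (Nat.add (Nat.succ 159403) k)) 295 = true := by decide +kernel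
theorem s10c505 : allBelow (fun k => fs10 (Nat.add (Nat.succ 159698) k)) 291 = true := by decide +kernel
theorem s10c506 : allBelow (fun k => fs10 (Nat.add (Nat.succ 159989) k)) 294 = true := by decide +kernel
theorem s10c507 : allBelow (fun k => fs10 (Nat.add (Nat.succ 160283) k)) 268 = true := by decide +kernel
theorem s10c508 : allBelow (fun k => fs10 (Nat.add (Nat.succ 160551) k)) 265 = true := by decide +kernel
theorem s10c509 : allBelow (fun k => fs10 (Nat.add (Nat.succ 160816) k)) 273 = true := by decide +kernel
theorem s10c510 : allBelow (fun k => fs10 (Nat.add (Nat.succ 161089) k)) 293 = true := by decide +kernel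
theorem s10c511 : allBelow (fun k => fs10 (Nat.add (Nat.succ 161382) k)) 290 = true := by decide +kernel
theorem s10c512 : allBelow (fun k => fs10 (Nat.add (Nat.succ 161672) k)) 286 = true := by decide +kernel
theorem s10c513 : allBelow (fun k => fs10 (Nat.add (Nat.succ 161958) k)) 301 = true := by decide +kernel
theorem s10c514 : allBelow (fun k => fs10 (Nat.add (Nat.succ 162259) k)) 276 = true := by decide +kernel
theorem s10c515 : allBelow (fun k => fs10 (Nat.add (Nat.succ 162535) k)) 295 = true := by decide +kernel
theorem s10c516 : allBelow (fun k => fs10 (Nat.add (Nat.succ 162830) k)) 288 = true := by decide +kernel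
theorem s10c517 : allBelow (fun k => fs10 (Nat.add (Nat.succ 163118) k)) 307 = true := by decide +kernel
theorem s10c518 : allBelow (fun k => fs10 (Nat.add (Nat.succ 163425) k)) 294 = true := by decide +kernel
theorem s10c519 : allBelow (fun k => fs10 (Nat.add (Nat.succ 163719) k)) 297 = true := by decide +kernel
theorem s10c520 : allBelow (fun k => fs10 (Nat.add (Nat.succ 164016) k)) 299 = true := by decide +kernel
theorem s10c521 : allBelow (fun k => fs10 (Nat.add (Nat.succ 164315) k)) 309 = true := by decide +kernel
theorem s10c522 : allBelow (fun k => fs10 (Nat.add (Nat.succ 164624) k)) 302 = true := by decide +kernel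
theorem s10c523 : allBelow (fun k => fs10 (Nat.add (Nat.succ 164926) k)) 272 = true := by decide +kernel
theorem s10c524 : allBelow (fun k => fs10 (Nat.add (Nat.succ 165198) k)) 295 = true := by decide +kernel
theorem s10c525 : allBelow (fun k => fs10 (Nat.add (Nat.succ 165493) k)) 282 = true := by decide +kernel
theorem s10c526 : allBelow (fun k => fs10 (Nat.add (Nat.succ 165775) k)) 293 = true := by decide +kernel
theorem s10c527 : allBelow (fun k => fs10 (Nat.add (Nat.succ 166068) k)) 282 = true := by decide +kernel
theorem s10c528 : allBelow (fun k => fs10 (Nat.add (Nat.succ 166350) k)) 279 = true := by decide +kernel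
theorem s10c529 : allBelow (fun k => fs10 (Nat.add (Nat.succ 166629) k)) 294 = true := by decide +kernel
theorem s10c530 : allBelow (fun k => fs10 (Nat.add (Nat.succ 166923) k)) 293 = true := by decide +kernel
theorem s10c531 : allBelow (fun k => fs10 (Nat.add (Nat.succ 167216) k)) 296 = true := by decide +kernel
theorem s10c532 : allBelow (fun k => fs10 (Nat.add (Nat.succ 167512) k)) 292 = true := by decide +kernel
theorem s10c533 : allBelow (fun k => fs10 (Nat.add (Nat.succ 167804) k)) 302 = true := by decide +kernel
theorem s10c534 : allBelow (fun k => fs10 (Nat.add (Nat.succ 168106) k)) 275 = true := by decide +kernel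
theorem s10c535 : allBelow (fun k => fs10 (Nat.add (Nat.succ 168381) k)) 271 = true := by decide +kernel
theorem s10c536 : allBelow (fun k => fs10 (Nat.add (Nat.succ 168652) k)) 292 = true := by decide +kernel
theorem s10c537 : allBelow (fun k => fs10 (Nat.add (Nat.succ 168944) k)) 302 = true := by decide +kernel
theorem s10c538 : allBelow (fun k => fs10 (Nat.add (Nat.succ 169246) k)) 296 = true := by decide +kernel
theorem s10c539 : allBelow (fun k => fs10 (Nat.add (Nat.succ 169542) k)) 300 = true := by decide +kernel
theorem s10c540 : allBelow (fun k => fs10 (Nat.add (Nat.succ 169842) k)) 309 = true := by decide +kernel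
theorem s10c541 : allBelow (fun k => fs10 (Nat.add (Nat.succ 170151) k)) 292 = true := by decide +kernel
theorem s10c542 : allBelow (fun k => fs10 (Nat.add (Nat.succ 170443) k)) 280 = true := by decide +kernel
theorem s10c543 : allBelow (fun k => fs10 (Nat.add (Nat.succ 170723) k)) 288 = true := by decide +kernel
theorem s10c544 : allBelow (fun k => fs10 (Nat.add (Nat.succ 171011) k)) 300 = true := by decide +kernel
theorem s10c545 : allBelow (fun k => fs10 (Nat.add (Nat.succ 171311) k)) 294 = true := by decide +kernel
theorem s10c546 : allBelow (fun k => fs10 (Nat.add (Nat.succ 171605) k)) 289 = true := by decide +kernel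
theorem s10c547 : allBelow (fun k => fs10 (Nat.add (Nat.succ 171894) k)) 309 = true := by decide +kernel
theorem s10c548 : allBelow (fun k => fs10 (Nat.add (Nat.succ 172203) k)) 298 = true := by decide +kernel
theorem s10c549 : allBelow (fun k => fs10 (Nat.add (Nat.succ 172501) k)) 293 = true := by decide +kernel
theorem s10c550 : allBelow (fun k => fs10 (Nat.add (Nat.succ 172794) k)) 298 = true := by decide +kernel
theorem s10c551 : allBelow (fun k => fs10 (Nat.add (Nat.succ 173092) k)) 303 = true := by decide +kernel
theorem s10c552 : allBelow (fun k => fs10 (Nat.add (Nat.succ 173395) k)) 303 = true := by decide +kernel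
theorem s10c553 : allBelow (fun k => fs10 (Nat.add (Nat.succ 173698) k)) 295 = true := by decide +kernel
theorem s10c554 : allBelow (fun k => fs10 (Nat.add (Nat.succ 173993) k)) 303 = true := by decide +kernel
theorem s10c555 : allBelow (fun k => fs10 (Nat.add (Nat.succ 174296) k)) 324 = true := by decide +kernel
theorem s10c556 : allBelow (fun k => fs10 (Nat.add (Nat.succ 174620) k)) 300 = true := by decide +kernel
theorem s10c557 : allBelow (fun k => fs10 (Nat.add (Nat.succ 174920) k)) 301 = true := by decide +kernel
theorem s10c558 : allBelow (fun k => fs10 (Nat.add (Nat.succ 175221) k)) 299 = true := by decide +kernel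
theorem s10c559 : allBelow (fun k => fs10 (Nat.add (Nat.succ 175520) k)) 314 = true := by decide +kernel
theorem s10c560 : allBelow (fun k => fs10 (Nat.add (Nat.succ 175834) k)) 291 = true := by decide +kernel
theorem s10c561 : allBelow (fun k => fs10 (Nat.add (Nat.succ 176125) k)) 297 = true := by decide +kernel
theorem s10c562 : allBelow (fun k => fs10 (Nat.add (Nat.succ 176422) k)) 271 = true := by decide +kernel
theorem s10c563 : allBelow (fun k => fs10 (Nat.add (Nat.succ 176693) k)) 289 = true := by decide +kernel
theorem s10c564 : allBelow (fun k => fs10 (Nat.add (Nat.succ 176982) k)) 285 = true := by decide +kernel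
theorem s10c565 : allBelow (fun k => fs10 (Nat.add (Nat.succ 177267) k)) 275 = true := by decide +kernel
theorem s10c566 : allBelow (fun k => fs10 (Nat.add (Nat.succ 177542) k)) 295 = true := by decide +kernel
theorem s10c567 : allBelow (fun k => fs10 (Nat.add (Nat.succ 177837) k)) 292 = true := by decide +kernel
theorem s10c568 : allBelow (fun k => fs10 (Nat.add (Nat.succ 178129) k)) 296 = true := by decide +kernel
theorem s10c569 : allBelow (fun k => fs10 (Nat.add (Nat.succ 178425) k)) 294 = true := by decide +kernel
theorem s10c570 : allBelow (fun k => fs10 (Nat.add (Nat.succ 178719) k)) 279 = true := by decide +kernel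
theorem s10c571 : allBelow (fun k => fs10 (Nat.add (Nat.succ 178998) k)) 295 = true := by decide +kernel
theorem s10c572 : allBelow (fun k => fs10 (Nat.add (Nat.succ 179293) k)) 290 = true := by decide +kernel
theorem s10c573 : allBelow (fun k => fs10 (Nat.add (Nat.succ 179583) k)) 295 = true := by decide +kernel
theorem s10c574 : allBelow (fun k => fs10 (Nat.add (Nat.succ 179878) k)) 288 = true := by decide +kernel
theorem s10c575 : allBelow (fun k => fs10 (Nat.add (Nat.succ 180166) k)) 268 = true := by decide +kernel
theorem s10c576 : allBelow (fun k => fs10 (Nat.add (Nat.succ 180434) k)) 268 = true := by decide +kernel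
theorem s10c577 : allBelow (fun k => fs10 (Nat.add (Nat.succ 180702) k)) 272 = true := by decide +kernel
theorem s10c578 : allBelow (fun k => fs10 (Nat.add (Nat.succ 180974) k)) 290 = true := by decide +kernel
theorem s10c579 : allBelow (fun k => fs10 (Nat.add (Nat.succ 181264) k)) 283 = true := by decide +kernel
theorem s10c580 : allBelow (fun k => fs10 (Nat.add (Nat.succ 181547) k)) 298 = true := by decide +kernel
theorem s10c581 : allBelow (fun k => fs10 (Nat.add (Nat.succ 181845) k)) 293 = true := by decide +kernel
theorem s10c582 : allBelow (fun k => fs10 (Nat.add (Nat.succ 182138) k)) 305 = true := by decide +kernel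
theorem s10c583 : allBelow (fun k => fs10 (Nat.add (Nat.succ 182443) k)) 282 = true := by decide +kernel
theorem s10c584 : allBelow (fun k => fs10 (Nat.add (Nat.succ 182725) k)) 295 = true := by decide +kernel
theorem s10c585 : allBelow (fun k => fs10 (Nat.add (Nat.succ 183020) k)) 295 = true := by decide +kernel
theorem s10c586 : allBelow (fun k => fs10 (Nat.add (Nat.succ 183315) k)) 313 = true := by decide +kernel
theorem s10c587 : allBelow (fun k => fs10 (Nat.add (Nat.succ 183628) k)) 296 = true := by decide +kernel
theorem s10c588 : allBelow (fun k => fs10 (Nat.add (Nat.succ 183924) k)) 298 = true := by decide +kernel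
theorem s10c589 : allBelow (fun k => fs10 (Nat.add (Nat.succ 184222) k)) 305 = true := by decide +kernel
theorem s10c590 : allBelow (fun k => fs10 (Nat.add (Nat.succ 184527) k)) 291 = true := by decide +kernel
theorem s10c591 : allBelow (fun k => fs10 (Nat.add (Nat.succ 184818) k)) 309 = true := by decide +kernel
theorem s10c592 : allBelow (fun k => fs10 (Nat.add (Nat.succ 185127) k)) 303 = true := by decide +kernel
theorem s10c593 : allBelow (fun k => fs10 (Nat.add (Nat.succ 185430) k)) 275 = true := by decide +kernel
theorem s10c594 : allBelow (fun k => fs10 (Nat.add (Nat.succ 185705) k)) 295 = true := by decide +kernel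
theorem s10c595 : allBelow (fun k => fs10 (Nat.add (Nat.succ 186000) k)) 291 = true := by decide +kernel
theorem s10c596 : allBelow (fun k => fs10 (Nat.add (Nat.succ 186291) k)) 283 = true := by decide +kernel
theorem s10c597 : allBelow (fun k => fs10 (Nat.add (Nat.succ 186574) k)) 261 = true := by decide +kernel
theorem s10c598 : allBelow (fun k => fs10 (Nat.add (Nat.succ 186835) k)) 276 = true := by decide +kernel
theorem s10c599 : allBelow (fun k => fs10 (Nat.add (Nat.succ 187111) k)) 285 = true := by decide +kernel
theorem s10c600 : allBelow (fun k => fs10 (Nat.add (Nat.succ 187396) k)) 293 = true := by decide +kernel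
theorem s10c601 : allBelow (fun k => fs10 (Nat.add (Nat.succ 187689) k)) 294 = true := by decide +kernel
theorem s10c602 : allBelow (fun k => fs10 (Nat.add (Nat.succ 187983) k)) 290 = true := by decide +kernel
theorem s10c603 : allBelow (fun k => fs10 (Nat.add (Nat.succ 188273) k)) 296 = true := by decide +kernel
theorem s10c604 : allBelow (fun k => fs10 (Nat.add (Nat.succ 188569) k)) 275 = true := by decide +kernel
theorem s10c605 : allBelow (fun k => fs10 (Nat.add (Nat.succ 188844) k)) 279 = true := by decide +kernel
theorem s10c606 : allBelow (fun k => fs10 (Nat.add (Nat.succ 189123) k)) 294 = true := by decide +kernel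
theorem s10c607 : allBelow (fun k => fs10 (Nat.add (Nat.succ 189417) k)) 295 = true := by decide +kernel
theorem s10c608 : allBelow (fun k => fs10 (Nat.add (Nat.succ 189712) k)) 309 = true := by decide +kernel
theorem s10c609 : allBelow (fun k => fs10 (Nat.add (Nat.succ 190021) k)) 289 = true := by decide +kernel
theorem s10c610 : allBelow (fun k => fs10 (Nat.add (Nat.succ 190310) k)) 297 = true := by decide +kernel
theorem s10c611 : allBelow (fun k => fs10 (Nat.add (Nat.succ 190607) k)) 285 = true := by decide +kernel
theorem s10c612 : allBelow (fun k => fs10 (Nat.add (Nat.succ 190892) k)) 299 = true := by decide +kernel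
theorem s10c613 : allBelow (fun k => fs10 (Nat.add (Nat.succ 191191) k)) 294 = true := by decide +kernel
theorem s10c614 : allBelow (fun k => fs10 (Nat.add (Nat.succ 191485) k)) 294 = true := by decide +kernel
theorem s10c615 : allBelow (fun k => fs10 (Nat.add (Nat.succ 191779) k)) 291 = true := by decide +kernel
theorem s10c616 : allBelow (fun k => fs10 (Nat.add (Nat.succ 192070) k)) 299 = true := by decide +kernel
theorem s10c617 : allBelow (fun k => fs10 (Nat.add (Nat.succ 192369) k)) 291 = true := by decide +kernel
theorem s10c618 : allBelow (fun k => fs10 (Nat.add (Nat.succ 192660) k)) 309 = true := by decide +kernel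
theorem s10c619 : allBelow (fun k => fs10 (Nat.add (Nat.succ 192969) k)) 312 = true := by decide +kernel
theorem s10c620 : allBelow (fun k => fs10 (Nat.add (Nat.succ 193281) k)) 295 = true := by decide +kernel
theorem s10c621 : allBelow (fun k => fs10 (Nat.add (Nat.succ 193576) k)) 302 = true := by decide +kernel
theorem s10c622 : allBelow (fun k => fs10 (Nat.add (Nat.succ 193878) k)) 304 = true := by decide +kernel
theorem s10c623 : allBelow (fun k => fs10 (Nat.add (Nat.succ 194182) k)) 298 = true := by decide +kernel
theorem s10c624 : allBelow (fun k => fs10 (Nat.add (Nat.succ 194480) k)) 302 = true := by decide +kernel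
theorem s10c625 : allBelow (fun k => fs10 (Nat.add (Nat.succ 194782) k)) 302 = true := by decide +kernel
theorem s10c626 : allBelow (fun k => fs10 (Nat.add (Nat.succ 195084) k)) 289 = true := by decide +kernel
theorem s10c627 : allBelow (fun k => fs10 (Nat.add (Nat.succ 195373) k)) 311 = true := by decide +kernel
theorem s10c628 : allBelow (fun k => fs10 (Nat.add (Nat.succ 195684) k)) 322 = true := by decide +kernel
theorem s10c629 : allBelow (fun k => fs10 (Nat.add (Nat.succ 196006) k)) 309 = true := by decide +kernel
theorem s10c630 : allBelow (fun k => fs10 (Nat.add (Nat.succ 196315) k)) 306 = true := by decide +kernel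
theorem s10c631 : allBelow (fun k => fs10 (Nat.add (Nat.succ 196621) k)) 291 = true := by decide +kernel
theorem s10c632 : allBelow (fun k => fs10 (Nat.add (Nat.succ 196912) k)) 293 = true := by decide +kernel
theorem s10c633 : allBelow (fun k => fs10 (Nat.add (Nat.succ 197205) k)) 303 = true := by decide +kernel
theorem s10c634 : allBelow (fun k => fs10 (Nat.add (Nat.succ 197508) k)) 310 = true := by decide +kernel
theorem s10c635 : allBelow (fun k => fs10 (Nat.add (Nat.succ 197818) k)) 273 = true := by decide +kernel
theorem s10c636 : allBelow (fun k => fs10 (Nat.add (Nat.succ 198091) k)) 278 = true := by decide +kernel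
theorem s10c637 : allBelow (fun k => fs10 (Nat.add (Nat.succ 198369) k)) 277 = true := by decide +kernel
theorem s10c638 : allBelow (fun k => fs10 (Nat.add (Nat.succ 198646) k)) 287 = true := by decide +kernel
theorem s10c639 : allBelow (fun k => fs10 (Nat.add (Nat.succ 198933) k)) 289 = true := by decide +kernel
theorem s10c640 : allBelow (fun k => fs10 (Nat.add (Nat.succ 199222) k)) 292 = true := by decide +kernel
theorem s10c641 : allBelow (fun k => fs10 (Nat.add (Nat.succ 199514) k)) 289 = true := by decide +kernel
theorem s10c642 : allBelow (fun k => fs10 (Nat.add (Nat.succ 199803) k)) 291 = true := by decide +kernel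
theorem s10c643 : allBelow (fun k => fs10 (Nat.add (Nat.succ 200094) k)) 296 = true := by decide +kernel
theorem s10c644 : allBelow (fun k => fs10 (Nat.add (Nat.succ 200390) k)) 289 = true := by decide +kernel
theorem s10c645 : allBelow (fun k => fs10 (Nat.add (Nat.succ 200679) k)) 287 = true := by decide +kernel
theorem s10c646 : allBelow (fun k => fs10 (Nat.add (Nat.succ 200966) k)) 289 = true := by decide +kernel
theorem s10c647 : allBelow (fun k => fs10 (Nat.add (Nat.succ 201255) k)) 276 = true := by decide +kernel
theorem s10c648 : allBelow (fun k => fs10 (Nat.add (Nat.succ 201531) k)) 288 = true := by decide +kernel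
theorem s10c649 : allBelow (fun k => fs10 (Nat.add (Nat.succ 201819) k)) 261 = true := by decide +kernel
theorem s10c650 : allBelow (fun k => fs10 (Nat.add (Nat.succ 202080) k)) 281 = true := by decide +kernel
theorem s10c651 : allBelow (fun k => fs10 (Nat.add (Nat.succ 202361) k)) 286 = true := by decide +kernel
theorem s10c652 : allBelow (fun k => fs10 (Nat.add (Nat.succ 202647) k)) 288 = true := by decide +kernel
theorem s10c653 : allBelow (fun k => fs10 (Nat.add (Nat.succ 202935) k)) 287 = true := by decide +kernel
theorem s10c654 : allBelow (fun k => fs10 (Nat.add (Nat.succ 203222) k)) 287 = true := by decide +kernel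
theorem s10c655 : allBelow (fun k => fs10 (Nat.add (Nat.succ 203509) k)) 291 = true := by decide +kernel
theorem s10c656 : allBelow (fun k => fs10 (Nat.add (Nat.succ 203800) k)) 296 = true := by decide +kernel
theorem s10c657 : allBelow (fun k => fs10 (Nat.add (Nat.succ 204096) k)) 289 = true := by decide +kernel
theorem s10c658 : allBelow (fun k => fs10 (Nat.add (Nat.succ 204385) k)) 310 = true := by decide +kernel
theorem s10c659 : allBelow (fun k => fs10 (Nat.add (Nat.succ 204695) k)) 291 = true := by decide +kernel
theorem s10c660 : allBelow (fun k => fs10 (Nat.add (Nat.succ 204986) k)) 308 = true := by decide +kernel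
theorem s10c661 : allBelow (fun k => fs10 (Nat.add (Nat.succ 205294) k)) 289 = true := by decide +kernel
theorem s10c662 : allBelow (fun k => fs10 (Nat.add (Nat.succ 205583) k)) 293 = true := by decide +kernel
theorem s10c663 : allBelow (fun k => fs10 (Nat.add (Nat.succ 205876) k)) 302 = true := by decide +kernel
theorem s10c664 : allBelow (fun k => fs10 (Nat.add (Nat.succ 206178) k)) 298 = true := by decide +kernel
theorem s10c665 : allBelow (fun k => fs10 (Nat.add (Nat.succ 206476) k)) 284 = true := by decide +kernel
theorem s10c666 : allBelow (fun k => fs10 (Nat.add (Nat.succ 206760) k)) 306 = true := by decide +kernel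
theorem s10c667 : allBelow (fun k => fs10 (Nat.add (Nat.succ 207066) k)) 300 = true := by decide +kernel
theorem s10c668 : allBelow (fun k => fs10 (Nat.add (Nat.succ 207366) k)) 285 = true := by decide +kernel
theorem s10c669 : allBelow (fun k => fs10 (Nat.add (Nat.succ 207651) k)) 290 = true := by decide +kernel
theorem s10c670 : allBelow (fun k => fs10 (Nat.add (Nat.succ 207941) k)) 293 = true := by decide +kernel
theorem s10c671 : allBelow (fun k => fs10 (Nat.add (Nat.succ 208234) k)) 280 = true := by decide +kernel
theorem s10c672 : allBelow (fun k => fs10 (Nat.add (Nat.succ 208514) k)) 250 = true := by decide +kernel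
theorem s10c673 : allBelow (fun k => fs10 (Nat.add (Nat.succ 208764) k)) 271 = true := by decide +kernel
theorem s10c674 : allBelow (fun k => fs10 (Nat.add (Nat.succ 209035) k)) 284 = true := by decide +kernel
theorem s10c675 : allBelow (fun k => fs10 (Nat.add (Nat.succ 209319) k)) 287 = true := by decide +kernel
theorem s10c676 : allBelow (fun k => fs10 (Nat.add (Nat.succ 209606) k)) 289 = true := by decide +kernel
theorem s10c677 : allBelow (fun k => fs10 (Nat.add (Nat.succ 209895) k)) 288 = true := by decide +kernel
theorem s10c678 : allBelow (fun k => fs10 (Nat.add (Nat.succ 210183) k)) 288 = true := by decide +kernel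
theorem s10c679 : allBelow (fun k => fs10 (Nat.add (Nat.succ 210471) k)) 284 = true := by decide +kernel
theorem s10c680 : allBelow (fun k => fs10 (Nat.add (Nat.succ 210755) k)) 280 = true := by decide +kernel
theorem s10c681 : allBelow (fun k => fs10 (Nat.add (Nat.succ 211035) k)) 294 = true := by decide +kernel
theorem s10c682 : allBelow (fun k => fs10 (Nat.add (Nat.succ 211329) k)) 286 = true := by decide +kernel
theorem s10c683 : allBelow (fun k => fs10 (Nat.add (Nat.succ 211615) k)) 304 = true := by decide +kernel
theorem s10c684 : allBelow (fun k => fs10 (Nat.add (Nat.succ 211919) k)) 305 = true := by decide +kernel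
theorem s10c685 : allBelow (fun k => fs10 (Nat.add (Nat.succ 212224) k)) 285 = true := by decide +kernel
theorem s10c686 : allBelow (fun k => fs10 (Nat.add (Nat.succ 212509) k)) 281 = true := by decide +kernel
theorem s10c687 : allBelow (fun k => fs10 (Nat.add (Nat.succ 212790) k)) 302 = true := by decide +kernel
theorem s10c688 : allBelow (fun k => fs10 (Nat.add (Nat.succ 213092) k)) 309 = true := by decide +kernel
theorem s10c689 : allBelow (fun k => fs10 (Nat.add (Nat.succ 213401) k)) 294 = true := by decide +kernel
theorem s10c690 : allBelow (fun k => fs10 (Nat.add (Nat.succ 213695) k)) 297 = true := by decide +kernel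
theorem s10c691 : allBelow (fun k => fs10 (Nat.add (Nat.succ 213992) k)) 304 = true := by decide +kernel
theorem s10c692 : allBelow (fun k => fs10 (Nat.add (Nat.succ 214296) k)) 299 = true := by decide +kernel
theorem s10c693 : allBelow (fun k => fs10 (Nat.add (Nat.succ 214595) k)) 280 = true := by decide +kernel
theorem s10c694 : allBelow (fun k => fs10 (Nat.add (Nat.succ 214875) k)) 302 = true := by decide +kernel
theorem s10c695 : allBelow (fun k => fs10 (Nat.add (Nat.succ 215177) k)) 309 = true := by decide +kernel
theorem s10c696 : allBelow (fun k => fs10 (Nat.add (Nat.succ 215486) k)) 310 = true := by decide +kernel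
theorem s10c697 : allBelow (fun k => fs10 (Nat.add (Nat.succ 215796) k)) 293 = true := by decide +kernel
theorem s10c698 : allBelow (fun k => fs10 (Nat.add (Nat.succ 216089) k)) 306 = true := by decide +kernel
theorem s10c699 : allBelow (fun k => fs10 (Nat.add (Nat.succ 216395) k)) 311 = true := by decide +kernel
theorem s10c700 : allBelow (fun k => fs10 (Nat.add (Nat.succ 216706) k)) 286 = true := by decide +kernel
theorem s10c701 : allBelow (fun k => fs10 (Nat.add (Nat.succ 216992) k)) 305 = true := by decide +kernel
theorem s10c702 : allBelow (fun k => fs10 (Nat.add (Nat.succ 217297) k)) 302 = true := by decide +kernel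
theorem s10c703 : allBelow (fun k => fs10 (Nat.add (Nat.succ 217599) k)) 304 = true := by decide +kernel
theorem s10c704 : allBelow (fun k => fs10 (Nat.add (Nat.succ 217903) k)) 279 = true := by decide +kernel
theorem s10c705 : allBelow (fun k => fs10 (Nat.add (Nat.succ 218182) k)) 303 = true := by decide +kernel
theorem s10c706 : allBelow (fun k => fs10 (Nat.add (Nat.succ 218485) k)) 304 = true := by decide +kernel
theorem s10c707 : allBelow (fun k => fs10 (Nat.add (Nat.succ 218789) k)) 307 = true := by decide +kernel
theorem s10c708 : allBelow (fun k => fs10 (Nat.add (Nat.succ 219096) k)) 294 = true := by decide +kernel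
theorem s10c709 : allBelow (fun k => fs10 (Nat.add (Nat.succ 219390) k)) 298 = true := by decide +kernel
theorem s10c710 : allBelow (fun k => fs10 (Nat.add (Nat.succ 219688) k)) 268 = true := by decide +kernel
theorem s10c711 : allBelow (fun k => fs10 (Nat.add (Nat.succ 219956) k)) 301 = true := by decide +kernel
theorem s10c712 : allBelow (fun k => fs10 (Nat.add (Nat.succ 220257) k)) 313 = true := by decide +kernel
theorem s10c713 : allBelow (fun k => fs10 (Nat.add (Nat.succ 220570) k)) 272 = true := by decide +kernel
theorem s10c714 : allBelow (fun k => fs10 (Nat.add (Nat.succ 220842) k)) 264 = true := by decide +kernel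
theorem s10c715 : allBelow (fun k => fs10 (Nat.add (Nat.succ 221106) k)) 280 = true := by decide +kernel
theorem s10c716 : allBelow (fun k => fs10 (Nat.add (Nat.succ 221386) k)) 287 = true := by decide +kernel
theorem s10c717 : allBelow (fun k => fs10 (Nat.add (Nat.succ 221673) k)) 283 = true := by decide +kernel
theorem s10c718 : allBelow (fun k => fs10 (Nat.add (Nat.succ 221956) k)) 291 = true := by decide +kernel
theorem s10c719 : allBelow (fun k => fs10 (Nat.add (Nat.succ 222247) k)) 266 = true := by decide +kernel
theorem s10c720 : allBelow (fun k => fs10 (Nat.add (Nat.succ 222513) k)) 281 = true := by decide +kernel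
theorem s10c721 : allBelow (fun k => fs10 (Nat.add (Nat.succ 222794) k)) 270 = true := by decide +kernel
theorem s10c722 : allBelow (fun k => fs10 (Nat.add (Nat.succ 223064) k)) 284 = true := by decide +kernel
theorem s10c723 : allBelow (fun k => fs10 (Nat.add (Nat.succ 223348) k)) 286 = true := by decide +kernel
theorem s10c724 : allBelow (fun k => fs10 (Nat.add (Nat.succ 223634) k)) 283 = true := by decide +kernel
theorem s10c725 : allBelow (fun k => fs10 (Nat.add (Nat.succ 223917) k)) 285 = true := by decide +kernel
theorem s10c726 : allBelow (fun k => fs10 (Nat.add (Nat.succ 224202) k)) 271 = true := by decide +kernel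
theorem s10c727 : allBelow (fun k => fs10 (Nat.add (Nat.succ 224473) k)) 283 = true := by decide +kernel
theorem s10c728 : allBelow (fun k => fs10 (Nat.add (Nat.succ 224756) k)) 269 = true := by decide +kernel
theorem s10c729 : allBelow (fun k => fs10 (Nat.add (Nat.succ 225025) k)) 287 = true := by decide +kernel
theorem s10c730 : allBelow (fun k => fs10 (Nat.add (Nat.succ 225312) k)) 285 = true := by decide +kernel
theorem s10c731 : allBelow (fun k => fs10 (Nat.add (Nat.succ 225597) k)) 285 = true := by decide +kernel
theorem s10c732 : allBelow (fun k => fs10 (Nat.add (Nat.succ 225882) k)) 290 = true := by decide +kernel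
theorem s10c733 : allBelow (fun k => fs10 (Nat.add (Nat.succ 226172) k)) 290 = true := by decide +kernel
theorem s10c734 : allBelow (fun k => fs10 (Nat.add (Nat.succ 226462) k)) 277 = true := by decide +kernel
theorem s10c735 : allBelow (fun k => fs10 (Nat.add (Nat.succ 226739) k)) 290 = true := by decide +kernel
theorem s10c736 : allBelow (fun k => fs10 (Nat.add (Nat.succ 227029) k)) 284 = true := by decide +kernel
theorem s10c737 : allBelow (fun k => fs10 (Nat.add (Nat.succ 227313) k)) 294 = true := by decide +kernel
theorem s10c738 : allBelow (fun k => fs10 (Nat.add (Nat.succ 227607) k)) 307 = true := by decide +kernel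
theorem s10c739 : allBelow (fun k => fs10 (Nat.add (Nat.succ 227914) k)) 281 = true := by decide +kernel
theorem s10c740 : allBelow (fun k => fs10 (Nat.add (Nat.succ 228195) k)) 294 = true := by decide +kernel
theorem s10c741 : allBelow (fun k => fs10 (Nat.add (Nat.succ 228489) k)) 285 = true := by decide +kernel
theorem s10c742 : allBelow (fun k => fs10 (Nat.add (Nat.succ 228774) k)) 285 = true := by decide +kernel
theorem s10c743 : allBelow (fun k => fs10 (Nat.add (Nat.succ 229059) k)) 294 = true := by decide +kernel
theorem s10c744 : allBelow (fun k => fs10 (Nat.add (Nat.succ 229353) k)) 297 = true := by decide +kernel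
theorem s10c745 : allBelow (fun k => fs10 (Nat.add (Nat.succ 229650) k)) 287 = true := by decide +kernel
theorem s10c746 : allBelow (fun k => fs10 (Nat.add (Nat.succ 229937) k)) 274 = true := by decide +kernel
theorem s10c747 : allBelow (fun k => fs10 (Nat.add (Nat.succ 230211) k)) 293 = true := by decide +kernel
theorem s10c748 : allBelow (fun k => fs10 (Nat.add (Nat.succ 230504) k)) 289 = true := by decide +kernel
theorem s10c749 : allBelow (fun k => fs10 (Nat.add (Nat.succ 230793) k)) 293 = true := by decide +kernel
theorem s10c750 : allBelow (fun k => fs10 (Nat.add (Nat.succ 231086) k)) 279 = true := by decide +kernel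
theorem s10c751 : allBelow (fun k => fs10 (Nat.add (Nat.succ 231365) k)) 291 = true := by decide +kernel
theorem s10c752 : allBelow (fun k => fs10 (Nat.add (Nat.succ 231656) k)) 282 = true := by decide +kernel
theorem s10c753 : allBelow (fun k => fs10 (Nat.add (Nat.succ 231938) k)) 244 = true := by decide +kernel
theorem s10c754 : allBelow (fun k => fs10 (Nat.add (Nat.succ 232182) k)) 258 = true := by decide +kernel
theorem s10c755 : allBelow (fun k => fs10 (Nat.add (Nat.succ 232440) k)) 282 = true := by decide +kernel
theorem s10c756 : allBelow (fun k => fs10 (Nat.add (Nat.succ 232722) k)) 283 = true := by decide +kernel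
theorem s10c757 : allBelow (fun k => fs10 (Nat.add (Nat.succ 233005) k)) 285 = true := by decide +kernel
theorem s10c758 : allBelow (fun k => fs10 (Nat.add (Nat.succ 233290) k)) 288 = true := by decide +kernel
theorem s10c759 : allBelow (fun k => fs10 (Nat.add (Nat.succ 233578) k)) 272 = true := by decide +kernel

end Cfsg.Agent.Lib.Helper35.Fi24a
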