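import Cfsg.Agent.Lib.Helper35.Fi24a.Data

set_option Elab.async false

namespace Cfsg.Agent.Lib.Helper35.Fi24a

open Cfsg.Agent.Lib.Helper35

theorem s10c760 : allBelow (fun k => fs10 (Nat.add (Nat.succ 233850) k)) 282 = true := by decide +kernel
theorem s10c761 : allBelow (fun k => fs10 (Nat.add (Nat.succ 234132) k)) 276 = true := by decide +kernel
theorem s10c762 : allBelow (fun k => fs10 (Nat.add (Nat.succ 234408) k)) 287 = true := by decide +kernel
theorem s10c763 : allBelow (fun k => fs10 (Nat.add (Nat.succ 234695) k)) 281 = true := by decide +kernel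
theorem s10c764 : allBelow (fun k => fs10 (Nat.add (Nat.succ 234976) k)) 289 = true := by decide +kernel
theorem s10c765 : allBelow (fun k => fs10 (Nat.add (Nat.succ 235265) k)) 291 = true := by decide +kernel
theorem s10c766 : allBelow (fun k => fs10 (Nat.add (Nat.succ 235556) k)) 308 = true := by decide +kernel
theorem s10c767 : allBelow (fun k => fs10 (Nat.add (Nat.succ 235864) k)) 284 = true := by decide +kernel
theorem s10c768 : allBelow (fun k => fs10 (Nat.add (Nat.succ 236148) k)) 275 = true := by decide +kernel
theorem s10c769 : allBelow (fun k => fs10 (Nat.add (Nat.succ 236423) k)) 289 = true := by decide +kernel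
theorem s10c770 : allBelow (fun k => fs10 (Nat.add (Nat.succ 236712) k)) 296 = true := by decide +kernel
theorem s10c771 : allBelow (fun k => fs10 (Nat.add (Nat.succ 237008) k)) 297 = true := by decide +kernel
theorem s10c772 : allBelow (fun k => fs10 (Nat.add (Nat.succ 237305) k)) 296 = true := by decide +kernel
theorem s10c773 : allBelow (fun k => fs10 (Nat.add (Nat.succ 237601) k)) 292 = true := by decide +kernel
theorem s10c774 : allBelow (fun k => fs10 (Nat.add (Nat.succ 237893) k)) 303 = true := by decide +kernel
theorem s10c775 : allBelow (fun k => fs10 (Nat.add (Nat.succ 238196) k)) 301 = true := by decide +kernel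
theorem s10c776 : allBelow (fun k => fs10 (Nat.add (Nat.succ 238497) k)) 284 = true := by decide +kernel
theorem s10c777 : allBelow (fun k => fs10 (Nat.add (Nat.succ 238781) k)) 289 = true := by decide +kernel
theorem s10c778 : allBelow (fun k => fs10 (Nat.add (Nat.succ 239070) k)) 301 = true := by decide +kernel
theorem s10c779 : allBelow (fun k => fs10 (Nat.add (Nat.succ 239371) k)) 292 = true := by decide +kernel
theorem s10c780 : allBelow (fun k => fs10 (Nat.add (Nat.succ 239663) k)) 300 = true := by decide +kernel
theorem s10c781 : allBelow (fun k => fs10 (Nat.add (Nat.succ 239963) k)) 285 = true := by decide +kernel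
theorem s10c782 : allBelow (fun k => fs10 (Nat.add (Nat.succ 240248) k)) 310 = true := by decide +kernel
theorem s10c783 : allBelow (fun k => fs10 (Nat.add (Nat.succ 240558) k)) 303 = true := by decide +kernel
theorem s10c784 : allBelow (fun k => fs10 (Nat.add (Nat.succ 240861) k)) 287 = true := by decide +kernel
theorem s10c785 : allBelow (fun k => fs10 (Nat.add (Nat.succ 241148) k)) 297 = true := by decide +kernel
theorem s10c786 : allBelow (fun k => fs10 (Nat.add (Nat.succ 241445) k)) 306 = true := by decide +kernel
theorem s10c787 : allBelow (fun k => fs10 (Nat.add (Nat.succ 241751) k)) 298 = true := by decide +kernel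
theorem s10c788 : allBelow (fun k => fs10 (Nat.add (Nat.succ 242049) k)) 281 = true := by decide +kernel
theorem s10c789 : allBelow (fun k => fs10 (Nat.add (Nat.succ 242330) k)) 278 = true := by decide +kernel
theorem s10c790 : allBelow (fun k => fs10 (Nat.add (Nat.succ 242608) k)) 292 = true := by decide +kernel
theorem s10c791 : allBelow (fun k => fs10 (Nat.add (Nat.succ 242900) k)) 294 = true := by decide +kernel
theorem s10c792 : allBelow (fun k => fs10 (Nat.add (Nat.succ 243194) k)) 291 = true := by decide +kernel
theorem s10c793 : allBelow (fun k => fs10 (Nat.add (Nat.succ 243485) k)) 290 = true := by decide +kernel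
theorem s10c794 : allBelow (fun k => fs10 (Nat.add (Nat.succ 243775) k)) 297 = true := by decide +kernel
theorem s10c795 : allBelow (fun k => fs10 (Nat.add (Nat.succ 244072) k)) 264 = true := by decide +kernel
theorem s10c796 : allBelow (fun k => fs10 (Nat.add (Nat.succ 244336) k)) 291 = true := by decide +kernel
theorem s10c797 : allBelow (fun k => fs10 (Nat.add (Nat.succ 244627) k)) 307 = true := by decide +kernel
theorem s10c798 : allBelow (fun k => fs10 (Nat.add (Nat.succ 244934) k)) 264 = true := by decide +kernel
theorem s10c799 : allBelow (fun k => fs10 (Nat.add (Nat.succ 245198) k)) 263 = true := by decide +kernel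
theorem s10c800 : allBelow (fun k => fs10 (Nat.add (Nat.succ 245461) k)) 285 = true := by decide +kernel
theorem s10c801 : allBelow (fun k => fs10 (Nat.add (Nat.succ 245746) k)) 280 = true := by decide +kernel
theorem s10c802 : allBelow (fun k => fs10 (Nat.add (Nat.succ 246026) k)) 278 = true := by decide +kernel
theorem s10c803 : allBelow (fun k => fs10 (Nat.add (Nat.succ 246304) k)) 273 = true := by decide +kernel
theorem s10c804 : allBelow (fun k => fs10 (Nat.add (Nat.succ 246577) k)) 272 = true := by decide +kernel
theorem s10c805 : allBelow (fun k => fs10 (Nat.add (Nat.succ 246849) k)) 277 = true := by decide +kernel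
theorem s10c806 : allBelow (fun k => fs10 (Nat.add (Nat.succ 247126) k)) 274 = true := by decide +kernel
theorem s10c807 : allBelow (fun k => fs10 (Nat.add (Nat.succ 247400) k)) 282 = true := by decide +kernel
theorem s10c808 : allBelow (fun k => fs10 (Nat.add (Nat.succ 247682) k)) 276 = true := by decide +kernel
theorem s10c809 : allBelow (fun k => fs10 (Nat.add (Nat.succ 247958) k)) 278 = true := by decide +kernel
theorem s10c810 : allBelow (fun k => fs10 (Nat.add (Nat.succ 248236) k)) 286 = true := by decide +kernel
theorem s10c811 : allBelow (fun k => fs10 (Nat.add (Nat.succ 248522) k)) 257 = true := by decide +kernel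
theorem s10c812 : allBelow (fun k => fs10 (Nat.add (Nat.succ 248779) k)) 275 = true := by decide +kernel
theorem s10c813 : allBelow (fun k => fs10 (Nat.add (Nat.succ 249054) k)) 275 = true := by decide +kernel
theorem s10c814 : allBelow (fun k => fs10 (Nat.add (Nat.succ 249329) k)) 278 = true := by decide +kernel
theorem s10c815 : allBelow (fun k => fs10 (Nat.add (Nat.succ 249607) k)) 279 = true := by decide +kernel
theorem s10c816 : allBelow (fun k => fs10 (Nat.add (Nat.succ 249886) k)) 282 = true := by decide +kernel
theorem s10c817 : allBelow (fun k => fs10 (Nat.add (Nat.succ 250168) k)) 287 = true := by decide +kernel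
theorem s10c818 : allBelow (fun k => fs10 (Nat.add (Nat.succ 250455) k)) 290 = true := by decide +kernel
theorem s10c819 : allBelow (fun k => fs10 (Nat.add (Nat.succ 250745) k)) 274 = true := by decide +kernel
theorem s10c820 : allBelow (fun k => fs10 (Nat.add (Nat.succ 251019) k)) 267 = true := by decide +kernel
theorem s10c821 : allBelow (fun k => fs10 (Nat.add (Nat.succ 251286) k)) 278 = true := by decide +kernel
theorem s10c822 : allBelow (fun k => fs10 (Nat.add (Nat.succ 251564) k)) 280 = true := by decide +kernel
theorem s10c823 : allBelow (fun k => fs10 (Nat.add (Nat.succ 251844) k)) 287 = true := by decide +kernel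
theorem s10c824 : allBelow (fun k => fs10 (Nat.add (Nat.succ 252131) k)) 293 = true := by decide +kernel
theorem s10c825 : allBelow (fun k => fs10 (Nat.add (Nat.succ 252424) k)) 286 = true := by decide +kernel
theorem s10c826 : allBelow (fun k => fs10 (Nat.add (Nat.succ 252710) k)) 269 = true := by decide +kernel
theorem s10c827 : allBelow (fun k => fs10 (Nat.add (Nat.succ 252979) k)) 279 = true := by decide +kernel
theorem s10c828 : allBelow (fun k => fs10 (Nat.add (Nat.succ 253258) k)) 270 = true := by decide +kernel
theorem s10c829 : allBelow (fun k => fs10 (Nat.add (Nat.succ 253528) k)) 278 = true := by decide +kernel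
theorem s10c830 : allBelow (fun k => fs10 (Nat.add (Nat.succ 253806) k)) 292 = true := by decide +kernel
theorem s10c831 : allBelow (fun k => fs10 (Nat.add (Nat.succ 254098) k)) 285 = true := by decide +kernel
theorem s10c832 : allBelow (fun k => fs10 (Nat.add (Nat.succ 254383) k)) 270 = true := by decide +kernel
theorem s10c833 : allBelow (fun k => fs10 (Nat.add (Nat.succ 254653) k)) 269 = true := by decide +kernel
theorem s10c834 : allBelow (fun k => fs10 (Nat.add (Nat.succ 254922) k)) 277 = true := by decide +kernel
theorem s10c835 : allBelow (fun k => fs10 (Nat.add (Nat.succ 255199) k)) 288 = true := by decide +kernel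
theorem s10c836 : allBelow (fun k => fs10 (Nat.add (Nat.succ 255487) k)) 283 = true := by decide +kernel
theorem s10c837 : allBelow (fun k => fs10 (Nat.add (Nat.succ 255770) k)) 282 = true := by decide +kernel
theorem s10c838 : allBelow (fun k => fs10 (Nat.add (Nat.succ 256052) k)) 275 = true := by decide +kernel
theorem s10c839 : allBelow (fun k => fs10 (Nat.add (Nat.succ 256327) k)) 295 = true := by decide +kernel
theorem s10c840 : allBelow (fun k => fs10 (Nat.add (Nat.succ 256622) k)) 250 = true := by decide +kernel
theorem s10c841 : allBelow (fun k => fs10 (Nat.add (Nat.succ 256872) k)) 252 = true := by decide +kernel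
theorem s10c842 : allBelow (fun k => fs10 (Nat.add (Nat.succ 257124) k)) 273 = true := by decide +kernel
theorem s10c843 : allBelow (fun k => fs10 (Nat.add (Nat.succ 257397) k)) 282 = true := by decide +kernel
theorem s10c844 : allBelow (fun k => fs10 (Nat.add (Nat.succ 257679) k)) 274 = true := by decide +kernel
theorem s10c845 : allBelow (fun k => fs10 (Nat.add (Nat.succ 257953) k)) 272 = true := by decide +kernel
theorem s10c846 : allBelow (fun k => fs10 (Nat.add (Nat.succ 258225) k)) 279 = true := by decide +kernel
theorem s10c847 : allBelow (fun k => fs10 (Nat.add (Nat.succ 258504) k)) 270 = true := by decide +kernel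
theorem s10c848 : allBelow (fun k => fs10 (Nat.add (Nat.succ 258774) k)) 272 = true := by decide +kernel
theorem s10c849 : allBelow (fun k => fs10 (Nat.add (Nat.succ 259046) k)) 282 = true := by decide +kernel
theorem s10c850 : allBelow (fun k => fs10 (Nat.add (Nat.succ 259328) k)) 277 = true := by decide +kernel
theorem s10c851 : allBelow (fun k => fs10 (Nat.add (Nat.succ 259605) k)) 276 = true := by decide +kernel
theorem s10c852 : allBelow (fun k => fs10 (Nat.add (Nat.succ 259881) k)) 282 = true := by decide +kernel
theorem s10c853 : allBelow (fun k => fs10 (Nat.add (Nat.succ 260163) k)) 291 = true := by decide +kernel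
theorem s10c854 : allBelow (fun k => fs10 (Nat.add (Nat.succ 260454) k)) 281 = true := by decide +kernel
theorem s10c855 : allBelow (fun k => fs10 (Nat.add (Nat.succ 260735) k)) 297 = true := by decide +kernel
theorem s10c856 : allBelow (fun k => fs10 (Nat.add (Nat.succ 261032) k)) 280 = true := by decide +kernel
theorem s10c857 : allBelow (fun k => fs10 (Nat.add (Nat.succ 261312) k)) 268 = true := by decide +kernel
theorem s10c858 : allBelow (fun k => fs10 (Nat.add (Nat.succ 261580) k)) 282 = true := by decide +kernel
theorem s10c859 : allBelow (fun k => fs10 (Nat.add (Nat.succ 261862) k)) 274 = true := by decide +kernel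
theorem s10c860 : allBelow (fun k => fs10 (Nat.add (Nat.succ 262136) k)) 277 = true := by decide +kernel
theorem s10c861 : allBelow (fun k => fs10 (Nat.add (Nat.succ 262413) k)) 287 = true := by decide +kernel
theorem s10c862 : allBelow (fun k => fs10 (Nat.add (Nat.succ 262700) k)) 293 = true := by decide +kernel
theorem s10c863 : allBelow (fun k => fs10 (Nat.add (Nat.succ 262993) k)) 297 = true := by decide +kernel
theorem s10c864 : allBelow (fun k => fs10 (Nat.add (Nat.succ 263290) k)) 295 = true := by decide +kernel
theorem s10c865 : allBelow (fun k => fs10 (Nat.add (Nat.succ 263585) k)) 288 = true := by decide +kernel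
theorem s10c866 : allBelow (fun k => fs10 (Nat.add (Nat.succ 263873) k)) 273 = true := by decide +kernel
theorem s10c867 : allBelow (fun k => fs10 (Nat.add (Nat.succ 264146) k)) 278 = true := by decide +kernel
theorem s10c868 : allBelow (fun k => fs10 (Nat.add (Nat.succ 264424) k)) 292 = true := by decide +kernel
theorem s10c869 : allBelow (fun k => fs10 (Nat.add (Nat.succ 264716) k)) 283 = true := by decide +kernel
theorem s10c870 : allBelow (fun k => fs10 (Nat.add (Nat.succ 264999) k)) 278 = true := by decide +kernel
theorem s10c871 : allBelow (fun k => fs10 (Nat.add (Nat.succ 265277) k)) 280 = true := by decide +kernel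
theorem s10c872 : allBelow (fun k => fs10 (Nat.add (Nat.succ 265557) k)) 306 = true := by decide +kernel
theorem s10c873 : allBelow (fun k => fs10 (Nat.add (Nat.succ 265863) k)) 289 = true := by decide +kernel
theorem s10c874 : allBelow (fun k => fs10 (Nat.add (Nat.succ 266152) k)) 294 = true := by decide +kernel
theorem s10c875 : allBelow (fun k => fs10 (Nat.add (Nat.succ 266446) k)) 281 = true := by decide +kernel
theorem s10c876 : allBelow (fun k => fs10 (Nat.add (Nat.succ 266727) k)) 295 = true := by decide +kernel
theorem s10c877 : allBelow (fun k => fs10 (Nat.add (Nat.succ 267022) k)) 289 = true := by decide +kernel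
theorem s10c878 : allBelow (fun k => fs10 (Nat.add (Nat.succ 267311) k)) 287 = true := by decide +kernel
theorem s10c879 : allBelow (fun k => fs10 (Nat.add (Nat.succ 267598) k)) 276 = true := by decide +kernel
theorem s10c880 : allBelow (fun k => fs10 (Nat.add (Nat.succ 267874) k)) 276 = true := by decide +kernel
theorem s10c881 : allBelow (fun k => fs10 (Nat.add (Nat.succ 268150) k)) 288 = true := by decide +kernel
theorem s10c882 : allBelow (fun k => fs10 (Nat.add (Nat.succ 268438) k)) 281 = true := by decide +kernel
theorem s10c883 : allBelow (fun k => fs10 (Nat.add (Nat.succ 268719) k)) 276 = true := by decide +kernel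
theorem s10c884 : allBelow (fun k => fs10 (Nat.add (Nat.succ 268995) k)) 284 = true := by decide +kernel
theorem s10c885 : allBelow (fun k => fs10 (Nat.add (Nat.succ 269279) k)) 290 = true := by decide +kernel
theorem s10c886 : allBelow (fun k => fs10 (Nat.add (Nat.succ 269569) k)) 269 = true := by decide +kernel
theorem s10c887 : allBelow (fun k => fs10 (Nat.add (Nat.succ 269838) k)) 283 = true := by decide +kernel
theorem s10c888 : allBelow (fun k => fs10 (Nat.add (Nat.succ 270121) k)) 280 = true := by decide +kernel
theorem s10c889 : allBelow (fun k => fs10 (Nat.add (Nat.succ 270401) k)) 273 = true := by decide +kernel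
theorem s10c890 : allBelow (fun k => fs10 (Nat.add (Nat.succ 270674) k)) 273 = true := by decide +kernel
theorem s10c891 : allBelow (fun k => fs10 (Nat.add (Nat.succ 270947) k)) 279 = true := by decide +kernel
theorem s10c892 : allBelow (fun k => fs10 (Nat.add (Nat.succ 271226) k)) 263 = true := by decide +kernel
theorem s10c893 : allBelow (fun k => fs10 (Nat.add (Nat.succ 271489) k)) 272 = true := by decide +kernel
theorem s10c894 : allBelow (fun k => fs10 (Nat.add (Nat.succ 271761) k)) 260 = true := by decide +kernel
theorem s10c895 : allBelow (fun k => fs10 (Nat.add (Nat.succ 272021) k)) 271 = true := by decide +kernel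
theorem s10c896 : allBelow (fun k => fs10 (Nat.add (Nat.succ 272292) k)) 271 = true := by decide +kernel
theorem s10c897 : allBelow (fun k => fs10 (Nat.add (Nat.succ 272563) k)) 275 = true := by decide +kernel
theorem s10c898 : allBelow (fun k => fs10 (Nat.add (Nat.succ 272838) k)) 272 = true := by decide +kernel
theorem s10c899 : allBelow (fun k => fs10 (Nat.add (Nat.succ 273110) k)) 267 = true := by decide +kernel
theorem s10c900 : allBelow (fun k => fs10 (Nat.add (Nat.succ 273377) k)) 270 = true := by decide +kernel
theorem s10c901 : allBelow (fun k => fs10 (Nat.add (Nat.succ 273647) k)) 270 = true := by decide +kernel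
theorem s10c902 : allBelow (fun k => fs10 (Nat.add (Nat.succ 273917) k)) 252 = true := by decide +kernel
theorem s10c903 : allBelow (fun k => fs10 (Nat.add (Nat.succ 274169) k)) 266 = true := by decide +kernel
theorem s10c904 : allBelow (fun k => fs10 (Nat.add (Nat.succ 274435) k)) 269 = true := by decide +kernel
theorem s10c905 : allBelow (fun k => fs10 (Nat.add (Nat.succ 274704) k)) 270 = true := by decide +kernel
theorem s10c906 : allBelow (fun k => fs10 (Nat.add (Nat.succ 274974) k)) 273 = true := by decide +kernel
theorem s10c907 : allBelow (fun k => fs10 (Nat.add (Nat.succ 275247) k)) 269 = true := by decide +kernel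
theorem s10c908 : allBelow (fun k => fs10 (Nat.add (Nat.succ 275516) k)) 282 = true := by decide +kernel
theorem s10c909 : allBelow (fun k => fs10 (Nat.add (Nat.succ 275798) k)) 262 = true := by decide +kernel
theorem s10c910 : allBelow (fun k => fs10 (Nat.add (Nat.succ 276060) k)) 285 = true := by decide +kernel
theorem s10c911 : allBelow (fun k => fs10 (Nat.add (Nat.succ 276345) k)) 268 = true := by decide +kernel
theorem s10c912 : allBelow (fun k => fs10 (Nat.add (Nat.succ 276613) k)) 253 = true := by decide +kernel
theorem s10c913 : allBelow (fun k => fs10 (Nat.add (Nat.succ 276866) k)) 266 = true := by decide +kernel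
theorem s10c914 : allBelow (fun k => fs10 (Nat.add (Nat.succ 277132) k)) 265 = true := by decide +kernel
theorem s10c915 : allBelow (fun k => fs10 (Nat.add (Nat.succ 277397) k)) 265 = true := by decide +kernel
theorem s10c916 : allBelow (fun k => fs10 (Nat.add (Nat.succ 277662) k)) 281 = true := by decide +kernel
theorem s10c917 : allBelow (fun k => fs10 (Nat.add (Nat.succ 277943) k)) 275 = true := by decide +kernel
theorem s10c918 : allBelow (fun k => fs10 (Nat.add (Nat.succ 278218) k)) 259 = true := by decide +kernel
theorem s10c919 : allBelow (fun k => fs10 (Nat.add (Nat.succ 278477) k)) 261 = true := by decide +kernel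
theorem s10c920 : allBelow (fun k => fs10 (Nat.add (Nat.succ 278738) k)) 265 = true := by decide +kernel
theorem s10c921 : allBelow (fun k => fs10 (Nat.add (Nat.succ 279003) k)) 271 = true := by decide +kernel
theorem s10c922 : allBelow (fun k => fs10 (Nat.add (Nat.succ 279274) k)) 272 = true := by decide +kernel
theorem s10c923 : allBelow (fun k => fs10 (Nat.add (Nat.succ 279546) k)) 278 = true := by decide +kernel
theorem s10c924 : allBelow (fun k => fs10 (Nat.add (Nat.succ 279824) k)) 274 = true := by decide +kernel
theorem s10c925 : allBelow (fun k => fs10 (Nat.add (Nat.succ 280098) k)) 258 = true := by decide +kernel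
theorem s10c926 : allBelow (fun k => fs10 (Nat.add (Nat.succ 280356) k)) 261 = true := by decide +kernel
theorem s10c927 : allBelow (fun k => fs10 (Nat.add (Nat.succ 280617) k)) 268 = true := by decide +kernel
theorem s10c928 : allBelow (fun k => fs10 (Nat.add (Nat.succ 280885) k)) 271 = true := by decide +kernel
theorem s10c929 : allBelow (fun k => fs10 (Nat.add (Nat.succ 281156) k)) 283 = true := by decide +kernel
theorem s10c930 : allBelow (fun k => fs10 (Nat.add (Nat.succ 281439) k)) 274 = true := by decide +kernel
theorem s10c931 : allBelow (fun k => fs10 (Nat.add (Nat.succ 281713) k)) 270 = true := by decide +kernel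
theorem s10c932 : allBelow (fun k => fs10 (Nat.add (Nat.succ 281983) k)) 286 = true := by decide +kernel
theorem s10c933 : allBelow (fun k => fs10 (Nat.add (Nat.succ 282269) k)) 252 = true := by decide +kernel
theorem s10c934 : allBelow (fun k => fs10 (Nat.add (Nat.succ 282521) k)) 255 = true := by decide +kernel
theorem s10c935 : allBelow (fun k => fs10 (Nat.add (Nat.succ 282776) k)) 279 = true := by decide +kernel
theorem s10c936 : allBelow (fun k => fs10 (Nat.add (Nat.succ 283055) k)) 271 = true := by decide +kernel
theorem s10c937 : allBelow (fun k => fs10 (Nat.add (Nat.succ 283326) k)) 271 = true := by decide +kernel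
theorem s10c938 : allBelow (fun k => fs10 (Nat.add (Nat.succ 283597) k)) 262 = true := by decide +kernel
theorem s10c939 : allBelow (fun k => fs10 (Nat.add (Nat.succ 283859) k)) 263 = true := by decide +kernel
theorem s10c940 : allBelow (fun k => fs10 (Nat.add (Nat.succ 284122) k)) 269 = true := by decide +kernel
theorem s10c941 : allBelow (fun k => fs10 (Nat.add (Nat.succ 284391) k)) 263 = true := by decide +kernel
theorem s10c942 : allBelow (fun k => fs10 (Nat.add (Nat.succ 284654) k)) 279 = true := by decide +kernel
theorem s10c943 : allBelow (fun k => fs10 (Nat.add (Nat.succ 284933) k)) 265 = true := by decide +kernel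
theorem s10c944 : allBelow (fun k => fs10 (Nat.add (Nat.succ 285198) k)) 273 = true := by decide +kernel
theorem s10c945 : allBelow (fun k => fs10 (Nat.add (Nat.succ 285471) k)) 276 = true := by decide +kernel
theorem s10c946 : allBelow (fun k => fs10 (Nat.add (Nat.succ 285747) k)) 282 = true := by decide +kernel
theorem s10c947 : allBelow (fun k => fs10 (Nat.add (Nat.succ 286029) k)) 276 = true := by decide +kernel
theorem s10c948 : allBelow (fun k => fs10 (Nat.add (Nat.succ 286305) k)) 287 = true := by decide +kernel
theorem s10c949 : allBelow (fun k => fs10 (Nat.add (Nat.succ 286592) k)) 277 = true := by decide +kernel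
theorem s10c950 : allBelow (fun k => fs10 (Nat.add (Nat.succ 286869) k)) 267 = true := by decide +kernel
theorem s10c951 : allBelow (fun k => fs10 (Nat.add (Nat.succ 287136) k)) 270 = true := by decide +kernel
theorem s10c952 : allBelow (fun k => fs10 (Nat.add (Nat.succ 287406) k)) 273 = true := by decide +kernel
theorem s10c953 : allBelow (fun k => fs10 (Nat.add (Nat.succ 287679) k)) 274 = true := by decide +kernel
theorem s10c954 : allBelow (fun k => fs10 (Nat.add (Nat.succ 287953) k)) 260 = true := by decide +kernel
theorem s10c955 : allBelow (fun k => fs10 (Nat.add (Nat.succ 288213) k)) 282 = true := by decide +kernel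
theorem s10c956 : allBelow (fun k => fs10 (Nat.add (Nat.succ 288495) k)) 278 = true := by decide +kernel
theorem s10c957 : allBelow (fun k => fs10 (Nat.add (Nat.succ 288773) k)) 285 = true := by decide +kernel
theorem s10c958 : allBelow (fun k => fs10 (Nat.add (Nat.succ 289058) k)) 281 = true := by decide +kernel
theorem s10c959 : allBelow (fun k => fs10 (Nat.add (Nat.succ 289339) k)) 273 = true := by decide +kernel
theorem s10c960 : allBelow (fun k => fs10 (Nat.add (Nat.succ 289612) k)) 267 = true := by decide +kernel
theorem s10c961 : allBelow (fun k => fs10 (Nat.add (Nat.succ 289879) k)) 265 = true := by decide +kernel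
theorem s10c962 : allBelow (fun k => fs10 (Nat.add (Nat.succ 290144) k)) 275 = true := by decide +kernel
theorem s10c963 : allBelow (fun k => fs10 (Nat.add (Nat.succ 290419) k)) 273 = true := by decide +kernel
theorem s10c964 : allBelow (fun k => fs10 (Nat.add (Nat.succ 290692) k)) 264 = true := by decide +kernel
theorem s10c965 : allBelow (fun k => fs10 (Nat.add (Nat.succ 290956) k)) 275 = true := by decide +kernel
theorem s10c966 : allBelow (fun k => fs10 (Nat.add (Nat.succ 291231) k)) 287 = true := by decide +kernel
theorem s10c967 : allBelow (fun k => fs10 (Nat.add (Nat.succ 291518) k)) 281 = true := by decide +kernel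
theorem s10c968 : allBelow (fun k => fs10 (Nat.add (Nat.succ 291799) k)) 286 = true := by decide +kernel
theorem s10c969 : allBelow (fun k => fs10 (Nat.add (Nat.succ 292085) k)) 274 = true := by decide +kernel
theorem s10c970 : allBelow (fun k => fs10 (Nat.add (Nat.succ 292359) k)) 282 = true := by decide +kernel
theorem s10c971 : allBelow (fun k => fs10 (Nat.add (Nat.succ 292641) k)) 275 = true := by decide +kernel
theorem s10c972 : allBelow (fun k => fs10 (Nat.add (Nat.succ 292916) k)) 272 = true := by decide +kernel
theorem s10c973 : allBelow (fun k => fs10 (Nat.add (Nat.succ 293188) k)) 269 = true := by decide +kernel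
theorem s10c974 : allBelow (fun k => fs10 (Nat.add (Nat.succ 293457) k)) 277 = true := by decide +kernel
theorem s10c975 : allBelow (fun k => fs10 (Nat.add (Nat.succ 293734) k)) 276 = true := by decide +kernel
theorem s10c976 : allBelow (fun k => fs10 (Nat.add (Nat.succ 294010) k)) 267 = true := by decide +kernel
theorem s10c977 : allBelow (fun k => fs10 (Nat.add (Nat.succ 294277) k)) 275 = true := by decide +kernel
theorem s10c978 : allBelow (fun k => fs10 (Nat.add (Nat.succ 294552) k)) 276 = true := by decide +kernel
theorem s10c979 : allBelow (fun k => fs10 (Nat.add (Nat.succ 294828) k)) 267 = true := by decide +kernel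
theorem s10c980 : allBelow (fun k => fs10 (Nat.add (Nat.succ 295095) k)) 278 = true := by decide +kernel
theorem s10c981 : allBelow (fun k => fs10 (Nat.add (Nat.succ 295373) k)) 267 = true := by decide +kernel
theorem s10c982 : allBelow (fun k => fs10 (Nat.add (Nat.succ 295640) k)) 267 = true := by decide +kernel
theorem s10c983 : allBelow (fun k => fs10 (Nat.add (Nat.succ 295907) k)) 274 = true := by decide +kernel
theorem s10c984 : allBelow (fun k => fs10 (Nat.add (Nat.succ 296181) k)) 253 = true := by decide +kernel
theorem s10c985 : allBelow (fun k => fs10 (Nat.add (Nat.succ 296434) k)) 266 = true := by decide +kernel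
theorem s10c986 : allBelow (fun k => fs10 (Nat.add (Nat.succ 296700) k)) 260 = true := by decide +kernel
theorem s10c987 : allBelow (fun k => fs10 (Nat.add (Nat.succ 296960) k)) 263 = true := by decide +kernel
theorem s10c988 : allBelow (fun k => fs10 (Nat.add (Nat.succ 297223) k)) 270 = true := by decide +kernel
theorem s10c989 : allBelow (fun k => fs10 (Nat.add (Nat.succ 297493) k)) 254 = true := by decide +kernel
theorem s10c990 : allBelow (fun k => fs10 (Nat.add (Nat.succ 297747) k)) 268 = true := by decide +kernel
theorem s10c991 : allBelow (fun k => fs10 (Nat.add (Nat.succ 298015) k)) 264 = true := by decide +kernel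
theorem s10c992 : allBelow (fun k => fs10 (Nat.add (Nat.succ 298279) k)) 262 = true := by decide +kernel
theorem s10c993 : allBelow (fun k => fs10 (Nat.add (Nat.succ 298541) k)) 258 = true := by decide +kernel
theorem s10c994 : allBelow (fun k => fs10 (Nat.add (Nat.succ 298799) k)) 264 = true := by decide +kernel
theorem s10c995 : allBelow (fun k => fs10 (Nat.add (Nat.succ 299063) k)) 247 = true := by decide +kernel
theorem s10c996 : allBelow (fun k => fs10 (Nat.add (Nat.succ 299310) k)) 254 = true := by decide +kernel
theorem s10c997 : allBelow (fun k => fs10 (Nat.add (Nat.succ 299564) k)) 258 = true := by decide +kernel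
theorem s10c998 : allBelow (fun k => fs10 (Nat.add (Nat.succ 299822) k)) 251 = true := by decide +kernel
theorem s10c999 : allBelow (fun k => fs10 (Nat.add (Nat.succ 300073) k)) 261 = true := by decide +kernel
theorem s10c1000 : allBelow (fun k => fs10 (Nat.add (Nat.succ 300334) k)) 265 = true := by decide +kernel
theorem s10c1001 : allBelow (fun k => fs10 (Nat.add (Nat.succ 300599) k)) 276 = true := by decide +kernel
theorem s10c1002 : allBelow (fun k => fs10 (Nat.add (Nat.succ 300875) k)) 257 = true := by decide +kernel
theorem s10c1003 : allBelow (fun k => fs10 (Nat.add (Nat.succ 301132) k)) 268 = true := by decide +kernel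
theorem s10c1004 : allBelow (fun k => fs10 (Nat.add (Nat.succ 301400) k)) 261 = true := by decide +kernel
theorem s10c1005 : allBelow (fun k => fs10 (Nat.add (Nat.succ 301661) k)) 264 = true := by decide +kernel
theorem s10c1006 : allBelow (fun k => fs10 (Nat.add (Nat.succ 301925) k)) 250 = true := by decide +kernel
theorem s10c1007 : allBelow (fun k => fs10 (Nat.add (Nat.succ 302175) k)) 260 = true := by decide +kernel
theorem s10c1008 : allBelow (fun k => fs10 (Nat.add (Nat.succ 302435) k)) 268 = true := by decide +kernel
theorem s10c1009 : allBelow (fun k => fs10 (Nat.add (Nat.succ 302703) k)) 265 = true := by decide +kernel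
theorem s10c1010 : allBelow (fun k => fs10 (Nat.add (Nat.succ 302968) k)) 260 = true := by decide +kernel
theorem s10c1011 : allBelow (fun k => fs10 (Nat.add (Nat.succ 303228) k)) 251 = true := by decide +kernel
theorem s10c1012 : allBelow (fun k => fs10 (Nat.add (Nat.succ 303479) k)) 252 = true := by decide +kernel
theorem s10c1013 : allBelow (fun k => fs10 (Nat.add (Nat.succ 303731) k)) 256 = true := by decide +kernel
theorem s10c1014 : allBelow (fun k => fs10 (Nat.add (Nat.succ 303987) k)) 266 = true := by decide +kernel
theorem s10c1015 : allBelow (fun k => fs10 (Nat.add (Nat.succ 304253) k)) 270 = true := by decide +kernel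
theorem s10c1016 : allBelow (fun k => fs10 (Nat.add (Nat.succ 304523) k)) 252 = true := by decide +kernel
theorem s10c1017 : allBelow (fun k => fs10 (Nat.add (Nat.succ 304775) k)) 255 = true := by decide +kernel
theorem s10c1018 : allBelow (fun k => fs10 (Nat.add (Nat.succ 305030) k)) 257 = true := by decide +kernel
theorem s10c1019 : allBelow (fun k => fs10 (Nat.add (Nat.succ 305287) k)) 267 = true := by decide +kernel
theorem s10c1020 : allBelow (fun k => fs10 (Nat.add (Nat.succ 305554) k)) 256 = true := by decide +kernel
theorem s10c1021 : allBelow (fun k => fs10 (Nat.add (Nat.succ 305810) k)) 281 = true := by decide +kernel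
theorem s10c1022 : allBelow (fun k => fs10 (Nat.add (Nat.succ 306091) k)) 262 = true := by decide +kernel
theorem s10c1023 : allBelow (fun k => fs10 (Nat.add (Nat.succ 306353) k)) 261 = true := by decide +kernel
theorem s10c1024 : allBelow (fun k => fs10 (Nat.add (Nat.succ 306614) k)) 268 = true := by decide +kernel
theorem s10c1025 : allBelow (fun k => fs10 (Nat.add (Nat.succ 306882) k)) 254 = true := by decide +kernel
theorem s10c1026 : allBelow (fun k => fs10 (Nat.add (Nat.succ 307136) k)) 257 = true := by decide +kernel
theorem s10c1027 : allBelow (fun k => fs10 (Nat.add (Nat.succ 307393) k)) 272 = true := by decide +kernel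
theorem s10c1028 : allBelow (fun k => fs10 (Nat.add (Nat.succ 307665) k)) 267 = true := by decide +kernel
theorem s10c1029 : allBelow (fun k => fs10 (Nat.add (Nat.succ 307932) k)) 260 = true := by decide +kernel
theorem s10c1030 : allBelow (fun k => fs10 (Nat.add (Nat.succ 308192) k)) 261 = true := by decide +kernel
theorem s10c1031 : allBelow (fun k => fs10 (Nat.add (Nat.succ 308453) k)) 264 = true := by decide +kernel
theorem s10c1032 : allBelow (fun k => fs10 (Nat.add (Nat.succ 308717) k)) 260 = true := by decide +kernel
theorem s10c1033 : allBelow (fun k => fs10 (Nat.add (Nat.succ 308977) k)) 271 = true := by decide +kernel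
theorem s10c1034 : allBelow (fun k => fs10 (Nat.add (Nat.succ 309248) k)) 259 = true := by decide +kernel
theorem s10c1035 : allBelow (fun k => fs10 (Nat.add (Nat.succ 309507) k)) 255 = true := by decide +kernel
theorem s10c1036 : allBelow (fun k => fs10 (Nat.add (Nat.succ 309762) k)) 269 = true := by decide +kernel
theorem s10c1037 : allBelow (fun k => fs10 (Nat.add (Nat.succ 310031) k)) 275 = true := by decide +kernel
theorem s10c1038 : allBelow (fun k => fs10 (Nat.add (Nat.succ 310306) k)) 275 = true := by decide +kernel
theorem s10c1039 : allBelow (fun k => fs10 (Nat.add (Nat.succ 310581) k)) 266 = true := by decide +kernel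
theorem s10c1040 : allBelow (fun k => fs10 (Nat.add (Nat.succ 310847) k)) 260 = true := by decide +kernel
theorem s10c1041 : allBelow (fun k => fs10 (Nat.add (Nat.succ 311107) k)) 270 = true := by decide +kernel
theorem s10c1042 : allBelow (fun k => fs10 (Nat.add (Nat.succ 311377) k)) 266 = true := by decide +kernel
theorem s10c1043 : allBelow (fun k => fs10 (Nat.add (Nat.succ 311643) k)) 268 = true := by decide +kernel
theorem s10c1044 : allBelow (fun k => fs10 (Nat.add (Nat.succ 311911) k)) 246 = true := by decide +kernel
theorem s10c1045 : allBelow (fun k => fs10 (Nat.add (Nat.succ 312157) k)) 260 = true := by decide +kernel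
theorem s10c1046 : allBelow (fun k => fs10 (Nat.add (Nat.succ 312417) k)) 272 = true := by decide +kernel
theorem s10c1047 : allBelow (fun k => fs10 (Nat.add (Nat.succ 312689) k)) 269 = true := by decide +kernel
theorem s10c1048 : allBelow (fun k => fs10 (Nat.add (Nat.succ 312958) k)) 257 = true := by decide +kernel
theorem s10c1049 : allBelow (fun k => fs10 (Nat.add (Nat.succ 313215) k)) 255 = true := by decide +kernel
theorem s10c1050 : allBelow (fun k => fs10 (Nat.add (Nat.succ 313470) k)) 260 = true := by decide +kernel
theorem s10c1051 : allBelow (fun k => fs10 (Nat.add (Nat.succ 313730) k)) 269 = true := by decide +kernel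
theorem s10c1052 : allBelow (fun k => fs10 (Nat.add (Nat.succ 313999) k)) 254 = true := by decide +kernel
theorem s10c1053 : allBelow (fun k => fs10 (Nat.add (Nat.succ 314253) k)) 263 = true := by decide +kernel
theorem s10c1054 : allBelow (fun k => fs10 (Nat.add (Nat.succ 314516) k)) 287 = true := by decide +kernel
theorem s10c1055 : allBelow (fun k => fs10 (Nat.add (Nat.succ 314803) k)) 274 = true := by decide +kernel
theorem s10c1056 : allBelow (fun k => fs10 (Nat.add (Nat.succ 315077) k)) 267 = true := by decide +kernel
theorem s10c1057 : allBelow (fun k => fs10 (Nat.add (Nat.succ 315344) k)) 269 = true := by decide +kernel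
theorem s10c1058 : allBelow (fun k => fs10 (Nat.add (Nat.succ 315613) k)) 264 = true := by decide +kernel
theorem s10c1059 : allBelow (fun k => fs10 (Nat.add (Nat.succ 315877) k)) 260 = true := by decide +kernel
theorem s10c1060 : allBelow (fun k => fs10 (Nat.add (Nat.succ 316137) k)) 263 = true := by decide +kernel
theorem s10c1061 : allBelow (fun k => fs10 (Nat.add (Nat.succ 316400) k)) 270 = true := by decide +kernel
theorem s10c1062 : allBelow (fun k => fs10 (Nat.add (Nat.succ 316670) k)) 259 = true := by decide +kernel
theorem s10c1063 : allBelow (fun k => fs10 (Nat.add (Nat.succ 316929) k)) 270 = true := by decide +kernel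
theorem s10c1064 : allBelow (fun k => fs10 (Nat.add (Nat.succ 317199) k)) 264 = true := by decide +kernel
theorem s10c1065 : allBelow (fun k => fs10 (Nat.add (Nat.succ 317463) k)) 265 = true := by decide +kernel
theorem s10c1066 : allBelow (fun k => fs10 (Nat.add (Nat.succ 317728) k)) 267 = true := by decide +kernel
theorem s10c1067 : allBelow (fun k => fs10 (Nat.add (Nat.succ 317995) k)) 269 = true := by decide +kernel
theorem s10c1068 : allBelow (fun k => fs10 (Nat.add (Nat.succ 318264) k)) 268 = true := by decide +kernel
theorem s10c1069 : allBelow (fun k => fs10 (Nat.add (Nat.succ 318532) k)) 249 = true := by decide +kernel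
theorem s10c1070 : allBelow (fun k => fs10 (Nat.add (Nat.succ 318781) k)) 268 = true := by decide +kernel
theorem s10c1071 : allBelow (fun k => fs10 (Nat.add (Nat.succ 319049) k)) 263 = true := by decide +kernel
theorem s10c1072 : allBelow (fun k => fs10 (Nat.add (Nat.succ 319312) k)) 265 = true := by decide +kernel
theorem s10c1073 : allBelow (fun k => fs10 (Nat.add (Nat.succ 319577) k)) 260 = true := by decide +kernel
theorem s10c1074 : allBelow (fun k => fs10 (Nat.add (Nat.succ 319837) k)) 258 = true := by decide +kernel
theorem s10c1075 : allBelow (fun k => fs10 (Nat.add (Nat.succ 320095) k)) 253 = true := by decide +kernel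
theorem s10c1076 : allBelow (fun k => fs10 (Nat.add (Nat.succ 320348) k)) 245 = true := by decide +kernel
theorem s10c1077 : allBelow (fun k => fs10 (Nat.add (Nat.succ 320593) k)) 256 = true := by decide +kernel
theorem s10c1078 : allBelow (fun k => fs10 (Nat.add (Nat.succ 320849) k)) 252 = true := by decide +kernel

end Cfsg.Agent.Lib.Helper35.Fi24a
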