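import Cfsg.Agent.Lib.Helper35.Fi24a.Data

set_option Elab.async false

namespace Cfsg.Agent.Lib.Helper35.Fi24a

open Cfsg.Agent.Lib.Helper35

theorem s11c173 : allBelow (fun k => fs11 (Nat.add (Nat.succ 56964) k)) 322 = true := by decide +kernel
theorem s11c174 : allBelow (fun k => fs11 (Nat.add (Nat.succ 57286) k)) 342 = true := by decide +kernel
theorem s11c175 : allBelow (fun k => fs11 (Nat.add (Nat.succ 57628) k)) 324 = true := by decide +kernel
theorem s11c176 : allBelow (fun k => fs11 (Nat.add (Nat.succ 57952) k)) 326 = true := by decide +kernel
theorem s11c177 : allBelow (fun k => fs11 (Nat.add (Nat.succ 58278) k)) 340 = true := by decide +kernel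
theorem s11c178 : allBelow (fun k => fs11 (Nat.add (Nat.succ 58618) k)) 377 = true := by decide +kernel
theorem s11c179 : allBelow (fun k => fs11 (Nat.add (Nat.succ 58995) k)) 367 = true := by decide +kernel
theorem s11c180 : allBelow (fun k => fs11 (Nat.add (Nat.succ 59362) k)) 379 = true := by decide +kernel
theorem s11c181 : allBelow (fun k => fs11 (Nat.add (Nat.succ 59741) k)) 377 = true := by decide +kernel
theorem s11c182 : allBelow (fun k => fs11 (Nat.add (Nat.succ 60118) k)) 315 = true := by decide +kernel
theorem s11c183 : allBelow (fun k => fs11 (Nat.add (Nat.succ 60433) k)) 352 = true := by decide +kernel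
theorem s11c184 : allBelow (fun k => fs11 (Nat.add (Nat.succ 60785) k)) 336 = true := by decide +kernel
theorem s11c185 : allBelow (fun k => fs11 (Nat.add (Nat.succ 61121) k)) 373 = true := by decide +kernel
theorem s11c186 : allBelow (fun k => fs11 (Nat.add (Nat.succ 61494) k)) 391 = true := by decide +kernel
theorem s11c187 : allBelow (fun k => fs11 (Nat.add (Nat.succ 61885) k)) 376 = true := by decide +kernel
theorem s11c188 : allBelow (fun k => fs11 (Nat.add (Nat.succ 62261) k)) 354 = true := by decide +kernel
theorem s11c189 : allBelow (fun k => fs11 (Nat.add (Nat.succ 62615) k)) 326 = true := by decide +kernel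
theorem s11c190 : allBelow (fun k => fs11 (Nat.add (Nat.succ 62941) k)) 355 = true := by decide +kernel
theorem s11c191 : allBelow (fun k => fs11 (Nat.add (Nat.succ 63296) k)) 328 = true := by decide +kernel
theorem s11c192 : allBelow (fun k => fs11 (Nat.add (Nat.succ 63624) k)) 343 = true := by decide +kernel
theorem s11c193 : allBelow (fun k => fs11 (Nat.add (Nat.succ 63967) k)) 344 = true := by decide +kernel
theorem s11c194 : allBelow (fun k => fs11 (Nat.add (Nat.succ 64311) k)) 318 = true := by decide +kernel
theorem s11c195 : allBelow (fun k => fs11 (Nat.add (Nat.succ 64629) k)) 326 = true := by decide +kernel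
theorem s11c196 : allBelow (fun k => fs11 (Nat.add (Nat.succ 64955) k)) 326 = true := by decide +kernel
theorem s11c197 : allBelow (fun k => fs11 (Nat.add (Nat.succ 65281) k)) 316 = true := by decide +kernel
theorem s11c198 : allBelow (fun k => fs11 (Nat.add (Nat.succ 65597) k)) 350 = true := by decide +kernel
theorem s11c199 : allBelow (fun k => fs11 (Nat.add (Nat.succ 65947) k)) 360 = true := by decide +kernel
theorem s11c200 : allBelow (fun k => fs11 (Nat.add (Nat.succ 66307) k)) 373 = true := by decide +kernel
theorem s11c201 : allBelow (fun k => fs11 (Nat.add (Nat.succ 66680) k)) 369 = true := by decide +kernel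
theorem s11c202 : allBelow (fun k => fs11 (Nat.add (Nat.succ 67049) k)) 391 = true := by decide +kernel
theorem s11c203 : allBelow (fun k => fs11 (Nat.add (Nat.succ 67440) k)) 395 = true := by decide +kernel
theorem s11c204 : allBelow (fun k => fs11 (Nat.add (Nat.succ 67835) k)) 366 = true := by decide +kernel
theorem s11c205 : allBelow (fun k => fs11 (Nat.add (Nat.succ 68201) k)) 313 = true := by decide +kernel
theorem s11c206 : allBelow (fun k => fs11 (Nat.add (Nat.succ 68514) k)) 339 = true := by decide +kernel
theorem s11c207 : allBelow (fun k => fs11 (Nat.add (Nat.succ 68853) k)) 327 = true := by decide +kernel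
theorem s11c208 : allBelow (fun k => fs11 (Nat.add (Nat.succ 69180) k)) 321 = true := by decide +kernel
theorem s11c209 : allBelow (fun k => fs11 (Nat.add (Nat.succ 69501) k)) 323 = true := by decide +kernel
theorem s11c210 : allBelow (fun k => fs11 (Nat.add (Nat.succ 69824) k)) 389 = true := by decide +kernel
theorem s11c211 : allBelow (fun k => fs11 (Nat.add (Nat.succ 70213) k)) 384 = true := by decide +kernel
theorem s11c212 : allBelow (fun k => fs11 (Nat.add (Nat.succ 70597) k)) 454 = true := by decide +kernel
theorem s11c213 : allBelow (fun k => fs11 (Nat.add (Nat.succ 71051) k)) 419 = true := by decide +kernel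
theorem s11c214 : allBelow (fun k => fs11 (Nat.add (Nat.succ 71470) k)) 311 = true := by decide +kernel
theorem s11c215 : allBelow (fun k => fs11 (Nat.add (Nat.succ 71781) k)) 356 = true := by decide +kernel
theorem s11c216 : allBelow (fun k => fs11 (Nat.add (Nat.succ 72137) k)) 334 = true := by decide +kernel
theorem s11c217 : allBelow (fun k => fs11 (Nat.add (Nat.succ 72471) k)) 353 = true := by decide +kernel
theorem s11c218 : allBelow (fun k => fs11 (Nat.add (Nat.succ 72824) k)) 377 = true := by decide +kernel
theorem s11c219 : allBelow (fun k => fs11 (Nat.add (Nat.succ 73201) k)) 393 = true := by decide +kernel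
theorem s11c220 : allBelow (fun k => fs11 (Nat.add (Nat.succ 73594) k)) 407 = true := by decide +kernel
theorem s11c221 : allBelow (fun k => fs11 (Nat.add (Nat.succ 74001) k)) 382 = true := by decide +kernel
theorem s11c222 : allBelow (fun k => fs11 (Nat.add (Nat.succ 74383) k)) 348 = true := by decide +kernel
theorem s11c223 : allBelow (fun k => fs11 (Nat.add (Nat.succ 74731) k)) 389 = true := by decide +kernel
theorem s11c224 : allBelow (fun k => fs11 (Nat.add (Nat.succ 75120) k)) 371 = true := by decide +kernel
theorem s11c225 : allBelow (fun k => fs11 (Nat.add (Nat.succ 75491) k)) 316 = true := by decide +kernel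
theorem s11c226 : allBelow (fun k => fs11 (Nat.add (Nat.succ 75807) k)) 327 = true := by decide +kernel
theorem s11c227 : allBelow (fun k => fs11 (Nat.add (Nat.succ 76134) k)) 310 = true := by decide +kernel
theorem s11c228 : allBelow (fun k => fs11 (Nat.add (Nat.succ 76444) k)) 329 = true := by decide +kernel
theorem s11c229 : allBelow (fun k => fs11 (Nat.add (Nat.succ 76773) k)) 351 = true := by decide +kernel
theorem s11c230 : allBelow (fun k => fs11 (Nat.add (Nat.succ 77124) k)) 328 = true := by decide +kernel
theorem s11c231 : allBelow (fun k => fs11 (Nat.add (Nat.succ 77452) k)) 327 = true := by decide +kernel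
theorem s11c232 : allBelow (fun k => fs11 (Nat.add (Nat.succ 77779) k)) 333 = true := by decide +kernel
theorem s11c233 : allBelow (fun k => fs11 (Nat.add (Nat.succ 78112) k)) 325 = true := by decide +kernel
theorem s11c234 : allBelow (fun k => fs11 (Nat.add (Nat.succ 78437) k)) 355 = true := by decide +kernel
theorem s11c235 : allBelow (fun k => fs11 (Nat.add (Nat.succ 78792) k)) 387 = true := by decide +kernel
theorem s11c236 : allBelow (fun k => fs11 (Nat.add (Nat.succ 79179) k)) 383 = true := by decide +kernel
theorem s11c237 : allBelow (fun k => fs11 (Nat.add (Nat.succ 79562) k)) 367 = true := by decide +kernel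
theorem s11c238 : allBelow (fun k => fs11 (Nat.add (Nat.succ 79929) k)) 393 = true := by decide +kernel
theorem s11c239 : allBelow (fun k => fs11 (Nat.add (Nat.succ 80322) k)) 339 = true := by decide +kernel
theorem s11c240 : allBelow (fun k => fs11 (Nat.add (Nat.succ 80661) k)) 319 = true := by decide +kernel
theorem s11c241 : allBelow (fun k => fs11 (Nat.add (Nat.succ 80980) k)) 356 = true := by decide +kernel
theorem s11c242 : allBelow (fun k => fs11 (Nat.add (Nat.succ 81336) k)) 320 = true := by decide +kernel
theorem s11c243 : allBelow (fun k => fs11 (Nat.add (Nat.succ 81656) k)) 345 = true := by decide +kernel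
theorem s11c244 : allBelow (fun k => fs11 (Nat.add (Nat.succ 82001) k)) 409 = true := by decide +kernel
theorem s11c245 : allBelow (fun k => fs11 (Nat.add (Nat.succ 82410) k)) 424 = true := by decide +kernel
theorem s11c246 : allBelow (fun k => fs11 (Nat.add (Nat.succ 82834) k)) 325 = true := by decide +kernel
theorem s11c247 : allBelow (fun k => fs11 (Nat.add (Nat.succ 83159) k)) 356 = true := by decide +kernel
theorem s11c248 : allBelow (fun k => fs11 (Nat.add (Nat.succ 83515) k)) 320 = true := by decide +kernel
theorem s11c249 : allBelow (fun k => fs11 (Nat.add (Nat.succ 83835) k)) 327 = true := by decide +kernel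
theorem s11c250 : allBelow (fun k => fs11 (Nat.add (Nat.succ 84162) k)) 343 = true := by decide +kernel
theorem s11c251 : allBelow (fun k => fs11 (Nat.add (Nat.succ 84505) k)) 326 = true := by decide +kernel
theorem s11c252 : allBelow (fun k => fs11 (Nat.add (Nat.succ 84831) k)) 336 = true := by decide +kernel
theorem s11c253 : allBelow (fun k => fs11 (Nat.add (Nat.succ 85167) k)) 345 = true := by decide +kernel
theorem s11c254 : allBelow (fun k => fs11 (Nat.add (Nat.succ 85512) k)) 334 = true := by decide +kernel
theorem s11c255 : allBelow (fun k => fs11 (Nat.add (Nat.succ 85846) k)) 317 = true := by decide +kernel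
theorem s11c256 : allBelow (fun k => fs11 (Nat.add (Nat.succ 86163) k)) 329 = true := by decide +kernel
theorem s11c257 : allBelow (fun k => fs11 (Nat.add (Nat.succ 86492) k)) 313 = true := by decide +kernel
theorem s11c258 : allBelow (fun k => fs11 (Nat.add (Nat.succ 86805) k)) 320 = true := by decide +kernel
theorem s11c259 : allBelow (fun k => fs11 (Nat.add (Nat.succ 87125) k)) 343 = true := by decide +kernel
theorem s11c260 : allBelow (fun k => fs11 (Nat.add (Nat.succ 87468) k)) 309 = true := by decide +kernel
theorem s11c261 : allBelow (fun k => fs11 (Nat.add (Nat.succ 87777) k)) 326 = true := by decide +kernel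
theorem s11c262 : allBelow (fun k => fs11 (Nat.add (Nat.succ 88103) k)) 377 = true := by decide +kernel
theorem s11c263 : allBelow (fun k => fs11 (Nat.add (Nat.succ 88480) k)) 370 = true := by decide +kernel
theorem s11c264 : allBelow (fun k => fs11 (Nat.add (Nat.succ 88850) k)) 378 = true := by decide +kernel
theorem s11c265 : allBelow (fun k => fs11 (Nat.add (Nat.succ 89228) k)) 370 = true := by decide +kernel
theorem s11c266 : allBelow (fun k => fs11 (Nat.add (Nat.succ 89598) k)) 377 = true := by decide +kernel
theorem s11c267 : allBelow (fun k => fs11 (Nat.add (Nat.succ 89975) k)) 390 = true := by decide +kernel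
theorem s11c268 : allBelow (fun k => fs11 (Nat.add (Nat.succ 90365) k)) 407 = true := by decide +kernel
theorem s11c269 : allBelow (fun k => fs11 (Nat.add (Nat.succ 90772) k)) 317 = true := by decide +kernel
theorem s11c270 : allBelow (fun k => fs11 (Nat.add (Nat.succ 91089) k)) 330 = true := by decide +kernel
theorem s11c271 : allBelow (fun k => fs11 (Nat.add (Nat.succ 91419) k)) 342 = true := by decide +kernel
theorem s11c272 : allBelow (fun k => fs11 (Nat.add (Nat.succ 91761) k)) 322 = true := by decide +kernel
theorem s11c273 : allBelow (fun k => fs11 (Nat.add (Nat.succ 92083) k)) 319 = true := by decide +kernel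
theorem s11c274 : allBelow (fun k => fs11 (Nat.add (Nat.succ 92402) k)) 310 = true := by decide +kernel
theorem s11c275 : allBelow (fun k => fs11 (Nat.add (Nat.succ 92712) k)) 362 = true := by decide +kernel
theorem s11c276 : allBelow (fun k => fs11 (Nat.add (Nat.succ 93074) k)) 391 = true := by decide +kernel
theorem s11c277 : allBelow (fun k => fs11 (Nat.add (Nat.succ 93465) k)) 457 = true := by decide +kernel
theorem s11c278 : allBelow (fun k => fs11 (Nat.add (Nat.succ 93922) k)) 440 = true := by decide +kernel
theorem s11c279 : allBelow (fun k => fs11 (Nat.add (Nat.succ 94362) k)) 326 = true := by decide +kernel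
theorem s11c280 : allBelow (fun k => fs11 (Nat.add (Nat.succ 94688) k)) 327 = true := by decide +kernel
theorem s11c281 : allBelow (fun k => fs11 (Nat.add (Nat.succ 95015) k)) 371 = true := by decide +kernel
theorem s11c282 : allBelow (fun k => fs11 (Nat.add (Nat.succ 95386) k)) 332 = true := by decide +kernel
theorem s11c283 : allBelow (fun k => fs11 (Nat.add (Nat.succ 95718) k)) 343 = true := by decide +kernel
theorem s11c284 : allBelow (fun k => fs11 (Nat.add (Nat.succ 96061) k)) 321 = true := by decide +kernel
theorem s11c285 : allBelow (fun k => fs11 (Nat.add (Nat.succ 96382) k)) 421 = true := by decide +kernel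
theorem s11c286 : allBelow (fun k => fs11 (Nat.add (Nat.succ 96803) k)) 383 = true := by decide +kernel
theorem s11c287 : allBelow (fun k => fs11 (Nat.add (Nat.succ 97186) k)) 408 = true := by decide +kernel
theorem s11c288 : allBelow (fun k => fs11 (Nat.add (Nat.succ 97594) k)) 380 = true := by decide +kernel
theorem s11c289 : allBelow (fun k => fs11 (Nat.add (Nat.succ 97974) k)) 330 = true := by decide +kernel
theorem s11c290 : allBelow (fun k => fs11 (Nat.add (Nat.succ 98304) k)) 433 = true := by decide +kernel
theorem s11c291 : allBelow (fun k => fs11 (Nat.add (Nat.succ 98737) k)) 349 = true := by decide +kernel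
theorem s11c292 : allBelow (fun k => fs11 (Nat.add (Nat.succ 99086) k)) 318 = true := by decide +kernel
theorem s11c293 : allBelow (fun k => fs11 (Nat.add (Nat.succ 99404) k)) 331 = true := by decide +kernel
theorem s11c294 : allBelow (fun k => fs11 (Nat.add (Nat.succ 99735) k)) 335 = true := by decide +kernel
theorem s11c295 : allBelow (fun k => fs11 (Nat.add (Nat.succ 100070) k)) 315 = true := by decide +kernel
theorem s11c296 : allBelow (fun k => fs11 (Nat.add (Nat.succ 100385) k)) 326 = true := by decide +kernel
theorem s11c297 : allBelow (fun k => fs11 (Nat.add (Nat.succ 100711) k)) 351 = true := by decide +kernel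
theorem s11c298 : allBelow (fun k => fs11 (Nat.add (Nat.succ 101062) k)) 363 = true := by decide +kernel
theorem s11c299 : allBelow (fun k => fs11 (Nat.add (Nat.succ 101425) k)) 318 = true := by decide +kernel
theorem s11c300 : allBelow (fun k => fs11 (Nat.add (Nat.succ 101743) k)) 322 = true := by decide +kernel
theorem s11c301 : allBelow (fun k => fs11 (Nat.add (Nat.succ 102065) k)) 338 = true := by decide +kernel
theorem s11c302 : allBelow (fun k => fs11 (Nat.add (Nat.succ 102403) k)) 338 = true := by decide +kernel
theorem s11c303 : allBelow (fun k => fs11 (Nat.add (Nat.succ 102741) k)) 315 = true := by decide +kernel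
theorem s11c304 : allBelow (fun k => fs11 (Nat.add (Nat.succ 103056) k)) 324 = true := by decide +kernel
theorem s11c305 : allBelow (fun k => fs11 (Nat.add (Nat.succ 103380) k)) 399 = true := by decide +kernel
theorem s11c306 : allBelow (fun k => fs11 (Nat.add (Nat.succ 103779) k)) 406 = true := by decide +kernel
theorem s11c307 : allBelow (fun k => fs11 (Nat.add (Nat.succ 104185) k)) 396 = true := by decide +kernel
theorem s11c308 : allBelow (fun k => fs11 (Nat.add (Nat.succ 104581) k)) 404 = true := by decide +kernel
theorem s11c309 : allBelow (fun k => fs11 (Nat.add (Nat.succ 104985) k)) 382 = true := by decide +kernel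
theorem s11c310 : allBelow (fun k => fs11 (Nat.add (Nat.succ 105367) k)) 333 = true := by decide +kernel
theorem s11c311 : allBelow (fun k => fs11 (Nat.add (Nat.succ 105700) k)) 367 = true := by decide +kernel
theorem s11c312 : allBelow (fun k => fs11 (Nat.add (Nat.succ 106067) k)) 318 = true := by decide +kernel
theorem s11c313 : allBelow (fun k => fs11 (Nat.add (Nat.succ 106385) k)) 324 = true := by decide +kernel
theorem s11c314 : allBelow (fun k => fs11 (Nat.add (Nat.succ 106709) k)) 406 = true := by decide +kernel
theorem s11c315 : allBelow (fun k => fs11 (Nat.add (Nat.succ 107115) k)) 462 = true := by decide +kernel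
theorem s11c316 : allBelow (fun k => fs11 (Nat.add (Nat.succ 107577) k)) 334 = true := by decide +kernel
theorem s11c317 : allBelow (fun k => fs11 (Nat.add (Nat.succ 107911) k)) 338 = true := by decide +kernel
theorem s11c318 : allBelow (fun k => fs11 (Nat.add (Nat.succ 108249) k)) 329 = true := by decide +kernel
theorem s11c319 : allBelow (fun k => fs11 (Nat.add (Nat.succ 108578) k)) 311 = true := by decide +kernel
theorem s11c320 : allBelow (fun k => fs11 (Nat.add (Nat.succ 108889) k)) 292 = true := by decide +kernel
theorem s11c321 : allBelow (fun k => fs11 (Nat.add (Nat.succ 109181) k)) 367 = true := by decide +kernel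
theorem s11c322 : allBelow (fun k => fs11 (Nat.add (Nat.succ 109548) k)) 338 = true := by decide +kernel
theorem s11c323 : allBelow (fun k => fs11 (Nat.add (Nat.succ 109886) k)) 321 = true := by decide +kernel
theorem s11c324 : allBelow (fun k => fs11 (Nat.add (Nat.succ 110207) k)) 323 = true := by decide +kernel
theorem s11c325 : allBelow (fun k => fs11 (Nat.add (Nat.succ 110530) k)) 345 = true := by decide +kernel
theorem s11c326 : allBelow (fun k => fs11 (Nat.add (Nat.succ 110875) k)) 334 = true := by decide +kernel
theorem s11c327 : allBelow (fun k => fs11 (Nat.add (Nat.succ 111209) k)) 335 = true := by decide +kernel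
theorem s11c328 : allBelow (fun k => fs11 (Nat.add (Nat.succ 111544) k)) 319 = true := by decide +kernel
theorem s11c329 : allBelow (fun k => fs11 (Nat.add (Nat.succ 111863) k)) 312 = true := by decide +kernel
theorem s11c330 : allBelow (fun k => fs11 (Nat.add (Nat.succ 112175) k)) 328 = true := by decide +kernel
theorem s11c331 : allBelow (fun k => fs11 (Nat.add (Nat.succ 112503) k)) 299 = true := by decide +kernel
theorem s11c332 : allBelow (fun k => fs11 (Nat.add (Nat.succ 112802) k)) 326 = true := by decide +kernel
theorem s11c333 : allBelow (fun k => fs11 (Nat.add (Nat.succ 113128) k)) 319 = true := by decide +kernel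
theorem s11c334 : allBelow (fun k => fs11 (Nat.add (Nat.succ 113447) k)) 346 = true := by decide +kernel
theorem s11c335 : allBelow (fun k => fs11 (Nat.add (Nat.succ 113793) k)) 305 = true := by decide +kernel
theorem s11c336 : allBelow (fun k => fs11 (Nat.add (Nat.succ 114098) k)) 310 = true := by decide +kernel
theorem s11c337 : allBelow (fun k => fs11 (Nat.add (Nat.succ 114408) k)) 334 = true := by decide +kernel
theorem s11c338 : allBelow (fun k => fs11 (Nat.add (Nat.succ 114742) k)) 369 = true := by decide +kernel
theorem s11c339 : allBelow (fun k => fs11 (Nat.add (Nat.succ 115111) k)) 374 = true := by decide +kernel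
theorem s11c340 : allBelow (fun k => fs11 (Nat.add (Nat.succ 115485) k)) 367 = true := by decide +kernel
theorem s11c341 : allBelow (fun k => fs11 (Nat.add (Nat.succ 115852) k)) 361 = true := by decide +kernel
theorem s11c342 : allBelow (fun k => fs11 (Nat.add (Nat.succ 116213) k)) 397 = true := by decide +kernel
theorem s11c343 : allBelow (fun k => fs11 (Nat.add (Nat.succ 116610) k)) 376 = true := by decide +kernel
theorem s11c344 : allBelow (fun k => fs11 (Nat.add (Nat.succ 116986) k)) 419 = true := by decide +kernel
theorem s11c345 : allBelow (fun k => fs11 (Nat.add (Nat.succ 117405) k)) 344 = true := by decide +kernel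
theorem s11c346 : allBelow (fun k => fs11 (Nat.add (Nat.succ 117749) k)) 377 = true := by decide +kernel
theorem s11c347 : allBelow (fun k => fs11 (Nat.add (Nat.succ 118126) k)) 350 = true := by decide +kernel
theorem s11c348 : allBelow (fun k => fs11 (Nat.add (Nat.succ 118476) k)) 316 = true := by decide +kernel
theorem s11c349 : allBelow (fun k => fs11 (Nat.add (Nat.succ 118792) k)) 309 = true := by decide +kernel
theorem s11c350 : allBelow (fun k => fs11 (Nat.add (Nat.succ 119101) k)) 299 = true := by decide +kernel
theorem s11c351 : allBelow (fun k => fs11 (Nat.add (Nat.succ 119400) k)) 335 = true := by decide +kernel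
theorem s11c352 : allBelow (fun k => fs11 (Nat.add (Nat.succ 119735) k)) 474 = true := by decide +kernel
theorem s11c353 : allBelow (fun k => fs11 (Nat.add (Nat.succ 120209) k)) 411 = true := by decide +kernel
theorem s11c354 : allBelow (fun k => fs11 (Nat.add (Nat.succ 120620) k)) 329 = true := by decide +kernel
theorem s11c355 : allBelow (fun k => fs11 (Nat.add (Nat.succ 120949) k)) 328 = true := by decide +kernel
theorem s11c356 : allBelow (fun k => fs11 (Nat.add (Nat.succ 121277) k)) 349 = true := by decide +kernel
theorem s11c357 : allBelow (fun k => fs11 (Nat.add (Nat.succ 121626) k)) 338 = true := by decide +kernel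
theorem s11c358 : allBelow (fun k => fs11 (Nat.add (Nat.succ 121964) k)) 329 = true := by decide +kernel
theorem s11c359 : allBelow (fun k => fs11 (Nat.add (Nat.succ 122293) k)) 337 = true := by decide +kernel
theorem s11c360 : allBelow (fun k => fs11 (Nat.add (Nat.succ 122630) k)) 323 = true := by decide +kernel
theorem s11c361 : allBelow (fun k => fs11 (Nat.add (Nat.succ 122953) k)) 405 = true := by decide +kernel
theorem s11c362 : allBelow (fun k => fs11 (Nat.add (Nat.succ 123358) k)) 412 = true := by decide +kernel
theorem s11c363 : allBelow (fun k => fs11 (Nat.add (Nat.succ 123770) k)) 395 = true := by decide +kernel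
theorem s11c364 : allBelow (fun k => fs11 (Nat.add (Nat.succ 124165) k)) 330 = true := by decide +kernel
theorem s11c365 : allBelow (fun k => fs11 (Nat.add (Nat.succ 124495) k)) 391 = true := by decide +kernel
theorem s11c366 : allBelow (fun k => fs11 (Nat.add (Nat.succ 124886) k)) 302 = true := by decide +kernel
theorem s11c367 : allBelow (fun k => fs11 (Nat.add (Nat.succ 125188) k)) 299 = true := by decide +kernel
theorem s11c368 : allBelow (fun k => fs11 (Nat.add (Nat.succ 125487) k)) 277 = true := by decide +kernel
theorem s11c369 : allBelow (fun k => fs11 (Nat.add (Nat.succ 125764) k)) 302 = true := by decide +kernel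
theorem s11c370 : allBelow (fun k => fs11 (Nat.add (Nat.succ 126066) k)) 307 = true := by decide +kernel
theorem s11c371 : allBelow (fun k => fs11 (Nat.add (Nat.succ 126373) k)) 309 = true := by decide +kernel
theorem s11c372 : allBelow (fun k => fs11 (Nat.add (Nat.succ 126682) k)) 299 = true := by decide +kernel
theorem s11c373 : allBelow (fun k => fs11 (Nat.add (Nat.succ 126981) k)) 315 = true := by decide +kernel
theorem s11c374 : allBelow (fun k => fs11 (Nat.add (Nat.succ 127296) k)) 306 = true := by decide +kernel
theorem s11c375 : allBelow (fun k => fs11 (Nat.add (Nat.succ 127602) k)) 325 = true := by decide +kernel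
theorem s11c376 : allBelow (fun k => fs11 (Nat.add (Nat.succ 127927) k)) 307 = true := by decide +kernel
theorem s11c377 : allBelow (fun k => fs11 (Nat.add (Nat.succ 128234) k)) 323 = true := by decide +kernel
theorem s11c378 : allBelow (fun k => fs11 (Nat.add (Nat.succ 128557) k)) 303 = true := by decide +kernel
theorem s11c379 : allBelow (fun k => fs11 (Nat.add (Nat.succ 128860) k)) 274 = true := by decide +kernel
theorem s11c380 : allBelow (fun k => fs11 (Nat.add (Nat.succ 129134) k)) 312 = true := by decide +kernel
theorem s11c381 : allBelow (fun k => fs11 (Nat.add (Nat.succ 129446) k)) 295 = true := by decide +kernel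
theorem s11c382 : allBelow (fun k => fs11 (Nat.add (Nat.succ 129741) k)) 273 = true := by decide +kernel
theorem s11c383 : allBelow (fun k => fs11 (Nat.add (Nat.succ 130014) k)) 277 = true := by decide +kernel
theorem s11c384 : allBelow (fun k => fs11 (Nat.add (Nat.succ 130291) k)) 298 = true := by decide +kernel
theorem s11c385 : allBelow (fun k => fs11 (Nat.add (Nat.succ 130589) k)) 294 = true := by decide +kernel
theorem s11c386 : allBelow (fun k => fs11 (Nat.add (Nat.succ 130883) k)) 287 = true := by decide +kernel
theorem s11c387 : allBelow (fun k => fs11 (Nat.add (Nat.succ 131170) k)) 308 = true := by decide +kernel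
theorem s11c388 : allBelow (fun k => fs11 (Nat.add (Nat.succ 131478) k)) 289 = true := by decide +kernel
theorem s11c389 : allBelow (fun k => fs11 (Nat.add (Nat.succ 131767) k)) 275 = true := by decide +kernel
theorem s11c390 : allBelow (fun k => fs11 (Nat.add (Nat.succ 132042) k)) 282 = true := by decide +kernel
theorem s11c391 : allBelow (fun k => fs11 (Nat.add (Nat.succ 132324) k)) 303 = true := by decide +kernel
theorem s11c392 : allBelow (fun k => fs11 (Nat.add (Nat.succ 132627) k)) 311 = true := by decide +kernel
theorem s11c393 : allBelow (fun k => fs11 (Nat.add (Nat.succ 132938) k)) 316 = true := by decide +kernel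
theorem s11c394 : allBelow (fun k => fs11 (Nat.add (Nat.succ 133254) k)) 296 = true := by decide +kernel
theorem s11c395 : allBelow (fun k => fs11 (Nat.add (Nat.succ 133550) k)) 313 = true := by decide +kernel
theorem s11c396 : allBelow (fun k => fs11 (Nat.add (Nat.succ 133863) k)) 321 = true := by decide +kernel
theorem s11c397 : allBelow (fun k => fs11 (Nat.add (Nat.succ 134184) k)) 308 = true := by decide +kernel
theorem s11c398 : allBelow (fun k => fs11 (Nat.add (Nat.succ 134492) k)) 313 = true := by decide +kernel
theorem s11c399 : allBelow (fun k => fs11 (Nat.add (Nat.succ 134805) k)) 313 = true := by decide +kernel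
theorem s11c400 : allBelow (fun k => fs11 (Nat.add (Nat.succ 135118) k)) 324 = true := by decide +kernel
theorem s11c401 : allBelow (fun k => fs11 (Nat.add (Nat.succ 135442) k)) 303 = true := by decide +kernel
theorem s11c402 : allBelow (fun k => fs11 (Nat.add (Nat.succ 135745) k)) 329 = true := by decide +kernel
theorem s11c403 : allBelow (fun k => fs11 (Nat.add (Nat.succ 136074) k)) 317 = true := by decide +kernel
theorem s11c404 : allBelow (fun k => fs11 (Nat.add (Nat.succ 136391) k)) 309 = true := by decide +kernel
theorem s11c405 : allBelow (fun k => fs11 (Nat.add (Nat.succ 136700) k)) 285 = true := by decide +kernel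
theorem s11c406 : allBelow (fun k => fs11 (Nat.add (Nat.succ 136985) k)) 274 = true := by decide +kernel
theorem s11c407 : allBelow (fun k => fs11 (Nat.add (Nat.succ 137259) k)) 298 = true := by decide +kernel
theorem s11c408 : allBelow (fun k => fs11 (Nat.add (Nat.succ 137557) k)) 325 = true := by decide +kernel
theorem s11c409 : allBelow (fun k => fs11 (Nat.add (Nat.succ 137882) k)) 291 = true := by decide +kernel
theorem s11c410 : allBelow (fun k => fs11 (Nat.add (Nat.succ 138173) k)) 279 = true := by decide +kernel
theorem s11c411 : allBelow (fun k => fs11 (Nat.add (Nat.succ 138452) k)) 293 = true := by decide +kernel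
theorem s11c412 : allBelow (fun k => fs11 (Nat.add (Nat.succ 138745) k)) 305 = true := by decide +kernel
theorem s11c413 : allBelow (fun k => fs11 (Nat.add (Nat.succ 139050) k)) 280 = true := by decide +kernel
theorem s11c414 : allBelow (fun k => fs11 (Nat.add (Nat.succ 139330) k)) 305 = true := by decide +kernel
theorem s11c415 : allBelow (fun k => fs11 (Nat.add (Nat.succ 139635) k)) 296 = true := by decide +kernel
theorem s11c416 : allBelow (fun k => fs11 (Nat.add (Nat.succ 139931) k)) 304 = true := by decide +kernel
theorem s11c417 : allBelow (fun k => fs11 (Nat.add (Nat.succ 140235) k)) 301 = true := by decide +kernel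
theorem s11c418 : allBelow (fun k => fs11 (Nat.add (Nat.succ 140536) k)) 295 = true := by decide +kernel
theorem s11c419 : allBelow (fun k => fs11 (Nat.add (Nat.succ 140831) k)) 263 = true := by decide +kernel
theorem s11c420 : allBelow (fun k => fs11 (Nat.add (Nat.succ 141094) k)) 302 = true := by decide +kernel
theorem s11c421 : allBelow (fun k => fs11 (Nat.add (Nat.succ 141396) k)) 300 = true := by decide +kernel
theorem s11c422 : allBelow (fun k => fs11 (Nat.add (Nat.succ 141696) k)) 289 = true := by decide +kernel
theorem s11c423 : allBelow (fun k => fs11 (Nat.add (Nat.succ 141985) k)) 271 = true := by decide +kernel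
theorem s11c424 : allBelow (fun k => fs11 (Nat.add (Nat.succ 142256) k)) 275 = true := by decide +kernel
theorem s11c425 : allBelow (fun k => fs11 (Nat.add (Nat.succ 142531) k)) 311 = true := by decide +kernel
theorem s11c426 : allBelow (fun k => fs11 (Nat.add (Nat.succ 142842) k)) 299 = true := by decide +kernel
theorem s11c427 : allBelow (fun k => fs11 (Nat.add (Nat.succ 143141) k)) 306 = true := by decide +kernel
theorem s11c428 : allBelow (fun k => fs11 (Nat.add (Nat.succ 143447) k)) 296 = true := by decide +kernel
theorem s11c429 : allBelow (fun k => fs11 (Nat.add (Nat.succ 143743) k)) 309 = true := by decide +kernel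
theorem s11c430 : allBelow (fun k => fs11 (Nat.add (Nat.succ 144052) k)) 301 = true := by decide +kernel
theorem s11c431 : allBelow (fun k => fs11 (Nat.add (Nat.succ 144353) k)) 310 = true := by decide +kernel
theorem s11c432 : allBelow (fun k => fs11 (Nat.add (Nat.succ 144663) k)) 311 = true := by decide +kernel
theorem s11c433 : allBelow (fun k => fs11 (Nat.add (Nat.succ 144974) k)) 322 = true := by decide +kernel
theorem s11c434 : allBelow (fun k => fs11 (Nat.add (Nat.succ 145296) k)) 308 = true := by decide +kernel
theorem s11c435 : allBelow (fun k => fs11 (Nat.add (Nat.succ 145604) k)) 309 = true := by decide +kernel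
theorem s11c436 : allBelow (fun k => fs11 (Nat.add (Nat.succ 145913) k)) 288 = true := by decide +kernel
theorem s11c437 : allBelow (fun k => fs11 (Nat.add (Nat.succ 146201) k)) 272 = true := by decide +kernel
theorem s11c438 : allBelow (fun k => fs11 (Nat.add (Nat.succ 146473) k)) 298 = true := by decide +kernel
theorem s11c439 : allBelow (fun k => fs11 (Nat.add (Nat.succ 146771) k)) 292 = true := by decide +kernel
theorem s11c440 : allBelow (fun k => fs11 (Nat.add (Nat.succ 147063) k)) 265 = true := by decide +kernel
theorem s11c441 : allBelow (fun k => fs11 (Nat.add (Nat.succ 147328) k)) 273 = true := by decide +kernel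
theorem s11c442 : allBelow (fun k => fs11 (Nat.add (Nat.succ 147601) k)) 294 = true := by decide +kernel
theorem s11c443 : allBelow (fun k => fs11 (Nat.add (Nat.succ 147895) k)) 278 = true := by decide +kernel
theorem s11c444 : allBelow (fun k => fs11 (Nat.add (Nat.succ 148173) k)) 301 = true := by decide +kernel
theorem s11c445 : allBelow (fun k => fs11 (Nat.add (Nat.succ 148474) k)) 308 = true := by decide +kernel
theorem s11c446 : allBelow (fun k => fs11 (Nat.add (Nat.succ 148782) k)) 287 = true := by decide +kernel
theorem s11c447 : allBelow (fun k => fs11 (Nat.add (Nat.succ 149069) k)) 276 = true := by decide +kernel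
theorem s11c448 : allBelow (fun k => fs11 (Nat.add (Nat.succ 149345) k)) 279 = true := by decide +kernel
theorem s11c449 : allBelow (fun k => fs11 (Nat.add (Nat.succ 149624) k)) 299 = true := by decide +kernel
theorem s11c450 : allBelow (fun k => fs11 (Nat.add (Nat.succ 149923) k)) 316 = true := by decide +kernel
theorem s11c451 : allBelow (fun k => fs11 (Nat.add (Nat.succ 150239) k)) 303 = true := by decide +kernel
theorem s11c452 : allBelow (fun k => fs11 (Nat.add (Nat.succ 150542) k)) 313 = true := by decide +kernel
theorem s11c453 : allBelow (fun k => fs11 (Nat.add (Nat.succ 150855) k)) 298 = true := by decide +kernel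
theorem s11c454 : allBelow (fun k => fs11 (Nat.add (Nat.succ 151153) k)) 301 = true := by decide +kernel
theorem s11c455 : allBelow (fun k => fs11 (Nat.add (Nat.succ 151454) k)) 324 = true := by decide +kernel
theorem s11c456 : allBelow (fun k => fs11 (Nat.add (Nat.succ 151778) k)) 305 = true := by decide +kernel
theorem s11c457 : allBelow (fun k => fs11 (Nat.add (Nat.succ 152083) k)) 311 = true := by decide +kernel
theorem s11c458 : allBelow (fun k => fs11 (Nat.add (Nat.succ 152394) k)) 303 = true := by decide +kernel
theorem s11c459 : allBelow (fun k => fs11 (Nat.add (Nat.succ 152697) k)) 317 = true := by decide +kernel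
theorem s11c460 : allBelow (fun k => fs11 (Nat.add (Nat.succ 153014) k)) 307 = true := by decide +kernel
theorem s11c461 : allBelow (fun k => fs11 (Nat.add (Nat.succ 153321) k)) 328 = true := by decide +kernel
theorem s11c462 : allBelow (fun k => fs11 (Nat.add (Nat.succ 153649) k)) 295 = true := by decide +kernel
theorem s11c463 : allBelow (fun k => fs11 (Nat.add (Nat.succ 153944) k)) 323 = true := by decide +kernel
theorem s11c464 : allBelow (fun k => fs11 (Nat.add (Nat.succ 154267) k)) 324 = true := by decide +kernel
theorem s11c465 : allBelow (fun k => fs11 (Nat.add (Nat.succ 154591) k)) 302 = true := by decide +kernel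
theorem s11c466 : allBelow (fun k => fs11 (Nat.add (Nat.succ 154893) k)) 291 = true := by decide +kernel
theorem s11c467 : allBelow (fun k => fs11 (Nat.add (Nat.succ 155184) k)) 273 = true := by decide +kernel
theorem s11c468 : allBelow (fun k => fs11 (Nat.add (Nat.succ 155457) k)) 272 = true := by decide +kernel
theorem s11c469 : allBelow (fun k => fs11 (Nat.add (Nat.succ 155729) k)) 317 = true := by decide +kernel
theorem s11c470 : allBelow (fun k => fs11 (Nat.add (Nat.succ 156046) k)) 307 = true := by decide +kernel
theorem s11c471 : allBelow (fun k => fs11 (Nat.add (Nat.succ 156353) k)) 272 = true := by decide +kernel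
theorem s11c472 : allBelow (fun k => fs11 (Nat.add (Nat.succ 156625) k)) 284 = true := by decide +kernel
theorem s11c473 : allBelow (fun k => fs11 (Nat.add (Nat.succ 156909) k)) 292 = true := by decide +kernel
theorem s11c474 : allBelow (fun k => fs11 (Nat.add (Nat.succ 157201) k)) 278 = true := by decide +kernel
theorem s11c475 : allBelow (fun k => fs11 (Nat.add (Nat.succ 157479) k)) 302 = true := by decide +kernel
theorem s11c476 : allBelow (fun k => fs11 (Nat.add (Nat.succ 157781) k)) 282 = true := by decide +kernel
theorem s11c477 : allBelow (fun k => fs11 (Nat.add (Nat.succ 158063) k)) 293 = true := by decide +kernel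
theorem s11c478 : allBelow (fun k => fs11 (Nat.add (Nat.succ 158356) k)) 297 = true := by decide +kernel
theorem s11c479 : allBelow (fun k => fs11 (Nat.add (Nat.succ 158653) k)) 287 = true := by decide +kernel
theorem s11c480 : allBelow (fun k => fs11 (Nat.add (Nat.succ 158940) k)) 270 = true := by decide +kernel
theorem s11c481 : allBelow (fun k => fs11 (Nat.add (Nat.succ 159210) k)) 287 = true := by decide +kernel
theorem s11c482 : allBelow (fun k => fs11 (Nat.add (Nat.succ 159497) k)) 297 = true := by decide +kernel
theorem s11c483 : allBelow (fun k => fs11 (Nat.add (Nat.succ 159794) k)) 297 = true := by decide +kernel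
theorem s11c484 : allBelow (fun k => fs11 (Nat.add (Nat.succ 160091) k)) 285 = true := by decide +kernel
theorem s11c485 : allBelow (fun k => fs11 (Nat.add (Nat.succ 160376) k)) 269 = true := by decide +kernel
theorem s11c486 : allBelow (fun k => fs11 (Nat.add (Nat.succ 160645) k)) 277 = true := by decide +kernel
theorem s11c487 : allBelow (fun k => fs11 (Nat.add (Nat.succ 160922) k)) 305 = true := by decide +kernel
theorem s11c488 : allBelow (fun k => fs11 (Nat.add (Nat.succ 161227) k)) 304 = true := by decide +kernel
theorem s11c489 : allBelow (fun k => fs11 (Nat.add (Nat.succ 161531) k)) 299 = true := by decide +kernel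
theorem s11c490 : allBelow (fun k => fs11 (Nat.add (Nat.succ 161830) k)) 305 = true := by decide +kernel
theorem s11c491 : allBelow (fun k => fs11 (Nat.add (Nat.succ 162135) k)) 284 = true := by decide +kernel

end Cfsg.Agent.Lib.Helper35.Fi24a
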