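import Cfsg.Agent.Lib.Helper35.Fi24a.Data

set_option Elab.async false

namespace Cfsg.Agent.Lib.Helper35.Fi24a

open Cfsg.Agent.Lib.Helper35

theorem s11c492 : allBelow (fun k => fs11 (Nat.add (Nat.succ 162419) k)) 312 = true := by decide +kernel
theorem s11c493 : allBelow (fun k => fs11 (Nat.add (Nat.succ 162731) k)) 298 = true := by decide +kernel
theorem s11c494 : allBelow (fun k => fs11 (Nat.add (Nat.succ 163029) k)) 306 = true := by decide +kernel
theorem s11c495 : allBelow (fun k => fs11 (Nat.add (Nat.succ 163335) k)) 299 = true := by decide +kernel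
theorem s11c496 : allBelow (fun k => fs11 (Nat.add (Nat.succ 163634) k)) 313 = true := by decide +kernel
theorem s11c497 : allBelow (fun k => fs11 (Nat.add (Nat.succ 163947) k)) 312 = true := by decide +kernel
theorem s11c498 : allBelow (fun k => fs11 (Nat.add (Nat.succ 164259) k)) 291 = true := by decide +kernel
theorem s11c499 : allBelow (fun k => fs11 (Nat.add (Nat.succ 164550) k)) 306 = true := by decide +kernel
theorem s11c500 : allBelow (fun k => fs11 (Nat.add (Nat.succ 164856) k)) 292 = true := by decide +kernel
theorem s11c501 : allBelow (fun k => fs11 (Nat.add (Nat.succ 165148) k)) 273 = true := by decide +kernel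
theorem s11c502 : allBelow (fun k => fs11 (Nat.add (Nat.succ 165421) k)) 276 = true := by decide +kernel
theorem s11c503 : allBelow (fun k => fs11 (Nat.add (Nat.succ 165697) k)) 298 = true := by decide +kernel
theorem s11c504 : allBelow (fun k => fs11 (Nat.add (Nat.succ 165995) k)) 253 = true := by decide +kernel
theorem s11c505 : allBelow (fun k => fs11 (Nat.add (Nat.succ 166248) k)) 267 = true := by decide +kernel
theorem s11c506 : allBelow (fun k => fs11 (Nat.add (Nat.succ 166515) k)) 284 = true := by decide +kernel
theorem s11c507 : allBelow (fun k => fs11 (Nat.add (Nat.succ 166799) k)) 289 = true := by decide +kernel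
theorem s11c508 : allBelow (fun k => fs11 (Nat.add (Nat.succ 167088) k)) 302 = true := by decide +kernel
theorem s11c509 : allBelow (fun k => fs11 (Nat.add (Nat.succ 167390) k)) 304 = true := by decide +kernel
theorem s11c510 : allBelow (fun k => fs11 (Nat.add (Nat.succ 167694) k)) 285 = true := by decide +kernel
theorem s11c511 : allBelow (fun k => fs11 (Nat.add (Nat.succ 167979) k)) 280 = true := by decide +kernel
theorem s11c512 : allBelow (fun k => fs11 (Nat.add (Nat.succ 168259) k)) 277 = true := by decide +kernel
theorem s11c513 : allBelow (fun k => fs11 (Nat.add (Nat.succ 168536) k)) 297 = true := by decide +kernel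
theorem s11c514 : allBelow (fun k => fs11 (Nat.add (Nat.succ 168833) k)) 299 = true := by decide +kernel
theorem s11c515 : allBelow (fun k => fs11 (Nat.add (Nat.succ 169132) k)) 318 = true := by decide +kernel
theorem s11c516 : allBelow (fun k => fs11 (Nat.add (Nat.succ 169450) k)) 292 = true := by decide +kernel
theorem s11c517 : allBelow (fun k => fs11 (Nat.add (Nat.succ 169742) k)) 311 = true := by decide +kernel
theorem s11c518 : allBelow (fun k => fs11 (Nat.add (Nat.succ 170053) k)) 296 = true := by decide +kernel
theorem s11c519 : allBelow (fun k => fs11 (Nat.add (Nat.succ 170349) k)) 281 = true := by decide +kernel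
theorem s11c520 : allBelow (fun k => fs11 (Nat.add (Nat.succ 170630) k)) 321 = true := by decide +kernel
theorem s11c521 : allBelow (fun k => fs11 (Nat.add (Nat.succ 170951) k)) 319 = true := by decide +kernel
theorem s11c522 : allBelow (fun k => fs11 (Nat.add (Nat.succ 171270) k)) 299 = true := by decide +kernel
theorem s11c523 : allBelow (fun k => fs11 (Nat.add (Nat.succ 171569) k)) 311 = true := by decide +kernel
theorem s11c524 : allBelow (fun k => fs11 (Nat.add (Nat.succ 171880) k)) 305 = true := by decide +kernel
theorem s11c525 : allBelow (fun k => fs11 (Nat.add (Nat.succ 172185) k)) 295 = true := by decide +kernel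
theorem s11c526 : allBelow (fun k => fs11 (Nat.add (Nat.succ 172480) k)) 324 = true := by decide +kernel
theorem s11c527 : allBelow (fun k => fs11 (Nat.add (Nat.succ 172804) k)) 305 = true := by decide +kernel
theorem s11c528 : allBelow (fun k => fs11 (Nat.add (Nat.succ 173109) k)) 320 = true := by decide +kernel
theorem s11c529 : allBelow (fun k => fs11 (Nat.add (Nat.succ 173429) k)) 301 = true := by decide +kernel
theorem s11c530 : allBelow (fun k => fs11 (Nat.add (Nat.succ 173730) k)) 296 = true := by decide +kernel
theorem s11c531 : allBelow (fun k => fs11 (Nat.add (Nat.succ 174026) k)) 320 = true := by decide +kernel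
theorem s11c532 : allBelow (fun k => fs11 (Nat.add (Nat.succ 174346) k)) 316 = true := by decide +kernel
theorem s11c533 : allBelow (fun k => fs11 (Nat.add (Nat.succ 174662) k)) 299 = true := by decide +kernel
theorem s11c534 : allBelow (fun k => fs11 (Nat.add (Nat.succ 174961) k)) 287 = true := by decide +kernel
theorem s11c535 : allBelow (fun k => fs11 (Nat.add (Nat.succ 175248) k)) 276 = true := by decide +kernel
theorem s11c536 : allBelow (fun k => fs11 (Nat.add (Nat.succ 175524) k)) 274 = true := by decide +kernel
theorem s11c537 : allBelow (fun k => fs11 (Nat.add (Nat.succ 175798) k)) 310 = true := by decide +kernel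
theorem s11c538 : allBelow (fun k => fs11 (Nat.add (Nat.succ 176108) k)) 289 = true := by decide +kernel
theorem s11c539 : allBelow (fun k => fs11 (Nat.add (Nat.succ 176397) k)) 270 = true := by decide +kernel
theorem s11c540 : allBelow (fun k => fs11 (Nat.add (Nat.succ 176667) k)) 269 = true := by decide +kernel
theorem s11c541 : allBelow (fun k => fs11 (Nat.add (Nat.succ 176936) k)) 276 = true := by decide +kernel
theorem s11c542 : allBelow (fun k => fs11 (Nat.add (Nat.succ 177212) k)) 290 = true := by decide +kernel
theorem s11c543 : allBelow (fun k => fs11 (Nat.add (Nat.succ 177502) k)) 285 = true := by decide +kernel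
theorem s11c544 : allBelow (fun k => fs11 (Nat.add (Nat.succ 177787) k)) 279 = true := by decide +kernel
theorem s11c545 : allBelow (fun k => fs11 (Nat.add (Nat.succ 178066) k)) 281 = true := by decide +kernel
theorem s11c546 : allBelow (fun k => fs11 (Nat.add (Nat.succ 178347) k)) 285 = true := by decide +kernel
theorem s11c547 : allBelow (fun k => fs11 (Nat.add (Nat.succ 178632) k)) 272 = true := by decide +kernel
theorem s11c548 : allBelow (fun k => fs11 (Nat.add (Nat.succ 178904) k)) 288 = true := by decide +kernel
theorem s11c549 : allBelow (fun k => fs11 (Nat.add (Nat.succ 179192) k)) 289 = true := by decide +kernel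
theorem s11c550 : allBelow (fun k => fs11 (Nat.add (Nat.succ 179481) k)) 307 = true := by decide +kernel
theorem s11c551 : allBelow (fun k => fs11 (Nat.add (Nat.succ 179788) k)) 283 = true := by decide +kernel
theorem s11c552 : allBelow (fun k => fs11 (Nat.add (Nat.succ 180071) k)) 276 = true := by decide +kernel
theorem s11c553 : allBelow (fun k => fs11 (Nat.add (Nat.succ 180347) k)) 257 = true := by decide +kernel
theorem s11c554 : allBelow (fun k => fs11 (Nat.add (Nat.succ 180604) k)) 286 = true := by decide +kernel
theorem s11c555 : allBelow (fun k => fs11 (Nat.add (Nat.succ 180890) k)) 298 = true := by decide +kernel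
theorem s11c556 : allBelow (fun k => fs11 (Nat.add (Nat.succ 181188) k)) 300 = true := by decide +kernel
theorem s11c557 : allBelow (fun k => fs11 (Nat.add (Nat.succ 181488) k)) 301 = true := by decide +kernel
theorem s11c558 : allBelow (fun k => fs11 (Nat.add (Nat.succ 181789) k)) 288 = true := by decide +kernel
theorem s11c559 : allBelow (fun k => fs11 (Nat.add (Nat.succ 182077) k)) 293 = true := by decide +kernel
theorem s11c560 : allBelow (fun k => fs11 (Nat.add (Nat.succ 182370) k)) 278 = true := by decide +kernel
theorem s11c561 : allBelow (fun k => fs11 (Nat.add (Nat.succ 182648) k)) 314 = true := by decide +kernel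
theorem s11c562 : allBelow (fun k => fs11 (Nat.add (Nat.succ 182962) k)) 291 = true := by decide +kernel
theorem s11c563 : allBelow (fun k => fs11 (Nat.add (Nat.succ 183253) k)) 299 = true := by decide +kernel
theorem s11c564 : allBelow (fun k => fs11 (Nat.add (Nat.succ 183552) k)) 283 = true := by decide +kernel
theorem s11c565 : allBelow (fun k => fs11 (Nat.add (Nat.succ 183835) k)) 303 = true := by decide +kernel
theorem s11c566 : allBelow (fun k => fs11 (Nat.add (Nat.succ 184138) k)) 317 = true := by decide +kernel
theorem s11c567 : allBelow (fun k => fs11 (Nat.add (Nat.succ 184455) k)) 292 = true := by decide +kernel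
theorem s11c568 : allBelow (fun k => fs11 (Nat.add (Nat.succ 184747) k)) 285 = true := by decide +kernel
theorem s11c569 : allBelow (fun k => fs11 (Nat.add (Nat.succ 185032) k)) 304 = true := by decide +kernel
theorem s11c570 : allBelow (fun k => fs11 (Nat.add (Nat.succ 185336) k)) 296 = true := by decide +kernel
theorem s11c571 : allBelow (fun k => fs11 (Nat.add (Nat.succ 185632) k)) 272 = true := by decide +kernel
theorem s11c572 : allBelow (fun k => fs11 (Nat.add (Nat.succ 185904) k)) 274 = true := by decide +kernel
theorem s11c573 : allBelow (fun k => fs11 (Nat.add (Nat.succ 186178) k)) 291 = true := by decide +kernel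
theorem s11c574 : allBelow (fun k => fs11 (Nat.add (Nat.succ 186469) k)) 246 = true := by decide +kernel
theorem s11c575 : allBelow (fun k => fs11 (Nat.add (Nat.succ 186715) k)) 264 = true := by decide +kernel
theorem s11c576 : allBelow (fun k => fs11 (Nat.add (Nat.succ 186979) k)) 280 = true := by decide +kernel
theorem s11c577 : allBelow (fun k => fs11 (Nat.add (Nat.succ 187259) k)) 293 = true := by decide +kernel
theorem s11c578 : allBelow (fun k => fs11 (Nat.add (Nat.succ 187552) k)) 299 = true := by decide +kernel
theorem s11c579 : allBelow (fun k => fs11 (Nat.add (Nat.succ 187851) k)) 295 = true := by decide +kernel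
theorem s11c580 : allBelow (fun k => fs11 (Nat.add (Nat.succ 188146) k)) 282 = true := by decide +kernel
theorem s11c581 : allBelow (fun k => fs11 (Nat.add (Nat.succ 188428) k)) 282 = true := by decide +kernel
theorem s11c582 : allBelow (fun k => fs11 (Nat.add (Nat.succ 188710) k)) 279 = true := by decide +kernel
theorem s11c583 : allBelow (fun k => fs11 (Nat.add (Nat.succ 188989) k)) 293 = true := by decide +kernel
theorem s11c584 : allBelow (fun k => fs11 (Nat.add (Nat.succ 189282) k)) 282 = true := by decide +kernel
theorem s11c585 : allBelow (fun k => fs11 (Nat.add (Nat.succ 189564) k)) 316 = true := by decide +kernel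
theorem s11c586 : allBelow (fun k => fs11 (Nat.add (Nat.succ 189880) k)) 303 = true := by decide +kernel
theorem s11c587 : allBelow (fun k => fs11 (Nat.add (Nat.succ 190183) k)) 287 = true := by decide +kernel
theorem s11c588 : allBelow (fun k => fs11 (Nat.add (Nat.succ 190470) k)) 302 = true := by decide +kernel
theorem s11c589 : allBelow (fun k => fs11 (Nat.add (Nat.succ 190772) k)) 298 = true := by decide +kernel
theorem s11c590 : allBelow (fun k => fs11 (Nat.add (Nat.succ 191070) k)) 289 = true := by decide +kernel
theorem s11c591 : allBelow (fun k => fs11 (Nat.add (Nat.succ 191359) k)) 299 = true := by decide +kernel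
theorem s11c592 : allBelow (fun k => fs11 (Nat.add (Nat.succ 191658) k)) 316 = true := by decide +kernel
theorem s11c593 : allBelow (fun k => fs11 (Nat.add (Nat.succ 191974) k)) 300 = true := by decide +kernel
theorem s11c594 : allBelow (fun k => fs11 (Nat.add (Nat.succ 192274) k)) 292 = true := by decide +kernel
theorem s11c595 : allBelow (fun k => fs11 (Nat.add (Nat.succ 192566) k)) 305 = true := by decide +kernel
theorem s11c596 : allBelow (fun k => fs11 (Nat.add (Nat.succ 192871) k)) 305 = true := by decide +kernel
theorem s11c597 : allBelow (fun k => fs11 (Nat.add (Nat.succ 193176) k)) 280 = true := by decide +kernel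
theorem s11c598 : allBelow (fun k => fs11 (Nat.add (Nat.succ 193456) k)) 318 = true := by decide +kernel
theorem s11c599 : allBelow (fun k => fs11 (Nat.add (Nat.succ 193774) k)) 315 = true := by decide +kernel
theorem s11c600 : allBelow (fun k => fs11 (Nat.add (Nat.succ 194089) k)) 294 = true := by decide +kernel
theorem s11c601 : allBelow (fun k => fs11 (Nat.add (Nat.succ 194383) k)) 314 = true := by decide +kernel
theorem s11c602 : allBelow (fun k => fs11 (Nat.add (Nat.succ 194697) k)) 299 = true := by decide +kernel
theorem s11c603 : allBelow (fun k => fs11 (Nat.add (Nat.succ 194996) k)) 288 = true := by decide +kernel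
theorem s11c604 : allBelow (fun k => fs11 (Nat.add (Nat.succ 195284) k)) 293 = true := by decide +kernel
theorem s11c605 : allBelow (fun k => fs11 (Nat.add (Nat.succ 195577) k)) 313 = true := by decide +kernel
theorem s11c606 : allBelow (fun k => fs11 (Nat.add (Nat.succ 195890) k)) 308 = true := by decide +kernel
theorem s11c607 : allBelow (fun k => fs11 (Nat.add (Nat.succ 196198) k)) 296 = true := by decide +kernel
theorem s11c608 : allBelow (fun k => fs11 (Nat.add (Nat.succ 196494) k)) 284 = true := by decide +kernel
theorem s11c609 : allBelow (fun k => fs11 (Nat.add (Nat.succ 196778) k)) 278 = true := by decide +kernel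
theorem s11c610 : allBelow (fun k => fs11 (Nat.add (Nat.succ 197056) k)) 272 = true := by decide +kernel
theorem s11c611 : allBelow (fun k => fs11 (Nat.add (Nat.succ 197328) k)) 306 = true := by decide +kernel
theorem s11c612 : allBelow (fun k => fs11 (Nat.add (Nat.succ 197634) k)) 273 = true := by decide +kernel
theorem s11c613 : allBelow (fun k => fs11 (Nat.add (Nat.succ 197907) k)) 258 = true := by decide +kernel
theorem s11c614 : allBelow (fun k => fs11 (Nat.add (Nat.succ 198165) k)) 270 = true := by decide +kernel
theorem s11c615 : allBelow (fun k => fs11 (Nat.add (Nat.succ 198435) k)) 272 = true := by decide +kernel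
theorem s11c616 : allBelow (fun k => fs11 (Nat.add (Nat.succ 198707) k)) 287 = true := by decide +kernel
theorem s11c617 : allBelow (fun k => fs11 (Nat.add (Nat.succ 198994) k)) 275 = true := by decide +kernel
theorem s11c618 : allBelow (fun k => fs11 (Nat.add (Nat.succ 199269) k)) 278 = true := by decide +kernel
theorem s11c619 : allBelow (fun k => fs11 (Nat.add (Nat.succ 199547) k)) 280 = true := by decide +kernel
theorem s11c620 : allBelow (fun k => fs11 (Nat.add (Nat.succ 199827) k)) 278 = true := by decide +kernel
theorem s11c621 : allBelow (fun k => fs11 (Nat.add (Nat.succ 200105) k)) 284 = true := by decide +kernel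
theorem s11c622 : allBelow (fun k => fs11 (Nat.add (Nat.succ 200389) k)) 290 = true := by decide +kernel
theorem s11c623 : allBelow (fun k => fs11 (Nat.add (Nat.succ 200679) k)) 291 = true := by decide +kernel
theorem s11c624 : allBelow (fun k => fs11 (Nat.add (Nat.succ 200970) k)) 301 = true := by decide +kernel
theorem s11c625 : allBelow (fun k => fs11 (Nat.add (Nat.succ 201271) k)) 271 = true := by decide +kernel
theorem s11c626 : allBelow (fun k => fs11 (Nat.add (Nat.succ 201542) k)) 268 = true := by decide +kernel
theorem s11c627 : allBelow (fun k => fs11 (Nat.add (Nat.succ 201810) k)) 258 = true := by decide +kernel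
theorem s11c628 : allBelow (fun k => fs11 (Nat.add (Nat.succ 202068) k)) 284 = true := by decide +kernel
theorem s11c629 : allBelow (fun k => fs11 (Nat.add (Nat.succ 202352) k)) 287 = true := by decide +kernel
theorem s11c630 : allBelow (fun k => fs11 (Nat.add (Nat.succ 202639) k)) 297 = true := by decide +kernel
theorem s11c631 : allBelow (fun k => fs11 (Nat.add (Nat.succ 202936) k)) 301 = true := by decide +kernel
theorem s11c632 : allBelow (fun k => fs11 (Nat.add (Nat.succ 203237) k)) 284 = true := by decide +kernel
theorem s11c633 : allBelow (fun k => fs11 (Nat.add (Nat.succ 203521) k)) 276 = true := by decide +kernel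
theorem s11c634 : allBelow (fun k => fs11 (Nat.add (Nat.succ 203797) k)) 289 = true := by decide +kernel
theorem s11c635 : allBelow (fun k => fs11 (Nat.add (Nat.succ 204086) k)) 279 = true := by decide +kernel
theorem s11c636 : allBelow (fun k => fs11 (Nat.add (Nat.succ 204365) k)) 312 = true := by decide +kernel
theorem s11c637 : allBelow (fun k => fs11 (Nat.add (Nat.succ 204677) k)) 284 = true := by decide +kernel
theorem s11c638 : allBelow (fun k => fs11 (Nat.add (Nat.succ 204961) k)) 287 = true := by decide +kernel
theorem s11c639 : allBelow (fun k => fs11 (Nat.add (Nat.succ 205248) k)) 279 = true := by decide +kernel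
theorem s11c640 : allBelow (fun k => fs11 (Nat.add (Nat.succ 205527) k)) 293 = true := by decide +kernel
theorem s11c641 : allBelow (fun k => fs11 (Nat.add (Nat.succ 205820) k)) 300 = true := by decide +kernel
theorem s11c642 : allBelow (fun k => fs11 (Nat.add (Nat.succ 206120) k)) 307 = true := by decide +kernel
theorem s11c643 : allBelow (fun k => fs11 (Nat.add (Nat.succ 206427) k)) 273 = true := by decide +kernel
theorem s11c644 : allBelow (fun k => fs11 (Nat.add (Nat.succ 206700) k)) 289 = true := by decide +kernel
theorem s11c645 : allBelow (fun k => fs11 (Nat.add (Nat.succ 206989) k)) 306 = true := by decide +kernel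
theorem s11c646 : allBelow (fun k => fs11 (Nat.add (Nat.succ 207295) k)) 289 = true := by decide +kernel
theorem s11c647 : allBelow (fun k => fs11 (Nat.add (Nat.succ 207584) k)) 277 = true := by decide +kernel
theorem s11c648 : allBelow (fun k => fs11 (Nat.add (Nat.succ 207861) k)) 276 = true := by decide +kernel
theorem s11c649 : allBelow (fun k => fs11 (Nat.add (Nat.succ 208137) k)) 282 = true := by decide +kernel
theorem s11c650 : allBelow (fun k => fs11 (Nat.add (Nat.succ 208419) k)) 243 = true := by decide +kernel
theorem s11c651 : allBelow (fun k => fs11 (Nat.add (Nat.succ 208662) k)) 262 = true := by decide +kernel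
theorem s11c652 : allBelow (fun k => fs11 (Nat.add (Nat.succ 208924) k)) 280 = true := by decide +kernel
theorem s11c653 : allBelow (fun k => fs11 (Nat.add (Nat.succ 209204) k)) 291 = true := by decide +kernel
theorem s11c654 : allBelow (fun k => fs11 (Nat.add (Nat.succ 209495) k)) 288 = true := by decide +kernel
theorem s11c655 : allBelow (fun k => fs11 (Nat.add (Nat.succ 209783) k)) 291 = true := by decide +kernel
theorem s11c656 : allBelow (fun k => fs11 (Nat.add (Nat.succ 210074) k)) 270 = true := by decide +kernel
theorem s11c657 : allBelow (fun k => fs11 (Nat.add (Nat.succ 210344) k)) 289 = true := by decide +kernel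
theorem s11c658 : allBelow (fun k => fs11 (Nat.add (Nat.succ 210633) k)) 270 = true := by decide +kernel
theorem s11c659 : allBelow (fun k => fs11 (Nat.add (Nat.succ 210903) k)) 277 = true := by decide +kernel
theorem s11c660 : allBelow (fun k => fs11 (Nat.add (Nat.succ 211180) k)) 281 = true := by decide +kernel
theorem s11c661 : allBelow (fun k => fs11 (Nat.add (Nat.succ 211461) k)) 288 = true := by decide +kernel
theorem s11c662 : allBelow (fun k => fs11 (Nat.add (Nat.succ 211749) k)) 303 = true := by decide +kernel
theorem s11c663 : allBelow (fun k => fs11 (Nat.add (Nat.succ 212052) k)) 298 = true := by decide +kernel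
theorem s11c664 : allBelow (fun k => fs11 (Nat.add (Nat.succ 212350) k)) 276 = true := by decide +kernel
theorem s11c665 : allBelow (fun k => fs11 (Nat.add (Nat.succ 212626) k)) 291 = true := by decide +kernel
theorem s11c666 : allBelow (fun k => fs11 (Nat.add (Nat.succ 212917) k)) 298 = true := by decide +kernel
theorem s11c667 : allBelow (fun k => fs11 (Nat.add (Nat.succ 213215) k)) 282 = true := by decide +kernel
theorem s11c668 : allBelow (fun k => fs11 (Nat.add (Nat.succ 213497) k)) 289 = true := by decide +kernel
theorem s11c669 : allBelow (fun k => fs11 (Nat.add (Nat.succ 213786) k)) 293 = true := by decide +kernel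
theorem s11c670 : allBelow (fun k => fs11 (Nat.add (Nat.succ 214079) k)) 311 = true := by decide +kernel
theorem s11c671 : allBelow (fun k => fs11 (Nat.add (Nat.succ 214390) k)) 292 = true := by decide +kernel
theorem s11c672 : allBelow (fun k => fs11 (Nat.add (Nat.succ 214682) k)) 288 = true := by decide +kernel
theorem s11c673 : allBelow (fun k => fs11 (Nat.add (Nat.succ 214970) k)) 282 = true := by decide +kernel
theorem s11c674 : allBelow (fun k => fs11 (Nat.add (Nat.succ 215252) k)) 299 = true := by decide +kernel
theorem s11c675 : allBelow (fun k => fs11 (Nat.add (Nat.succ 215551) k)) 292 = true := by decide +kernel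
theorem s11c676 : allBelow (fun k => fs11 (Nat.add (Nat.succ 215843) k)) 284 = true := by decide +kernel
theorem s11c677 : allBelow (fun k => fs11 (Nat.add (Nat.succ 216127) k)) 317 = true := by decide +kernel
theorem s11c678 : allBelow (fun k => fs11 (Nat.add (Nat.succ 216444) k)) 297 = true := by decide +kernel
theorem s11c679 : allBelow (fun k => fs11 (Nat.add (Nat.succ 216741) k)) 292 = true := by decide +kernel
theorem s11c680 : allBelow (fun k => fs11 (Nat.add (Nat.succ 217033) k)) 302 = true := by decide +kernel
theorem s11c681 : allBelow (fun k => fs11 (Nat.add (Nat.succ 217335) k)) 295 = true := by decide +kernel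
theorem s11c682 : allBelow (fun k => fs11 (Nat.add (Nat.succ 217630) k)) 299 = true := by decide +kernel
theorem s11c683 : allBelow (fun k => fs11 (Nat.add (Nat.succ 217929) k)) 276 = true := by decide +kernel
theorem s11c684 : allBelow (fun k => fs11 (Nat.add (Nat.succ 218205) k)) 290 = true := by decide +kernel
theorem s11c685 : allBelow (fun k => fs11 (Nat.add (Nat.succ 218495) k)) 301 = true := by decide +kernel
theorem s11c686 : allBelow (fun k => fs11 (Nat.add (Nat.succ 218796) k)) 298 = true := by decide +kernel
theorem s11c687 : allBelow (fun k => fs11 (Nat.add (Nat.succ 219094) k)) 297 = true := by decide +kernel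
theorem s11c688 : allBelow (fun k => fs11 (Nat.add (Nat.succ 219391) k)) 282 = true := by decide +kernel
theorem s11c689 : allBelow (fun k => fs11 (Nat.add (Nat.succ 219673) k)) 281 = true := by decide +kernel
theorem s11c690 : allBelow (fun k => fs11 (Nat.add (Nat.succ 219954) k)) 267 = true := by decide +kernel
theorem s11c691 : allBelow (fun k => fs11 (Nat.add (Nat.succ 220221) k)) 303 = true := by decide +kernel
theorem s11c692 : allBelow (fun k => fs11 (Nat.add (Nat.succ 220524) k)) 271 = true := by decide +kernel
theorem s11c693 : allBelow (fun k => fs11 (Nat.add (Nat.succ 220795) k)) 261 = true := by decide +kernel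
theorem s11c694 : allBelow (fun k => fs11 (Nat.add (Nat.succ 221056) k)) 280 = true := by decide +kernel
theorem s11c695 : allBelow (fun k => fs11 (Nat.add (Nat.succ 221336) k)) 264 = true := by decide +kernel
theorem s11c696 : allBelow (fun k => fs11 (Nat.add (Nat.succ 221600) k)) 273 = true := by decide +kernel
theorem s11c697 : allBelow (fun k => fs11 (Nat.add (Nat.succ 221873) k)) 269 = true := by decide +kernel
theorem s11c698 : allBelow (fun k => fs11 (Nat.add (Nat.succ 222142) k)) 271 = true := by decide +kernel
theorem s11c699 : allBelow (fun k => fs11 (Nat.add (Nat.succ 222413) k)) 276 = true := by decide +kernel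
theorem s11c700 : allBelow (fun k => fs11 (Nat.add (Nat.succ 222689) k)) 272 = true := by decide +kernel
theorem s11c701 : allBelow (fun k => fs11 (Nat.add (Nat.succ 222961) k)) 275 = true := by decide +kernel
theorem s11c702 : allBelow (fun k => fs11 (Nat.add (Nat.succ 223236) k)) 274 = true := by decide +kernel
theorem s11c703 : allBelow (fun k => fs11 (Nat.add (Nat.succ 223510) k)) 287 = true := by decide +kernel
theorem s11c704 : allBelow (fun k => fs11 (Nat.add (Nat.succ 223797) k)) 291 = true := by decide +kernel
theorem s11c705 : allBelow (fun k => fs11 (Nat.add (Nat.succ 224088) k)) 268 = true := by decide +kernel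
theorem s11c706 : allBelow (fun k => fs11 (Nat.add (Nat.succ 224356) k)) 269 = true := by decide +kernel
theorem s11c707 : allBelow (fun k => fs11 (Nat.add (Nat.succ 224625) k)) 261 = true := by decide +kernel
theorem s11c708 : allBelow (fun k => fs11 (Nat.add (Nat.succ 224886) k)) 266 = true := by decide +kernel
theorem s11c709 : allBelow (fun k => fs11 (Nat.add (Nat.succ 225152) k)) 268 = true := by decide +kernel
theorem s11c710 : allBelow (fun k => fs11 (Nat.add (Nat.succ 225420) k)) 271 = true := by decide +kernel
theorem s11c711 : allBelow (fun k => fs11 (Nat.add (Nat.succ 225691) k)) 302 = true := by decide +kernel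
theorem s11c712 : allBelow (fun k => fs11 (Nat.add (Nat.succ 225993) k)) 294 = true := by decide +kernel
theorem s11c713 : allBelow (fun k => fs11 (Nat.add (Nat.succ 226287) k)) 273 = true := by decide +kernel
theorem s11c714 : allBelow (fun k => fs11 (Nat.add (Nat.succ 226560) k)) 270 = true := by decide +kernel
theorem s11c715 : allBelow (fun k => fs11 (Nat.add (Nat.succ 226830) k)) 282 = true := by decide +kernel
theorem s11c716 : allBelow (fun k => fs11 (Nat.add (Nat.succ 227112) k)) 279 = true := by decide +kernel
theorem s11c717 : allBelow (fun k => fs11 (Nat.add (Nat.succ 227391) k)) 278 = true := by decide +kernel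
theorem s11c718 : allBelow (fun k => fs11 (Nat.add (Nat.succ 227669) k)) 298 = true := by decide +kernel
theorem s11c719 : allBelow (fun k => fs11 (Nat.add (Nat.succ 227967) k)) 274 = true := by decide +kernel
theorem s11c720 : allBelow (fun k => fs11 (Nat.add (Nat.succ 228241) k)) 282 = true := by decide +kernel
theorem s11c721 : allBelow (fun k => fs11 (Nat.add (Nat.succ 228523) k)) 279 = true := by decide +kernel
theorem s11c722 : allBelow (fun k => fs11 (Nat.add (Nat.succ 228802) k)) 286 = true := by decide +kernel
theorem s11c723 : allBelow (fun k => fs11 (Nat.add (Nat.succ 229088) k)) 287 = true := by decide +kernel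
theorem s11c724 : allBelow (fun k => fs11 (Nat.add (Nat.succ 229375) k)) 297 = true := by decide +kernel
theorem s11c725 : allBelow (fun k => fs11 (Nat.add (Nat.succ 229672) k)) 281 = true := by decide +kernel
theorem s11c726 : allBelow (fun k => fs11 (Nat.add (Nat.succ 229953) k)) 258 = true := by decide +kernel
theorem s11c727 : allBelow (fun k => fs11 (Nat.add (Nat.succ 230211) k)) 287 = true := by decide +kernel
theorem s11c728 : allBelow (fun k => fs11 (Nat.add (Nat.succ 230498) k)) 300 = true := by decide +kernel
theorem s11c729 : allBelow (fun k => fs11 (Nat.add (Nat.succ 230798) k)) 284 = true := by decide +kernel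
theorem s11c730 : allBelow (fun k => fs11 (Nat.add (Nat.succ 231082) k)) 277 = true := by decide +kernel
theorem s11c731 : allBelow (fun k => fs11 (Nat.add (Nat.succ 231359) k)) 264 = true := by decide +kernel
theorem s11c732 : allBelow (fun k => fs11 (Nat.add (Nat.succ 231623) k)) 276 = true := by decide +kernel
theorem s11c733 : allBelow (fun k => fs11 (Nat.add (Nat.succ 231899) k)) 248 = true := by decide +kernel
theorem s11c734 : allBelow (fun k => fs11 (Nat.add (Nat.succ 232147) k)) 265 = true := by decide +kernel
theorem s11c735 : allBelow (fun k => fs11 (Nat.add (Nat.succ 232412) k)) 280 = true := by decide +kernel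
theorem s11c736 : allBelow (fun k => fs11 (Nat.add (Nat.succ 232692) k)) 279 = true := by decide +kernel
theorem s11c737 : allBelow (fun k => fs11 (Nat.add (Nat.succ 232971) k)) 275 = true := by decide +kernel
theorem s11c738 : allBelow (fun k => fs11 (Nat.add (Nat.succ 233246) k)) 285 = true := by decide +kernel
theorem s11c739 : allBelow (fun k => fs11 (Nat.add (Nat.succ 233531) k)) 266 = true := by decide +kernel
theorem s11c740 : allBelow (fun k => fs11 (Nat.add (Nat.succ 233797) k)) 280 = true := by decide +kernel
theorem s11c741 : allBelow (fun k => fs11 (Nat.add (Nat.succ 234077) k)) 268 = true := by decide +kernel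
theorem s11c742 : allBelow (fun k => fs11 (Nat.add (Nat.succ 234345) k)) 269 = true := by decide +kernel
theorem s11c743 : allBelow (fun k => fs11 (Nat.add (Nat.succ 234614) k)) 275 = true := by decide +kernel
theorem s11c744 : allBelow (fun k => fs11 (Nat.add (Nat.succ 234889) k)) 266 = true := by decide +kernel
theorem s11c745 : allBelow (fun k => fs11 (Nat.add (Nat.succ 235155) k)) 296 = true := by decide +kernel
theorem s11c746 : allBelow (fun k => fs11 (Nat.add (Nat.succ 235451) k)) 282 = true := by decide +kernel
theorem s11c747 : allBelow (fun k => fs11 (Nat.add (Nat.succ 235733) k)) 290 = true := by decide +kernel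
theorem s11c748 : allBelow (fun k => fs11 (Nat.add (Nat.succ 236023) k)) 275 = true := by decide +kernel
theorem s11c749 : allBelow (fun k => fs11 (Nat.add (Nat.succ 236298) k)) 277 = true := by decide +kernel
theorem s11c750 : allBelow (fun k => fs11 (Nat.add (Nat.succ 236575) k)) 283 = true := by decide +kernel
theorem s11c751 : allBelow (fun k => fs11 (Nat.add (Nat.succ 236858) k)) 285 = true := by decide +kernel
theorem s11c752 : allBelow (fun k => fs11 (Nat.add (Nat.succ 237143) k)) 285 = true := by decide +kernel
theorem s11c753 : allBelow (fun k => fs11 (Nat.add (Nat.succ 237428) k)) 289 = true := by decide +kernel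
theorem s11c754 : allBelow (fun k => fs11 (Nat.add (Nat.succ 237717) k)) 284 = true := by decide +kernel
theorem s11c755 : allBelow (fun k => fs11 (Nat.add (Nat.succ 238001) k)) 298 = true := by decide +kernel
theorem s11c756 : allBelow (fun k => fs11 (Nat.add (Nat.succ 238299) k)) 286 = true := by decide +kernel
theorem s11c757 : allBelow (fun k => fs11 (Nat.add (Nat.succ 238585) k)) 277 = true := by decide +kernel
theorem s11c758 : allBelow (fun k => fs11 (Nat.add (Nat.succ 238862) k)) 280 = true := by decide +kernel
theorem s11c759 : allBelow (fun k => fs11 (Nat.add (Nat.succ 239142) k)) 291 = true := by decide +kernel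
theorem s11c760 : allBelow (fun k => fs11 (Nat.add (Nat.succ 239433) k)) 283 = true := by decide +kernel
theorem s11c761 : allBelow (fun k => fs11 (Nat.add (Nat.succ 239716) k)) 289 = true := by decide +kernel
theorem s11c762 : allBelow (fun k => fs11 (Nat.add (Nat.succ 240005) k)) 288 = true := by decide +kernel
theorem s11c763 : allBelow (fun k => fs11 (Nat.add (Nat.succ 240293) k)) 306 = true := by decide +kernel
theorem s11c764 : allBelow (fun k => fs11 (Nat.add (Nat.succ 240599) k)) 296 = true := by decide +kernel
theorem s11c765 : allBelow (fun k => fs11 (Nat.add (Nat.succ 240895) k)) 280 = true := by decide +kernel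
theorem s11c766 : allBelow (fun k => fs11 (Nat.add (Nat.succ 241175) k)) 290 = true := by decide +kernel
theorem s11c767 : allBelow (fun k => fs11 (Nat.add (Nat.succ 241465) k)) 293 = true := by decide +kernel
theorem s11c768 : allBelow (fun k => fs11 (Nat.add (Nat.succ 241758) k)) 285 = true := by decide +kernel
theorem s11c769 : allBelow (fun k => fs11 (Nat.add (Nat.succ 242043) k)) 290 = true := by decide +kernel
theorem s11c770 : allBelow (fun k => fs11 (Nat.add (Nat.succ 242333) k)) 268 = true := by decide +kernel
theorem s11c771 : allBelow (fun k => fs11 (Nat.add (Nat.succ 242601) k)) 290 = true := by decide +kernel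
theorem s11c772 : allBelow (fun k => fs11 (Nat.add (Nat.succ 242891) k)) 300 = true := by decide +kernel
theorem s11c773 : allBelow (fun k => fs11 (Nat.add (Nat.succ 243191) k)) 289 = true := by decide +kernel
theorem s11c774 : allBelow (fun k => fs11 (Nat.add (Nat.succ 243480) k)) 293 = true := by decide +kernel
theorem s11c775 : allBelow (fun k => fs11 (Nat.add (Nat.succ 243773) k)) 277 = true := by decide +kernel
theorem s11c776 : allBelow (fun k => fs11 (Nat.add (Nat.succ 244050) k)) 270 = true := by decide +kernel
theorem s11c777 : allBelow (fun k => fs11 (Nat.add (Nat.succ 244320) k)) 275 = true := by decide +kernel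
theorem s11c778 : allBelow (fun k => fs11 (Nat.add (Nat.succ 244595) k)) 291 = true := by decide +kernel
theorem s11c779 : allBelow (fun k => fs11 (Nat.add (Nat.succ 244886) k)) 270 = true := by decide +kernel
theorem s11c780 : allBelow (fun k => fs11 (Nat.add (Nat.succ 245156) k)) 270 = true := by decide +kernel
theorem s11c781 : allBelow (fun k => fs11 (Nat.add (Nat.succ 245426) k)) 283 = true := by decide +kernel
theorem s11c782 : allBelow (fun k => fs11 (Nat.add (Nat.succ 245709) k)) 253 = true := by decide +kernel
theorem s11c783 : allBelow (fun k => fs11 (Nat.add (Nat.succ 245962) k)) 261 = true := by decide +kernel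
theorem s11c784 : allBelow (fun k => fs11 (Nat.add (Nat.succ 246223) k)) 265 = true := by decide +kernel
theorem s11c785 : allBelow (fun k => fs11 (Nat.add (Nat.succ 246488) k)) 264 = true := by decide +kernel
theorem s11c786 : allBelow (fun k => fs11 (Nat.add (Nat.succ 246752) k)) 264 = true := by decide +kernel
theorem s11c787 : allBelow (fun k => fs11 (Nat.add (Nat.succ 247016) k)) 273 = true := by decide +kernel
theorem s11c788 : allBelow (fun k => fs11 (Nat.add (Nat.succ 247289) k)) 272 = true := by decide +kernel
theorem s11c789 : allBelow (fun k => fs11 (Nat.add (Nat.succ 247561) k)) 268 = true := by decide +kernel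
theorem s11c790 : allBelow (fun k => fs11 (Nat.add (Nat.succ 247829) k)) 279 = true := by decide +kernel
theorem s11c791 : allBelow (fun k => fs11 (Nat.add (Nat.succ 248108) k)) 271 = true := by decide +kernel
theorem s11c792 : allBelow (fun k => fs11 (Nat.add (Nat.succ 248379) k)) 267 = true := by decide +kernel
theorem s11c793 : allBelow (fun k => fs11 (Nat.add (Nat.succ 248646) k)) 262 = true := by decide +kernel
theorem s11c794 : allBelow (fun k => fs11 (Nat.add (Nat.succ 248908) k)) 269 = true := by decide +kernel
theorem s11c795 : allBelow (fun k => fs11 (Nat.add (Nat.succ 249177) k)) 258 = true := by decide +kernel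
theorem s11c796 : allBelow (fun k => fs11 (Nat.add (Nat.succ 249435) k)) 254 = true := by decide +kernel
theorem s11c797 : allBelow (fun k => fs11 (Nat.add (Nat.succ 249689) k)) 270 = true := by decide +kernel
theorem s11c798 : allBelow (fun k => fs11 (Nat.add (Nat.succ 249959) k)) 272 = true := by decide +kernel
theorem s11c799 : allBelow (fun k => fs11 (Nat.add (Nat.succ 250231) k)) 280 = true := by decide +kernel
theorem s11c800 : allBelow (fun k => fs11 (Nat.add (Nat.succ 250511) k)) 288 = true := by decide +kernel
theorem s11c801 : allBelow (fun k => fs11 (Nat.add (Nat.succ 250799) k)) 272 = true := by decide +kernel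
theorem s11c802 : allBelow (fun k => fs11 (Nat.add (Nat.succ 251071) k)) 259 = true := by decide +kernel
theorem s11c803 : allBelow (fun k => fs11 (Nat.add (Nat.succ 251330) k)) 267 = true := by decide +kernel
theorem s11c804 : allBelow (fun k => fs11 (Nat.add (Nat.succ 251597) k)) 274 = true := by decide +kernel
theorem s11c805 : allBelow (fun k => fs11 (Nat.add (Nat.succ 251871) k)) 278 = true := by decide +kernel
theorem s11c806 : allBelow (fun k => fs11 (Nat.add (Nat.succ 252149) k)) 269 = true := by decide +kernel
theorem s11c807 : allBelow (fun k => fs11 (Nat.add (Nat.succ 252418) k)) 287 = true := by decide +kernel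
theorem s11c808 : allBelow (fun k => fs11 (Nat.add (Nat.succ 252705) k)) 262 = true := by decide +kernel
theorem s11c809 : allBelow (fun k => fs11 (Nat.add (Nat.succ 252967) k)) 291 = true := by decide +kernel
theorem s11c810 : allBelow (fun k => fs11 (Nat.add (Nat.succ 253258) k)) 275 = true := by decide +kernel

end Cfsg.Agent.Lib.Helper35.Fi24a
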