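import Cfsg.Agent.Lib.Helper35.Fi24a.Data

set_option Elab.async false

namespace Cfsg.Agent.Lib.Helper35.Fi24a

open Cfsg.Agent.Lib.Helper35

theorem s11c811 : allBelow (fun k => fs11 (Nat.add (Nat.succ 253533) k)) 277 = true := by decide +kernel
theorem s11c812 : allBelow (fun k => fs11 (Nat.add (Nat.succ 253810) k)) 274 = true := by decide +kernel
theorem s11c813 : allBelow (fun k => fs11 (Nat.add (Nat.succ 254084) k)) 282 = true := by decide +kernel
theorem s11c814 : allBelow (fun k => fs11 (Nat.add (Nat.succ 254366) k)) 279 = true := by decide +kernel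
theorem s11c815 : allBelow (fun k => fs11 (Nat.add (Nat.succ 254645) k)) 267 = true := by decide +kernel
theorem s11c816 : allBelow (fun k => fs11 (Nat.add (Nat.succ 254912) k)) 276 = true := by decide +kernel
theorem s11c817 : allBelow (fun k => fs11 (Nat.add (Nat.succ 255188) k)) 289 = true := by decide +kernel
theorem s11c818 : allBelow (fun k => fs11 (Nat.add (Nat.succ 255477) k)) 287 = true := by decide +kernel
theorem s11c819 : allBelow (fun k => fs11 (Nat.add (Nat.succ 255764) k)) 264 = true := by decide +kernel
theorem s11c820 : allBelow (fun k => fs11 (Nat.add (Nat.succ 256028) k)) 265 = true := by decide +kernel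
theorem s11c821 : allBelow (fun k => fs11 (Nat.add (Nat.succ 256293) k)) 271 = true := by decide +kernel
theorem s11c822 : allBelow (fun k => fs11 (Nat.add (Nat.succ 256564) k)) 254 = true := by decide +kernel
theorem s11c823 : allBelow (fun k => fs11 (Nat.add (Nat.succ 256818) k)) 261 = true := by decide +kernel
theorem s11c824 : allBelow (fun k => fs11 (Nat.add (Nat.succ 257079) k)) 270 = true := by decide +kernel
theorem s11c825 : allBelow (fun k => fs11 (Nat.add (Nat.succ 257349) k)) 274 = true := by decide +kernel
theorem s11c826 : allBelow (fun k => fs11 (Nat.add (Nat.succ 257623) k)) 281 = true := by decide +kernel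
theorem s11c827 : allBelow (fun k => fs11 (Nat.add (Nat.succ 257904) k)) 266 = true := by decide +kernel
theorem s11c828 : allBelow (fun k => fs11 (Nat.add (Nat.succ 258170) k)) 276 = true := by decide +kernel
theorem s11c829 : allBelow (fun k => fs11 (Nat.add (Nat.succ 258446) k)) 260 = true := by decide +kernel
theorem s11c830 : allBelow (fun k => fs11 (Nat.add (Nat.succ 258706) k)) 281 = true := by decide +kernel
theorem s11c831 : allBelow (fun k => fs11 (Nat.add (Nat.succ 258987) k)) 270 = true := by decide +kernel
theorem s11c832 : allBelow (fun k => fs11 (Nat.add (Nat.succ 259257) k)) 264 = true := by decide +kernel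
theorem s11c833 : allBelow (fun k => fs11 (Nat.add (Nat.succ 259521) k)) 267 = true := by decide +kernel
theorem s11c834 : allBelow (fun k => fs11 (Nat.add (Nat.succ 259788) k)) 259 = true := by decide +kernel
theorem s11c835 : allBelow (fun k => fs11 (Nat.add (Nat.succ 260047) k)) 279 = true := by decide +kernel
theorem s11c836 : allBelow (fun k => fs11 (Nat.add (Nat.succ 260326) k)) 276 = true := by decide +kernel
theorem s11c837 : allBelow (fun k => fs11 (Nat.add (Nat.succ 260602) k)) 290 = true := by decide +kernel
theorem s11c838 : allBelow (fun k => fs11 (Nat.add (Nat.succ 260892) k)) 276 = true := by decide +kernel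
theorem s11c839 : allBelow (fun k => fs11 (Nat.add (Nat.succ 261168) k)) 275 = true := by decide +kernel
theorem s11c840 : allBelow (fun k => fs11 (Nat.add (Nat.succ 261443) k)) 264 = true := by decide +kernel
theorem s11c841 : allBelow (fun k => fs11 (Nat.add (Nat.succ 261707) k)) 284 = true := by decide +kernel
theorem s11c842 : allBelow (fun k => fs11 (Nat.add (Nat.succ 261991) k)) 274 = true := by decide +kernel
theorem s11c843 : allBelow (fun k => fs11 (Nat.add (Nat.succ 262265) k)) 286 = true := by decide +kernel
theorem s11c844 : allBelow (fun k => fs11 (Nat.add (Nat.succ 262551) k)) 288 = true := by decide +kernel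
theorem s11c845 : allBelow (fun k => fs11 (Nat.add (Nat.succ 262839) k)) 272 = true := by decide +kernel
theorem s11c846 : allBelow (fun k => fs11 (Nat.add (Nat.succ 263111) k)) 272 = true := by decide +kernel
theorem s11c847 : allBelow (fun k => fs11 (Nat.add (Nat.succ 263383) k)) 289 = true := by decide +kernel
theorem s11c848 : allBelow (fun k => fs11 (Nat.add (Nat.succ 263672) k)) 276 = true := by decide +kernel
theorem s11c849 : allBelow (fun k => fs11 (Nat.add (Nat.succ 263948) k)) 276 = true := by decide +kernel
theorem s11c850 : allBelow (fun k => fs11 (Nat.add (Nat.succ 264224) k)) 271 = true := by decide +kernel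
theorem s11c851 : allBelow (fun k => fs11 (Nat.add (Nat.succ 264495) k)) 284 = true := by decide +kernel
theorem s11c852 : allBelow (fun k => fs11 (Nat.add (Nat.succ 264779) k)) 288 = true := by decide +kernel
theorem s11c853 : allBelow (fun k => fs11 (Nat.add (Nat.succ 265067) k)) 284 = true := by decide +kernel
theorem s11c854 : allBelow (fun k => fs11 (Nat.add (Nat.succ 265351) k)) 283 = true := by decide +kernel
theorem s11c855 : allBelow (fun k => fs11 (Nat.add (Nat.succ 265634) k)) 297 = true := by decide +kernel
theorem s11c856 : allBelow (fun k => fs11 (Nat.add (Nat.succ 265931) k)) 287 = true := by decide +kernel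
theorem s11c857 : allBelow (fun k => fs11 (Nat.add (Nat.succ 266218) k)) 275 = true := by decide +kernel
theorem s11c858 : allBelow (fun k => fs11 (Nat.add (Nat.succ 266493) k)) 276 = true := by decide +kernel
theorem s11c859 : allBelow (fun k => fs11 (Nat.add (Nat.succ 266769) k)) 285 = true := by decide +kernel
theorem s11c860 : allBelow (fun k => fs11 (Nat.add (Nat.succ 267054) k)) 286 = true := by decide +kernel
theorem s11c861 : allBelow (fun k => fs11 (Nat.add (Nat.succ 267340) k)) 277 = true := by decide +kernel
theorem s11c862 : allBelow (fun k => fs11 (Nat.add (Nat.succ 267617) k)) 282 = true := by decide +kernel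
theorem s11c863 : allBelow (fun k => fs11 (Nat.add (Nat.succ 267899) k)) 264 = true := by decide +kernel
theorem s11c864 : allBelow (fun k => fs11 (Nat.add (Nat.succ 268163) k)) 291 = true := by decide +kernel
theorem s11c865 : allBelow (fun k => fs11 (Nat.add (Nat.succ 268454) k)) 296 = true := by decide +kernel
theorem s11c866 : allBelow (fun k => fs11 (Nat.add (Nat.succ 268750) k)) 283 = true := by decide +kernel
theorem s11c867 : allBelow (fun k => fs11 (Nat.add (Nat.succ 269033) k)) 282 = true := by decide +kernel
theorem s11c868 : allBelow (fun k => fs11 (Nat.add (Nat.succ 269315) k)) 269 = true := by decide +kernel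
theorem s11c869 : allBelow (fun k => fs11 (Nat.add (Nat.succ 269584) k)) 272 = true := by decide +kernel
theorem s11c870 : allBelow (fun k => fs11 (Nat.add (Nat.succ 269856) k)) 272 = true := by decide +kernel
theorem s11c871 : allBelow (fun k => fs11 (Nat.add (Nat.succ 270128) k)) 283 = true := by decide +kernel
theorem s11c872 : allBelow (fun k => fs11 (Nat.add (Nat.succ 270411) k)) 264 = true := by decide +kernel
theorem s11c873 : allBelow (fun k => fs11 (Nat.add (Nat.succ 270675) k)) 275 = true := by decide +kernel
theorem s11c874 : allBelow (fun k => fs11 (Nat.add (Nat.succ 270950) k)) 262 = true := by decide +kernel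
theorem s11c875 : allBelow (fun k => fs11 (Nat.add (Nat.succ 271212) k)) 250 = true := by decide +kernel
theorem s11c876 : allBelow (fun k => fs11 (Nat.add (Nat.succ 271462) k)) 259 = true := by decide +kernel
theorem s11c877 : allBelow (fun k => fs11 (Nat.add (Nat.succ 271721) k)) 259 = true := by decide +kernel
theorem s11c878 : allBelow (fun k => fs11 (Nat.add (Nat.succ 271980) k)) 267 = true := by decide +kernel
theorem s11c879 : allBelow (fun k => fs11 (Nat.add (Nat.succ 272247) k)) 266 = true := by decide +kernel
theorem s11c880 : allBelow (fun k => fs11 (Nat.add (Nat.succ 272513) k)) 266 = true := by decide +kernel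
theorem s11c881 : allBelow (fun k => fs11 (Nat.add (Nat.succ 272779) k)) 266 = true := by decide +kernel
theorem s11c882 : allBelow (fun k => fs11 (Nat.add (Nat.succ 273045) k)) 260 = true := by decide +kernel
theorem s11c883 : allBelow (fun k => fs11 (Nat.add (Nat.succ 273305) k)) 268 = true := by decide +kernel
theorem s11c884 : allBelow (fun k => fs11 (Nat.add (Nat.succ 273573) k)) 269 = true := by decide +kernel
theorem s11c885 : allBelow (fun k => fs11 (Nat.add (Nat.succ 273842) k)) 251 = true := by decide +kernel
theorem s11c886 : allBelow (fun k => fs11 (Nat.add (Nat.succ 274093) k)) 268 = true := by decide +kernel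
theorem s11c887 : allBelow (fun k => fs11 (Nat.add (Nat.succ 274361) k)) 263 = true := by decide +kernel
theorem s11c888 : allBelow (fun k => fs11 (Nat.add (Nat.succ 274624) k)) 253 = true := by decide +kernel
theorem s11c889 : allBelow (fun k => fs11 (Nat.add (Nat.succ 274877) k)) 251 = true := by decide +kernel
theorem s11c890 : allBelow (fun k => fs11 (Nat.add (Nat.succ 275128) k)) 262 = true := by decide +kernel
theorem s11c891 : allBelow (fun k => fs11 (Nat.add (Nat.succ 275390) k)) 262 = true := by decide +kernel
theorem s11c892 : allBelow (fun k => fs11 (Nat.add (Nat.succ 275652) k)) 272 = true := by decide +kernel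
theorem s11c893 : allBelow (fun k => fs11 (Nat.add (Nat.succ 275924) k)) 269 = true := by decide +kernel
theorem s11c894 : allBelow (fun k => fs11 (Nat.add (Nat.succ 276193) k)) 278 = true := by decide +kernel
theorem s11c895 : allBelow (fun k => fs11 (Nat.add (Nat.succ 276471) k)) 263 = true := by decide +kernel
theorem s11c896 : allBelow (fun k => fs11 (Nat.add (Nat.succ 276734) k)) 255 = true := by decide +kernel
theorem s11c897 : allBelow (fun k => fs11 (Nat.add (Nat.succ 276989) k)) 269 = true := by decide +kernel
theorem s11c898 : allBelow (fun k => fs11 (Nat.add (Nat.succ 277258) k)) 270 = true := by decide +kernel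
theorem s11c899 : allBelow (fun k => fs11 (Nat.add (Nat.succ 277528) k)) 267 = true := by decide +kernel
theorem s11c900 : allBelow (fun k => fs11 (Nat.add (Nat.succ 277795) k)) 260 = true := by decide +kernel
theorem s11c901 : allBelow (fun k => fs11 (Nat.add (Nat.succ 278055) k)) 275 = true := by decide +kernel
theorem s11c902 : allBelow (fun k => fs11 (Nat.add (Nat.succ 278330) k)) 266 = true := by decide +kernel
theorem s11c903 : allBelow (fun k => fs11 (Nat.add (Nat.succ 278596) k)) 285 = true := by decide +kernel
theorem s11c904 : allBelow (fun k => fs11 (Nat.add (Nat.succ 278881) k)) 268 = true := by decide +kernel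
theorem s11c905 : allBelow (fun k => fs11 (Nat.add (Nat.succ 279149) k)) 267 = true := by decide +kernel
theorem s11c906 : allBelow (fun k => fs11 (Nat.add (Nat.succ 279416) k)) 266 = true := by decide +kernel
theorem s11c907 : allBelow (fun k => fs11 (Nat.add (Nat.succ 279682) k)) 282 = true := by decide +kernel
theorem s11c908 : allBelow (fun k => fs11 (Nat.add (Nat.succ 279964) k)) 261 = true := by decide +kernel
theorem s11c909 : allBelow (fun k => fs11 (Nat.add (Nat.succ 280225) k)) 265 = true := by decide +kernel
theorem s11c910 : allBelow (fun k => fs11 (Nat.add (Nat.succ 280490) k)) 274 = true := by decide +kernel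
theorem s11c911 : allBelow (fun k => fs11 (Nat.add (Nat.succ 280764) k)) 274 = true := by decide +kernel
theorem s11c912 : allBelow (fun k => fs11 (Nat.add (Nat.succ 281038) k)) 281 = true := by decide +kernel
theorem s11c913 : allBelow (fun k => fs11 (Nat.add (Nat.succ 281319) k)) 268 = true := by decide +kernel
theorem s11c914 : allBelow (fun k => fs11 (Nat.add (Nat.succ 281587) k)) 263 = true := by decide +kernel
theorem s11c915 : allBelow (fun k => fs11 (Nat.add (Nat.succ 281850) k)) 260 = true := by decide +kernel
theorem s11c916 : allBelow (fun k => fs11 (Nat.add (Nat.succ 282110) k)) 256 = true := by decide +kernel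
theorem s11c917 : allBelow (fun k => fs11 (Nat.add (Nat.succ 282366) k)) 254 = true := by decide +kernel
theorem s11c918 : allBelow (fun k => fs11 (Nat.add (Nat.succ 282620) k)) 266 = true := by decide +kernel
theorem s11c919 : allBelow (fun k => fs11 (Nat.add (Nat.succ 282886) k)) 279 = true := by decide +kernel
theorem s11c920 : allBelow (fun k => fs11 (Nat.add (Nat.succ 283165) k)) 277 = true := by decide +kernel
theorem s11c921 : allBelow (fun k => fs11 (Nat.add (Nat.succ 283442) k)) 262 = true := by decide +kernel
theorem s11c922 : allBelow (fun k => fs11 (Nat.add (Nat.succ 283704) k)) 260 = true := by decide +kernel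
theorem s11c923 : allBelow (fun k => fs11 (Nat.add (Nat.succ 283964) k)) 272 = true := by decide +kernel
theorem s11c924 : allBelow (fun k => fs11 (Nat.add (Nat.succ 284236) k)) 264 = true := by decide +kernel
theorem s11c925 : allBelow (fun k => fs11 (Nat.add (Nat.succ 284500) k)) 279 = true := by decide +kernel
theorem s11c926 : allBelow (fun k => fs11 (Nat.add (Nat.succ 284779) k)) 267 = true := by decide +kernel
theorem s11c927 : allBelow (fun k => fs11 (Nat.add (Nat.succ 285046) k)) 254 = true := by decide +kernel
theorem s11c928 : allBelow (fun k => fs11 (Nat.add (Nat.succ 285300) k)) 256 = true := by decide +kernel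
theorem s11c929 : allBelow (fun k => fs11 (Nat.add (Nat.succ 285556) k)) 261 = true := by decide +kernel
theorem s11c930 : allBelow (fun k => fs11 (Nat.add (Nat.succ 285817) k)) 275 = true := by decide +kernel
theorem s11c931 : allBelow (fun k => fs11 (Nat.add (Nat.succ 286092) k)) 288 = true := by decide +kernel
theorem s11c932 : allBelow (fun k => fs11 (Nat.add (Nat.succ 286380) k)) 268 = true := by decide +kernel
theorem s11c933 : allBelow (fun k => fs11 (Nat.add (Nat.succ 286648) k)) 267 = true := by decide +kernel
theorem s11c934 : allBelow (fun k => fs11 (Nat.add (Nat.succ 286915) k)) 270 = true := by decide +kernel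
theorem s11c935 : allBelow (fun k => fs11 (Nat.add (Nat.succ 287185) k)) 257 = true := by decide +kernel
theorem s11c936 : allBelow (fun k => fs11 (Nat.add (Nat.succ 287442) k)) 285 = true := by decide +kernel
theorem s11c937 : allBelow (fun k => fs11 (Nat.add (Nat.succ 287727) k)) 273 = true := by decide +kernel
theorem s11c938 : allBelow (fun k => fs11 (Nat.add (Nat.succ 288000) k)) 274 = true := by decide +kernel
theorem s11c939 : allBelow (fun k => fs11 (Nat.add (Nat.succ 288274) k)) 290 = true := by decide +kernel
theorem s11c940 : allBelow (fun k => fs11 (Nat.add (Nat.succ 288564) k)) 273 = true := by decide +kernel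
theorem s11c941 : allBelow (fun k => fs11 (Nat.add (Nat.succ 288837) k)) 260 = true := by decide +kernel
theorem s11c942 : allBelow (fun k => fs11 (Nat.add (Nat.succ 289097) k)) 274 = true := by decide +kernel
theorem s11c943 : allBelow (fun k => fs11 (Nat.add (Nat.succ 289371) k)) 264 = true := by decide +kernel
theorem s11c944 : allBelow (fun k => fs11 (Nat.add (Nat.succ 289635) k)) 274 = true := by decide +kernel
theorem s11c945 : allBelow (fun k => fs11 (Nat.add (Nat.succ 289909) k)) 267 = true := by decide +kernel
theorem s11c946 : allBelow (fun k => fs11 (Nat.add (Nat.succ 290176) k)) 281 = true := by decide +kernel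
theorem s11c947 : allBelow (fun k => fs11 (Nat.add (Nat.succ 290457) k)) 280 = true := by decide +kernel
theorem s11c948 : allBelow (fun k => fs11 (Nat.add (Nat.succ 290737) k)) 281 = true := by decide +kernel
theorem s11c949 : allBelow (fun k => fs11 (Nat.add (Nat.succ 291018) k)) 278 = true := by decide +kernel
theorem s11c950 : allBelow (fun k => fs11 (Nat.add (Nat.succ 291296) k)) 283 = true := by decide +kernel
theorem s11c951 : allBelow (fun k => fs11 (Nat.add (Nat.succ 291579) k)) 285 = true := by decide +kernel
theorem s11c952 : allBelow (fun k => fs11 (Nat.add (Nat.succ 291864) k)) 267 = true := by decide +kernel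
theorem s11c953 : allBelow (fun k => fs11 (Nat.add (Nat.succ 292131) k)) 273 = true := by decide +kernel
theorem s11c954 : allBelow (fun k => fs11 (Nat.add (Nat.succ 292404) k)) 284 = true := by decide +kernel
theorem s11c955 : allBelow (fun k => fs11 (Nat.add (Nat.succ 292688) k)) 269 = true := by decide +kernel
theorem s11c956 : allBelow (fun k => fs11 (Nat.add (Nat.succ 292957) k)) 270 = true := by decide +kernel
theorem s11c957 : allBelow (fun k => fs11 (Nat.add (Nat.succ 293227) k)) 271 = true := by decide +kernel
theorem s11c958 : allBelow (fun k => fs11 (Nat.add (Nat.succ 293498) k)) 283 = true := by decide +kernel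
theorem s11c959 : allBelow (fun k => fs11 (Nat.add (Nat.succ 293781) k)) 291 = true := by decide +kernel
theorem s11c960 : allBelow (fun k => fs11 (Nat.add (Nat.succ 294072) k)) 280 = true := by decide +kernel
theorem s11c961 : allBelow (fun k => fs11 (Nat.add (Nat.succ 294352) k)) 274 = true := by decide +kernel
theorem s11c962 : allBelow (fun k => fs11 (Nat.add (Nat.succ 294626) k)) 269 = true := by decide +kernel
theorem s11c963 : allBelow (fun k => fs11 (Nat.add (Nat.succ 294895) k)) 271 = true := by decide +kernel
theorem s11c964 : allBelow (fun k => fs11 (Nat.add (Nat.succ 295166) k)) 282 = true := by decide +kernel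
theorem s11c965 : allBelow (fun k => fs11 (Nat.add (Nat.succ 295448) k)) 262 = true := by decide +kernel
theorem s11c966 : allBelow (fun k => fs11 (Nat.add (Nat.succ 295710) k)) 271 = true := by decide +kernel
theorem s11c967 : allBelow (fun k => fs11 (Nat.add (Nat.succ 295981) k)) 267 = true := by decide +kernel
theorem s11c968 : allBelow (fun k => fs11 (Nat.add (Nat.succ 296248) k)) 248 = true := by decide +kernel
theorem s11c969 : allBelow (fun k => fs11 (Nat.add (Nat.succ 296496) k)) 267 = true := by decide +kernel
theorem s11c970 : allBelow (fun k => fs11 (Nat.add (Nat.succ 296763) k)) 266 = true := by decide +kernel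
theorem s11c971 : allBelow (fun k => fs11 (Nat.add (Nat.succ 297029) k)) 267 = true := by decide +kernel
theorem s11c972 : allBelow (fun k => fs11 (Nat.add (Nat.succ 297296) k)) 259 = true := by decide +kernel
theorem s11c973 : allBelow (fun k => fs11 (Nat.add (Nat.succ 297555) k)) 264 = true := by decide +kernel
theorem s11c974 : allBelow (fun k => fs11 (Nat.add (Nat.succ 297819) k)) 265 = true := by decide +kernel
theorem s11c975 : allBelow (fun k => fs11 (Nat.add (Nat.succ 298084) k)) 257 = true := by decide +kernel
theorem s11c976 : allBelow (fun k => fs11 (Nat.add (Nat.succ 298341) k)) 260 = true := by decide +kernel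
theorem s11c977 : allBelow (fun k => fs11 (Nat.add (Nat.succ 298601) k)) 254 = true := by decide +kernel
theorem s11c978 : allBelow (fun k => fs11 (Nat.add (Nat.succ 298855) k)) 253 = true := by decide +kernel
theorem s11c979 : allBelow (fun k => fs11 (Nat.add (Nat.succ 299108) k)) 252 = true := by decide +kernel
theorem s11c980 : allBelow (fun k => fs11 (Nat.add (Nat.succ 299360) k)) 268 = true := by decide +kernel
theorem s11c981 : allBelow (fun k => fs11 (Nat.add (Nat.succ 299628) k)) 253 = true := by decide +kernel
theorem s11c982 : allBelow (fun k => fs11 (Nat.add (Nat.succ 299881) k)) 244 = true := by decide +kernel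
theorem s11c983 : allBelow (fun k => fs11 (Nat.add (Nat.succ 300125) k)) 258 = true := by decide +kernel
theorem s11c984 : allBelow (fun k => fs11 (Nat.add (Nat.succ 300383) k)) 250 = true := by decide +kernel
theorem s11c985 : allBelow (fun k => fs11 (Nat.add (Nat.succ 300633) k)) 265 = true := by decide +kernel
theorem s11c986 : allBelow (fun k => fs11 (Nat.add (Nat.succ 300898) k)) 261 = true := by decide +kernel
theorem s11c987 : allBelow (fun k => fs11 (Nat.add (Nat.succ 301159) k)) 253 = true := by decide +kernel
theorem s11c988 : allBelow (fun k => fs11 (Nat.add (Nat.succ 301412) k)) 261 = true := by decide +kernel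
theorem s11c989 : allBelow (fun k => fs11 (Nat.add (Nat.succ 301673) k)) 266 = true := by decide +kernel
theorem s11c990 : allBelow (fun k => fs11 (Nat.add (Nat.succ 301939) k)) 260 = true := by decide +kernel
theorem s11c991 : allBelow (fun k => fs11 (Nat.add (Nat.succ 302199) k)) 268 = true := by decide +kernel
theorem s11c992 : allBelow (fun k => fs11 (Nat.add (Nat.succ 302467) k)) 268 = true := by decide +kernel
theorem s11c993 : allBelow (fun k => fs11 (Nat.add (Nat.succ 302735) k)) 261 = true := by decide +kernel
theorem s11c994 : allBelow (fun k => fs11 (Nat.add (Nat.succ 302996) k)) 252 = true := by decide +kernel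
theorem s11c995 : allBelow (fun k => fs11 (Nat.add (Nat.succ 303248) k)) 260 = true := by decide +kernel
theorem s11c996 : allBelow (fun k => fs11 (Nat.add (Nat.succ 303508) k)) 274 = true := by decide +kernel
theorem s11c997 : allBelow (fun k => fs11 (Nat.add (Nat.succ 303782) k)) 258 = true := by decide +kernel
theorem s11c998 : allBelow (fun k => fs11 (Nat.add (Nat.succ 304040) k)) 266 = true := by decide +kernel
theorem s11c999 : allBelow (fun k => fs11 (Nat.add (Nat.succ 304306) k)) 271 = true := by decide +kernel
theorem s11c1000 : allBelow (fun k => fs11 (Nat.add (Nat.succ 304577) k)) 270 = true := by decide +kernel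
theorem s11c1001 : allBelow (fun k => fs11 (Nat.add (Nat.succ 304847) k)) 258 = true := by decide +kernel
theorem s11c1002 : allBelow (fun k => fs11 (Nat.add (Nat.succ 305105) k)) 263 = true := by decide +kernel
theorem s11c1003 : allBelow (fun k => fs11 (Nat.add (Nat.succ 305368) k)) 273 = true := by decide +kernel
theorem s11c1004 : allBelow (fun k => fs11 (Nat.add (Nat.succ 305641) k)) 271 = true := by decide +kernel
theorem s11c1005 : allBelow (fun k => fs11 (Nat.add (Nat.succ 305912) k)) 269 = true := by decide +kernel
theorem s11c1006 : allBelow (fun k => fs11 (Nat.add (Nat.succ 306181) k)) 255 = true := by decide +kernel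
theorem s11c1007 : allBelow (fun k => fs11 (Nat.add (Nat.succ 306436) k)) 256 = true := by decide +kernel
theorem s11c1008 : allBelow (fun k => fs11 (Nat.add (Nat.succ 306692) k)) 257 = true := by decide +kernel
theorem s11c1009 : allBelow (fun k => fs11 (Nat.add (Nat.succ 306949) k)) 251 = true := by decide +kernel
theorem s11c1010 : allBelow (fun k => fs11 (Nat.add (Nat.succ 307200) k)) 268 = true := by decide +kernel
theorem s11c1011 : allBelow (fun k => fs11 (Nat.add (Nat.succ 307468) k)) 271 = true := by decide +kernel
theorem s11c1012 : allBelow (fun k => fs11 (Nat.add (Nat.succ 307739) k)) 272 = true := by decide +kernel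
theorem s11c1013 : allBelow (fun k => fs11 (Nat.add (Nat.succ 308011) k)) 253 = true := by decide +kernel
theorem s11c1014 : allBelow (fun k => fs11 (Nat.add (Nat.succ 308264) k)) 256 = true := by decide +kernel
theorem s11c1015 : allBelow (fun k => fs11 (Nat.add (Nat.succ 308520) k)) 267 = true := by decide +kernel
theorem s11c1016 : allBelow (fun k => fs11 (Nat.add (Nat.succ 308787) k)) 272 = true := by decide +kernel
theorem s11c1017 : allBelow (fun k => fs11 (Nat.add (Nat.succ 309059) k)) 266 = true := by decide +kernel
theorem s11c1018 : allBelow (fun k => fs11 (Nat.add (Nat.succ 309325) k)) 250 = true := by decide +kernel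
theorem s11c1019 : allBelow (fun k => fs11 (Nat.add (Nat.succ 309575) k)) 250 = true := by decide +kernel
theorem s11c1020 : allBelow (fun k => fs11 (Nat.add (Nat.succ 309825) k)) 267 = true := by decide +kernel
theorem s11c1021 : allBelow (fun k => fs11 (Nat.add (Nat.succ 310092) k)) 262 = true := by decide +kernel
theorem s11c1022 : allBelow (fun k => fs11 (Nat.add (Nat.succ 310354) k)) 288 = true := by decide +kernel
theorem s11c1023 : allBelow (fun k => fs11 (Nat.add (Nat.succ 310642) k)) 268 = true := by decide +kernel
theorem s11c1024 : allBelow (fun k => fs11 (Nat.add (Nat.succ 310910) k)) 252 = true := by decide +kernel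
theorem s11c1025 : allBelow (fun k => fs11 (Nat.add (Nat.succ 311162) k)) 264 = true := by decide +kernel
theorem s11c1026 : allBelow (fun k => fs11 (Nat.add (Nat.succ 311426) k)) 272 = true := by decide +kernel
theorem s11c1027 : allBelow (fun k => fs11 (Nat.add (Nat.succ 311698) k)) 283 = true := by decide +kernel
theorem s11c1028 : allBelow (fun k => fs11 (Nat.add (Nat.succ 311981) k)) 268 = true := by decide +kernel
theorem s11c1029 : allBelow (fun k => fs11 (Nat.add (Nat.succ 312249) k)) 283 = true := by decide +kernel
theorem s11c1030 : allBelow (fun k => fs11 (Nat.add (Nat.succ 312532) k)) 269 = true := by decide +kernel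
theorem s11c1031 : allBelow (fun k => fs11 (Nat.add (Nat.succ 312801) k)) 249 = true := by decide +kernel
theorem s11c1032 : allBelow (fun k => fs11 (Nat.add (Nat.succ 313050) k)) 261 = true := by decide +kernel
theorem s11c1033 : allBelow (fun k => fs11 (Nat.add (Nat.succ 313311) k)) 182 = true := by decide +kernel
theorem s11c1034 : allBelow (fun k => fs11 (Nat.add (Nat.succ 313493) k)) 272 = true := by decide +kernel
theorem s11c1035 : allBelow (fun k => fs11 (Nat.add (Nat.succ 313765) k)) 277 = true := by decide +kernel
theorem s11c1036 : allBelow (fun k => fs11 (Nat.add (Nat.succ 314042) k)) 278 = true := by decide +kernel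
theorem s11c1037 : allBelow (fun k => fs11 (Nat.add (Nat.succ 314320) k)) 271 = true := by decide +kernel
theorem s11c1038 : allBelow (fun k => fs11 (Nat.add (Nat.succ 314591) k)) 274 = true := by decide +kernel
theorem s11c1039 : allBelow (fun k => fs11 (Nat.add (Nat.succ 314865) k)) 278 = true := by decide +kernel
theorem s11c1040 : allBelow (fun k => fs11 (Nat.add (Nat.succ 315143) k)) 263 = true := by decide +kernel
theorem s11c1041 : allBelow (fun k => fs11 (Nat.add (Nat.succ 315406) k)) 276 = true := by decide +kernel
theorem s11c1042 : allBelow (fun k => fs11 (Nat.add (Nat.succ 315682) k)) 272 = true := by decide +kernel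
theorem s11c1043 : allBelow (fun k => fs11 (Nat.add (Nat.succ 315954) k)) 263 = true := by decide +kernel
theorem s11c1044 : allBelow (fun k => fs11 (Nat.add (Nat.succ 316217) k)) 271 = true := by decide +kernel
theorem s11c1045 : allBelow (fun k => fs11 (Nat.add (Nat.succ 316488) k)) 285 = true := by decide +kernel
theorem s11c1046 : allBelow (fun k => fs11 (Nat.add (Nat.succ 316773) k)) 274 = true := by decide +kernel
theorem s11c1047 : allBelow (fun k => fs11 (Nat.add (Nat.succ 317047) k)) 267 = true := by decide +kernel
theorem s11c1048 : allBelow (fun k => fs11 (Nat.add (Nat.succ 317314) k)) 275 = true := by decide +kernel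
theorem s11c1049 : allBelow (fun k => fs11 (Nat.add (Nat.succ 317589) k)) 274 = true := by decide +kernel
theorem s11c1050 : allBelow (fun k => fs11 (Nat.add (Nat.succ 317863) k)) 265 = true := by decide +kernel
theorem s11c1051 : allBelow (fun k => fs11 (Nat.add (Nat.succ 318128) k)) 274 = true := by decide +kernel
theorem s11c1052 : allBelow (fun k => fs11 (Nat.add (Nat.succ 318402) k)) 251 = true := by decide +kernel
theorem s11c1053 : allBelow (fun k => fs11 (Nat.add (Nat.succ 318653) k)) 267 = true := by decide +kernel
theorem s11c1054 : allBelow (fun k => fs11 (Nat.add (Nat.succ 318920) k)) 268 = true := by decide +kernel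
theorem s11c1055 : allBelow (fun k => fs11 (Nat.add (Nat.succ 319188) k)) 268 = true := by decide +kernel
theorem s11c1056 : allBelow (fun k => fs11 (Nat.add (Nat.succ 319456) k)) 255 = true := by decide +kernel
theorem s11c1057 : allBelow (fun k => fs11 (Nat.add (Nat.succ 319711) k)) 253 = true := by decide +kernel
theorem s11c1058 : allBelow (fun k => fs11 (Nat.add (Nat.succ 319964) k)) 264 = true := by decide +kernel
theorem s11c1059 : allBelow (fun k => fs11 (Nat.add (Nat.succ 320228) k)) 260 = true := by decide +kernel
theorem s11c1060 : allBelow (fun k => fs11 (Nat.add (Nat.succ 320488) k)) 213 = true := by decide +kernel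
theorem s11c1061 : allBelow (fun k => fs11 (Nat.add (Nat.succ 320701) k)) 244 = true := by decide +kernel
theorem s11c1062 : allBelow (fun k => fs11 (Nat.add (Nat.succ 320945) k)) 247 = true := by decide +kernel
theorem s11c1063 : allBelow (fun k => fs11 (Nat.add (Nat.succ 321192) k)) 240 = true := by decide +kernel
theorem s11c1064 : allBelow (fun k => fs11 (Nat.add (Nat.succ 321432) k)) 271 = true := by decide +kernel
theorem s11c1065 : allBelow (fun k => fs11 (Nat.add (Nat.succ 321703) k)) 252 = true := by decide +kernel
theorem s11c1066 : allBelow (fun k => fs11 (Nat.add (Nat.succ 321955) k)) 245 = true := by decide +kernel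
theorem s11c1067 : allBelow (fun k => fs11 (Nat.add (Nat.succ 322200) k)) 214 = true := by decide +kernel
theorem s11c1068 : allBelow (fun k => fs11 (Nat.add (Nat.succ 322414) k)) 213 = true := by decide +kernel
theorem s11c1069 : allBelow (fun k => fs11 (Nat.add (Nat.succ 322627) k)) 252 = true := by decide +kernel
theorem s11c1070 : allBelow (fun k => fs11 (Nat.add (Nat.succ 322879) k)) 251 = true := by decide +kernel
theorem s11c1071 : allBelow (fun k => fs11 (Nat.add (Nat.succ 323130) k)) 261 = true := by decide +kernel
theorem s11c1072 : allBelow (fun k => fs11 (Nat.add (Nat.succ 323391) k)) 260 = true := by decide +kernel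
theorem s11c1073 : allBelow (fun k => fs11 (Nat.add (Nat.succ 323651) k)) 254 = true := by decide +kernel
theorem s11c1074 : allBelow (fun k => fs11 (Nat.add (Nat.succ 323905) k)) 268 = true := by decide +kernel
theorem s11c1075 : allBelow (fun k => fs11 (Nat.add (Nat.succ 324173) k)) 270 = true := by decide +kernel
theorem s11c1076 : allBelow (fun k => fs11 (Nat.add (Nat.succ 324443) k)) 249 = true := by decide +kernel
theorem s11c1077 : allBelow (fun k => fs11 (Nat.add (Nat.succ 324692) k)) 254 = true := by decide +kernel
theorem s11c1078 : allBelow (fun k => fs11 (Nat.add (Nat.succ 324946) k)) 263 = true := by decide +kernel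
theorem s11c1079 : allBelow (fun k => fs11 (Nat.add (Nat.succ 325209) k)) 253 = true := by decide +kernel
theorem s11c1080 : allBelow (fun k => fs11 (Nat.add (Nat.succ 325462) k)) 263 = true := by decide +kernel
theorem s11c1081 : allBelow (fun k => fs11 (Nat.add (Nat.succ 325725) k)) 223 = true := by decide +kernel
theorem s11c1082 : allBelow (fun k => fs11 (Nat.add (Nat.succ 325948) k)) 258 = true := by decide +kernel
theorem s11c1083 : allBelow (fun k => fs11 (Nat.add (Nat.succ 326206) k)) 260 = true := by decide +kernel
theorem s11c1084 : allBelow (fun k => fs11 (Nat.add (Nat.succ 326466) k)) 271 = true := by decide +kernel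
theorem s11c1085 : allBelow (fun k => fs11 (Nat.add (Nat.succ 326737) k)) 256 = true := by decide +kernel
theorem s11c1086 : allBelow (fun k => fs11 (Nat.add (Nat.succ 326993) k)) 247 = true := by decide +kernel
theorem s11c1087 : allBelow (fun k => fs11 (Nat.add (Nat.succ 327240) k)) 257 = true := by decide +kernel
theorem s11c1088 : allBelow (fun k => fs11 (Nat.add (Nat.succ 327497) k)) 251 = true := by decide +kernel
theorem s11c1089 : allBelow (fun k => fs11 (Nat.add (Nat.succ 327748) k)) 272 = true := by decide +kernel
theorem s11c1090 : allBelow (fun k => fs11 (Nat.add (Nat.succ 328020) k)) 264 = true := by decide +kernel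
theorem s11c1091 : allBelow (fun k => fs11 (Nat.add (Nat.succ 328284) k)) 248 = true := by decide +kernel
theorem s11c1092 : allBelow (fun k => fs11 (Nat.add (Nat.succ 328532) k)) 215 = true := by decide +kernel
theorem s11c1093 : allBelow (fun k => fs11 (Nat.add (Nat.succ 328747) k)) 270 = true := by decide +kernel
theorem s11c1094 : allBelow (fun k => fs11 (Nat.add (Nat.succ 329017) k)) 270 = true := by decide +kernel
theorem s11c1095 : allBelow (fun k => fs11 (Nat.add (Nat.succ 329287) k)) 216 = true := by decide +kernel
theorem s11c1096 : allBelow (fun k => fs11 (Nat.add (Nat.succ 329503) k)) 220 = true := by decide +kernel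
theorem s11c1097 : allBelow (fun k => fs11 (Nat.add (Nat.succ 329723) k)) 226 = true := by decide +kernel
theorem s11c1098 : allBelow (fun k => fs11 (Nat.add (Nat.succ 329949) k)) 281 = true := by decide +kernel
theorem s11c1099 : allBelow (fun k => fs11 (Nat.add (Nat.succ 330230) k)) 224 = true := by decide +kernel
theorem s11c1100 : allBelow (fun k => fs11 (Nat.add (Nat.succ 330454) k)) 254 = true := by decide +kernel
theorem s11c1101 : allBelow (fun k => fs11 (Nat.add (Nat.succ 330708) k)) 263 = true := by decide +kernel
theorem s11c1102 : allBelow (fun k => fs11 (Nat.add (Nat.succ 330971) k)) 283 = true := by decide +kernel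
theorem s11c1103 : allBelow (fun k => fs11 (Nat.add (Nat.succ 331254) k)) 225 = true := by decide +kernel
theorem s11c1104 : allBelow (fun k => fs11 (Nat.add (Nat.succ 331479) k)) 273 = true := by decide +kernel
theorem s11c1105 : allBelow (fun k => fs11 (Nat.add (Nat.succ 331752) k)) 262 = true := by decide +kernel
theorem s11c1106 : allBelow (fun k => fs11 (Nat.add (Nat.succ 332014) k)) 183 = true := by decide +kernel
theorem s11c1107 : allBelow (fun k => fs11 (Nat.add (Nat.succ 332197) k)) 215 = true := by decide +kernel
theorem s11c1108 : allBelow (fun k => fs11 (Nat.add (Nat.succ 332412) k)) 269 = true := by decide +kernel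
theorem s11c1109 : allBelow (fun k => fs11 (Nat.add (Nat.succ 332681) k)) 266 = true := by decide +kernel
theorem s11c1110 : allBelow (fun k => fs11 (Nat.add (Nat.succ 332947) k)) 269 = true := by decide +kernel
theorem s11c1111 : allBelow (fun k => fs11 (Nat.add (Nat.succ 333216) k)) 267 = true := by decide +kernel
theorem s11c1112 : allBelow (fun k => fs11 (Nat.add (Nat.succ 333483) k)) 270 = true := by decide +kernel
theorem s11c1113 : allBelow (fun k => fs11 (Nat.add (Nat.succ 333753) k)) 267 = true := by decide +kernel
theorem s11c1114 : allBelow (fun k => fs11 (Nat.add (Nat.succ 334020) k)) 258 = true := by decide +kernel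
theorem s11c1115 : allBelow (fun k => fs11 (Nat.add (Nat.succ 334278) k)) 231 = true := by decide +kernel
theorem s11c1116 : allBelow (fun k => fs11 (Nat.add (Nat.succ 334509) k)) 268 = true := by decide +kernel
theorem s11c1117 : allBelow (fun k => fs11 (Nat.add (Nat.succ 334777) k)) 272 = true := by decide +kernel
theorem s11c1118 : allBelow (fun k => fs11 (Nat.add (Nat.succ 335049) k)) 270 = true := by decide +kernel
theorem s11c1119 : allBelow (fun k => fs11 (Nat.add (Nat.succ 335319) k)) 262 = true := by decide +kernel
theorem s11c1120 : allBelow (fun k => fs11 (Nat.add (Nat.succ 335581) k)) 253 = true := by decide +kernel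
theorem s11c1121 : allBelow (fun k => fs11 (Nat.add (Nat.succ 335834) k)) 272 = true := by decide +kernel
theorem s11c1122 : allBelow (fun k => fs11 (Nat.add (Nat.succ 336106) k)) 264 = true := by decide +kernel
theorem s11c1123 : allBelow (fun k => fs11 (Nat.add (Nat.succ 336370) k)) 250 = true := by decide +kernel
theorem s11c1124 : allBelow (fun k => fs11 (Nat.add (Nat.succ 336620) k)) 252 = true := by decide +kernel
theorem s11c1125 : allBelow (fun k => fs11 (Nat.add (Nat.succ 336872) k)) 223 = true := by decide +kernel
theorem s11c1126 : allBelow (fun k => fs11 (Nat.add (Nat.succ 337095) k)) 251 = true := by decide +kernel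
theorem s11c1127 : allBelow (fun k => fs11 (Nat.add (Nat.succ 337346) k)) 170 = true := by decide +kernel
theorem s11c1128 : allBelow (fun k => fs11 (Nat.add (Nat.succ 337516) k)) 211 = true := by decide +kernel
theorem s11c1129 : allBelow (fun k => fs11 (Nat.add (Nat.succ 337727) k)) 251 = true := by decide +kernel

end Cfsg.Agent.Lib.Helper35.Fi24a
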