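import Cfsg.Agent.Lib.Helper35.Fi24a.Data

set_option Elab.async false

namespace Cfsg.Agent.Lib.Helper35.Fi24a

open Cfsg.Agent.Lib.Helper35

theorem s11c1130 : allBelow (fun k => fs11 (Nat.add (Nat.succ 337978) k)) 248 = true := by decide +kernel
theorem s11c1131 : allBelow (fun k => fs11 (Nat.add (Nat.succ 338226) k)) 208 = true := by decide +kernel
theorem s11c1132 : allBelow (fun k => fs11 (Nat.add (Nat.succ 338434) k)) 171 = true := by decide +kernel
theorem s11c1133 : allBelow (fun k => fs11 (Nat.add (Nat.succ 338605) k)) 213 = true := by decide +kernel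
theorem s11c1134 : allBelow (fun k => fs11 (Nat.add (Nat.succ 338818) k)) 192 = true := by decide +kernel
theorem s11c1135 : allBelow (fun k => fs11 (Nat.add (Nat.succ 339010) k)) 215 = true := by decide +kernel
theorem s11c1136 : allBelow (fun k => fs11 (Nat.add (Nat.succ 339225) k)) 258 = true := by decide +kernel
theorem s11c1137 : allBelow (fun k => fs11 (Nat.add (Nat.succ 339483) k)) 262 = true := by decide +kernel
theorem s11c1138 : allBelow (fun k => fs11 (Nat.add (Nat.succ 339745) k)) 268 = true := by decide +kernel
theorem s11c1139 : allBelow (fun k => fs11 (Nat.add (Nat.succ 340013) k)) 172 = true := by decide +kernel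
theorem s11c1140 : allBelow (fun k => fs11 (Nat.add (Nat.succ 340185) k)) 252 = true := by decide +kernel
theorem s11c1141 : allBelow (fun k => fs11 (Nat.add (Nat.succ 340437) k)) 269 = true := by decide +kernel
theorem s11c1142 : allBelow (fun k => fs11 (Nat.add (Nat.succ 340706) k)) 264 = true := by decide +kernel
theorem s11c1143 : allBelow (fun k => fs11 (Nat.add (Nat.succ 340970) k)) 264 = true := by decide +kernel
theorem s11c1144 : allBelow (fun k => fs11 (Nat.add (Nat.succ 341234) k)) 251 = true := by decide +kernel
theorem s11c1145 : allBelow (fun k => fs11 (Nat.add (Nat.succ 341485) k)) 249 = true := by decide +kernel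
theorem s11c1146 : allBelow (fun k => fs11 (Nat.add (Nat.succ 341734) k)) 258 = true := by decide +kernel
theorem s11c1147 : allBelow (fun k => fs11 (Nat.add (Nat.succ 341992) k)) 269 = true := by decide +kernel
theorem s11c1148 : allBelow (fun k => fs11 (Nat.add (Nat.succ 342261) k)) 265 = true := by decide +kernel
theorem s11c1149 : allBelow (fun k => fs11 (Nat.add (Nat.succ 342526) k)) 182 = true := by decide +kernel
theorem s11c1150 : allBelow (fun k => fs11 (Nat.add (Nat.succ 342708) k)) 231 = true := by decide +kernel
theorem s11c1151 : allBelow (fun k => fs11 (Nat.add (Nat.succ 342939) k)) 251 = true := by decide +kernel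
theorem s11c1152 : allBelow (fun k => fs11 (Nat.add (Nat.succ 343190) k)) 188 = true := by decide +kernel
theorem s11c1153 : allBelow (fun k => fs11 (Nat.add (Nat.succ 343378) k)) 271 = true := by decide +kernel
theorem s11c1154 : allBelow (fun k => fs11 (Nat.add (Nat.succ 343649) k)) 261 = true := by decide +kernel
theorem s11c1155 : allBelow (fun k => fs11 (Nat.add (Nat.succ 343910) k)) 267 = true := by decide +kernel
theorem s11c1156 : allBelow (fun k => fs11 (Nat.add (Nat.succ 344177) k)) 132 = true := by decide +kernel
theorem s11c1157 : allBelow (fun k => fs11 (Nat.add (Nat.succ 344309) k)) 139 = true := by decide +kernel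
theorem s11c1158 : allBelow (fun k => fs11 (Nat.add (Nat.succ 344448) k)) 265 = true := by decide +kernel
theorem s11c1159 : allBelow (fun k => fs11 (Nat.add (Nat.succ 344713) k)) 249 = true := by decide +kernel
theorem s11c1160 : allBelow (fun k => fs11 (Nat.add (Nat.succ 344962) k)) 256 = true := by decide +kernel
theorem s11c1161 : allBelow (fun k => fs11 (Nat.add (Nat.succ 345218) k)) 269 = true := by decide +kernel
theorem s11c1162 : allBelow (fun k => fs11 (Nat.add (Nat.succ 345487) k)) 266 = true := by decide +kernel
theorem s11c1163 : allBelow (fun k => fs11 (Nat.add (Nat.succ 345753) k)) 267 = true := by decide +kernel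
theorem s11c1164 : allBelow (fun k => fs11 (Nat.add (Nat.succ 346020) k)) 271 = true := by decide +kernel
theorem s11c1165 : allBelow (fun k => fs11 (Nat.add (Nat.succ 346291) k)) 260 = true := by decide +kernel
theorem s11c1166 : allBelow (fun k => fs11 (Nat.add (Nat.succ 346551) k)) 253 = true := by decide +kernel
theorem s11c1167 : allBelow (fun k => fs11 (Nat.add (Nat.succ 346804) k)) 271 = true := by decide +kernel
theorem s11c1168 : allBelow (fun k => fs11 (Nat.add (Nat.succ 347075) k)) 253 = true := by decide +kernel
theorem s11c1169 : allBelow (fun k => fs11 (Nat.add (Nat.succ 347328) k)) 139 = true := by decide +kernel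
theorem s11c1170 : allBelow (fun k => fs11 (Nat.add (Nat.succ 347467) k)) 255 = true := by decide +kernel
theorem s11c1171 : allBelow (fun k => fs11 (Nat.add (Nat.succ 347722) k)) 243 = true := by decide +kernel
theorem s11c1172 : allBelow (fun k => fs11 (Nat.add (Nat.succ 347965) k)) 249 = true := by decide +kernel
theorem s11c1173 : allBelow (fun k => fs11 (Nat.add (Nat.succ 348214) k)) 246 = true := by decide +kernel
theorem s11c1174 : allBelow (fun k => fs11 (Nat.add (Nat.succ 348460) k)) 207 = true := by decide +kernel
theorem s11c1175 : allBelow (fun k => fs11 (Nat.add (Nat.succ 348667) k)) 216 = true := by decide +kernel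
theorem s11c1176 : allBelow (fun k => fs11 (Nat.add (Nat.succ 348883) k)) 252 = true := by decide +kernel
theorem s11c1177 : allBelow (fun k => fs11 (Nat.add (Nat.succ 349135) k)) 261 = true := by decide +kernel
theorem s11c1178 : allBelow (fun k => fs11 (Nat.add (Nat.succ 349396) k)) 261 = true := by decide +kernel
theorem s11c1179 : allBelow (fun k => fs11 (Nat.add (Nat.succ 349657) k)) 220 = true := by decide +kernel
theorem s11c1180 : allBelow (fun k => fs11 (Nat.add (Nat.succ 349877) k)) 248 = true := by decide +kernel
theorem s11c1181 : allBelow (fun k => fs11 (Nat.add (Nat.succ 350125) k)) 212 = true := by decide +kernel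
theorem s11c1182 : allBelow (fun k => fs11 (Nat.add (Nat.succ 350337) k)) 267 = true := by decide +kernel
theorem s11c1183 : allBelow (fun k => fs11 (Nat.add (Nat.succ 350604) k)) 220 = true := by decide +kernel
theorem s11c1184 : allBelow (fun k => fs11 (Nat.add (Nat.succ 350824) k)) 223 = true := by decide +kernel
theorem s11c1185 : allBelow (fun k => fs11 (Nat.add (Nat.succ 351047) k)) 220 = true := by decide +kernel
theorem s11c1186 : allBelow (fun k => fs11 (Nat.add (Nat.succ 351267) k)) 262 = true := by decide +kernel
theorem s11c1187 : allBelow (fun k => fs11 (Nat.add (Nat.succ 351529) k)) 221 = true := by decide +kernel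
theorem s11c1188 : allBelow (fun k => fs11 (Nat.add (Nat.succ 351750) k)) 252 = true := by decide +kernel
theorem s11c1189 : allBelow (fun k => fs11 (Nat.add (Nat.succ 352002) k)) 263 = true := by decide +kernel
theorem s11c1190 : allBelow (fun k => fs11 (Nat.add (Nat.succ 352265) k)) 271 = true := by decide +kernel
theorem s11c1191 : allBelow (fun k => fs11 (Nat.add (Nat.succ 352536) k)) 251 = true := by decide +kernel
theorem s11c1192 : allBelow (fun k => fs11 (Nat.add (Nat.succ 352787) k)) 271 = true := by decide +kernel
theorem s11c1193 : allBelow (fun k => fs11 (Nat.add (Nat.succ 353058) k)) 257 = true := by decide +kernel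
theorem s11c1194 : allBelow (fun k => fs11 (Nat.add (Nat.succ 353315) k)) 222 = true := by decide +kernel
theorem s11c1195 : allBelow (fun k => fs11 (Nat.add (Nat.succ 353537) k)) 165 = true := by decide +kernel
theorem s11c1196 : allBelow (fun k => fs11 (Nat.add (Nat.succ 353702) k)) 239 = true := by decide +kernel
theorem s11c1197 : allBelow (fun k => fs11 (Nat.add (Nat.succ 353941) k)) 139 = true := by decide +kernel
theorem s11c1198 : allBelow (fun k => fs11 (Nat.add (Nat.succ 354080) k)) 252 = true := by decide +kernel
theorem s11c1199 : allBelow (fun k => fs11 (Nat.add (Nat.succ 354332) k)) 248 = true := by decide +kernel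
theorem s11c1200 : allBelow (fun k => fs11 (Nat.add (Nat.succ 354580) k)) 142 = true := by decide +kernel
theorem s11c1201 : allBelow (fun k => fs11 (Nat.add (Nat.succ 354722) k)) 257 = true := by decide +kernel
theorem s11c1202 : allBelow (fun k => fs11 (Nat.add (Nat.succ 354979) k)) 244 = true := by decide +kernel
theorem s11c1203 : allBelow (fun k => fs11 (Nat.add (Nat.succ 355223) k)) 253 = true := by decide +kernel
theorem s11c1204 : allBelow (fun k => fs11 (Nat.add (Nat.succ 355476) k)) 248 = true := by decide +kernel
theorem s11c1205 : allBelow (fun k => fs11 (Nat.add (Nat.succ 355724) k)) 233 = true := by decide +kernel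
theorem s11c1206 : allBelow (fun k => fs11 (Nat.add (Nat.succ 355957) k)) 203 = true := by decide +kernel
theorem s11c1207 : allBelow (fun k => fs11 (Nat.add (Nat.succ 356160) k)) 202 = true := by decide +kernel
theorem s11c1208 : allBelow (fun k => fs11 (Nat.add (Nat.succ 356362) k)) 214 = true := by decide +kernel
theorem s11c1209 : allBelow (fun k => fs11 (Nat.add (Nat.succ 356576) k)) 202 = true := by decide +kernel
theorem s11c1210 : allBelow (fun k => fs11 (Nat.add (Nat.succ 356778) k)) 225 = true := by decide +kernel
theorem s11c1211 : allBelow (fun k => fs11 (Nat.add (Nat.succ 357003) k)) 235 = true := by decide +kernel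
theorem s11c1212 : allBelow (fun k => fs11 (Nat.add (Nat.succ 357238) k)) 227 = true := by decide +kernel
theorem s12c0 : allBelow (fun k => fs12 (Nat.add (Nat.succ 0) k)) 662 = true := by decide +kernel
theorem s12c1 : allBelow (fun k => fs12 (Nat.add (Nat.succ 662) k)) 681 = true := by decide +kernel
theorem s12c2 : allBelow (fun k => fs12 (Nat.add (Nat.succ 1343) k)) 626 = true := by decide +kernel
theorem s12c3 : allBelow (fun k => fs12 (Nat.add (Nat.succ 1969) k)) 638 = true := by decide +kernel
theorem s12c4 : allBelow (fun k => fs12 (Nat.add (Nat.succ 2607) k)) 643 = true := by decide +kernel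
theorem s12c5 : allBelow (fun k => fs12 (Nat.add (Nat.succ 3250) k)) 610 = true := by decide +kernel
theorem s12c6 : allBelow (fun k => fs12 (Nat.add (Nat.succ 3860) k)) 560 = true := by decide +kernel
theorem s12c7 : allBelow (fun k => fs12 (Nat.add (Nat.succ 4420) k)) 552 = true := by decide +kernel
theorem s12c8 : allBelow (fun k => fs12 (Nat.add (Nat.succ 4972) k)) 588 = true := by decide +kernel
theorem s12c9 : allBelow (fun k => fs12 (Nat.add (Nat.succ 5560) k)) 508 = true := by decide +kernel
theorem s12c10 : allBelow (fun k => fs12 (Nat.add (Nat.succ 6068) k)) 592 = true := by decide +kernel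
theorem s12c11 : allBelow (fun k => fs12 (Nat.add (Nat.succ 6660) k)) 414 = true := by decide +kernel
theorem s12c12 : allBelow (fun k => fs12 (Nat.add (Nat.succ 7074) k)) 509 = true := by decide +kernel
theorem s12c13 : allBelow (fun k => fs12 (Nat.add (Nat.succ 7583) k)) 592 = true := by decide +kernel
theorem s12c14 : allBelow (fun k => fs12 (Nat.add (Nat.succ 8175) k)) 460 = true := by decide +kernel
theorem s12c15 : allBelow (fun k => fs12 (Nat.add (Nat.succ 8635) k)) 562 = true := by decide +kernel
theorem s12c16 : allBelow (fun k => fs12 (Nat.add (Nat.succ 9197) k)) 350 = true := by decide +kernel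
theorem s12c17 : allBelow (fun k => fs12 (Nat.add (Nat.succ 9547) k)) 417 = true := by decide +kernel
theorem s12c18 : allBelow (fun k => fs12 (Nat.add (Nat.succ 9964) k)) 491 = true := by decide +kernel
theorem s12c19 : allBelow (fun k => fs12 (Nat.add (Nat.succ 10455) k)) 683 = true := by decide +kernel
theorem s12c20 : allBelow (fun k => fs12 (Nat.add (Nat.succ 11138) k)) 692 = true := by decide +kernel
theorem s12c21 : allBelow (fun k => fs12 (Nat.add (Nat.succ 11830) k)) 585 = true := by decide +kernel
theorem s12c22 : allBelow (fun k => fs12 (Nat.add (Nat.succ 12415) k)) 448 = true := by decide +kernel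
theorem s12c23 : allBelow (fun k => fs12 (Nat.add (Nat.succ 12863) k)) 505 = true := by decide +kernel
theorem s12c24 : allBelow (fun k => fs12 (Nat.add (Nat.succ 13368) k)) 650 = true := by decide +kernel
theorem s12c25 : allBelow (fun k => fs12 (Nat.add (Nat.succ 14018) k)) 492 = true := by decide +kernel
theorem s12c26 : allBelow (fun k => fs12 (Nat.add (Nat.succ 14510) k)) 687 = true := by decide +kernel
theorem s12c27 : allBelow (fun k => fs12 (Nat.add (Nat.succ 15197) k)) 611 = true := by decide +kernel
theorem s12c28 : allBelow (fun k => fs12 (Nat.add (Nat.succ 15808) k)) 438 = true := by decide +kernel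
theorem s12c29 : allBelow (fun k => fs12 (Nat.add (Nat.succ 16246) k)) 293 = true := by decide +kernel
theorem s12c30 : allBelow (fun k => fs12 (Nat.add (Nat.succ 16539) k)) 530 = true := by decide +kernel
theorem s12c31 : allBelow (fun k => fs12 (Nat.add (Nat.succ 17069) k)) 374 = true := by decide +kernel
theorem s12c32 : allBelow (fun k => fs12 (Nat.add (Nat.succ 17443) k)) 628 = true := by decide +kernel
theorem s12c33 : allBelow (fun k => fs12 (Nat.add (Nat.succ 18071) k)) 507 = true := by decide +kernel
theorem s12c34 : allBelow (fun k => fs12 (Nat.add (Nat.succ 18578) k)) 413 = true := by decide +kernel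
theorem s12c35 : allBelow (fun k => fs12 (Nat.add (Nat.succ 18991) k)) 653 = true := by decide +kernel
theorem s12c36 : allBelow (fun k => fs12 (Nat.add (Nat.succ 19644) k)) 569 = true := by decide +kernel
theorem s12c37 : allBelow (fun k => fs12 (Nat.add (Nat.succ 20213) k)) 517 = true := by decide +kernel
theorem s12c38 : allBelow (fun k => fs12 (Nat.add (Nat.succ 20730) k)) 475 = true := by decide +kernel
theorem s12c39 : allBelow (fun k => fs12 (Nat.add (Nat.succ 21205) k)) 317 = true := by decide +kernel
theorem s12c40 : allBelow (fun k => fs12 (Nat.add (Nat.succ 21522) k)) 259 = true := by decide +kernel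
theorem s12c41 : allBelow (fun k => fs12 (Nat.add (Nat.succ 21781) k)) 500 = true := by decide +kernel
theorem s12c42 : allBelow (fun k => fs12 (Nat.add (Nat.succ 22281) k)) 336 = true := by decide +kernel
theorem s12c43 : allBelow (fun k => fs12 (Nat.add (Nat.succ 22617) k)) 373 = true := by decide +kernel
theorem s12c44 : allBelow (fun k => fs12 (Nat.add (Nat.succ 22990) k)) 475 = true := by decide +kernel
theorem s12c45 : allBelow (fun k => fs12 (Nat.add (Nat.succ 23465) k)) 544 = true := by decide +kernel
theorem s12c46 : allBelow (fun k => fs12 (Nat.add (Nat.succ 24009) k)) 420 = true := by decide +kernel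
theorem s12c47 : allBelow (fun k => fs12 (Nat.add (Nat.succ 24429) k)) 517 = true := by decide +kernel
theorem s12c48 : allBelow (fun k => fs12 (Nat.add (Nat.succ 24946) k)) 285 = true := by decide +kernel
theorem s12c49 : allBelow (fun k => fs12 (Nat.add (Nat.succ 25231) k)) 630 = true := by decide +kernel
theorem s12c50 : allBelow (fun k => fs12 (Nat.add (Nat.succ 25861) k)) 688 = true := by decide +kernel
theorem s12c51 : allBelow (fun k => fs12 (Nat.add (Nat.succ 26549) k)) 428 = true := by decide +kernel
theorem s12c52 : allBelow (fun k => fs12 (Nat.add (Nat.succ 26977) k)) 399 = true := by decide +kernel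
theorem s12c53 : allBelow (fun k => fs12 (Nat.add (Nat.succ 27376) k)) 589 = true := by decide +kernel
theorem s12c54 : allBelow (fun k => fs12 (Nat.add (Nat.succ 27965) k)) 340 = true := by decide +kernel
theorem s12c55 : allBelow (fun k => fs12 (Nat.add (Nat.succ 28305) k)) 314 = true := by decide +kernel
theorem s12c56 : allBelow (fun k => fs12 (Nat.add (Nat.succ 28619) k)) 259 = true := by decide +kernel
theorem s12c57 : allBelow (fun k => fs12 (Nat.add (Nat.succ 28878) k)) 226 = true := by decide +kernel
theorem s12c58 : allBelow (fun k => fs12 (Nat.add (Nat.succ 29104) k)) 528 = true := by decide +kernel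
theorem s12c59 : allBelow (fun k => fs12 (Nat.add (Nat.succ 29632) k)) 353 = true := by decide +kernel
theorem s12c60 : allBelow (fun k => fs12 (Nat.add (Nat.succ 29985) k)) 270 = true := by decide +kernel
theorem s12c61 : allBelow (fun k => fs12 (Nat.add (Nat.succ 30255) k)) 388 = true := by decide +kernel
theorem s12c62 : allBelow (fun k => fs12 (Nat.add (Nat.succ 30643) k)) 223 = true := by decide +kernel
theorem s12c63 : allBelow (fun k => fs12 (Nat.add (Nat.succ 30866) k)) 610 = true := by decide +kernel
theorem s12c64 : allBelow (fun k => fs12 (Nat.add (Nat.succ 31476) k)) 587 = true := by decide +kernel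
theorem s12c65 : allBelow (fun k => fs12 (Nat.add (Nat.succ 32063) k)) 369 = true := by decide +kernel
theorem s12c66 : allBelow (fun k => fs12 (Nat.add (Nat.succ 32432) k)) 346 = true := by decide +kernel
theorem s12c67 : allBelow (fun k => fs12 (Nat.add (Nat.succ 32778) k)) 528 = true := by decide +kernel
theorem s12c68 : allBelow (fun k => fs12 (Nat.add (Nat.succ 33306) k)) 303 = true := by decide +kernel
theorem s12c69 : allBelow (fun k => fs12 (Nat.add (Nat.succ 33609) k)) 268 = true := by decide +kernel
theorem s12c70 : allBelow (fun k => fs12 (Nat.add (Nat.succ 33877) k)) 544 = true := by decide +kernel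
theorem s12c71 : allBelow (fun k => fs12 (Nat.add (Nat.succ 34421) k)) 614 = true := by decide +kernel
theorem s12c72 : allBelow (fun k => fs12 (Nat.add (Nat.succ 35035) k)) 690 = true := by decide +kernel
theorem s12c73 : allBelow (fun k => fs12 (Nat.add (Nat.succ 35725) k)) 369 = true := by decide +kernel
theorem s12c74 : allBelow (fun k => fs12 (Nat.add (Nat.succ 36094) k)) 425 = true := by decide +kernel
theorem s12c75 : allBelow (fun k => fs12 (Nat.add (Nat.succ 36519) k)) 355 = true := by decide +kernel
theorem s12c76 : allBelow (fun k => fs12 (Nat.add (Nat.succ 36874) k)) 366 = true := by decide +kernel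
theorem s12c77 : allBelow (fun k => fs12 (Nat.add (Nat.succ 37240) k)) 598 = true := by decide +kernel
theorem s12c78 : allBelow (fun k => fs12 (Nat.add (Nat.succ 37838) k)) 286 = true := by decide +kernel
theorem s12c79 : allBelow (fun k => fs12 (Nat.add (Nat.succ 38124) k)) 285 = true := by decide +kernel
theorem s12c80 : allBelow (fun k => fs12 (Nat.add (Nat.succ 38409) k)) 281 = true := by decide +kernel
theorem s12c81 : allBelow (fun k => fs12 (Nat.add (Nat.succ 38690) k)) 248 = true := by decide +kernel
theorem s12c82 : allBelow (fun k => fs12 (Nat.add (Nat.succ 38938) k)) 227 = true := by decide +kernel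
theorem s12c83 : allBelow (fun k => fs12 (Nat.add (Nat.succ 39165) k)) 402 = true := by decide +kernel
theorem s12c84 : allBelow (fun k => fs12 (Nat.add (Nat.succ 39567) k)) 515 = true := by decide +kernel
theorem s12c85 : allBelow (fun k => fs12 (Nat.add (Nat.succ 40082) k)) 273 = true := by decide +kernel
theorem s12c86 : allBelow (fun k => fs12 (Nat.add (Nat.succ 40355) k)) 276 = true := by decide +kernel
theorem s12c87 : allBelow (fun k => fs12 (Nat.add (Nat.succ 40631) k)) 311 = true := by decide +kernel
theorem s12c88 : allBelow (fun k => fs12 (Nat.add (Nat.succ 40942) k)) 323 = true := by decide +kernel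
theorem s12c89 : allBelow (fun k => fs12 (Nat.add (Nat.succ 41265) k)) 222 = true := by decide +kernel
theorem s12c90 : allBelow (fun k => fs12 (Nat.add (Nat.succ 41487) k)) 387 = true := by decide +kernel
theorem s12c91 : allBelow (fun k => fs12 (Nat.add (Nat.succ 41874) k)) 561 = true := by decide +kernel
theorem s12c92 : allBelow (fun k => fs12 (Nat.add (Nat.succ 42435) k)) 637 = true := by decide +kernel
theorem s12c93 : allBelow (fun k => fs12 (Nat.add (Nat.succ 43072) k)) 367 = true := by decide +kernel
theorem s12c94 : allBelow (fun k => fs12 (Nat.add (Nat.succ 43439) k)) 318 = true := by decide +kernel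
theorem s12c95 : allBelow (fun k => fs12 (Nat.add (Nat.succ 43757) k)) 349 = true := by decide +kernel
theorem s12c96 : allBelow (fun k => fs12 (Nat.add (Nat.succ 44106) k)) 305 = true := by decide +kernel
theorem s12c97 : allBelow (fun k => fs12 (Nat.add (Nat.succ 44411) k)) 476 = true := by decide +kernel
theorem s12c98 : allBelow (fun k => fs12 (Nat.add (Nat.succ 44887) k)) 394 = true := by decide +kernel
theorem s12c99 : allBelow (fun k => fs12 (Nat.add (Nat.succ 45281) k)) 235 = true := by decide +kernel
theorem s12c100 : allBelow (fun k => fs12 (Nat.add (Nat.succ 45516) k)) 248 = true := by decide +kernel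
theorem s12c101 : allBelow (fun k => fs12 (Nat.add (Nat.succ 45764) k)) 417 = true := by decide +kernel
theorem s12c102 : allBelow (fun k => fs12 (Nat.add (Nat.succ 46181) k)) 541 = true := by decide +kernel
theorem s12c103 : allBelow (fun k => fs12 (Nat.add (Nat.succ 46722) k)) 586 = true := by decide +kernel
theorem s12c104 : allBelow (fun k => fs12 (Nat.add (Nat.succ 47308) k)) 747 = true := by decide +kernel
theorem s12c105 : allBelow (fun k => fs12 (Nat.add (Nat.succ 48055) k)) 491 = true := by decide +kernel
theorem s12c106 : allBelow (fun k => fs12 (Nat.add (Nat.succ 48546) k)) 339 = true := by decide +kernel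
theorem s12c107 : allBelow (fun k => fs12 (Nat.add (Nat.succ 48885) k)) 382 = true := by decide +kernel
theorem s12c108 : allBelow (fun k => fs12 (Nat.add (Nat.succ 49267) k)) 387 = true := by decide +kernel
theorem s12c109 : allBelow (fun k => fs12 (Nat.add (Nat.succ 49654) k)) 321 = true := by decide +kernel
theorem s12c110 : allBelow (fun k => fs12 (Nat.add (Nat.succ 49975) k)) 248 = true := by decide +kernel
theorem s12c111 : allBelow (fun k => fs12 (Nat.add (Nat.succ 50223) k)) 473 = true := by decide +kernel
theorem s12c112 : allBelow (fun k => fs12 (Nat.add (Nat.succ 50696) k)) 472 = true := by decide +kernel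
theorem s12c113 : allBelow (fun k => fs12 (Nat.add (Nat.succ 51168) k)) 409 = true := by decide +kernel
theorem s12c114 : allBelow (fun k => fs12 (Nat.add (Nat.succ 51577) k)) 229 = true := by decide +kernel
theorem s12c115 : allBelow (fun k => fs12 (Nat.add (Nat.succ 51806) k)) 266 = true := by decide +kernel
theorem s12c116 : allBelow (fun k => fs12 (Nat.add (Nat.succ 52072) k)) 278 = true := by decide +kernel
theorem s12c117 : allBelow (fun k => fs12 (Nat.add (Nat.succ 52350) k)) 249 = true := by decide +kernel
theorem s12c118 : allBelow (fun k => fs12 (Nat.add (Nat.succ 52599) k)) 225 = true := by decide +kernel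
theorem s12c119 : allBelow (fun k => fs12 (Nat.add (Nat.succ 52824) k)) 223 = true := by decide +kernel
theorem s12c120 : allBelow (fun k => fs12 (Nat.add (Nat.succ 53047) k)) 450 = true := by decide +kernel
theorem s12c121 : allBelow (fun k => fs12 (Nat.add (Nat.succ 53497) k)) 447 = true := by decide +kernel
theorem s12c122 : allBelow (fun k => fs12 (Nat.add (Nat.succ 53944) k)) 396 = true := by decide +kernel
theorem s12c123 : allBelow (fun k => fs12 (Nat.add (Nat.succ 54340) k)) 249 = true := by decide +kernel
theorem s12c124 : allBelow (fun k => fs12 (Nat.add (Nat.succ 54589) k)) 259 = true := by decide +kernel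
theorem s12c125 : allBelow (fun k => fs12 (Nat.add (Nat.succ 54848) k)) 251 = true := by decide +kernel
theorem s12c126 : allBelow (fun k => fs12 (Nat.add (Nat.succ 55099) k)) 300 = true := by decide +kernel
theorem s12c127 : allBelow (fun k => fs12 (Nat.add (Nat.succ 55399) k)) 298 = true := by decide +kernel
theorem s12c128 : allBelow (fun k => fs12 (Nat.add (Nat.succ 55697) k)) 235 = true := by decide +kernel
theorem s12c129 : allBelow (fun k => fs12 (Nat.add (Nat.succ 55932) k)) 224 = true := by decide +kernel
theorem s12c130 : allBelow (fun k => fs12 (Nat.add (Nat.succ 56156) k)) 500 = true := by decide +kernel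
theorem s12c131 : allBelow (fun k => fs12 (Nat.add (Nat.succ 56656) k)) 560 = true := by decide +kernel
theorem s12c132 : allBelow (fun k => fs12 (Nat.add (Nat.succ 57216) k)) 491 = true := by decide +kernel
theorem s12c133 : allBelow (fun k => fs12 (Nat.add (Nat.succ 57707) k)) 611 = true := by decide +kernel
theorem s12c134 : allBelow (fun k => fs12 (Nat.add (Nat.succ 58318) k)) 371 = true := by decide +kernel
theorem s12c135 : allBelow (fun k => fs12 (Nat.add (Nat.succ 58689) k)) 288 = true := by decide +kernel
theorem s12c136 : allBelow (fun k => fs12 (Nat.add (Nat.succ 58977) k)) 313 = true := by decide +kernel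
theorem s12c137 : allBelow (fun k => fs12 (Nat.add (Nat.succ 59290) k)) 324 = true := by decide +kernel
theorem s12c138 : allBelow (fun k => fs12 (Nat.add (Nat.succ 59614) k)) 282 = true := by decide +kernel
theorem s12c139 : allBelow (fun k => fs12 (Nat.add (Nat.succ 59896) k)) 354 = true := by decide +kernel
theorem s12c140 : allBelow (fun k => fs12 (Nat.add (Nat.succ 60250) k)) 391 = true := by decide +kernel
theorem s12c141 : allBelow (fun k => fs12 (Nat.add (Nat.succ 60641) k)) 408 = true := by decide +kernel
theorem s12c142 : allBelow (fun k => fs12 (Nat.add (Nat.succ 61049) k)) 266 = true := by decide +kernel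
theorem s12c143 : allBelow (fun k => fs12 (Nat.add (Nat.succ 61315) k)) 236 = true := by decide +kernel
theorem s12c144 : allBelow (fun k => fs12 (Nat.add (Nat.succ 61551) k)) 244 = true := by decide +kernel
theorem s12c145 : allBelow (fun k => fs12 (Nat.add (Nat.succ 61795) k)) 330 = true := by decide +kernel
theorem s12c146 : allBelow (fun k => fs12 (Nat.add (Nat.succ 62125) k)) 554 = true := by decide +kernel
theorem s12c147 : allBelow (fun k => fs12 (Nat.add (Nat.succ 62679) k)) 461 = true := by decide +kernel
theorem s12c148 : allBelow (fun k => fs12 (Nat.add (Nat.succ 63140) k)) 607 = true := by decide +kernel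
theorem s12c149 : allBelow (fun k => fs12 (Nat.add (Nat.succ 63747) k)) 503 = true := by decide +kernel
theorem s12c150 : allBelow (fun k => fs12 (Nat.add (Nat.succ 64250) k)) 716 = true := by decide +kernel
theorem s12c151 : allBelow (fun k => fs12 (Nat.add (Nat.succ 64966) k)) 534 = true := by decide +kernel
theorem s12c152 : allBelow (fun k => fs12 (Nat.add (Nat.succ 65500) k)) 373 = true := by decide +kernel
theorem s12c153 : allBelow (fun k => fs12 (Nat.add (Nat.succ 65873) k)) 346 = true := by decide +kernel
theorem s12c154 : allBelow (fun k => fs12 (Nat.add (Nat.succ 66219) k)) 316 = true := by decide +kernel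
theorem s12c155 : allBelow (fun k => fs12 (Nat.add (Nat.succ 66535) k)) 381 = true := by decide +kernel
theorem s12c156 : allBelow (fun k => fs12 (Nat.add (Nat.succ 66916) k)) 327 = true := by decide +kernel
theorem s12c157 : allBelow (fun k => fs12 (Nat.add (Nat.succ 67243) k)) 305 = true := by decide +kernel
theorem s12c158 : allBelow (fun k => fs12 (Nat.add (Nat.succ 67548) k)) 263 = true := by decide +kernel
theorem s12c159 : allBelow (fun k => fs12 (Nat.add (Nat.succ 67811) k)) 274 = true := by decide +kernel
theorem s12c160 : allBelow (fun k => fs12 (Nat.add (Nat.succ 68085) k)) 404 = true := by decide +kernel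
theorem s12c161 : allBelow (fun k => fs12 (Nat.add (Nat.succ 68489) k)) 382 = true := by decide +kernel
theorem s12c162 : allBelow (fun k => fs12 (Nat.add (Nat.succ 68871) k)) 498 = true := by decide +kernel
theorem s12c163 : allBelow (fun k => fs12 (Nat.add (Nat.succ 69369) k)) 346 = true := by decide +kernel
theorem s12c164 : allBelow (fun k => fs12 (Nat.add (Nat.succ 69715) k)) 223 = true := by decide +kernel
theorem s12c165 : allBelow (fun k => fs12 (Nat.add (Nat.succ 69938) k)) 252 = true := by decide +kernel
theorem s12c166 : allBelow (fun k => fs12 (Nat.add (Nat.succ 70190) k)) 257 = true := by decide +kernel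
theorem s12c167 : allBelow (fun k => fs12 (Nat.add (Nat.succ 70447) k)) 243 = true := by decide +kernel
theorem s12c168 : allBelow (fun k => fs12 (Nat.add (Nat.succ 70690) k)) 237 = true := by decide +kernel
theorem s12c169 : allBelow (fun k => fs12 (Nat.add (Nat.succ 70927) k)) 224 = true := by decide +kernel
theorem s12c170 : allBelow (fun k => fs12 (Nat.add (Nat.succ 71151) k)) 226 = true := by decide +kernel
theorem s12c171 : allBelow (fun k => fs12 (Nat.add (Nat.succ 71377) k)) 498 = true := by decide +kernel
theorem s12c172 : allBelow (fun k => fs12 (Nat.add (Nat.succ 71875) k)) 369 = true := by decide +kernel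
theorem s12c173 : allBelow (fun k => fs12 (Nat.add (Nat.succ 72244) k)) 428 = true := by decide +kernel
theorem s12c174 : allBelow (fun k => fs12 (Nat.add (Nat.succ 72672) k)) 366 = true := by decide +kernel
theorem s12c175 : allBelow (fun k => fs12 (Nat.add (Nat.succ 73038) k)) 247 = true := by decide +kernel
theorem s12c176 : allBelow (fun k => fs12 (Nat.add (Nat.succ 73285) k)) 240 = true := by decide +kernel
theorem s12c177 : allBelow (fun k => fs12 (Nat.add (Nat.succ 73525) k)) 251 = true := by decide +kernel
theorem s12c178 : allBelow (fun k => fs12 (Nat.add (Nat.succ 73776) k)) 240 = true := by decide +kernel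
theorem s12c179 : allBelow (fun k => fs12 (Nat.add (Nat.succ 74016) k)) 298 = true := by decide +kernel
theorem s12c180 : allBelow (fun k => fs12 (Nat.add (Nat.succ 74314) k)) 269 = true := by decide +kernel
theorem s12c181 : allBelow (fun k => fs12 (Nat.add (Nat.succ 74583) k)) 254 = true := by decide +kernel
theorem s12c182 : allBelow (fun k => fs12 (Nat.add (Nat.succ 74837) k)) 225 = true := by decide +kernel
theorem s12c183 : allBelow (fun k => fs12 (Nat.add (Nat.succ 75062) k)) 224 = true := by decide +kernel
theorem s12c184 : allBelow (fun k => fs12 (Nat.add (Nat.succ 75286) k)) 547 = true := by decide +kernel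
theorem s12c185 : allBelow (fun k => fs12 (Nat.add (Nat.succ 75833) k)) 501 = true := by decide +kernel
theorem s12c186 : allBelow (fun k => fs12 (Nat.add (Nat.succ 76334) k)) 508 = true := by decide +kernel
theorem s12c187 : allBelow (fun k => fs12 (Nat.add (Nat.succ 76842) k)) 469 = true := by decide +kernel
theorem s12c188 : allBelow (fun k => fs12 (Nat.add (Nat.succ 77311) k)) 561 = true := by decide +kernel
theorem s12c189 : allBelow (fun k => fs12 (Nat.add (Nat.succ 77872) k)) 505 = true := by decide +kernel
theorem s12c190 : allBelow (fun k => fs12 (Nat.add (Nat.succ 78377) k)) 377 = true := by decide +kernel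
theorem s12c191 : allBelow (fun k => fs12 (Nat.add (Nat.succ 78754) k)) 295 = true := by decide +kernel
theorem s12c192 : allBelow (fun k => fs12 (Nat.add (Nat.succ 79049) k)) 252 = true := by decide +kernel
theorem s12c193 : allBelow (fun k => fs12 (Nat.add (Nat.succ 79301) k)) 333 = true := by decide +kernel
theorem s12c194 : allBelow (fun k => fs12 (Nat.add (Nat.succ 79634) k)) 297 = true := by decide +kernel
theorem s12c195 : allBelow (fun k => fs12 (Nat.add (Nat.succ 79931) k)) 271 = true := by decide +kernel
theorem s12c196 : allBelow (fun k => fs12 (Nat.add (Nat.succ 80202) k)) 256 = true := by decide +kernel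
theorem s12c197 : allBelow (fun k => fs12 (Nat.add (Nat.succ 80458) k)) 468 = true := by decide +kernel
theorem s12c198 : allBelow (fun k => fs12 (Nat.add (Nat.succ 80926) k)) 300 = true := by decide +kernel
theorem s12c199 : allBelow (fun k => fs12 (Nat.add (Nat.succ 81226) k)) 377 = true := by decide +kernel
theorem s12c200 : allBelow (fun k => fs12 (Nat.add (Nat.succ 81603) k)) 307 = true := by decide +kernel
theorem s12c201 : allBelow (fun k => fs12 (Nat.add (Nat.succ 81910) k)) 224 = true := by decide +kernel
theorem s12c202 : allBelow (fun k => fs12 (Nat.add (Nat.succ 82134) k)) 240 = true := by decide +kernel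
theorem s12c203 : allBelow (fun k => fs12 (Nat.add (Nat.succ 82374) k)) 237 = true := by decide +kernel
theorem s12c204 : allBelow (fun k => fs12 (Nat.add (Nat.succ 82611) k)) 366 = true := by decide +kernel
theorem s12c205 : allBelow (fun k => fs12 (Nat.add (Nat.succ 82977) k)) 433 = true := by decide +kernel
theorem s12c206 : allBelow (fun k => fs12 (Nat.add (Nat.succ 83410) k)) 638 = true := by decide +kernel
theorem s12c207 : allBelow (fun k => fs12 (Nat.add (Nat.succ 84048) k)) 370 = true := by decide +kernel
theorem s12c208 : allBelow (fun k => fs12 (Nat.add (Nat.succ 84418) k)) 663 = true := by decide +kernel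
theorem s12c209 : allBelow (fun k => fs12 (Nat.add (Nat.succ 85081) k)) 499 = true := by decide +kernel
theorem s12c210 : allBelow (fun k => fs12 (Nat.add (Nat.succ 85580) k)) 498 = true := by decide +kernel
theorem s12c211 : allBelow (fun k => fs12 (Nat.add (Nat.succ 86078) k)) 677 = true := by decide +kernel
theorem s12c212 : allBelow (fun k => fs12 (Nat.add (Nat.succ 86755) k)) 536 = true := by decide +kernel
theorem s12c213 : allBelow (fun k => fs12 (Nat.add (Nat.succ 87291) k)) 446 = true := by decide +kernel
theorem s12c214 : allBelow (fun k => fs12 (Nat.add (Nat.succ 87737) k)) 377 = true := by decide +kernel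
theorem s12c215 : allBelow (fun k => fs12 (Nat.add (Nat.succ 88114) k)) 303 = true := by decide +kernel
theorem s12c216 : allBelow (fun k => fs12 (Nat.add (Nat.succ 88417) k)) 292 = true := by decide +kernel
theorem s12c217 : allBelow (fun k => fs12 (Nat.add (Nat.succ 88709) k)) 326 = true := by decide +kernel
theorem s12c218 : allBelow (fun k => fs12 (Nat.add (Nat.succ 89035) k)) 362 = true := by decide +kernel
theorem s12c219 : allBelow (fun k => fs12 (Nat.add (Nat.succ 89397) k)) 292 = true := by decide +kernel
theorem s12c220 : allBelow (fun k => fs12 (Nat.add (Nat.succ 89689) k)) 356 = true := by decide +kernel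
theorem s12c221 : allBelow (fun k => fs12 (Nat.add (Nat.succ 90045) k)) 252 = true := by decide +kernel
theorem s12c222 : allBelow (fun k => fs12 (Nat.add (Nat.succ 90297) k)) 257 = true := by decide +kernel
theorem s12c223 : allBelow (fun k => fs12 (Nat.add (Nat.succ 90554) k)) 268 = true := by decide +kernel
theorem s12c224 : allBelow (fun k => fs12 (Nat.add (Nat.succ 90822) k)) 372 = true := by decide +kernel
theorem s12c225 : allBelow (fun k => fs12 (Nat.add (Nat.succ 91194) k)) 418 = true := by decide +kernel
theorem s12c226 : allBelow (fun k => fs12 (Nat.add (Nat.succ 91612) k)) 322 = true := by decide +kernel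
theorem s12c227 : allBelow (fun k => fs12 (Nat.add (Nat.succ 91934) k)) 408 = true := by decide +kernel
theorem s12c228 : allBelow (fun k => fs12 (Nat.add (Nat.succ 92342) k)) 356 = true := by decide +kernel
theorem s12c229 : allBelow (fun k => fs12 (Nat.add (Nat.succ 92698) k)) 268 = true := by decide +kernel
theorem s12c230 : allBelow (fun k => fs12 (Nat.add (Nat.succ 92966) k)) 245 = true := by decide +kernel
theorem s12c231 : allBelow (fun k => fs12 (Nat.add (Nat.succ 93211) k)) 238 = true := by decide +kernel
theorem s12c232 : allBelow (fun k => fs12 (Nat.add (Nat.succ 93449) k)) 254 = true := by decide +kernel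
theorem s12c233 : allBelow (fun k => fs12 (Nat.add (Nat.succ 93703) k)) 230 = true := by decide +kernel
theorem s12c234 : allBelow (fun k => fs12 (Nat.add (Nat.succ 93933) k)) 223 = true := by decide +kernel
theorem s12c235 : allBelow (fun k => fs12 (Nat.add (Nat.succ 94156) k)) 259 = true := by decide +kernel

end Cfsg.Agent.Lib.Helper35.Fi24a
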