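import Cfsg.Agent.Lib.Helper35.Fi24a.Data

set_option Elab.async false

namespace Cfsg.Agent.Lib.Helper35.Fi24a

open Cfsg.Agent.Lib.Helper35

theorem s12c236 : allBelow (fun k => fs12 (Nat.add (Nat.succ 94415) k)) 488 = true := by decide +kernel
theorem s12c237 : allBelow (fun k => fs12 (Nat.add (Nat.succ 94903) k)) 364 = true := by decide +kernel
theorem s12c238 : allBelow (fun k => fs12 (Nat.add (Nat.succ 95267) k)) 369 = true := by decide +kernel
theorem s12c239 : allBelow (fun k => fs12 (Nat.add (Nat.succ 95636) k)) 402 = true := by decide +kernel
theorem s12c240 : allBelow (fun k => fs12 (Nat.add (Nat.succ 96038) k)) 379 = true := by decide +kernel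
theorem s12c241 : allBelow (fun k => fs12 (Nat.add (Nat.succ 96417) k)) 248 = true := by decide +kernel
theorem s12c242 : allBelow (fun k => fs12 (Nat.add (Nat.succ 96665) k)) 242 = true := by decide +kernel
theorem s12c243 : allBelow (fun k => fs12 (Nat.add (Nat.succ 96907) k)) 253 = true := by decide +kernel
theorem s12c244 : allBelow (fun k => fs12 (Nat.add (Nat.succ 97160) k)) 242 = true := by decide +kernel
theorem s12c245 : allBelow (fun k => fs12 (Nat.add (Nat.succ 97402) k)) 263 = true := by decide +kernel
theorem s12c246 : allBelow (fun k => fs12 (Nat.add (Nat.succ 97665) k)) 261 = true := by decide +kernel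
theorem s12c247 : allBelow (fun k => fs12 (Nat.add (Nat.succ 97926) k)) 275 = true := by decide +kernel
theorem s12c248 : allBelow (fun k => fs12 (Nat.add (Nat.succ 98201) k)) 230 = true := by decide +kernel
theorem s12c249 : allBelow (fun k => fs12 (Nat.add (Nat.succ 98431) k)) 225 = true := by decide +kernel
theorem s12c250 : allBelow (fun k => fs12 (Nat.add (Nat.succ 98656) k)) 299 = true := by decide +kernel
theorem s12c251 : allBelow (fun k => fs12 (Nat.add (Nat.succ 98955) k)) 620 = true := by decide +kernel
theorem s12c252 : allBelow (fun k => fs12 (Nat.add (Nat.succ 99575) k)) 433 = true := by decide +kernel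
theorem s12c253 : allBelow (fun k => fs12 (Nat.add (Nat.succ 100008) k)) 660 = true := by decide +kernel
theorem s12c254 : allBelow (fun k => fs12 (Nat.add (Nat.succ 100668) k)) 373 = true := by decide +kernel
theorem s12c255 : allBelow (fun k => fs12 (Nat.add (Nat.succ 101041) k)) 419 = true := by decide +kernel
theorem s12c256 : allBelow (fun k => fs12 (Nat.add (Nat.succ 101460) k)) 585 = true := by decide +kernel
theorem s12c257 : allBelow (fun k => fs12 (Nat.add (Nat.succ 102045) k)) 527 = true := by decide +kernel
theorem s12c258 : allBelow (fun k => fs12 (Nat.add (Nat.succ 102572) k)) 439 = true := by decide +kernel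
theorem s12c259 : allBelow (fun k => fs12 (Nat.add (Nat.succ 103011) k)) 378 = true := by decide +kernel
theorem s12c260 : allBelow (fun k => fs12 (Nat.add (Nat.succ 103389) k)) 290 = true := by decide +kernel
theorem s12c261 : allBelow (fun k => fs12 (Nat.add (Nat.succ 103679) k)) 257 = true := by decide +kernel
theorem s12c262 : allBelow (fun k => fs12 (Nat.add (Nat.succ 103936) k)) 301 = true := by decide +kernel
theorem s12c263 : allBelow (fun k => fs12 (Nat.add (Nat.succ 104237) k)) 293 = true := by decide +kernel
theorem s12c264 : allBelow (fun k => fs12 (Nat.add (Nat.succ 104530) k)) 290 = true := by decide +kernel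
theorem s12c265 : allBelow (fun k => fs12 (Nat.add (Nat.succ 104820) k)) 264 = true := by decide +kernel
theorem s12c266 : allBelow (fun k => fs12 (Nat.add (Nat.succ 105084) k)) 379 = true := by decide +kernel
theorem s12c267 : allBelow (fun k => fs12 (Nat.add (Nat.succ 105463) k)) 422 = true := by decide +kernel
theorem s12c268 : allBelow (fun k => fs12 (Nat.add (Nat.succ 105885) k)) 276 = true := by decide +kernel
theorem s12c269 : allBelow (fun k => fs12 (Nat.add (Nat.succ 106161) k)) 338 = true := by decide +kernel
theorem s12c270 : allBelow (fun k => fs12 (Nat.add (Nat.succ 106499) k)) 304 = true := by decide +kernel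
theorem s12c271 : allBelow (fun k => fs12 (Nat.add (Nat.succ 106803) k)) 238 = true := by decide +kernel
theorem s12c272 : allBelow (fun k => fs12 (Nat.add (Nat.succ 107041) k)) 240 = true := by decide +kernel
theorem s12c273 : allBelow (fun k => fs12 (Nat.add (Nat.succ 107281) k)) 282 = true := by decide +kernel
theorem s12c274 : allBelow (fun k => fs12 (Nat.add (Nat.succ 107563) k)) 491 = true := by decide +kernel
theorem s12c275 : allBelow (fun k => fs12 (Nat.add (Nat.succ 108054) k)) 413 = true := by decide +kernel
theorem s12c276 : allBelow (fun k => fs12 (Nat.add (Nat.succ 108467) k)) 648 = true := by decide +kernel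
theorem s12c277 : allBelow (fun k => fs12 (Nat.add (Nat.succ 109115) k)) 344 = true := by decide +kernel
theorem s12c278 : allBelow (fun k => fs12 (Nat.add (Nat.succ 109459) k)) 504 = true := by decide +kernel
theorem s12c279 : allBelow (fun k => fs12 (Nat.add (Nat.succ 109963) k)) 645 = true := by decide +kernel
theorem s12c280 : allBelow (fun k => fs12 (Nat.add (Nat.succ 110608) k)) 371 = true := by decide +kernel
theorem s12c281 : allBelow (fun k => fs12 (Nat.add (Nat.succ 110979) k)) 515 = true := by decide +kernel
theorem s12c282 : allBelow (fun k => fs12 (Nat.add (Nat.succ 111494) k)) 550 = true := by decide +kernel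
theorem s12c283 : allBelow (fun k => fs12 (Nat.add (Nat.succ 112044) k)) 640 = true := by decide +kernel
theorem s12c284 : allBelow (fun k => fs12 (Nat.add (Nat.succ 112684) k)) 530 = true := by decide +kernel
theorem s12c285 : allBelow (fun k => fs12 (Nat.add (Nat.succ 113214) k)) 504 = true := by decide +kernel
theorem s12c286 : allBelow (fun k => fs12 (Nat.add (Nat.succ 113718) k)) 460 = true := by decide +kernel
theorem s12c287 : allBelow (fun k => fs12 (Nat.add (Nat.succ 114178) k)) 415 = true := by decide +kernel
theorem s12c288 : allBelow (fun k => fs12 (Nat.add (Nat.succ 114593) k)) 252 = true := by decide +kernel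
theorem s12c289 : allBelow (fun k => fs12 (Nat.add (Nat.succ 114845) k)) 329 = true := by decide +kernel
theorem s12c290 : allBelow (fun k => fs12 (Nat.add (Nat.succ 115174) k)) 269 = true := by decide +kernel
theorem s12c291 : allBelow (fun k => fs12 (Nat.add (Nat.succ 115443) k)) 338 = true := by decide +kernel
theorem s12c292 : allBelow (fun k => fs12 (Nat.add (Nat.succ 115781) k)) 341 = true := by decide +kernel
theorem s12c293 : allBelow (fun k => fs12 (Nat.add (Nat.succ 116122) k)) 275 = true := by decide +kernel
theorem s12c294 : allBelow (fun k => fs12 (Nat.add (Nat.succ 116397) k)) 323 = true := by decide +kernel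
theorem s12c295 : allBelow (fun k => fs12 (Nat.add (Nat.succ 116720) k)) 289 = true := by decide +kernel
theorem s12c296 : allBelow (fun k => fs12 (Nat.add (Nat.succ 117009) k)) 255 = true := by decide +kernel
theorem s12c297 : allBelow (fun k => fs12 (Nat.add (Nat.succ 117264) k)) 283 = true := by decide +kernel
theorem s12c298 : allBelow (fun k => fs12 (Nat.add (Nat.succ 117547) k)) 331 = true := by decide +kernel
theorem s12c299 : allBelow (fun k => fs12 (Nat.add (Nat.succ 117878) k)) 433 = true := by decide +kernel
theorem s12c300 : allBelow (fun k => fs12 (Nat.add (Nat.succ 118311) k)) 289 = true := by decide +kernel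
theorem s12c301 : allBelow (fun k => fs12 (Nat.add (Nat.succ 118600) k)) 405 = true := by decide +kernel
theorem s12c302 : allBelow (fun k => fs12 (Nat.add (Nat.succ 119005) k)) 374 = true := by decide +kernel
theorem s12c303 : allBelow (fun k => fs12 (Nat.add (Nat.succ 119379) k)) 279 = true := by decide +kernel
theorem s12c304 : allBelow (fun k => fs12 (Nat.add (Nat.succ 119658) k)) 234 = true := by decide +kernel
theorem s12c305 : allBelow (fun k => fs12 (Nat.add (Nat.succ 119892) k)) 245 = true := by decide +kernel
theorem s12c306 : allBelow (fun k => fs12 (Nat.add (Nat.succ 120137) k)) 218 = true := by decide +kernel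
theorem s12c307 : allBelow (fun k => fs12 (Nat.add (Nat.succ 120355) k)) 296 = true := by decide +kernel
theorem s12c308 : allBelow (fun k => fs12 (Nat.add (Nat.succ 120651) k)) 446 = true := by decide +kernel
theorem s12c309 : allBelow (fun k => fs12 (Nat.add (Nat.succ 121097) k)) 398 = true := by decide +kernel
theorem s12c310 : allBelow (fun k => fs12 (Nat.add (Nat.succ 121495) k)) 325 = true := by decide +kernel
theorem s12c311 : allBelow (fun k => fs12 (Nat.add (Nat.succ 121820) k)) 461 = true := by decide +kernel
theorem s12c312 : allBelow (fun k => fs12 (Nat.add (Nat.succ 122281) k)) 365 = true := by decide +kernel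
theorem s12c313 : allBelow (fun k => fs12 (Nat.add (Nat.succ 122646) k)) 385 = true := by decide +kernel
theorem s12c314 : allBelow (fun k => fs12 (Nat.add (Nat.succ 123031) k)) 241 = true := by decide +kernel
theorem s12c315 : allBelow (fun k => fs12 (Nat.add (Nat.succ 123272) k)) 233 = true := by decide +kernel
theorem s12c316 : allBelow (fun k => fs12 (Nat.add (Nat.succ 123505) k)) 257 = true := by decide +kernel
theorem s12c317 : allBelow (fun k => fs12 (Nat.add (Nat.succ 123762) k)) 286 = true := by decide +kernel
theorem s12c318 : allBelow (fun k => fs12 (Nat.add (Nat.succ 124048) k)) 252 = true := by decide +kernel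
theorem s12c319 : allBelow (fun k => fs12 (Nat.add (Nat.succ 124300) k)) 242 = true := by decide +kernel
theorem s12c320 : allBelow (fun k => fs12 (Nat.add (Nat.succ 124542) k)) 368 = true := by decide +kernel
theorem s12c321 : allBelow (fun k => fs12 (Nat.add (Nat.succ 124910) k)) 798 = true := by decide +kernel
theorem s12c322 : allBelow (fun k => fs12 (Nat.add (Nat.succ 125708) k)) 798 = true := by decide +kernel
theorem s12c323 : allBelow (fun k => fs12 (Nat.add (Nat.succ 126506) k)) 798 = true := by decide +kernel
theorem s12c324 : allBelow (fun k => fs12 (Nat.add (Nat.succ 127304) k)) 798 = true := by decide +kernel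
theorem s12c325 : allBelow (fun k => fs12 (Nat.add (Nat.succ 128102) k)) 798 = true := by decide +kernel
theorem s12c326 : allBelow (fun k => fs12 (Nat.add (Nat.succ 128900) k)) 798 = true := by decide +kernel
theorem s12c327 : allBelow (fun k => fs12 (Nat.add (Nat.succ 129698) k)) 798 = true := by decide +kernel
theorem s12c328 : allBelow (fun k => fs12 (Nat.add (Nat.succ 130496) k)) 771 = true := by decide +kernel
theorem s12c329 : allBelow (fun k => fs12 (Nat.add (Nat.succ 131267) k)) 789 = true := by decide +kernel
theorem s12c330 : allBelow (fun k => fs12 (Nat.add (Nat.succ 132056) k)) 798 = true := by decide +kernel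
theorem s12c331 : allBelow (fun k => fs12 (Nat.add (Nat.succ 132854) k)) 798 = true := by decide +kernel
theorem s12c332 : allBelow (fun k => fs12 (Nat.add (Nat.succ 133652) k)) 798 = true := by decide +kernel
theorem s12c333 : allBelow (fun k => fs12 (Nat.add (Nat.succ 134450) k)) 798 = true := by decide +kernel
theorem s12c334 : allBelow (fun k => fs12 (Nat.add (Nat.succ 135248) k)) 798 = true := by decide +kernel
theorem s12c335 : allBelow (fun k => fs12 (Nat.add (Nat.succ 136046) k)) 798 = true := by decide +kernel
theorem s12c336 : allBelow (fun k => fs12 (Nat.add (Nat.succ 136844) k)) 798 = true := by decide +kernel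
theorem s12c337 : allBelow (fun k => fs12 (Nat.add (Nat.succ 137642) k)) 798 = true := by decide +kernel
theorem s12c338 : allBelow (fun k => fs12 (Nat.add (Nat.succ 138440) k)) 795 = true := by decide +kernel
theorem s12c339 : allBelow (fun k => fs12 (Nat.add (Nat.succ 139235) k)) 798 = true := by decide +kernel
theorem s12c340 : allBelow (fun k => fs12 (Nat.add (Nat.succ 140033) k)) 798 = true := by decide +kernel
theorem s12c341 : allBelow (fun k => fs12 (Nat.add (Nat.succ 140831) k)) 798 = true := by decide +kernel
theorem s12c342 : allBelow (fun k => fs12 (Nat.add (Nat.succ 141629) k)) 798 = true := by decide +kernel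
theorem s12c343 : allBelow (fun k => fs12 (Nat.add (Nat.succ 142427) k)) 798 = true := by decide +kernel
theorem s12c344 : allBelow (fun k => fs12 (Nat.add (Nat.succ 143225) k)) 798 = true := by decide +kernel
theorem s12c345 : allBelow (fun k => fs12 (Nat.add (Nat.succ 144023) k)) 798 = true := by decide +kernel
theorem s12c346 : allBelow (fun k => fs12 (Nat.add (Nat.succ 144821) k)) 798 = true := by decide +kernel
theorem s12c347 : allBelow (fun k => fs12 (Nat.add (Nat.succ 145619) k)) 798 = true := by decide +kernel
theorem s12c348 : allBelow (fun k => fs12 (Nat.add (Nat.succ 146417) k)) 798 = true := by decide +kernel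
theorem s12c349 : allBelow (fun k => fs12 (Nat.add (Nat.succ 147215) k)) 798 = true := by decide +kernel
theorem s12c350 : allBelow (fun k => fs12 (Nat.add (Nat.succ 148013) k)) 798 = true := by decide +kernel
theorem s12c351 : allBelow (fun k => fs12 (Nat.add (Nat.succ 148811) k)) 798 = true := by decide +kernel
theorem s12c352 : allBelow (fun k => fs12 (Nat.add (Nat.succ 149609) k)) 798 = true := by decide +kernel
theorem s12c353 : allBelow (fun k => fs12 (Nat.add (Nat.succ 150407) k)) 798 = true := by decide +kernel
theorem s12c354 : allBelow (fun k => fs12 (Nat.add (Nat.succ 151205) k)) 798 = true := by decide +kernel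
theorem s12c355 : allBelow (fun k => fs12 (Nat.add (Nat.succ 152003) k)) 798 = true := by decide +kernel
theorem s12c356 : allBelow (fun k => fs12 (Nat.add (Nat.succ 152801) k)) 798 = true := by decide +kernel
theorem s12c357 : allBelow (fun k => fs12 (Nat.add (Nat.succ 153599) k)) 798 = true := by decide +kernel
theorem s12c358 : allBelow (fun k => fs12 (Nat.add (Nat.succ 154397) k)) 798 = true := by decide +kernel
theorem s12c359 : allBelow (fun k => fs12 (Nat.add (Nat.succ 155195) k)) 798 = true := by decide +kernel
theorem s12c360 : allBelow (fun k => fs12 (Nat.add (Nat.succ 155993) k)) 798 = true := by decide +kernel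
theorem s12c361 : allBelow (fun k => fs12 (Nat.add (Nat.succ 156791) k)) 798 = true := by decide +kernel
theorem s12c362 : allBelow (fun k => fs12 (Nat.add (Nat.succ 157589) k)) 798 = true := by decide +kernel
theorem s12c363 : allBelow (fun k => fs12 (Nat.add (Nat.succ 158387) k)) 798 = true := by decide +kernel
theorem s12c364 : allBelow (fun k => fs12 (Nat.add (Nat.succ 159185) k)) 798 = true := by decide +kernel
theorem s12c365 : allBelow (fun k => fs12 (Nat.add (Nat.succ 159983) k)) 798 = true := by decide +kernel
theorem s12c366 : allBelow (fun k => fs12 (Nat.add (Nat.succ 160781) k)) 798 = true := by decide +kernel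
theorem s12c367 : allBelow (fun k => fs12 (Nat.add (Nat.succ 161579) k)) 798 = true := by decide +kernel
theorem s12c368 : allBelow (fun k => fs12 (Nat.add (Nat.succ 162377) k)) 798 = true := by decide +kernel
theorem s12c369 : allBelow (fun k => fs12 (Nat.add (Nat.succ 163175) k)) 798 = true := by decide +kernel
theorem s12c370 : allBelow (fun k => fs12 (Nat.add (Nat.succ 163973) k)) 798 = true := by decide +kernel
theorem s12c371 : allBelow (fun k => fs12 (Nat.add (Nat.succ 164771) k)) 798 = true := by decide +kernel
theorem s12c372 : allBelow (fun k => fs12 (Nat.add (Nat.succ 165569) k)) 798 = true := by decide +kernel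
theorem s12c373 : allBelow (fun k => fs12 (Nat.add (Nat.succ 166367) k)) 798 = true := by decide +kernel
theorem s12c374 : allBelow (fun k => fs12 (Nat.add (Nat.succ 167165) k)) 798 = true := by decide +kernel
theorem s12c375 : allBelow (fun k => fs12 (Nat.add (Nat.succ 167963) k)) 798 = true := by decide +kernel
theorem s12c376 : allBelow (fun k => fs12 (Nat.add (Nat.succ 168761) k)) 798 = true := by decide +kernel
theorem s12c377 : allBelow (fun k => fs12 (Nat.add (Nat.succ 169559) k)) 798 = true := by decide +kernel
theorem s12c378 : allBelow (fun k => fs12 (Nat.add (Nat.succ 170357) k)) 798 = true := by decide +kernel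
theorem s12c379 : allBelow (fun k => fs12 (Nat.add (Nat.succ 171155) k)) 798 = true := by decide +kernel
theorem s12c380 : allBelow (fun k => fs12 (Nat.add (Nat.succ 171953) k)) 798 = true := by decide +kernel
theorem s12c381 : allBelow (fun k => fs12 (Nat.add (Nat.succ 172751) k)) 798 = true := by decide +kernel
theorem s12c382 : allBelow (fun k => fs12 (Nat.add (Nat.succ 173549) k)) 798 = true := by decide +kernel
theorem s12c383 : allBelow (fun k => fs12 (Nat.add (Nat.succ 174347) k)) 798 = true := by decide +kernel
theorem s12c384 : allBelow (fun k => fs12 (Nat.add (Nat.succ 175145) k)) 798 = true := by decide +kernel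
theorem s12c385 : allBelow (fun k => fs12 (Nat.add (Nat.succ 175943) k)) 798 = true := by decide +kernel
theorem s12c386 : allBelow (fun k => fs12 (Nat.add (Nat.succ 176741) k)) 798 = true := by decide +kernel
theorem s12c387 : allBelow (fun k => fs12 (Nat.add (Nat.succ 177539) k)) 798 = true := by decide +kernel
theorem s12c388 : allBelow (fun k => fs12 (Nat.add (Nat.succ 178337) k)) 798 = true := by decide +kernel
theorem s12c389 : allBelow (fun k => fs12 (Nat.add (Nat.succ 179135) k)) 798 = true := by decide +kernel
theorem s12c390 : allBelow (fun k => fs12 (Nat.add (Nat.succ 179933) k)) 798 = true := by decide +kernel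
theorem s12c391 : allBelow (fun k => fs12 (Nat.add (Nat.succ 180731) k)) 798 = true := by decide +kernel
theorem s12c392 : allBelow (fun k => fs12 (Nat.add (Nat.succ 181529) k)) 798 = true := by decide +kernel
theorem s12c393 : allBelow (fun k => fs12 (Nat.add (Nat.succ 182327) k)) 798 = true := by decide +kernel
theorem s12c394 : allBelow (fun k => fs12 (Nat.add (Nat.succ 183125) k)) 798 = true := by decide +kernel
theorem s12c395 : allBelow (fun k => fs12 (Nat.add (Nat.succ 183923) k)) 798 = true := by decide +kernel
theorem s12c396 : allBelow (fun k => fs12 (Nat.add (Nat.succ 184721) k)) 798 = true := by decide +kernel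
theorem s12c397 : allBelow (fun k => fs12 (Nat.add (Nat.succ 185519) k)) 798 = true := by decide +kernel
theorem s12c398 : allBelow (fun k => fs12 (Nat.add (Nat.succ 186317) k)) 798 = true := by decide +kernel
theorem s12c399 : allBelow (fun k => fs12 (Nat.add (Nat.succ 187115) k)) 798 = true := by decide +kernel
theorem s12c400 : allBelow (fun k => fs12 (Nat.add (Nat.succ 187913) k)) 798 = true := by decide +kernel
theorem s12c401 : allBelow (fun k => fs12 (Nat.add (Nat.succ 188711) k)) 798 = true := by decide +kernel
theorem s12c402 : allBelow (fun k => fs12 (Nat.add (Nat.succ 189509) k)) 798 = true := by decide +kernel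
theorem s12c403 : allBelow (fun k => fs12 (Nat.add (Nat.succ 190307) k)) 798 = true := by decide +kernel
theorem s12c404 : allBelow (fun k => fs12 (Nat.add (Nat.succ 191105) k)) 798 = true := by decide +kernel
theorem s12c405 : allBelow (fun k => fs12 (Nat.add (Nat.succ 191903) k)) 798 = true := by decide +kernel
theorem s12c406 : allBelow (fun k => fs12 (Nat.add (Nat.succ 192701) k)) 798 = true := by decide +kernel
theorem s12c407 : allBelow (fun k => fs12 (Nat.add (Nat.succ 193499) k)) 798 = true := by decide +kernel
theorem s12c408 : allBelow (fun k => fs12 (Nat.add (Nat.succ 194297) k)) 798 = true := by decide +kernel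
theorem s12c409 : allBelow (fun k => fs12 (Nat.add (Nat.succ 195095) k)) 798 = true := by decide +kernel
theorem s12c410 : allBelow (fun k => fs12 (Nat.add (Nat.succ 195893) k)) 775 = true := by decide +kernel
theorem s12c411 : allBelow (fun k => fs12 (Nat.add (Nat.succ 196668) k)) 798 = true := by decide +kernel
theorem s12c412 : allBelow (fun k => fs12 (Nat.add (Nat.succ 197466) k)) 798 = true := by decide +kernel
theorem s12c413 : allBelow (fun k => fs12 (Nat.add (Nat.succ 198264) k)) 796 = true := by decide +kernel
theorem s12c414 : allBelow (fun k => fs12 (Nat.add (Nat.succ 199060) k)) 798 = true := by decide +kernel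
theorem s12c415 : allBelow (fun k => fs12 (Nat.add (Nat.succ 199858) k)) 798 = true := by decide +kernel
theorem s12c416 : allBelow (fun k => fs12 (Nat.add (Nat.succ 200656) k)) 798 = true := by decide +kernel
theorem s12c417 : allBelow (fun k => fs12 (Nat.add (Nat.succ 201454) k)) 798 = true := by decide +kernel
theorem s12c418 : allBelow (fun k => fs12 (Nat.add (Nat.succ 202252) k)) 798 = true := by decide +kernel
theorem s12c419 : allBelow (fun k => fs12 (Nat.add (Nat.succ 203050) k)) 798 = true := by decide +kernel
theorem s12c420 : allBelow (fun k => fs12 (Nat.add (Nat.succ 203848) k)) 798 = true := by decide +kernel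
theorem s12c421 : allBelow (fun k => fs12 (Nat.add (Nat.succ 204646) k)) 798 = true := by decide +kernel
theorem s12c422 : allBelow (fun k => fs12 (Nat.add (Nat.succ 205444) k)) 798 = true := by decide +kernel
theorem s12c423 : allBelow (fun k => fs12 (Nat.add (Nat.succ 206242) k)) 798 = true := by decide +kernel
theorem s12c424 : allBelow (fun k => fs12 (Nat.add (Nat.succ 207040) k)) 773 = true := by decide +kernel
theorem s12c425 : allBelow (fun k => fs12 (Nat.add (Nat.succ 207813) k)) 798 = true := by decide +kernel
theorem s12c426 : allBelow (fun k => fs12 (Nat.add (Nat.succ 208611) k)) 795 = true := by decide +kernel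
theorem s12c427 : allBelow (fun k => fs12 (Nat.add (Nat.succ 209406) k)) 798 = true := by decide +kernel
theorem s12c428 : allBelow (fun k => fs12 (Nat.add (Nat.succ 210204) k)) 773 = true := by decide +kernel
theorem s12c429 : allBelow (fun k => fs12 (Nat.add (Nat.succ 210977) k)) 798 = true := by decide +kernel
theorem s12c430 : allBelow (fun k => fs12 (Nat.add (Nat.succ 211775) k)) 798 = true := by decide +kernel
theorem s12c431 : allBelow (fun k => fs12 (Nat.add (Nat.succ 212573) k)) 798 = true := by decide +kernel
theorem s12c432 : allBelow (fun k => fs12 (Nat.add (Nat.succ 213371) k)) 798 = true := by decide +kernel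
theorem s12c433 : allBelow (fun k => fs12 (Nat.add (Nat.succ 214169) k)) 798 = true := by decide +kernel
theorem s12c434 : allBelow (fun k => fs12 (Nat.add (Nat.succ 214967) k)) 798 = true := by decide +kernel
theorem s12c435 : allBelow (fun k => fs12 (Nat.add (Nat.succ 215765) k)) 798 = true := by decide +kernel
theorem s12c436 : allBelow (fun k => fs12 (Nat.add (Nat.succ 216563) k)) 798 = true := by decide +kernel
theorem s12c437 : allBelow (fun k => fs12 (Nat.add (Nat.succ 217361) k)) 798 = true := by decide +kernel
theorem s12c438 : allBelow (fun k => fs12 (Nat.add (Nat.succ 218159) k)) 798 = true := by decide +kernel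
theorem s12c439 : allBelow (fun k => fs12 (Nat.add (Nat.succ 218957) k)) 798 = true := by decide +kernel
theorem s12c440 : allBelow (fun k => fs12 (Nat.add (Nat.succ 219755) k)) 798 = true := by decide +kernel
theorem s12c441 : allBelow (fun k => fs12 (Nat.add (Nat.succ 220553) k)) 798 = true := by decide +kernel
theorem s12c442 : allBelow (fun k => fs12 (Nat.add (Nat.succ 221351) k)) 798 = true := by decide +kernel
theorem s12c443 : allBelow (fun k => fs12 (Nat.add (Nat.succ 222149) k)) 798 = true := by decide +kernel
theorem s12c444 : allBelow (fun k => fs12 (Nat.add (Nat.succ 222947) k)) 798 = true := by decide +kernel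
theorem s12c445 : allBelow (fun k => fs12 (Nat.add (Nat.succ 223745) k)) 798 = true := by decide +kernel
theorem s12c446 : allBelow (fun k => fs12 (Nat.add (Nat.succ 224543) k)) 798 = true := by decide +kernel
theorem s12c447 : allBelow (fun k => fs12 (Nat.add (Nat.succ 225341) k)) 798 = true := by decide +kernel
theorem s12c448 : allBelow (fun k => fs12 (Nat.add (Nat.succ 226139) k)) 798 = true := by decide +kernel
theorem s12c449 : allBelow (fun k => fs12 (Nat.add (Nat.succ 226937) k)) 798 = true := by decide +kernel
theorem s12c450 : allBelow (fun k => fs12 (Nat.add (Nat.succ 227735) k)) 798 = true := by decide +kernel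
theorem s12c451 : allBelow (fun k => fs12 (Nat.add (Nat.succ 228533) k)) 798 = true := by decide +kernel
theorem s12c452 : allBelow (fun k => fs12 (Nat.add (Nat.succ 229331) k)) 798 = true := by decide +kernel
theorem s12c453 : allBelow (fun k => fs12 (Nat.add (Nat.succ 230129) k)) 798 = true := by decide +kernel
theorem s12c454 : allBelow (fun k => fs12 (Nat.add (Nat.succ 230927) k)) 798 = true := by decide +kernel
theorem s12c455 : allBelow (fun k => fs12 (Nat.add (Nat.succ 231725) k)) 798 = true := by decide +kernel
theorem s12c456 : allBelow (fun k => fs12 (Nat.add (Nat.succ 232523) k)) 798 = true := by decide +kernel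
theorem s12c457 : allBelow (fun k => fs12 (Nat.add (Nat.succ 233321) k)) 798 = true := by decide +kernel
theorem s12c458 : allBelow (fun k => fs12 (Nat.add (Nat.succ 234119) k)) 798 = true := by decide +kernel
theorem s12c459 : allBelow (fun k => fs12 (Nat.add (Nat.succ 234917) k)) 798 = true := by decide +kernel
theorem s12c460 : allBelow (fun k => fs12 (Nat.add (Nat.succ 235715) k)) 798 = true := by decide +kernel
theorem s12c461 : allBelow (fun k => fs12 (Nat.add (Nat.succ 236513) k)) 798 = true := by decide +kernel
theorem s12c462 : allBelow (fun k => fs12 (Nat.add (Nat.succ 237311) k)) 798 = true := by decide +kernel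
theorem s12c463 : allBelow (fun k => fs12 (Nat.add (Nat.succ 238109) k)) 798 = true := by decide +kernel
theorem s12c464 : allBelow (fun k => fs12 (Nat.add (Nat.succ 238907) k)) 798 = true := by decide +kernel
theorem s12c465 : allBelow (fun k => fs12 (Nat.add (Nat.succ 239705) k)) 798 = true := by decide +kernel
theorem s12c466 : allBelow (fun k => fs12 (Nat.add (Nat.succ 240503) k)) 798 = true := by decide +kernel
theorem s12c467 : allBelow (fun k => fs12 (Nat.add (Nat.succ 241301) k)) 798 = true := by decide +kernel
theorem s12c468 : allBelow (fun k => fs12 (Nat.add (Nat.succ 242099) k)) 798 = true := by decide +kernel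
theorem s12c469 : allBelow (fun k => fs12 (Nat.add (Nat.succ 242897) k)) 798 = true := by decide +kernel
theorem s12c470 : allBelow (fun k => fs12 (Nat.add (Nat.succ 243695) k)) 798 = true := by decide +kernel
theorem s12c471 : allBelow (fun k => fs12 (Nat.add (Nat.succ 244493) k)) 798 = true := by decide +kernel
theorem s12c472 : allBelow (fun k => fs12 (Nat.add (Nat.succ 245291) k)) 798 = true := by decide +kernel
theorem s12c473 : allBelow (fun k => fs12 (Nat.add (Nat.succ 246089) k)) 798 = true := by decide +kernel
theorem s12c474 : allBelow (fun k => fs12 (Nat.add (Nat.succ 246887) k)) 798 = true := by decide +kernel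
theorem s12c475 : allBelow (fun k => fs12 (Nat.add (Nat.succ 247685) k)) 798 = true := by decide +kernel
theorem s12c476 : allBelow (fun k => fs12 (Nat.add (Nat.succ 248483) k)) 798 = true := by decide +kernel
theorem s12c477 : allBelow (fun k => fs12 (Nat.add (Nat.succ 249281) k)) 798 = true := by decide +kernel
theorem s12c478 : allBelow (fun k => fs12 (Nat.add (Nat.succ 250079) k)) 798 = true := by decide +kernel
theorem s12c479 : allBelow (fun k => fs12 (Nat.add (Nat.succ 250877) k)) 798 = true := by decide +kernel
theorem s12c480 : allBelow (fun k => fs12 (Nat.add (Nat.succ 251675) k)) 798 = true := by decide +kernel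
theorem s12c481 : allBelow (fun k => fs12 (Nat.add (Nat.succ 252473) k)) 798 = true := by decide +kernel
theorem s12c482 : allBelow (fun k => fs12 (Nat.add (Nat.succ 253271) k)) 798 = true := by decide +kernel
theorem s12c483 : allBelow (fun k => fs12 (Nat.add (Nat.succ 254069) k)) 798 = true := by decide +kernel
theorem s12c484 : allBelow (fun k => fs12 (Nat.add (Nat.succ 254867) k)) 798 = true := by decide +kernel
theorem s12c485 : allBelow (fun k => fs12 (Nat.add (Nat.succ 255665) k)) 798 = true := by decide +kernel
theorem s12c486 : allBelow (fun k => fs12 (Nat.add (Nat.succ 256463) k)) 798 = true := by decide +kernel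
theorem s12c487 : allBelow (fun k => fs12 (Nat.add (Nat.succ 257261) k)) 798 = true := by decide +kernel
theorem s12c488 : allBelow (fun k => fs12 (Nat.add (Nat.succ 258059) k)) 798 = true := by decide +kernel
theorem s12c489 : allBelow (fun k => fs12 (Nat.add (Nat.succ 258857) k)) 798 = true := by decide +kernel
theorem s12c490 : allBelow (fun k => fs12 (Nat.add (Nat.succ 259655) k)) 798 = true := by decide +kernel
theorem s12c491 : allBelow (fun k => fs12 (Nat.add (Nat.succ 260453) k)) 798 = true := by decide +kernel
theorem s12c492 : allBelow (fun k => fs12 (Nat.add (Nat.succ 261251) k)) 798 = true := by decide +kernel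
theorem s12c493 : allBelow (fun k => fs12 (Nat.add (Nat.succ 262049) k)) 798 = true := by decide +kernel
theorem s12c494 : allBelow (fun k => fs12 (Nat.add (Nat.succ 262847) k)) 798 = true := by decide +kernel
theorem s12c495 : allBelow (fun k => fs12 (Nat.add (Nat.succ 263645) k)) 798 = true := by decide +kernel
theorem s12c496 : allBelow (fun k => fs12 (Nat.add (Nat.succ 264443) k)) 798 = true := by decide +kernel
theorem s12c497 : allBelow (fun k => fs12 (Nat.add (Nat.succ 265241) k)) 798 = true := by decide +kernel
theorem s12c498 : allBelow (fun k => fs12 (Nat.add (Nat.succ 266039) k)) 798 = true := by decide +kernel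
theorem s12c499 : allBelow (fun k => fs12 (Nat.add (Nat.succ 266837) k)) 798 = true := by decide +kernel
theorem s12c500 : allBelow (fun k => fs12 (Nat.add (Nat.succ 267635) k)) 798 = true := by decide +kernel
theorem s12c501 : allBelow (fun k => fs12 (Nat.add (Nat.succ 268433) k)) 798 = true := by decide +kernel
theorem s12c502 : allBelow (fun k => fs12 (Nat.add (Nat.succ 269231) k)) 798 = true := by decide +kernel
theorem s12c503 : allBelow (fun k => fs12 (Nat.add (Nat.succ 270029) k)) 798 = true := by decide +kernel
theorem s12c504 : allBelow (fun k => fs12 (Nat.add (Nat.succ 270827) k)) 798 = true := by decide +kernel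
theorem s12c505 : allBelow (fun k => fs12 (Nat.add (Nat.succ 271625) k)) 798 = true := by decide +kernel
theorem s12c506 : allBelow (fun k => fs12 (Nat.add (Nat.succ 272423) k)) 798 = true := by decide +kernel
theorem s12c507 : allBelow (fun k => fs12 (Nat.add (Nat.succ 273221) k)) 798 = true := by decide +kernel
theorem s12c508 : allBelow (fun k => fs12 (Nat.add (Nat.succ 274019) k)) 798 = true := by decide +kernel
theorem s12c509 : allBelow (fun k => fs12 (Nat.add (Nat.succ 274817) k)) 798 = true := by decide +kernel
theorem s12c510 : allBelow (fun k => fs12 (Nat.add (Nat.succ 275615) k)) 798 = true := by decide +kernel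
theorem s12c511 : allBelow (fun k => fs12 (Nat.add (Nat.succ 276413) k)) 798 = true := by decide +kernel
theorem s12c512 : allBelow (fun k => fs12 (Nat.add (Nat.succ 277211) k)) 798 = true := by decide +kernel
theorem s12c513 : allBelow (fun k => fs12 (Nat.add (Nat.succ 278009) k)) 798 = true := by decide +kernel
theorem s12c514 : allBelow (fun k => fs12 (Nat.add (Nat.succ 278807) k)) 798 = true := by decide +kernel
theorem s12c515 : allBelow (fun k => fs12 (Nat.add (Nat.succ 279605) k)) 798 = true := by decide +kernel
theorem s12c516 : allBelow (fun k => fs12 (Nat.add (Nat.succ 280403) k)) 798 = true := by decide +kernel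
theorem s12c517 : allBelow (fun k => fs12 (Nat.add (Nat.succ 281201) k)) 798 = true := by decide +kernel
theorem s12c518 : allBelow (fun k => fs12 (Nat.add (Nat.succ 281999) k)) 798 = true := by decide +kernel
theorem s12c519 : allBelow (fun k => fs12 (Nat.add (Nat.succ 282797) k)) 798 = true := by decide +kernel
theorem s12c520 : allBelow (fun k => fs12 (Nat.add (Nat.succ 283595) k)) 798 = true := by decide +kernel
theorem s12c521 : allBelow (fun k => fs12 (Nat.add (Nat.succ 284393) k)) 798 = true := by decide +kernel
theorem s12c522 : allBelow (fun k => fs12 (Nat.add (Nat.succ 285191) k)) 798 = true := by decide +kernel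
theorem s12c523 : allBelow (fun k => fs12 (Nat.add (Nat.succ 285989) k)) 798 = true := by decide +kernel
theorem s12c524 : allBelow (fun k => fs12 (Nat.add (Nat.succ 286787) k)) 798 = true := by decide +kernel
theorem s12c525 : allBelow (fun k => fs12 (Nat.add (Nat.succ 287585) k)) 798 = true := by decide +kernel
theorem s12c526 : allBelow (fun k => fs12 (Nat.add (Nat.succ 288383) k)) 798 = true := by decide +kernel
theorem s12c527 : allBelow (fun k => fs12 (Nat.add (Nat.succ 289181) k)) 798 = true := by decide +kernel
theorem s12c528 : allBelow (fun k => fs12 (Nat.add (Nat.succ 289979) k)) 798 = true := by decide +kernel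
theorem s12c529 : allBelow (fun k => fs12 (Nat.add (Nat.succ 290777) k)) 798 = true := by decide +kernel
theorem s12c530 : allBelow (fun k => fs12 (Nat.add (Nat.succ 291575) k)) 798 = true := by decide +kernel
theorem s12c531 : allBelow (fun k => fs12 (Nat.add (Nat.succ 292373) k)) 798 = true := by decide +kernel
theorem s12c532 : allBelow (fun k => fs12 (Nat.add (Nat.succ 293171) k)) 798 = true := by decide +kernel
theorem s12c533 : allBelow (fun k => fs12 (Nat.add (Nat.succ 293969) k)) 798 = true := by decide +kernel
theorem s12c534 : allBelow (fun k => fs12 (Nat.add (Nat.succ 294767) k)) 798 = true := by decide +kernel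
theorem s12c535 : allBelow (fun k => fs12 (Nat.add (Nat.succ 295565) k)) 798 = true := by decide +kernel
theorem s12c536 : allBelow (fun k => fs12 (Nat.add (Nat.succ 296363) k)) 798 = true := by decide +kernel
theorem s12c537 : allBelow (fun k => fs12 (Nat.add (Nat.succ 297161) k)) 798 = true := by decide +kernel
theorem s12c538 : allBelow (fun k => fs12 (Nat.add (Nat.succ 297959) k)) 798 = true := by decide +kernel
theorem s12c539 : allBelow (fun k => fs12 (Nat.add (Nat.succ 298757) k)) 798 = true := by decide +kernel
theorem s12c540 : allBelow (fun k => fs12 (Nat.add (Nat.succ 299555) k)) 798 = true := by decide +kernel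
theorem s12c541 : allBelow (fun k => fs12 (Nat.add (Nat.succ 300353) k)) 798 = true := by decide +kernel
theorem s12c542 : allBelow (fun k => fs12 (Nat.add (Nat.succ 301151) k)) 798 = true := by decide +kernel
theorem s12c543 : allBelow (fun k => fs12 (Nat.add (Nat.succ 301949) k)) 798 = true := by decide +kernel
theorem s12c544 : allBelow (fun k => fs12 (Nat.add (Nat.succ 302747) k)) 798 = true := by decide +kernel
theorem s12c545 : allBelow (fun k => fs12 (Nat.add (Nat.succ 303545) k)) 798 = true := by decide +kernel
theorem s12c546 : allBelow (fun k => fs12 (Nat.add (Nat.succ 304343) k)) 798 = true := by decide +kernel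
theorem s12c547 : allBelow (fun k => fs12 (Nat.add (Nat.succ 305141) k)) 798 = true := by decide +kernel
theorem s12c548 : allBelow (fun k => fs12 (Nat.add (Nat.succ 305939) k)) 798 = true := by decide +kernel
theorem s12c549 : allBelow (fun k => fs12 (Nat.add (Nat.succ 306737) k)) 798 = true := by decide +kernel
theorem s12c550 : allBelow (fun k => fs12 (Nat.add (Nat.succ 307535) k)) 798 = true := by decide +kernel
theorem s12c551 : allBelow (fun k => fs12 (Nat.add (Nat.succ 308333) k)) 798 = true := by decide +kernel
theorem s12c552 : allBelow (fun k => fs12 (Nat.add (Nat.succ 309131) k)) 798 = true := by decide +kernel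
theorem s12c553 : allBelow (fun k => fs12 (Nat.add (Nat.succ 309929) k)) 798 = true := by decide +kernel
theorem s12c554 : allBelow (fun k => fs12 (Nat.add (Nat.succ 310727) k)) 798 = true := by decide +kernel

end Cfsg.Agent.Lib.Helper35.Fi24a
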