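import Cfsg.Agent.Lib.Helper35.Fi24a.Data

set_option Elab.async false

namespace Cfsg.Agent.Lib.Helper35.Fi24a

open Cfsg.Agent.Lib.Helper35

theorem s12c555 : allBelow (fun k => fs12 (Nat.add (Nat.succ 311525) k)) 798 = true := by decide +kernel
theorem s12c556 : allBelow (fun k => fs12 (Nat.add (Nat.succ 312323) k)) 798 = true := by decide +kernel
theorem s12c557 : allBelow (fun k => fs12 (Nat.add (Nat.succ 313121) k)) 798 = true := by decide +kernel
theorem s12c558 : allBelow (fun k => fs12 (Nat.add (Nat.succ 313919) k)) 798 = true := by decide +kernel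
theorem s12c559 : allBelow (fun k => fs12 (Nat.add (Nat.succ 314717) k)) 798 = true := by decide +kernel
theorem s12c560 : allBelow (fun k => fs12 (Nat.add (Nat.succ 315515) k)) 798 = true := by decide +kernel
theorem s12c561 : allBelow (fun k => fs12 (Nat.add (Nat.succ 316313) k)) 798 = true := by decide +kernel
theorem s12c562 : allBelow (fun k => fs12 (Nat.add (Nat.succ 317111) k)) 798 = true := by decide +kernel
theorem s12c563 : allBelow (fun k => fs12 (Nat.add (Nat.succ 317909) k)) 798 = true := by decide +kernel
theorem s12c564 : allBelow (fun k => fs12 (Nat.add (Nat.succ 318707) k)) 798 = true := by decide +kernel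
theorem s12c565 : allBelow (fun k => fs12 (Nat.add (Nat.succ 319505) k)) 798 = true := by decide +kernel
theorem s12c566 : allBelow (fun k => fs12 (Nat.add (Nat.succ 320303) k)) 798 = true := by decide +kernel
theorem s12c567 : allBelow (fun k => fs12 (Nat.add (Nat.succ 321101) k)) 798 = true := by decide +kernel
theorem s12c568 : allBelow (fun k => fs12 (Nat.add (Nat.succ 321899) k)) 798 = true := by decide +kernel
theorem s12c569 : allBelow (fun k => fs12 (Nat.add (Nat.succ 322697) k)) 798 = true := by decide +kernel
theorem s12c570 : allBelow (fun k => fs12 (Nat.add (Nat.succ 323495) k)) 798 = true := by decide +kernel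
theorem s12c571 : allBelow (fun k => fs12 (Nat.add (Nat.succ 324293) k)) 798 = true := by decide +kernel
theorem s12c572 : allBelow (fun k => fs12 (Nat.add (Nat.succ 325091) k)) 798 = true := by decide +kernel
theorem s12c573 : allBelow (fun k => fs12 (Nat.add (Nat.succ 325889) k)) 798 = true := by decide +kernel
theorem s12c574 : allBelow (fun k => fs12 (Nat.add (Nat.succ 326687) k)) 798 = true := by decide +kernel
theorem s12c575 : allBelow (fun k => fs12 (Nat.add (Nat.succ 327485) k)) 798 = true := by decide +kernel
theorem s12c576 : allBelow (fun k => fs12 (Nat.add (Nat.succ 328283) k)) 798 = true := by decide +kernel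
theorem s12c577 : allBelow (fun k => fs12 (Nat.add (Nat.succ 329081) k)) 798 = true := by decide +kernel
theorem s12c578 : allBelow (fun k => fs12 (Nat.add (Nat.succ 329879) k)) 798 = true := by decide +kernel
theorem s12c579 : allBelow (fun k => fs12 (Nat.add (Nat.succ 330677) k)) 798 = true := by decide +kernel
theorem s12c580 : allBelow (fun k => fs12 (Nat.add (Nat.succ 331475) k)) 798 = true := by decide +kernel
theorem s12c581 : allBelow (fun k => fs12 (Nat.add (Nat.succ 332273) k)) 798 = true := by decide +kernel
theorem s12c582 : allBelow (fun k => fs12 (Nat.add (Nat.succ 333071) k)) 798 = true := by decide +kernel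
theorem s12c583 : allBelow (fun k => fs12 (Nat.add (Nat.succ 333869) k)) 798 = true := by decide +kernel
theorem s12c584 : allBelow (fun k => fs12 (Nat.add (Nat.succ 334667) k)) 798 = true := by decide +kernel
theorem s12c585 : allBelow (fun k => fs12 (Nat.add (Nat.succ 335465) k)) 798 = true := by decide +kernel
theorem s12c586 : allBelow (fun k => fs12 (Nat.add (Nat.succ 336263) k)) 798 = true := by decide +kernel
theorem s12c587 : allBelow (fun k => fs12 (Nat.add (Nat.succ 337061) k)) 798 = true := by decide +kernel
theorem s12c588 : allBelow (fun k => fs12 (Nat.add (Nat.succ 337859) k)) 798 = true := by decide +kernel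
theorem s12c589 : allBelow (fun k => fs12 (Nat.add (Nat.succ 338657) k)) 798 = true := by decide +kernel
theorem s12c590 : allBelow (fun k => fs12 (Nat.add (Nat.succ 339455) k)) 798 = true := by decide +kernel
theorem s12c591 : allBelow (fun k => fs12 (Nat.add (Nat.succ 340253) k)) 798 = true := by decide +kernel
theorem s12c592 : allBelow (fun k => fs12 (Nat.add (Nat.succ 341051) k)) 798 = true := by decide +kernel
theorem s12c593 : allBelow (fun k => fs12 (Nat.add (Nat.succ 341849) k)) 798 = true := by decide +kernel
theorem s12c594 : allBelow (fun k => fs12 (Nat.add (Nat.succ 342647) k)) 798 = true := by decide +kernel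
theorem s12c595 : allBelow (fun k => fs12 (Nat.add (Nat.succ 343445) k)) 798 = true := by decide +kernel
theorem s12c596 : allBelow (fun k => fs12 (Nat.add (Nat.succ 344243) k)) 798 = true := by decide +kernel
theorem s12c597 : allBelow (fun k => fs12 (Nat.add (Nat.succ 345041) k)) 798 = true := by decide +kernel
theorem s12c598 : allBelow (fun k => fs12 (Nat.add (Nat.succ 345839) k)) 798 = true := by decide +kernel
theorem s12c599 : allBelow (fun k => fs12 (Nat.add (Nat.succ 346637) k)) 798 = true := by decide +kernel
theorem s12c600 : allBelow (fun k => fs12 (Nat.add (Nat.succ 347435) k)) 798 = true := by decide +kernel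
theorem s12c601 : allBelow (fun k => fs12 (Nat.add (Nat.succ 348233) k)) 798 = true := by decide +kernel
theorem s12c602 : allBelow (fun k => fs12 (Nat.add (Nat.succ 349031) k)) 798 = true := by decide +kernel
theorem s12c603 : allBelow (fun k => fs12 (Nat.add (Nat.succ 349829) k)) 798 = true := by decide +kernel
theorem s12c604 : allBelow (fun k => fs12 (Nat.add (Nat.succ 350627) k)) 798 = true := by decide +kernel
theorem s12c605 : allBelow (fun k => fs12 (Nat.add (Nat.succ 351425) k)) 798 = true := by decide +kernel
theorem s12c606 : allBelow (fun k => fs12 (Nat.add (Nat.succ 352223) k)) 798 = true := by decide +kernel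
theorem s12c607 : allBelow (fun k => fs12 (Nat.add (Nat.succ 353021) k)) 798 = true := by decide +kernel
theorem s12c608 : allBelow (fun k => fs12 (Nat.add (Nat.succ 353819) k)) 798 = true := by decide +kernel
theorem s12c609 : allBelow (fun k => fs12 (Nat.add (Nat.succ 354617) k)) 798 = true := by decide +kernel
theorem s12c610 : allBelow (fun k => fs12 (Nat.add (Nat.succ 355415) k)) 798 = true := by decide +kernel
theorem s12c611 : allBelow (fun k => fs12 (Nat.add (Nat.succ 356213) k)) 798 = true := by decide +kernel
theorem s12c612 : allBelow (fun k => fs12 (Nat.add (Nat.succ 357011) k)) 454 = true := by decide +kernel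
theorem gk0 : countBelow (fun k => gl (Nat.add 0 k)) 1597 = 1476 := by decide +kernel
theorem gk1 : countBelow (fun k => gl (Nat.add 1597 k)) 1597 = 1429 := by decide +kernel
theorem gk2 : countBelow (fun k => gl (Nat.add 3194 k)) 1597 = 1382 := by decide +kernel
theorem gk3 : countBelow (fun k => gl (Nat.add 4791 k)) 1597 = 1318 := by decide +kernel
theorem gk4 : countBelow (fun k => gl (Nat.add 6388 k)) 1597 = 1224 := by decide +kernel
theorem gk5 : countBelow (fun k => gl (Nat.add 7985 k)) 1597 = 1134 := by decide +kernel
theorem gk6 : countBelow (fun k => gl (Nat.add 9582 k)) 1597 = 1319 := by decide +kernel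
theorem gk7 : countBelow (fun k => gl (Nat.add 11179 k)) 1597 = 1357 := by decide +kernel
theorem gk8 : countBelow (fun k => gl (Nat.add 12776 k)) 1597 = 1377 := by decide +kernel
theorem gk9 : countBelow (fun k => gl (Nat.add 14373 k)) 1597 = 1410 := by decide +kernel
theorem gk10 : countBelow (fun k => gl (Nat.add 15970 k)) 1597 = 1012 := by decide +kernel
theorem gk11 : countBelow (fun k => gl (Nat.add 17567 k)) 1597 = 1270 := by decide +kernel
theorem gk12 : countBelow (fun k => gl (Nat.add 19164 k)) 1597 = 1376 := by decide +kernel
theorem gk13 : countBelow (fun k => gl (Nat.add 20761 k)) 1597 = 942 := by decide +kernel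
theorem gk14 : countBelow (fun k => gl (Nat.add 22358 k)) 1597 = 1133 := by decide +kernel
theorem gk15 : countBelow (fun k => gl (Nat.add 23955 k)) 1597 = 1097 := by decide +kernel
theorem gk16 : countBelow (fun k => gl (Nat.add 25552 k)) 1597 = 1338 := by decide +kernel
theorem gk17 : countBelow (fun k => gl (Nat.add 27149 k)) 1597 = 956 := by decide +kernel
theorem gk18 : countBelow (fun k => gl (Nat.add 28746 k)) 1597 = 792 := by decide +kernel
theorem gk19 : countBelow (fun k => gl (Nat.add 30343 k)) 1597 = 1157 := by decide +kernel
theorem gk20 : countBelow (fun k => gl (Nat.add 31940 k)) 1597 = 969 := by decide +kernel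
theorem gk21 : countBelow (fun k => gl (Nat.add 33537 k)) 1597 = 1179 := by decide +kernel
theorem gk22 : countBelow (fun k => gl (Nat.add 35134 k)) 1597 = 1186 := by decide +kernel
theorem gk23 : countBelow (fun k => gl (Nat.add 36731 k)) 1597 = 925 := by decide +kernel
theorem gk24 : countBelow (fun k => gl (Nat.add 38328 k)) 1597 = 684 := by decide +kernel
theorem gk25 : countBelow (fun k => gl (Nat.add 39925 k)) 1597 = 552 := by decide +kernel
theorem gk26 : countBelow (fun k => gl (Nat.add 41522 k)) 1597 = 1309 := by decide +kernel
theorem gk27 : countBelow (fun k => gl (Nat.add 43119 k)) 1597 = 856 := by decide +kernel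
theorem gk28 : countBelow (fun k => gl (Nat.add 44716 k)) 1597 = 805 := by decide +kernel
theorem gk29 : countBelow (fun k => gl (Nat.add 46313 k)) 1597 = 1406 := by decide +kernel
theorem gk30 : countBelow (fun k => gl (Nat.add 47910 k)) 1597 = 1030 := by decide +kernel
theorem gk31 : countBelow (fun k => gl (Nat.add 49507 k)) 1597 = 923 := by decide +kernel
theorem gk32 : countBelow (fun k => gl (Nat.add 51104 k)) 1597 = 499 := by decide +kernel
theorem gk33 : countBelow (fun k => gl (Nat.add 52701 k)) 1597 = 855 := by decide +kernel
theorem gk34 : countBelow (fun k => gl (Nat.add 54298 k)) 1597 = 396 := by decide +kernel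
theorem gk35 : countBelow (fun k => gl (Nat.add 55895 k)) 1597 = 1034 := by decide +kernel
theorem gk36 : countBelow (fun k => gl (Nat.add 57492 k)) 1597 = 1083 := by decide +kernel
theorem gk37 : countBelow (fun k => gl (Nat.add 59089 k)) 1597 = 761 := by decide +kernel
theorem gk38 : countBelow (fun k => gl (Nat.add 60686 k)) 1597 = 638 := by decide +kernel
theorem gk39 : countBelow (fun k => gl (Nat.add 62283 k)) 1597 = 1283 := by decide +kernel
theorem gk40 : countBelow (fun k => gl (Nat.add 63880 k)) 1597 = 1393 := by decide +kernel
theorem gk41 : countBelow (fun k => gl (Nat.add 65477 k)) 1597 = 796 := by decide +kernel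
theorem gk42 : countBelow (fun k => gl (Nat.add 67074 k)) 1597 = 765 := by decide +kernel
theorem gk43 : countBelow (fun k => gl (Nat.add 68671 k)) 1597 = 667 := by decide +kernel
theorem gk44 : countBelow (fun k => gl (Nat.add 70268 k)) 1597 = 473 := by decide +kernel
theorem gk45 : countBelow (fun k => gl (Nat.add 71865 k)) 1597 = 744 := by decide +kernel
theorem gk46 : countBelow (fun k => gl (Nat.add 73462 k)) 1597 = 304 := by decide +kernel
theorem gk47 : countBelow (fun k => gl (Nat.add 75059 k)) 1597 = 1145 := by decide +kernel
theorem gk48 : countBelow (fun k => gl (Nat.add 76656 k)) 1597 = 1216 := by decide +kernel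
theorem gk49 : countBelow (fun k => gl (Nat.add 78253 k)) 1597 = 642 := by decide +kernel
theorem gk50 : countBelow (fun k => gl (Nat.add 79850 k)) 1597 = 749 := by decide +kernel
theorem gk51 : countBelow (fun k => gl (Nat.add 81447 k)) 1597 = 497 := by decide +kernel
theorem gk52 : countBelow (fun k => gl (Nat.add 83044 k)) 1597 = 1229 := by decide +kernel
theorem gk53 : countBelow (fun k => gl (Nat.add 84641 k)) 1597 = 1313 := by decide +kernel
theorem gk54 : countBelow (fun k => gl (Nat.add 86238 k)) 1597 = 1286 := by decide +kernel
theorem gk55 : countBelow (fun k => gl (Nat.add 87835 k)) 1597 = 696 := by decide +kernel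
theorem gk56 : countBelow (fun k => gl (Nat.add 89432 k)) 1597 = 542 := by decide +kernel
theorem gk57 : countBelow (fun k => gl (Nat.add 91029 k)) 1597 = 913 := by decide +kernel
theorem gk58 : countBelow (fun k => gl (Nat.add 92626 k)) 1597 = 169 := by decide +kernel
theorem gk59 : countBelow (fun k => gl (Nat.add 94223 k)) 1597 = 938 := by decide +kernel
theorem gk60 : countBelow (fun k => gl (Nat.add 95820 k)) 1597 = 463 := by decide +kernel
theorem gk61 : countBelow (fun k => gl (Nat.add 97417 k)) 1597 = 350 := by decide +kernel
theorem gk62 : countBelow (fun k => gl (Nat.add 99014 k)) 1597 = 1347 := by decide +kernel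
theorem gk63 : countBelow (fun k => gl (Nat.add 100611 k)) 1597 = 1160 := by decide +kernel
theorem gk64 : countBelow (fun k => gl (Nat.add 102208 k)) 1597 = 938 := by decide +kernel
theorem gk65 : countBelow (fun k => gl (Nat.add 103805 k)) 1597 = 538 := by decide +kernel
theorem gk66 : countBelow (fun k => gl (Nat.add 105402 k)) 1597 = 689 := by decide +kernel
theorem gk67 : countBelow (fun k => gl (Nat.add 106999 k)) 1597 = 866 := by decide +kernel
theorem gk68 : countBelow (fun k => gl (Nat.add 108596 k)) 1597 = 1235 := by decide +kernel
theorem gk69 : countBelow (fun k => gl (Nat.add 110193 k)) 1597 = 1187 := by decide +kernel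
theorem gk70 : countBelow (fun k => gl (Nat.add 111790 k)) 1597 = 1395 := by decide +kernel
theorem gk71 : countBelow (fun k => gl (Nat.add 113387 k)) 1597 = 920 := by decide +kernel
theorem gk72 : countBelow (fun k => gl (Nat.add 114984 k)) 1597 = 604 := by decide +kernel
theorem gk73 : countBelow (fun k => gl (Nat.add 116581 k)) 1597 = 642 := by decide +kernel
theorem gk74 : countBelow (fun k => gl (Nat.add 118178 k)) 1597 = 723 := by decide +kernel
theorem gk75 : countBelow (fun k => gl (Nat.add 119775 k)) 1597 = 634 := by decide +kernel
theorem gk76 : countBelow (fun k => gl (Nat.add 121372 k)) 1597 = 921 := by decide +kernel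
theorem gk77 : countBelow (fun k => gl (Nat.add 122969 k)) 1597 = 265 := by decide +kernel
theorem gk78 : countBelow (fun k => gl (Nat.add 124566 k)) 1597 = 1450 := by decide +kernel
theorem gk79 : countBelow (fun k => gl (Nat.add 126163 k)) 1597 = 1597 := by decide +kernel
theorem gk80 : countBelow (fun k => gl (Nat.add 127760 k)) 1597 = 1597 := by decide +kernel
theorem gk81 : countBelow (fun k => gl (Nat.add 129357 k)) 1597 = 1588 := by decide +kernel
theorem gk82 : countBelow (fun k => gl (Nat.add 130954 k)) 1597 = 1594 := by decide +kernel
theorem gk83 : countBelow (fun k => gl (Nat.add 132551 k)) 1597 = 1597 := by decide +kernel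
theorem gk84 : countBelow (fun k => gl (Nat.add 134148 k)) 1597 = 1597 := by decide +kernel
theorem gk85 : countBelow (fun k => gl (Nat.add 135745 k)) 1597 = 1597 := by decide +kernel
theorem gk86 : countBelow (fun k => gl (Nat.add 137342 k)) 1597 = 1597 := by decide +kernel
theorem gk87 : countBelow (fun k => gl (Nat.add 138939 k)) 1597 = 1596 := by decide +kernel
theorem gk88 : countBelow (fun k => gl (Nat.add 140536 k)) 1597 = 1597 := by decide +kernel
theorem gk89 : countBelow (fun k => gl (Nat.add 142133 k)) 1597 = 1597 := by decide +kernel
theorem gk90 : countBelow (fun k => gl (Nat.add 143730 k)) 1597 = 1597 := by decide +kernel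
theorem gk91 : countBelow (fun k => gl (Nat.add 145327 k)) 1597 = 1597 := by decide +kernel
theorem gk92 : countBelow (fun k => gl (Nat.add 146924 k)) 1597 = 1597 := by decide +kernel
theorem gk93 : countBelow (fun k => gl (Nat.add 148521 k)) 1597 = 1597 := by decide +kernel
theorem gk94 : countBelow (fun k => gl (Nat.add 150118 k)) 1597 = 1597 := by decide +kernel
theorem gk95 : countBelow (fun k => gl (Nat.add 151715 k)) 1597 = 1597 := by decide +kernel
theorem gk96 : countBelow (fun k => gl (Nat.add 153312 k)) 1597 = 1597 := by decide +kernel
theorem gk97 : countBelow (fun k => gl (Nat.add 154909 k)) 1597 = 1597 := by decide +kernel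
theorem gk98 : countBelow (fun k => gl (Nat.add 156506 k)) 1597 = 1597 := by decide +kernel
theorem gk99 : countBelow (fun k => gl (Nat.add 158103 k)) 1597 = 1597 := by decide +kernel
theorem gk100 : countBelow (fun k => gl (Nat.add 159700 k)) 1597 = 1597 := by decide +kernel
theorem gk101 : countBelow (fun k => gl (Nat.add 161297 k)) 1597 = 1597 := by decide +kernel
theorem gk102 : countBelow (fun k => gl (Nat.add 162894 k)) 1597 = 1597 := by decide +kernel
theorem gk103 : countBelow (fun k => gl (Nat.add 164491 k)) 1597 = 1597 := by decide +kernel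
theorem gk104 : countBelow (fun k => gl (Nat.add 166088 k)) 1597 = 1597 := by decide +kernel
theorem gk105 : countBelow (fun k => gl (Nat.add 167685 k)) 1597 = 1597 := by decide +kernel
theorem gk106 : countBelow (fun k => gl (Nat.add 169282 k)) 1597 = 1597 := by decide +kernel
theorem gk107 : countBelow (fun k => gl (Nat.add 170879 k)) 1597 = 1597 := by decide +kernel
theorem gk108 : countBelow (fun k => gl (Nat.add 172476 k)) 1597 = 1597 := by decide +kernel
theorem gk109 : countBelow (fun k => gl (Nat.add 174073 k)) 1597 = 1597 := by decide +kernel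
theorem gk110 : countBelow (fun k => gl (Nat.add 175670 k)) 1597 = 1597 := by decide +kernel
theorem gk111 : countBelow (fun k => gl (Nat.add 177267 k)) 1597 = 1597 := by decide +kernel
theorem gk112 : countBelow (fun k => gl (Nat.add 178864 k)) 1597 = 1597 := by decide +kernel
theorem gk113 : countBelow (fun k => gl (Nat.add 180461 k)) 1597 = 1597 := by decide +kernel
theorem gk114 : countBelow (fun k => gl (Nat.add 182058 k)) 1597 = 1597 := by decide +kernel
theorem gk115 : countBelow (fun k => gl (Nat.add 183655 k)) 1597 = 1597 := by decide +kernel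
theorem gk116 : countBelow (fun k => gl (Nat.add 185252 k)) 1597 = 1597 := by decide +kernel
theorem gk117 : countBelow (fun k => gl (Nat.add 186849 k)) 1597 = 1597 := by decide +kernel
theorem gk118 : countBelow (fun k => gl (Nat.add 188446 k)) 1597 = 1597 := by decide +kernel
theorem gk119 : countBelow (fun k => gl (Nat.add 190043 k)) 1597 = 1597 := by decide +kernel
theorem gk120 : countBelow (fun k => gl (Nat.add 191640 k)) 1597 = 1597 := by decide +kernel
theorem gk121 : countBelow (fun k => gl (Nat.add 193237 k)) 1597 = 1597 := by decide +kernel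
theorem gk122 : countBelow (fun k => gl (Nat.add 194834 k)) 1597 = 1589 := by decide +kernel
theorem gk123 : countBelow (fun k => gl (Nat.add 196431 k)) 1597 = 1596 := by decide +kernel
theorem gk124 : countBelow (fun k => gl (Nat.add 198028 k)) 1597 = 1596 := by decide +kernel
theorem gk125 : countBelow (fun k => gl (Nat.add 199625 k)) 1597 = 1597 := by decide +kernel
theorem gk126 : countBelow (fun k => gl (Nat.add 201222 k)) 1597 = 1597 := by decide +kernel
theorem gk127 : countBelow (fun k => gl (Nat.add 202819 k)) 1597 = 1597 := by decide +kernel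
theorem gk128 : countBelow (fun k => gl (Nat.add 204416 k)) 1597 = 1597 := by decide +kernel
theorem gk129 : countBelow (fun k => gl (Nat.add 206013 k)) 1597 = 1588 := by decide +kernel
theorem gk130 : countBelow (fun k => gl (Nat.add 207610 k)) 1597 = 1596 := by decide +kernel
theorem gk131 : countBelow (fun k => gl (Nat.add 209207 k)) 1597 = 1588 := by decide +kernel
theorem gk132 : countBelow (fun k => gl (Nat.add 210804 k)) 1597 = 1597 := by decide +kernel
theorem gk133 : countBelow (fun k => gl (Nat.add 212401 k)) 1597 = 1597 := by decide +kernel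
theorem gk134 : countBelow (fun k => gl (Nat.add 213998 k)) 1597 = 1597 := by decide +kernel
theorem gk135 : countBelow (fun k => gl (Nat.add 215595 k)) 1597 = 1597 := by decide +kernel
theorem gk136 : countBelow (fun k => gl (Nat.add 217192 k)) 1597 = 1597 := by decide +kernel
theorem gk137 : countBelow (fun k => gl (Nat.add 218789 k)) 1597 = 1597 := by decide +kernel
theorem gk138 : countBelow (fun k => gl (Nat.add 220386 k)) 1597 = 1597 := by decide +kernel
theorem gk139 : countBelow (fun k => gl (Nat.add 221983 k)) 1597 = 1597 := by decide +kernel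
theorem gk140 : countBelow (fun k => gl (Nat.add 223580 k)) 1597 = 1597 := by decide +kernel
theorem gk141 : countBelow (fun k => gl (Nat.add 225177 k)) 1597 = 1597 := by decide +kernel
theorem gk142 : countBelow (fun k => gl (Nat.add 226774 k)) 1597 = 1597 := by decide +kernel
theorem gk143 : countBelow (fun k => gl (Nat.add 228371 k)) 1597 = 1597 := by decide +kernel
theorem gk144 : countBelow (fun k => gl (Nat.add 229968 k)) 1597 = 1597 := by decide +kernel
theorem gk145 : countBelow (fun k => gl (Nat.add 231565 k)) 1597 = 1597 := by decide +kernel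
theorem gk146 : countBelow (fun k => gl (Nat.add 233162 k)) 1597 = 1597 := by decide +kernel
theorem gk147 : countBelow (fun k => gl (Nat.add 234759 k)) 1597 = 1597 := by decide +kernel
theorem gk148 : countBelow (fun k => gl (Nat.add 236356 k)) 1597 = 1597 := by decide +kernel
theorem gk149 : countBelow (fun k => gl (Nat.add 237953 k)) 1597 = 1597 := by decide +kernel
theorem gk150 : countBelow (fun k => gl (Nat.add 239550 k)) 1597 = 1597 := by decide +kernel
theorem gk151 : countBelow (fun k => gl (Nat.add 241147 k)) 1597 = 1597 := by decide +kernel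
theorem gk152 : countBelow (fun k => gl (Nat.add 242744 k)) 1597 = 1597 := by decide +kernel
theorem gk153 : countBelow (fun k => gl (Nat.add 244341 k)) 1597 = 1597 := by decide +kernel
theorem gk154 : countBelow (fun k => gl (Nat.add 245938 k)) 1597 = 1597 := by decide +kernel
theorem gk155 : countBelow (fun k => gl (Nat.add 247535 k)) 1597 = 1597 := by decide +kernel
theorem gk156 : countBelow (fun k => gl (Nat.add 249132 k)) 1597 = 1597 := by decide +kernel
theorem gk157 : countBelow (fun k => gl (Nat.add 250729 k)) 1597 = 1597 := by decide +kernel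
theorem gk158 : countBelow (fun k => gl (Nat.add 252326 k)) 1597 = 1597 := by decide +kernel
theorem gk159 : countBelow (fun k => gl (Nat.add 253923 k)) 1597 = 1597 := by decide +kernel
theorem gk160 : countBelow (fun k => gl (Nat.add 255520 k)) 1597 = 1597 := by decide +kernel
theorem gk161 : countBelow (fun k => gl (Nat.add 257117 k)) 1597 = 1597 := by decide +kernel
theorem gk162 : countBelow (fun k => gl (Nat.add 258714 k)) 1597 = 1597 := by decide +kernel
theorem gk163 : countBelow (fun k => gl (Nat.add 260311 k)) 1597 = 1597 := by decide +kernel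
theorem gk164 : countBelow (fun k => gl (Nat.add 261908 k)) 1597 = 1597 := by decide +kernel
theorem gk165 : countBelow (fun k => gl (Nat.add 263505 k)) 1597 = 1597 := by decide +kernel
theorem gk166 : countBelow (fun k => gl (Nat.add 265102 k)) 1597 = 1597 := by decide +kernel
theorem gk167 : countBelow (fun k => gl (Nat.add 266699 k)) 1597 = 1597 := by decide +kernel
theorem gk168 : countBelow (fun k => gl (Nat.add 268296 k)) 1597 = 1597 := by decide +kernel
theorem gk169 : countBelow (fun k => gl (Nat.add 269893 k)) 1597 = 1597 := by decide +kernel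
theorem gk170 : countBelow (fun k => gl (Nat.add 271490 k)) 1597 = 1597 := by decide +kernel
theorem gk171 : countBelow (fun k => gl (Nat.add 273087 k)) 1597 = 1597 := by decide +kernel
theorem gk172 : countBelow (fun k => gl (Nat.add 274684 k)) 1597 = 1597 := by decide +kernel
theorem gk173 : countBelow (fun k => gl (Nat.add 276281 k)) 1597 = 1597 := by decide +kernel
theorem gk174 : countBelow (fun k => gl (Nat.add 277878 k)) 1597 = 1597 := by decide +kernel
theorem gk175 : countBelow (fun k => gl (Nat.add 279475 k)) 1597 = 1597 := by decide +kernel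
theorem gk176 : countBelow (fun k => gl (Nat.add 281072 k)) 1597 = 1597 := by decide +kernel
theorem gk177 : countBelow (fun k => gl (Nat.add 282669 k)) 1597 = 1597 := by decide +kernel
theorem gk178 : countBelow (fun k => gl (Nat.add 284266 k)) 1597 = 1597 := by decide +kernel
theorem gk179 : countBelow (fun k => gl (Nat.add 285863 k)) 1597 = 1597 := by decide +kernel
theorem gk180 : countBelow (fun k => gl (Nat.add 287460 k)) 1597 = 1597 := by decide +kernel
theorem gk181 : countBelow (fun k => gl (Nat.add 289057 k)) 1597 = 1597 := by decide +kernel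
theorem gk182 : countBelow (fun k => gl (Nat.add 290654 k)) 1597 = 1597 := by decide +kernel
theorem gk183 : countBelow (fun k => gl (Nat.add 292251 k)) 1597 = 1597 := by decide +kernel
theorem gk184 : countBelow (fun k => gl (Nat.add 293848 k)) 1597 = 1597 := by decide +kernel
theorem gk185 : countBelow (fun k => gl (Nat.add 295445 k)) 1597 = 1597 := by decide +kernel
theorem gk186 : countBelow (fun k => gl (Nat.add 297042 k)) 1597 = 1597 := by decide +kernel
theorem gk187 : countBelow (fun k => gl (Nat.add 298639 k)) 1597 = 1597 := by decide +kernel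
theorem gk188 : countBelow (fun k => gl (Nat.add 300236 k)) 1597 = 1597 := by decide +kernel
theorem gk189 : countBelow (fun k => gl (Nat.add 301833 k)) 1597 = 1597 := by decide +kernel
theorem gk190 : countBelow (fun k => gl (Nat.add 303430 k)) 1597 = 1597 := by decide +kernel
theorem gk191 : countBelow (fun k => gl (Nat.add 305027 k)) 1597 = 1597 := by decide +kernel
theorem gk192 : countBelow (fun k => gl (Nat.add 306624 k)) 1597 = 1597 := by decide +kernel
theorem gk193 : countBelow (fun k => gl (Nat.add 308221 k)) 1597 = 1597 := by decide +kernel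
theorem gk194 : countBelow (fun k => gl (Nat.add 309818 k)) 1597 = 1597 := by decide +kernel
theorem gk195 : countBelow (fun k => gl (Nat.add 311415 k)) 1597 = 1597 := by decide +kernel
theorem gk196 : countBelow (fun k => gl (Nat.add 313012 k)) 1597 = 1597 := by decide +kernel
theorem gk197 : countBelow (fun k => gl (Nat.add 314609 k)) 1597 = 1597 := by decide +kernel
theorem gk198 : countBelow (fun k => gl (Nat.add 316206 k)) 1597 = 1597 := by decide +kernel
theorem gk199 : countBelow (fun k => gl (Nat.add 317803 k)) 1597 = 1597 := by decide +kernel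
theorem gk200 : countBelow (fun k => gl (Nat.add 319400 k)) 1597 = 1597 := by decide +kernel
theorem gk201 : countBelow (fun k => gl (Nat.add 320997 k)) 1597 = 1597 := by decide +kernel
theorem gk202 : countBelow (fun k => gl (Nat.add 322594 k)) 1597 = 1597 := by decide +kernel
theorem gk203 : countBelow (fun k => gl (Nat.add 324191 k)) 1597 = 1597 := by decide +kernel
theorem gk204 : countBelow (fun k => gl (Nat.add 325788 k)) 1597 = 1597 := by decide +kernel
theorem gk205 : countBelow (fun k => gl (Nat.add 327385 k)) 1597 = 1597 := by decide +kernel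
theorem gk206 : countBelow (fun k => gl (Nat.add 328982 k)) 1597 = 1597 := by decide +kernel
theorem gk207 : countBelow (fun k => gl (Nat.add 330579 k)) 1597 = 1597 := by decide +kernel
theorem gk208 : countBelow (fun k => gl (Nat.add 332176 k)) 1597 = 1597 := by decide +kernel
theorem gk209 : countBelow (fun k => gl (Nat.add 333773 k)) 1597 = 1597 := by decide +kernel
theorem gk210 : countBelow (fun k => gl (Nat.add 335370 k)) 1597 = 1597 := by decide +kernel
theorem gk211 : countBelow (fun k => gl (Nat.add 336967 k)) 1597 = 1597 := by decide +kernel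
theorem gk212 : countBelow (fun k => gl (Nat.add 338564 k)) 1597 = 1597 := by decide +kernel
theorem gk213 : countBelow (fun k => gl (Nat.add 340161 k)) 1597 = 1597 := by decide +kernel
theorem gk214 : countBelow (fun k => gl (Nat.add 341758 k)) 1597 = 1597 := by decide +kernel
theorem gk215 : countBelow (fun k => gl (Nat.add 343355 k)) 1597 = 1597 := by decide +kernel
theorem gk216 : countBelow (fun k => gl (Nat.add 344952 k)) 1597 = 1597 := by decide +kernel
theorem gk217 : countBelow (fun k => gl (Nat.add 346549 k)) 1597 = 1597 := by decide +kernel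
theorem gk218 : countBelow (fun k => gl (Nat.add 348146 k)) 1597 = 1597 := by decide +kernel
theorem gk219 : countBelow (fun k => gl (Nat.add 349743 k)) 1597 = 1597 := by decide +kernel
theorem gk220 : countBelow (fun k => gl (Nat.add 351340 k)) 1597 = 1597 := by decide +kernel
theorem gk221 : countBelow (fun k => gl (Nat.add 352937 k)) 1597 = 1597 := by decide +kernel
theorem gk222 : countBelow (fun k => gl (Nat.add 354534 k)) 1597 = 1597 := by decide +kernel
theorem gk223 : countBelow (fun k => gl (Nat.add 356131 k)) 1334 = 1334 := by decide +kernel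

end Cfsg.Agent.Lib.Helper35.Fi24a
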