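import Cfsg.Agent.Lib.Helper35.Fi24a.Data

set_option Elab.async false

namespace Cfsg.Agent.Lib.Helper35.Fi24a

open Cfsg.Agent.Lib.Helper35

theorem s1c338 : allBelow (fun k => fs1 (Nat.add (Nat.succ 111306) k)) 346 = true := by decide +kernel
theorem s1c339 : allBelow (fun k => fs1 (Nat.add (Nat.succ 111652) k)) 283 = true := by decide +kernel
theorem s1c340 : allBelow (fun k => fs1 (Nat.add (Nat.succ 111935) k)) 263 = true := by decide +kernel
theorem s1c341 : allBelow (fun k => fs1 (Nat.add (Nat.succ 112198) k)) 272 = true := by decide +kernel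
theorem s1c342 : allBelow (fun k => fs1 (Nat.add (Nat.succ 112470) k)) 279 = true := by decide +kernel
theorem s1c343 : allBelow (fun k => fs1 (Nat.add (Nat.succ 112749) k)) 303 = true := by decide +kernel
theorem s1c344 : allBelow (fun k => fs1 (Nat.add (Nat.succ 113052) k)) 309 = true := by decide +kernel
theorem s1c345 : allBelow (fun k => fs1 (Nat.add (Nat.succ 113361) k)) 288 = true := by decide +kernel
theorem s1c346 : allBelow (fun k => fs1 (Nat.add (Nat.succ 113649) k)) 337 = true := by decide +kernel
theorem s1c347 : allBelow (fun k => fs1 (Nat.add (Nat.succ 113986) k)) 306 = true := by decide +kernel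
theorem s1c348 : allBelow (fun k => fs1 (Nat.add (Nat.succ 114292) k)) 326 = true := by decide +kernel
theorem s1c349 : allBelow (fun k => fs1 (Nat.add (Nat.succ 114618) k)) 404 = true := by decide +kernel
theorem s1c350 : allBelow (fun k => fs1 (Nat.add (Nat.succ 115022) k)) 423 = true := by decide +kernel
theorem s1c351 : allBelow (fun k => fs1 (Nat.add (Nat.succ 115445) k)) 393 = true := by decide +kernel
theorem s1c352 : allBelow (fun k => fs1 (Nat.add (Nat.succ 115838) k)) 377 = true := by decide +kernel
theorem s1c353 : allBelow (fun k => fs1 (Nat.add (Nat.succ 116215) k)) 432 = true := by decide +kernel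
theorem s1c354 : allBelow (fun k => fs1 (Nat.add (Nat.succ 116647) k)) 450 = true := by decide +kernel
theorem s1c355 : allBelow (fun k => fs1 (Nat.add (Nat.succ 117097) k)) 415 = true := by decide +kernel
theorem s1c356 : allBelow (fun k => fs1 (Nat.add (Nat.succ 117512) k)) 357 = true := by decide +kernel
theorem s1c357 : allBelow (fun k => fs1 (Nat.add (Nat.succ 117869) k)) 313 = true := by decide +kernel
theorem s1c358 : allBelow (fun k => fs1 (Nat.add (Nat.succ 118182) k)) 408 = true := by decide +kernel
theorem s1c359 : allBelow (fun k => fs1 (Nat.add (Nat.succ 118590) k)) 308 = true := by decide +kernel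
theorem s1c360 : allBelow (fun k => fs1 (Nat.add (Nat.succ 118898) k)) 353 = true := by decide +kernel
theorem s1c361 : allBelow (fun k => fs1 (Nat.add (Nat.succ 119251) k)) 423 = true := by decide +kernel
theorem s1c362 : allBelow (fun k => fs1 (Nat.add (Nat.succ 119674) k)) 559 = true := by decide +kernel
theorem s1c363 : allBelow (fun k => fs1 (Nat.add (Nat.succ 120233) k)) 436 = true := by decide +kernel
theorem s1c364 : allBelow (fun k => fs1 (Nat.add (Nat.succ 120669) k)) 269 = true := by decide +kernel
theorem s1c365 : allBelow (fun k => fs1 (Nat.add (Nat.succ 120938) k)) 263 = true := by decide +kernel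
theorem s1c366 : allBelow (fun k => fs1 (Nat.add (Nat.succ 121201) k)) 312 = true := by decide +kernel
theorem s1c367 : allBelow (fun k => fs1 (Nat.add (Nat.succ 121513) k)) 323 = true := by decide +kernel
theorem s1c368 : allBelow (fun k => fs1 (Nat.add (Nat.succ 121836) k)) 271 = true := by decide +kernel
theorem s1c369 : allBelow (fun k => fs1 (Nat.add (Nat.succ 122107) k)) 296 = true := by decide +kernel
theorem s1c370 : allBelow (fun k => fs1 (Nat.add (Nat.succ 122403) k)) 303 = true := by decide +kernel
theorem s1c371 : allBelow (fun k => fs1 (Nat.add (Nat.succ 122706) k)) 284 = true := by decide +kernel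
theorem s1c372 : allBelow (fun k => fs1 (Nat.add (Nat.succ 122990) k)) 451 = true := by decide +kernel
theorem s1c373 : allBelow (fun k => fs1 (Nat.add (Nat.succ 123441) k)) 388 = true := by decide +kernel
theorem s1c374 : allBelow (fun k => fs1 (Nat.add (Nat.succ 123829) k)) 358 = true := by decide +kernel
theorem s1c375 : allBelow (fun k => fs1 (Nat.add (Nat.succ 124187) k)) 430 = true := by decide +kernel
theorem s1c376 : allBelow (fun k => fs1 (Nat.add (Nat.succ 124617) k)) 300 = true := by decide +kernel
theorem s1c377 : allBelow (fun k => fs1 (Nat.add (Nat.succ 124917) k)) 254 = true := by decide +kernel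
theorem s1c378 : allBelow (fun k => fs1 (Nat.add (Nat.succ 125171) k)) 247 = true := by decide +kernel
theorem s1c379 : allBelow (fun k => fs1 (Nat.add (Nat.succ 125418) k)) 251 = true := by decide +kernel
theorem s1c380 : allBelow (fun k => fs1 (Nat.add (Nat.succ 125669) k)) 283 = true := by decide +kernel
theorem s1c381 : allBelow (fun k => fs1 (Nat.add (Nat.succ 125952) k)) 271 = true := by decide +kernel
theorem s1c382 : allBelow (fun k => fs1 (Nat.add (Nat.succ 126223) k)) 281 = true := by decide +kernel
theorem s1c383 : allBelow (fun k => fs1 (Nat.add (Nat.succ 126504) k)) 291 = true := by decide +kernel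
theorem s1c384 : allBelow (fun k => fs1 (Nat.add (Nat.succ 126795) k)) 272 = true := by decide +kernel
theorem s1c385 : allBelow (fun k => fs1 (Nat.add (Nat.succ 127067) k)) 280 = true := by decide +kernel
theorem s1c386 : allBelow (fun k => fs1 (Nat.add (Nat.succ 127347) k)) 284 = true := by decide +kernel
theorem s1c387 : allBelow (fun k => fs1 (Nat.add (Nat.succ 127631) k)) 277 = true := by decide +kernel
theorem s1c388 : allBelow (fun k => fs1 (Nat.add (Nat.succ 127908) k)) 292 = true := by decide +kernel
theorem s1c389 : allBelow (fun k => fs1 (Nat.add (Nat.succ 128200) k)) 283 = true := by decide +kernel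
theorem s1c390 : allBelow (fun k => fs1 (Nat.add (Nat.succ 128483) k)) 266 = true := by decide +kernel
theorem s1c391 : allBelow (fun k => fs1 (Nat.add (Nat.succ 128749) k)) 280 = true := by decide +kernel
theorem s1c392 : allBelow (fun k => fs1 (Nat.add (Nat.succ 129029) k)) 279 = true := by decide +kernel
theorem s1c393 : allBelow (fun k => fs1 (Nat.add (Nat.succ 129308) k)) 275 = true := by decide +kernel
theorem s1c394 : allBelow (fun k => fs1 (Nat.add (Nat.succ 129583) k)) 252 = true := by decide +kernel
theorem s1c395 : allBelow (fun k => fs1 (Nat.add (Nat.succ 129835) k)) 262 = true := by decide +kernel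
theorem s1c396 : allBelow (fun k => fs1 (Nat.add (Nat.succ 130097) k)) 269 = true := by decide +kernel
theorem s1c397 : allBelow (fun k => fs1 (Nat.add (Nat.succ 130366) k)) 250 = true := by decide +kernel
theorem s1c398 : allBelow (fun k => fs1 (Nat.add (Nat.succ 130616) k)) 262 = true := by decide +kernel
theorem s1c399 : allBelow (fun k => fs1 (Nat.add (Nat.succ 130878) k)) 289 = true := by decide +kernel
theorem s1c400 : allBelow (fun k => fs1 (Nat.add (Nat.succ 131167) k)) 294 = true := by decide +kernel
theorem s1c401 : allBelow (fun k => fs1 (Nat.add (Nat.succ 131461) k)) 291 = true := by decide +kernel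
theorem s1c402 : allBelow (fun k => fs1 (Nat.add (Nat.succ 131752) k)) 276 = true := by decide +kernel
theorem s1c403 : allBelow (fun k => fs1 (Nat.add (Nat.succ 132028) k)) 264 = true := by decide +kernel
theorem s1c404 : allBelow (fun k => fs1 (Nat.add (Nat.succ 132292) k)) 260 = true := by decide +kernel
theorem s1c405 : allBelow (fun k => fs1 (Nat.add (Nat.succ 132552) k)) 280 = true := by decide +kernel
theorem s1c406 : allBelow (fun k => fs1 (Nat.add (Nat.succ 132832) k)) 254 = true := by decide +kernel
theorem s1c407 : allBelow (fun k => fs1 (Nat.add (Nat.succ 133086) k)) 269 = true := by decide +kernel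
theorem s1c408 : allBelow (fun k => fs1 (Nat.add (Nat.succ 133355) k)) 247 = true := by decide +kernel
theorem s1c409 : allBelow (fun k => fs1 (Nat.add (Nat.succ 133602) k)) 248 = true := by decide +kernel
theorem s1c410 : allBelow (fun k => fs1 (Nat.add (Nat.succ 133850) k)) 262 = true := by decide +kernel
theorem s1c411 : allBelow (fun k => fs1 (Nat.add (Nat.succ 134112) k)) 250 = true := by decide +kernel
theorem s1c412 : allBelow (fun k => fs1 (Nat.add (Nat.succ 134362) k)) 249 = true := by decide +kernel
theorem s1c413 : allBelow (fun k => fs1 (Nat.add (Nat.succ 134611) k)) 264 = true := by decide +kernel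
theorem s1c414 : allBelow (fun k => fs1 (Nat.add (Nat.succ 134875) k)) 265 = true := by decide +kernel
theorem s1c415 : allBelow (fun k => fs1 (Nat.add (Nat.succ 135140) k)) 261 = true := by decide +kernel
theorem s1c416 : allBelow (fun k => fs1 (Nat.add (Nat.succ 135401) k)) 273 = true := by decide +kernel
theorem s1c417 : allBelow (fun k => fs1 (Nat.add (Nat.succ 135674) k)) 267 = true := by decide +kernel
theorem s1c418 : allBelow (fun k => fs1 (Nat.add (Nat.succ 135941) k)) 274 = true := by decide +kernel
theorem s1c419 : allBelow (fun k => fs1 (Nat.add (Nat.succ 136215) k)) 262 = true := by decide +kernel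
theorem s1c420 : allBelow (fun k => fs1 (Nat.add (Nat.succ 136477) k)) 268 = true := by decide +kernel
theorem s1c421 : allBelow (fun k => fs1 (Nat.add (Nat.succ 136745) k)) 261 = true := by decide +kernel
theorem s1c422 : allBelow (fun k => fs1 (Nat.add (Nat.succ 137006) k)) 269 = true := by decide +kernel
theorem s1c423 : allBelow (fun k => fs1 (Nat.add (Nat.succ 137275) k)) 265 = true := by decide +kernel
theorem s1c424 : allBelow (fun k => fs1 (Nat.add (Nat.succ 137540) k)) 275 = true := by decide +kernel
theorem s1c425 : allBelow (fun k => fs1 (Nat.add (Nat.succ 137815) k)) 272 = true := by decide +kernel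
theorem s1c426 : allBelow (fun k => fs1 (Nat.add (Nat.succ 138087) k)) 279 = true := by decide +kernel
theorem s1c427 : allBelow (fun k => fs1 (Nat.add (Nat.succ 138366) k)) 268 = true := by decide +kernel
theorem s1c428 : allBelow (fun k => fs1 (Nat.add (Nat.succ 138634) k)) 263 = true := by decide +kernel
theorem s1c429 : allBelow (fun k => fs1 (Nat.add (Nat.succ 138897) k)) 284 = true := by decide +kernel
theorem s1c430 : allBelow (fun k => fs1 (Nat.add (Nat.succ 139181) k)) 228 = true := by decide +kernel
theorem s1c431 : allBelow (fun k => fs1 (Nat.add (Nat.succ 139409) k)) 237 = true := by decide +kernel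
theorem s1c432 : allBelow (fun k => fs1 (Nat.add (Nat.succ 139646) k)) 230 = true := by decide +kernel
theorem s1c433 : allBelow (fun k => fs1 (Nat.add (Nat.succ 139876) k)) 231 = true := by decide +kernel
theorem s1c434 : allBelow (fun k => fs1 (Nat.add (Nat.succ 140107) k)) 235 = true := by decide +kernel
theorem s1c435 : allBelow (fun k => fs1 (Nat.add (Nat.succ 140342) k)) 242 = true := by decide +kernel
theorem s1c436 : allBelow (fun k => fs1 (Nat.add (Nat.succ 140584) k)) 241 = true := by decide +kernel
theorem s1c437 : allBelow (fun k => fs1 (Nat.add (Nat.succ 140825) k)) 231 = true := by decide +kernel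
theorem s1c438 : allBelow (fun k => fs1 (Nat.add (Nat.succ 141056) k)) 246 = true := by decide +kernel
theorem s1c439 : allBelow (fun k => fs1 (Nat.add (Nat.succ 141302) k)) 247 = true := by decide +kernel
theorem s1c440 : allBelow (fun k => fs1 (Nat.add (Nat.succ 141549) k)) 257 = true := by decide +kernel
theorem s1c441 : allBelow (fun k => fs1 (Nat.add (Nat.succ 141806) k)) 248 = true := by decide +kernel
theorem s1c442 : allBelow (fun k => fs1 (Nat.add (Nat.succ 142054) k)) 249 = true := by decide +kernel
theorem s1c443 : allBelow (fun k => fs1 (Nat.add (Nat.succ 142303) k)) 269 = true := by decide +kernel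
theorem s1c444 : allBelow (fun k => fs1 (Nat.add (Nat.succ 142572) k)) 282 = true := by decide +kernel
theorem s1c445 : allBelow (fun k => fs1 (Nat.add (Nat.succ 142854) k)) 265 = true := by decide +kernel
theorem s1c446 : allBelow (fun k => fs1 (Nat.add (Nat.succ 143119) k)) 278 = true := by decide +kernel
theorem s1c447 : allBelow (fun k => fs1 (Nat.add (Nat.succ 143397) k)) 288 = true := by decide +kernel
theorem s1c448 : allBelow (fun k => fs1 (Nat.add (Nat.succ 143685) k)) 272 = true := by decide +kernel
theorem s1c449 : allBelow (fun k => fs1 (Nat.add (Nat.succ 143957) k)) 286 = true := by decide +kernel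
theorem s1c450 : allBelow (fun k => fs1 (Nat.add (Nat.succ 144243) k)) 261 = true := by decide +kernel
theorem s1c451 : allBelow (fun k => fs1 (Nat.add (Nat.succ 144504) k)) 285 = true := by decide +kernel
theorem s1c452 : allBelow (fun k => fs1 (Nat.add (Nat.succ 144789) k)) 274 = true := by decide +kernel
theorem s1c453 : allBelow (fun k => fs1 (Nat.add (Nat.succ 145063) k)) 292 = true := by decide +kernel
theorem s1c454 : allBelow (fun k => fs1 (Nat.add (Nat.succ 145355) k)) 268 = true := by decide +kernel
theorem s1c455 : allBelow (fun k => fs1 (Nat.add (Nat.succ 145623) k)) 292 = true := by decide +kernel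
theorem s1c456 : allBelow (fun k => fs1 (Nat.add (Nat.succ 145915) k)) 259 = true := by decide +kernel
theorem s1c457 : allBelow (fun k => fs1 (Nat.add (Nat.succ 146174) k)) 270 = true := by decide +kernel
theorem s1c458 : allBelow (fun k => fs1 (Nat.add (Nat.succ 146444) k)) 278 = true := by decide +kernel
theorem s1c459 : allBelow (fun k => fs1 (Nat.add (Nat.succ 146722) k)) 265 = true := by decide +kernel
theorem s1c460 : allBelow (fun k => fs1 (Nat.add (Nat.succ 146987) k)) 253 = true := by decide +kernel
theorem s1c461 : allBelow (fun k => fs1 (Nat.add (Nat.succ 147240) k)) 260 = true := by decide +kernel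
theorem s1c462 : allBelow (fun k => fs1 (Nat.add (Nat.succ 147500) k)) 257 = true := by decide +kernel
theorem s1c463 : allBelow (fun k => fs1 (Nat.add (Nat.succ 147757) k)) 254 = true := by decide +kernel
theorem s1c464 : allBelow (fun k => fs1 (Nat.add (Nat.succ 148011) k)) 273 = true := by decide +kernel
theorem s1c465 : allBelow (fun k => fs1 (Nat.add (Nat.succ 148284) k)) 291 = true := by decide +kernel
theorem s1c466 : allBelow (fun k => fs1 (Nat.add (Nat.succ 148575) k)) 304 = true := by decide +kernel
theorem s1c467 : allBelow (fun k => fs1 (Nat.add (Nat.succ 148879) k)) 279 = true := by decide +kernel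
theorem s1c468 : allBelow (fun k => fs1 (Nat.add (Nat.succ 149158) k)) 269 = true := by decide +kernel
theorem s1c469 : allBelow (fun k => fs1 (Nat.add (Nat.succ 149427) k)) 273 = true := by decide +kernel
theorem s1c470 : allBelow (fun k => fs1 (Nat.add (Nat.succ 149700) k)) 262 = true := by decide +kernel
theorem s1c471 : allBelow (fun k => fs1 (Nat.add (Nat.succ 149962) k)) 286 = true := by decide +kernel
theorem s1c472 : allBelow (fun k => fs1 (Nat.add (Nat.succ 150248) k)) 262 = true := by decide +kernel
theorem s1c473 : allBelow (fun k => fs1 (Nat.add (Nat.succ 150510) k)) 280 = true := by decide +kernel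
theorem s1c474 : allBelow (fun k => fs1 (Nat.add (Nat.succ 150790) k)) 250 = true := by decide +kernel
theorem s1c475 : allBelow (fun k => fs1 (Nat.add (Nat.succ 151040) k)) 249 = true := by decide +kernel
theorem s1c476 : allBelow (fun k => fs1 (Nat.add (Nat.succ 151289) k)) 252 = true := by decide +kernel
theorem s1c477 : allBelow (fun k => fs1 (Nat.add (Nat.succ 151541) k)) 272 = true := by decide +kernel
theorem s1c478 : allBelow (fun k => fs1 (Nat.add (Nat.succ 151813) k)) 246 = true := by decide +kernel
theorem s1c479 : allBelow (fun k => fs1 (Nat.add (Nat.succ 152059) k)) 241 = true := by decide +kernel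
theorem s1c480 : allBelow (fun k => fs1 (Nat.add (Nat.succ 152300) k)) 281 = true := by decide +kernel
theorem s1c481 : allBelow (fun k => fs1 (Nat.add (Nat.succ 152581) k)) 254 = true := by decide +kernel
theorem s1c482 : allBelow (fun k => fs1 (Nat.add (Nat.succ 152835) k)) 277 = true := by decide +kernel
theorem s1c483 : allBelow (fun k => fs1 (Nat.add (Nat.succ 153112) k)) 263 = true := by decide +kernel
theorem s1c484 : allBelow (fun k => fs1 (Nat.add (Nat.succ 153375) k)) 273 = true := by decide +kernel
theorem s1c485 : allBelow (fun k => fs1 (Nat.add (Nat.succ 153648) k)) 262 = true := by decide +kernel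
theorem s1c486 : allBelow (fun k => fs1 (Nat.add (Nat.succ 153910) k)) 270 = true := by decide +kernel
theorem s1c487 : allBelow (fun k => fs1 (Nat.add (Nat.succ 154180) k)) 261 = true := by decide +kernel
theorem s1c488 : allBelow (fun k => fs1 (Nat.add (Nat.succ 154441) k)) 294 = true := by decide +kernel
theorem s1c489 : allBelow (fun k => fs1 (Nat.add (Nat.succ 154735) k)) 258 = true := by decide +kernel
theorem s1c490 : allBelow (fun k => fs1 (Nat.add (Nat.succ 154993) k)) 271 = true := by decide +kernel
theorem s1c491 : allBelow (fun k => fs1 (Nat.add (Nat.succ 155264) k)) 265 = true := by decide +kernel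
theorem s1c492 : allBelow (fun k => fs1 (Nat.add (Nat.succ 155529) k)) 268 = true := by decide +kernel
theorem s1c493 : allBelow (fun k => fs1 (Nat.add (Nat.succ 155797) k)) 272 = true := by decide +kernel
theorem s1c494 : allBelow (fun k => fs1 (Nat.add (Nat.succ 156069) k)) 280 = true := by decide +kernel
theorem s1c495 : allBelow (fun k => fs1 (Nat.add (Nat.succ 156349) k)) 280 = true := by decide +kernel
theorem s1c496 : allBelow (fun k => fs1 (Nat.add (Nat.succ 156629) k)) 267 = true := by decide +kernel
theorem s1c497 : allBelow (fun k => fs1 (Nat.add (Nat.succ 156896) k)) 270 = true := by decide +kernel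
theorem s1c498 : allBelow (fun k => fs1 (Nat.add (Nat.succ 157166) k)) 264 = true := by decide +kernel
theorem s1c499 : allBelow (fun k => fs1 (Nat.add (Nat.succ 157430) k)) 228 = true := by decide +kernel
theorem s1c500 : allBelow (fun k => fs1 (Nat.add (Nat.succ 157658) k)) 242 = true := by decide +kernel
theorem s1c501 : allBelow (fun k => fs1 (Nat.add (Nat.succ 157900) k)) 229 = true := by decide +kernel
theorem s1c502 : allBelow (fun k => fs1 (Nat.add (Nat.succ 158129) k)) 230 = true := by decide +kernel
theorem s1c503 : allBelow (fun k => fs1 (Nat.add (Nat.succ 158359) k)) 243 = true := by decide +kernel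
theorem s1c504 : allBelow (fun k => fs1 (Nat.add (Nat.succ 158602) k)) 235 = true := by decide +kernel
theorem s1c505 : allBelow (fun k => fs1 (Nat.add (Nat.succ 158837) k)) 237 = true := by decide +kernel
theorem s1c506 : allBelow (fun k => fs1 (Nat.add (Nat.succ 159074) k)) 236 = true := by decide +kernel
theorem s1c507 : allBelow (fun k => fs1 (Nat.add (Nat.succ 159310) k)) 253 = true := by decide +kernel
theorem s1c508 : allBelow (fun k => fs1 (Nat.add (Nat.succ 159563) k)) 248 = true := by decide +kernel
theorem s1c509 : allBelow (fun k => fs1 (Nat.add (Nat.succ 159811) k)) 266 = true := by decide +kernel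
theorem s1c510 : allBelow (fun k => fs1 (Nat.add (Nat.succ 160077) k)) 253 = true := by decide +kernel
theorem s1c511 : allBelow (fun k => fs1 (Nat.add (Nat.succ 160330) k)) 245 = true := by decide +kernel
theorem s1c512 : allBelow (fun k => fs1 (Nat.add (Nat.succ 160575) k)) 239 = true := by decide +kernel
theorem s1c513 : allBelow (fun k => fs1 (Nat.add (Nat.succ 160814) k)) 262 = true := by decide +kernel
theorem s1c514 : allBelow (fun k => fs1 (Nat.add (Nat.succ 161076) k)) 284 = true := by decide +kernel
theorem s1c515 : allBelow (fun k => fs1 (Nat.add (Nat.succ 161360) k)) 264 = true := by decide +kernel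
theorem s1c516 : allBelow (fun k => fs1 (Nat.add (Nat.succ 161624) k)) 279 = true := by decide +kernel
theorem s1c517 : allBelow (fun k => fs1 (Nat.add (Nat.succ 161903) k)) 269 = true := by decide +kernel
theorem s1c518 : allBelow (fun k => fs1 (Nat.add (Nat.succ 162172) k)) 281 = true := by decide +kernel
theorem s1c519 : allBelow (fun k => fs1 (Nat.add (Nat.succ 162453) k)) 259 = true := by decide +kernel
theorem s1c520 : allBelow (fun k => fs1 (Nat.add (Nat.succ 162712) k)) 283 = true := by decide +kernel
theorem s1c521 : allBelow (fun k => fs1 (Nat.add (Nat.succ 162995) k)) 262 = true := by decide +kernel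
theorem s1c522 : allBelow (fun k => fs1 (Nat.add (Nat.succ 163257) k)) 281 = true := by decide +kernel
theorem s1c523 : allBelow (fun k => fs1 (Nat.add (Nat.succ 163538) k)) 277 = true := by decide +kernel
theorem s1c524 : allBelow (fun k => fs1 (Nat.add (Nat.succ 163815) k)) 272 = true := by decide +kernel
theorem s1c525 : allBelow (fun k => fs1 (Nat.add (Nat.succ 164087) k)) 287 = true := by decide +kernel
theorem s1c526 : allBelow (fun k => fs1 (Nat.add (Nat.succ 164374) k)) 267 = true := by decide +kernel
theorem s1c527 : allBelow (fun k => fs1 (Nat.add (Nat.succ 164641) k)) 288 = true := by decide +kernel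
theorem s1c528 : allBelow (fun k => fs1 (Nat.add (Nat.succ 164929) k)) 255 = true := by decide +kernel
theorem s1c529 : allBelow (fun k => fs1 (Nat.add (Nat.succ 165184) k)) 267 = true := by decide +kernel
theorem s1c530 : allBelow (fun k => fs1 (Nat.add (Nat.succ 165451) k)) 273 = true := by decide +kernel
theorem s1c531 : allBelow (fun k => fs1 (Nat.add (Nat.succ 165724) k)) 258 = true := by decide +kernel
theorem s1c532 : allBelow (fun k => fs1 (Nat.add (Nat.succ 165982) k)) 253 = true := by decide +kernel
theorem s1c533 : allBelow (fun k => fs1 (Nat.add (Nat.succ 166235) k)) 255 = true := by decide +kernel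
theorem s1c534 : allBelow (fun k => fs1 (Nat.add (Nat.succ 166490) k)) 240 = true := by decide +kernel
theorem s1c535 : allBelow (fun k => fs1 (Nat.add (Nat.succ 166730) k)) 257 = true := by decide +kernel
theorem s1c536 : allBelow (fun k => fs1 (Nat.add (Nat.succ 166987) k)) 312 = true := by decide +kernel
theorem s1c537 : allBelow (fun k => fs1 (Nat.add (Nat.succ 167299) k)) 275 = true := by decide +kernel
theorem s1c538 : allBelow (fun k => fs1 (Nat.add (Nat.succ 167574) k)) 308 = true := by decide +kernel
theorem s1c539 : allBelow (fun k => fs1 (Nat.add (Nat.succ 167882) k)) 280 = true := by decide +kernel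
theorem s1c540 : allBelow (fun k => fs1 (Nat.add (Nat.succ 168162) k)) 259 = true := by decide +kernel
theorem s1c541 : allBelow (fun k => fs1 (Nat.add (Nat.succ 168421) k)) 279 = true := by decide +kernel
theorem s1c542 : allBelow (fun k => fs1 (Nat.add (Nat.succ 168700) k)) 266 = true := by decide +kernel
theorem s1c543 : allBelow (fun k => fs1 (Nat.add (Nat.succ 168966) k)) 260 = true := by decide +kernel
theorem s1c544 : allBelow (fun k => fs1 (Nat.add (Nat.succ 169226) k)) 304 = true := by decide +kernel
theorem s1c545 : allBelow (fun k => fs1 (Nat.add (Nat.succ 169530) k)) 257 = true := by decide +kernel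
theorem s1c546 : allBelow (fun k => fs1 (Nat.add (Nat.succ 169787) k)) 275 = true := by decide +kernel
theorem s1c547 : allBelow (fun k => fs1 (Nat.add (Nat.succ 170062) k)) 266 = true := by decide +kernel
theorem s1c548 : allBelow (fun k => fs1 (Nat.add (Nat.succ 170328) k)) 247 = true := by decide +kernel
theorem s1c549 : allBelow (fun k => fs1 (Nat.add (Nat.succ 170575) k)) 257 = true := by decide +kernel
theorem s1c550 : allBelow (fun k => fs1 (Nat.add (Nat.succ 170832) k)) 233 = true := by decide +kernel
theorem s1c551 : allBelow (fun k => fs1 (Nat.add (Nat.succ 171065) k)) 286 = true := by decide +kernel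
theorem s1c552 : allBelow (fun k => fs1 (Nat.add (Nat.succ 171351) k)) 254 = true := by decide +kernel
theorem s1c553 : allBelow (fun k => fs1 (Nat.add (Nat.succ 171605) k)) 234 = true := by decide +kernel
theorem s1c554 : allBelow (fun k => fs1 (Nat.add (Nat.succ 171839) k)) 267 = true := by decide +kernel
theorem s1c555 : allBelow (fun k => fs1 (Nat.add (Nat.succ 172106) k)) 279 = true := by decide +kernel
theorem s1c556 : allBelow (fun k => fs1 (Nat.add (Nat.succ 172385) k)) 246 = true := by decide +kernel
theorem s1c557 : allBelow (fun k => fs1 (Nat.add (Nat.succ 172631) k)) 292 = true := by decide +kernel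
theorem s1c558 : allBelow (fun k => fs1 (Nat.add (Nat.succ 172923) k)) 271 = true := by decide +kernel
theorem s1c559 : allBelow (fun k => fs1 (Nat.add (Nat.succ 173194) k)) 253 = true := by decide +kernel
theorem s1c560 : allBelow (fun k => fs1 (Nat.add (Nat.succ 173447) k)) 297 = true := by decide +kernel
theorem s1c561 : allBelow (fun k => fs1 (Nat.add (Nat.succ 173744) k)) 252 = true := by decide +kernel
theorem s1c562 : allBelow (fun k => fs1 (Nat.add (Nat.succ 173996) k)) 282 = true := by decide +kernel
theorem s1c563 : allBelow (fun k => fs1 (Nat.add (Nat.succ 174278) k)) 269 = true := by decide +kernel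
theorem s1c564 : allBelow (fun k => fs1 (Nat.add (Nat.succ 174547) k)) 288 = true := by decide +kernel
theorem s1c565 : allBelow (fun k => fs1 (Nat.add (Nat.succ 174835) k)) 262 = true := by decide +kernel
theorem s1c566 : allBelow (fun k => fs1 (Nat.add (Nat.succ 175097) k)) 272 = true := by decide +kernel
theorem s1c567 : allBelow (fun k => fs1 (Nat.add (Nat.succ 175369) k)) 267 = true := by decide +kernel
theorem s1c568 : allBelow (fun k => fs1 (Nat.add (Nat.succ 175636) k)) 268 = true := by decide +kernel
theorem s1c569 : allBelow (fun k => fs1 (Nat.add (Nat.succ 175904) k)) 280 = true := by decide +kernel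
theorem s1c570 : allBelow (fun k => fs1 (Nat.add (Nat.succ 176184) k)) 284 = true := by decide +kernel
theorem s1c571 : allBelow (fun k => fs1 (Nat.add (Nat.succ 176468) k)) 276 = true := by decide +kernel
theorem s1c572 : allBelow (fun k => fs1 (Nat.add (Nat.succ 176744) k)) 267 = true := by decide +kernel
theorem s1c573 : allBelow (fun k => fs1 (Nat.add (Nat.succ 177011) k)) 259 = true := by decide +kernel
theorem s1c574 : allBelow (fun k => fs1 (Nat.add (Nat.succ 177270) k)) 235 = true := by decide +kernel
theorem s1c575 : allBelow (fun k => fs1 (Nat.add (Nat.succ 177505) k)) 237 = true := by decide +kernel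
theorem s1c576 : allBelow (fun k => fs1 (Nat.add (Nat.succ 177742) k)) 230 = true := by decide +kernel
theorem s1c577 : allBelow (fun k => fs1 (Nat.add (Nat.succ 177972) k)) 232 = true := by decide +kernel
theorem s1c578 : allBelow (fun k => fs1 (Nat.add (Nat.succ 178204) k)) 243 = true := by decide +kernel
theorem s1c579 : allBelow (fun k => fs1 (Nat.add (Nat.succ 178447) k)) 234 = true := by decide +kernel
theorem s1c580 : allBelow (fun k => fs1 (Nat.add (Nat.succ 178681) k)) 236 = true := by decide +kernel
theorem s1c581 : allBelow (fun k => fs1 (Nat.add (Nat.succ 178917) k)) 252 = true := by decide +kernel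
theorem s1c582 : allBelow (fun k => fs1 (Nat.add (Nat.succ 179169) k)) 255 = true := by decide +kernel
theorem s1c583 : allBelow (fun k => fs1 (Nat.add (Nat.succ 179424) k)) 234 = true := by decide +kernel
theorem s1c584 : allBelow (fun k => fs1 (Nat.add (Nat.succ 179658) k)) 275 = true := by decide +kernel
theorem s1c585 : allBelow (fun k => fs1 (Nat.add (Nat.succ 179933) k)) 244 = true := by decide +kernel
theorem s1c586 : allBelow (fun k => fs1 (Nat.add (Nat.succ 180177) k)) 248 = true := by decide +kernel
theorem s1c587 : allBelow (fun k => fs1 (Nat.add (Nat.succ 180425) k)) 244 = true := by decide +kernel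
theorem s1c588 : allBelow (fun k => fs1 (Nat.add (Nat.succ 180669) k)) 258 = true := by decide +kernel
theorem s1c589 : allBelow (fun k => fs1 (Nat.add (Nat.succ 180927) k)) 263 = true := by decide +kernel
theorem s1c590 : allBelow (fun k => fs1 (Nat.add (Nat.succ 181190) k)) 256 = true := by decide +kernel
theorem s1c591 : allBelow (fun k => fs1 (Nat.add (Nat.succ 181446) k)) 275 = true := by decide +kernel
theorem s1c592 : allBelow (fun k => fs1 (Nat.add (Nat.succ 181721) k)) 287 = true := by decide +kernel
theorem s1c593 : allBelow (fun k => fs1 (Nat.add (Nat.succ 182008) k)) 253 = true := by decide +kernel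
theorem s1c594 : allBelow (fun k => fs1 (Nat.add (Nat.succ 182261) k)) 287 = true := by decide +kernel
theorem s1c595 : allBelow (fun k => fs1 (Nat.add (Nat.succ 182548) k)) 259 = true := by decide +kernel
theorem s1c596 : allBelow (fun k => fs1 (Nat.add (Nat.succ 182807) k)) 269 = true := by decide +kernel
theorem s1c597 : allBelow (fun k => fs1 (Nat.add (Nat.succ 183076) k)) 261 = true := by decide +kernel
theorem s1c598 : allBelow (fun k => fs1 (Nat.add (Nat.succ 183337) k)) 272 = true := by decide +kernel
theorem s1c599 : allBelow (fun k => fs1 (Nat.add (Nat.succ 183609) k)) 277 = true := by decide +kernel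
theorem s1c600 : allBelow (fun k => fs1 (Nat.add (Nat.succ 183886) k)) 275 = true := by decide +kernel
theorem s1c601 : allBelow (fun k => fs1 (Nat.add (Nat.succ 184161) k)) 262 = true := by decide +kernel
theorem s1c602 : allBelow (fun k => fs1 (Nat.add (Nat.succ 184423) k)) 293 = true := by decide +kernel
theorem s1c603 : allBelow (fun k => fs1 (Nat.add (Nat.succ 184716) k)) 263 = true := by decide +kernel
theorem s1c604 : allBelow (fun k => fs1 (Nat.add (Nat.succ 184979) k)) 273 = true := by decide +kernel
theorem s1c605 : allBelow (fun k => fs1 (Nat.add (Nat.succ 185252) k)) 283 = true := by decide +kernel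
theorem s1c606 : allBelow (fun k => fs1 (Nat.add (Nat.succ 185535) k)) 251 = true := by decide +kernel
theorem s1c607 : allBelow (fun k => fs1 (Nat.add (Nat.succ 185786) k)) 270 = true := by decide +kernel
theorem s1c608 : allBelow (fun k => fs1 (Nat.add (Nat.succ 186056) k)) 268 = true := by decide +kernel
theorem s1c609 : allBelow (fun k => fs1 (Nat.add (Nat.succ 186324) k)) 246 = true := by decide +kernel
theorem s1c610 : allBelow (fun k => fs1 (Nat.add (Nat.succ 186570) k)) 247 = true := by decide +kernel
theorem s1c611 : allBelow (fun k => fs1 (Nat.add (Nat.succ 186817) k)) 247 = true := by decide +kernel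
theorem s1c612 : allBelow (fun k => fs1 (Nat.add (Nat.succ 187064) k)) 248 = true := by decide +kernel
theorem s1c613 : allBelow (fun k => fs1 (Nat.add (Nat.succ 187312) k)) 307 = true := by decide +kernel
theorem s1c614 : allBelow (fun k => fs1 (Nat.add (Nat.succ 187619) k)) 284 = true := by decide +kernel
theorem s1c615 : allBelow (fun k => fs1 (Nat.add (Nat.succ 187903) k)) 293 = true := by decide +kernel
theorem s1c616 : allBelow (fun k => fs1 (Nat.add (Nat.succ 188196) k)) 281 = true := by decide +kernel
theorem s1c617 : allBelow (fun k => fs1 (Nat.add (Nat.succ 188477) k)) 275 = true := by decide +kernel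
theorem s1c618 : allBelow (fun k => fs1 (Nat.add (Nat.succ 188752) k)) 278 = true := by decide +kernel
theorem s1c619 : allBelow (fun k => fs1 (Nat.add (Nat.succ 189030) k)) 281 = true := by decide +kernel
theorem s1c620 : allBelow (fun k => fs1 (Nat.add (Nat.succ 189311) k)) 256 = true := by decide +kernel
theorem s1c621 : allBelow (fun k => fs1 (Nat.add (Nat.succ 189567) k)) 260 = true := by decide +kernel
theorem s1c622 : allBelow (fun k => fs1 (Nat.add (Nat.succ 189827) k)) 312 = true := by decide +kernel
theorem s1c623 : allBelow (fun k => fs1 (Nat.add (Nat.succ 190139) k)) 254 = true := by decide +kernel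
theorem s1c624 : allBelow (fun k => fs1 (Nat.add (Nat.succ 190393) k)) 256 = true := by decide +kernel
theorem s1c625 : allBelow (fun k => fs1 (Nat.add (Nat.succ 190649) k)) 294 = true := by decide +kernel
theorem s1c626 : allBelow (fun k => fs1 (Nat.add (Nat.succ 190943) k)) 270 = true := by decide +kernel
theorem s1c627 : allBelow (fun k => fs1 (Nat.add (Nat.succ 191213) k)) 249 = true := by decide +kernel
theorem s1c628 : allBelow (fun k => fs1 (Nat.add (Nat.succ 191462) k)) 258 = true := by decide +kernel
theorem s1c629 : allBelow (fun k => fs1 (Nat.add (Nat.succ 191720) k)) 233 = true := by decide +kernel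
theorem s1c630 : allBelow (fun k => fs1 (Nat.add (Nat.succ 191953) k)) 281 = true := by decide +kernel
theorem s1c631 : allBelow (fun k => fs1 (Nat.add (Nat.succ 192234) k)) 248 = true := by decide +kernel
theorem s1c632 : allBelow (fun k => fs1 (Nat.add (Nat.succ 192482) k)) 257 = true := by decide +kernel
theorem s1c633 : allBelow (fun k => fs1 (Nat.add (Nat.succ 192739) k)) 236 = true := by decide +kernel
theorem s1c634 : allBelow (fun k => fs1 (Nat.add (Nat.succ 192975) k)) 292 = true := by decide +kernel
theorem s1c635 : allBelow (fun k => fs1 (Nat.add (Nat.succ 193267) k)) 268 = true := by decide +kernel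
theorem s1c636 : allBelow (fun k => fs1 (Nat.add (Nat.succ 193535) k)) 249 = true := by decide +kernel
theorem s1c637 : allBelow (fun k => fs1 (Nat.add (Nat.succ 193784) k)) 301 = true := by decide +kernel
theorem s1c638 : allBelow (fun k => fs1 (Nat.add (Nat.succ 194085) k)) 263 = true := by decide +kernel
theorem s1c639 : allBelow (fun k => fs1 (Nat.add (Nat.succ 194348) k)) 259 = true := by decide +kernel
theorem s1c640 : allBelow (fun k => fs1 (Nat.add (Nat.succ 194607) k)) 280 = true := by decide +kernel
theorem s1c641 : allBelow (fun k => fs1 (Nat.add (Nat.succ 194887) k)) 293 = true := by decide +kernel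
theorem s1c642 : allBelow (fun k => fs1 (Nat.add (Nat.succ 195180) k)) 255 = true := by decide +kernel
theorem s1c643 : allBelow (fun k => fs1 (Nat.add (Nat.succ 195435) k)) 286 = true := by decide +kernel
theorem s1c644 : allBelow (fun k => fs1 (Nat.add (Nat.succ 195721) k)) 261 = true := by decide +kernel
theorem s1c645 : allBelow (fun k => fs1 (Nat.add (Nat.succ 195982) k)) 312 = true := by decide +kernel
theorem s1c646 : allBelow (fun k => fs1 (Nat.add (Nat.succ 196294) k)) 261 = true := by decide +kernel
theorem s1c647 : allBelow (fun k => fs1 (Nat.add (Nat.succ 196555) k)) 271 = true := by decide +kernel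
theorem s1c648 : allBelow (fun k => fs1 (Nat.add (Nat.succ 196826) k)) 262 = true := by decide +kernel
theorem s1c649 : allBelow (fun k => fs1 (Nat.add (Nat.succ 197088) k)) 281 = true := by decide +kernel
theorem s1c650 : allBelow (fun k => fs1 (Nat.add (Nat.succ 197369) k)) 280 = true := by decide +kernel
theorem s1c651 : allBelow (fun k => fs1 (Nat.add (Nat.succ 197649) k)) 279 = true := by decide +kernel
theorem s1c652 : allBelow (fun k => fs1 (Nat.add (Nat.succ 197928) k)) 275 = true := by decide +kernel
theorem s1c653 : allBelow (fun k => fs1 (Nat.add (Nat.succ 198203) k)) 283 = true := by decide +kernel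
theorem s1c654 : allBelow (fun k => fs1 (Nat.add (Nat.succ 198486) k)) 235 = true := by decide +kernel
theorem s1c655 : allBelow (fun k => fs1 (Nat.add (Nat.succ 198721) k)) 239 = true := by decide +kernel
theorem s1c656 : allBelow (fun k => fs1 (Nat.add (Nat.succ 198960) k)) 232 = true := by decide +kernel

end Cfsg.Agent.Lib.Helper35.Fi24a
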