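import Cfsg.Agent.Lib.Helper35.Fi24a.Data

set_option Elab.async false

namespace Cfsg.Agent.Lib.Helper35.Fi24a

open Cfsg.Agent.Lib.Helper35

theorem s1c657 : allBelow (fun k => fs1 (Nat.add (Nat.succ 199192) k)) 229 = true := by decide +kernel
theorem s1c658 : allBelow (fun k => fs1 (Nat.add (Nat.succ 199421) k)) 239 = true := by decide +kernel
theorem s1c659 : allBelow (fun k => fs1 (Nat.add (Nat.succ 199660) k)) 234 = true := by decide +kernel
theorem s1c660 : allBelow (fun k => fs1 (Nat.add (Nat.succ 199894) k)) 232 = true := by decide +kernel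
theorem s1c661 : allBelow (fun k => fs1 (Nat.add (Nat.succ 200126) k)) 254 = true := by decide +kernel
theorem s1c662 : allBelow (fun k => fs1 (Nat.add (Nat.succ 200380) k)) 243 = true := by decide +kernel
theorem s1c663 : allBelow (fun k => fs1 (Nat.add (Nat.succ 200623) k)) 253 = true := by decide +kernel
theorem s1c664 : allBelow (fun k => fs1 (Nat.add (Nat.succ 200876) k)) 257 = true := by decide +kernel
theorem s1c665 : allBelow (fun k => fs1 (Nat.add (Nat.succ 201133) k)) 263 = true := by decide +kernel
theorem s1c666 : allBelow (fun k => fs1 (Nat.add (Nat.succ 201396) k)) 247 = true := by decide +kernel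
theorem s1c667 : allBelow (fun k => fs1 (Nat.add (Nat.succ 201643) k)) 250 = true := by decide +kernel
theorem s1c668 : allBelow (fun k => fs1 (Nat.add (Nat.succ 201893) k)) 241 = true := by decide +kernel
theorem s1c669 : allBelow (fun k => fs1 (Nat.add (Nat.succ 202134) k)) 249 = true := by decide +kernel
theorem s1c670 : allBelow (fun k => fs1 (Nat.add (Nat.succ 202383) k)) 272 = true := by decide +kernel
theorem s1c671 : allBelow (fun k => fs1 (Nat.add (Nat.succ 202655) k)) 247 = true := by decide +kernel
theorem s1c672 : allBelow (fun k => fs1 (Nat.add (Nat.succ 202902) k)) 266 = true := by decide +kernel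
theorem s1c673 : allBelow (fun k => fs1 (Nat.add (Nat.succ 203168) k)) 282 = true := by decide +kernel
theorem s1c674 : allBelow (fun k => fs1 (Nat.add (Nat.succ 203450) k)) 264 = true := by decide +kernel
theorem s1c675 : allBelow (fun k => fs1 (Nat.add (Nat.succ 203714) k)) 263 = true := by decide +kernel
theorem s1c676 : allBelow (fun k => fs1 (Nat.add (Nat.succ 203977) k)) 287 = true := by decide +kernel
theorem s1c677 : allBelow (fun k => fs1 (Nat.add (Nat.succ 204264) k)) 251 = true := by decide +kernel
theorem s1c678 : allBelow (fun k => fs1 (Nat.add (Nat.succ 204515) k)) 268 = true := by decide +kernel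
theorem s1c679 : allBelow (fun k => fs1 (Nat.add (Nat.succ 204783) k)) 257 = true := by decide +kernel
theorem s1c680 : allBelow (fun k => fs1 (Nat.add (Nat.succ 205040) k)) 273 = true := by decide +kernel
theorem s1c681 : allBelow (fun k => fs1 (Nat.add (Nat.succ 205313) k)) 275 = true := by decide +kernel
theorem s1c682 : allBelow (fun k => fs1 (Nat.add (Nat.succ 205588) k)) 280 = true := by decide +kernel
theorem s1c683 : allBelow (fun k => fs1 (Nat.add (Nat.succ 205868) k)) 243 = true := by decide +kernel
theorem s1c684 : allBelow (fun k => fs1 (Nat.add (Nat.succ 206111) k)) 285 = true := by decide +kernel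
theorem s1c685 : allBelow (fun k => fs1 (Nat.add (Nat.succ 206396) k)) 283 = true := by decide +kernel
theorem s1c686 : allBelow (fun k => fs1 (Nat.add (Nat.succ 206679) k)) 255 = true := by decide +kernel
theorem s1c687 : allBelow (fun k => fs1 (Nat.add (Nat.succ 206934) k)) 276 = true := by decide +kernel
theorem s1c688 : allBelow (fun k => fs1 (Nat.add (Nat.succ 207210) k)) 278 = true := by decide +kernel
theorem s1c689 : allBelow (fun k => fs1 (Nat.add (Nat.succ 207488) k)) 255 = true := by decide +kernel
theorem s1c690 : allBelow (fun k => fs1 (Nat.add (Nat.succ 207743) k)) 265 = true := by decide +kernel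
theorem s1c691 : allBelow (fun k => fs1 (Nat.add (Nat.succ 208008) k)) 266 = true := by decide +kernel
theorem s1c692 : allBelow (fun k => fs1 (Nat.add (Nat.succ 208274) k)) 247 = true := by decide +kernel
theorem s1c693 : allBelow (fun k => fs1 (Nat.add (Nat.succ 208521) k)) 252 = true := by decide +kernel
theorem s1c694 : allBelow (fun k => fs1 (Nat.add (Nat.succ 208773) k)) 244 = true := by decide +kernel
theorem s1c695 : allBelow (fun k => fs1 (Nat.add (Nat.succ 209017) k)) 264 = true := by decide +kernel
theorem s1c696 : allBelow (fun k => fs1 (Nat.add (Nat.succ 209281) k)) 313 = true := by decide +kernel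
theorem s1c697 : allBelow (fun k => fs1 (Nat.add (Nat.succ 209594) k)) 269 = true := by decide +kernel
theorem s1c698 : allBelow (fun k => fs1 (Nat.add (Nat.succ 209863) k)) 295 = true := by decide +kernel
theorem s1c699 : allBelow (fun k => fs1 (Nat.add (Nat.succ 210158) k)) 278 = true := by decide +kernel
theorem s1c700 : allBelow (fun k => fs1 (Nat.add (Nat.succ 210436) k)) 288 = true := by decide +kernel
theorem s1c701 : allBelow (fun k => fs1 (Nat.add (Nat.succ 210724) k)) 262 = true := by decide +kernel
theorem s1c702 : allBelow (fun k => fs1 (Nat.add (Nat.succ 210986) k)) 285 = true := by decide +kernel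
theorem s1c703 : allBelow (fun k => fs1 (Nat.add (Nat.succ 211271) k)) 267 = true := by decide +kernel
theorem s1c704 : allBelow (fun k => fs1 (Nat.add (Nat.succ 211538) k)) 273 = true := by decide +kernel
theorem s1c705 : allBelow (fun k => fs1 (Nat.add (Nat.succ 211811) k)) 269 = true := by decide +kernel
theorem s1c706 : allBelow (fun k => fs1 (Nat.add (Nat.succ 212080) k)) 308 = true := by decide +kernel
theorem s1c707 : allBelow (fun k => fs1 (Nat.add (Nat.succ 212388) k)) 257 = true := by decide +kernel
theorem s1c708 : allBelow (fun k => fs1 (Nat.add (Nat.succ 212645) k)) 258 = true := by decide +kernel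
theorem s1c709 : allBelow (fun k => fs1 (Nat.add (Nat.succ 212903) k)) 276 = true := by decide +kernel
theorem s1c710 : allBelow (fun k => fs1 (Nat.add (Nat.succ 213179) k)) 296 = true := by decide +kernel
theorem s1c711 : allBelow (fun k => fs1 (Nat.add (Nat.succ 213475) k)) 251 = true := by decide +kernel
theorem s1c712 : allBelow (fun k => fs1 (Nat.add (Nat.succ 213726) k)) 245 = true := by decide +kernel
theorem s1c713 : allBelow (fun k => fs1 (Nat.add (Nat.succ 213971) k)) 262 = true := by decide +kernel
theorem s1c714 : allBelow (fun k => fs1 (Nat.add (Nat.succ 214233) k)) 233 = true := by decide +kernel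
theorem s1c715 : allBelow (fun k => fs1 (Nat.add (Nat.succ 214466) k)) 294 = true := by decide +kernel
theorem s1c716 : allBelow (fun k => fs1 (Nat.add (Nat.succ 214760) k)) 254 = true := by decide +kernel
theorem s1c717 : allBelow (fun k => fs1 (Nat.add (Nat.succ 215014) k)) 245 = true := by decide +kernel
theorem s1c718 : allBelow (fun k => fs1 (Nat.add (Nat.succ 215259) k)) 238 = true := by decide +kernel
theorem s1c719 : allBelow (fun k => fs1 (Nat.add (Nat.succ 215497) k)) 289 = true := by decide +kernel
theorem s1c720 : allBelow (fun k => fs1 (Nat.add (Nat.succ 215786) k)) 282 = true := by decide +kernel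
theorem s1c721 : allBelow (fun k => fs1 (Nat.add (Nat.succ 216068) k)) 251 = true := by decide +kernel
theorem s1c722 : allBelow (fun k => fs1 (Nat.add (Nat.succ 216319) k)) 262 = true := by decide +kernel
theorem s1c723 : allBelow (fun k => fs1 (Nat.add (Nat.succ 216581) k)) 305 = true := by decide +kernel
theorem s1c724 : allBelow (fun k => fs1 (Nat.add (Nat.succ 216886) k)) 263 = true := by decide +kernel
theorem s1c725 : allBelow (fun k => fs1 (Nat.add (Nat.succ 217149) k)) 257 = true := by decide +kernel
theorem s1c726 : allBelow (fun k => fs1 (Nat.add (Nat.succ 217406) k)) 274 = true := by decide +kernel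
theorem s1c727 : allBelow (fun k => fs1 (Nat.add (Nat.succ 217680) k)) 310 = true := by decide +kernel
theorem s1c728 : allBelow (fun k => fs1 (Nat.add (Nat.succ 217990) k)) 253 = true := by decide +kernel
theorem s1c729 : allBelow (fun k => fs1 (Nat.add (Nat.succ 218243) k)) 273 = true := by decide +kernel
theorem s1c730 : allBelow (fun k => fs1 (Nat.add (Nat.succ 218516) k)) 260 = true := by decide +kernel
theorem s1c731 : allBelow (fun k => fs1 (Nat.add (Nat.succ 218776) k)) 306 = true := by decide +kernel
theorem s1c732 : allBelow (fun k => fs1 (Nat.add (Nat.succ 219082) k)) 284 = true := by decide +kernel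
theorem s1c733 : allBelow (fun k => fs1 (Nat.add (Nat.succ 219366) k)) 266 = true := by decide +kernel
theorem s1c734 : allBelow (fun k => fs1 (Nat.add (Nat.succ 219632) k)) 272 = true := by decide +kernel
theorem s1c735 : allBelow (fun k => fs1 (Nat.add (Nat.succ 219904) k)) 280 = true := by decide +kernel
theorem s1c736 : allBelow (fun k => fs1 (Nat.add (Nat.succ 220184) k)) 274 = true := by decide +kernel
theorem s1c737 : allBelow (fun k => fs1 (Nat.add (Nat.succ 220458) k)) 291 = true := by decide +kernel
theorem s1c738 : allBelow (fun k => fs1 (Nat.add (Nat.succ 220749) k)) 275 = true := by decide +kernel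
theorem s1c739 : allBelow (fun k => fs1 (Nat.add (Nat.succ 221024) k)) 278 = true := by decide +kernel
theorem s1c740 : allBelow (fun k => fs1 (Nat.add (Nat.succ 221302) k)) 253 = true := by decide +kernel
theorem s1c741 : allBelow (fun k => fs1 (Nat.add (Nat.succ 221555) k)) 234 = true := by decide +kernel
theorem s1c742 : allBelow (fun k => fs1 (Nat.add (Nat.succ 221789) k)) 229 = true := by decide +kernel
theorem s1c743 : allBelow (fun k => fs1 (Nat.add (Nat.succ 222018) k)) 228 = true := by decide +kernel
theorem s1c744 : allBelow (fun k => fs1 (Nat.add (Nat.succ 222246) k)) 235 = true := by decide +kernel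
theorem s1c745 : allBelow (fun k => fs1 (Nat.add (Nat.succ 222481) k)) 232 = true := by decide +kernel
theorem s1c746 : allBelow (fun k => fs1 (Nat.add (Nat.succ 222713) k)) 240 = true := by decide +kernel
theorem s1c747 : allBelow (fun k => fs1 (Nat.add (Nat.succ 222953) k)) 246 = true := by decide +kernel
theorem s1c748 : allBelow (fun k => fs1 (Nat.add (Nat.succ 223199) k)) 247 = true := by decide +kernel
theorem s1c749 : allBelow (fun k => fs1 (Nat.add (Nat.succ 223446) k)) 252 = true := by decide +kernel
theorem s1c750 : allBelow (fun k => fs1 (Nat.add (Nat.succ 223698) k)) 242 = true := by decide +kernel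
theorem s1c751 : allBelow (fun k => fs1 (Nat.add (Nat.succ 223940) k)) 281 = true := by decide +kernel
theorem s1c752 : allBelow (fun k => fs1 (Nat.add (Nat.succ 224221) k)) 246 = true := by decide +kernel
theorem s1c753 : allBelow (fun k => fs1 (Nat.add (Nat.succ 224467) k)) 261 = true := by decide +kernel
theorem s1c754 : allBelow (fun k => fs1 (Nat.add (Nat.succ 224728) k)) 237 = true := by decide +kernel
theorem s1c755 : allBelow (fun k => fs1 (Nat.add (Nat.succ 224965) k)) 246 = true := by decide +kernel
theorem s1c756 : allBelow (fun k => fs1 (Nat.add (Nat.succ 225211) k)) 254 = true := by decide +kernel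
theorem s1c757 : allBelow (fun k => fs1 (Nat.add (Nat.succ 225465) k)) 264 = true := by decide +kernel
theorem s1c758 : allBelow (fun k => fs1 (Nat.add (Nat.succ 225729) k)) 234 = true := by decide +kernel
theorem s1c759 : allBelow (fun k => fs1 (Nat.add (Nat.succ 225963) k)) 270 = true := by decide +kernel
theorem s1c760 : allBelow (fun k => fs1 (Nat.add (Nat.succ 226233) k)) 271 = true := by decide +kernel
theorem s1c761 : allBelow (fun k => fs1 (Nat.add (Nat.succ 226504) k)) 288 = true := by decide +kernel
theorem s1c762 : allBelow (fun k => fs1 (Nat.add (Nat.succ 226792) k)) 241 = true := by decide +kernel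
theorem s1c763 : allBelow (fun k => fs1 (Nat.add (Nat.succ 227033) k)) 270 = true := by decide +kernel
theorem s1c764 : allBelow (fun k => fs1 (Nat.add (Nat.succ 227303) k)) 280 = true := by decide +kernel
theorem s1c765 : allBelow (fun k => fs1 (Nat.add (Nat.succ 227583) k)) 247 = true := by decide +kernel
theorem s1c766 : allBelow (fun k => fs1 (Nat.add (Nat.succ 227830) k)) 277 = true := by decide +kernel
theorem s1c767 : allBelow (fun k => fs1 (Nat.add (Nat.succ 228107) k)) 243 = true := by decide +kernel
theorem s1c768 : allBelow (fun k => fs1 (Nat.add (Nat.succ 228350) k)) 283 = true := by decide +kernel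
theorem s1c769 : allBelow (fun k => fs1 (Nat.add (Nat.succ 228633) k)) 272 = true := by decide +kernel
theorem s1c770 : allBelow (fun k => fs1 (Nat.add (Nat.succ 228905) k)) 275 = true := by decide +kernel
theorem s1c771 : allBelow (fun k => fs1 (Nat.add (Nat.succ 229180) k)) 245 = true := by decide +kernel
theorem s1c772 : allBelow (fun k => fs1 (Nat.add (Nat.succ 229425) k)) 274 = true := by decide +kernel
theorem s1c773 : allBelow (fun k => fs1 (Nat.add (Nat.succ 229699) k)) 275 = true := by decide +kernel
theorem s1c774 : allBelow (fun k => fs1 (Nat.add (Nat.succ 229974) k)) 276 = true := by decide +kernel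
theorem s1c775 : allBelow (fun k => fs1 (Nat.add (Nat.succ 230250) k)) 248 = true := by decide +kernel
theorem s1c776 : allBelow (fun k => fs1 (Nat.add (Nat.succ 230498) k)) 270 = true := by decide +kernel
theorem s1c777 : allBelow (fun k => fs1 (Nat.add (Nat.succ 230768) k)) 273 = true := by decide +kernel
theorem s1c778 : allBelow (fun k => fs1 (Nat.add (Nat.succ 231041) k)) 258 = true := by decide +kernel
theorem s1c779 : allBelow (fun k => fs1 (Nat.add (Nat.succ 231299) k)) 265 = true := by decide +kernel
theorem s1c780 : allBelow (fun k => fs1 (Nat.add (Nat.succ 231564) k)) 248 = true := by decide +kernel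
theorem s1c781 : allBelow (fun k => fs1 (Nat.add (Nat.succ 231812) k)) 248 = true := by decide +kernel
theorem s1c782 : allBelow (fun k => fs1 (Nat.add (Nat.succ 232060) k)) 251 = true := by decide +kernel
theorem s1c783 : allBelow (fun k => fs1 (Nat.add (Nat.succ 232311) k)) 241 = true := by decide +kernel
theorem s1c784 : allBelow (fun k => fs1 (Nat.add (Nat.succ 232552) k)) 296 = true := by decide +kernel
theorem s1c785 : allBelow (fun k => fs1 (Nat.add (Nat.succ 232848) k)) 312 = true := by decide +kernel
theorem s1c786 : allBelow (fun k => fs1 (Nat.add (Nat.succ 233160) k)) 264 = true := by decide +kernel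
theorem s1c787 : allBelow (fun k => fs1 (Nat.add (Nat.succ 233424) k)) 294 = true := by decide +kernel
theorem s1c788 : allBelow (fun k => fs1 (Nat.add (Nat.succ 233718) k)) 272 = true := by decide +kernel
theorem s1c789 : allBelow (fun k => fs1 (Nat.add (Nat.succ 233990) k)) 275 = true := by decide +kernel
theorem s1c790 : allBelow (fun k => fs1 (Nat.add (Nat.succ 234265) k)) 265 = true := by decide +kernel
theorem s1c791 : allBelow (fun k => fs1 (Nat.add (Nat.succ 234530) k)) 285 = true := by decide +kernel
theorem s1c792 : allBelow (fun k => fs1 (Nat.add (Nat.succ 234815) k)) 271 = true := by decide +kernel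
theorem s1c793 : allBelow (fun k => fs1 (Nat.add (Nat.succ 235086) k)) 275 = true := by decide +kernel
theorem s1c794 : allBelow (fun k => fs1 (Nat.add (Nat.succ 235361) k)) 244 = true := by decide +kernel
theorem s1c795 : allBelow (fun k => fs1 (Nat.add (Nat.succ 235605) k)) 308 = true := by decide +kernel
theorem s1c796 : allBelow (fun k => fs1 (Nat.add (Nat.succ 235913) k)) 307 = true := by decide +kernel
theorem s1c797 : allBelow (fun k => fs1 (Nat.add (Nat.succ 236220) k)) 243 = true := by decide +kernel
theorem s1c798 : allBelow (fun k => fs1 (Nat.add (Nat.succ 236463) k)) 264 = true := by decide +kernel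
theorem s1c799 : allBelow (fun k => fs1 (Nat.add (Nat.succ 236727) k)) 276 = true := by decide +kernel
theorem s1c800 : allBelow (fun k => fs1 (Nat.add (Nat.succ 237003) k)) 292 = true := by decide +kernel
theorem s1c801 : allBelow (fun k => fs1 (Nat.add (Nat.succ 237295) k)) 270 = true := by decide +kernel
theorem s1c802 : allBelow (fun k => fs1 (Nat.add (Nat.succ 237565) k)) 248 = true := by decide +kernel
theorem s1c803 : allBelow (fun k => fs1 (Nat.add (Nat.succ 237813) k)) 262 = true := by decide +kernel
theorem s1c804 : allBelow (fun k => fs1 (Nat.add (Nat.succ 238075) k)) 234 = true := by decide +kernel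
theorem s1c805 : allBelow (fun k => fs1 (Nat.add (Nat.succ 238309) k)) 265 = true := by decide +kernel
theorem s1c806 : allBelow (fun k => fs1 (Nat.add (Nat.succ 238574) k)) 268 = true := by decide +kernel
theorem s1c807 : allBelow (fun k => fs1 (Nat.add (Nat.succ 238842) k)) 261 = true := by decide +kernel
theorem s1c808 : allBelow (fun k => fs1 (Nat.add (Nat.succ 239103) k)) 239 = true := by decide +kernel
theorem s1c809 : allBelow (fun k => fs1 (Nat.add (Nat.succ 239342) k)) 247 = true := by decide +kernel
theorem s1c810 : allBelow (fun k => fs1 (Nat.add (Nat.succ 239589) k)) 300 = true := by decide +kernel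
theorem s1c811 : allBelow (fun k => fs1 (Nat.add (Nat.succ 239889) k)) 277 = true := by decide +kernel
theorem s1c812 : allBelow (fun k => fs1 (Nat.add (Nat.succ 240166) k)) 254 = true := by decide +kernel
theorem s1c813 : allBelow (fun k => fs1 (Nat.add (Nat.succ 240420) k)) 243 = true := by decide +kernel
theorem s1c814 : allBelow (fun k => fs1 (Nat.add (Nat.succ 240663) k)) 309 = true := by decide +kernel
theorem s1c815 : allBelow (fun k => fs1 (Nat.add (Nat.succ 240972) k)) 273 = true := by decide +kernel
theorem s1c816 : allBelow (fun k => fs1 (Nat.add (Nat.succ 241245) k)) 286 = true := by decide +kernel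
theorem s1c817 : allBelow (fun k => fs1 (Nat.add (Nat.succ 241531) k)) 235 = true := by decide +kernel
theorem s1c818 : allBelow (fun k => fs1 (Nat.add (Nat.succ 241766) k)) 294 = true := by decide +kernel
theorem s1c819 : allBelow (fun k => fs1 (Nat.add (Nat.succ 242060) k)) 305 = true := by decide +kernel
theorem s1c820 : allBelow (fun k => fs1 (Nat.add (Nat.succ 242365) k)) 251 = true := by decide +kernel
theorem s1c821 : allBelow (fun k => fs1 (Nat.add (Nat.succ 242616) k)) 274 = true := by decide +kernel
theorem s1c822 : allBelow (fun k => fs1 (Nat.add (Nat.succ 242890) k)) 262 = true := by decide +kernel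
theorem s1c823 : allBelow (fun k => fs1 (Nat.add (Nat.succ 243152) k)) 304 = true := by decide +kernel
theorem s1c824 : allBelow (fun k => fs1 (Nat.add (Nat.succ 243456) k)) 289 = true := by decide +kernel
theorem s1c825 : allBelow (fun k => fs1 (Nat.add (Nat.succ 243745) k)) 265 = true := by decide +kernel
theorem s1c826 : allBelow (fun k => fs1 (Nat.add (Nat.succ 244010) k)) 276 = true := by decide +kernel
theorem s1c827 : allBelow (fun k => fs1 (Nat.add (Nat.succ 244286) k)) 279 = true := by decide +kernel
theorem s1c828 : allBelow (fun k => fs1 (Nat.add (Nat.succ 244565) k)) 277 = true := by decide +kernel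
theorem s1c829 : allBelow (fun k => fs1 (Nat.add (Nat.succ 244842) k)) 292 = true := by decide +kernel
theorem s1c830 : allBelow (fun k => fs1 (Nat.add (Nat.succ 245134) k)) 283 = true := by decide +kernel
theorem s1c831 : allBelow (fun k => fs1 (Nat.add (Nat.succ 245417) k)) 272 = true := by decide +kernel
theorem s1c832 : allBelow (fun k => fs1 (Nat.add (Nat.succ 245689) k)) 248 = true := by decide +kernel
theorem s1c833 : allBelow (fun k => fs1 (Nat.add (Nat.succ 245937) k)) 232 = true := by decide +kernel
theorem s1c834 : allBelow (fun k => fs1 (Nat.add (Nat.succ 246169) k)) 229 = true := by decide +kernel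
theorem s1c835 : allBelow (fun k => fs1 (Nat.add (Nat.succ 246398) k)) 227 = true := by decide +kernel
theorem s1c836 : allBelow (fun k => fs1 (Nat.add (Nat.succ 246625) k)) 235 = true := by decide +kernel
theorem s1c837 : allBelow (fun k => fs1 (Nat.add (Nat.succ 246860) k)) 236 = true := by decide +kernel
theorem s1c838 : allBelow (fun k => fs1 (Nat.add (Nat.succ 247096) k)) 251 = true := by decide +kernel
theorem s1c839 : allBelow (fun k => fs1 (Nat.add (Nat.succ 247347) k)) 242 = true := by decide +kernel
theorem s1c840 : allBelow (fun k => fs1 (Nat.add (Nat.succ 247589) k)) 263 = true := by decide +kernel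
theorem s1c841 : allBelow (fun k => fs1 (Nat.add (Nat.succ 247852) k)) 236 = true := by decide +kernel
theorem s1c842 : allBelow (fun k => fs1 (Nat.add (Nat.succ 248088) k)) 257 = true := by decide +kernel
theorem s1c843 : allBelow (fun k => fs1 (Nat.add (Nat.succ 248345) k)) 272 = true := by decide +kernel
theorem s1c844 : allBelow (fun k => fs1 (Nat.add (Nat.succ 248617) k)) 240 = true := by decide +kernel
theorem s1c845 : allBelow (fun k => fs1 (Nat.add (Nat.succ 248857) k)) 262 = true := by decide +kernel
theorem s1c846 : allBelow (fun k => fs1 (Nat.add (Nat.succ 249119) k)) 234 = true := by decide +kernel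
theorem s1c847 : allBelow (fun k => fs1 (Nat.add (Nat.succ 249353) k)) 246 = true := by decide +kernel
theorem s1c848 : allBelow (fun k => fs1 (Nat.add (Nat.succ 249599) k)) 255 = true := by decide +kernel
theorem s1c849 : allBelow (fun k => fs1 (Nat.add (Nat.succ 249854) k)) 262 = true := by decide +kernel
theorem s1c850 : allBelow (fun k => fs1 (Nat.add (Nat.succ 250116) k)) 233 = true := by decide +kernel
theorem s1c851 : allBelow (fun k => fs1 (Nat.add (Nat.succ 250349) k)) 247 = true := by decide +kernel
theorem s1c852 : allBelow (fun k => fs1 (Nat.add (Nat.succ 250596) k)) 275 = true := by decide +kernel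
theorem s1c853 : allBelow (fun k => fs1 (Nat.add (Nat.succ 250871) k)) 272 = true := by decide +kernel
theorem s1c854 : allBelow (fun k => fs1 (Nat.add (Nat.succ 251143) k)) 278 = true := by decide +kernel
theorem s1c855 : allBelow (fun k => fs1 (Nat.add (Nat.succ 251421) k)) 246 = true := by decide +kernel
theorem s1c856 : allBelow (fun k => fs1 (Nat.add (Nat.succ 251667) k)) 265 = true := by decide +kernel
theorem s1c857 : allBelow (fun k => fs1 (Nat.add (Nat.succ 251932) k)) 278 = true := by decide +kernel
theorem s1c858 : allBelow (fun k => fs1 (Nat.add (Nat.succ 252210) k)) 242 = true := by decide +kernel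
theorem s1c859 : allBelow (fun k => fs1 (Nat.add (Nat.succ 252452) k)) 272 = true := by decide +kernel
theorem s1c860 : allBelow (fun k => fs1 (Nat.add (Nat.succ 252724) k)) 248 = true := by decide +kernel
theorem s1c861 : allBelow (fun k => fs1 (Nat.add (Nat.succ 252972) k)) 270 = true := by decide +kernel
theorem s1c862 : allBelow (fun k => fs1 (Nat.add (Nat.succ 253242) k)) 280 = true := by decide +kernel
theorem s1c863 : allBelow (fun k => fs1 (Nat.add (Nat.succ 253522) k)) 265 = true := by decide +kernel
theorem s1c864 : allBelow (fun k => fs1 (Nat.add (Nat.succ 253787) k)) 262 = true := by decide +kernel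
theorem s1c865 : allBelow (fun k => fs1 (Nat.add (Nat.succ 254049) k)) 251 = true := by decide +kernel
theorem s1c866 : allBelow (fun k => fs1 (Nat.add (Nat.succ 254300) k)) 269 = true := by decide +kernel
theorem s1c867 : allBelow (fun k => fs1 (Nat.add (Nat.succ 254569) k)) 281 = true := by decide +kernel
theorem s1c868 : allBelow (fun k => fs1 (Nat.add (Nat.succ 254850) k)) 269 = true := by decide +kernel
theorem s1c869 : allBelow (fun k => fs1 (Nat.add (Nat.succ 255119) k)) 245 = true := by decide +kernel
theorem s1c870 : allBelow (fun k => fs1 (Nat.add (Nat.succ 255364) k)) 280 = true := by decide +kernel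
theorem s1c871 : allBelow (fun k => fs1 (Nat.add (Nat.succ 255644) k)) 263 = true := by decide +kernel
theorem s1c872 : allBelow (fun k => fs1 (Nat.add (Nat.succ 255907) k)) 250 = true := by decide +kernel
theorem s1c873 : allBelow (fun k => fs1 (Nat.add (Nat.succ 256157) k)) 265 = true := by decide +kernel
theorem s1c874 : allBelow (fun k => fs1 (Nat.add (Nat.succ 256422) k)) 240 = true := by decide +kernel
theorem s1c875 : allBelow (fun k => fs1 (Nat.add (Nat.succ 256662) k)) 244 = true := by decide +kernel
theorem s1c876 : allBelow (fun k => fs1 (Nat.add (Nat.succ 256906) k)) 251 = true := by decide +kernel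
theorem s1c877 : allBelow (fun k => fs1 (Nat.add (Nat.succ 257157) k)) 242 = true := by decide +kernel
theorem s1c878 : allBelow (fun k => fs1 (Nat.add (Nat.succ 257399) k)) 308 = true := by decide +kernel
theorem s1c879 : allBelow (fun k => fs1 (Nat.add (Nat.succ 257707) k)) 310 = true := by decide +kernel
theorem s1c880 : allBelow (fun k => fs1 (Nat.add (Nat.succ 258017) k)) 264 = true := by decide +kernel
theorem s1c881 : allBelow (fun k => fs1 (Nat.add (Nat.succ 258281) k)) 285 = true := by decide +kernel
theorem s1c882 : allBelow (fun k => fs1 (Nat.add (Nat.succ 258566) k)) 272 = true := by decide +kernel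
theorem s1c883 : allBelow (fun k => fs1 (Nat.add (Nat.succ 258838) k)) 280 = true := by decide +kernel
theorem s1c884 : allBelow (fun k => fs1 (Nat.add (Nat.succ 259118) k)) 247 = true := by decide +kernel
theorem s1c885 : allBelow (fun k => fs1 (Nat.add (Nat.succ 259365) k)) 294 = true := by decide +kernel
theorem s1c886 : allBelow (fun k => fs1 (Nat.add (Nat.succ 259659) k)) 284 = true := by decide +kernel
theorem s1c887 : allBelow (fun k => fs1 (Nat.add (Nat.succ 259943) k)) 264 = true := by decide +kernel
theorem s1c888 : allBelow (fun k => fs1 (Nat.add (Nat.succ 260207) k)) 253 = true := by decide +kernel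
theorem s1c889 : allBelow (fun k => fs1 (Nat.add (Nat.succ 260460) k)) 268 = true := by decide +kernel
theorem s1c890 : allBelow (fun k => fs1 (Nat.add (Nat.succ 260728) k)) 305 = true := by decide +kernel
theorem s1c891 : allBelow (fun k => fs1 (Nat.add (Nat.succ 261033) k)) 305 = true := by decide +kernel
theorem s1c892 : allBelow (fun k => fs1 (Nat.add (Nat.succ 261338) k)) 258 = true := by decide +kernel
theorem s1c893 : allBelow (fun k => fs1 (Nat.add (Nat.succ 261596) k)) 265 = true := by decide +kernel
theorem s1c894 : allBelow (fun k => fs1 (Nat.add (Nat.succ 261861) k)) 254 = true := by decide +kernel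
theorem s1c895 : allBelow (fun k => fs1 (Nat.add (Nat.succ 262115) k)) 296 = true := by decide +kernel
theorem s1c896 : allBelow (fun k => fs1 (Nat.add (Nat.succ 262411) k)) 291 = true := by decide +kernel
theorem s1c897 : allBelow (fun k => fs1 (Nat.add (Nat.succ 262702) k)) 249 = true := by decide +kernel
theorem s1c898 : allBelow (fun k => fs1 (Nat.add (Nat.succ 262951) k)) 246 = true := by decide +kernel
theorem s1c899 : allBelow (fun k => fs1 (Nat.add (Nat.succ 263197) k)) 261 = true := by decide +kernel
theorem s1c900 : allBelow (fun k => fs1 (Nat.add (Nat.succ 263458) k)) 232 = true := by decide +kernel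
theorem s1c901 : allBelow (fun k => fs1 (Nat.add (Nat.succ 263690) k)) 281 = true := by decide +kernel
theorem s1c902 : allBelow (fun k => fs1 (Nat.add (Nat.succ 263971) k)) 254 = true := by decide +kernel
theorem s1c903 : allBelow (fun k => fs1 (Nat.add (Nat.succ 264225) k)) 258 = true := by decide +kernel
theorem s1c904 : allBelow (fun k => fs1 (Nat.add (Nat.succ 264483) k)) 241 = true := by decide +kernel
theorem s1c905 : allBelow (fun k => fs1 (Nat.add (Nat.succ 264724) k)) 259 = true := by decide +kernel
theorem s1c906 : allBelow (fun k => fs1 (Nat.add (Nat.succ 264983) k)) 295 = true := by decide +kernel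
theorem s1c907 : allBelow (fun k => fs1 (Nat.add (Nat.succ 265278) k)) 272 = true := by decide +kernel
theorem s1c908 : allBelow (fun k => fs1 (Nat.add (Nat.succ 265550) k)) 257 = true := by decide +kernel
theorem s1c909 : allBelow (fun k => fs1 (Nat.add (Nat.succ 265807) k)) 241 = true := by decide +kernel
theorem s1c910 : allBelow (fun k => fs1 (Nat.add (Nat.succ 266048) k)) 290 = true := by decide +kernel
theorem s1c911 : allBelow (fun k => fs1 (Nat.add (Nat.succ 266338) k)) 295 = true := by decide +kernel
theorem s1c912 : allBelow (fun k => fs1 (Nat.add (Nat.succ 266633) k)) 266 = true := by decide +kernel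
theorem s1c913 : allBelow (fun k => fs1 (Nat.add (Nat.succ 266899) k)) 266 = true := by decide +kernel
theorem s1c914 : allBelow (fun k => fs1 (Nat.add (Nat.succ 267165) k)) 249 = true := by decide +kernel
theorem s1c915 : allBelow (fun k => fs1 (Nat.add (Nat.succ 267414) k)) 307 = true := by decide +kernel
theorem s1c916 : allBelow (fun k => fs1 (Nat.add (Nat.succ 267721) k)) 285 = true := by decide +kernel
theorem s1c917 : allBelow (fun k => fs1 (Nat.add (Nat.succ 268006) k)) 253 = true := by decide +kernel
theorem s1c918 : allBelow (fun k => fs1 (Nat.add (Nat.succ 268259) k)) 279 = true := by decide +kernel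
theorem s1c919 : allBelow (fun k => fs1 (Nat.add (Nat.succ 268538) k)) 289 = true := by decide +kernel
theorem s1c920 : allBelow (fun k => fs1 (Nat.add (Nat.succ 268827) k)) 301 = true := by decide +kernel
theorem s1c921 : allBelow (fun k => fs1 (Nat.add (Nat.succ 269128) k)) 258 = true := by decide +kernel
theorem s1c922 : allBelow (fun k => fs1 (Nat.add (Nat.succ 269386) k)) 285 = true := by decide +kernel
theorem s1c923 : allBelow (fun k => fs1 (Nat.add (Nat.succ 269671) k)) 277 = true := by decide +kernel
theorem s1c924 : allBelow (fun k => fs1 (Nat.add (Nat.succ 269948) k)) 278 = true := by decide +kernel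
theorem s1c925 : allBelow (fun k => fs1 (Nat.add (Nat.succ 270226) k)) 289 = true := by decide +kernel
theorem s1c926 : allBelow (fun k => fs1 (Nat.add (Nat.succ 270515) k)) 281 = true := by decide +kernel
theorem s1c927 : allBelow (fun k => fs1 (Nat.add (Nat.succ 270796) k)) 274 = true := by decide +kernel
theorem s1c928 : allBelow (fun k => fs1 (Nat.add (Nat.succ 271070) k)) 242 = true := by decide +kernel
theorem s1c929 : allBelow (fun k => fs1 (Nat.add (Nat.succ 271312) k)) 229 = true := by decide +kernel
theorem s1c930 : allBelow (fun k => fs1 (Nat.add (Nat.succ 271541) k)) 225 = true := by decide +kernel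
theorem s1c931 : allBelow (fun k => fs1 (Nat.add (Nat.succ 271766) k)) 232 = true := by decide +kernel
theorem s1c932 : allBelow (fun k => fs1 (Nat.add (Nat.succ 271998) k)) 225 = true := by decide +kernel
theorem s1c933 : allBelow (fun k => fs1 (Nat.add (Nat.succ 272223) k)) 249 = true := by decide +kernel
theorem s1c934 : allBelow (fun k => fs1 (Nat.add (Nat.succ 272472) k)) 240 = true := by decide +kernel
theorem s1c935 : allBelow (fun k => fs1 (Nat.add (Nat.succ 272712) k)) 252 = true := by decide +kernel
theorem s1c936 : allBelow (fun k => fs1 (Nat.add (Nat.succ 272964) k)) 256 = true := by decide +kernel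
theorem s1c937 : allBelow (fun k => fs1 (Nat.add (Nat.succ 273220) k)) 238 = true := by decide +kernel
theorem s1c938 : allBelow (fun k => fs1 (Nat.add (Nat.succ 273458) k)) 252 = true := by decide +kernel
theorem s1c939 : allBelow (fun k => fs1 (Nat.add (Nat.succ 273710) k)) 268 = true := by decide +kernel
theorem s1c940 : allBelow (fun k => fs1 (Nat.add (Nat.succ 273978) k)) 249 = true := by decide +kernel
theorem s1c941 : allBelow (fun k => fs1 (Nat.add (Nat.succ 274227) k)) 250 = true := by decide +kernel
theorem s1c942 : allBelow (fun k => fs1 (Nat.add (Nat.succ 274477) k)) 245 = true := by decide +kernel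
theorem s1c943 : allBelow (fun k => fs1 (Nat.add (Nat.succ 274722) k)) 243 = true := by decide +kernel
theorem s1c944 : allBelow (fun k => fs1 (Nat.add (Nat.succ 274965) k)) 250 = true := by decide +kernel
theorem s1c945 : allBelow (fun k => fs1 (Nat.add (Nat.succ 275215) k)) 259 = true := by decide +kernel
theorem s1c946 : allBelow (fun k => fs1 (Nat.add (Nat.succ 275474) k)) 240 = true := by decide +kernel
theorem s1c947 : allBelow (fun k => fs1 (Nat.add (Nat.succ 275714) k)) 233 = true := by decide +kernel
theorem s1c948 : allBelow (fun k => fs1 (Nat.add (Nat.succ 275947) k)) 262 = true := by decide +kernel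
theorem s1c949 : allBelow (fun k => fs1 (Nat.add (Nat.succ 276209) k)) 268 = true := by decide +kernel
theorem s1c950 : allBelow (fun k => fs1 (Nat.add (Nat.succ 276477) k)) 266 = true := by decide +kernel
theorem s1c951 : allBelow (fun k => fs1 (Nat.add (Nat.succ 276743) k)) 284 = true := by decide +kernel
theorem s1c952 : allBelow (fun k => fs1 (Nat.add (Nat.succ 277027) k)) 240 = true := by decide +kernel
theorem s1c953 : allBelow (fun k => fs1 (Nat.add (Nat.succ 277267) k)) 260 = true := by decide +kernel
theorem s1c954 : allBelow (fun k => fs1 (Nat.add (Nat.succ 277527) k)) 275 = true := by decide +kernel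
theorem s1c955 : allBelow (fun k => fs1 (Nat.add (Nat.succ 277802) k)) 252 = true := by decide +kernel
theorem s1c956 : allBelow (fun k => fs1 (Nat.add (Nat.succ 278054) k)) 256 = true := by decide +kernel
theorem s1c957 : allBelow (fun k => fs1 (Nat.add (Nat.succ 278310) k)) 259 = true := by decide +kernel
theorem s1c958 : allBelow (fun k => fs1 (Nat.add (Nat.succ 278569) k)) 262 = true := by decide +kernel
theorem s1c959 : allBelow (fun k => fs1 (Nat.add (Nat.succ 278831) k)) 281 = true := by decide +kernel
theorem s1c960 : allBelow (fun k => fs1 (Nat.add (Nat.succ 279112) k)) 260 = true := by decide +kernel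
theorem s1c961 : allBelow (fun k => fs1 (Nat.add (Nat.succ 279372) k)) 265 = true := by decide +kernel
theorem s1c962 : allBelow (fun k => fs1 (Nat.add (Nat.succ 279637) k)) 243 = true := by decide +kernel
theorem s1c963 : allBelow (fun k => fs1 (Nat.add (Nat.succ 279880) k)) 274 = true := by decide +kernel
theorem s1c964 : allBelow (fun k => fs1 (Nat.add (Nat.succ 280154) k)) 273 = true := by decide +kernel
theorem s1c965 : allBelow (fun k => fs1 (Nat.add (Nat.succ 280427) k)) 277 = true := by decide +kernel
theorem s1c966 : allBelow (fun k => fs1 (Nat.add (Nat.succ 280704) k)) 239 = true := by decide +kernel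
theorem s1c967 : allBelow (fun k => fs1 (Nat.add (Nat.succ 280943) k)) 270 = true := by decide +kernel
theorem s1c968 : allBelow (fun k => fs1 (Nat.add (Nat.succ 281213) k)) 263 = true := by decide +kernel
theorem s1c969 : allBelow (fun k => fs1 (Nat.add (Nat.succ 281476) k)) 255 = true := by decide +kernel
theorem s1c970 : allBelow (fun k => fs1 (Nat.add (Nat.succ 281731) k)) 255 = true := by decide +kernel
theorem s1c971 : allBelow (fun k => fs1 (Nat.add (Nat.succ 281986) k)) 242 = true := by decide +kernel
theorem s1c972 : allBelow (fun k => fs1 (Nat.add (Nat.succ 282228) k)) 245 = true := by decide +kernel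
theorem s1c973 : allBelow (fun k => fs1 (Nat.add (Nat.succ 282473) k)) 246 = true := by decide +kernel
theorem s1c974 : allBelow (fun k => fs1 (Nat.add (Nat.succ 282719) k)) 234 = true := by decide +kernel
theorem s1c975 : allBelow (fun k => fs1 (Nat.add (Nat.succ 282953) k)) 295 = true := by decide +kernel

end Cfsg.Agent.Lib.Helper35.Fi24a
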