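import Cfsg.Agent.Lib.Helper35.Fi24a.Data

set_option Elab.async false

namespace Cfsg.Agent.Lib.Helper35.Fi24a

open Cfsg.Agent.Lib.Helper35

theorem s1c976 : allBelow (fun k => fs1 (Nat.add (Nat.succ 283248) k)) 307 = true := by decide +kernel
theorem s1c977 : allBelow (fun k => fs1 (Nat.add (Nat.succ 283555) k)) 268 = true := by decide +kernel
theorem s1c978 : allBelow (fun k => fs1 (Nat.add (Nat.succ 283823) k)) 286 = true := by decide +kernel
theorem s1c979 : allBelow (fun k => fs1 (Nat.add (Nat.succ 284109) k)) 285 = true := by decide +kernel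
theorem s1c980 : allBelow (fun k => fs1 (Nat.add (Nat.succ 284394) k)) 250 = true := by decide +kernel
theorem s1c981 : allBelow (fun k => fs1 (Nat.add (Nat.succ 284644) k)) 254 = true := by decide +kernel
theorem s1c982 : allBelow (fun k => fs1 (Nat.add (Nat.succ 284898) k)) 279 = true := by decide +kernel
theorem s1c983 : allBelow (fun k => fs1 (Nat.add (Nat.succ 285177) k)) 286 = true := by decide +kernel
theorem s1c984 : allBelow (fun k => fs1 (Nat.add (Nat.succ 285463) k)) 260 = true := by decide +kernel
theorem s1c985 : allBelow (fun k => fs1 (Nat.add (Nat.succ 285723) k)) 273 = true := by decide +kernel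
theorem s1c986 : allBelow (fun k => fs1 (Nat.add (Nat.succ 285996) k)) 242 = true := by decide +kernel
theorem s1c987 : allBelow (fun k => fs1 (Nat.add (Nat.succ 286238) k)) 302 = true := by decide +kernel
theorem s1c988 : allBelow (fun k => fs1 (Nat.add (Nat.succ 286540) k)) 298 = true := by decide +kernel
theorem s1c989 : allBelow (fun k => fs1 (Nat.add (Nat.succ 286838) k)) 307 = true := by decide +kernel
theorem s1c990 : allBelow (fun k => fs1 (Nat.add (Nat.succ 287145) k)) 251 = true := by decide +kernel
theorem s1c991 : allBelow (fun k => fs1 (Nat.add (Nat.succ 287396) k)) 264 = true := by decide +kernel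
theorem s1c992 : allBelow (fun k => fs1 (Nat.add (Nat.succ 287660) k)) 254 = true := by decide +kernel
theorem s1c993 : allBelow (fun k => fs1 (Nat.add (Nat.succ 287914) k)) 288 = true := by decide +kernel
theorem s1c994 : allBelow (fun k => fs1 (Nat.add (Nat.succ 288202) k)) 285 = true := by decide +kernel
theorem s1c995 : allBelow (fun k => fs1 (Nat.add (Nat.succ 288487) k)) 253 = true := by decide +kernel
theorem s1c996 : allBelow (fun k => fs1 (Nat.add (Nat.succ 288740) k)) 249 = true := by decide +kernel
theorem s1c997 : allBelow (fun k => fs1 (Nat.add (Nat.succ 288989) k)) 258 = true := by decide +kernel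
theorem s1c998 : allBelow (fun k => fs1 (Nat.add (Nat.succ 289247) k)) 233 = true := by decide +kernel
theorem s1c999 : allBelow (fun k => fs1 (Nat.add (Nat.succ 289480) k)) 279 = true := by decide +kernel
theorem s1c1000 : allBelow (fun k => fs1 (Nat.add (Nat.succ 289759) k)) 251 = true := by decide +kernel
theorem s1c1001 : allBelow (fun k => fs1 (Nat.add (Nat.succ 290010) k)) 248 = true := by decide +kernel
theorem s1c1002 : allBelow (fun k => fs1 (Nat.add (Nat.succ 290258) k)) 253 = true := by decide +kernel
theorem s1c1003 : allBelow (fun k => fs1 (Nat.add (Nat.succ 290511) k)) 277 = true := by decide +kernel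
theorem s1c1004 : allBelow (fun k => fs1 (Nat.add (Nat.succ 290788) k)) 280 = true := by decide +kernel
theorem s1c1005 : allBelow (fun k => fs1 (Nat.add (Nat.succ 291068) k)) 261 = true := by decide +kernel
theorem s1c1006 : allBelow (fun k => fs1 (Nat.add (Nat.succ 291329) k)) 242 = true := by decide +kernel
theorem s1c1007 : allBelow (fun k => fs1 (Nat.add (Nat.succ 291571) k)) 269 = true := by decide +kernel
theorem s1c1008 : allBelow (fun k => fs1 (Nat.add (Nat.succ 291840) k)) 295 = true := by decide +kernel
theorem s1c1009 : allBelow (fun k => fs1 (Nat.add (Nat.succ 292135) k)) 271 = true := by decide +kernel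
theorem s1c1010 : allBelow (fun k => fs1 (Nat.add (Nat.succ 292406) k)) 285 = true := by decide +kernel
theorem s1c1011 : allBelow (fun k => fs1 (Nat.add (Nat.succ 292691) k)) 242 = true := by decide +kernel
theorem s1c1012 : allBelow (fun k => fs1 (Nat.add (Nat.succ 292933) k)) 297 = true := by decide +kernel
theorem s1c1013 : allBelow (fun k => fs1 (Nat.add (Nat.succ 293230) k)) 282 = true := by decide +kernel
theorem s1c1014 : allBelow (fun k => fs1 (Nat.add (Nat.succ 293512) k)) 268 = true := by decide +kernel
theorem s1c1015 : allBelow (fun k => fs1 (Nat.add (Nat.succ 293780) k)) 273 = true := by decide +kernel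
theorem s1c1016 : allBelow (fun k => fs1 (Nat.add (Nat.succ 294053) k)) 299 = true := by decide +kernel
theorem s1c1017 : allBelow (fun k => fs1 (Nat.add (Nat.succ 294352) k)) 260 = true := by decide +kernel
theorem s1c1018 : allBelow (fun k => fs1 (Nat.add (Nat.succ 294612) k)) 278 = true := by decide +kernel
theorem s1c1019 : allBelow (fun k => fs1 (Nat.add (Nat.succ 294890) k)) 288 = true := by decide +kernel
theorem s1c1020 : allBelow (fun k => fs1 (Nat.add (Nat.succ 295178) k)) 284 = true := by decide +kernel
theorem s1c1021 : allBelow (fun k => fs1 (Nat.add (Nat.succ 295462) k)) 279 = true := by decide +kernel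
theorem s1c1022 : allBelow (fun k => fs1 (Nat.add (Nat.succ 295741) k)) 273 = true := by decide +kernel
theorem s1c1023 : allBelow (fun k => fs1 (Nat.add (Nat.succ 296014) k)) 256 = true := by decide +kernel
theorem s1c1024 : allBelow (fun k => fs1 (Nat.add (Nat.succ 296270) k)) 229 = true := by decide +kernel
theorem s1c1025 : allBelow (fun k => fs1 (Nat.add (Nat.succ 296499) k)) 222 = true := by decide +kernel
theorem s1c1026 : allBelow (fun k => fs1 (Nat.add (Nat.succ 296721) k)) 226 = true := by decide +kernel
theorem s1c1027 : allBelow (fun k => fs1 (Nat.add (Nat.succ 296947) k)) 222 = true := by decide +kernel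
theorem s1c1028 : allBelow (fun k => fs1 (Nat.add (Nat.succ 297169) k)) 240 = true := by decide +kernel
theorem s1c1029 : allBelow (fun k => fs1 (Nat.add (Nat.succ 297409) k)) 245 = true := by decide +kernel
theorem s1c1030 : allBelow (fun k => fs1 (Nat.add (Nat.succ 297654) k)) 228 = true := by decide +kernel
theorem s1c1031 : allBelow (fun k => fs1 (Nat.add (Nat.succ 297882) k)) 271 = true := by decide +kernel
theorem s1c1032 : allBelow (fun k => fs1 (Nat.add (Nat.succ 298153) k)) 235 = true := by decide +kernel
theorem s1c1033 : allBelow (fun k => fs1 (Nat.add (Nat.succ 298388) k)) 235 = true := by decide +kernel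
theorem s1c1034 : allBelow (fun k => fs1 (Nat.add (Nat.succ 298623) k)) 263 = true := by decide +kernel
theorem s1c1035 : allBelow (fun k => fs1 (Nat.add (Nat.succ 298886) k)) 263 = true := by decide +kernel
theorem s1c1036 : allBelow (fun k => fs1 (Nat.add (Nat.succ 299149) k)) 240 = true := by decide +kernel
theorem s1c1037 : allBelow (fun k => fs1 (Nat.add (Nat.succ 299389) k)) 251 = true := by decide +kernel
theorem s1c1038 : allBelow (fun k => fs1 (Nat.add (Nat.succ 299640) k)) 235 = true := by decide +kernel
theorem s1c1039 : allBelow (fun k => fs1 (Nat.add (Nat.succ 299875) k)) 239 = true := by decide +kernel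
theorem s1c1040 : allBelow (fun k => fs1 (Nat.add (Nat.succ 300114) k)) 248 = true := by decide +kernel
theorem s1c1041 : allBelow (fun k => fs1 (Nat.add (Nat.succ 300362) k)) 258 = true := by decide +kernel
theorem s1c1042 : allBelow (fun k => fs1 (Nat.add (Nat.succ 300620) k)) 232 = true := by decide +kernel
theorem s1c1043 : allBelow (fun k => fs1 (Nat.add (Nat.succ 300852) k)) 230 = true := by decide +kernel
theorem s1c1044 : allBelow (fun k => fs1 (Nat.add (Nat.succ 301082) k)) 269 = true := by decide +kernel
theorem s1c1045 : allBelow (fun k => fs1 (Nat.add (Nat.succ 301351) k)) 261 = true := by decide +kernel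
theorem s1c1046 : allBelow (fun k => fs1 (Nat.add (Nat.succ 301612) k)) 265 = true := by decide +kernel
theorem s1c1047 : allBelow (fun k => fs1 (Nat.add (Nat.succ 301877) k)) 285 = true := by decide +kernel
theorem s1c1048 : allBelow (fun k => fs1 (Nat.add (Nat.succ 302162) k)) 241 = true := by decide +kernel
theorem s1c1049 : allBelow (fun k => fs1 (Nat.add (Nat.succ 302403) k)) 254 = true := by decide +kernel
theorem s1c1050 : allBelow (fun k => fs1 (Nat.add (Nat.succ 302657) k)) 283 = true := by decide +kernel
theorem s1c1051 : allBelow (fun k => fs1 (Nat.add (Nat.succ 302940) k)) 242 = true := by decide +kernel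
theorem s1c1052 : allBelow (fun k => fs1 (Nat.add (Nat.succ 303182) k)) 257 = true := by decide +kernel
theorem s1c1053 : allBelow (fun k => fs1 (Nat.add (Nat.succ 303439) k)) 251 = true := by decide +kernel
theorem s1c1054 : allBelow (fun k => fs1 (Nat.add (Nat.succ 303690) k)) 281 = true := by decide +kernel
theorem s1c1055 : allBelow (fun k => fs1 (Nat.add (Nat.succ 303971) k)) 257 = true := by decide +kernel
theorem s1c1056 : allBelow (fun k => fs1 (Nat.add (Nat.succ 304228) k)) 263 = true := by decide +kernel
theorem s1c1057 : allBelow (fun k => fs1 (Nat.add (Nat.succ 304491) k)) 247 = true := by decide +kernel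
theorem s1c1058 : allBelow (fun k => fs1 (Nat.add (Nat.succ 304738) k)) 266 = true := by decide +kernel
theorem s1c1059 : allBelow (fun k => fs1 (Nat.add (Nat.succ 305004) k)) 272 = true := by decide +kernel
theorem s1c1060 : allBelow (fun k => fs1 (Nat.add (Nat.succ 305276) k)) 251 = true := by decide +kernel
theorem s1c1061 : allBelow (fun k => fs1 (Nat.add (Nat.succ 305527) k)) 247 = true := by decide +kernel
theorem s1c1062 : allBelow (fun k => fs1 (Nat.add (Nat.succ 305774) k)) 270 = true := by decide +kernel
theorem s1c1063 : allBelow (fun k => fs1 (Nat.add (Nat.succ 306044) k)) 252 = true := by decide +kernel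
theorem s1c1064 : allBelow (fun k => fs1 (Nat.add (Nat.succ 306296) k)) 253 = true := by decide +kernel
theorem s1c1065 : allBelow (fun k => fs1 (Nat.add (Nat.succ 306549) k)) 243 = true := by decide +kernel
theorem s1c1066 : allBelow (fun k => fs1 (Nat.add (Nat.succ 306792) k)) 241 = true := by decide +kernel
theorem s1c1067 : allBelow (fun k => fs1 (Nat.add (Nat.succ 307033) k)) 245 = true := by decide +kernel
theorem s1c1068 : allBelow (fun k => fs1 (Nat.add (Nat.succ 307278) k)) 230 = true := by decide +kernel
theorem s1c1069 : allBelow (fun k => fs1 (Nat.add (Nat.succ 307508) k)) 277 = true := by decide +kernel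
theorem s1c1070 : allBelow (fun k => fs1 (Nat.add (Nat.succ 307785) k)) 309 = true := by decide +kernel
theorem s1c1071 : allBelow (fun k => fs1 (Nat.add (Nat.succ 308094) k)) 279 = true := by decide +kernel
theorem s1c1072 : allBelow (fun k => fs1 (Nat.add (Nat.succ 308373) k)) 272 = true := by decide +kernel
theorem s1c1073 : allBelow (fun k => fs1 (Nat.add (Nat.succ 308645) k)) 259 = true := by decide +kernel
theorem s1c1074 : allBelow (fun k => fs1 (Nat.add (Nat.succ 308904) k)) 249 = true := by decide +kernel
theorem s1c1075 : allBelow (fun k => fs1 (Nat.add (Nat.succ 309153) k)) 266 = true := by decide +kernel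
theorem s1c1076 : allBelow (fun k => fs1 (Nat.add (Nat.succ 309419) k)) 282 = true := by decide +kernel
theorem s1c1077 : allBelow (fun k => fs1 (Nat.add (Nat.succ 309701) k)) 262 = true := by decide +kernel
theorem s1c1078 : allBelow (fun k => fs1 (Nat.add (Nat.succ 309963) k)) 256 = true := by decide +kernel
theorem s1c1079 : allBelow (fun k => fs1 (Nat.add (Nat.succ 310219) k)) 252 = true := by decide +kernel
theorem s1c1080 : allBelow (fun k => fs1 (Nat.add (Nat.succ 310471) k)) 304 = true := by decide +kernel
theorem s1c1081 : allBelow (fun k => fs1 (Nat.add (Nat.succ 310775) k)) 300 = true := by decide +kernel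
theorem s1c1082 : allBelow (fun k => fs1 (Nat.add (Nat.succ 311075) k)) 303 = true := by decide +kernel
theorem s1c1083 : allBelow (fun k => fs1 (Nat.add (Nat.succ 311378) k)) 236 = true := by decide +kernel
theorem s1c1084 : allBelow (fun k => fs1 (Nat.add (Nat.succ 311614) k)) 265 = true := by decide +kernel
theorem s1c1085 : allBelow (fun k => fs1 (Nat.add (Nat.succ 311879) k)) 269 = true := by decide +kernel
theorem s1c1086 : allBelow (fun k => fs1 (Nat.add (Nat.succ 312148) k)) 278 = true := by decide +kernel
theorem s1c1087 : allBelow (fun k => fs1 (Nat.add (Nat.succ 312426) k)) 265 = true := by decide +kernel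
theorem s1c1088 : allBelow (fun k => fs1 (Nat.add (Nat.succ 312691) k)) 247 = true := by decide +kernel
theorem s1c1089 : allBelow (fun k => fs1 (Nat.add (Nat.succ 312938) k)) 247 = true := by decide +kernel
theorem s1c1090 : allBelow (fun k => fs1 (Nat.add (Nat.succ 313185) k)) 253 = true := by decide +kernel
theorem s1c1091 : allBelow (fun k => fs1 (Nat.add (Nat.succ 313438) k)) 258 = true := by decide +kernel
theorem s1c1092 : allBelow (fun k => fs1 (Nat.add (Nat.succ 313696) k)) 256 = true := by decide +kernel
theorem s1c1093 : allBelow (fun k => fs1 (Nat.add (Nat.succ 313952) k)) 275 = true := by decide +kernel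
theorem s1c1094 : allBelow (fun k => fs1 (Nat.add (Nat.succ 314227) k)) 270 = true := by decide +kernel
theorem s1c1095 : allBelow (fun k => fs1 (Nat.add (Nat.succ 314497) k)) 255 = true := by decide +kernel
theorem s1c1096 : allBelow (fun k => fs1 (Nat.add (Nat.succ 314752) k)) 245 = true := by decide +kernel
theorem s1c1097 : allBelow (fun k => fs1 (Nat.add (Nat.succ 314997) k)) 288 = true := by decide +kernel
theorem s1c1098 : allBelow (fun k => fs1 (Nat.add (Nat.succ 315285) k)) 287 = true := by decide +kernel
theorem s1c1099 : allBelow (fun k => fs1 (Nat.add (Nat.succ 315572) k)) 276 = true := by decide +kernel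
theorem s1c1100 : allBelow (fun k => fs1 (Nat.add (Nat.succ 315848) k)) 250 = true := by decide +kernel
theorem s1c1101 : allBelow (fun k => fs1 (Nat.add (Nat.succ 316098) k)) 291 = true := by decide +kernel
theorem s1c1102 : allBelow (fun k => fs1 (Nat.add (Nat.succ 316389) k)) 263 = true := by decide +kernel
theorem s1c1103 : allBelow (fun k => fs1 (Nat.add (Nat.succ 316652) k)) 289 = true := by decide +kernel
theorem s1c1104 : allBelow (fun k => fs1 (Nat.add (Nat.succ 316941) k)) 265 = true := by decide +kernel
theorem s1c1105 : allBelow (fun k => fs1 (Nat.add (Nat.succ 317206) k)) 275 = true := by decide +kernel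
theorem s1c1106 : allBelow (fun k => fs1 (Nat.add (Nat.succ 317481) k)) 280 = true := by decide +kernel
theorem s1c1107 : allBelow (fun k => fs1 (Nat.add (Nat.succ 317761) k)) 301 = true := by decide +kernel
theorem s1c1108 : allBelow (fun k => fs1 (Nat.add (Nat.succ 318062) k)) 271 = true := by decide +kernel
theorem s1c1109 : allBelow (fun k => fs1 (Nat.add (Nat.succ 318333) k)) 248 = true := by decide +kernel
theorem s1c1110 : allBelow (fun k => fs1 (Nat.add (Nat.succ 318581) k)) 226 = true := by decide +kernel
theorem s1c1111 : allBelow (fun k => fs1 (Nat.add (Nat.succ 318807) k)) 218 = true := by decide +kernel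
theorem s1c1112 : allBelow (fun k => fs1 (Nat.add (Nat.succ 319025) k)) 220 = true := by decide +kernel
theorem s1c1113 : allBelow (fun k => fs1 (Nat.add (Nat.succ 319245) k)) 220 = true := by decide +kernel
theorem s1c1114 : allBelow (fun k => fs1 (Nat.add (Nat.succ 319465) k)) 237 = true := by decide +kernel
theorem s1c1115 : allBelow (fun k => fs1 (Nat.add (Nat.succ 319702) k)) 240 = true := by decide +kernel
theorem s1c1116 : allBelow (fun k => fs1 (Nat.add (Nat.succ 319942) k)) 230 = true := by decide +kernel
theorem s1c1117 : allBelow (fun k => fs1 (Nat.add (Nat.succ 320172) k)) 266 = true := by decide +kernel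
theorem s1c1118 : allBelow (fun k => fs1 (Nat.add (Nat.succ 320438) k)) 233 = true := by decide +kernel
theorem s1c1119 : allBelow (fun k => fs1 (Nat.add (Nat.succ 320671) k)) 229 = true := by decide +kernel
theorem s1c1120 : allBelow (fun k => fs1 (Nat.add (Nat.succ 320900) k)) 261 = true := by decide +kernel
theorem s1c1121 : allBelow (fun k => fs1 (Nat.add (Nat.succ 321161) k)) 251 = true := by decide +kernel
theorem s1c1122 : allBelow (fun k => fs1 (Nat.add (Nat.succ 321412) k)) 237 = true := by decide +kernel
theorem s1c1123 : allBelow (fun k => fs1 (Nat.add (Nat.succ 321649) k)) 243 = true := by decide +kernel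
theorem s1c1124 : allBelow (fun k => fs1 (Nat.add (Nat.succ 321892) k)) 241 = true := by decide +kernel
theorem s1c1125 : allBelow (fun k => fs1 (Nat.add (Nat.succ 322133) k)) 252 = true := by decide +kernel
theorem s1c1126 : allBelow (fun k => fs1 (Nat.add (Nat.succ 322385) k)) 231 = true := by decide +kernel
theorem s1c1127 : allBelow (fun k => fs1 (Nat.add (Nat.succ 322616) k)) 230 = true := by decide +kernel
theorem s1c1128 : allBelow (fun k => fs1 (Nat.add (Nat.succ 322846) k)) 252 = true := by decide +kernel
theorem s1c1129 : allBelow (fun k => fs1 (Nat.add (Nat.succ 323098) k)) 259 = true := by decide +kernel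
theorem s1c1130 : allBelow (fun k => fs1 (Nat.add (Nat.succ 323357) k)) 259 = true := by decide +kernel
theorem s1c1131 : allBelow (fun k => fs1 (Nat.add (Nat.succ 323616) k)) 289 = true := by decide +kernel
theorem s1c1132 : allBelow (fun k => fs1 (Nat.add (Nat.succ 323905) k)) 203 = true := by decide +kernel
theorem s1c1133 : allBelow (fun k => fs1 (Nat.add (Nat.succ 324108) k)) 250 = true := by decide +kernel
theorem s1c1134 : allBelow (fun k => fs1 (Nat.add (Nat.succ 324358) k)) 272 = true := by decide +kernel
theorem s1c1135 : allBelow (fun k => fs1 (Nat.add (Nat.succ 324630) k)) 248 = true := by decide +kernel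
theorem s1c1136 : allBelow (fun k => fs1 (Nat.add (Nat.succ 324878) k)) 259 = true := by decide +kernel
theorem s1c1137 : allBelow (fun k => fs1 (Nat.add (Nat.succ 325137) k)) 258 = true := by decide +kernel
theorem s1c1138 : allBelow (fun k => fs1 (Nat.add (Nat.succ 325395) k)) 257 = true := by decide +kernel
theorem s1c1139 : allBelow (fun k => fs1 (Nat.add (Nat.succ 325652) k)) 249 = true := by decide +kernel
theorem s1c1140 : allBelow (fun k => fs1 (Nat.add (Nat.succ 325901) k)) 259 = true := by decide +kernel
theorem s1c1141 : allBelow (fun k => fs1 (Nat.add (Nat.succ 326160) k)) 242 = true := by decide +kernel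
theorem s1c1142 : allBelow (fun k => fs1 (Nat.add (Nat.succ 326402) k)) 267 = true := by decide +kernel
theorem s1c1143 : allBelow (fun k => fs1 (Nat.add (Nat.succ 326669) k)) 246 = true := by decide +kernel
theorem s1c1144 : allBelow (fun k => fs1 (Nat.add (Nat.succ 326915) k)) 248 = true := by decide +kernel
theorem s1c1145 : allBelow (fun k => fs1 (Nat.add (Nat.succ 327163) k)) 242 = true := by decide +kernel
theorem s1c1146 : allBelow (fun k => fs1 (Nat.add (Nat.succ 327405) k)) 239 = true := by decide +kernel
theorem s1c1147 : allBelow (fun k => fs1 (Nat.add (Nat.succ 327644) k)) 236 = true := by decide +kernel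
theorem s1c1148 : allBelow (fun k => fs1 (Nat.add (Nat.succ 327880) k)) 233 = true := by decide +kernel
theorem s1c1149 : allBelow (fun k => fs1 (Nat.add (Nat.succ 328113) k)) 299 = true := by decide +kernel
theorem s1c1150 : allBelow (fun k => fs1 (Nat.add (Nat.succ 328412) k)) 283 = true := by decide +kernel
theorem s1c1151 : allBelow (fun k => fs1 (Nat.add (Nat.succ 328695) k)) 255 = true := by decide +kernel
theorem s1c1152 : allBelow (fun k => fs1 (Nat.add (Nat.succ 328950) k)) 245 = true := by decide +kernel
theorem s1c1153 : allBelow (fun k => fs1 (Nat.add (Nat.succ 329195) k)) 278 = true := by decide +kernel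
theorem s1c1154 : allBelow (fun k => fs1 (Nat.add (Nat.succ 329473) k)) 265 = true := by decide +kernel
theorem s1c1155 : allBelow (fun k => fs1 (Nat.add (Nat.succ 329738) k)) 244 = true := by decide +kernel
theorem s1c1156 : allBelow (fun k => fs1 (Nat.add (Nat.succ 329982) k)) 288 = true := by decide +kernel
theorem s1c1157 : allBelow (fun k => fs1 (Nat.add (Nat.succ 330270) k)) 293 = true := by decide +kernel
theorem s1c1158 : allBelow (fun k => fs1 (Nat.add (Nat.succ 330563) k)) 297 = true := by decide +kernel
theorem s1c1159 : allBelow (fun k => fs1 (Nat.add (Nat.succ 330860) k)) 253 = true := by decide +kernel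
theorem s1c1160 : allBelow (fun k => fs1 (Nat.add (Nat.succ 331113) k)) 252 = true := by decide +kernel
theorem s1c1161 : allBelow (fun k => fs1 (Nat.add (Nat.succ 331365) k)) 279 = true := by decide +kernel
theorem s1c1162 : allBelow (fun k => fs1 (Nat.add (Nat.succ 331644) k)) 251 = true := by decide +kernel
theorem s1c1163 : allBelow (fun k => fs1 (Nat.add (Nat.succ 331895) k)) 250 = true := by decide +kernel
theorem s1c1164 : allBelow (fun k => fs1 (Nat.add (Nat.succ 332145) k)) 249 = true := by decide +kernel
theorem s1c1165 : allBelow (fun k => fs1 (Nat.add (Nat.succ 332394) k)) 269 = true := by decide +kernel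
theorem s1c1166 : allBelow (fun k => fs1 (Nat.add (Nat.succ 332663) k)) 270 = true := by decide +kernel
theorem s1c1167 : allBelow (fun k => fs1 (Nat.add (Nat.succ 332933) k)) 256 = true := by decide +kernel
theorem s1c1168 : allBelow (fun k => fs1 (Nat.add (Nat.succ 333189) k)) 255 = true := by decide +kernel
theorem s1c1169 : allBelow (fun k => fs1 (Nat.add (Nat.succ 333444) k)) 280 = true := by decide +kernel
theorem s1c1170 : allBelow (fun k => fs1 (Nat.add (Nat.succ 333724) k)) 257 = true := by decide +kernel
theorem s1c1171 : allBelow (fun k => fs1 (Nat.add (Nat.succ 333981) k)) 274 = true := by decide +kernel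
theorem s1c1172 : allBelow (fun k => fs1 (Nat.add (Nat.succ 334255) k)) 272 = true := by decide +kernel
theorem s1c1173 : allBelow (fun k => fs1 (Nat.add (Nat.succ 334527) k)) 271 = true := by decide +kernel
theorem s1c1174 : allBelow (fun k => fs1 (Nat.add (Nat.succ 334798) k)) 289 = true := by decide +kernel
theorem s1c1175 : allBelow (fun k => fs1 (Nat.add (Nat.succ 335087) k)) 287 = true := by decide +kernel
theorem s1c1176 : allBelow (fun k => fs1 (Nat.add (Nat.succ 335374) k)) 240 = true := by decide +kernel
theorem s1c1177 : allBelow (fun k => fs1 (Nat.add (Nat.succ 335614) k)) 221 = true := by decide +kernel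
theorem s1c1178 : allBelow (fun k => fs1 (Nat.add (Nat.succ 335835) k)) 217 = true := by decide +kernel
theorem s1c1179 : allBelow (fun k => fs1 (Nat.add (Nat.succ 336052) k)) 219 = true := by decide +kernel
theorem s1c1180 : allBelow (fun k => fs1 (Nat.add (Nat.succ 336271) k)) 218 = true := by decide +kernel
theorem s1c1181 : allBelow (fun k => fs1 (Nat.add (Nat.succ 336489) k)) 237 = true := by decide +kernel
theorem s1c1182 : allBelow (fun k => fs1 (Nat.add (Nat.succ 336726) k)) 225 = true := by decide +kernel
theorem s1c1183 : allBelow (fun k => fs1 (Nat.add (Nat.succ 336951) k)) 255 = true := by decide +kernel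
theorem s1c1184 : allBelow (fun k => fs1 (Nat.add (Nat.succ 337206) k)) 229 = true := by decide +kernel
theorem s1c1185 : allBelow (fun k => fs1 (Nat.add (Nat.succ 337435) k)) 244 = true := by decide +kernel
theorem s1c1186 : allBelow (fun k => fs1 (Nat.add (Nat.succ 337679) k)) 243 = true := by decide +kernel
theorem s1c1187 : allBelow (fun k => fs1 (Nat.add (Nat.succ 337922) k)) 241 = true := by decide +kernel
theorem s1c1188 : allBelow (fun k => fs1 (Nat.add (Nat.succ 338163) k)) 249 = true := by decide +kernel
theorem s1c1189 : allBelow (fun k => fs1 (Nat.add (Nat.succ 338412) k)) 229 = true := by decide +kernel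
theorem s1c1190 : allBelow (fun k => fs1 (Nat.add (Nat.succ 338641) k)) 234 = true := by decide +kernel
theorem s1c1191 : allBelow (fun k => fs1 (Nat.add (Nat.succ 338875) k)) 251 = true := by decide +kernel
theorem s1c1192 : allBelow (fun k => fs1 (Nat.add (Nat.succ 339126) k)) 251 = true := by decide +kernel
theorem s1c1193 : allBelow (fun k => fs1 (Nat.add (Nat.succ 339377) k)) 274 = true := by decide +kernel
theorem s1c1194 : allBelow (fun k => fs1 (Nat.add (Nat.succ 339651) k)) 214 = true := by decide +kernel
theorem s1c1195 : allBelow (fun k => fs1 (Nat.add (Nat.succ 339865) k)) 267 = true := by decide +kernel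
theorem s1c1196 : allBelow (fun k => fs1 (Nat.add (Nat.succ 340132) k)) 255 = true := by decide +kernel
theorem s1c1197 : allBelow (fun k => fs1 (Nat.add (Nat.succ 340387) k)) 247 = true := by decide +kernel
theorem s1c1198 : allBelow (fun k => fs1 (Nat.add (Nat.succ 340634) k)) 255 = true := by decide +kernel
theorem s1c1199 : allBelow (fun k => fs1 (Nat.add (Nat.succ 340889) k)) 251 = true := by decide +kernel
theorem s1c1200 : allBelow (fun k => fs1 (Nat.add (Nat.succ 341140) k)) 245 = true := by decide +kernel
theorem s1c1201 : allBelow (fun k => fs1 (Nat.add (Nat.succ 341385) k)) 242 = true := by decide +kernel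
theorem s1c1202 : allBelow (fun k => fs1 (Nat.add (Nat.succ 341627) k)) 240 = true := by decide +kernel
theorem s1c1203 : allBelow (fun k => fs1 (Nat.add (Nat.succ 341867) k)) 232 = true := by decide +kernel
theorem s1c1204 : allBelow (fun k => fs1 (Nat.add (Nat.succ 342099) k)) 262 = true := by decide +kernel
theorem s1c1205 : allBelow (fun k => fs1 (Nat.add (Nat.succ 342361) k)) 284 = true := by decide +kernel
theorem s1c1206 : allBelow (fun k => fs1 (Nat.add (Nat.succ 342645) k)) 244 = true := by decide +kernel
theorem s1c1207 : allBelow (fun k => fs1 (Nat.add (Nat.succ 342889) k)) 262 = true := by decide +kernel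
theorem s1c1208 : allBelow (fun k => fs1 (Nat.add (Nat.succ 343151) k)) 252 = true := by decide +kernel
theorem s1c1209 : allBelow (fun k => fs1 (Nat.add (Nat.succ 343403) k)) 285 = true := by decide +kernel
theorem s1c1210 : allBelow (fun k => fs1 (Nat.add (Nat.succ 343688) k)) 301 = true := by decide +kernel
theorem s1c1211 : allBelow (fun k => fs1 (Nat.add (Nat.succ 343989) k)) 250 = true := by decide +kernel
theorem s1c1212 : allBelow (fun k => fs1 (Nat.add (Nat.succ 344239) k)) 260 = true := by decide +kernel
theorem s1c1213 : allBelow (fun k => fs1 (Nat.add (Nat.succ 344499) k)) 248 = true := by decide +kernel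
theorem s1c1214 : allBelow (fun k => fs1 (Nat.add (Nat.succ 344747) k)) 256 = true := by decide +kernel
theorem s1c1215 : allBelow (fun k => fs1 (Nat.add (Nat.succ 345003) k)) 261 = true := by decide +kernel
theorem s1c1216 : allBelow (fun k => fs1 (Nat.add (Nat.succ 345264) k)) 261 = true := by decide +kernel
theorem s1c1217 : allBelow (fun k => fs1 (Nat.add (Nat.succ 345525) k)) 271 = true := by decide +kernel
theorem s1c1218 : allBelow (fun k => fs1 (Nat.add (Nat.succ 345796) k)) 270 = true := by decide +kernel
theorem s1c1219 : allBelow (fun k => fs1 (Nat.add (Nat.succ 346066) k)) 293 = true := by decide +kernel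
theorem s1c1220 : allBelow (fun k => fs1 (Nat.add (Nat.succ 346359) k)) 241 = true := by decide +kernel
theorem s1c1221 : allBelow (fun k => fs1 (Nat.add (Nat.succ 346600) k)) 219 = true := by decide +kernel
theorem s1c1222 : allBelow (fun k => fs1 (Nat.add (Nat.succ 346819) k)) 217 = true := by decide +kernel
theorem s1c1223 : allBelow (fun k => fs1 (Nat.add (Nat.succ 347036) k)) 221 = true := by decide +kernel
theorem s1c1224 : allBelow (fun k => fs1 (Nat.add (Nat.succ 347257) k)) 230 = true := by decide +kernel
theorem s1c1225 : allBelow (fun k => fs1 (Nat.add (Nat.succ 347487) k)) 242 = true := by decide +kernel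
theorem s1c1226 : allBelow (fun k => fs1 (Nat.add (Nat.succ 347729) k)) 233 = true := by decide +kernel
theorem s1c1227 : allBelow (fun k => fs1 (Nat.add (Nat.succ 347962) k)) 241 = true := by decide +kernel
theorem s1c1228 : allBelow (fun k => fs1 (Nat.add (Nat.succ 348203) k)) 242 = true := by decide +kernel
theorem s1c1229 : allBelow (fun k => fs1 (Nat.add (Nat.succ 348445) k)) 239 = true := by decide +kernel
theorem s1c1230 : allBelow (fun k => fs1 (Nat.add (Nat.succ 348684) k)) 246 = true := by decide +kernel
theorem s1c1231 : allBelow (fun k => fs1 (Nat.add (Nat.succ 348930) k)) 270 = true := by decide +kernel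
theorem s1c1232 : allBelow (fun k => fs1 (Nat.add (Nat.succ 349200) k)) 261 = true := by decide +kernel
theorem s1c1233 : allBelow (fun k => fs1 (Nat.add (Nat.succ 349461) k)) 246 = true := by decide +kernel
theorem s1c1234 : allBelow (fun k => fs1 (Nat.add (Nat.succ 349707) k)) 247 = true := by decide +kernel
theorem s1c1235 : allBelow (fun k => fs1 (Nat.add (Nat.succ 349954) k)) 242 = true := by decide +kernel
theorem s1c1236 : allBelow (fun k => fs1 (Nat.add (Nat.succ 350196) k)) 238 = true := by decide +kernel
theorem s1c1237 : allBelow (fun k => fs1 (Nat.add (Nat.succ 350434) k)) 241 = true := by decide +kernel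
theorem s1c1238 : allBelow (fun k => fs1 (Nat.add (Nat.succ 350675) k)) 271 = true := by decide +kernel
theorem s1c1239 : allBelow (fun k => fs1 (Nat.add (Nat.succ 350946) k)) 250 = true := by decide +kernel
theorem s1c1240 : allBelow (fun k => fs1 (Nat.add (Nat.succ 351196) k)) 243 = true := by decide +kernel
theorem s1c1241 : allBelow (fun k => fs1 (Nat.add (Nat.succ 351439) k)) 265 = true := by decide +kernel
theorem s1c1242 : allBelow (fun k => fs1 (Nat.add (Nat.succ 351704) k)) 249 = true := by decide +kernel
theorem s1c1243 : allBelow (fun k => fs1 (Nat.add (Nat.succ 351953) k)) 260 = true := by decide +kernel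
theorem s1c1244 : allBelow (fun k => fs1 (Nat.add (Nat.succ 352213) k)) 285 = true := by decide +kernel
theorem s1c1245 : allBelow (fun k => fs1 (Nat.add (Nat.succ 352498) k)) 244 = true := by decide +kernel
theorem s1c1246 : allBelow (fun k => fs1 (Nat.add (Nat.succ 352742) k)) 223 = true := by decide +kernel
theorem s1c1247 : allBelow (fun k => fs1 (Nat.add (Nat.succ 352965) k)) 228 = true := by decide +kernel
theorem s1c1248 : allBelow (fun k => fs1 (Nat.add (Nat.succ 353193) k)) 233 = true := by decide +kernel
theorem s1c1249 : allBelow (fun k => fs1 (Nat.add (Nat.succ 353426) k)) 231 = true := by decide +kernel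
theorem s1c1250 : allBelow (fun k => fs1 (Nat.add (Nat.succ 353657) k)) 240 = true := by decide +kernel
theorem s1c1251 : allBelow (fun k => fs1 (Nat.add (Nat.succ 353897) k)) 262 = true := by decide +kernel
theorem s1c1252 : allBelow (fun k => fs1 (Nat.add (Nat.succ 354159) k)) 250 = true := by decide +kernel
theorem s1c1253 : allBelow (fun k => fs1 (Nat.add (Nat.succ 354409) k)) 235 = true := by decide +kernel
theorem s1c1254 : allBelow (fun k => fs1 (Nat.add (Nat.succ 354644) k)) 233 = true := by decide +kernel
theorem s1c1255 : allBelow (fun k => fs1 (Nat.add (Nat.succ 354877) k)) 261 = true := by decide +kernel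
theorem s1c1256 : allBelow (fun k => fs1 (Nat.add (Nat.succ 355138) k)) 258 = true := by decide +kernel
theorem s1c1257 : allBelow (fun k => fs1 (Nat.add (Nat.succ 355396) k)) 261 = true := by decide +kernel
theorem s1c1258 : allBelow (fun k => fs1 (Nat.add (Nat.succ 355657) k)) 228 = true := by decide +kernel
theorem s1c1259 : allBelow (fun k => fs1 (Nat.add (Nat.succ 355885) k)) 230 = true := by decide +kernel
theorem s1c1260 : allBelow (fun k => fs1 (Nat.add (Nat.succ 356115) k)) 250 = true := by decide +kernel
theorem s1c1261 : allBelow (fun k => fs1 (Nat.add (Nat.succ 356365) k)) 229 = true := by decide +kernel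
theorem s1c1262 : allBelow (fun k => fs1 (Nat.add (Nat.succ 356594) k)) 249 = true := by decide +kernel
theorem s1c1263 : allBelow (fun k => fs1 (Nat.add (Nat.succ 356843) k)) 232 = true := by decide +kernel
theorem s1c1264 : allBelow (fun k => fs1 (Nat.add (Nat.succ 357075) k)) 229 = true := by decide +kernel
theorem s1c1265 : allBelow (fun k => fs1 (Nat.add (Nat.succ 357304) k)) 161 = true := by decide +kernel
theorem s2c0 : allBelow (fun k => fs2 (Nat.add (Nat.succ 0) k)) 253 = true := by decide +kernel
theorem s2c1 : allBelow (fun k => fs2 (Nat.add (Nat.succ 253) k)) 272 = true := by decide +kernel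
theorem s2c2 : allBelow (fun k => fs2 (Nat.add (Nat.succ 525) k)) 256 = true := by decide +kernel
theorem s2c3 : allBelow (fun k => fs2 (Nat.add (Nat.succ 781) k)) 259 = true := by decide +kernel
theorem s2c4 : allBelow (fun k => fs2 (Nat.add (Nat.succ 1040) k)) 263 = true := by decide +kernel
theorem s2c5 : allBelow (fun k => fs2 (Nat.add (Nat.succ 1303) k)) 269 = true := by decide +kernel
theorem s2c6 : allBelow (fun k => fs2 (Nat.add (Nat.succ 1572) k)) 270 = true := by decide +kernel
theorem s2c7 : allBelow (fun k => fs2 (Nat.add (Nat.succ 1842) k)) 270 = true := by decide +kernel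
theorem s2c8 : allBelow (fun k => fs2 (Nat.add (Nat.succ 2112) k)) 273 = true := by decide +kernel
theorem s2c9 : allBelow (fun k => fs2 (Nat.add (Nat.succ 2385) k)) 278 = true := by decide +kernel
theorem s2c10 : allBelow (fun k => fs2 (Nat.add (Nat.succ 2663) k)) 267 = true := by decide +kernel
theorem s2c11 : allBelow (fun k => fs2 (Nat.add (Nat.succ 2930) k)) 276 = true := by decide +kernel
theorem s2c12 : allBelow (fun k => fs2 (Nat.add (Nat.succ 3206) k)) 279 = true := by decide +kernel
theorem s2c13 : allBelow (fun k => fs2 (Nat.add (Nat.succ 3485) k)) 273 = true := by decide +kernel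
theorem s2c14 : allBelow (fun k => fs2 (Nat.add (Nat.succ 3758) k)) 279 = true := by decide +kernel
theorem s2c15 : allBelow (fun k => fs2 (Nat.add (Nat.succ 4037) k)) 274 = true := by decide +kernel
theorem s2c16 : allBelow (fun k => fs2 (Nat.add (Nat.succ 4311) k)) 286 = true := by decide +kernel
theorem s2c17 : allBelow (fun k => fs2 (Nat.add (Nat.succ 4597) k)) 289 = true := by decide +kernel
theorem s2c18 : allBelow (fun k => fs2 (Nat.add (Nat.succ 4886) k)) 288 = true := by decide +kernel
theorem s2c19 : allBelow (fun k => fs2 (Nat.add (Nat.succ 5174) k)) 286 = true := by decide +kernel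
theorem s2c20 : allBelow (fun k => fs2 (Nat.add (Nat.succ 5460) k)) 266 = true := by decide +kernel
theorem s2c21 : allBelow (fun k => fs2 (Nat.add (Nat.succ 5726) k)) 314 = true := by decide +kernel
theorem s2c22 : allBelow (fun k => fs2 (Nat.add (Nat.succ 6040) k)) 278 = true := by decide +kernel
theorem s2c23 : allBelow (fun k => fs2 (Nat.add (Nat.succ 6318) k)) 285 = true := by decide +kernel
theorem s2c24 : allBelow (fun k => fs2 (Nat.add (Nat.succ 6603) k)) 322 = true := by decide +kernel
theorem s2c25 : allBelow (fun k => fs2 (Nat.add (Nat.succ 6925) k)) 269 = true := by decide +kernel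
theorem s2c26 : allBelow (fun k => fs2 (Nat.add (Nat.succ 7194) k)) 284 = true := by decide +kernel
theorem s2c27 : allBelow (fun k => fs2 (Nat.add (Nat.succ 7478) k)) 284 = true := by decide +kernel
theorem s2c28 : allBelow (fun k => fs2 (Nat.add (Nat.succ 7762) k)) 271 = true := by decide +kernel

end Cfsg.Agent.Lib.Helper35.Fi24a
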