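import Cfsg.Agent.Lib.Helper35.Fi24a.Data

set_option Elab.async false

namespace Cfsg.Agent.Lib.Helper35.Fi24a

open Cfsg.Agent.Lib.Helper35

theorem s2c29 : allBelow (fun k => fs2 (Nat.add (Nat.succ 8033) k)) 340 = true := by decide +kernel
theorem s2c30 : allBelow (fun k => fs2 (Nat.add (Nat.succ 8373) k)) 289 = true := by decide +kernel
theorem s2c31 : allBelow (fun k => fs2 (Nat.add (Nat.succ 8662) k)) 260 = true := by decide +kernel
theorem s2c32 : allBelow (fun k => fs2 (Nat.add (Nat.succ 8922) k)) 313 = true := by decide +kernel
theorem s2c33 : allBelow (fun k => fs2 (Nat.add (Nat.succ 9235) k)) 352 = true := by decide +kernel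
theorem s2c34 : allBelow (fun k => fs2 (Nat.add (Nat.succ 9587) k)) 282 = true := by decide +kernel
theorem s2c35 : allBelow (fun k => fs2 (Nat.add (Nat.succ 9869) k)) 276 = true := by decide +kernel
theorem s2c36 : allBelow (fun k => fs2 (Nat.add (Nat.succ 10145) k)) 291 = true := by decide +kernel
theorem s2c37 : allBelow (fun k => fs2 (Nat.add (Nat.succ 10436) k)) 268 = true := by decide +kernel
theorem s2c38 : allBelow (fun k => fs2 (Nat.add (Nat.succ 10704) k)) 268 = true := by decide +kernel
theorem s2c39 : allBelow (fun k => fs2 (Nat.add (Nat.succ 10972) k)) 280 = true := by decide +kernel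
theorem s2c40 : allBelow (fun k => fs2 (Nat.add (Nat.succ 11252) k)) 281 = true := by decide +kernel
theorem s2c41 : allBelow (fun k => fs2 (Nat.add (Nat.succ 11533) k)) 266 = true := by decide +kernel
theorem s2c42 : allBelow (fun k => fs2 (Nat.add (Nat.succ 11799) k)) 266 = true := by decide +kernel
theorem s2c43 : allBelow (fun k => fs2 (Nat.add (Nat.succ 12065) k)) 279 = true := by decide +kernel
theorem s2c44 : allBelow (fun k => fs2 (Nat.add (Nat.succ 12344) k)) 305 = true := by decide +kernel
theorem s2c45 : allBelow (fun k => fs2 (Nat.add (Nat.succ 12649) k)) 264 = true := by decide +kernel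
theorem s2c46 : allBelow (fun k => fs2 (Nat.add (Nat.succ 12913) k)) 281 = true := by decide +kernel
theorem s2c47 : allBelow (fun k => fs2 (Nat.add (Nat.succ 13194) k)) 275 = true := by decide +kernel
theorem s2c48 : allBelow (fun k => fs2 (Nat.add (Nat.succ 13469) k)) 270 = true := by decide +kernel
theorem s2c49 : allBelow (fun k => fs2 (Nat.add (Nat.succ 13739) k)) 278 = true := by decide +kernel
theorem s2c50 : allBelow (fun k => fs2 (Nat.add (Nat.succ 14017) k)) 270 = true := by decide +kernel
theorem s2c51 : allBelow (fun k => fs2 (Nat.add (Nat.succ 14287) k)) 316 = true := by decide +kernel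
theorem s2c52 : allBelow (fun k => fs2 (Nat.add (Nat.succ 14603) k)) 281 = true := by decide +kernel
theorem s2c53 : allBelow (fun k => fs2 (Nat.add (Nat.succ 14884) k)) 275 = true := by decide +kernel
theorem s2c54 : allBelow (fun k => fs2 (Nat.add (Nat.succ 15159) k)) 273 = true := by decide +kernel
theorem s2c55 : allBelow (fun k => fs2 (Nat.add (Nat.succ 15432) k)) 283 = true := by decide +kernel
theorem s2c56 : allBelow (fun k => fs2 (Nat.add (Nat.succ 15715) k)) 276 = true := by decide +kernel
theorem s2c57 : allBelow (fun k => fs2 (Nat.add (Nat.succ 15991) k)) 336 = true := by decide +kernel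
theorem s2c58 : allBelow (fun k => fs2 (Nat.add (Nat.succ 16327) k)) 309 = true := by decide +kernel
theorem s2c59 : allBelow (fun k => fs2 (Nat.add (Nat.succ 16636) k)) 270 = true := by decide +kernel
theorem s2c60 : allBelow (fun k => fs2 (Nat.add (Nat.succ 16906) k)) 289 = true := by decide +kernel
theorem s2c61 : allBelow (fun k => fs2 (Nat.add (Nat.succ 17195) k)) 300 = true := by decide +kernel
theorem s2c62 : allBelow (fun k => fs2 (Nat.add (Nat.succ 17495) k)) 265 = true := by decide +kernel
theorem s2c63 : allBelow (fun k => fs2 (Nat.add (Nat.succ 17760) k)) 280 = true := by decide +kernel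
theorem s2c64 : allBelow (fun k => fs2 (Nat.add (Nat.succ 18040) k)) 305 = true := by decide +kernel
theorem s2c65 : allBelow (fun k => fs2 (Nat.add (Nat.succ 18345) k)) 286 = true := by decide +kernel
theorem s2c66 : allBelow (fun k => fs2 (Nat.add (Nat.succ 18631) k)) 343 = true := by decide +kernel
theorem s2c67 : allBelow (fun k => fs2 (Nat.add (Nat.succ 18974) k)) 273 = true := by decide +kernel
theorem s2c68 : allBelow (fun k => fs2 (Nat.add (Nat.succ 19247) k)) 289 = true := by decide +kernel
theorem s2c69 : allBelow (fun k => fs2 (Nat.add (Nat.succ 19536) k)) 267 = true := by decide +kernel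
theorem s2c70 : allBelow (fun k => fs2 (Nat.add (Nat.succ 19803) k)) 290 = true := by decide +kernel
theorem s2c71 : allBelow (fun k => fs2 (Nat.add (Nat.succ 20093) k)) 291 = true := by decide +kernel
theorem s2c72 : allBelow (fun k => fs2 (Nat.add (Nat.succ 20384) k)) 299 = true := by decide +kernel
theorem s2c73 : allBelow (fun k => fs2 (Nat.add (Nat.succ 20683) k)) 273 = true := by decide +kernel
theorem s2c74 : allBelow (fun k => fs2 (Nat.add (Nat.succ 20956) k)) 349 = true := by decide +kernel
theorem s2c75 : allBelow (fun k => fs2 (Nat.add (Nat.succ 21305) k)) 355 = true := by decide +kernel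
theorem s2c76 : allBelow (fun k => fs2 (Nat.add (Nat.succ 21660) k)) 324 = true := by decide +kernel
theorem s2c77 : allBelow (fun k => fs2 (Nat.add (Nat.succ 21984) k)) 262 = true := by decide +kernel
theorem s2c78 : allBelow (fun k => fs2 (Nat.add (Nat.succ 22246) k)) 337 = true := by decide +kernel
theorem s2c79 : allBelow (fun k => fs2 (Nat.add (Nat.succ 22583) k)) 272 = true := by decide +kernel
theorem s2c80 : allBelow (fun k => fs2 (Nat.add (Nat.succ 22855) k)) 332 = true := by decide +kernel
theorem s2c81 : allBelow (fun k => fs2 (Nat.add (Nat.succ 23187) k)) 276 = true := by decide +kernel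
theorem s2c82 : allBelow (fun k => fs2 (Nat.add (Nat.succ 23463) k)) 273 = true := by decide +kernel
theorem s2c83 : allBelow (fun k => fs2 (Nat.add (Nat.succ 23736) k)) 328 = true := by decide +kernel
theorem s2c84 : allBelow (fun k => fs2 (Nat.add (Nat.succ 24064) k)) 326 = true := by decide +kernel
theorem s2c85 : allBelow (fun k => fs2 (Nat.add (Nat.succ 24390) k)) 292 = true := by decide +kernel
theorem s2c86 : allBelow (fun k => fs2 (Nat.add (Nat.succ 24682) k)) 327 = true := by decide +kernel
theorem s2c87 : allBelow (fun k => fs2 (Nat.add (Nat.succ 25009) k)) 334 = true := by decide +kernel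
theorem s2c88 : allBelow (fun k => fs2 (Nat.add (Nat.succ 25343) k)) 285 = true := by decide +kernel
theorem s2c89 : allBelow (fun k => fs2 (Nat.add (Nat.succ 25628) k)) 284 = true := by decide +kernel
theorem s2c90 : allBelow (fun k => fs2 (Nat.add (Nat.succ 25912) k)) 272 = true := by decide +kernel
theorem s2c91 : allBelow (fun k => fs2 (Nat.add (Nat.succ 26184) k)) 270 = true := by decide +kernel
theorem s2c92 : allBelow (fun k => fs2 (Nat.add (Nat.succ 26454) k)) 314 = true := by decide +kernel
theorem s2c93 : allBelow (fun k => fs2 (Nat.add (Nat.succ 26768) k)) 323 = true := by decide +kernel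
theorem s2c94 : allBelow (fun k => fs2 (Nat.add (Nat.succ 27091) k)) 321 = true := by decide +kernel
theorem s2c95 : allBelow (fun k => fs2 (Nat.add (Nat.succ 27412) k)) 305 = true := by decide +kernel
theorem s2c96 : allBelow (fun k => fs2 (Nat.add (Nat.succ 27717) k)) 267 = true := by decide +kernel
theorem s2c97 : allBelow (fun k => fs2 (Nat.add (Nat.succ 27984) k)) 352 = true := by decide +kernel
theorem s2c98 : allBelow (fun k => fs2 (Nat.add (Nat.succ 28336) k)) 406 = true := by decide +kernel
theorem s2c99 : allBelow (fun k => fs2 (Nat.add (Nat.succ 28742) k)) 433 = true := by decide +kernel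
theorem s2c100 : allBelow (fun k => fs2 (Nat.add (Nat.succ 29175) k)) 260 = true := by decide +kernel
theorem s2c101 : allBelow (fun k => fs2 (Nat.add (Nat.succ 29435) k)) 261 = true := by decide +kernel
theorem s2c102 : allBelow (fun k => fs2 (Nat.add (Nat.succ 29696) k)) 358 = true := by decide +kernel
theorem s2c103 : allBelow (fun k => fs2 (Nat.add (Nat.succ 30054) k)) 338 = true := by decide +kernel
theorem s2c104 : allBelow (fun k => fs2 (Nat.add (Nat.succ 30392) k)) 311 = true := by decide +kernel
theorem s2c105 : allBelow (fun k => fs2 (Nat.add (Nat.succ 30703) k)) 334 = true := by decide +kernel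
theorem s2c106 : allBelow (fun k => fs2 (Nat.add (Nat.succ 31037) k)) 266 = true := by decide +kernel
theorem s2c107 : allBelow (fun k => fs2 (Nat.add (Nat.succ 31303) k)) 295 = true := by decide +kernel
theorem s2c108 : allBelow (fun k => fs2 (Nat.add (Nat.succ 31598) k)) 281 = true := by decide +kernel
theorem s2c109 : allBelow (fun k => fs2 (Nat.add (Nat.succ 31879) k)) 361 = true := by decide +kernel
theorem s2c110 : allBelow (fun k => fs2 (Nat.add (Nat.succ 32240) k)) 348 = true := by decide +kernel
theorem s2c111 : allBelow (fun k => fs2 (Nat.add (Nat.succ 32588) k)) 326 = true := by decide +kernel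
theorem s2c112 : allBelow (fun k => fs2 (Nat.add (Nat.succ 32914) k)) 299 = true := by decide +kernel
theorem s2c113 : allBelow (fun k => fs2 (Nat.add (Nat.succ 33213) k)) 364 = true := by decide +kernel
theorem s2c114 : allBelow (fun k => fs2 (Nat.add (Nat.succ 33577) k)) 370 = true := by decide +kernel
theorem s2c115 : allBelow (fun k => fs2 (Nat.add (Nat.succ 33947) k)) 277 = true := by decide +kernel
theorem s2c116 : allBelow (fun k => fs2 (Nat.add (Nat.succ 34224) k)) 298 = true := by decide +kernel
theorem s2c117 : allBelow (fun k => fs2 (Nat.add (Nat.succ 34522) k)) 286 = true := by decide +kernel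
theorem s2c118 : allBelow (fun k => fs2 (Nat.add (Nat.succ 34808) k)) 282 = true := by decide +kernel
theorem s2c119 : allBelow (fun k => fs2 (Nat.add (Nat.succ 35090) k)) 271 = true := by decide +kernel
theorem s2c120 : allBelow (fun k => fs2 (Nat.add (Nat.succ 35361) k)) 266 = true := by decide +kernel
theorem s2c121 : allBelow (fun k => fs2 (Nat.add (Nat.succ 35627) k)) 330 = true := by decide +kernel
theorem s2c122 : allBelow (fun k => fs2 (Nat.add (Nat.succ 35957) k)) 333 = true := by decide +kernel
theorem s2c123 : allBelow (fun k => fs2 (Nat.add (Nat.succ 36290) k)) 350 = true := by decide +kernel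
theorem s2c124 : allBelow (fun k => fs2 (Nat.add (Nat.succ 36640) k)) 372 = true := by decide +kernel
theorem s2c125 : allBelow (fun k => fs2 (Nat.add (Nat.succ 37012) k)) 304 = true := by decide +kernel
theorem s2c126 : allBelow (fun k => fs2 (Nat.add (Nat.succ 37316) k)) 291 = true := by decide +kernel
theorem s2c127 : allBelow (fun k => fs2 (Nat.add (Nat.succ 37607) k)) 282 = true := by decide +kernel
theorem s2c128 : allBelow (fun k => fs2 (Nat.add (Nat.succ 37889) k)) 397 = true := by decide +kernel
theorem s2c129 : allBelow (fun k => fs2 (Nat.add (Nat.succ 38286) k)) 434 = true := by decide +kernel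
theorem s2c130 : allBelow (fun k => fs2 (Nat.add (Nat.succ 38720) k)) 481 = true := by decide +kernel
theorem s2c131 : allBelow (fun k => fs2 (Nat.add (Nat.succ 39201) k)) 293 = true := by decide +kernel
theorem s2c132 : allBelow (fun k => fs2 (Nat.add (Nat.succ 39494) k)) 271 = true := by decide +kernel
theorem s2c133 : allBelow (fun k => fs2 (Nat.add (Nat.succ 39765) k)) 282 = true := by decide +kernel
theorem s2c134 : allBelow (fun k => fs2 (Nat.add (Nat.succ 40047) k)) 366 = true := by decide +kernel
theorem s2c135 : allBelow (fun k => fs2 (Nat.add (Nat.succ 40413) k)) 422 = true := by decide +kernel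
theorem s2c136 : allBelow (fun k => fs2 (Nat.add (Nat.succ 40835) k)) 287 = true := by decide +kernel
theorem s2c137 : allBelow (fun k => fs2 (Nat.add (Nat.succ 41122) k)) 388 = true := by decide +kernel
theorem s2c138 : allBelow (fun k => fs2 (Nat.add (Nat.succ 41510) k)) 321 = true := by decide +kernel
theorem s2c139 : allBelow (fun k => fs2 (Nat.add (Nat.succ 41831) k)) 274 = true := by decide +kernel
theorem s2c140 : allBelow (fun k => fs2 (Nat.add (Nat.succ 42105) k)) 293 = true := by decide +kernel
theorem s2c141 : allBelow (fun k => fs2 (Nat.add (Nat.succ 42398) k)) 300 = true := by decide +kernel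
theorem s2c142 : allBelow (fun k => fs2 (Nat.add (Nat.succ 42698) k)) 282 = true := by decide +kernel
theorem s2c143 : allBelow (fun k => fs2 (Nat.add (Nat.succ 42980) k)) 322 = true := by decide +kernel
theorem s2c144 : allBelow (fun k => fs2 (Nat.add (Nat.succ 43302) k)) 398 = true := by decide +kernel
theorem s2c145 : allBelow (fun k => fs2 (Nat.add (Nat.succ 43700) k)) 380 = true := by decide +kernel
theorem s2c146 : allBelow (fun k => fs2 (Nat.add (Nat.succ 44080) k)) 374 = true := by decide +kernel
theorem s2c147 : allBelow (fun k => fs2 (Nat.add (Nat.succ 44454) k)) 300 = true := by decide +kernel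
theorem s2c148 : allBelow (fun k => fs2 (Nat.add (Nat.succ 44754) k)) 305 = true := by decide +kernel
theorem s2c149 : allBelow (fun k => fs2 (Nat.add (Nat.succ 45059) k)) 403 = true := by decide +kernel
theorem s2c150 : allBelow (fun k => fs2 (Nat.add (Nat.succ 45462) k)) 418 = true := by decide +kernel
theorem s2c151 : allBelow (fun k => fs2 (Nat.add (Nat.succ 45880) k)) 280 = true := by decide +kernel
theorem s2c152 : allBelow (fun k => fs2 (Nat.add (Nat.succ 46160) k)) 290 = true := by decide +kernel
theorem s2c153 : allBelow (fun k => fs2 (Nat.add (Nat.succ 46450) k)) 314 = true := by decide +kernel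
theorem s2c154 : allBelow (fun k => fs2 (Nat.add (Nat.succ 46764) k)) 282 = true := by decide +kernel
theorem s2c155 : allBelow (fun k => fs2 (Nat.add (Nat.succ 47046) k)) 306 = true := by decide +kernel
theorem s2c156 : allBelow (fun k => fs2 (Nat.add (Nat.succ 47352) k)) 271 = true := by decide +kernel
theorem s2c157 : allBelow (fun k => fs2 (Nat.add (Nat.succ 47623) k)) 273 = true := by decide +kernel
theorem s2c158 : allBelow (fun k => fs2 (Nat.add (Nat.succ 47896) k)) 270 = true := by decide +kernel
theorem s2c159 : allBelow (fun k => fs2 (Nat.add (Nat.succ 48166) k)) 288 = true := by decide +kernel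
theorem s2c160 : allBelow (fun k => fs2 (Nat.add (Nat.succ 48454) k)) 352 = true := by decide +kernel
theorem s2c161 : allBelow (fun k => fs2 (Nat.add (Nat.succ 48806) k)) 366 = true := by decide +kernel
theorem s2c162 : allBelow (fun k => fs2 (Nat.add (Nat.succ 49172) k)) 373 = true := by decide +kernel
theorem s2c163 : allBelow (fun k => fs2 (Nat.add (Nat.succ 49545) k)) 348 = true := by decide +kernel
theorem s2c164 : allBelow (fun k => fs2 (Nat.add (Nat.succ 49893) k)) 409 = true := by decide +kernel
theorem s2c165 : allBelow (fun k => fs2 (Nat.add (Nat.succ 50302) k)) 320 = true := by decide +kernel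
theorem s2c166 : allBelow (fun k => fs2 (Nat.add (Nat.succ 50622) k)) 315 = true := by decide +kernel
theorem s2c167 : allBelow (fun k => fs2 (Nat.add (Nat.succ 50937) k)) 280 = true := by decide +kernel
theorem s2c168 : allBelow (fun k => fs2 (Nat.add (Nat.succ 51217) k)) 311 = true := by decide +kernel
theorem s2c169 : allBelow (fun k => fs2 (Nat.add (Nat.succ 51528) k)) 443 = true := by decide +kernel
theorem s2c170 : allBelow (fun k => fs2 (Nat.add (Nat.succ 51971) k)) 475 = true := by decide +kernel
theorem s2c171 : allBelow (fun k => fs2 (Nat.add (Nat.succ 52446) k)) 528 = true := by decide +kernel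
theorem s2c172 : allBelow (fun k => fs2 (Nat.add (Nat.succ 52974) k)) 326 = true := by decide +kernel
theorem s2c173 : allBelow (fun k => fs2 (Nat.add (Nat.succ 53300) k)) 287 = true := by decide +kernel
theorem s2c174 : allBelow (fun k => fs2 (Nat.add (Nat.succ 53587) k)) 274 = true := by decide +kernel
theorem s2c175 : allBelow (fun k => fs2 (Nat.add (Nat.succ 53861) k)) 305 = true := by decide +kernel
theorem s2c176 : allBelow (fun k => fs2 (Nat.add (Nat.succ 54166) k)) 360 = true := by decide +kernel
theorem s2c177 : allBelow (fun k => fs2 (Nat.add (Nat.succ 54526) k)) 460 = true := by decide +kernel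
theorem s2c178 : allBelow (fun k => fs2 (Nat.add (Nat.succ 54986) k)) 390 = true := by decide +kernel
theorem s2c179 : allBelow (fun k => fs2 (Nat.add (Nat.succ 55376) k)) 333 = true := by decide +kernel
theorem s2c180 : allBelow (fun k => fs2 (Nat.add (Nat.succ 55709) k)) 453 = true := by decide +kernel
theorem s2c181 : allBelow (fun k => fs2 (Nat.add (Nat.succ 56162) k)) 306 = true := by decide +kernel
theorem s2c182 : allBelow (fun k => fs2 (Nat.add (Nat.succ 56468) k)) 272 = true := by decide +kernel
theorem s2c183 : allBelow (fun k => fs2 (Nat.add (Nat.succ 56740) k)) 291 = true := by decide +kernel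
theorem s2c184 : allBelow (fun k => fs2 (Nat.add (Nat.succ 57031) k)) 311 = true := by decide +kernel
theorem s2c185 : allBelow (fun k => fs2 (Nat.add (Nat.succ 57342) k)) 307 = true := by decide +kernel
theorem s2c186 : allBelow (fun k => fs2 (Nat.add (Nat.succ 57649) k)) 283 = true := by decide +kernel
theorem s2c187 : allBelow (fun k => fs2 (Nat.add (Nat.succ 57932) k)) 301 = true := by decide +kernel
theorem s2c188 : allBelow (fun k => fs2 (Nat.add (Nat.succ 58233) k)) 313 = true := by decide +kernel
theorem s2c189 : allBelow (fun k => fs2 (Nat.add (Nat.succ 58546) k)) 445 = true := by decide +kernel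
theorem s2c190 : allBelow (fun k => fs2 (Nat.add (Nat.succ 58991) k)) 376 = true := by decide +kernel
theorem s2c191 : allBelow (fun k => fs2 (Nat.add (Nat.succ 59367) k)) 408 = true := by decide +kernel
theorem s2c192 : allBelow (fun k => fs2 (Nat.add (Nat.succ 59775) k)) 398 = true := by decide +kernel
theorem s2c193 : allBelow (fun k => fs2 (Nat.add (Nat.succ 60173) k)) 287 = true := by decide +kernel
theorem s2c194 : allBelow (fun k => fs2 (Nat.add (Nat.succ 60460) k)) 353 = true := by decide +kernel
theorem s2c195 : allBelow (fun k => fs2 (Nat.add (Nat.succ 60813) k)) 345 = true := by decide +kernel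
theorem s2c196 : allBelow (fun k => fs2 (Nat.add (Nat.succ 61158) k)) 490 = true := by decide +kernel
theorem s2c197 : allBelow (fun k => fs2 (Nat.add (Nat.succ 61648) k)) 401 = true := by decide +kernel
theorem s2c198 : allBelow (fun k => fs2 (Nat.add (Nat.succ 62049) k)) 284 = true := by decide +kernel
theorem s2c199 : allBelow (fun k => fs2 (Nat.add (Nat.succ 62333) k)) 304 = true := by decide +kernel
theorem s2c200 : allBelow (fun k => fs2 (Nat.add (Nat.succ 62637) k)) 286 = true := by decide +kernel
theorem s2c201 : allBelow (fun k => fs2 (Nat.add (Nat.succ 62923) k)) 329 = true := by decide +kernel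
theorem s2c202 : allBelow (fun k => fs2 (Nat.add (Nat.succ 63252) k)) 274 = true := by decide +kernel
theorem s2c203 : allBelow (fun k => fs2 (Nat.add (Nat.succ 63526) k)) 324 = true := by decide +kernel
theorem s2c204 : allBelow (fun k => fs2 (Nat.add (Nat.succ 63850) k)) 306 = true := by decide +kernel
theorem s2c205 : allBelow (fun k => fs2 (Nat.add (Nat.succ 64156) k)) 261 = true := by decide +kernel
theorem s2c206 : allBelow (fun k => fs2 (Nat.add (Nat.succ 64417) k)) 278 = true := by decide +kernel
theorem s2c207 : allBelow (fun k => fs2 (Nat.add (Nat.succ 64695) k)) 281 = true := by decide +kernel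
theorem s2c208 : allBelow (fun k => fs2 (Nat.add (Nat.succ 64976) k)) 286 = true := by decide +kernel
theorem s2c209 : allBelow (fun k => fs2 (Nat.add (Nat.succ 65262) k)) 302 = true := by decide +kernel
theorem s2c210 : allBelow (fun k => fs2 (Nat.add (Nat.succ 65564) k)) 360 = true := by decide +kernel
theorem s2c211 : allBelow (fun k => fs2 (Nat.add (Nat.succ 65924) k)) 388 = true := by decide +kernel
theorem s2c212 : allBelow (fun k => fs2 (Nat.add (Nat.succ 66312) k)) 369 = true := by decide +kernel
theorem s2c213 : allBelow (fun k => fs2 (Nat.add (Nat.succ 66681) k)) 391 = true := by decide +kernel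
theorem s2c214 : allBelow (fun k => fs2 (Nat.add (Nat.succ 67072) k)) 406 = true := by decide +kernel
theorem s2c215 : allBelow (fun k => fs2 (Nat.add (Nat.succ 67478) k)) 473 = true := by decide +kernel
theorem s2c216 : allBelow (fun k => fs2 (Nat.add (Nat.succ 67951) k)) 308 = true := by decide +kernel
theorem s2c217 : allBelow (fun k => fs2 (Nat.add (Nat.succ 68259) k)) 318 = true := by decide +kernel
theorem s2c218 : allBelow (fun k => fs2 (Nat.add (Nat.succ 68577) k)) 344 = true := by decide +kernel
theorem s2c219 : allBelow (fun k => fs2 (Nat.add (Nat.succ 68921) k)) 287 = true := by decide +kernel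
theorem s2c220 : allBelow (fun k => fs2 (Nat.add (Nat.succ 69208) k)) 336 = true := by decide +kernel
theorem s2c221 : allBelow (fun k => fs2 (Nat.add (Nat.succ 69544) k)) 449 = true := by decide +kernel
theorem s2c222 : allBelow (fun k => fs2 (Nat.add (Nat.succ 69993) k)) 465 = true := by decide +kernel
theorem s2c223 : allBelow (fun k => fs2 (Nat.add (Nat.succ 70458) k)) 545 = true := by decide +kernel
theorem s2c224 : allBelow (fun k => fs2 (Nat.add (Nat.succ 71003) k)) 469 = true := by decide +kernel
theorem s2c225 : allBelow (fun k => fs2 (Nat.add (Nat.succ 71472) k)) 270 = true := by decide +kernel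
theorem s2c226 : allBelow (fun k => fs2 (Nat.add (Nat.succ 71742) k)) 300 = true := by decide +kernel
theorem s2c227 : allBelow (fun k => fs2 (Nat.add (Nat.succ 72042) k)) 296 = true := by decide +kernel
theorem s2c228 : allBelow (fun k => fs2 (Nat.add (Nat.succ 72338) k)) 313 = true := by decide +kernel
theorem s2c229 : allBelow (fun k => fs2 (Nat.add (Nat.succ 72651) k)) 310 = true := by decide +kernel
theorem s2c230 : allBelow (fun k => fs2 (Nat.add (Nat.succ 72961) k)) 443 = true := by decide +kernel
theorem s2c231 : allBelow (fun k => fs2 (Nat.add (Nat.succ 73404) k)) 485 = true := by decide +kernel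
theorem s2c232 : allBelow (fun k => fs2 (Nat.add (Nat.succ 73889) k)) 398 = true := by decide +kernel
theorem s2c233 : allBelow (fun k => fs2 (Nat.add (Nat.succ 74287) k)) 368 = true := by decide +kernel
theorem s2c234 : allBelow (fun k => fs2 (Nat.add (Nat.succ 74655) k)) 465 = true := by decide +kernel
theorem s2c235 : allBelow (fun k => fs2 (Nat.add (Nat.succ 75120) k)) 387 = true := by decide +kernel
theorem s2c236 : allBelow (fun k => fs2 (Nat.add (Nat.succ 75507) k)) 264 = true := by decide +kernel
theorem s2c237 : allBelow (fun k => fs2 (Nat.add (Nat.succ 75771) k)) 282 = true := by decide +kernel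
theorem s2c238 : allBelow (fun k => fs2 (Nat.add (Nat.succ 76053) k)) 299 = true := by decide +kernel
theorem s2c239 : allBelow (fun k => fs2 (Nat.add (Nat.succ 76352) k)) 280 = true := by decide +kernel
theorem s2c240 : allBelow (fun k => fs2 (Nat.add (Nat.succ 76632) k)) 338 = true := by decide +kernel
theorem s2c241 : allBelow (fun k => fs2 (Nat.add (Nat.succ 76970) k)) 332 = true := by decide +kernel
theorem s2c242 : allBelow (fun k => fs2 (Nat.add (Nat.succ 77302) k)) 290 = true := by decide +kernel
theorem s2c243 : allBelow (fun k => fs2 (Nat.add (Nat.succ 77592) k)) 299 = true := by decide +kernel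
theorem s2c244 : allBelow (fun k => fs2 (Nat.add (Nat.succ 77891) k)) 313 = true := by decide +kernel
theorem s2c245 : allBelow (fun k => fs2 (Nat.add (Nat.succ 78204) k)) 327 = true := by decide +kernel
theorem s2c246 : allBelow (fun k => fs2 (Nat.add (Nat.succ 78531) k)) 404 = true := by decide +kernel
theorem s2c247 : allBelow (fun k => fs2 (Nat.add (Nat.succ 78935) k)) 462 = true := by decide +kernel
theorem s2c248 : allBelow (fun k => fs2 (Nat.add (Nat.succ 79397) k)) 439 = true := by decide +kernel
theorem s2c249 : allBelow (fun k => fs2 (Nat.add (Nat.succ 79836) k)) 438 = true := by decide +kernel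
theorem s2c250 : allBelow (fun k => fs2 (Nat.add (Nat.succ 80274) k)) 342 = true := by decide +kernel
theorem s2c251 : allBelow (fun k => fs2 (Nat.add (Nat.succ 80616) k)) 301 = true := by decide +kernel
theorem s2c252 : allBelow (fun k => fs2 (Nat.add (Nat.succ 80917) k)) 379 = true := by decide +kernel
theorem s2c253 : allBelow (fun k => fs2 (Nat.add (Nat.succ 81296) k)) 344 = true := by decide +kernel
theorem s2c254 : allBelow (fun k => fs2 (Nat.add (Nat.succ 81640) k)) 436 = true := by decide +kernel
theorem s2c255 : allBelow (fun k => fs2 (Nat.add (Nat.succ 82076) k)) 517 = true := by decide +kernel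
theorem s2c256 : allBelow (fun k => fs2 (Nat.add (Nat.succ 82593) k)) 314 = true := by decide +kernel
theorem s2c257 : allBelow (fun k => fs2 (Nat.add (Nat.succ 82907) k)) 287 = true := by decide +kernel
theorem s2c258 : allBelow (fun k => fs2 (Nat.add (Nat.succ 83194) k)) 323 = true := by decide +kernel
theorem s2c259 : allBelow (fun k => fs2 (Nat.add (Nat.succ 83517) k)) 289 = true := by decide +kernel
theorem s2c260 : allBelow (fun k => fs2 (Nat.add (Nat.succ 83806) k)) 292 = true := by decide +kernel
theorem s2c261 : allBelow (fun k => fs2 (Nat.add (Nat.succ 84098) k)) 350 = true := by decide +kernel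
theorem s2c262 : allBelow (fun k => fs2 (Nat.add (Nat.succ 84448) k)) 282 = true := by decide +kernel
theorem s2c263 : allBelow (fun k => fs2 (Nat.add (Nat.succ 84730) k)) 279 = true := by decide +kernel
theorem s2c264 : allBelow (fun k => fs2 (Nat.add (Nat.succ 85009) k)) 341 = true := by decide +kernel
theorem s2c265 : allBelow (fun k => fs2 (Nat.add (Nat.succ 85350) k)) 315 = true := by decide +kernel
theorem s2c266 : allBelow (fun k => fs2 (Nat.add (Nat.succ 85665) k)) 271 = true := by decide +kernel
theorem s2c267 : allBelow (fun k => fs2 (Nat.add (Nat.succ 85936) k)) 270 = true := by decide +kernel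
theorem s2c268 : allBelow (fun k => fs2 (Nat.add (Nat.succ 86206) k)) 286 = true := by decide +kernel
theorem s2c269 : allBelow (fun k => fs2 (Nat.add (Nat.succ 86492) k)) 295 = true := by decide +kernel
theorem s2c270 : allBelow (fun k => fs2 (Nat.add (Nat.succ 86787) k)) 292 = true := by decide +kernel
theorem s2c271 : allBelow (fun k => fs2 (Nat.add (Nat.succ 87079) k)) 304 = true := by decide +kernel
theorem s2c272 : allBelow (fun k => fs2 (Nat.add (Nat.succ 87383) k)) 302 = true := by decide +kernel
theorem s2c273 : allBelow (fun k => fs2 (Nat.add (Nat.succ 87685) k)) 316 = true := by decide +kernel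
theorem s2c274 : allBelow (fun k => fs2 (Nat.add (Nat.succ 88001) k)) 407 = true := by decide +kernel
theorem s2c275 : allBelow (fun k => fs2 (Nat.add (Nat.succ 88408) k)) 418 = true := by decide +kernel
theorem s2c276 : allBelow (fun k => fs2 (Nat.add (Nat.succ 88826) k)) 394 = true := by decide +kernel
theorem s2c277 : allBelow (fun k => fs2 (Nat.add (Nat.succ 89220) k)) 405 = true := by decide +kernel
theorem s2c278 : allBelow (fun k => fs2 (Nat.add (Nat.succ 89625) k)) 405 = true := by decide +kernel
theorem s2c279 : allBelow (fun k => fs2 (Nat.add (Nat.succ 90030) k)) 530 = true := by decide +kernel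
theorem s2c280 : allBelow (fun k => fs2 (Nat.add (Nat.succ 90560) k)) 367 = true := by decide +kernel
theorem s2c281 : allBelow (fun k => fs2 (Nat.add (Nat.succ 90927) k)) 338 = true := by decide +kernel
theorem s2c282 : allBelow (fun k => fs2 (Nat.add (Nat.succ 91265) k)) 291 = true := by decide +kernel
theorem s2c283 : allBelow (fun k => fs2 (Nat.add (Nat.succ 91556) k)) 374 = true := by decide +kernel
theorem s2c284 : allBelow (fun k => fs2 (Nat.add (Nat.succ 91930) k)) 307 = true := by decide +kernel
theorem s2c285 : allBelow (fun k => fs2 (Nat.add (Nat.succ 92237) k)) 346 = true := by decide +kernel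
theorem s2c286 : allBelow (fun k => fs2 (Nat.add (Nat.succ 92583) k)) 463 = true := by decide +kernel
theorem s2c287 : allBelow (fun k => fs2 (Nat.add (Nat.succ 93046) k)) 487 = true := by decide +kernel
theorem s2c288 : allBelow (fun k => fs2 (Nat.add (Nat.succ 93533) k)) 567 = true := by decide +kernel
theorem s2c289 : allBelow (fun k => fs2 (Nat.add (Nat.succ 94100) k)) 406 = true := by decide +kernel
theorem s2c290 : allBelow (fun k => fs2 (Nat.add (Nat.succ 94506) k)) 291 = true := by decide +kernel
theorem s2c291 : allBelow (fun k => fs2 (Nat.add (Nat.succ 94797) k)) 297 = true := by decide +kernel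
theorem s2c292 : allBelow (fun k => fs2 (Nat.add (Nat.succ 95094) k)) 324 = true := by decide +kernel
theorem s2c293 : allBelow (fun k => fs2 (Nat.add (Nat.succ 95418) k)) 306 = true := by decide +kernel
theorem s2c294 : allBelow (fun k => fs2 (Nat.add (Nat.succ 95724) k)) 320 = true := by decide +kernel
theorem s2c295 : allBelow (fun k => fs2 (Nat.add (Nat.succ 96044) k)) 318 = true := by decide +kernel
theorem s2c296 : allBelow (fun k => fs2 (Nat.add (Nat.succ 96362) k)) 440 = true := by decide +kernel
theorem s2c297 : allBelow (fun k => fs2 (Nat.add (Nat.succ 96802) k)) 520 = true := by decide +kernel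
theorem s2c298 : allBelow (fun k => fs2 (Nat.add (Nat.succ 97322) k)) 402 = true := by decide +kernel
theorem s2c299 : allBelow (fun k => fs2 (Nat.add (Nat.succ 97724) k)) 401 = true := by decide +kernel
theorem s2c300 : allBelow (fun k => fs2 (Nat.add (Nat.succ 98125) k)) 468 = true := by decide +kernel
theorem s2c301 : allBelow (fun k => fs2 (Nat.add (Nat.succ 98593) k)) 407 = true := by decide +kernel
theorem s2c302 : allBelow (fun k => fs2 (Nat.add (Nat.succ 99000) k)) 261 = true := by decide +kernel
theorem s2c303 : allBelow (fun k => fs2 (Nat.add (Nat.succ 99261) k)) 263 = true := by decide +kernel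
theorem s2c304 : allBelow (fun k => fs2 (Nat.add (Nat.succ 99524) k)) 292 = true := by decide +kernel
theorem s2c305 : allBelow (fun k => fs2 (Nat.add (Nat.succ 99816) k)) 305 = true := by decide +kernel
theorem s2c306 : allBelow (fun k => fs2 (Nat.add (Nat.succ 100121) k)) 291 = true := by decide +kernel
theorem s2c307 : allBelow (fun k => fs2 (Nat.add (Nat.succ 100412) k)) 297 = true := by decide +kernel
theorem s2c308 : allBelow (fun k => fs2 (Nat.add (Nat.succ 100709) k)) 350 = true := by decide +kernel
theorem s2c309 : allBelow (fun k => fs2 (Nat.add (Nat.succ 101059) k)) 351 = true := by decide +kernel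
theorem s2c310 : allBelow (fun k => fs2 (Nat.add (Nat.succ 101410) k)) 283 = true := by decide +kernel
theorem s2c311 : allBelow (fun k => fs2 (Nat.add (Nat.succ 101693) k)) 297 = true := by decide +kernel
theorem s2c312 : allBelow (fun k => fs2 (Nat.add (Nat.succ 101990) k)) 324 = true := by decide +kernel
theorem s2c313 : allBelow (fun k => fs2 (Nat.add (Nat.succ 102314) k)) 299 = true := by decide +kernel
theorem s2c314 : allBelow (fun k => fs2 (Nat.add (Nat.succ 102613) k)) 311 = true := by decide +kernel
theorem s2c315 : allBelow (fun k => fs2 (Nat.add (Nat.succ 102924) k)) 335 = true := by decide +kernel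
theorem s2c316 : allBelow (fun k => fs2 (Nat.add (Nat.succ 103259) k)) 421 = true := by decide +kernel
theorem s2c317 : allBelow (fun k => fs2 (Nat.add (Nat.succ 103680) k)) 452 = true := by decide +kernel
theorem s2c318 : allBelow (fun k => fs2 (Nat.add (Nat.succ 104132) k)) 444 = true := by decide +kernel
theorem s2c319 : allBelow (fun k => fs2 (Nat.add (Nat.succ 104576) k)) 445 = true := by decide +kernel
theorem s2c320 : allBelow (fun k => fs2 (Nat.add (Nat.succ 105021) k)) 336 = true := by decide +kernel
theorem s2c321 : allBelow (fun k => fs2 (Nat.add (Nat.succ 105357) k)) 306 = true := by decide +kernel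
theorem s2c322 : allBelow (fun k => fs2 (Nat.add (Nat.succ 105663) k)) 364 = true := by decide +kernel
theorem s2c323 : allBelow (fun k => fs2 (Nat.add (Nat.succ 106027) k)) 376 = true := by decide +kernel
theorem s2c324 : allBelow (fun k => fs2 (Nat.add (Nat.succ 106403) k)) 395 = true := by decide +kernel
theorem s2c325 : allBelow (fun k => fs2 (Nat.add (Nat.succ 106798) k)) 488 = true := by decide +kernel
theorem s2c326 : allBelow (fun k => fs2 (Nat.add (Nat.succ 107286) k)) 336 = true := by decide +kernel
theorem s2c327 : allBelow (fun k => fs2 (Nat.add (Nat.succ 107622) k)) 277 = true := by decide +kernel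
theorem s2c328 : allBelow (fun k => fs2 (Nat.add (Nat.succ 107899) k)) 323 = true := by decide +kernel
theorem s2c329 : allBelow (fun k => fs2 (Nat.add (Nat.succ 108222) k)) 310 = true := by decide +kernel
theorem s2c330 : allBelow (fun k => fs2 (Nat.add (Nat.succ 108532) k)) 290 = true := by decide +kernel
theorem s2c331 : allBelow (fun k => fs2 (Nat.add (Nat.succ 108822) k)) 282 = true := by decide +kernel
theorem s2c332 : allBelow (fun k => fs2 (Nat.add (Nat.succ 109104) k)) 364 = true := by decide +kernel
theorem s2c333 : allBelow (fun k => fs2 (Nat.add (Nat.succ 109468) k)) 318 = true := by decide +kernel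
theorem s2c334 : allBelow (fun k => fs2 (Nat.add (Nat.succ 109786) k)) 279 = true := by decide +kernel
theorem s2c335 : allBelow (fun k => fs2 (Nat.add (Nat.succ 110065) k)) 277 = true := by decide +kernel
theorem s2c336 : allBelow (fun k => fs2 (Nat.add (Nat.succ 110342) k)) 321 = true := by decide +kernel
theorem s2c337 : allBelow (fun k => fs2 (Nat.add (Nat.succ 110663) k)) 335 = true := by decide +kernel
theorem s2c338 : allBelow (fun k => fs2 (Nat.add (Nat.succ 110998) k)) 269 = true := by decide +kernel
theorem s2c339 : allBelow (fun k => fs2 (Nat.add (Nat.succ 111267) k)) 348 = true := by decide +kernel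
theorem s2c340 : allBelow (fun k => fs2 (Nat.add (Nat.succ 111615) k)) 267 = true := by decide +kernel
theorem s2c341 : allBelow (fun k => fs2 (Nat.add (Nat.succ 111882) k)) 282 = true := by decide +kernel
theorem s2c342 : allBelow (fun k => fs2 (Nat.add (Nat.succ 112164) k)) 290 = true := by decide +kernel
theorem s2c343 : allBelow (fun k => fs2 (Nat.add (Nat.succ 112454) k)) 288 = true := by decide +kernel
theorem s2c344 : allBelow (fun k => fs2 (Nat.add (Nat.succ 112742) k)) 315 = true := by decide +kernel
theorem s2c345 : allBelow (fun k => fs2 (Nat.add (Nat.succ 113057) k)) 293 = true := by decide +kernel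
theorem s2c346 : allBelow (fun k => fs2 (Nat.add (Nat.succ 113350) k)) 301 = true := by decide +kernel
theorem s2c347 : allBelow (fun k => fs2 (Nat.add (Nat.succ 113651) k)) 320 = true := by decide +kernel

end Cfsg.Agent.Lib.Helper35.Fi24a
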