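import Cfsg.Agent.Lib.Helper35.Fi24a.Data

set_option Elab.async false

namespace Cfsg.Agent.Lib.Helper35.Fi24a

open Cfsg.Agent.Lib.Helper35

theorem s2c348 : allBelow (fun k => fs2 (Nat.add (Nat.succ 113971) k)) 319 = true := by decide +kernel
theorem s2c349 : allBelow (fun k => fs2 (Nat.add (Nat.succ 114290) k)) 323 = true := by decide +kernel
theorem s2c350 : allBelow (fun k => fs2 (Nat.add (Nat.succ 114613) k)) 418 = true := by decide +kernel
theorem s2c351 : allBelow (fun k => fs2 (Nat.add (Nat.succ 115031) k)) 416 = true := by decide +kernel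
theorem s2c352 : allBelow (fun k => fs2 (Nat.add (Nat.succ 115447) k)) 374 = true := by decide +kernel
theorem s2c353 : allBelow (fun k => fs2 (Nat.add (Nat.succ 115821) k)) 408 = true := by decide +kernel
theorem s2c354 : allBelow (fun k => fs2 (Nat.add (Nat.succ 116229) k)) 460 = true := by decide +kernel
theorem s2c355 : allBelow (fun k => fs2 (Nat.add (Nat.succ 116689) k)) 484 = true := by decide +kernel
theorem s2c356 : allBelow (fun k => fs2 (Nat.add (Nat.succ 117173) k)) 368 = true := by decide +kernel
theorem s2c357 : allBelow (fun k => fs2 (Nat.add (Nat.succ 117541) k)) 369 = true := by decide +kernel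
theorem s2c358 : allBelow (fun k => fs2 (Nat.add (Nat.succ 117910) k)) 297 = true := by decide +kernel
theorem s2c359 : allBelow (fun k => fs2 (Nat.add (Nat.succ 118207) k)) 383 = true := by decide +kernel
theorem s2c360 : allBelow (fun k => fs2 (Nat.add (Nat.succ 118590) k)) 310 = true := by decide +kernel
theorem s2c361 : allBelow (fun k => fs2 (Nat.add (Nat.succ 118900) k)) 379 = true := by decide +kernel
theorem s2c362 : allBelow (fun k => fs2 (Nat.add (Nat.succ 119279) k)) 423 = true := by decide +kernel
theorem s2c363 : allBelow (fun k => fs2 (Nat.add (Nat.succ 119702) k)) 503 = true := by decide +kernel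
theorem s2c364 : allBelow (fun k => fs2 (Nat.add (Nat.succ 120205) k)) 432 = true := by decide +kernel
theorem s2c365 : allBelow (fun k => fs2 (Nat.add (Nat.succ 120637) k)) 281 = true := by decide +kernel
theorem s2c366 : allBelow (fun k => fs2 (Nat.add (Nat.succ 120918) k)) 283 = true := by decide +kernel
theorem s2c367 : allBelow (fun k => fs2 (Nat.add (Nat.succ 121201) k)) 301 = true := by decide +kernel
theorem s2c368 : allBelow (fun k => fs2 (Nat.add (Nat.succ 121502) k)) 310 = true := by decide +kernel
theorem s2c369 : allBelow (fun k => fs2 (Nat.add (Nat.succ 121812) k)) 297 = true := by decide +kernel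
theorem s2c370 : allBelow (fun k => fs2 (Nat.add (Nat.succ 122109) k)) 307 = true := by decide +kernel
theorem s2c371 : allBelow (fun k => fs2 (Nat.add (Nat.succ 122416) k)) 301 = true := by decide +kernel
theorem s2c372 : allBelow (fun k => fs2 (Nat.add (Nat.succ 122717) k)) 313 = true := by decide +kernel
theorem s2c373 : allBelow (fun k => fs2 (Nat.add (Nat.succ 123030) k)) 464 = true := by decide +kernel
theorem s2c374 : allBelow (fun k => fs2 (Nat.add (Nat.succ 123494) k)) 445 = true := by decide +kernel
theorem s2c375 : allBelow (fun k => fs2 (Nat.add (Nat.succ 123939) k)) 345 = true := by decide +kernel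
theorem s2c376 : allBelow (fun k => fs2 (Nat.add (Nat.succ 124284) k)) 464 = true := by decide +kernel
theorem s2c377 : allBelow (fun k => fs2 (Nat.add (Nat.succ 124748) k)) 252 = true := by decide +kernel
theorem s2c378 : allBelow (fun k => fs2 (Nat.add (Nat.succ 125000) k)) 257 = true := by decide +kernel
theorem s2c379 : allBelow (fun k => fs2 (Nat.add (Nat.succ 125257) k)) 252 = true := by decide +kernel
theorem s2c380 : allBelow (fun k => fs2 (Nat.add (Nat.succ 125509) k)) 259 = true := by decide +kernel
theorem s2c381 : allBelow (fun k => fs2 (Nat.add (Nat.succ 125768) k)) 249 = true := by decide +kernel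
theorem s2c382 : allBelow (fun k => fs2 (Nat.add (Nat.succ 126017) k)) 270 = true := by decide +kernel
theorem s2c383 : allBelow (fun k => fs2 (Nat.add (Nat.succ 126287) k)) 273 = true := by decide +kernel
theorem s2c384 : allBelow (fun k => fs2 (Nat.add (Nat.succ 126560) k)) 270 = true := by decide +kernel
theorem s2c385 : allBelow (fun k => fs2 (Nat.add (Nat.succ 126830) k)) 251 = true := by decide +kernel
theorem s2c386 : allBelow (fun k => fs2 (Nat.add (Nat.succ 127081) k)) 267 = true := by decide +kernel
theorem s2c387 : allBelow (fun k => fs2 (Nat.add (Nat.succ 127348) k)) 261 = true := by decide +kernel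
theorem s2c388 : allBelow (fun k => fs2 (Nat.add (Nat.succ 127609) k)) 281 = true := by decide +kernel
theorem s2c389 : allBelow (fun k => fs2 (Nat.add (Nat.succ 127890) k)) 273 = true := by decide +kernel
theorem s2c390 : allBelow (fun k => fs2 (Nat.add (Nat.succ 128163) k)) 285 = true := by decide +kernel
theorem s2c391 : allBelow (fun k => fs2 (Nat.add (Nat.succ 128448) k)) 265 = true := by decide +kernel
theorem s2c392 : allBelow (fun k => fs2 (Nat.add (Nat.succ 128713) k)) 276 = true := by decide +kernel
theorem s2c393 : allBelow (fun k => fs2 (Nat.add (Nat.succ 128989) k)) 255 = true := by decide +kernel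
theorem s2c394 : allBelow (fun k => fs2 (Nat.add (Nat.succ 129244) k)) 278 = true := by decide +kernel
theorem s2c395 : allBelow (fun k => fs2 (Nat.add (Nat.succ 129522) k)) 256 = true := by decide +kernel
theorem s2c396 : allBelow (fun k => fs2 (Nat.add (Nat.succ 129778) k)) 251 = true := by decide +kernel
theorem s2c397 : allBelow (fun k => fs2 (Nat.add (Nat.succ 130029) k)) 262 = true := by decide +kernel
theorem s2c398 : allBelow (fun k => fs2 (Nat.add (Nat.succ 130291) k)) 277 = true := by decide +kernel
theorem s2c399 : allBelow (fun k => fs2 (Nat.add (Nat.succ 130568) k)) 265 = true := by decide +kernel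
theorem s2c400 : allBelow (fun k => fs2 (Nat.add (Nat.succ 130833) k)) 263 = true := by decide +kernel
theorem s2c401 : allBelow (fun k => fs2 (Nat.add (Nat.succ 131096) k)) 279 = true := by decide +kernel
theorem s2c402 : allBelow (fun k => fs2 (Nat.add (Nat.succ 131375) k)) 283 = true := by decide +kernel
theorem s2c403 : allBelow (fun k => fs2 (Nat.add (Nat.succ 131658) k)) 259 = true := by decide +kernel
theorem s2c404 : allBelow (fun k => fs2 (Nat.add (Nat.succ 131917) k)) 275 = true := by decide +kernel
theorem s2c405 : allBelow (fun k => fs2 (Nat.add (Nat.succ 132192) k)) 255 = true := by decide +kernel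
theorem s2c406 : allBelow (fun k => fs2 (Nat.add (Nat.succ 132447) k)) 283 = true := by decide +kernel
theorem s2c407 : allBelow (fun k => fs2 (Nat.add (Nat.succ 132730) k)) 272 = true := by decide +kernel
theorem s2c408 : allBelow (fun k => fs2 (Nat.add (Nat.succ 133002) k)) 279 = true := by decide +kernel
theorem s2c409 : allBelow (fun k => fs2 (Nat.add (Nat.succ 133281) k)) 271 = true := by decide +kernel
theorem s2c410 : allBelow (fun k => fs2 (Nat.add (Nat.succ 133552) k)) 270 = true := by decide +kernel
theorem s2c411 : allBelow (fun k => fs2 (Nat.add (Nat.succ 133822) k)) 247 = true := by decide +kernel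
theorem s2c412 : allBelow (fun k => fs2 (Nat.add (Nat.succ 134069) k)) 278 = true := by decide +kernel
theorem s2c413 : allBelow (fun k => fs2 (Nat.add (Nat.succ 134347) k)) 251 = true := by decide +kernel
theorem s2c414 : allBelow (fun k => fs2 (Nat.add (Nat.succ 134598) k)) 267 = true := by decide +kernel
theorem s2c415 : allBelow (fun k => fs2 (Nat.add (Nat.succ 134865) k)) 268 = true := by decide +kernel
theorem s2c416 : allBelow (fun k => fs2 (Nat.add (Nat.succ 135133) k)) 265 = true := by decide +kernel
theorem s2c417 : allBelow (fun k => fs2 (Nat.add (Nat.succ 135398) k)) 278 = true := by decide +kernel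
theorem s2c418 : allBelow (fun k => fs2 (Nat.add (Nat.succ 135676) k)) 269 = true := by decide +kernel
theorem s2c419 : allBelow (fun k => fs2 (Nat.add (Nat.succ 135945) k)) 275 = true := by decide +kernel
theorem s2c420 : allBelow (fun k => fs2 (Nat.add (Nat.succ 136220) k)) 268 = true := by decide +kernel
theorem s2c421 : allBelow (fun k => fs2 (Nat.add (Nat.succ 136488) k)) 247 = true := by decide +kernel
theorem s2c422 : allBelow (fun k => fs2 (Nat.add (Nat.succ 136735) k)) 267 = true := by decide +kernel
theorem s2c423 : allBelow (fun k => fs2 (Nat.add (Nat.succ 137002) k)) 259 = true := by decide +kernel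
theorem s2c424 : allBelow (fun k => fs2 (Nat.add (Nat.succ 137261) k)) 244 = true := by decide +kernel
theorem s2c425 : allBelow (fun k => fs2 (Nat.add (Nat.succ 137505) k)) 274 = true := by decide +kernel
theorem s2c426 : allBelow (fun k => fs2 (Nat.add (Nat.succ 137779) k)) 277 = true := by decide +kernel
theorem s2c427 : allBelow (fun k => fs2 (Nat.add (Nat.succ 138056) k)) 265 = true := by decide +kernel
theorem s2c428 : allBelow (fun k => fs2 (Nat.add (Nat.succ 138321) k)) 270 = true := by decide +kernel
theorem s2c429 : allBelow (fun k => fs2 (Nat.add (Nat.succ 138591) k)) 258 = true := by decide +kernel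
theorem s2c430 : allBelow (fun k => fs2 (Nat.add (Nat.succ 138849) k)) 279 = true := by decide +kernel
theorem s2c431 : allBelow (fun k => fs2 (Nat.add (Nat.succ 139128) k)) 248 = true := by decide +kernel
theorem s2c432 : allBelow (fun k => fs2 (Nat.add (Nat.succ 139376) k)) 259 = true := by decide +kernel
theorem s2c433 : allBelow (fun k => fs2 (Nat.add (Nat.succ 139635) k)) 252 = true := by decide +kernel
theorem s2c434 : allBelow (fun k => fs2 (Nat.add (Nat.succ 139887) k)) 252 = true := by decide +kernel
theorem s2c435 : allBelow (fun k => fs2 (Nat.add (Nat.succ 140139) k)) 265 = true := by decide +kernel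
theorem s2c436 : allBelow (fun k => fs2 (Nat.add (Nat.succ 140404) k)) 271 = true := by decide +kernel
theorem s2c437 : allBelow (fun k => fs2 (Nat.add (Nat.succ 140675) k)) 262 = true := by decide +kernel
theorem s2c438 : allBelow (fun k => fs2 (Nat.add (Nat.succ 140937) k)) 254 = true := by decide +kernel
theorem s2c439 : allBelow (fun k => fs2 (Nat.add (Nat.succ 141191) k)) 255 = true := by decide +kernel
theorem s2c440 : allBelow (fun k => fs2 (Nat.add (Nat.succ 141446) k)) 266 = true := by decide +kernel
theorem s2c441 : allBelow (fun k => fs2 (Nat.add (Nat.succ 141712) k)) 258 = true := by decide +kernel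
theorem s2c442 : allBelow (fun k => fs2 (Nat.add (Nat.succ 141970) k)) 239 = true := by decide +kernel
theorem s2c443 : allBelow (fun k => fs2 (Nat.add (Nat.succ 142209) k)) 248 = true := by decide +kernel
theorem s2c444 : allBelow (fun k => fs2 (Nat.add (Nat.succ 142457) k)) 251 = true := by decide +kernel
theorem s2c445 : allBelow (fun k => fs2 (Nat.add (Nat.succ 142708) k)) 265 = true := by decide +kernel
theorem s2c446 : allBelow (fun k => fs2 (Nat.add (Nat.succ 142973) k)) 282 = true := by decide +kernel
theorem s2c447 : allBelow (fun k => fs2 (Nat.add (Nat.succ 143255) k)) 263 = true := by decide +kernel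
theorem s2c448 : allBelow (fun k => fs2 (Nat.add (Nat.succ 143518) k)) 272 = true := by decide +kernel
theorem s2c449 : allBelow (fun k => fs2 (Nat.add (Nat.succ 143790) k)) 252 = true := by decide +kernel
theorem s2c450 : allBelow (fun k => fs2 (Nat.add (Nat.succ 144042) k)) 272 = true := by decide +kernel
theorem s2c451 : allBelow (fun k => fs2 (Nat.add (Nat.succ 144314) k)) 242 = true := by decide +kernel
theorem s2c452 : allBelow (fun k => fs2 (Nat.add (Nat.succ 144556) k)) 276 = true := by decide +kernel
theorem s2c453 : allBelow (fun k => fs2 (Nat.add (Nat.succ 144832) k)) 286 = true := by decide +kernel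
theorem s2c454 : allBelow (fun k => fs2 (Nat.add (Nat.succ 145118) k)) 282 = true := by decide +kernel
theorem s2c455 : allBelow (fun k => fs2 (Nat.add (Nat.succ 145400) k)) 278 = true := by decide +kernel
theorem s2c456 : allBelow (fun k => fs2 (Nat.add (Nat.succ 145678) k)) 276 = true := by decide +kernel
theorem s2c457 : allBelow (fun k => fs2 (Nat.add (Nat.succ 145954) k)) 264 = true := by decide +kernel
theorem s2c458 : allBelow (fun k => fs2 (Nat.add (Nat.succ 146218) k)) 267 = true := by decide +kernel
theorem s2c459 : allBelow (fun k => fs2 (Nat.add (Nat.succ 146485) k)) 255 = true := by decide +kernel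
theorem s2c460 : allBelow (fun k => fs2 (Nat.add (Nat.succ 146740) k)) 264 = true := by decide +kernel
theorem s2c461 : allBelow (fun k => fs2 (Nat.add (Nat.succ 147004) k)) 234 = true := by decide +kernel
theorem s2c462 : allBelow (fun k => fs2 (Nat.add (Nat.succ 147238) k)) 261 = true := by decide +kernel
theorem s2c463 : allBelow (fun k => fs2 (Nat.add (Nat.succ 147499) k)) 269 = true := by decide +kernel
theorem s2c464 : allBelow (fun k => fs2 (Nat.add (Nat.succ 147768) k)) 276 = true := by decide +kernel
theorem s2c465 : allBelow (fun k => fs2 (Nat.add (Nat.succ 148044) k)) 265 = true := by decide +kernel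
theorem s2c466 : allBelow (fun k => fs2 (Nat.add (Nat.succ 148309) k)) 272 = true := by decide +kernel
theorem s2c467 : allBelow (fun k => fs2 (Nat.add (Nat.succ 148581) k)) 284 = true := by decide +kernel
theorem s2c468 : allBelow (fun k => fs2 (Nat.add (Nat.succ 148865) k)) 280 = true := by decide +kernel
theorem s2c469 : allBelow (fun k => fs2 (Nat.add (Nat.succ 149145) k)) 252 = true := by decide +kernel
theorem s2c470 : allBelow (fun k => fs2 (Nat.add (Nat.succ 149397) k)) 262 = true := by decide +kernel
theorem s2c471 : allBelow (fun k => fs2 (Nat.add (Nat.succ 149659) k)) 262 = true := by decide +kernel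
theorem s2c472 : allBelow (fun k => fs2 (Nat.add (Nat.succ 149921) k)) 273 = true := by decide +kernel
theorem s2c473 : allBelow (fun k => fs2 (Nat.add (Nat.succ 150194) k)) 272 = true := by decide +kernel
theorem s2c474 : allBelow (fun k => fs2 (Nat.add (Nat.succ 150466) k)) 276 = true := by decide +kernel
theorem s2c475 : allBelow (fun k => fs2 (Nat.add (Nat.succ 150742) k)) 274 = true := by decide +kernel
theorem s2c476 : allBelow (fun k => fs2 (Nat.add (Nat.succ 151016) k)) 259 = true := by decide +kernel
theorem s2c477 : allBelow (fun k => fs2 (Nat.add (Nat.succ 151275) k)) 259 = true := by decide +kernel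
theorem s2c478 : allBelow (fun k => fs2 (Nat.add (Nat.succ 151534) k)) 247 = true := by decide +kernel
theorem s2c479 : allBelow (fun k => fs2 (Nat.add (Nat.succ 151781) k)) 273 = true := by decide +kernel
theorem s2c480 : allBelow (fun k => fs2 (Nat.add (Nat.succ 152054) k)) 269 = true := by decide +kernel
theorem s2c481 : allBelow (fun k => fs2 (Nat.add (Nat.succ 152323) k)) 242 = true := by decide +kernel
theorem s2c482 : allBelow (fun k => fs2 (Nat.add (Nat.succ 152565) k)) 270 = true := by decide +kernel
theorem s2c483 : allBelow (fun k => fs2 (Nat.add (Nat.succ 152835) k)) 265 = true := by decide +kernel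
theorem s2c484 : allBelow (fun k => fs2 (Nat.add (Nat.succ 153100) k)) 268 = true := by decide +kernel
theorem s2c485 : allBelow (fun k => fs2 (Nat.add (Nat.succ 153368) k)) 277 = true := by decide +kernel
theorem s2c486 : allBelow (fun k => fs2 (Nat.add (Nat.succ 153645) k)) 274 = true := by decide +kernel
theorem s2c487 : allBelow (fun k => fs2 (Nat.add (Nat.succ 153919) k)) 272 = true := by decide +kernel
theorem s2c488 : allBelow (fun k => fs2 (Nat.add (Nat.succ 154191) k)) 272 = true := by decide +kernel
theorem s2c489 : allBelow (fun k => fs2 (Nat.add (Nat.succ 154463) k)) 273 = true := by decide +kernel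
theorem s2c490 : allBelow (fun k => fs2 (Nat.add (Nat.succ 154736) k)) 263 = true := by decide +kernel
theorem s2c491 : allBelow (fun k => fs2 (Nat.add (Nat.succ 154999) k)) 250 = true := by decide +kernel
theorem s2c492 : allBelow (fun k => fs2 (Nat.add (Nat.succ 155249) k)) 259 = true := by decide +kernel
theorem s2c493 : allBelow (fun k => fs2 (Nat.add (Nat.succ 155508) k)) 259 = true := by decide +kernel
theorem s2c494 : allBelow (fun k => fs2 (Nat.add (Nat.succ 155767) k)) 260 = true := by decide +kernel
theorem s2c495 : allBelow (fun k => fs2 (Nat.add (Nat.succ 156027) k)) 288 = true := by decide +kernel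
theorem s2c496 : allBelow (fun k => fs2 (Nat.add (Nat.succ 156315) k)) 261 = true := by decide +kernel
theorem s2c497 : allBelow (fun k => fs2 (Nat.add (Nat.succ 156576) k)) 266 = true := by decide +kernel
theorem s2c498 : allBelow (fun k => fs2 (Nat.add (Nat.succ 156842) k)) 262 = true := by decide +kernel
theorem s2c499 : allBelow (fun k => fs2 (Nat.add (Nat.succ 157104) k)) 276 = true := by decide +kernel
theorem s2c500 : allBelow (fun k => fs2 (Nat.add (Nat.succ 157380) k)) 249 = true := by decide +kernel
theorem s2c501 : allBelow (fun k => fs2 (Nat.add (Nat.succ 157629) k)) 257 = true := by decide +kernel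
theorem s2c502 : allBelow (fun k => fs2 (Nat.add (Nat.succ 157886) k)) 241 = true := by decide +kernel
theorem s2c503 : allBelow (fun k => fs2 (Nat.add (Nat.succ 158127) k)) 258 = true := by decide +kernel
theorem s2c504 : allBelow (fun k => fs2 (Nat.add (Nat.succ 158385) k)) 267 = true := by decide +kernel
theorem s2c505 : allBelow (fun k => fs2 (Nat.add (Nat.succ 158652) k)) 266 = true := by decide +kernel
theorem s2c506 : allBelow (fun k => fs2 (Nat.add (Nat.succ 158918) k)) 262 = true := by decide +kernel
theorem s2c507 : allBelow (fun k => fs2 (Nat.add (Nat.succ 159180) k)) 250 = true := by decide +kernel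
theorem s2c508 : allBelow (fun k => fs2 (Nat.add (Nat.succ 159430) k)) 247 = true := by decide +kernel
theorem s2c509 : allBelow (fun k => fs2 (Nat.add (Nat.succ 159677) k)) 259 = true := by decide +kernel
theorem s2c510 : allBelow (fun k => fs2 (Nat.add (Nat.succ 159936) k)) 256 = true := by decide +kernel
theorem s2c511 : allBelow (fun k => fs2 (Nat.add (Nat.succ 160192) k)) 261 = true := by decide +kernel
theorem s2c512 : allBelow (fun k => fs2 (Nat.add (Nat.succ 160453) k)) 245 = true := by decide +kernel
theorem s2c513 : allBelow (fun k => fs2 (Nat.add (Nat.succ 160698) k)) 250 = true := by decide +kernel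
theorem s2c514 : allBelow (fun k => fs2 (Nat.add (Nat.succ 160948) k)) 236 = true := by decide +kernel
theorem s2c515 : allBelow (fun k => fs2 (Nat.add (Nat.succ 161184) k)) 274 = true := by decide +kernel
theorem s2c516 : allBelow (fun k => fs2 (Nat.add (Nat.succ 161458) k)) 277 = true := by decide +kernel
theorem s2c517 : allBelow (fun k => fs2 (Nat.add (Nat.succ 161735) k)) 275 = true := by decide +kernel
theorem s2c518 : allBelow (fun k => fs2 (Nat.add (Nat.succ 162010) k)) 277 = true := by decide +kernel
theorem s2c519 : allBelow (fun k => fs2 (Nat.add (Nat.succ 162287) k)) 256 = true := by decide +kernel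
theorem s2c520 : allBelow (fun k => fs2 (Nat.add (Nat.succ 162543) k)) 245 = true := by decide +kernel
theorem s2c521 : allBelow (fun k => fs2 (Nat.add (Nat.succ 162788) k)) 272 = true := by decide +kernel
theorem s2c522 : allBelow (fun k => fs2 (Nat.add (Nat.succ 163060) k)) 243 = true := by decide +kernel
theorem s2c523 : allBelow (fun k => fs2 (Nat.add (Nat.succ 163303) k)) 278 = true := by decide +kernel
theorem s2c524 : allBelow (fun k => fs2 (Nat.add (Nat.succ 163581) k)) 279 = true := by decide +kernel
theorem s2c525 : allBelow (fun k => fs2 (Nat.add (Nat.succ 163860) k)) 278 = true := by decide +kernel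
theorem s2c526 : allBelow (fun k => fs2 (Nat.add (Nat.succ 164138) k)) 284 = true := by decide +kernel
theorem s2c527 : allBelow (fun k => fs2 (Nat.add (Nat.succ 164422) k)) 279 = true := by decide +kernel
theorem s2c528 : allBelow (fun k => fs2 (Nat.add (Nat.succ 164701) k)) 273 = true := by decide +kernel
theorem s2c529 : allBelow (fun k => fs2 (Nat.add (Nat.succ 164974) k)) 251 = true := by decide +kernel
theorem s2c530 : allBelow (fun k => fs2 (Nat.add (Nat.succ 165225) k)) 264 = true := by decide +kernel
theorem s2c531 : allBelow (fun k => fs2 (Nat.add (Nat.succ 165489) k)) 257 = true := by decide +kernel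
theorem s2c532 : allBelow (fun k => fs2 (Nat.add (Nat.succ 165746) k)) 259 = true := by decide +kernel
theorem s2c533 : allBelow (fun k => fs2 (Nat.add (Nat.succ 166005) k)) 246 = true := by decide +kernel
theorem s2c534 : allBelow (fun k => fs2 (Nat.add (Nat.succ 166251) k)) 259 = true := by decide +kernel
theorem s2c535 : allBelow (fun k => fs2 (Nat.add (Nat.succ 166510) k)) 270 = true := by decide +kernel
theorem s2c536 : allBelow (fun k => fs2 (Nat.add (Nat.succ 166780) k)) 274 = true := by decide +kernel
theorem s2c537 : allBelow (fun k => fs2 (Nat.add (Nat.succ 167054) k)) 268 = true := by decide +kernel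
theorem s2c538 : allBelow (fun k => fs2 (Nat.add (Nat.succ 167322) k)) 287 = true := by decide +kernel
theorem s2c539 : allBelow (fun k => fs2 (Nat.add (Nat.succ 167609) k)) 270 = true := by decide +kernel
theorem s2c540 : allBelow (fun k => fs2 (Nat.add (Nat.succ 167879) k)) 286 = true := by decide +kernel
theorem s2c541 : allBelow (fun k => fs2 (Nat.add (Nat.succ 168165) k)) 251 = true := by decide +kernel
theorem s2c542 : allBelow (fun k => fs2 (Nat.add (Nat.succ 168416) k)) 253 = true := by decide +kernel
theorem s2c543 : allBelow (fun k => fs2 (Nat.add (Nat.succ 168669) k)) 256 = true := by decide +kernel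
theorem s2c544 : allBelow (fun k => fs2 (Nat.add (Nat.succ 168925) k)) 269 = true := by decide +kernel
theorem s2c545 : allBelow (fun k => fs2 (Nat.add (Nat.succ 169194) k)) 269 = true := by decide +kernel
theorem s2c546 : allBelow (fun k => fs2 (Nat.add (Nat.succ 169463) k)) 280 = true := by decide +kernel
theorem s2c547 : allBelow (fun k => fs2 (Nat.add (Nat.succ 169743) k)) 286 = true := by decide +kernel
theorem s2c548 : allBelow (fun k => fs2 (Nat.add (Nat.succ 170029) k)) 264 = true := by decide +kernel
theorem s2c549 : allBelow (fun k => fs2 (Nat.add (Nat.succ 170293) k)) 263 = true := by decide +kernel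
theorem s2c550 : allBelow (fun k => fs2 (Nat.add (Nat.succ 170556) k)) 260 = true := by decide +kernel
theorem s2c551 : allBelow (fun k => fs2 (Nat.add (Nat.succ 170816) k)) 257 = true := by decide +kernel
theorem s2c552 : allBelow (fun k => fs2 (Nat.add (Nat.succ 171073) k)) 247 = true := by decide +kernel
theorem s2c553 : allBelow (fun k => fs2 (Nat.add (Nat.succ 171320) k)) 268 = true := by decide +kernel
theorem s2c554 : allBelow (fun k => fs2 (Nat.add (Nat.succ 171588) k)) 273 = true := by decide +kernel
theorem s2c555 : allBelow (fun k => fs2 (Nat.add (Nat.succ 171861) k)) 248 = true := by decide +kernel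
theorem s2c556 : allBelow (fun k => fs2 (Nat.add (Nat.succ 172109) k)) 259 = true := by decide +kernel
theorem s2c557 : allBelow (fun k => fs2 (Nat.add (Nat.succ 172368) k)) 268 = true := by decide +kernel
theorem s2c558 : allBelow (fun k => fs2 (Nat.add (Nat.succ 172636) k)) 276 = true := by decide +kernel
theorem s2c559 : allBelow (fun k => fs2 (Nat.add (Nat.succ 172912) k)) 261 = true := by decide +kernel
theorem s2c560 : allBelow (fun k => fs2 (Nat.add (Nat.succ 173173) k)) 276 = true := by decide +kernel
theorem s2c561 : allBelow (fun k => fs2 (Nat.add (Nat.succ 173449) k)) 269 = true := by decide +kernel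
theorem s2c562 : allBelow (fun k => fs2 (Nat.add (Nat.succ 173718) k)) 269 = true := by decide +kernel
theorem s2c563 : allBelow (fun k => fs2 (Nat.add (Nat.succ 173987) k)) 271 = true := by decide +kernel
theorem s2c564 : allBelow (fun k => fs2 (Nat.add (Nat.succ 174258) k)) 287 = true := by decide +kernel
theorem s2c565 : allBelow (fun k => fs2 (Nat.add (Nat.succ 174545) k)) 271 = true := by decide +kernel
theorem s2c566 : allBelow (fun k => fs2 (Nat.add (Nat.succ 174816) k)) 263 = true := by decide +kernel
theorem s2c567 : allBelow (fun k => fs2 (Nat.add (Nat.succ 175079) k)) 250 = true := by decide +kernel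
theorem s2c568 : allBelow (fun k => fs2 (Nat.add (Nat.succ 175329) k)) 261 = true := by decide +kernel
theorem s2c569 : allBelow (fun k => fs2 (Nat.add (Nat.succ 175590) k)) 259 = true := by decide +kernel
theorem s2c570 : allBelow (fun k => fs2 (Nat.add (Nat.succ 175849) k)) 279 = true := by decide +kernel
theorem s2c571 : allBelow (fun k => fs2 (Nat.add (Nat.succ 176128) k)) 275 = true := by decide +kernel
theorem s2c572 : allBelow (fun k => fs2 (Nat.add (Nat.succ 176403) k)) 270 = true := by decide +kernel
theorem s2c573 : allBelow (fun k => fs2 (Nat.add (Nat.succ 176673) k)) 263 = true := by decide +kernel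
theorem s2c574 : allBelow (fun k => fs2 (Nat.add (Nat.succ 176936) k)) 277 = true := by decide +kernel
theorem s2c575 : allBelow (fun k => fs2 (Nat.add (Nat.succ 177213) k)) 239 = true := by decide +kernel
theorem s2c576 : allBelow (fun k => fs2 (Nat.add (Nat.succ 177452) k)) 258 = true := by decide +kernel
theorem s2c577 : allBelow (fun k => fs2 (Nat.add (Nat.succ 177710) k)) 256 = true := by decide +kernel
theorem s2c578 : allBelow (fun k => fs2 (Nat.add (Nat.succ 177966) k)) 256 = true := by decide +kernel
theorem s2c579 : allBelow (fun k => fs2 (Nat.add (Nat.succ 178222) k)) 260 = true := by decide +kernel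
theorem s2c580 : allBelow (fun k => fs2 (Nat.add (Nat.succ 178482) k)) 262 = true := by decide +kernel
theorem s2c581 : allBelow (fun k => fs2 (Nat.add (Nat.succ 178744) k)) 245 = true := by decide +kernel
theorem s2c582 : allBelow (fun k => fs2 (Nat.add (Nat.succ 178989) k)) 253 = true := by decide +kernel
theorem s2c583 : allBelow (fun k => fs2 (Nat.add (Nat.succ 179242) k)) 244 = true := by decide +kernel
theorem s2c584 : allBelow (fun k => fs2 (Nat.add (Nat.succ 179486) k)) 261 = true := by decide +kernel
theorem s2c585 : allBelow (fun k => fs2 (Nat.add (Nat.succ 179747) k)) 264 = true := by decide +kernel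
theorem s2c586 : allBelow (fun k => fs2 (Nat.add (Nat.succ 180011) k)) 258 = true := by decide +kernel
theorem s2c587 : allBelow (fun k => fs2 (Nat.add (Nat.succ 180269) k)) 244 = true := by decide +kernel
theorem s2c588 : allBelow (fun k => fs2 (Nat.add (Nat.succ 180513) k)) 246 = true := by decide +kernel
theorem s2c589 : allBelow (fun k => fs2 (Nat.add (Nat.succ 180759) k)) 250 = true := by decide +kernel
theorem s2c590 : allBelow (fun k => fs2 (Nat.add (Nat.succ 181009) k)) 258 = true := by decide +kernel
theorem s2c591 : allBelow (fun k => fs2 (Nat.add (Nat.succ 181267) k)) 265 = true := by decide +kernel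
theorem s2c592 : allBelow (fun k => fs2 (Nat.add (Nat.succ 181532) k)) 269 = true := by decide +kernel
theorem s2c593 : allBelow (fun k => fs2 (Nat.add (Nat.succ 181801) k)) 274 = true := by decide +kernel
theorem s2c594 : allBelow (fun k => fs2 (Nat.add (Nat.succ 182075) k)) 269 = true := by decide +kernel
theorem s2c595 : allBelow (fun k => fs2 (Nat.add (Nat.succ 182344) k)) 276 = true := by decide +kernel
theorem s2c596 : allBelow (fun k => fs2 (Nat.add (Nat.succ 182620) k)) 249 = true := by decide +kernel
theorem s2c597 : allBelow (fun k => fs2 (Nat.add (Nat.succ 182869) k)) 256 = true := by decide +kernel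
theorem s2c598 : allBelow (fun k => fs2 (Nat.add (Nat.succ 183125) k)) 253 = true := by decide +kernel
theorem s2c599 : allBelow (fun k => fs2 (Nat.add (Nat.succ 183378) k)) 250 = true := by decide +kernel
theorem s2c600 : allBelow (fun k => fs2 (Nat.add (Nat.succ 183628) k)) 276 = true := by decide +kernel
theorem s2c601 : allBelow (fun k => fs2 (Nat.add (Nat.succ 183904) k)) 270 = true := by decide +kernel
theorem s2c602 : allBelow (fun k => fs2 (Nat.add (Nat.succ 184174) k)) 290 = true := by decide +kernel
theorem s2c603 : allBelow (fun k => fs2 (Nat.add (Nat.succ 184464) k)) 273 = true := by decide +kernel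
theorem s2c604 : allBelow (fun k => fs2 (Nat.add (Nat.succ 184737) k)) 275 = true := by decide +kernel
theorem s2c605 : allBelow (fun k => fs2 (Nat.add (Nat.succ 185012) k)) 277 = true := by decide +kernel
theorem s2c606 : allBelow (fun k => fs2 (Nat.add (Nat.succ 185289) k)) 266 = true := by decide +kernel
theorem s2c607 : allBelow (fun k => fs2 (Nat.add (Nat.succ 185555) k)) 255 = true := by decide +kernel
theorem s2c608 : allBelow (fun k => fs2 (Nat.add (Nat.succ 185810) k)) 259 = true := by decide +kernel
theorem s2c609 : allBelow (fun k => fs2 (Nat.add (Nat.succ 186069) k)) 262 = true := by decide +kernel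
theorem s2c610 : allBelow (fun k => fs2 (Nat.add (Nat.succ 186331) k)) 250 = true := by decide +kernel
theorem s2c611 : allBelow (fun k => fs2 (Nat.add (Nat.succ 186581) k)) 248 = true := by decide +kernel
theorem s2c612 : allBelow (fun k => fs2 (Nat.add (Nat.succ 186829) k)) 275 = true := by decide +kernel
theorem s2c613 : allBelow (fun k => fs2 (Nat.add (Nat.succ 187104) k)) 270 = true := by decide +kernel
theorem s2c614 : allBelow (fun k => fs2 (Nat.add (Nat.succ 187374) k)) 258 = true := by decide +kernel
theorem s2c615 : allBelow (fun k => fs2 (Nat.add (Nat.succ 187632) k)) 274 = true := by decide +kernel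
theorem s2c616 : allBelow (fun k => fs2 (Nat.add (Nat.succ 187906) k)) 281 = true := by decide +kernel
theorem s2c617 : allBelow (fun k => fs2 (Nat.add (Nat.succ 188187) k)) 286 = true := by decide +kernel
theorem s2c618 : allBelow (fun k => fs2 (Nat.add (Nat.succ 188473) k)) 275 = true := by decide +kernel
theorem s2c619 : allBelow (fun k => fs2 (Nat.add (Nat.succ 188748) k)) 244 = true := by decide +kernel
theorem s2c620 : allBelow (fun k => fs2 (Nat.add (Nat.succ 188992) k)) 249 = true := by decide +kernel
theorem s2c621 : allBelow (fun k => fs2 (Nat.add (Nat.succ 189241) k)) 266 = true := by decide +kernel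
theorem s2c622 : allBelow (fun k => fs2 (Nat.add (Nat.succ 189507) k)) 265 = true := by decide +kernel
theorem s2c623 : allBelow (fun k => fs2 (Nat.add (Nat.succ 189772) k)) 279 = true := by decide +kernel
theorem s2c624 : allBelow (fun k => fs2 (Nat.add (Nat.succ 190051) k)) 267 = true := by decide +kernel
theorem s2c625 : allBelow (fun k => fs2 (Nat.add (Nat.succ 190318) k)) 271 = true := by decide +kernel
theorem s2c626 : allBelow (fun k => fs2 (Nat.add (Nat.succ 190589) k)) 289 = true := by decide +kernel
theorem s2c627 : allBelow (fun k => fs2 (Nat.add (Nat.succ 190878) k)) 263 = true := by decide +kernel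
theorem s2c628 : allBelow (fun k => fs2 (Nat.add (Nat.succ 191141) k)) 270 = true := by decide +kernel
theorem s2c629 : allBelow (fun k => fs2 (Nat.add (Nat.succ 191411) k)) 250 = true := by decide +kernel
theorem s2c630 : allBelow (fun k => fs2 (Nat.add (Nat.succ 191661) k)) 268 = true := by decide +kernel
theorem s2c631 : allBelow (fun k => fs2 (Nat.add (Nat.succ 191929) k)) 244 = true := by decide +kernel
theorem s2c632 : allBelow (fun k => fs2 (Nat.add (Nat.succ 192173) k)) 264 = true := by decide +kernel
theorem s2c633 : allBelow (fun k => fs2 (Nat.add (Nat.succ 192437) k)) 270 = true := by decide +kernel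
theorem s2c634 : allBelow (fun k => fs2 (Nat.add (Nat.succ 192707) k)) 264 = true := by decide +kernel
theorem s2c635 : allBelow (fun k => fs2 (Nat.add (Nat.succ 192971) k)) 247 = true := by decide +kernel
theorem s2c636 : allBelow (fun k => fs2 (Nat.add (Nat.succ 193218) k)) 263 = true := by decide +kernel
theorem s2c637 : allBelow (fun k => fs2 (Nat.add (Nat.succ 193481) k)) 273 = true := by decide +kernel
theorem s2c638 : allBelow (fun k => fs2 (Nat.add (Nat.succ 193754) k)) 275 = true := by decide +kernel
theorem s2c639 : allBelow (fun k => fs2 (Nat.add (Nat.succ 194029) k)) 270 = true := by decide +kernel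
theorem s2c640 : allBelow (fun k => fs2 (Nat.add (Nat.succ 194299) k)) 266 = true := by decide +kernel
theorem s2c641 : allBelow (fun k => fs2 (Nat.add (Nat.succ 194565) k)) 274 = true := by decide +kernel
theorem s2c642 : allBelow (fun k => fs2 (Nat.add (Nat.succ 194839) k)) 266 = true := by decide +kernel
theorem s2c643 : allBelow (fun k => fs2 (Nat.add (Nat.succ 195105) k)) 269 = true := by decide +kernel
theorem s2c644 : allBelow (fun k => fs2 (Nat.add (Nat.succ 195374) k)) 279 = true := by decide +kernel
theorem s2c645 : allBelow (fun k => fs2 (Nat.add (Nat.succ 195653) k)) 273 = true := by decide +kernel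
theorem s2c646 : allBelow (fun k => fs2 (Nat.add (Nat.succ 195926) k)) 293 = true := by decide +kernel
theorem s2c647 : allBelow (fun k => fs2 (Nat.add (Nat.succ 196219) k)) 270 = true := by decide +kernel
theorem s2c648 : allBelow (fun k => fs2 (Nat.add (Nat.succ 196489) k)) 250 = true := by decide +kernel
theorem s2c649 : allBelow (fun k => fs2 (Nat.add (Nat.succ 196739) k)) 253 = true := by decide +kernel
theorem s2c650 : allBelow (fun k => fs2 (Nat.add (Nat.succ 196992) k)) 262 = true := by decide +kernel
theorem s2c651 : allBelow (fun k => fs2 (Nat.add (Nat.succ 197254) k)) 278 = true := by decide +kernel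
theorem s2c652 : allBelow (fun k => fs2 (Nat.add (Nat.succ 197532) k)) 285 = true := by decide +kernel
theorem s2c653 : allBelow (fun k => fs2 (Nat.add (Nat.succ 197817) k)) 275 = true := by decide +kernel
theorem s2c654 : allBelow (fun k => fs2 (Nat.add (Nat.succ 198092) k)) 271 = true := by decide +kernel
theorem s2c655 : allBelow (fun k => fs2 (Nat.add (Nat.succ 198363) k)) 267 = true := by decide +kernel
theorem s2c656 : allBelow (fun k => fs2 (Nat.add (Nat.succ 198630) k)) 245 = true := by decide +kernel
theorem s2c657 : allBelow (fun k => fs2 (Nat.add (Nat.succ 198875) k)) 253 = true := by decide +kernel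
theorem s2c658 : allBelow (fun k => fs2 (Nat.add (Nat.succ 199128) k)) 247 = true := by decide +kernel
theorem s2c659 : allBelow (fun k => fs2 (Nat.add (Nat.succ 199375) k)) 258 = true := by decide +kernel
theorem s2c660 : allBelow (fun k => fs2 (Nat.add (Nat.succ 199633) k)) 271 = true := by decide +kernel
theorem s2c661 : allBelow (fun k => fs2 (Nat.add (Nat.succ 199904) k)) 254 = true := by decide +kernel
theorem s2c662 : allBelow (fun k => fs2 (Nat.add (Nat.succ 200158) k)) 248 = true := by decide +kernel
theorem s2c663 : allBelow (fun k => fs2 (Nat.add (Nat.succ 200406) k)) 240 = true := by decide +kernel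
theorem s2c664 : allBelow (fun k => fs2 (Nat.add (Nat.succ 200646) k)) 253 = true := by decide +kernel
theorem s2c665 : allBelow (fun k => fs2 (Nat.add (Nat.succ 200899) k)) 266 = true := by decide +kernel
theorem s2c666 : allBelow (fun k => fs2 (Nat.add (Nat.succ 201165) k)) 260 = true := by decide +kernel

end Cfsg.Agent.Lib.Helper35.Fi24a
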