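import Cfsg.Agent.Lib.Helper35.Fi24a.Col0
import Cfsg.Agent.Lib.Helper35.Fi24a.Col1
import Cfsg.Agent.Lib.Helper35.Fi24a.Col2
import Cfsg.Agent.Lib.Helper35.Fi24a.Col3
import Cfsg.Agent.Lib.Helper35.Fi24a.Col4
import Cfsg.Agent.Lib.Helper35.Fi24a.Col5
import Cfsg.Agent.Lib.Helper35.Fi24a.Col6
import Cfsg.Agent.Lib.Helper35.Fi24a.Col7
import Cfsg.Agent.Lib.Helper35.Fi24a.Col8
import Cfsg.Agent.Lib.Helper35.Fi24a.Col9
import Cfsg.Agent.Lib.Helper35.Fi24a.Col10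
import Cfsg.Agent.Lib.Helper35.Fi24a.Col11
import Cfsg.Agent.Lib.Helper35.Fi24a.Col12
import Cfsg.Agent.Lib.Helper35.Fi24a.Col13
import Cfsg.Agent.Lib.Helper35.Fi24a.Col14
import Cfsg.Agent.Lib.Helper35.Fi24a.Col15
import Cfsg.Agent.Lib.Helper35.Fi24a.Col16
import Cfsg.Agent.Lib.Helper35.Fi24a.Col17
import Cfsg.Agent.Lib.Helper35.Fi24a.Col18
import Cfsg.Agent.Lib.Helper35.Fi24a.Col19
import Cfsg.Agent.Lib.Helper35.Fi24a.Col20
import Cfsg.Agent.Lib.Helper35.Fi24a.Col21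
import Cfsg.Agent.Lib.Helper35.Fi24a.Col22
import Cfsg.Agent.Lib.Helper35.Fi24a.Col23
import Cfsg.Agent.Lib.Helper35.Fi24a.Col24
import Cfsg.Agent.Lib.Helper35.Fi24a.Col25
import Cfsg.Agent.Lib.Helper35.Fi24a.Col26
import Cfsg.Agent.Lib.Helper35.Fi24a.Col27
import Cfsg.Agent.Lib.Helper35.Fi24a.Col28
import Cfsg.Agent.Lib.Helper35.Fi24a.Col29
import Cfsg.Agent.Lib.Helper35.Fi24a.Col30
import Cfsg.Agent.Lib.Helper35.Fi24a.Col31
import Cfsg.Agent.Lib.Helper35.Fi24a.Col32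
import Cfsg.Agent.Lib.Helper35.Fi24a.Col33
import Cfsg.Agent.Lib.Helper35.Fi24a.Col34
import Cfsg.Agent.Lib.Helper35.Fi24a.Col35
import Cfsg.Agent.Lib.Helper35.Fi24a.Col36
import Cfsg.Agent.Lib.Helper35.Fi24a.Col37
import Cfsg.Agent.Lib.Helper35.Fi24a.Col38
import Cfsg.Agent.Lib.Helper35.Fi24a.Col39
import Cfsg.Agent.Lib.Helper35.Fi24a.Col40
import Cfsg.Agent.Lib.Helper35.Fi24a.Col41
import Cfsg.Agent.Lib.Helper35.Fi24a.Col42
import Cfsg.Agent.Lib.Helper35.Fi24a.Col43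
import Cfsg.Agent.Lib.Helper35.Fi24a.Col44
import Cfsg.Agent.Lib.Helper35.Fi24a.Col45
import Cfsg.Agent.Lib.Helper35.Fi24a.Col46
import Cfsg.Agent.Lib.Helper35.Fi24a.Col47
import Cfsg.Agent.Lib.Helper35.Fi24a.Col48
import Cfsg.Agent.Lib.Helper35.Fi24a.Col49

namespace Cfsg.Agent.Lib.Helper35.Fi24a

open Cfsg.Agent.Lib.Helper35

theorem s0u0 : ∀ v, 1 ≤ v → v ≤ 262 → fs0 v = true := slots_step fs0 0 262 262 (slots_zero fs0) s0c0 rfl
theorem s0u1 : ∀ v, 1 ≤ v → v ≤ 539 → fs0 v = true := slots_step fs0 262 277 539 s0u0 s0c1 rfl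
theorem s0u2 : ∀ v, 1 ≤ v → v ≤ 803 → fs0 v = true := slots_step fs0 539 264 803 s0u1 s0c2 rfl
theorem s0u3 : ∀ v, 1 ≤ v → v ≤ 1072 → fs0 v = true := slots_step fs0 803 269 1072 s0u2 s0c3 rfl
theorem s0u4 : ∀ v, 1 ≤ v → v ≤ 1326 → fs0 v = true := slots_step fs0 1072 254 1326 s0u3 s0c4 rfl
theorem s0u5 : ∀ v, 1 ≤ v → v ≤ 1592 → fs0 v = true := slots_step fs0 1326 266 1592 s0u4 s0c5 rfl
theorem s0u6 : ∀ v, 1 ≤ v → v ≤ 1882 → fs0 v = true := slots_step fs0 1592 290 1882 s0u5 s0c6 rfl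
theorem s0u7 : ∀ v, 1 ≤ v → v ≤ 2139 → fs0 v = true := slots_step fs0 1882 257 2139 s0u6 s0c7 rfl
theorem s0u8 : ∀ v, 1 ≤ v → v ≤ 2412 → fs0 v = true := slots_step fs0 2139 273 2412 s0u7 s0c8 rfl
theorem s0u9 : ∀ v, 1 ≤ v → v ≤ 2723 → fs0 v = true := slots_step fs0 2412 311 2723 s0u8 s0c9 rfl
theorem s0u10 : ∀ v, 1 ≤ v → v ≤ 2959 → fs0 v = true := slots_step fs0 2723 236 2959 s0u9 s0c10 rfl
theorem s0u11 : ∀ v, 1 ≤ v → v ≤ 3236 → fs0 v = true := slots_step fs0 2959 277 3236 s0u10 s0c11 rfl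
theorem s0u12 : ∀ v, 1 ≤ v → v ≤ 3584 → fs0 v = true := slots_step fs0 3236 348 3584 s0u11 s0c12 rfl
theorem s0u13 : ∀ v, 1 ≤ v → v ≤ 3834 → fs0 v = true := slots_step fs0 3584 250 3834 s0u12 s0c13 rfl
theorem s0u14 : ∀ v, 1 ≤ v → v ≤ 4082 → fs0 v = true := slots_step fs0 3834 248 4082 s0u13 s0c14 rfl
theorem s0u15 : ∀ v, 1 ≤ v → v ≤ 4354 → fs0 v = true := slots_step fs0 4082 272 4354 s0u14 s0c15 rfl
theorem s0u16 : ∀ v, 1 ≤ v → v ≤ 4689 → fs0 v = true := slots_step fs0 4354 335 4689 s0u15 s0c16 rfl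
theorem s0u17 : ∀ v, 1 ≤ v → v ≤ 5041 → fs0 v = true := slots_step fs0 4689 352 5041 s0u16 s0c17 rfl
theorem s0u18 : ∀ v, 1 ≤ v → v ≤ 5288 → fs0 v = true := slots_step fs0 5041 247 5288 s0u17 s0c18 rfl
theorem s0u19 : ∀ v, 1 ≤ v → v ≤ 5555 → fs0 v = true := slots_step fs0 5288 267 5555 s0u18 s0c19 rfl
theorem s0u20 : ∀ v, 1 ≤ v → v ≤ 5808 → fs0 v = true := slots_step fs0 5555 253 5808 s0u19 s0c20 rfl
theorem s0u21 : ∀ v, 1 ≤ v → v ≤ 6108 → fs0 v = true := slots_step fs0 5808 300 6108 s0u20 s0c21 rfl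
theorem s0u22 : ∀ v, 1 ≤ v → v ≤ 6435 → fs0 v = true := slots_step fs0 6108 327 6435 s0u21 s0c22 rfl
theorem s0u23 : ∀ v, 1 ≤ v → v ≤ 6795 → fs0 v = true := slots_step fs0 6435 360 6795 s0u22 s0c23 rfl
theorem s0u24 : ∀ v, 1 ≤ v → v ≤ 7132 → fs0 v = true := slots_step fs0 6795 337 7132 s0u23 s0c24 rfl
theorem s0u25 : ∀ v, 1 ≤ v → v ≤ 7372 → fs0 v = true := slots_step fs0 7132 240 7372 s0u24 s0c25 rfl
theorem s0u26 : ∀ v, 1 ≤ v → v ≤ 7668 → fs0 v = true := slots_step fs0 7372 296 7668 s0u25 s0c26 rfl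
theorem s0u27 : ∀ v, 1 ≤ v → v ≤ 7908 → fs0 v = true := slots_step fs0 7668 240 7908 s0u26 s0c27 rfl
theorem s0u28 : ∀ v, 1 ≤ v → v ≤ 8175 → fs0 v = true := slots_step fs0 7908 267 8175 s0u27 s0c28 rfl
theorem s0u29 : ∀ v, 1 ≤ v → v ≤ 8508 → fs0 v = true := slots_step fs0 8175 333 8508 s0u28 s0c29 rfl
theorem s0u30 : ∀ v, 1 ≤ v → v ≤ 8831 → fs0 v = true := slots_step fs0 8508 323 8831 s0u29 s0c30 rfl
theorem s0u31 : ∀ v, 1 ≤ v → v ≤ 9180 → fs0 v = true := slots_step fs0 8831 349 9180 s0u30 s0c31 rfl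
theorem s0u32 : ∀ v, 1 ≤ v → v ≤ 9598 → fs0 v = true := slots_step fs0 9180 418 9598 s0u31 s0c32 rfl
theorem s0u33 : ∀ v, 1 ≤ v → v ≤ 9885 → fs0 v = true := slots_step fs0 9598 287 9885 s0u32 s0c33 rfl
theorem s0u34 : ∀ v, 1 ≤ v → v ≤ 10141 → fs0 v = true := slots_step fs0 9885 256 10141 s0u33 s0c34 rfl
theorem s0u35 : ∀ v, 1 ≤ v → v ≤ 10435 → fs0 v = true := slots_step fs0 10141 294 10435 s0u34 s0c35 rfl
theorem s0u36 : ∀ v, 1 ≤ v → v ≤ 10670 → fs0 v = true := slots_step fs0 10435 235 10670 s0u35 s0c36 rfl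
theorem s0u37 : ∀ v, 1 ≤ v → v ≤ 10911 → fs0 v = true := slots_step fs0 10670 241 10911 s0u36 s0c37 rfl
theorem s0u38 : ∀ v, 1 ≤ v → v ≤ 11157 → fs0 v = true := slots_step fs0 10911 246 11157 s0u37 s0c38 rfl
theorem s0u39 : ∀ v, 1 ≤ v → v ≤ 11449 → fs0 v = true := slots_step fs0 11157 292 11449 s0u38 s0c39 rfl
theorem s0u40 : ∀ v, 1 ≤ v → v ≤ 11772 → fs0 v = true := slots_step fs0 11449 323 11772 s0u39 s0c40 rfl
theorem s0u41 : ∀ v, 1 ≤ v → v ≤ 12078 → fs0 v = true := slots_step fs0 11772 306 12078 s0u40 s0c41 rfl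
theorem s0u42 : ∀ v, 1 ≤ v → v ≤ 12418 → fs0 v = true := slots_step fs0 12078 340 12418 s0u41 s0c42 rfl
theorem s0u43 : ∀ v, 1 ≤ v → v ≤ 12740 → fs0 v = true := slots_step fs0 12418 322 12740 s0u42 s0c43 rfl
theorem s0u44 : ∀ v, 1 ≤ v → v ≤ 12986 → fs0 v = true := slots_step fs0 12740 246 12986 s0u43 s0c44 rfl
theorem s0u45 : ∀ v, 1 ≤ v → v ≤ 13240 → fs0 v = true := slots_step fs0 12986 254 13240 s0u44 s0c45 rfl
theorem s0u46 : ∀ v, 1 ≤ v → v ≤ 13512 → fs0 v = true := slots_step fs0 13240 272 13512 s0u45 s0c46 rfl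
theorem s0u47 : ∀ v, 1 ≤ v → v ≤ 13750 → fs0 v = true := slots_step fs0 13512 238 13750 s0u46 s0c47 rfl
theorem s0u48 : ∀ v, 1 ≤ v → v ≤ 13992 → fs0 v = true := slots_step fs0 13750 242 13992 s0u47 s0c48 rfl
theorem s0u49 : ∀ v, 1 ≤ v → v ≤ 14235 → fs0 v = true := slots_step fs0 13992 243 14235 s0u48 s0c49 rfl
theorem s0u50 : ∀ v, 1 ≤ v → v ≤ 14517 → fs0 v = true := slots_step fs0 14235 282 14517 s0u49 s0c50 rfl
theorem s0u51 : ∀ v, 1 ≤ v → v ≤ 14818 → fs0 v = true := slots_step fs0 14517 301 14818 s0u50 s0c51 rfl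
theorem s0u52 : ∀ v, 1 ≤ v → v ≤ 15133 → fs0 v = true := slots_step fs0 14818 315 15133 s0u51 s0c52 rfl
theorem s0u53 : ∀ v, 1 ≤ v → v ≤ 15464 → fs0 v = true := slots_step fs0 15133 331 15464 s0u52 s0c53 rfl
theorem s0u54 : ∀ v, 1 ≤ v → v ≤ 15780 → fs0 v = true := slots_step fs0 15464 316 15780 s0u53 s0c54 rfl
theorem s0u55 : ∀ v, 1 ≤ v → v ≤ 16129 → fs0 v = true := slots_step fs0 15780 349 16129 s0u54 s0c55 rfl
theorem s0u56 : ∀ v, 1 ≤ v → v ≤ 16525 → fs0 v = true := slots_step fs0 16129 396 16525 s0u55 s0c56 rfl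
theorem s0u57 : ∀ v, 1 ≤ v → v ≤ 16781 → fs0 v = true := slots_step fs0 16525 256 16781 s0u56 s0c57 rfl
theorem s0u58 : ∀ v, 1 ≤ v → v ≤ 17060 → fs0 v = true := slots_step fs0 16781 279 17060 s0u57 s0c58 rfl
theorem s0u59 : ∀ v, 1 ≤ v → v ≤ 17345 → fs0 v = true := slots_step fs0 17060 285 17345 s0u58 s0c59 rfl
theorem s0u60 : ∀ v, 1 ≤ v → v ≤ 17636 → fs0 v = true := slots_step fs0 17345 291 17636 s0u59 s0c60 rfl
theorem s0u61 : ∀ v, 1 ≤ v → v ≤ 17872 → fs0 v = true := slots_step fs0 17636 236 17872 s0u60 s0c61 rfl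
theorem s0u62 : ∀ v, 1 ≤ v → v ≤ 18127 → fs0 v = true := slots_step fs0 17872 255 18127 s0u61 s0c62 rfl
theorem s0u63 : ∀ v, 1 ≤ v → v ≤ 18390 → fs0 v = true := slots_step fs0 18127 263 18390 s0u62 s0c63 rfl
theorem s0u64 : ∀ v, 1 ≤ v → v ≤ 18636 → fs0 v = true := slots_step fs0 18390 246 18636 s0u63 s0c64 rfl
theorem s0u65 : ∀ v, 1 ≤ v → v ≤ 18925 → fs0 v = true := slots_step fs0 18636 289 18925 s0u64 s0c65 rfl
theorem s0u66 : ∀ v, 1 ≤ v → v ≤ 19213 → fs0 v = true := slots_step fs0 18925 288 19213 s0u65 s0c66 rfl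
theorem s0u67 : ∀ v, 1 ≤ v → v ≤ 19537 → fs0 v = true := slots_step fs0 19213 324 19537 s0u66 s0c67 rfl
theorem s0u68 : ∀ v, 1 ≤ v → v ≤ 19844 → fs0 v = true := slots_step fs0 19537 307 19844 s0u67 s0c68 rfl
theorem s0u69 : ∀ v, 1 ≤ v → v ≤ 20191 → fs0 v = true := slots_step fs0 19844 347 20191 s0u68 s0c69 rfl
theorem s0u70 : ∀ v, 1 ≤ v → v ≤ 20536 → fs0 v = true := slots_step fs0 20191 345 20536 s0u69 s0c70 rfl
theorem s0u71 : ∀ v, 1 ≤ v → v ≤ 20852 → fs0 v = true := slots_step fs0 20536 316 20852 s0u70 s0c71 rfl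
theorem s0u72 : ∀ v, 1 ≤ v → v ≤ 21219 → fs0 v = true := slots_step fs0 20852 367 21219 s0u71 s0c72 rfl
theorem s0u73 : ∀ v, 1 ≤ v → v ≤ 21628 → fs0 v = true := slots_step fs0 21219 409 21628 s0u72 s0c73 rfl
theorem s0u74 : ∀ v, 1 ≤ v → v ≤ 22004 → fs0 v = true := slots_step fs0 21628 376 22004 s0u73 s0c74 rfl
theorem s0u75 : ∀ v, 1 ≤ v → v ≤ 22250 → fs0 v = true := slots_step fs0 22004 246 22250 s0u74 s0c75 rfl
theorem s0u76 : ∀ v, 1 ≤ v → v ≤ 22592 → fs0 v = true := slots_step fs0 22250 342 22592 s0u75 s0c76 rfl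
theorem s0u77 : ∀ v, 1 ≤ v → v ≤ 22859 → fs0 v = true := slots_step fs0 22592 267 22859 s0u76 s0c77 rfl
theorem s0u78 : ∀ v, 1 ≤ v → v ≤ 23219 → fs0 v = true := slots_step fs0 22859 360 23219 s0u77 s0c78 rfl
theorem s0u79 : ∀ v, 1 ≤ v → v ≤ 23460 → fs0 v = true := slots_step fs0 23219 241 23460 s0u78 s0c79 rfl
theorem s0u80 : ∀ v, 1 ≤ v → v ≤ 23696 → fs0 v = true := slots_step fs0 23460 236 23696 s0u79 s0c80 rfl
theorem s0u81 : ∀ v, 1 ≤ v → v ≤ 23957 → fs0 v = true := slots_step fs0 23696 261 23957 s0u80 s0c81 rfl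
theorem s0u82 : ∀ v, 1 ≤ v → v ≤ 24243 → fs0 v = true := slots_step fs0 23957 286 24243 s0u81 s0c82 rfl
theorem s0u83 : ∀ v, 1 ≤ v → v ≤ 24527 → fs0 v = true := slots_step fs0 24243 284 24527 s0u82 s0c83 rfl
theorem s0u84 : ∀ v, 1 ≤ v → v ≤ 24772 → fs0 v = true := slots_step fs0 24527 245 24772 s0u83 s0c84 rfl
theorem s0u85 : ∀ v, 1 ≤ v → v ≤ 25077 → fs0 v = true := slots_step fs0 24772 305 25077 s0u84 s0c85 rfl
theorem s0u86 : ∀ v, 1 ≤ v → v ≤ 25370 → fs0 v = true := slots_step fs0 25077 293 25370 s0u85 s0c86 rfl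
theorem s0u87 : ∀ v, 1 ≤ v → v ≤ 25693 → fs0 v = true := slots_step fs0 25370 323 25693 s0u86 s0c87 rfl
theorem s0u88 : ∀ v, 1 ≤ v → v ≤ 26015 → fs0 v = true := slots_step fs0 25693 322 26015 s0u87 s0c88 rfl
theorem s0u89 : ∀ v, 1 ≤ v → v ≤ 26320 → fs0 v = true := slots_step fs0 26015 305 26320 s0u88 s0c89 rfl
theorem s0u90 : ∀ v, 1 ≤ v → v ≤ 26673 → fs0 v = true := slots_step fs0 26320 353 26673 s0u89 s0c90 rfl
theorem s0u91 : ∀ v, 1 ≤ v → v ≤ 27028 → fs0 v = true := slots_step fs0 26673 355 27028 s0u90 s0c91 rfl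
theorem s0u92 : ∀ v, 1 ≤ v → v ≤ 27406 → fs0 v = true := slots_step fs0 27028 378 27406 s0u91 s0c92 rfl
theorem s0u93 : ∀ v, 1 ≤ v → v ≤ 27731 → fs0 v = true := slots_step fs0 27406 325 27731 s0u92 s0c93 rfl
theorem s0u94 : ∀ v, 1 ≤ v → v ≤ 28035 → fs0 v = true := slots_step fs0 27731 304 28035 s0u93 s0c94 rfl
theorem s0u95 : ∀ v, 1 ≤ v → v ≤ 28468 → fs0 v = true := slots_step fs0 28035 433 28468 s0u94 s0c95 rfl
theorem s0u96 : ∀ v, 1 ≤ v → v ≤ 28963 → fs0 v = true := slots_step fs0 28468 495 28963 s0u95 s0c96 rfl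
theorem s0u97 : ∀ v, 1 ≤ v → v ≤ 29334 → fs0 v = true := slots_step fs0 28963 371 29334 s0u96 s0c97 rfl
theorem s0u98 : ∀ v, 1 ≤ v → v ≤ 29582 → fs0 v = true := slots_step fs0 29334 248 29582 s0u97 s0c98 rfl
theorem s0u99 : ∀ v, 1 ≤ v → v ≤ 29910 → fs0 v = true := slots_step fs0 29582 328 29910 s0u98 s0c99 rfl
theorem s0u100 : ∀ v, 1 ≤ v → v ≤ 30296 → fs0 v = true := slots_step fs0 29910 386 30296 s0u99 s0c100 rfl
theorem s0u101 : ∀ v, 1 ≤ v → v ≤ 30578 → fs0 v = true := slots_step fs0 30296 282 30578 s0u100 s0c101 rfl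
theorem s0u102 : ∀ v, 1 ≤ v → v ≤ 30989 → fs0 v = true := slots_step fs0 30578 411 30989 s0u101 s0c102 rfl
theorem s0u103 : ∀ v, 1 ≤ v → v ≤ 31232 → fs0 v = true := slots_step fs0 30989 243 31232 s0u102 s0c103 rfl
theorem s0u104 : ∀ v, 1 ≤ v → v ≤ 31481 → fs0 v = true := slots_step fs0 31232 249 31481 s0u103 s0c104 rfl
theorem s0u105 : ∀ v, 1 ≤ v → v ≤ 31716 → fs0 v = true := slots_step fs0 31481 235 31716 s0u104 s0c105 rfl
theorem s0u106 : ∀ v, 1 ≤ v → v ≤ 31962 → fs0 v = true := slots_step fs0 31716 246 31962 s0u105 s0c106 rfl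
theorem s0u107 : ∀ v, 1 ≤ v → v ≤ 32290 → fs0 v = true := slots_step fs0 31962 328 32290 s0u106 s0c107 rfl
theorem s0u108 : ∀ v, 1 ≤ v → v ≤ 32587 → fs0 v = true := slots_step fs0 32290 297 32587 s0u107 s0c108 rfl
theorem s0u109 : ∀ v, 1 ≤ v → v ≤ 32895 → fs0 v = true := slots_step fs0 32587 308 32895 s0u108 s0c109 rfl
theorem s0u110 : ∀ v, 1 ≤ v → v ≤ 33155 → fs0 v = true := slots_step fs0 32895 260 33155 s0u109 s0c110 rfl
theorem s0u111 : ∀ v, 1 ≤ v → v ≤ 33411 → fs0 v = true := slots_step fs0 33155 256 33411 s0u110 s0c111 rfl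
theorem s0u112 : ∀ v, 1 ≤ v → v ≤ 33780 → fs0 v = true := slots_step fs0 33411 369 33780 s0u111 s0c112 rfl
theorem s0u113 : ∀ v, 1 ≤ v → v ≤ 34085 → fs0 v = true := slots_step fs0 33780 305 34085 s0u112 s0c113 rfl
theorem s0u114 : ∀ v, 1 ≤ v → v ≤ 34407 → fs0 v = true := slots_step fs0 34085 322 34407 s0u113 s0c114 rfl
theorem s0u115 : ∀ v, 1 ≤ v → v ≤ 34745 → fs0 v = true := slots_step fs0 34407 338 34745 s0u114 s0c115 rfl
theorem s0u116 : ∀ v, 1 ≤ v → v ≤ 35072 → fs0 v = true := slots_step fs0 34745 327 35072 s0u115 s0c116 rfl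
theorem s0u117 : ∀ v, 1 ≤ v → v ≤ 35376 → fs0 v = true := slots_step fs0 35072 304 35376 s0u116 s0c117 rfl
theorem s0u118 : ∀ v, 1 ≤ v → v ≤ 35687 → fs0 v = true := slots_step fs0 35376 311 35687 s0u117 s0c118 rfl
theorem s0u119 : ∀ v, 1 ≤ v → v ≤ 36091 → fs0 v = true := slots_step fs0 35687 404 36091 s0u118 s0c119 rfl
theorem s0u120 : ∀ v, 1 ≤ v → v ≤ 36453 → fs0 v = true := slots_step fs0 36091 362 36453 s0u119 s0c120 rfl
theorem s0u121 : ∀ v, 1 ≤ v → v ≤ 36839 → fs0 v = true := slots_step fs0 36453 386 36839 s0u120 s0c121 rfl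
theorem s0u122 : ∀ v, 1 ≤ v → v ≤ 37218 → fs0 v = true := slots_step fs0 36839 379 37218 s0u121 s0c122 rfl
theorem s0u123 : ∀ v, 1 ≤ v → v ≤ 37562 → fs0 v = true := slots_step fs0 37218 344 37562 s0u122 s0c123 rfl
theorem s0u124 : ∀ v, 1 ≤ v → v ≤ 37874 → fs0 v = true := slots_step fs0 37562 312 37874 s0u123 s0c124 rfl
theorem s0u125 : ∀ v, 1 ≤ v → v ≤ 38358 → fs0 v = true := slots_step fs0 37874 484 38358 s0u124 s0c125 rfl
theorem s0u126 : ∀ v, 1 ≤ v → v ≤ 38852 → fs0 v = true := slots_step fs0 38358 494 38852 s0u125 s0c126 rfl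
theorem s0u127 : ∀ v, 1 ≤ v → v ≤ 39371 → fs0 v = true := slots_step fs0 38852 519 39371 s0u126 s0c127 rfl
theorem s0u128 : ∀ v, 1 ≤ v → v ≤ 39648 → fs0 v = true := slots_step fs0 39371 277 39648 s0u127 s0c128 rfl
theorem s0u129 : ∀ v, 1 ≤ v → v ≤ 39890 → fs0 v = true := slots_step fs0 39648 242 39890 s0u128 s0c129 rfl
theorem s0u130 : ∀ v, 1 ≤ v → v ≤ 40221 → fs0 v = true := slots_step fs0 39890 331 40221 s0u129 s0c130 rfl
theorem s0u131 : ∀ v, 1 ≤ v → v ≤ 40667 → fs0 v = true := slots_step fs0 40221 446 40667 s0u130 s0c131 rfl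
theorem s0u132 : ∀ v, 1 ≤ v → v ≤ 41054 → fs0 v = true := slots_step fs0 40667 387 41054 s0u131 s0c132 rfl
theorem s0u133 : ∀ v, 1 ≤ v → v ≤ 41480 → fs0 v = true := slots_step fs0 41054 426 41480 s0u132 s0c133 rfl
theorem s0u134 : ∀ v, 1 ≤ v → v ≤ 41816 → fs0 v = true := slots_step fs0 41480 336 41816 s0u133 s0c134 rfl
theorem s0u135 : ∀ v, 1 ≤ v → v ≤ 42071 → fs0 v = true := slots_step fs0 41816 255 42071 s0u134 s0c135 rfl
theorem s0u136 : ∀ v, 1 ≤ v → v ≤ 42316 → fs0 v = true := slots_step fs0 42071 245 42316 s0u135 s0c136 rfl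
theorem s0u137 : ∀ v, 1 ≤ v → v ≤ 42576 → fs0 v = true := slots_step fs0 42316 260 42576 s0u136 s0c137 rfl
theorem s0u138 : ∀ v, 1 ≤ v → v ≤ 42818 → fs0 v = true := slots_step fs0 42576 242 42818 s0u137 s0c138 rfl
theorem s0u139 : ∀ v, 1 ≤ v → v ≤ 43061 → fs0 v = true := slots_step fs0 42818 243 43061 s0u138 s0c139 rfl
theorem s0u140 : ∀ v, 1 ≤ v → v ≤ 43379 → fs0 v = true := slots_step fs0 43061 318 43379 s0u139 s0c140 rfl
theorem s0u141 : ∀ v, 1 ≤ v → v ≤ 43705 → fs0 v = true := slots_step fs0 43379 326 43705 s0u140 s0c141 rfl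
theorem s0u142 : ∀ v, 1 ≤ v → v ≤ 44012 → fs0 v = true := slots_step fs0 43705 307 44012 s0u141 s0c142 rfl
theorem s0u143 : ∀ v, 1 ≤ v → v ≤ 44393 → fs0 v = true := slots_step fs0 44012 381 44393 s0u142 s0c143 rfl
theorem s0u144 : ∀ v, 1 ≤ v → v ≤ 44648 → fs0 v = true := slots_step fs0 44393 255 44648 s0u143 s0c144 rfl
theorem s0u145 : ∀ v, 1 ≤ v → v ≤ 44919 → fs0 v = true := slots_step fs0 44648 271 44919 s0u144 s0c145 rfl
theorem s0u146 : ∀ v, 1 ≤ v → v ≤ 45197 → fs0 v = true := slots_step fs0 44919 278 45197 s0u145 s0c146 rfl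
theorem s0u147 : ∀ v, 1 ≤ v → v ≤ 45618 → fs0 v = true := slots_step fs0 45197 421 45618 s0u146 s0c147 rfl
theorem s0u148 : ∀ v, 1 ≤ v → v ≤ 45980 → fs0 v = true := slots_step fs0 45618 362 45980 s0u147 s0c148 rfl
theorem s0u149 : ∀ v, 1 ≤ v → v ≤ 46273 → fs0 v = true := slots_step fs0 45980 293 46273 s0u148 s0c149 rfl
theorem s0u150 : ∀ v, 1 ≤ v → v ≤ 46602 → fs0 v = true := slots_step fs0 46273 329 46602 s0u149 s0c150 rfl
theorem s0u151 : ∀ v, 1 ≤ v → v ≤ 46938 → fs0 v = true := slots_step fs0 46602 336 46938 s0u150 s0c151 rfl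
theorem s0u152 : ∀ v, 1 ≤ v → v ≤ 47286 → fs0 v = true := slots_step fs0 46938 348 47286 s0u151 s0c152 rfl
theorem s0u153 : ∀ v, 1 ≤ v → v ≤ 47600 → fs0 v = true := slots_step fs0 47286 314 47600 s0u152 s0c153 rfl
theorem s0u154 : ∀ v, 1 ≤ v → v ≤ 47905 → fs0 v = true := slots_step fs0 47600 305 47905 s0u153 s0c154 rfl
theorem s0u155 : ∀ v, 1 ≤ v → v ≤ 48219 → fs0 v = true := slots_step fs0 47905 314 48219 s0u154 s0c155 rfl
theorem s0u156 : ∀ v, 1 ≤ v → v ≤ 48579 → fs0 v = true := slots_step fs0 48219 360 48579 s0u155 s0c156 rfl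
theorem s0u157 : ∀ v, 1 ≤ v → v ≤ 49001 → fs0 v = true := slots_step fs0 48579 422 49001 s0u156 s0c157 rfl
theorem s0u158 : ∀ v, 1 ≤ v → v ≤ 49370 → fs0 v = true := slots_step fs0 49001 369 49370 s0u157 s0c158 rfl
theorem s0u159 : ∀ v, 1 ≤ v → v ≤ 49769 → fs0 v = true := slots_step fs0 49370 399 49769 s0u158 s0c159 rfl
theorem s0u160 : ∀ v, 1 ≤ v → v ≤ 50252 → fs0 v = true := slots_step fs0 49769 483 50252 s0u159 s0c160 rfl
theorem s0u161 : ∀ v, 1 ≤ v → v ≤ 50593 → fs0 v = true := slots_step fs0 50252 341 50593 s0u160 s0c161 rfl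
theorem s0u162 : ∀ v, 1 ≤ v → v ≤ 50945 → fs0 v = true := slots_step fs0 50593 352 50945 s0u161 s0c162 rfl
theorem s0u163 : ∀ v, 1 ≤ v → v ≤ 51261 → fs0 v = true := slots_step fs0 50945 316 51261 s0u162 s0c163 rfl
theorem s0u164 : ∀ v, 1 ≤ v → v ≤ 51696 → fs0 v = true := slots_step fs0 51261 435 51696 s0u163 s0c164 rfl
theorem s0u165 : ∀ v, 1 ≤ v → v ≤ 52215 → fs0 v = true := slots_step fs0 51696 519 52215 s0u164 s0c165 rfl
theorem s0u166 : ∀ v, 1 ≤ v → v ≤ 52820 → fs0 v = true := slots_step fs0 52215 605 52820 s0u165 s0c166 rfl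
theorem s0u167 : ∀ v, 1 ≤ v → v ≤ 53263 → fs0 v = true := slots_step fs0 52820 443 53263 s0u166 s0c167 rfl
theorem s0u168 : ∀ v, 1 ≤ v → v ≤ 53535 → fs0 v = true := slots_step fs0 53263 272 53535 s0u167 s0c168 rfl
theorem s0u169 : ∀ v, 1 ≤ v → v ≤ 53827 → fs0 v = true := slots_step fs0 53535 292 53827 s0u168 s0c169 rfl
theorem s0u170 : ∀ v, 1 ≤ v → v ≤ 54102 → fs0 v = true := slots_step fs0 53827 275 54102 s0u169 s0c170 rfl
theorem s0u171 : ∀ v, 1 ≤ v → v ≤ 54498 → fs0 v = true := slots_step fs0 54102 396 54498 s0u170 s0c171 rfl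
theorem s0u172 : ∀ v, 1 ≤ v → v ≤ 55020 → fs0 v = true := slots_step fs0 54498 522 55020 s0u171 s0c172 rfl
theorem s0u173 : ∀ v, 1 ≤ v → v ≤ 55445 → fs0 v = true := slots_step fs0 55020 425 55445 s0u172 s0c173 rfl
theorem s0u174 : ∀ v, 1 ≤ v → v ≤ 55881 → fs0 v = true := slots_step fs0 55445 436 55881 s0u173 s0c174 rfl
theorem s0u175 : ∀ v, 1 ≤ v → v ≤ 56355 → fs0 v = true := slots_step fs0 55881 474 56355 s0u174 s0c175 rfl
theorem s0u176 : ∀ v, 1 ≤ v → v ≤ 56600 → fs0 v = true := slots_step fs0 56355 245 56600 s0u175 s0c176 rfl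
theorem s0u177 : ∀ v, 1 ≤ v → v ≤ 56873 → fs0 v = true := slots_step fs0 56600 273 56873 s0u176 s0c177 rfl
theorem s0u178 : ∀ v, 1 ≤ v → v ≤ 57110 → fs0 v = true := slots_step fs0 56873 237 57110 s0u177 s0c178 rfl
theorem s0u179 : ∀ v, 1 ≤ v → v ≤ 57380 → fs0 v = true := slots_step fs0 57110 270 57380 s0u178 s0c179 rfl
theorem s0u180 : ∀ v, 1 ≤ v → v ≤ 57643 → fs0 v = true := slots_step fs0 57380 263 57643 s0u179 s0c180 rfl
theorem s0u181 : ∀ v, 1 ≤ v → v ≤ 57881 → fs0 v = true := slots_step fs0 57643 238 57881 s0u180 s0c181 rfl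
theorem s0u182 : ∀ v, 1 ≤ v → v ≤ 58129 → fs0 v = true := slots_step fs0 57881 248 58129 s0u181 s0c182 rfl
theorem s0u183 : ∀ v, 1 ≤ v → v ≤ 58418 → fs0 v = true := slots_step fs0 58129 289 58418 s0u182 s0c183 rfl
theorem s0u184 : ∀ v, 1 ≤ v → v ≤ 58740 → fs0 v = true := slots_step fs0 58418 322 58740 s0u183 s0c184 rfl
theorem s0u185 : ∀ v, 1 ≤ v → v ≤ 59100 → fs0 v = true := slots_step fs0 58740 360 59100 s0u184 s0c185 rfl
theorem s0u186 : ∀ v, 1 ≤ v → v ≤ 59432 → fs0 v = true := slots_step fs0 59100 332 59432 s0u185 s0c186 rfl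
theorem s0u187 : ∀ v, 1 ≤ v → v ≤ 59777 → fs0 v = true := slots_step fs0 59432 345 59777 s0u186 s0c187 rfl
theorem s0u188 : ∀ v, 1 ≤ v → v ≤ 60158 → fs0 v = true := slots_step fs0 59777 381 60158 s0u187 s0c188 rfl
theorem s0u189 : ∀ v, 1 ≤ v → v ≤ 60421 → fs0 v = true := slots_step fs0 60158 263 60421 s0u188 s0c189 rfl
theorem s0u190 : ∀ v, 1 ≤ v → v ≤ 60729 → fs0 v = true := slots_step fs0 60421 308 60729 s0u189 s0c190 rfl
theorem s0u191 : ∀ v, 1 ≤ v → v ≤ 60999 → fs0 v = true := slots_step fs0 60729 270 60999 s0u190 s0c191 rfl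
theorem s0u192 : ∀ v, 1 ≤ v → v ≤ 61442 → fs0 v = true := slots_step fs0 60999 443 61442 s0u191 s0c192 rfl
theorem s0u193 : ∀ v, 1 ≤ v → v ≤ 61860 → fs0 v = true := slots_step fs0 61442 418 61860 s0u192 s0c193 rfl
theorem s0u194 : ∀ v, 1 ≤ v → v ≤ 62176 → fs0 v = true := slots_step fs0 61860 316 62176 s0u193 s0c194 rfl
theorem s0u195 : ∀ v, 1 ≤ v → v ≤ 62497 → fs0 v = true := slots_step fs0 62176 321 62497 s0u194 s0c195 rfl
theorem s0u196 : ∀ v, 1 ≤ v → v ≤ 62802 → fs0 v = true := slots_step fs0 62497 305 62802 s0u195 s0c196 rfl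
theorem s0u197 : ∀ v, 1 ≤ v → v ≤ 63193 → fs0 v = true := slots_step fs0 62802 391 63193 s0u196 s0c197 rfl
theorem s0u198 : ∀ v, 1 ≤ v → v ≤ 63500 → fs0 v = true := slots_step fs0 63193 307 63500 s0u197 s0c198 rfl
theorem s0u199 : ∀ v, 1 ≤ v → v ≤ 63861 → fs0 v = true := slots_step fs0 63500 361 63861 s0u198 s0c199 rfl
theorem s0u200 : ∀ v, 1 ≤ v → v ≤ 64198 → fs0 v = true := slots_step fs0 63861 337 64198 s0u199 s0c200 rfl
theorem s0u201 : ∀ v, 1 ≤ v → v ≤ 64503 → fs0 v = true := slots_step fs0 64198 305 64503 s0u200 s0c201 rfl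
theorem s0u202 : ∀ v, 1 ≤ v → v ≤ 64808 → fs0 v = true := slots_step fs0 64503 305 64808 s0u201 s0c202 rfl
theorem s0u203 : ∀ v, 1 ≤ v → v ≤ 65127 → fs0 v = true := slots_step fs0 64808 319 65127 s0u202 s0c203 rfl
theorem s0u204 : ∀ v, 1 ≤ v → v ≤ 65450 → fs0 v = true := slots_step fs0 65127 323 65450 s0u203 s0c204 rfl
theorem s0u205 : ∀ v, 1 ≤ v → v ≤ 65854 → fs0 v = true := slots_step fs0 65450 404 65854 s0u204 s0c205 rfl
theorem s0u206 : ∀ v, 1 ≤ v → v ≤ 66303 → fs0 v = true := slots_step fs0 65854 449 66303 s0u205 s0c206 rfl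
theorem s0u207 : ∀ v, 1 ≤ v → v ≤ 66687 → fs0 v = true := slots_step fs0 66303 384 66687 s0u206 s0c207 rfl
theorem s0u208 : ∀ v, 1 ≤ v → v ≤ 67096 → fs0 v = true := slots_step fs0 66687 409 67096 s0u207 s0c208 rfl
theorem s0u209 : ∀ v, 1 ≤ v → v ≤ 67546 → fs0 v = true := slots_step fs0 67096 450 67546 s0u208 s0c209 rfl
theorem s0u210 : ∀ v, 1 ≤ v → v ≤ 68055 → fs0 v = true := slots_step fs0 67546 509 68055 s0u209 s0c210 rfl
theorem s0u211 : ∀ v, 1 ≤ v → v ≤ 68419 → fs0 v = true := slots_step fs0 68055 364 68419 s0u210 s0c211 rfl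
theorem s0u212 : ∀ v, 1 ≤ v → v ≤ 68771 → fs0 v = true := slots_step fs0 68419 352 68771 s0u211 s0c212 rfl
theorem s0u213 : ∀ v, 1 ≤ v → v ≤ 69114 → fs0 v = true := slots_step fs0 68771 343 69114 s0u212 s0c213 rfl
theorem s0u214 : ∀ v, 1 ≤ v → v ≤ 69462 → fs0 v = true := slots_step fs0 69114 348 69462 s0u213 s0c214 rfl
theorem s0u215 : ∀ v, 1 ≤ v → v ≤ 69990 → fs0 v = true := slots_step fs0 69462 528 69990 s0u214 s0c215 rfl
theorem s0u216 : ∀ v, 1 ≤ v → v ≤ 70513 → fs0 v = true := slots_step fs0 69990 523 70513 s0u215 s0c216 rfl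
theorem s0u217 : ∀ v, 1 ≤ v → v ≤ 71169 → fs0 v = true := slots_step fs0 70513 656 71169 s0u216 s0c217 rfl
theorem s0u218 : ∀ v, 1 ≤ v → v ≤ 71578 → fs0 v = true := slots_step fs0 71169 409 71578 s0u217 s0c218 rfl
theorem s0u219 : ∀ v, 1 ≤ v → v ≤ 71840 → fs0 v = true := slots_step fs0 71578 262 71840 s0u218 s0c219 rfl
theorem s0u220 : ∀ v, 1 ≤ v → v ≤ 72186 → fs0 v = true := slots_step fs0 71840 346 72186 s0u219 s0c220 rfl
theorem s0u221 : ∀ v, 1 ≤ v → v ≤ 72467 → fs0 v = true := slots_step fs0 72186 281 72467 s0u220 s0c221 rfl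
theorem s0u222 : ∀ v, 1 ≤ v → v ≤ 72762 → fs0 v = true := slots_step fs0 72467 295 72762 s0u221 s0c222 rfl
theorem s0u223 : ∀ v, 1 ≤ v → v ≤ 73175 → fs0 v = true := slots_step fs0 72762 413 73175 s0u222 s0c223 rfl
theorem s0u224 : ∀ v, 1 ≤ v → v ≤ 73731 → fs0 v = true := slots_step fs0 73175 556 73731 s0u223 s0c224 rfl
theorem s0u225 : ∀ v, 1 ≤ v → v ≤ 74222 → fs0 v = true := slots_step fs0 73731 491 74222 s0u224 s0c225 rfl
theorem s0u226 : ∀ v, 1 ≤ v → v ≤ 74656 → fs0 v = true := slots_step fs0 74222 434 74656 s0u225 s0c226 rfl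
theorem s0u227 : ∀ v, 1 ≤ v → v ≤ 75301 → fs0 v = true := slots_step fs0 74656 645 75301 s0u226 s0c227 rfl
theorem s0u228 : ∀ v, 1 ≤ v → v ≤ 75578 → fs0 v = true := slots_step fs0 75301 277 75578 s0u227 s0c228 rfl
theorem s0u229 : ∀ v, 1 ≤ v → v ≤ 75827 → fs0 v = true := slots_step fs0 75578 249 75827 s0u228 s0c229 rfl
theorem s0u230 : ∀ v, 1 ≤ v → v ≤ 76124 → fs0 v = true := slots_step fs0 75827 297 76124 s0u229 s0c230 rfl
theorem s0u231 : ∀ v, 1 ≤ v → v ≤ 76367 → fs0 v = true := slots_step fs0 76124 243 76367 s0u230 s0c231 rfl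
theorem s0u232 : ∀ v, 1 ≤ v → v ≤ 76606 → fs0 v = true := slots_step fs0 76367 239 76606 s0u231 s0c232 rfl
theorem s0u233 : ∀ v, 1 ≤ v → v ≤ 76895 → fs0 v = true := slots_step fs0 76606 289 76895 s0u232 s0c233 rfl
theorem s0u234 : ∀ v, 1 ≤ v → v ≤ 77173 → fs0 v = true := slots_step fs0 76895 278 77173 s0u233 s0c234 rfl
theorem s0u235 : ∀ v, 1 ≤ v → v ≤ 77419 → fs0 v = true := slots_step fs0 77173 246 77419 s0u234 s0c235 rfl
theorem s0u236 : ∀ v, 1 ≤ v → v ≤ 77672 → fs0 v = true := slots_step fs0 77419 253 77672 s0u235 s0c236 rfl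
theorem s0u237 : ∀ v, 1 ≤ v → v ≤ 77931 → fs0 v = true := slots_step fs0 77672 259 77931 s0u236 s0c237 rfl
theorem s0u238 : ∀ v, 1 ≤ v → v ≤ 78205 → fs0 v = true := slots_step fs0 77931 274 78205 s0u237 s0c238 rfl
theorem s0u239 : ∀ v, 1 ≤ v → v ≤ 78489 → fs0 v = true := slots_step fs0 78205 284 78489 s0u238 s0c239 rfl
theorem s0u240 : ∀ v, 1 ≤ v → v ≤ 78841 → fs0 v = true := slots_step fs0 78489 352 78841 s0u239 s0c240 rfl
theorem s0u241 : ∀ v, 1 ≤ v → v ≤ 79242 → fs0 v = true := slots_step fs0 78841 401 79242 s0u240 s0c241 rfl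
theorem s0u242 : ∀ v, 1 ≤ v → v ≤ 79586 → fs0 v = true := slots_step fs0 79242 344 79586 s0u241 s0c242 rfl
theorem s0u243 : ∀ v, 1 ≤ v → v ≤ 79932 → fs0 v = true := slots_step fs0 79586 346 79932 s0u242 s0c243 rfl
theorem s0u244 : ∀ v, 1 ≤ v → v ≤ 80392 → fs0 v = true := slots_step fs0 79932 460 80392 s0u243 s0c244 rfl
theorem s0u245 : ∀ v, 1 ≤ v → v ≤ 80682 → fs0 v = true := slots_step fs0 80392 290 80682 s0u244 s0c245 rfl
theorem s0u246 : ∀ v, 1 ≤ v → v ≤ 80943 → fs0 v = true := slots_step fs0 80682 261 80943 s0u245 s0c246 rfl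
theorem s0u247 : ∀ v, 1 ≤ v → v ≤ 81291 → fs0 v = true := slots_step fs0 80943 348 81291 s0u246 s0c247 rfl
theorem s0u248 : ∀ v, 1 ≤ v → v ≤ 81588 → fs0 v = true := slots_step fs0 81291 297 81588 s0u247 s0c248 rfl
theorem s0u249 : ∀ v, 1 ≤ v → v ≤ 81951 → fs0 v = true := slots_step fs0 81588 363 81951 s0u248 s0c249 rfl
theorem s0u250 : ∀ v, 1 ≤ v → v ≤ 82428 → fs0 v = true := slots_step fs0 81951 477 82428 s0u249 s0c250 rfl
theorem s0u251 : ∀ v, 1 ≤ v → v ≤ 82848 → fs0 v = true := slots_step fs0 82428 420 82848 s0u250 s0c251 rfl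
theorem s0u252 : ∀ v, 1 ≤ v → v ≤ 83103 → fs0 v = true := slots_step fs0 82848 255 83103 s0u251 s0c252 rfl
theorem s0u253 : ∀ v, 1 ≤ v → v ≤ 83471 → fs0 v = true := slots_step fs0 83103 368 83471 s0u252 s0c253 rfl
theorem s0u254 : ∀ v, 1 ≤ v → v ≤ 83770 → fs0 v = true := slots_step fs0 83471 299 83770 s0u253 s0c254 rfl
theorem s0u255 : ∀ v, 1 ≤ v → v ≤ 84130 → fs0 v = true := slots_step fs0 83770 360 84130 s0u254 s0c255 rfl
theorem s0u256 : ∀ v, 1 ≤ v → v ≤ 84519 → fs0 v = true := slots_step fs0 84130 389 84519 s0u255 s0c256 rfl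
theorem s0u257 : ∀ v, 1 ≤ v → v ≤ 84825 → fs0 v = true := slots_step fs0 84519 306 84825 s0u256 s0c257 rfl
theorem s0u258 : ∀ v, 1 ≤ v → v ≤ 85185 → fs0 v = true := slots_step fs0 84825 360 85185 s0u257 s0c258 rfl
theorem s0u259 : ∀ v, 1 ≤ v → v ≤ 85525 → fs0 v = true := slots_step fs0 85185 340 85525 s0u258 s0c259 rfl
theorem s0u260 : ∀ v, 1 ≤ v → v ≤ 85870 → fs0 v = true := slots_step fs0 85525 345 85870 s0u259 s0c260 rfl
theorem s0u261 : ∀ v, 1 ≤ v → v ≤ 86183 → fs0 v = true := slots_step fs0 85870 313 86183 s0u260 s0c261 rfl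
theorem s0u262 : ∀ v, 1 ≤ v → v ≤ 86494 → fs0 v = true := slots_step fs0 86183 311 86494 s0u261 s0c262 rfl
theorem s0u263 : ∀ v, 1 ≤ v → v ≤ 86796 → fs0 v = true := slots_step fs0 86494 302 86796 s0u262 s0c263 rfl
theorem s0u264 : ∀ v, 1 ≤ v → v ≤ 87133 → fs0 v = true := slots_step fs0 86796 337 87133 s0u263 s0c264 rfl
theorem s0u265 : ∀ v, 1 ≤ v → v ≤ 87484 → fs0 v = true := slots_step fs0 87133 351 87484 s0u264 s0c265 rfl
theorem s0u266 : ∀ v, 1 ≤ v → v ≤ 87839 → fs0 v = true := slots_step fs0 87484 355 87839 s0u265 s0c266 rfl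
theorem s0u267 : ∀ v, 1 ≤ v → v ≤ 88292 → fs0 v = true := slots_step fs0 87839 453 88292 s0u266 s0c267 rfl
theorem s0u268 : ∀ v, 1 ≤ v → v ≤ 88724 → fs0 v = true := slots_step fs0 88292 432 88724 s0u267 s0c268 rfl
theorem s0u269 : ∀ v, 1 ≤ v → v ≤ 89142 → fs0 v = true := slots_step fs0 88724 418 89142 s0u268 s0c269 rfl
theorem s0u270 : ∀ v, 1 ≤ v → v ≤ 89560 → fs0 v = true := slots_step fs0 89142 418 89560 s0u269 s0c270 rfl
theorem s0u271 : ∀ v, 1 ≤ v → v ≤ 90007 → fs0 v = true := slots_step fs0 89560 447 90007 s0u270 s0c271 rfl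
theorem s0u272 : ∀ v, 1 ≤ v → v ≤ 90584 → fs0 v = true := slots_step fs0 90007 577 90584 s0u271 s0c272 rfl
theorem s0u273 : ∀ v, 1 ≤ v → v ≤ 90990 → fs0 v = true := slots_step fs0 90584 406 90990 s0u272 s0c273 rfl
theorem s0u274 : ∀ v, 1 ≤ v → v ≤ 91378 → fs0 v = true := slots_step fs0 90990 388 91378 s0u273 s0c274 rfl
theorem s0u275 : ∀ v, 1 ≤ v → v ≤ 91788 → fs0 v = true := slots_step fs0 91378 410 91788 s0u274 s0c275 rfl
theorem s0u276 : ∀ v, 1 ≤ v → v ≤ 92124 → fs0 v = true := slots_step fs0 91788 336 92124 s0u275 s0c276 rfl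
theorem s0u277 : ∀ v, 1 ≤ v → v ≤ 92482 → fs0 v = true := slots_step fs0 92124 358 92482 s0u276 s0c277 rfl
theorem s0u278 : ∀ v, 1 ≤ v → v ≤ 92960 → fs0 v = true := slots_step fs0 92482 478 92960 s0u277 s0c278 rfl
theorem s0u279 : ∀ v, 1 ≤ v → v ≤ 93517 → fs0 v = true := slots_step fs0 92960 557 93517 s0u278 s0c279 rfl
theorem s0u280 : ∀ v, 1 ≤ v → v ≤ 94194 → fs0 v = true := slots_step fs0 93517 677 94194 s0u279 s0c280 rfl
theorem s0u281 : ∀ v, 1 ≤ v → v ≤ 94590 → fs0 v = true := slots_step fs0 94194 396 94590 s0u280 s0c281 rfl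
theorem s0u282 : ∀ v, 1 ≤ v → v ≤ 94855 → fs0 v = true := slots_step fs0 94590 265 94855 s0u281 s0c282 rfl
theorem s0u283 : ∀ v, 1 ≤ v → v ≤ 95181 → fs0 v = true := slots_step fs0 94855 326 95181 s0u282 s0c283 rfl
theorem s0u284 : ∀ v, 1 ≤ v → v ≤ 95518 → fs0 v = true := slots_step fs0 95181 337 95518 s0u283 s0c284 rfl
theorem s0u285 : ∀ v, 1 ≤ v → v ≤ 95815 → fs0 v = true := slots_step fs0 95518 297 95815 s0u284 s0c285 rfl
theorem s0u286 : ∀ v, 1 ≤ v → v ≤ 96135 → fs0 v = true := slots_step fs0 95815 320 96135 s0u285 s0c286 rfl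
theorem s0u287 : ∀ v, 1 ≤ v → v ≤ 96486 → fs0 v = true := slots_step fs0 96135 351 96486 s0u286 s0c287 rfl
theorem s0u288 : ∀ v, 1 ≤ v → v ≤ 97097 → fs0 v = true := slots_step fs0 96486 611 97097 s0u287 s0c288 rfl
theorem s0u289 : ∀ v, 1 ≤ v → v ≤ 97631 → fs0 v = true := slots_step fs0 97097 534 97631 s0u288 s0c289 rfl
theorem s0u290 : ∀ v, 1 ≤ v → v ≤ 98087 → fs0 v = true := slots_step fs0 97631 456 98087 s0u289 s0c290 rfl
theorem s0u291 : ∀ v, 1 ≤ v → v ≤ 98694 → fs0 v = true := slots_step fs0 98087 607 98694 s0u290 s0c291 rfl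
theorem s0u292 : ∀ v, 1 ≤ v → v ≤ 99021 → fs0 v = true := slots_step fs0 98694 327 99021 s0u291 s0c292 rfl
theorem s0u293 : ∀ v, 1 ≤ v → v ≤ 99271 → fs0 v = true := slots_step fs0 99021 250 99271 s0u292 s0c293 rfl
theorem s0u294 : ∀ v, 1 ≤ v → v ≤ 99527 → fs0 v = true := slots_step fs0 99271 256 99527 s0u293 s0c294 rfl
theorem s0u295 : ∀ v, 1 ≤ v → v ≤ 99833 → fs0 v = true := slots_step fs0 99527 306 99833 s0u294 s0c295 rfl
theorem s0u296 : ∀ v, 1 ≤ v → v ≤ 100082 → fs0 v = true := slots_step fs0 99833 249 100082 s0u295 s0c296 rfl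
theorem s0u297 : ∀ v, 1 ≤ v → v ≤ 100321 → fs0 v = true := slots_step fs0 100082 239 100321 s0u296 s0c297 rfl
theorem s0u298 : ∀ v, 1 ≤ v → v ≤ 100565 → fs0 v = true := slots_step fs0 100321 244 100565 s0u297 s0c298 rfl
theorem s0u299 : ∀ v, 1 ≤ v → v ≤ 100841 → fs0 v = true := slots_step fs0 100565 276 100841 s0u298 s0c299 rfl
theorem s0u300 : ∀ v, 1 ≤ v → v ≤ 101107 → fs0 v = true := slots_step fs0 100841 266 101107 s0u299 s0c300 rfl
theorem s0u301 : ∀ v, 1 ≤ v → v ≤ 101404 → fs0 v = true := slots_step fs0 101107 297 101404 s0u300 s0c301 rfl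
theorem s0u302 : ∀ v, 1 ≤ v → v ≤ 101652 → fs0 v = true := slots_step fs0 101404 248 101652 s0u301 s0c302 rfl
theorem s0u303 : ∀ v, 1 ≤ v → v ≤ 101910 → fs0 v = true := slots_step fs0 101652 258 101910 s0u302 s0c303 rfl
theorem s0u304 : ∀ v, 1 ≤ v → v ≤ 102151 → fs0 v = true := slots_step fs0 101910 241 102151 s0u303 s0c304 rfl
theorem s0u305 : ∀ v, 1 ≤ v → v ≤ 102423 → fs0 v = true := slots_step fs0 102151 272 102423 s0u304 s0c305 rfl
theorem s0u306 : ∀ v, 1 ≤ v → v ≤ 102709 → fs0 v = true := slots_step fs0 102423 286 102709 s0u305 s0c306 rfl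
theorem s0u307 : ∀ v, 1 ≤ v → v ≤ 102961 → fs0 v = true := slots_step fs0 102709 252 102961 s0u306 s0c307 rfl
theorem s0u308 : ∀ v, 1 ≤ v → v ≤ 103251 → fs0 v = true := slots_step fs0 102961 290 103251 s0u307 s0c308 rfl
theorem s0u309 : ∀ v, 1 ≤ v → v ≤ 103637 → fs0 v = true := slots_step fs0 103251 386 103637 s0u308 s0c309 rfl
theorem s0u310 : ∀ v, 1 ≤ v → v ≤ 104038 → fs0 v = true := slots_step fs0 103637 401 104038 s0u309 s0c310 rfl
theorem s0u311 : ∀ v, 1 ≤ v → v ≤ 104354 → fs0 v = true := slots_step fs0 104038 316 104354 s0u310 s0c311 rfl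
theorem s0u312 : ∀ v, 1 ≤ v → v ≤ 104719 → fs0 v = true := slots_step fs0 104354 365 104719 s0u311 s0c312 rfl
theorem s0u313 : ∀ v, 1 ≤ v → v ≤ 105156 → fs0 v = true := slots_step fs0 104719 437 105156 s0u312 s0c313 rfl
theorem s0u314 : ∀ v, 1 ≤ v → v ≤ 105441 → fs0 v = true := slots_step fs0 105156 285 105441 s0u313 s0c314 rfl
theorem s0u315 : ∀ v, 1 ≤ v → v ≤ 105720 → fs0 v = true := slots_step fs0 105441 279 105720 s0u314 s0c315 rfl
theorem s0u316 : ∀ v, 1 ≤ v → v ≤ 106051 → fs0 v = true := slots_step fs0 105720 331 106051 s0u315 s0c316 rfl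
theorem s0u317 : ∀ v, 1 ≤ v → v ≤ 106351 → fs0 v = true := slots_step fs0 106051 300 106351 s0u316 s0c317 rfl
theorem s0u318 : ∀ v, 1 ≤ v → v ≤ 106690 → fs0 v = true := slots_step fs0 106351 339 106690 s0u317 s0c318 rfl
theorem s0u319 : ∀ v, 1 ≤ v → v ≤ 107132 → fs0 v = true := slots_step fs0 106690 442 107132 s0u318 s0c319 rfl
theorem s0u320 : ∀ v, 1 ≤ v → v ≤ 107548 → fs0 v = true := slots_step fs0 107132 416 107548 s0u319 s0c320 rfl
theorem s0u321 : ∀ v, 1 ≤ v → v ≤ 107824 → fs0 v = true := slots_step fs0 107548 276 107824 s0u320 s0c321 rfl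
theorem s0u322 : ∀ v, 1 ≤ v → v ≤ 108156 → fs0 v = true := slots_step fs0 107824 332 108156 s0u321 s0c322 rfl
theorem s0u323 : ∀ v, 1 ≤ v → v ≤ 108509 → fs0 v = true := slots_step fs0 108156 353 108509 s0u322 s0c323 rfl
theorem s0u324 : ∀ v, 1 ≤ v → v ≤ 108811 → fs0 v = true := slots_step fs0 108509 302 108811 s0u323 s0c324 rfl
theorem s0u325 : ∀ v, 1 ≤ v → v ≤ 109116 → fs0 v = true := slots_step fs0 108811 305 109116 s0u324 s0c325 rfl
theorem s0u326 : ∀ v, 1 ≤ v → v ≤ 109555 → fs0 v = true := slots_step fs0 109116 439 109555 s0u325 s0c326 rfl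
theorem s0u327 : ∀ v, 1 ≤ v → v ≤ 109909 → fs0 v = true := slots_step fs0 109555 354 109909 s0u326 s0c327 rfl
theorem s0u328 : ∀ v, 1 ≤ v → v ≤ 110215 → fs0 v = true := slots_step fs0 109909 306 110215 s0u327 s0c328 rfl
theorem s0u329 : ∀ v, 1 ≤ v → v ≤ 110547 → fs0 v = true := slots_step fs0 110215 332 110547 s0u328 s0c329 rfl
theorem s0u330 : ∀ v, 1 ≤ v → v ≤ 110929 → fs0 v = true := slots_step fs0 110547 382 110929 s0u329 s0c330 rfl
theorem s0u331 : ∀ v, 1 ≤ v → v ≤ 111241 → fs0 v = true := slots_step fs0 110929 312 111241 s0u330 s0c331 rfl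
theorem s0u332 : ∀ v, 1 ≤ v → v ≤ 111600 → fs0 v = true := slots_step fs0 111241 359 111600 s0u331 s0c332 rfl
theorem s0u333 : ∀ v, 1 ≤ v → v ≤ 111902 → fs0 v = true := slots_step fs0 111600 302 111902 s0u332 s0c333 rfl
theorem s0u334 : ∀ v, 1 ≤ v → v ≤ 112218 → fs0 v = true := slots_step fs0 111902 316 112218 s0u333 s0c334 rfl
theorem s0u335 : ∀ v, 1 ≤ v → v ≤ 112526 → fs0 v = true := slots_step fs0 112218 308 112526 s0u334 s0c335 rfl
theorem s0u336 : ∀ v, 1 ≤ v → v ≤ 112835 → fs0 v = true := slots_step fs0 112526 309 112835 s0u335 s0c336 rfl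
theorem s0u337 : ∀ v, 1 ≤ v → v ≤ 113160 → fs0 v = true := slots_step fs0 112835 325 113160 s0u336 s0c337 rfl
theorem s0u338 : ∀ v, 1 ≤ v → v ≤ 113497 → fs0 v = true := slots_step fs0 113160 337 113497 s0u337 s0c338 rfl
theorem s0u339 : ∀ v, 1 ≤ v → v ≤ 113847 → fs0 v = true := slots_step fs0 113497 350 113847 s0u338 s0c339 rfl
theorem s0u340 : ∀ v, 1 ≤ v → v ≤ 114188 → fs0 v = true := slots_step fs0 113847 341 114188 s0u339 s0c340 rfl
theorem s0u341 : ∀ v, 1 ≤ v → v ≤ 114558 → fs0 v = true := slots_step fs0 114188 370 114558 s0u340 s0c341 rfl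
theorem s0u342 : ∀ v, 1 ≤ v → v ≤ 115017 → fs0 v = true := slots_step fs0 114558 459 115017 s0u341 s0c342 rfl
theorem s0u343 : ∀ v, 1 ≤ v → v ≤ 115472 → fs0 v = true := slots_step fs0 115017 455 115472 s0u342 s0c343 rfl
theorem s0u344 : ∀ v, 1 ≤ v → v ≤ 115883 → fs0 v = true := slots_step fs0 115472 411 115883 s0u343 s0c344 rfl
theorem s0u345 : ∀ v, 1 ≤ v → v ≤ 116329 → fs0 v = true := slots_step fs0 115883 446 116329 s0u344 s0c345 rfl
theorem s0u346 : ∀ v, 1 ≤ v → v ≤ 116773 → fs0 v = true := slots_step fs0 116329 444 116773 s0u345 s0c346 rfl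
theorem s0u347 : ∀ v, 1 ≤ v → v ≤ 117327 → fs0 v = true := slots_step fs0 116773 554 117327 s0u346 s0c347 rfl
theorem s0u348 : ∀ v, 1 ≤ v → v ≤ 117719 → fs0 v = true := slots_step fs0 117327 392 117719 s0u347 s0c348 rfl
theorem s0u349 : ∀ v, 1 ≤ v → v ≤ 118132 → fs0 v = true := slots_step fs0 117719 413 118132 s0u348 s0c349 rfl
theorem s0u350 : ∀ v, 1 ≤ v → v ≤ 118543 → fs0 v = true := slots_step fs0 118132 411 118543 s0u349 s0c350 rfl
theorem s0u351 : ∀ v, 1 ≤ v → v ≤ 118900 → fs0 v = true := slots_step fs0 118543 357 118900 s0u350 s0c351 rfl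
theorem s0u352 : ∀ v, 1 ≤ v → v ≤ 119261 → fs0 v = true := slots_step fs0 118900 361 119261 s0u351 s0c352 rfl
theorem s0u353 : ∀ v, 1 ≤ v → v ≤ 119748 → fs0 v = true := slots_step fs0 119261 487 119748 s0u352 s0c353 rfl
theorem s0u354 : ∀ v, 1 ≤ v → v ≤ 120384 → fs0 v = true := slots_step fs0 119748 636 120384 s0u353 s0c354 rfl
theorem s0u355 : ∀ v, 1 ≤ v → v ≤ 120749 → fs0 v = true := slots_step fs0 120384 365 120749 s0u354 s0c355 rfl
theorem s0u356 : ∀ v, 1 ≤ v → v ≤ 121039 → fs0 v = true := slots_step fs0 120749 290 121039 s0u355 s0c356 rfl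
theorem s0u357 : ∀ v, 1 ≤ v → v ≤ 121328 → fs0 v = true := slots_step fs0 121039 289 121328 s0u356 s0c357 rfl
theorem s0u358 : ∀ v, 1 ≤ v → v ≤ 121689 → fs0 v = true := slots_step fs0 121328 361 121689 s0u357 s0c358 rfl
theorem s0u359 : ∀ v, 1 ≤ v → v ≤ 122025 → fs0 v = true := slots_step fs0 121689 336 122025 s0u358 s0c359 rfl
theorem s0u360 : ∀ v, 1 ≤ v → v ≤ 122318 → fs0 v = true := slots_step fs0 122025 293 122318 s0u359 s0c360 rfl
theorem s0u361 : ∀ v, 1 ≤ v → v ≤ 122652 → fs0 v = true := slots_step fs0 122318 334 122652 s0u360 s0c361 rfl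
theorem s0u362 : ∀ v, 1 ≤ v → v ≤ 122965 → fs0 v = true := slots_step fs0 122652 313 122965 s0u361 s0c362 rfl
theorem s0u363 : ∀ v, 1 ≤ v → v ≤ 123547 → fs0 v = true := slots_step fs0 122965 582 123547 s0u362 s0c363 rfl
theorem s0u364 : ∀ v, 1 ≤ v → v ≤ 124023 → fs0 v = true := slots_step fs0 123547 476 124023 s0u363 s0c364 rfl
theorem s0u365 : ∀ v, 1 ≤ v → v ≤ 124544 → fs0 v = true := slots_step fs0 124023 521 124544 s0u364 s0c365 rfl
theorem s0u366 : ∀ v, 1 ≤ v → v ≤ 124886 → fs0 v = true := slots_step fs0 124544 342 124886 s0u365 s0c366 rfl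
theorem s0u367 : ∀ v, 1 ≤ v → v ≤ 125125 → fs0 v = true := slots_step fs0 124886 239 125125 s0u366 s0c367 rfl
theorem s0u368 : ∀ v, 1 ≤ v → v ≤ 125363 → fs0 v = true := slots_step fs0 125125 238 125363 s0u367 s0c368 rfl
theorem s0u369 : ∀ v, 1 ≤ v → v ≤ 125605 → fs0 v = true := slots_step fs0 125363 242 125605 s0u368 s0c369 rfl
theorem s0u370 : ∀ v, 1 ≤ v → v ≤ 125838 → fs0 v = true := slots_step fs0 125605 233 125838 s0u369 s0c370 rfl
theorem s0u371 : ∀ v, 1 ≤ v → v ≤ 126066 → fs0 v = true := slots_step fs0 125838 228 126066 s0u370 s0c371 rfl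
theorem s0u372 : ∀ v, 1 ≤ v → v ≤ 126304 → fs0 v = true := slots_step fs0 126066 238 126304 s0u371 s0c372 rfl
theorem s0u373 : ∀ v, 1 ≤ v → v ≤ 126540 → fs0 v = true := slots_step fs0 126304 236 126540 s0u372 s0c373 rfl
theorem s0u374 : ∀ v, 1 ≤ v → v ≤ 126770 → fs0 v = true := slots_step fs0 126540 230 126770 s0u373 s0c374 rfl
theorem s0u375 : ∀ v, 1 ≤ v → v ≤ 126998 → fs0 v = true := slots_step fs0 126770 228 126998 s0u374 s0c375 rfl
theorem s0u376 : ∀ v, 1 ≤ v → v ≤ 127227 → fs0 v = true := slots_step fs0 126998 229 127227 s0u375 s0c376 rfl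
theorem s0u377 : ∀ v, 1 ≤ v → v ≤ 127455 → fs0 v = true := slots_step fs0 127227 228 127455 s0u376 s0c377 rfl
theorem s0u378 : ∀ v, 1 ≤ v → v ≤ 127687 → fs0 v = true := slots_step fs0 127455 232 127687 s0u377 s0c378 rfl
theorem s0u379 : ∀ v, 1 ≤ v → v ≤ 127925 → fs0 v = true := slots_step fs0 127687 238 127925 s0u378 s0c379 rfl
theorem s0u380 : ∀ v, 1 ≤ v → v ≤ 128156 → fs0 v = true := slots_step fs0 127925 231 128156 s0u379 s0c380 rfl
theorem s0u381 : ∀ v, 1 ≤ v → v ≤ 128391 → fs0 v = true := slots_step fs0 128156 235 128391 s0u380 s0c381 rfl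
theorem s0u382 : ∀ v, 1 ≤ v → v ≤ 128621 → fs0 v = true := slots_step fs0 128391 230 128621 s0u381 s0c382 rfl
theorem s0u383 : ∀ v, 1 ≤ v → v ≤ 128862 → fs0 v = true := slots_step fs0 128621 241 128862 s0u382 s0c383 rfl
theorem s0u384 : ∀ v, 1 ≤ v → v ≤ 129100 → fs0 v = true := slots_step fs0 128862 238 129100 s0u383 s0c384 rfl
theorem s0u385 : ∀ v, 1 ≤ v → v ≤ 129329 → fs0 v = true := slots_step fs0 129100 229 129329 s0u384 s0c385 rfl
theorem s0u386 : ∀ v, 1 ≤ v → v ≤ 129558 → fs0 v = true := slots_step fs0 129329 229 129558 s0u385 s0c386 rfl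
theorem s0u387 : ∀ v, 1 ≤ v → v ≤ 129790 → fs0 v = true := slots_step fs0 129558 232 129790 s0u386 s0c387 rfl
theorem s0u388 : ∀ v, 1 ≤ v → v ≤ 130021 → fs0 v = true := slots_step fs0 129790 231 130021 s0u387 s0c388 rfl
theorem s0u389 : ∀ v, 1 ≤ v → v ≤ 130249 → fs0 v = true := slots_step fs0 130021 228 130249 s0u388 s0c389 rfl
theorem s0u390 : ∀ v, 1 ≤ v → v ≤ 130478 → fs0 v = true := slots_step fs0 130249 229 130478 s0u389 s0c390 rfl
theorem s0u391 : ∀ v, 1 ≤ v → v ≤ 130716 → fs0 v = true := slots_step fs0 130478 238 130716 s0u390 s0c391 rfl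
theorem s0u392 : ∀ v, 1 ≤ v → v ≤ 130957 → fs0 v = true := slots_step fs0 130716 241 130957 s0u391 s0c392 rfl
theorem s0u393 : ∀ v, 1 ≤ v → v ≤ 131255 → fs0 v = true := slots_step fs0 130957 298 131255 s0u392 s0c393 rfl
theorem s0u394 : ∀ v, 1 ≤ v → v ≤ 131555 → fs0 v = true := slots_step fs0 131255 300 131555 s0u393 s0c394 rfl
theorem s0u395 : ∀ v, 1 ≤ v → v ≤ 131860 → fs0 v = true := slots_step fs0 131555 305 131860 s0u394 s0c395 rfl
theorem s0u396 : ∀ v, 1 ≤ v → v ≤ 132171 → fs0 v = true := slots_step fs0 131860 311 132171 s0u395 s0c396 rfl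
theorem s0u397 : ∀ v, 1 ≤ v → v ≤ 132489 → fs0 v = true := slots_step fs0 132171 318 132489 s0u396 s0c397 rfl
theorem s0u398 : ∀ v, 1 ≤ v → v ≤ 132789 → fs0 v = true := slots_step fs0 132489 300 132789 s0u397 s0c398 rfl
theorem s0u399 : ∀ v, 1 ≤ v → v ≤ 133093 → fs0 v = true := slots_step fs0 132789 304 133093 s0u398 s0c399 rfl
theorem s0u400 : ∀ v, 1 ≤ v → v ≤ 133410 → fs0 v = true := slots_step fs0 133093 317 133410 s0u399 s0c400 rfl
theorem s0u401 : ∀ v, 1 ≤ v → v ≤ 133709 → fs0 v = true := slots_step fs0 133410 299 133709 s0u400 s0c401 rfl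
theorem s0u402 : ∀ v, 1 ≤ v → v ≤ 134006 → fs0 v = true := slots_step fs0 133709 297 134006 s0u401 s0c402 rfl
theorem s0u403 : ∀ v, 1 ≤ v → v ≤ 134305 → fs0 v = true := slots_step fs0 134006 299 134305 s0u402 s0c403 rfl
theorem s0u404 : ∀ v, 1 ≤ v → v ≤ 134587 → fs0 v = true := slots_step fs0 134305 282 134587 s0u403 s0c404 rfl
theorem s0u405 : ∀ v, 1 ≤ v → v ≤ 134890 → fs0 v = true := slots_step fs0 134587 303 134890 s0u404 s0c405 rfl
theorem s0u406 : ∀ v, 1 ≤ v → v ≤ 135196 → fs0 v = true := slots_step fs0 134890 306 135196 s0u405 s0c406 rfl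
theorem s0u407 : ∀ v, 1 ≤ v → v ≤ 135497 → fs0 v = true := slots_step fs0 135196 301 135497 s0u406 s0c407 rfl
theorem s0u408 : ∀ v, 1 ≤ v → v ≤ 135796 → fs0 v = true := slots_step fs0 135497 299 135796 s0u407 s0c408 rfl
theorem s0u409 : ∀ v, 1 ≤ v → v ≤ 136099 → fs0 v = true := slots_step fs0 135796 303 136099 s0u408 s0c409 rfl
theorem s0u410 : ∀ v, 1 ≤ v → v ≤ 136415 → fs0 v = true := slots_step fs0 136099 316 136415 s0u409 s0c410 rfl
theorem s0u411 : ∀ v, 1 ≤ v → v ≤ 136719 → fs0 v = true := slots_step fs0 136415 304 136719 s0u410 s0c411 rfl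
theorem s0u412 : ∀ v, 1 ≤ v → v ≤ 137029 → fs0 v = true := slots_step fs0 136719 310 137029 s0u411 s0c412 rfl
theorem s0u413 : ∀ v, 1 ≤ v → v ≤ 137330 → fs0 v = true := slots_step fs0 137029 301 137330 s0u412 s0c413 rfl
theorem s0u414 : ∀ v, 1 ≤ v → v ≤ 137629 → fs0 v = true := slots_step fs0 137330 299 137629 s0u413 s0c414 rfl
theorem s0u415 : ∀ v, 1 ≤ v → v ≤ 137942 → fs0 v = true := slots_step fs0 137629 313 137942 s0u414 s0c415 rfl
theorem s0u416 : ∀ v, 1 ≤ v → v ≤ 138242 → fs0 v = true := slots_step fs0 137942 300 138242 s0u415 s0c416 rfl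
theorem s0u417 : ∀ v, 1 ≤ v → v ≤ 138548 → fs0 v = true := slots_step fs0 138242 306 138548 s0u416 s0c417 rfl
theorem s0u418 : ∀ v, 1 ≤ v → v ≤ 138835 → fs0 v = true := slots_step fs0 138548 287 138835 s0u417 s0c418 rfl
theorem s0u419 : ∀ v, 1 ≤ v → v ≤ 139140 → fs0 v = true := slots_step fs0 138835 305 139140 s0u418 s0c419 rfl
theorem s0u420 : ∀ v, 1 ≤ v → v ≤ 139379 → fs0 v = true := slots_step fs0 139140 239 139379 s0u419 s0c420 rfl
theorem s0u421 : ∀ v, 1 ≤ v → v ≤ 139608 → fs0 v = true := slots_step fs0 139379 229 139608 s0u420 s0c421 rfl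
theorem s0u422 : ∀ v, 1 ≤ v → v ≤ 139836 → fs0 v = true := slots_step fs0 139608 228 139836 s0u421 s0c422 rfl
theorem s0u423 : ∀ v, 1 ≤ v → v ≤ 140064 → fs0 v = true := slots_step fs0 139836 228 140064 s0u422 s0c423 rfl
theorem s0u424 : ∀ v, 1 ≤ v → v ≤ 140292 → fs0 v = true := slots_step fs0 140064 228 140292 s0u423 s0c424 rfl
theorem s0u425 : ∀ v, 1 ≤ v → v ≤ 140525 → fs0 v = true := slots_step fs0 140292 233 140525 s0u424 s0c425 rfl
theorem s0u426 : ∀ v, 1 ≤ v → v ≤ 140757 → fs0 v = true := slots_step fs0 140525 232 140757 s0u425 s0c426 rfl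
theorem s0u427 : ∀ v, 1 ≤ v → v ≤ 140990 → fs0 v = true := slots_step fs0 140757 233 140990 s0u426 s0c427 rfl
theorem s0u428 : ∀ v, 1 ≤ v → v ≤ 141218 → fs0 v = true := slots_step fs0 140990 228 141218 s0u427 s0c428 rfl
theorem s0u429 : ∀ v, 1 ≤ v → v ≤ 141447 → fs0 v = true := slots_step fs0 141218 229 141447 s0u428 s0c429 rfl
theorem s0u430 : ∀ v, 1 ≤ v → v ≤ 141691 → fs0 v = true := slots_step fs0 141447 244 141691 s0u429 s0c430 rfl
theorem s0u431 : ∀ v, 1 ≤ v → v ≤ 141931 → fs0 v = true := slots_step fs0 141691 240 141931 s0u430 s0c431 rfl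
theorem s0u432 : ∀ v, 1 ≤ v → v ≤ 142173 → fs0 v = true := slots_step fs0 141931 242 142173 s0u431 s0c432 rfl
theorem s0u433 : ∀ v, 1 ≤ v → v ≤ 142405 → fs0 v = true := slots_step fs0 142173 232 142405 s0u432 s0c433 rfl
theorem s0u434 : ∀ v, 1 ≤ v → v ≤ 142633 → fs0 v = true := slots_step fs0 142405 228 142633 s0u433 s0c434 rfl
theorem s0u435 : ∀ v, 1 ≤ v → v ≤ 142861 → fs0 v = true := slots_step fs0 142633 228 142861 s0u434 s0c435 rfl
theorem s0u436 : ∀ v, 1 ≤ v → v ≤ 143102 → fs0 v = true := slots_step fs0 142861 241 143102 s0u435 s0c436 rfl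
theorem s0u437 : ∀ v, 1 ≤ v → v ≤ 143339 → fs0 v = true := slots_step fs0 143102 237 143339 s0u436 s0c437 rfl
theorem s0u438 : ∀ v, 1 ≤ v → v ≤ 143569 → fs0 v = true := slots_step fs0 143339 230 143569 s0u437 s0c438 rfl
theorem s0u439 : ∀ v, 1 ≤ v → v ≤ 143798 → fs0 v = true := slots_step fs0 143569 229 143798 s0u438 s0c439 rfl
theorem s0u440 : ∀ v, 1 ≤ v → v ≤ 144027 → fs0 v = true := slots_step fs0 143798 229 144027 s0u439 s0c440 rfl
theorem s0u441 : ∀ v, 1 ≤ v → v ≤ 144257 → fs0 v = true := slots_step fs0 144027 230 144257 s0u440 s0c441 rfl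
theorem s0u442 : ∀ v, 1 ≤ v → v ≤ 144485 → fs0 v = true := slots_step fs0 144257 228 144485 s0u441 s0c442 rfl
theorem s0u443 : ∀ v, 1 ≤ v → v ≤ 144716 → fs0 v = true := slots_step fs0 144485 231 144716 s0u442 s0c443 rfl
theorem s0u444 : ∀ v, 1 ≤ v → v ≤ 144948 → fs0 v = true := slots_step fs0 144716 232 144948 s0u443 s0c444 rfl
theorem s0u445 : ∀ v, 1 ≤ v → v ≤ 145190 → fs0 v = true := slots_step fs0 144948 242 145190 s0u444 s0c445 rfl
theorem s0u446 : ∀ v, 1 ≤ v → v ≤ 145423 → fs0 v = true := slots_step fs0 145190 233 145423 s0u445 s0c446 rfl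
theorem s0u447 : ∀ v, 1 ≤ v → v ≤ 145658 → fs0 v = true := slots_step fs0 145423 235 145658 s0u446 s0c447 rfl
theorem s0u448 : ∀ v, 1 ≤ v → v ≤ 145887 → fs0 v = true := slots_step fs0 145658 229 145887 s0u447 s0c448 rfl
theorem s0u449 : ∀ v, 1 ≤ v → v ≤ 146128 → fs0 v = true := slots_step fs0 145887 241 146128 s0u448 s0c449 rfl
theorem s0u450 : ∀ v, 1 ≤ v → v ≤ 146369 → fs0 v = true := slots_step fs0 146128 241 146369 s0u449 s0c450 rfl
theorem s0u451 : ∀ v, 1 ≤ v → v ≤ 146598 → fs0 v = true := slots_step fs0 146369 229 146598 s0u450 s0c451 rfl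
theorem s0u452 : ∀ v, 1 ≤ v → v ≤ 146827 → fs0 v = true := slots_step fs0 146598 229 146827 s0u451 s0c452 rfl
theorem s0u453 : ∀ v, 1 ≤ v → v ≤ 147055 → fs0 v = true := slots_step fs0 146827 228 147055 s0u452 s0c453 rfl
theorem s0u454 : ∀ v, 1 ≤ v → v ≤ 147286 → fs0 v = true := slots_step fs0 147055 231 147286 s0u453 s0c454 rfl
theorem s0u455 : ∀ v, 1 ≤ v → v ≤ 147517 → fs0 v = true := slots_step fs0 147286 231 147517 s0u454 s0c455 rfl
theorem s0u456 : ∀ v, 1 ≤ v → v ≤ 147746 → fs0 v = true := slots_step fs0 147517 229 147746 s0u455 s0c456 rfl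
theorem s0u457 : ∀ v, 1 ≤ v → v ≤ 147981 → fs0 v = true := slots_step fs0 147746 235 147981 s0u456 s0c457 rfl
theorem s0u458 : ∀ v, 1 ≤ v → v ≤ 148243 → fs0 v = true := slots_step fs0 147981 262 148243 s0u457 s0c458 rfl
theorem s0u459 : ∀ v, 1 ≤ v → v ≤ 148534 → fs0 v = true := slots_step fs0 148243 291 148534 s0u458 s0c459 rfl
theorem s0u460 : ∀ v, 1 ≤ v → v ≤ 148847 → fs0 v = true := slots_step fs0 148534 313 148847 s0u459 s0c460 rfl
theorem s0u461 : ∀ v, 1 ≤ v → v ≤ 149143 → fs0 v = true := slots_step fs0 148847 296 149143 s0u460 s0c461 rfl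
theorem s0u462 : ∀ v, 1 ≤ v → v ≤ 149452 → fs0 v = true := slots_step fs0 149143 309 149452 s0u461 s0c462 rfl
theorem s0u463 : ∀ v, 1 ≤ v → v ≤ 149768 → fs0 v = true := slots_step fs0 149452 316 149768 s0u462 s0c463 rfl
theorem s0u464 : ∀ v, 1 ≤ v → v ≤ 150061 → fs0 v = true := slots_step fs0 149768 293 150061 s0u463 s0c464 rfl
theorem s0u465 : ∀ v, 1 ≤ v → v ≤ 150379 → fs0 v = true := slots_step fs0 150061 318 150379 s0u464 s0c465 rfl
theorem s0u466 : ∀ v, 1 ≤ v → v ≤ 150680 → fs0 v = true := slots_step fs0 150379 301 150680 s0u465 s0c466 rfl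
theorem s0u467 : ∀ v, 1 ≤ v → v ≤ 150996 → fs0 v = true := slots_step fs0 150680 316 150996 s0u466 s0c467 rfl
theorem s0u468 : ∀ v, 1 ≤ v → v ≤ 151297 → fs0 v = true := slots_step fs0 150996 301 151297 s0u467 s0c468 rfl
theorem s0u469 : ∀ v, 1 ≤ v → v ≤ 151581 → fs0 v = true := slots_step fs0 151297 284 151581 s0u468 s0c469 rfl
theorem s0u470 : ∀ v, 1 ≤ v → v ≤ 151896 → fs0 v = true := slots_step fs0 151581 315 151896 s0u469 s0c470 rfl
theorem s0u471 : ∀ v, 1 ≤ v → v ≤ 152174 → fs0 v = true := slots_step fs0 151896 278 152174 s0u470 s0c471 rfl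
theorem s0u472 : ∀ v, 1 ≤ v → v ≤ 152458 → fs0 v = true := slots_step fs0 152174 284 152458 s0u471 s0c472 rfl
theorem s0u473 : ∀ v, 1 ≤ v → v ≤ 152775 → fs0 v = true := slots_step fs0 152458 317 152775 s0u472 s0c473 rfl
theorem s0u474 : ∀ v, 1 ≤ v → v ≤ 153060 → fs0 v = true := slots_step fs0 152775 285 153060 s0u473 s0c474 rfl
theorem s0u475 : ∀ v, 1 ≤ v → v ≤ 153349 → fs0 v = true := slots_step fs0 153060 289 153349 s0u474 s0c475 rfl
theorem s0u476 : ∀ v, 1 ≤ v → v ≤ 153666 → fs0 v = true := slots_step fs0 153349 317 153666 s0u475 s0c476 rfl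
theorem s0u477 : ∀ v, 1 ≤ v → v ≤ 153971 → fs0 v = true := slots_step fs0 153666 305 153971 s0u476 s0c477 rfl
theorem s0u478 : ∀ v, 1 ≤ v → v ≤ 154267 → fs0 v = true := slots_step fs0 153971 296 154267 s0u477 s0c478 rfl
theorem s0u479 : ∀ v, 1 ≤ v → v ≤ 154582 → fs0 v = true := slots_step fs0 154267 315 154582 s0u478 s0c479 rfl
theorem s0u480 : ∀ v, 1 ≤ v → v ≤ 154897 → fs0 v = true := slots_step fs0 154582 315 154897 s0u479 s0c480 rfl
theorem s0u481 : ∀ v, 1 ≤ v → v ≤ 155200 → fs0 v = true := slots_step fs0 154897 303 155200 s0u480 s0c481 rfl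
theorem s0u482 : ∀ v, 1 ≤ v → v ≤ 155506 → fs0 v = true := slots_step fs0 155200 306 155506 s0u481 s0c482 rfl
theorem s0u483 : ∀ v, 1 ≤ v → v ≤ 155808 → fs0 v = true := slots_step fs0 155506 302 155808 s0u482 s0c483 rfl
theorem s0u484 : ∀ v, 1 ≤ v → v ≤ 156114 → fs0 v = true := slots_step fs0 155808 306 156114 s0u483 s0c484 rfl
theorem s0u485 : ∀ v, 1 ≤ v → v ≤ 156424 → fs0 v = true := slots_step fs0 156114 310 156424 s0u484 s0c485 rfl
theorem s0u486 : ∀ v, 1 ≤ v → v ≤ 156725 → fs0 v = true := slots_step fs0 156424 301 156725 s0u485 s0c486 rfl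
theorem s0u487 : ∀ v, 1 ≤ v → v ≤ 157010 → fs0 v = true := slots_step fs0 156725 285 157010 s0u486 s0c487 rfl
theorem s0u488 : ∀ v, 1 ≤ v → v ≤ 157319 → fs0 v = true := slots_step fs0 157010 309 157319 s0u487 s0c488 rfl
theorem s0u489 : ∀ v, 1 ≤ v → v ≤ 157552 → fs0 v = true := slots_step fs0 157319 233 157552 s0u488 s0c489 rfl
theorem s0u490 : ∀ v, 1 ≤ v → v ≤ 157782 → fs0 v = true := slots_step fs0 157552 230 157782 s0u489 s0c490 rfl
theorem s0u491 : ∀ v, 1 ≤ v → v ≤ 158011 → fs0 v = true := slots_step fs0 157782 229 158011 s0u490 s0c491 rfl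
theorem s0u492 : ∀ v, 1 ≤ v → v ≤ 158239 → fs0 v = true := slots_step fs0 158011 228 158239 s0u491 s0c492 rfl
theorem s0u493 : ∀ v, 1 ≤ v → v ≤ 158467 → fs0 v = true := slots_step fs0 158239 228 158467 s0u492 s0c493 rfl
theorem s0u494 : ∀ v, 1 ≤ v → v ≤ 158700 → fs0 v = true := slots_step fs0 158467 233 158700 s0u493 s0c494 rfl
theorem s0u495 : ∀ v, 1 ≤ v → v ≤ 158935 → fs0 v = true := slots_step fs0 158700 235 158935 s0u494 s0c495 rfl
theorem s0u496 : ∀ v, 1 ≤ v → v ≤ 159167 → fs0 v = true := slots_step fs0 158935 232 159167 s0u495 s0c496 rfl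
theorem s0u497 : ∀ v, 1 ≤ v → v ≤ 159396 → fs0 v = true := slots_step fs0 159167 229 159396 s0u496 s0c497 rfl
theorem s0u498 : ∀ v, 1 ≤ v → v ≤ 159626 → fs0 v = true := slots_step fs0 159396 230 159626 s0u497 s0c498 rfl
theorem s0u499 : ∀ v, 1 ≤ v → v ≤ 159875 → fs0 v = true := slots_step fs0 159626 249 159875 s0u498 s0c499 rfl
theorem s0u500 : ∀ v, 1 ≤ v → v ≤ 160108 → fs0 v = true := slots_step fs0 159875 233 160108 s0u499 s0c500 rfl
theorem s0u501 : ∀ v, 1 ≤ v → v ≤ 160346 → fs0 v = true := slots_step fs0 160108 238 160346 s0u500 s0c501 rfl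
theorem s0u502 : ∀ v, 1 ≤ v → v ≤ 160585 → fs0 v = true := slots_step fs0 160346 239 160585 s0u501 s0c502 rfl
theorem s0u503 : ∀ v, 1 ≤ v → v ≤ 160814 → fs0 v = true := slots_step fs0 160585 229 160814 s0u502 s0c503 rfl
theorem s0u504 : ∀ v, 1 ≤ v → v ≤ 161042 → fs0 v = true := slots_step fs0 160814 228 161042 s0u503 s0c504 rfl
theorem s0u505 : ∀ v, 1 ≤ v → v ≤ 161270 → fs0 v = true := slots_step fs0 161042 228 161270 s0u504 s0c505 rfl
theorem s0u506 : ∀ v, 1 ≤ v → v ≤ 161517 → fs0 v = true := slots_step fs0 161270 247 161517 s0u505 s0c506 rfl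
theorem s0u507 : ∀ v, 1 ≤ v → v ≤ 161746 → fs0 v = true := slots_step fs0 161517 229 161746 s0u506 s0c507 rfl
theorem s0u508 : ∀ v, 1 ≤ v → v ≤ 161986 → fs0 v = true := slots_step fs0 161746 240 161986 s0u507 s0c508 rfl
theorem s0u509 : ∀ v, 1 ≤ v → v ≤ 162215 → fs0 v = true := slots_step fs0 161986 229 162215 s0u508 s0c509 rfl
theorem s0u510 : ∀ v, 1 ≤ v → v ≤ 162443 → fs0 v = true := slots_step fs0 162215 228 162443 s0u509 s0c510 rfl
theorem s0u511 : ∀ v, 1 ≤ v → v ≤ 162672 → fs0 v = true := slots_step fs0 162443 229 162672 s0u510 s0c511 rfl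
theorem s0u512 : ∀ v, 1 ≤ v → v ≤ 162900 → fs0 v = true := slots_step fs0 162672 228 162900 s0u511 s0c512 rfl
theorem s0u513 : ∀ v, 1 ≤ v → v ≤ 163130 → fs0 v = true := slots_step fs0 162900 230 163130 s0u512 s0c513 rfl
theorem s0u514 : ∀ v, 1 ≤ v → v ≤ 163358 → fs0 v = true := slots_step fs0 163130 228 163358 s0u513 s0c514 rfl
theorem s0u515 : ∀ v, 1 ≤ v → v ≤ 163590 → fs0 v = true := slots_step fs0 163358 232 163590 s0u514 s0c515 rfl
theorem s0u516 : ∀ v, 1 ≤ v → v ≤ 163828 → fs0 v = true := slots_step fs0 163590 238 163828 s0u515 s0c516 rfl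
theorem s0u517 : ∀ v, 1 ≤ v → v ≤ 164071 → fs0 v = true := slots_step fs0 163828 243 164071 s0u516 s0c517 rfl
theorem s0u518 : ∀ v, 1 ≤ v → v ≤ 164307 → fs0 v = true := slots_step fs0 164071 236 164307 s0u517 s0c518 rfl
theorem s0u519 : ∀ v, 1 ≤ v → v ≤ 164543 → fs0 v = true := slots_step fs0 164307 236 164543 s0u518 s0c519 rfl
theorem s0u520 : ∀ v, 1 ≤ v → v ≤ 164771 → fs0 v = true := slots_step fs0 164543 228 164771 s0u519 s0c520 rfl
theorem s0u521 : ∀ v, 1 ≤ v → v ≤ 165000 → fs0 v = true := slots_step fs0 164771 229 165000 s0u520 s0c521 rfl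
theorem s0u522 : ∀ v, 1 ≤ v → v ≤ 165242 → fs0 v = true := slots_step fs0 165000 242 165242 s0u521 s0c522 rfl
theorem s0u523 : ∀ v, 1 ≤ v → v ≤ 165480 → fs0 v = true := slots_step fs0 165242 238 165480 s0u522 s0c523 rfl
theorem s0u524 : ∀ v, 1 ≤ v → v ≤ 165709 → fs0 v = true := slots_step fs0 165480 229 165709 s0u523 s0c524 rfl
theorem s0u525 : ∀ v, 1 ≤ v → v ≤ 165940 → fs0 v = true := slots_step fs0 165709 231 165940 s0u524 s0c525 rfl
theorem s0u526 : ∀ v, 1 ≤ v → v ≤ 166170 → fs0 v = true := slots_step fs0 165940 230 166170 s0u525 s0c526 rfl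
theorem s0u527 : ∀ v, 1 ≤ v → v ≤ 166400 → fs0 v = true := slots_step fs0 166170 230 166400 s0u526 s0c527 rfl
theorem s0u528 : ∀ v, 1 ≤ v → v ≤ 166628 → fs0 v = true := slots_step fs0 166400 228 166628 s0u527 s0c528 rfl
theorem s0u529 : ∀ v, 1 ≤ v → v ≤ 166861 → fs0 v = true := slots_step fs0 166628 233 166861 s0u528 s0c529 rfl
theorem s0u530 : ∀ v, 1 ≤ v → v ≤ 167139 → fs0 v = true := slots_step fs0 166861 278 167139 s0u529 s0c530 rfl
theorem s0u531 : ∀ v, 1 ≤ v → v ≤ 167422 → fs0 v = true := slots_step fs0 167139 283 167422 s0u530 s0c531 rfl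
theorem s0u532 : ∀ v, 1 ≤ v → v ≤ 167741 → fs0 v = true := slots_step fs0 167422 319 167741 s0u531 s0c532 rfl
theorem s0u533 : ∀ v, 1 ≤ v → v ≤ 168037 → fs0 v = true := slots_step fs0 167741 296 168037 s0u532 s0c533 rfl
theorem s0u534 : ∀ v, 1 ≤ v → v ≤ 168343 → fs0 v = true := slots_step fs0 168037 306 168343 s0u533 s0c534 rfl
theorem s0u535 : ∀ v, 1 ≤ v → v ≤ 168656 → fs0 v = true := slots_step fs0 168343 313 168656 s0u534 s0c535 rfl
theorem s0u536 : ∀ v, 1 ≤ v → v ≤ 168972 → fs0 v = true := slots_step fs0 168656 316 168972 s0u535 s0c536 rfl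
theorem s0u537 : ∀ v, 1 ≤ v → v ≤ 169256 → fs0 v = true := slots_step fs0 168972 284 169256 s0u536 s0c537 rfl
theorem s0u538 : ∀ v, 1 ≤ v → v ≤ 169573 → fs0 v = true := slots_step fs0 169256 317 169573 s0u537 s0c538 rfl
theorem s0u539 : ∀ v, 1 ≤ v → v ≤ 169869 → fs0 v = true := slots_step fs0 169573 296 169869 s0u538 s0c539 rfl
theorem s0u540 : ∀ v, 1 ≤ v → v ≤ 170186 → fs0 v = true := slots_step fs0 169869 317 170186 s0u539 s0c540 rfl
theorem s0u541 : ∀ v, 1 ≤ v → v ≤ 170497 → fs0 v = true := slots_step fs0 170186 311 170497 s0u540 s0c541 rfl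
theorem s0u542 : ∀ v, 1 ≤ v → v ≤ 170782 → fs0 v = true := slots_step fs0 170497 285 170782 s0u541 s0c542 rfl
theorem s0u543 : ∀ v, 1 ≤ v → v ≤ 171067 → fs0 v = true := slots_step fs0 170782 285 171067 s0u542 s0c543 rfl
theorem s0u544 : ∀ v, 1 ≤ v → v ≤ 171386 → fs0 v = true := slots_step fs0 171067 319 171386 s0u543 s0c544 rfl
theorem s0u545 : ∀ v, 1 ≤ v → v ≤ 171663 → fs0 v = true := slots_step fs0 171386 277 171663 s0u544 s0c545 rfl
theorem s0u546 : ∀ v, 1 ≤ v → v ≤ 171933 → fs0 v = true := slots_step fs0 171663 270 171933 s0u545 s0c546 rfl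
theorem s0u547 : ∀ v, 1 ≤ v → v ≤ 172247 → fs0 v = true := slots_step fs0 171933 314 172247 s0u546 s0c547 rfl
theorem s0u548 : ∀ v, 1 ≤ v → v ≤ 172535 → fs0 v = true := slots_step fs0 172247 288 172535 s0u547 s0c548 rfl
theorem s0u549 : ∀ v, 1 ≤ v → v ≤ 172837 → fs0 v = true := slots_step fs0 172535 302 172837 s0u548 s0c549 rfl
theorem s0u550 : ∀ v, 1 ≤ v → v ≤ 173120 → fs0 v = true := slots_step fs0 172837 283 173120 s0u549 s0c550 rfl
theorem s0u551 : ∀ v, 1 ≤ v → v ≤ 173429 → fs0 v = true := slots_step fs0 173120 309 173429 s0u550 s0c551 rfl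
theorem s0u552 : ∀ v, 1 ≤ v → v ≤ 173748 → fs0 v = true := slots_step fs0 173429 319 173748 s0u551 s0c552 rfl
theorem s0u553 : ∀ v, 1 ≤ v → v ≤ 174041 → fs0 v = true := slots_step fs0 173748 293 174041 s0u552 s0c553 rfl
theorem s0u554 : ∀ v, 1 ≤ v → v ≤ 174345 → fs0 v = true := slots_step fs0 174041 304 174345 s0u553 s0c554 rfl
theorem s0u555 : ∀ v, 1 ≤ v → v ≤ 174660 → fs0 v = true := slots_step fs0 174345 315 174660 s0u554 s0c555 rfl
theorem s0u556 : ∀ v, 1 ≤ v → v ≤ 174976 → fs0 v = true := slots_step fs0 174660 316 174976 s0u555 s0c556 rfl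
theorem s0u557 : ∀ v, 1 ≤ v → v ≤ 175276 → fs0 v = true := slots_step fs0 174976 300 175276 s0u556 s0c557 rfl
theorem s0u558 : ∀ v, 1 ≤ v → v ≤ 175581 → fs0 v = true := slots_step fs0 175276 305 175581 s0u557 s0c558 rfl
theorem s0u559 : ∀ v, 1 ≤ v → v ≤ 175890 → fs0 v = true := slots_step fs0 175581 309 175890 s0u558 s0c559 rfl
theorem s0u560 : ∀ v, 1 ≤ v → v ≤ 176204 → fs0 v = true := slots_step fs0 175890 314 176204 s0u559 s0c560 rfl
theorem s0u561 : ∀ v, 1 ≤ v → v ≤ 176510 → fs0 v = true := slots_step fs0 176204 306 176510 s0u560 s0c561 rfl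
theorem s0u562 : ∀ v, 1 ≤ v → v ≤ 176794 → fs0 v = true := slots_step fs0 176510 284 176794 s0u561 s0c562 rfl
theorem s0u563 : ∀ v, 1 ≤ v → v ≤ 177101 → fs0 v = true := slots_step fs0 176794 307 177101 s0u562 s0c563 rfl
theorem s0u564 : ∀ v, 1 ≤ v → v ≤ 177347 → fs0 v = true := slots_step fs0 177101 246 177347 s0u563 s0c564 rfl
theorem s0u565 : ∀ v, 1 ≤ v → v ≤ 177577 → fs0 v = true := slots_step fs0 177347 230 177577 s0u564 s0c565 rfl
theorem s0u566 : ∀ v, 1 ≤ v → v ≤ 177806 → fs0 v = true := slots_step fs0 177577 229 177806 s0u565 s0c566 rfl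
theorem s0u567 : ∀ v, 1 ≤ v → v ≤ 178034 → fs0 v = true := slots_step fs0 177806 228 178034 s0u566 s0c567 rfl
theorem s0u568 : ∀ v, 1 ≤ v → v ≤ 178264 → fs0 v = true := slots_step fs0 178034 230 178264 s0u567 s0c568 rfl
theorem s0u569 : ∀ v, 1 ≤ v → v ≤ 178497 → fs0 v = true := slots_step fs0 178264 233 178497 s0u568 s0c569 rfl
theorem s0u570 : ∀ v, 1 ≤ v → v ≤ 178730 → fs0 v = true := slots_step fs0 178497 233 178730 s0u569 s0c570 rfl
theorem s0u571 : ∀ v, 1 ≤ v → v ≤ 178960 → fs0 v = true := slots_step fs0 178730 230 178960 s0u570 s0c571 rfl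
theorem s0u572 : ∀ v, 1 ≤ v → v ≤ 179191 → fs0 v = true := slots_step fs0 178960 231 179191 s0u571 s0c572 rfl
theorem s0u573 : ∀ v, 1 ≤ v → v ≤ 179419 → fs0 v = true := slots_step fs0 179191 228 179419 s0u572 s0c573 rfl
theorem s0u574 : ∀ v, 1 ≤ v → v ≤ 179673 → fs0 v = true := slots_step fs0 179419 254 179673 s0u573 s0c574 rfl
theorem s0u575 : ∀ v, 1 ≤ v → v ≤ 179904 → fs0 v = true := slots_step fs0 179673 231 179904 s0u574 s0c575 rfl
theorem s0u576 : ∀ v, 1 ≤ v → v ≤ 180144 → fs0 v = true := slots_step fs0 179904 240 180144 s0u575 s0c576 rfl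
theorem s0u577 : ∀ v, 1 ≤ v → v ≤ 180374 → fs0 v = true := slots_step fs0 180144 230 180374 s0u576 s0c577 rfl
theorem s0u578 : ∀ v, 1 ≤ v → v ≤ 180607 → fs0 v = true := slots_step fs0 180374 233 180607 s0u577 s0c578 rfl
theorem s0u579 : ∀ v, 1 ≤ v → v ≤ 180834 → fs0 v = true := slots_step fs0 180607 227 180834 s0u578 s0c579 rfl
theorem s0u580 : ∀ v, 1 ≤ v → v ≤ 181062 → fs0 v = true := slots_step fs0 180834 228 181062 s0u579 s0c580 rfl
theorem s0u581 : ∀ v, 1 ≤ v → v ≤ 181290 → fs0 v = true := slots_step fs0 181062 228 181290 s0u580 s0c581 rfl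
theorem s0u582 : ∀ v, 1 ≤ v → v ≤ 181544 → fs0 v = true := slots_step fs0 181290 254 181544 s0u581 s0c582 rfl
theorem s0u583 : ∀ v, 1 ≤ v → v ≤ 181774 → fs0 v = true := slots_step fs0 181544 230 181774 s0u582 s0c583 rfl
theorem s0u584 : ∀ v, 1 ≤ v → v ≤ 182007 → fs0 v = true := slots_step fs0 181774 233 182007 s0u583 s0c584 rfl
theorem s0u585 : ∀ v, 1 ≤ v → v ≤ 182244 → fs0 v = true := slots_step fs0 182007 237 182244 s0u584 s0c585 rfl
theorem s0u586 : ∀ v, 1 ≤ v → v ≤ 182472 → fs0 v = true := slots_step fs0 182244 228 182472 s0u585 s0c586 rfl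
theorem s0u587 : ∀ v, 1 ≤ v → v ≤ 182700 → fs0 v = true := slots_step fs0 182472 228 182700 s0u586 s0c587 rfl
theorem s0u588 : ∀ v, 1 ≤ v → v ≤ 182928 → fs0 v = true := slots_step fs0 182700 228 182928 s0u587 s0c588 rfl
theorem s0u589 : ∀ v, 1 ≤ v → v ≤ 183156 → fs0 v = true := slots_step fs0 182928 228 183156 s0u588 s0c589 rfl
theorem s0u590 : ∀ v, 1 ≤ v → v ≤ 183386 → fs0 v = true := slots_step fs0 183156 230 183386 s0u589 s0c590 rfl
theorem s0u591 : ∀ v, 1 ≤ v → v ≤ 183614 → fs0 v = true := slots_step fs0 183386 228 183614 s0u590 s0c591 rfl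
theorem s0u592 : ∀ v, 1 ≤ v → v ≤ 183846 → fs0 v = true := slots_step fs0 183614 232 183846 s0u591 s0c592 rfl
theorem s0u593 : ∀ v, 1 ≤ v → v ≤ 184081 → fs0 v = true := slots_step fs0 183846 235 184081 s0u592 s0c593 rfl
theorem s0u594 : ∀ v, 1 ≤ v → v ≤ 184333 → fs0 v = true := slots_step fs0 184081 252 184333 s0u593 s0c594 rfl
theorem s0u595 : ∀ v, 1 ≤ v → v ≤ 184566 → fs0 v = true := slots_step fs0 184333 233 184566 s0u594 s0c595 rfl
theorem s0u596 : ∀ v, 1 ≤ v → v ≤ 184802 → fs0 v = true := slots_step fs0 184566 236 184802 s0u595 s0c596 rfl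
theorem s0u597 : ∀ v, 1 ≤ v → v ≤ 185037 → fs0 v = true := slots_step fs0 184802 235 185037 s0u596 s0c597 rfl
theorem s0u598 : ∀ v, 1 ≤ v → v ≤ 185265 → fs0 v = true := slots_step fs0 185037 228 185265 s0u597 s0c598 rfl
theorem s0u599 : ∀ v, 1 ≤ v → v ≤ 185494 → fs0 v = true := slots_step fs0 185265 229 185494 s0u598 s0c599 rfl
theorem s0u600 : ∀ v, 1 ≤ v → v ≤ 185732 → fs0 v = true := slots_step fs0 185494 238 185732 s0u599 s0c600 rfl
theorem s0u601 : ∀ v, 1 ≤ v → v ≤ 185969 → fs0 v = true := slots_step fs0 185732 237 185969 s0u600 s0c601 rfl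
theorem s0u602 : ∀ v, 1 ≤ v → v ≤ 186199 → fs0 v = true := slots_step fs0 185969 230 186199 s0u601 s0c602 rfl
theorem s0u603 : ∀ v, 1 ≤ v → v ≤ 186430 → fs0 v = true := slots_step fs0 186199 231 186430 s0u602 s0c603 rfl
theorem s0u604 : ∀ v, 1 ≤ v → v ≤ 186659 → fs0 v = true := slots_step fs0 186430 229 186659 s0u603 s0c604 rfl
theorem s0u605 : ∀ v, 1 ≤ v → v ≤ 186890 → fs0 v = true := slots_step fs0 186659 231 186890 s0u604 s0c605 rfl
theorem s0u606 : ∀ v, 1 ≤ v → v ≤ 187119 → fs0 v = true := slots_step fs0 186890 229 187119 s0u605 s0c606 rfl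
theorem s0u607 : ∀ v, 1 ≤ v → v ≤ 187366 → fs0 v = true := slots_step fs0 187119 247 187366 s0u606 s0c607 rfl
theorem s0u608 : ∀ v, 1 ≤ v → v ≤ 187683 → fs0 v = true := slots_step fs0 187366 317 187683 s0u607 s0c608 rfl
theorem s0u609 : ∀ v, 1 ≤ v → v ≤ 187960 → fs0 v = true := slots_step fs0 187683 277 187960 s0u608 s0c609 rfl
theorem s0u610 : ∀ v, 1 ≤ v → v ≤ 188278 → fs0 v = true := slots_step fs0 187960 318 188278 s0u609 s0c610 rfl
theorem s0u611 : ∀ v, 1 ≤ v → v ≤ 188572 → fs0 v = true := slots_step fs0 188278 294 188572 s0u610 s0c611 rfl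
theorem s0u612 : ∀ v, 1 ≤ v → v ≤ 188880 → fs0 v = true := slots_step fs0 188572 308 188880 s0u611 s0c612 rfl
theorem s0u613 : ∀ v, 1 ≤ v → v ≤ 189191 → fs0 v = true := slots_step fs0 188880 311 189191 s0u612 s0c613 rfl
theorem s0u614 : ∀ v, 1 ≤ v → v ≤ 189505 → fs0 v = true := slots_step fs0 189191 314 189505 s0u613 s0c614 rfl
theorem s0u615 : ∀ v, 1 ≤ v → v ≤ 189778 → fs0 v = true := slots_step fs0 189505 273 189778 s0u614 s0c615 rfl
theorem s0u616 : ∀ v, 1 ≤ v → v ≤ 190093 → fs0 v = true := slots_step fs0 189778 315 190093 s0u615 s0c616 rfl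
theorem s0u617 : ∀ v, 1 ≤ v → v ≤ 190408 → fs0 v = true := slots_step fs0 190093 315 190408 s0u616 s0c617 rfl
theorem s0u618 : ∀ v, 1 ≤ v → v ≤ 190698 → fs0 v = true := slots_step fs0 190408 290 190698 s0u617 s0c618 rfl
theorem s0u619 : ∀ v, 1 ≤ v → v ≤ 191013 → fs0 v = true := slots_step fs0 190698 315 191013 s0u618 s0c619 rfl
theorem s0u620 : ∀ v, 1 ≤ v → v ≤ 191322 → fs0 v = true := slots_step fs0 191013 309 191322 s0u619 s0c620 rfl
theorem s0u621 : ∀ v, 1 ≤ v → v ≤ 191600 → fs0 v = true := slots_step fs0 191322 278 191600 s0u620 s0c621 rfl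
theorem s0u622 : ∀ v, 1 ≤ v → v ≤ 191889 → fs0 v = true := slots_step fs0 191600 289 191889 s0u621 s0c622 rfl
theorem s0u623 : ∀ v, 1 ≤ v → v ≤ 192198 → fs0 v = true := slots_step fs0 191889 309 192198 s0u622 s0c623 rfl
theorem s0u624 : ∀ v, 1 ≤ v → v ≤ 192485 → fs0 v = true := slots_step fs0 192198 287 192485 s0u623 s0c624 rfl
theorem s0u625 : ∀ v, 1 ≤ v → v ≤ 192744 → fs0 v = true := slots_step fs0 192485 259 192744 s0u624 s0c625 rfl
theorem s0u626 : ∀ v, 1 ≤ v → v ≤ 193046 → fs0 v = true := slots_step fs0 192744 302 193046 s0u625 s0c626 rfl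
theorem s0u627 : ∀ v, 1 ≤ v → v ≤ 193359 → fs0 v = true := slots_step fs0 193046 313 193359 s0u626 s0c627 rfl
theorem s0u628 : ∀ v, 1 ≤ v → v ≤ 193644 → fs0 v = true := slots_step fs0 193359 285 193644 s0u627 s0c628 rfl
theorem s0u629 : ∀ v, 1 ≤ v → v ≤ 193938 → fs0 v = true := slots_step fs0 193644 294 193938 s0u628 s0c629 rfl
theorem s0u630 : ∀ v, 1 ≤ v → v ≤ 194252 → fs0 v = true := slots_step fs0 193938 314 194252 s0u629 s0c630 rfl
theorem s0u631 : ∀ v, 1 ≤ v → v ≤ 194523 → fs0 v = true := slots_step fs0 194252 271 194523 s0u630 s0c631 rfl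
theorem s0u632 : ∀ v, 1 ≤ v → v ≤ 194837 → fs0 v = true := slots_step fs0 194523 314 194837 s0u631 s0c632 rfl
theorem s0u633 : ∀ v, 1 ≤ v → v ≤ 195153 → fs0 v = true := slots_step fs0 194837 316 195153 s0u632 s0c633 rfl
theorem s0u634 : ∀ v, 1 ≤ v → v ≤ 195445 → fs0 v = true := slots_step fs0 195153 292 195445 s0u633 s0c634 rfl
theorem s0u635 : ∀ v, 1 ≤ v → v ≤ 195748 → fs0 v = true := slots_step fs0 195445 303 195748 s0u634 s0c635 rfl
theorem s0u636 : ∀ v, 1 ≤ v → v ≤ 196064 → fs0 v = true := slots_step fs0 195748 316 196064 s0u635 s0c636 rfl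
theorem s0u637 : ∀ v, 1 ≤ v → v ≤ 196383 → fs0 v = true := slots_step fs0 196064 319 196383 s0u636 s0c637 rfl
theorem s0u638 : ∀ v, 1 ≤ v → v ≤ 196688 → fs0 v = true := slots_step fs0 196383 305 196688 s0u637 s0c638 rfl
theorem s0u639 : ∀ v, 1 ≤ v → v ≤ 196994 → fs0 v = true := slots_step fs0 196688 306 196994 s0u638 s0c639 rfl
theorem s0u640 : ∀ v, 1 ≤ v → v ≤ 197305 → fs0 v = true := slots_step fs0 196994 311 197305 s0u639 s0c640 rfl
theorem s0u641 : ∀ v, 1 ≤ v → v ≤ 197620 → fs0 v = true := slots_step fs0 197305 315 197620 s0u640 s0c641 rfl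
theorem s0u642 : ∀ v, 1 ≤ v → v ≤ 197930 → fs0 v = true := slots_step fs0 197620 310 197930 s0u641 s0c642 rfl
theorem s0u643 : ∀ v, 1 ≤ v → v ≤ 198219 → fs0 v = true := slots_step fs0 197930 289 198219 s0u642 s0c643 rfl
theorem s0u644 : ∀ v, 1 ≤ v → v ≤ 198527 → fs0 v = true := slots_step fs0 198219 308 198527 s0u643 s0c644 rfl
theorem s0u645 : ∀ v, 1 ≤ v → v ≤ 198756 → fs0 v = true := slots_step fs0 198527 229 198756 s0u644 s0c645 rfl
theorem s0u646 : ∀ v, 1 ≤ v → v ≤ 198984 → fs0 v = true := slots_step fs0 198756 228 198984 s0u645 s0c646 rfl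
theorem s0u647 : ∀ v, 1 ≤ v → v ≤ 199212 → fs0 v = true := slots_step fs0 198984 228 199212 s0u646 s0c647 rfl
theorem s0u648 : ∀ v, 1 ≤ v → v ≤ 199440 → fs0 v = true := slots_step fs0 199212 228 199440 s0u647 s0c648 rfl
theorem s0u649 : ∀ v, 1 ≤ v → v ≤ 199671 → fs0 v = true := slots_step fs0 199440 231 199671 s0u648 s0c649 rfl
theorem s0u650 : ∀ v, 1 ≤ v → v ≤ 199900 → fs0 v = true := slots_step fs0 199671 229 199900 s0u649 s0c650 rfl
theorem s0u651 : ∀ v, 1 ≤ v → v ≤ 200129 → fs0 v = true := slots_step fs0 199900 229 200129 s0u650 s0c651 rfl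
theorem s0u652 : ∀ v, 1 ≤ v → v ≤ 200358 → fs0 v = true := slots_step fs0 200129 229 200358 s0u651 s0c652 rfl
theorem s0u653 : ∀ v, 1 ≤ v → v ≤ 200587 → fs0 v = true := slots_step fs0 200358 229 200587 s0u652 s0c653 rfl
theorem s0u654 : ∀ v, 1 ≤ v → v ≤ 200815 → fs0 v = true := slots_step fs0 200587 228 200815 s0u653 s0c654 rfl
theorem s0u655 : ∀ v, 1 ≤ v → v ≤ 201073 → fs0 v = true := slots_step fs0 200815 258 201073 s0u654 s0c655 rfl
theorem s0u656 : ∀ v, 1 ≤ v → v ≤ 201304 → fs0 v = true := slots_step fs0 201073 231 201304 s0u655 s0c656 rfl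
theorem s0u657 : ∀ v, 1 ≤ v → v ≤ 201541 → fs0 v = true := slots_step fs0 201304 237 201541 s0u656 s0c657 rfl
theorem s0u658 : ∀ v, 1 ≤ v → v ≤ 201771 → fs0 v = true := slots_step fs0 201541 230 201771 s0u657 s0c658 rfl
theorem s0u659 : ∀ v, 1 ≤ v → v ≤ 202001 → fs0 v = true := slots_step fs0 201771 230 202001 s0u658 s0c659 rfl
theorem s0u660 : ∀ v, 1 ≤ v → v ≤ 202228 → fs0 v = true := slots_step fs0 202001 227 202228 s0u659 s0c660 rfl
theorem s0u661 : ∀ v, 1 ≤ v → v ≤ 202456 → fs0 v = true := slots_step fs0 202228 228 202456 s0u660 s0c661 rfl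
theorem s0u662 : ∀ v, 1 ≤ v → v ≤ 202684 → fs0 v = true := slots_step fs0 202456 228 202684 s0u661 s0c662 rfl
theorem s0u663 : ∀ v, 1 ≤ v → v ≤ 202935 → fs0 v = true := slots_step fs0 202684 251 202935 s0u662 s0c663 rfl
theorem s0u664 : ∀ v, 1 ≤ v → v ≤ 203174 → fs0 v = true := slots_step fs0 202935 239 203174 s0u663 s0c664 rfl
theorem s0u665 : ∀ v, 1 ≤ v → v ≤ 203404 → fs0 v = true := slots_step fs0 203174 230 203404 s0u664 s0c665 rfl
theorem s0u666 : ∀ v, 1 ≤ v → v ≤ 203634 → fs0 v = true := slots_step fs0 203404 230 203634 s0u665 s0c666 rfl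
theorem s0u667 : ∀ v, 1 ≤ v → v ≤ 203872 → fs0 v = true := slots_step fs0 203634 238 203872 s0u666 s0c667 rfl
theorem s0u668 : ∀ v, 1 ≤ v → v ≤ 204100 → fs0 v = true := slots_step fs0 203872 228 204100 s0u667 s0c668 rfl
theorem s0u669 : ∀ v, 1 ≤ v → v ≤ 204330 → fs0 v = true := slots_step fs0 204100 230 204330 s0u668 s0c669 rfl
theorem s0u670 : ∀ v, 1 ≤ v → v ≤ 204558 → fs0 v = true := slots_step fs0 204330 228 204558 s0u669 s0c670 rfl
theorem s0u671 : ∀ v, 1 ≤ v → v ≤ 204786 → fs0 v = true := slots_step fs0 204558 228 204786 s0u670 s0c671 rfl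
theorem s0u672 : ∀ v, 1 ≤ v → v ≤ 205014 → fs0 v = true := slots_step fs0 204786 228 205014 s0u671 s0c672 rfl
theorem s0u673 : ∀ v, 1 ≤ v → v ≤ 205242 → fs0 v = true := slots_step fs0 205014 228 205242 s0u672 s0c673 rfl
theorem s0u674 : ∀ v, 1 ≤ v → v ≤ 205470 → fs0 v = true := slots_step fs0 205242 228 205470 s0u673 s0c674 rfl
theorem s0u675 : ∀ v, 1 ≤ v → v ≤ 205704 → fs0 v = true := slots_step fs0 205470 234 205704 s0u674 s0c675 rfl
theorem s0u676 : ∀ v, 1 ≤ v → v ≤ 205938 → fs0 v = true := slots_step fs0 205704 234 205938 s0u675 s0c676 rfl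
theorem s0u677 : ∀ v, 1 ≤ v → v ≤ 206195 → fs0 v = true := slots_step fs0 205938 257 206195 s0u676 s0c677 rfl
theorem s0u678 : ∀ v, 1 ≤ v → v ≤ 206428 → fs0 v = true := slots_step fs0 206195 233 206428 s0u677 s0c678 rfl
theorem s0u679 : ∀ v, 1 ≤ v → v ≤ 206662 → fs0 v = true := slots_step fs0 206428 234 206662 s0u678 s0c679 rfl
theorem s0u680 : ∀ v, 1 ≤ v → v ≤ 206901 → fs0 v = true := slots_step fs0 206662 239 206901 s0u679 s0c680 rfl
theorem s0u681 : ∀ v, 1 ≤ v → v ≤ 207129 → fs0 v = true := slots_step fs0 206901 228 207129 s0u680 s0c681 rfl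
theorem s0u682 : ∀ v, 1 ≤ v → v ≤ 207358 → fs0 v = true := slots_step fs0 207129 229 207358 s0u681 s0c682 rfl
theorem s0u683 : ∀ v, 1 ≤ v → v ≤ 207594 → fs0 v = true := slots_step fs0 207358 236 207594 s0u682 s0c683 rfl
theorem s0u684 : ∀ v, 1 ≤ v → v ≤ 207825 → fs0 v = true := slots_step fs0 207594 231 207825 s0u683 s0c684 rfl
theorem s0u685 : ∀ v, 1 ≤ v → v ≤ 208060 → fs0 v = true := slots_step fs0 207825 235 208060 s0u684 s0c685 rfl
theorem s0u686 : ∀ v, 1 ≤ v → v ≤ 208290 → fs0 v = true := slots_step fs0 208060 230 208290 s0u685 s0c686 rfl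
theorem s0u687 : ∀ v, 1 ≤ v → v ≤ 208521 → fs0 v = true := slots_step fs0 208290 231 208521 s0u686 s0c687 rfl
theorem s0u688 : ∀ v, 1 ≤ v → v ≤ 208750 → fs0 v = true := slots_step fs0 208521 229 208750 s0u687 s0c688 rfl
theorem s0u689 : ∀ v, 1 ≤ v → v ≤ 208979 → fs0 v = true := slots_step fs0 208750 229 208979 s0u688 s0c689 rfl
theorem s0u690 : ∀ v, 1 ≤ v → v ≤ 209225 → fs0 v = true := slots_step fs0 208979 246 209225 s0u689 s0c690 rfl
theorem s0u691 : ∀ v, 1 ≤ v → v ≤ 209541 → fs0 v = true := slots_step fs0 209225 316 209541 s0u690 s0c691 rfl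
theorem s0u692 : ∀ v, 1 ≤ v → v ≤ 209814 → fs0 v = true := slots_step fs0 209541 273 209814 s0u691 s0c692 rfl
theorem s0u693 : ∀ v, 1 ≤ v → v ≤ 210132 → fs0 v = true := slots_step fs0 209814 318 210132 s0u692 s0c693 rfl
theorem s0u694 : ∀ v, 1 ≤ v → v ≤ 210426 → fs0 v = true := slots_step fs0 210132 294 210426 s0u693 s0c694 rfl
theorem s0u695 : ∀ v, 1 ≤ v → v ≤ 210741 → fs0 v = true := slots_step fs0 210426 315 210741 s0u694 s0c695 rfl
theorem s0u696 : ∀ v, 1 ≤ v → v ≤ 211049 → fs0 v = true := slots_step fs0 210741 308 211049 s0u695 s0c696 rfl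
theorem s0u697 : ∀ v, 1 ≤ v → v ≤ 211362 → fs0 v = true := slots_step fs0 211049 313 211362 s0u696 s0c697 rfl
theorem s0u698 : ∀ v, 1 ≤ v → v ≤ 211645 → fs0 v = true := slots_step fs0 211362 283 211645 s0u697 s0c698 rfl
theorem s0u699 : ∀ v, 1 ≤ v → v ≤ 211935 → fs0 v = true := slots_step fs0 211645 290 211935 s0u698 s0c699 rfl
theorem s0u700 : ∀ v, 1 ≤ v → v ≤ 212250 → fs0 v = true := slots_step fs0 211935 315 212250 s0u699 s0c700 rfl
theorem s0u701 : ∀ v, 1 ≤ v → v ≤ 212563 → fs0 v = true := slots_step fs0 212250 313 212563 s0u700 s0c701 rfl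
theorem s0u702 : ∀ v, 1 ≤ v → v ≤ 212851 → fs0 v = true := slots_step fs0 212563 288 212851 s0u701 s0c702 rfl
theorem s0u703 : ∀ v, 1 ≤ v → v ≤ 213160 → fs0 v = true := slots_step fs0 212851 309 213160 s0u702 s0c703 rfl
theorem s0u704 : ∀ v, 1 ≤ v → v ≤ 213474 → fs0 v = true := slots_step fs0 213160 314 213474 s0u703 s0c704 rfl
theorem s0u705 : ∀ v, 1 ≤ v → v ≤ 213783 → fs0 v = true := slots_step fs0 213474 309 213783 s0u704 s0c705 rfl
theorem s0u706 : ∀ v, 1 ≤ v → v ≤ 214060 → fs0 v = true := slots_step fs0 213783 277 214060 s0u705 s0c706 rfl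
theorem s0u707 : ∀ v, 1 ≤ v → v ≤ 214347 → fs0 v = true := slots_step fs0 214060 287 214347 s0u706 s0c707 rfl
theorem s0u708 : ∀ v, 1 ≤ v → v ≤ 214655 → fs0 v = true := slots_step fs0 214347 308 214655 s0u707 s0c708 rfl
theorem s0u709 : ∀ v, 1 ≤ v → v ≤ 214939 → fs0 v = true := slots_step fs0 214655 284 214939 s0u708 s0c709 rfl
theorem s0u710 : ∀ v, 1 ≤ v → v ≤ 215200 → fs0 v = true := slots_step fs0 214939 261 215200 s0u709 s0c710 rfl
theorem s0u711 : ∀ v, 1 ≤ v → v ≤ 215495 → fs0 v = true := slots_step fs0 215200 295 215495 s0u710 s0c711 rfl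
theorem s0u712 : ∀ v, 1 ≤ v → v ≤ 215808 → fs0 v = true := slots_step fs0 215495 313 215808 s0u711 s0c712 rfl
theorem s0u713 : ∀ v, 1 ≤ v → v ≤ 216121 → fs0 v = true := slots_step fs0 215808 313 216121 s0u712 s0c713 rfl
theorem s0u714 : ∀ v, 1 ≤ v → v ≤ 216386 → fs0 v = true := slots_step fs0 216121 265 216386 s0u713 s0c714 rfl
theorem s0u715 : ∀ v, 1 ≤ v → v ≤ 216687 → fs0 v = true := slots_step fs0 216386 301 216687 s0u714 s0c715 rfl
theorem s0u716 : ∀ v, 1 ≤ v → v ≤ 216999 → fs0 v = true := slots_step fs0 216687 312 216999 s0u715 s0c716 rfl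
theorem s0u717 : ∀ v, 1 ≤ v → v ≤ 217263 → fs0 v = true := slots_step fs0 216999 264 217263 s0u716 s0c717 rfl
theorem s0u718 : ∀ v, 1 ≤ v → v ≤ 217575 → fs0 v = true := slots_step fs0 217263 312 217575 s0u717 s0c718 rfl
theorem s0u719 : ∀ v, 1 ≤ v → v ≤ 217893 → fs0 v = true := slots_step fs0 217575 318 217893 s0u718 s0c719 rfl
theorem s0u720 : ∀ v, 1 ≤ v → v ≤ 218202 → fs0 v = true := slots_step fs0 217893 309 218202 s0u719 s0c720 rfl
theorem s0u721 : ∀ v, 1 ≤ v → v ≤ 218493 → fs0 v = true := slots_step fs0 218202 291 218493 s0u720 s0c721 rfl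
theorem s0u722 : ∀ v, 1 ≤ v → v ≤ 218798 → fs0 v = true := slots_step fs0 218493 305 218798 s0u721 s0c722 rfl
theorem s0u723 : ∀ v, 1 ≤ v → v ≤ 219117 → fs0 v = true := slots_step fs0 218798 319 219117 s0u722 s0c723 rfl
theorem s0u724 : ∀ v, 1 ≤ v → v ≤ 219434 → fs0 v = true := slots_step fs0 219117 317 219434 s0u723 s0c724 rfl
theorem s0u725 : ∀ v, 1 ≤ v → v ≤ 219737 → fs0 v = true := slots_step fs0 219434 303 219737 s0u724 s0c725 rfl
theorem s0u726 : ∀ v, 1 ≤ v → v ≤ 220046 → fs0 v = true := slots_step fs0 219737 309 220046 s0u725 s0c726 rfl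
theorem s0u727 : ∀ v, 1 ≤ v → v ≤ 220358 → fs0 v = true := slots_step fs0 220046 312 220358 s0u726 s0c727 rfl
theorem s0u728 : ∀ v, 1 ≤ v → v ≤ 220676 → fs0 v = true := slots_step fs0 220358 318 220676 s0u727 s0c728 rfl
theorem s0u729 : ∀ v, 1 ≤ v → v ≤ 220978 → fs0 v = true := slots_step fs0 220676 302 220978 s0u728 s0c729 rfl
theorem s0u730 : ∀ v, 1 ≤ v → v ≤ 221274 → fs0 v = true := slots_step fs0 220978 296 221274 s0u729 s0c730 rfl
theorem s0u731 : ∀ v, 1 ≤ v → v ≤ 221543 → fs0 v = true := slots_step fs0 221274 269 221543 s0u730 s0c731 rfl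
theorem s0u732 : ∀ v, 1 ≤ v → v ≤ 221771 → fs0 v = true := slots_step fs0 221543 228 221771 s0u731 s0c732 rfl
theorem s0u733 : ∀ v, 1 ≤ v → v ≤ 221999 → fs0 v = true := slots_step fs0 221771 228 221999 s0u732 s0c733 rfl
theorem s0u734 : ∀ v, 1 ≤ v → v ≤ 222227 → fs0 v = true := slots_step fs0 221999 228 222227 s0u733 s0c734 rfl
theorem s0u735 : ∀ v, 1 ≤ v → v ≤ 222456 → fs0 v = true := slots_step fs0 222227 229 222456 s0u734 s0c735 rfl
theorem s0u736 : ∀ v, 1 ≤ v → v ≤ 222684 → fs0 v = true := slots_step fs0 222456 228 222684 s0u735 s0c736 rfl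
theorem s0u737 : ∀ v, 1 ≤ v → v ≤ 222912 → fs0 v = true := slots_step fs0 222684 228 222912 s0u736 s0c737 rfl
theorem s0u738 : ∀ v, 1 ≤ v → v ≤ 223141 → fs0 v = true := slots_step fs0 222912 229 223141 s0u737 s0c738 rfl
theorem s0u739 : ∀ v, 1 ≤ v → v ≤ 223369 → fs0 v = true := slots_step fs0 223141 228 223369 s0u738 s0c739 rfl
theorem s0u740 : ∀ v, 1 ≤ v → v ≤ 223596 → fs0 v = true := slots_step fs0 223369 227 223596 s0u739 s0c740 rfl
theorem s0u741 : ∀ v, 1 ≤ v → v ≤ 223845 → fs0 v = true := slots_step fs0 223596 249 223845 s0u740 s0c741 rfl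
theorem s0u742 : ∀ v, 1 ≤ v → v ≤ 224086 → fs0 v = true := slots_step fs0 223845 241 224086 s0u741 s0c742 rfl
theorem s0u743 : ∀ v, 1 ≤ v → v ≤ 224317 → fs0 v = true := slots_step fs0 224086 231 224317 s0u742 s0c743 rfl
theorem s0u744 : ∀ v, 1 ≤ v → v ≤ 224554 → fs0 v = true := slots_step fs0 224317 237 224554 s0u743 s0c744 rfl
theorem s0u745 : ∀ v, 1 ≤ v → v ≤ 224782 → fs0 v = true := slots_step fs0 224554 228 224782 s0u744 s0c745 rfl
theorem s0u746 : ∀ v, 1 ≤ v → v ≤ 225012 → fs0 v = true := slots_step fs0 224782 230 225012 s0u745 s0c746 rfl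
theorem s0u747 : ∀ v, 1 ≤ v → v ≤ 225240 → fs0 v = true := slots_step fs0 225012 228 225240 s0u746 s0c747 rfl
theorem s0u748 : ∀ v, 1 ≤ v → v ≤ 225468 → fs0 v = true := slots_step fs0 225240 228 225468 s0u747 s0c748 rfl
theorem s0u749 : ∀ v, 1 ≤ v → v ≤ 225695 → fs0 v = true := slots_step fs0 225468 227 225695 s0u748 s0c749 rfl
theorem s0u750 : ∀ v, 1 ≤ v → v ≤ 225950 → fs0 v = true := slots_step fs0 225695 255 225950 s0u749 s0c750 rfl
theorem s0u751 : ∀ v, 1 ≤ v → v ≤ 226191 → fs0 v = true := slots_step fs0 225950 241 226191 s0u750 s0c751 rfl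
theorem s0u752 : ∀ v, 1 ≤ v → v ≤ 226419 → fs0 v = true := slots_step fs0 226191 228 226419 s0u751 s0c752 rfl
theorem s0u753 : ∀ v, 1 ≤ v → v ≤ 226649 → fs0 v = true := slots_step fs0 226419 230 226649 s0u752 s0c753 rfl
theorem s0u754 : ∀ v, 1 ≤ v → v ≤ 226887 → fs0 v = true := slots_step fs0 226649 238 226887 s0u753 s0c754 rfl
theorem s0u755 : ∀ v, 1 ≤ v → v ≤ 227116 → fs0 v = true := slots_step fs0 226887 229 227116 s0u754 s0c755 rfl
theorem s0u756 : ∀ v, 1 ≤ v → v ≤ 227345 → fs0 v = true := slots_step fs0 227116 229 227345 s0u755 s0c756 rfl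
theorem s0u757 : ∀ v, 1 ≤ v → v ≤ 227575 → fs0 v = true := slots_step fs0 227345 230 227575 s0u756 s0c757 rfl
theorem s0u758 : ∀ v, 1 ≤ v → v ≤ 227802 → fs0 v = true := slots_step fs0 227575 227 227802 s0u757 s0c758 rfl
theorem s0u759 : ∀ v, 1 ≤ v → v ≤ 228030 → fs0 v = true := slots_step fs0 227802 228 228030 s0u758 s0c759 rfl
theorem s0u760 : ∀ v, 1 ≤ v → v ≤ 228258 → fs0 v = true := slots_step fs0 228030 228 228258 s0u759 s0c760 rfl
theorem s0u761 : ∀ v, 1 ≤ v → v ≤ 228486 → fs0 v = true := slots_step fs0 228258 228 228486 s0u760 s0c761 rfl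
theorem s0u762 : ∀ v, 1 ≤ v → v ≤ 228714 → fs0 v = true := slots_step fs0 228486 228 228714 s0u761 s0c762 rfl
theorem s0u763 : ∀ v, 1 ≤ v → v ≤ 228946 → fs0 v = true := slots_step fs0 228714 232 228946 s0u762 s0c763 rfl
theorem s0u764 : ∀ v, 1 ≤ v → v ≤ 229179 → fs0 v = true := slots_step fs0 228946 233 229179 s0u763 s0c764 rfl
theorem s0u765 : ∀ v, 1 ≤ v → v ≤ 229435 → fs0 v = true := slots_step fs0 229179 256 229435 s0u764 s0c765 rfl
theorem s0u766 : ∀ v, 1 ≤ v → v ≤ 229672 → fs0 v = true := slots_step fs0 229435 237 229672 s0u765 s0c766 rfl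
theorem s0u767 : ∀ v, 1 ≤ v → v ≤ 229905 → fs0 v = true := slots_step fs0 229672 233 229905 s0u766 s0c767 rfl
theorem s0u768 : ∀ v, 1 ≤ v → v ≤ 230137 → fs0 v = true := slots_step fs0 229905 232 230137 s0u767 s0c768 rfl
theorem s0u769 : ∀ v, 1 ≤ v → v ≤ 230374 → fs0 v = true := slots_step fs0 230137 237 230374 s0u768 s0c769 rfl
theorem s0u770 : ∀ v, 1 ≤ v → v ≤ 230602 → fs0 v = true := slots_step fs0 230374 228 230602 s0u769 s0c770 rfl
theorem s0u771 : ∀ v, 1 ≤ v → v ≤ 230831 → fs0 v = true := slots_step fs0 230602 229 230831 s0u770 s0c771 rfl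
theorem s0u772 : ∀ v, 1 ≤ v → v ≤ 231062 → fs0 v = true := slots_step fs0 230831 231 231062 s0u771 s0c772 rfl
theorem s0u773 : ∀ v, 1 ≤ v → v ≤ 231294 → fs0 v = true := slots_step fs0 231062 232 231294 s0u772 s0c773 rfl
theorem s0u774 : ∀ v, 1 ≤ v → v ≤ 231528 → fs0 v = true := slots_step fs0 231294 234 231528 s0u773 s0c774 rfl
theorem s0u775 : ∀ v, 1 ≤ v → v ≤ 231758 → fs0 v = true := slots_step fs0 231528 230 231758 s0u774 s0c775 rfl
theorem s0u776 : ∀ v, 1 ≤ v → v ≤ 231988 → fs0 v = true := slots_step fs0 231758 230 231988 s0u775 s0c776 rfl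
theorem s0u777 : ∀ v, 1 ≤ v → v ≤ 232217 → fs0 v = true := slots_step fs0 231988 229 232217 s0u776 s0c777 rfl
theorem s0u778 : ∀ v, 1 ≤ v → v ≤ 232445 → fs0 v = true := slots_step fs0 232217 228 232445 s0u777 s0c778 rfl
theorem s0u779 : ∀ v, 1 ≤ v → v ≤ 232713 → fs0 v = true := slots_step fs0 232445 268 232713 s0u778 s0c779 rfl
theorem s0u780 : ∀ v, 1 ≤ v → v ≤ 233029 → fs0 v = true := slots_step fs0 232713 316 233029 s0u779 s0c780 rfl
theorem s0u781 : ∀ v, 1 ≤ v → v ≤ 233299 → fs0 v = true := slots_step fs0 233029 270 233299 s0u780 s0c781 rfl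
theorem s0u782 : ∀ v, 1 ≤ v → v ≤ 233615 → fs0 v = true := slots_step fs0 233299 316 233615 s0u781 s0c782 rfl
theorem s0u783 : ∀ v, 1 ≤ v → v ≤ 233910 → fs0 v = true := slots_step fs0 233615 295 233910 s0u782 s0c783 rfl
theorem s0u784 : ∀ v, 1 ≤ v → v ≤ 234221 → fs0 v = true := slots_step fs0 233910 311 234221 s0u783 s0c784 rfl
theorem s0u785 : ∀ v, 1 ≤ v → v ≤ 234522 → fs0 v = true := slots_step fs0 234221 301 234522 s0u784 s0c785 rfl
theorem s0u786 : ∀ v, 1 ≤ v → v ≤ 234835 → fs0 v = true := slots_step fs0 234522 313 234835 s0u785 s0c786 rfl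
theorem s0u787 : ∀ v, 1 ≤ v → v ≤ 235139 → fs0 v = true := slots_step fs0 234835 304 235139 s0u786 s0c787 rfl
theorem s0u788 : ∀ v, 1 ≤ v → v ≤ 235404 → fs0 v = true := slots_step fs0 235139 265 235404 s0u787 s0c788 rfl
theorem s0u789 : ∀ v, 1 ≤ v → v ≤ 235710 → fs0 v = true := slots_step fs0 235404 306 235710 s0u788 s0c789 rfl
theorem s0u790 : ∀ v, 1 ≤ v → v ≤ 236024 → fs0 v = true := slots_step fs0 235710 314 236024 s0u789 s0c790 rfl
theorem s0u791 : ∀ v, 1 ≤ v → v ≤ 236337 → fs0 v = true := slots_step fs0 236024 313 236337 s0u790 s0c791 rfl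
theorem s0u792 : ∀ v, 1 ≤ v → v ≤ 236622 → fs0 v = true := slots_step fs0 236337 285 236622 s0u791 s0c792 rfl
theorem s0u793 : ∀ v, 1 ≤ v → v ≤ 236931 → fs0 v = true := slots_step fs0 236622 309 236931 s0u792 s0c793 rfl
theorem s0u794 : ∀ v, 1 ≤ v → v ≤ 237243 → fs0 v = true := slots_step fs0 236931 312 237243 s0u793 s0c794 rfl
theorem s0u795 : ∀ v, 1 ≤ v → v ≤ 237553 → fs0 v = true := slots_step fs0 237243 310 237553 s0u794 s0c795 rfl
theorem s0u796 : ∀ v, 1 ≤ v → v ≤ 237853 → fs0 v = true := slots_step fs0 237553 300 237853 s0u795 s0c796 rfl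
theorem s0u797 : ∀ v, 1 ≤ v → v ≤ 238132 → fs0 v = true := slots_step fs0 237853 279 238132 s0u796 s0c797 rfl
theorem s0u798 : ∀ v, 1 ≤ v → v ≤ 238413 → fs0 v = true := slots_step fs0 238132 281 238413 s0u797 s0c798 rfl
theorem s0u799 : ∀ v, 1 ≤ v → v ≤ 238729 → fs0 v = true := slots_step fs0 238413 316 238729 s0u798 s0c799 rfl
theorem s0u800 : ∀ v, 1 ≤ v → v ≤ 239004 → fs0 v = true := slots_step fs0 238729 275 239004 s0u799 s0c800 rfl
theorem s0u801 : ∀ v, 1 ≤ v → v ≤ 239252 → fs0 v = true := slots_step fs0 239004 248 239252 s0u800 s0c801 rfl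
theorem s0u802 : ∀ v, 1 ≤ v → v ≤ 239563 → fs0 v = true := slots_step fs0 239252 311 239563 s0u801 s0c802 rfl
theorem s0u803 : ∀ v, 1 ≤ v → v ≤ 239876 → fs0 v = true := slots_step fs0 239563 313 239876 s0u802 s0c803 rfl
theorem s0u804 : ∀ v, 1 ≤ v → v ≤ 240189 → fs0 v = true := slots_step fs0 239876 313 240189 s0u803 s0c804 rfl
theorem s0u805 : ∀ v, 1 ≤ v → v ≤ 240451 → fs0 v = true := slots_step fs0 240189 262 240451 s0u804 s0c805 rfl
theorem s0u806 : ∀ v, 1 ≤ v → v ≤ 240740 → fs0 v = true := slots_step fs0 240451 289 240740 s0u805 s0c806 rfl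
theorem s0u807 : ∀ v, 1 ≤ v → v ≤ 241049 → fs0 v = true := slots_step fs0 240740 309 241049 s0u806 s0c807 rfl
theorem s0u808 : ∀ v, 1 ≤ v → v ≤ 241337 → fs0 v = true := slots_step fs0 241049 288 241337 s0u807 s0c808 rfl
theorem s0u809 : ∀ v, 1 ≤ v → v ≤ 241618 → fs0 v = true := slots_step fs0 241337 281 241618 s0u808 s0c809 rfl
theorem s0u810 : ∀ v, 1 ≤ v → v ≤ 241932 → fs0 v = true := slots_step fs0 241618 314 241932 s0u809 s0c810 rfl
theorem s0u811 : ∀ v, 1 ≤ v → v ≤ 242247 → fs0 v = true := slots_step fs0 241932 315 242247 s0u810 s0c811 rfl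
theorem s0u812 : ∀ v, 1 ≤ v → v ≤ 242556 → fs0 v = true := slots_step fs0 242247 309 242556 s0u811 s0c812 rfl
theorem s0u813 : ∀ v, 1 ≤ v → v ≤ 242843 → fs0 v = true := slots_step fs0 242556 287 242843 s0u812 s0c813 rfl
theorem s0u814 : ∀ v, 1 ≤ v → v ≤ 243151 → fs0 v = true := slots_step fs0 242843 308 243151 s0u813 s0c814 rfl
theorem s0u815 : ∀ v, 1 ≤ v → v ≤ 243470 → fs0 v = true := slots_step fs0 243151 319 243470 s0u814 s0c815 rfl
theorem s0u816 : ∀ v, 1 ≤ v → v ≤ 243786 → fs0 v = true := slots_step fs0 243470 316 243786 s0u815 s0c816 rfl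
theorem s0u817 : ∀ v, 1 ≤ v → v ≤ 244093 → fs0 v = true := slots_step fs0 243786 307 244093 s0u816 s0c817 rfl
theorem s0u818 : ∀ v, 1 ≤ v → v ≤ 244404 → fs0 v = true := slots_step fs0 244093 311 244404 s0u817 s0c818 rfl
theorem s0u819 : ∀ v, 1 ≤ v → v ≤ 244720 → fs0 v = true := slots_step fs0 244404 316 244720 s0u818 s0c819 rfl
theorem s0u820 : ∀ v, 1 ≤ v → v ≤ 245037 → fs0 v = true := slots_step fs0 244720 317 245037 s0u819 s0c820 rfl
theorem s0u821 : ∀ v, 1 ≤ v → v ≤ 245338 → fs0 v = true := slots_step fs0 245037 301 245338 s0u820 s0c821 rfl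
theorem s0u822 : ∀ v, 1 ≤ v → v ≤ 245633 → fs0 v = true := slots_step fs0 245338 295 245633 s0u821 s0c822 rfl
theorem s0u823 : ∀ v, 1 ≤ v → v ≤ 245900 → fs0 v = true := slots_step fs0 245633 267 245900 s0u822 s0c823 rfl
theorem s0u824 : ∀ v, 1 ≤ v → v ≤ 246128 → fs0 v = true := slots_step fs0 245900 228 246128 s0u823 s0c824 rfl
theorem s0u825 : ∀ v, 1 ≤ v → v ≤ 246356 → fs0 v = true := slots_step fs0 246128 228 246356 s0u824 s0c825 rfl
theorem s0u826 : ∀ v, 1 ≤ v → v ≤ 246584 → fs0 v = true := slots_step fs0 246356 228 246584 s0u825 s0c826 rfl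
theorem s0u827 : ∀ v, 1 ≤ v → v ≤ 246812 → fs0 v = true := slots_step fs0 246584 228 246812 s0u826 s0c827 rfl
theorem s0u828 : ∀ v, 1 ≤ v → v ≤ 247040 → fs0 v = true := slots_step fs0 246812 228 247040 s0u827 s0c828 rfl
theorem s0u829 : ∀ v, 1 ≤ v → v ≤ 247268 → fs0 v = true := slots_step fs0 247040 228 247268 s0u828 s0c829 rfl
theorem s0u830 : ∀ v, 1 ≤ v → v ≤ 247496 → fs0 v = true := slots_step fs0 247268 228 247496 s0u829 s0c830 rfl
theorem s0u831 : ∀ v, 1 ≤ v → v ≤ 247723 → fs0 v = true := slots_step fs0 247496 227 247723 s0u830 s0c831 rfl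
theorem s0u832 : ∀ v, 1 ≤ v → v ≤ 247951 → fs0 v = true := slots_step fs0 247723 228 247951 s0u831 s0c832 rfl
theorem s0u833 : ∀ v, 1 ≤ v → v ≤ 248211 → fs0 v = true := slots_step fs0 247951 260 248211 s0u832 s0c833 rfl
theorem s0u834 : ∀ v, 1 ≤ v → v ≤ 248443 → fs0 v = true := slots_step fs0 248211 232 248443 s0u833 s0c834 rfl
theorem s0u835 : ∀ v, 1 ≤ v → v ≤ 248673 → fs0 v = true := slots_step fs0 248443 230 248673 s0u834 s0c835 rfl
theorem s0u836 : ∀ v, 1 ≤ v → v ≤ 248909 → fs0 v = true := slots_step fs0 248673 236 248909 s0u835 s0c836 rfl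
theorem s0u837 : ∀ v, 1 ≤ v → v ≤ 249137 → fs0 v = true := slots_step fs0 248909 228 249137 s0u836 s0c837 rfl
theorem s0u838 : ∀ v, 1 ≤ v → v ≤ 249365 → fs0 v = true := slots_step fs0 249137 228 249365 s0u837 s0c838 rfl
theorem s0u839 : ∀ v, 1 ≤ v → v ≤ 249593 → fs0 v = true := slots_step fs0 249365 228 249593 s0u838 s0c839 rfl
theorem s0u840 : ∀ v, 1 ≤ v → v ≤ 249821 → fs0 v = true := slots_step fs0 249593 228 249821 s0u839 s0c840 rfl
theorem s0u841 : ∀ v, 1 ≤ v → v ≤ 250048 → fs0 v = true := slots_step fs0 249821 227 250048 s0u840 s0c841 rfl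
theorem s0u842 : ∀ v, 1 ≤ v → v ≤ 250291 → fs0 v = true := slots_step fs0 250048 243 250291 s0u841 s0c842 rfl
theorem s0u843 : ∀ v, 1 ≤ v → v ≤ 250544 → fs0 v = true := slots_step fs0 250291 253 250544 s0u842 s0c843 rfl
theorem s0u844 : ∀ v, 1 ≤ v → v ≤ 250772 → fs0 v = true := slots_step fs0 250544 228 250772 s0u843 s0c844 rfl
theorem s0u845 : ∀ v, 1 ≤ v → v ≤ 251000 → fs0 v = true := slots_step fs0 250772 228 251000 s0u844 s0c845 rfl
theorem s0u846 : ∀ v, 1 ≤ v → v ≤ 251229 → fs0 v = true := slots_step fs0 251000 229 251229 s0u845 s0c846 rfl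
theorem s0u847 : ∀ v, 1 ≤ v → v ≤ 251463 → fs0 v = true := slots_step fs0 251229 234 251463 s0u846 s0c847 rfl
theorem s0u848 : ∀ v, 1 ≤ v → v ≤ 251695 → fs0 v = true := slots_step fs0 251463 232 251695 s0u847 s0c848 rfl
theorem s0u849 : ∀ v, 1 ≤ v → v ≤ 251924 → fs0 v = true := slots_step fs0 251695 229 251924 s0u848 s0c849 rfl
theorem s0u850 : ∀ v, 1 ≤ v → v ≤ 252153 → fs0 v = true := slots_step fs0 251924 229 252153 s0u849 s0c850 rfl
theorem s0u851 : ∀ v, 1 ≤ v → v ≤ 252381 → fs0 v = true := slots_step fs0 252153 228 252381 s0u850 s0c851 rfl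
theorem s0u852 : ∀ v, 1 ≤ v → v ≤ 252609 → fs0 v = true := slots_step fs0 252381 228 252609 s0u851 s0c852 rfl
theorem s0u853 : ∀ v, 1 ≤ v → v ≤ 252837 → fs0 v = true := slots_step fs0 252609 228 252837 s0u852 s0c853 rfl
theorem s0u854 : ∀ v, 1 ≤ v → v ≤ 253065 → fs0 v = true := slots_step fs0 252837 228 253065 s0u853 s0c854 rfl
theorem s0u855 : ∀ v, 1 ≤ v → v ≤ 253293 → fs0 v = true := slots_step fs0 253065 228 253293 s0u854 s0c855 rfl
theorem s0u856 : ∀ v, 1 ≤ v → v ≤ 253522 → fs0 v = true := slots_step fs0 253293 229 253522 s0u855 s0c856 rfl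
theorem s0u857 : ∀ v, 1 ≤ v → v ≤ 253753 → fs0 v = true := slots_step fs0 253522 231 253753 s0u856 s0c857 rfl
theorem s0u858 : ∀ v, 1 ≤ v → v ≤ 253982 → fs0 v = true := slots_step fs0 253753 229 253982 s0u857 s0c858 rfl
theorem s0u859 : ∀ v, 1 ≤ v → v ≤ 254245 → fs0 v = true := slots_step fs0 253982 263 254245 s0u858 s0c859 rfl
theorem s0u860 : ∀ v, 1 ≤ v → v ≤ 254475 → fs0 v = true := slots_step fs0 254245 230 254475 s0u859 s0c860 rfl
theorem s0u861 : ∀ v, 1 ≤ v → v ≤ 254707 → fs0 v = true := slots_step fs0 254475 232 254707 s0u860 s0c861 rfl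
theorem s0u862 : ∀ v, 1 ≤ v → v ≤ 254938 → fs0 v = true := slots_step fs0 254707 231 254938 s0u861 s0c862 rfl
theorem s0u863 : ∀ v, 1 ≤ v → v ≤ 255175 → fs0 v = true := slots_step fs0 254938 237 255175 s0u862 s0c863 rfl
theorem s0u864 : ∀ v, 1 ≤ v → v ≤ 255404 → fs0 v = true := slots_step fs0 255175 229 255404 s0u863 s0c864 rfl
theorem s0u865 : ∀ v, 1 ≤ v → v ≤ 255633 → fs0 v = true := slots_step fs0 255404 229 255633 s0u864 s0c865 rfl
theorem s0u866 : ∀ v, 1 ≤ v → v ≤ 255864 → fs0 v = true := slots_step fs0 255633 231 255864 s0u865 s0c866 rfl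
theorem s0u867 : ∀ v, 1 ≤ v → v ≤ 256099 → fs0 v = true := slots_step fs0 255864 235 256099 s0u866 s0c867 rfl
theorem s0u868 : ∀ v, 1 ≤ v → v ≤ 256328 → fs0 v = true := slots_step fs0 256099 229 256328 s0u867 s0c868 rfl
theorem s0u869 : ∀ v, 1 ≤ v → v ≤ 256557 → fs0 v = true := slots_step fs0 256328 229 256557 s0u868 s0c869 rfl
theorem s0u870 : ∀ v, 1 ≤ v → v ≤ 256786 → fs0 v = true := slots_step fs0 256557 229 256786 s0u869 s0c870 rfl
theorem s0u871 : ∀ v, 1 ≤ v → v ≤ 257015 → fs0 v = true := slots_step fs0 256786 229 257015 s0u870 s0c871 rfl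
theorem s0u872 : ∀ v, 1 ≤ v → v ≤ 257243 → fs0 v = true := slots_step fs0 257015 228 257243 s0u871 s0c872 rfl
theorem s0u873 : ∀ v, 1 ≤ v → v ≤ 257513 → fs0 v = true := slots_step fs0 257243 270 257513 s0u872 s0c873 rfl
theorem s0u874 : ∀ v, 1 ≤ v → v ≤ 257828 → fs0 v = true := slots_step fs0 257513 315 257828 s0u873 s0c874 rfl
theorem s0u875 : ∀ v, 1 ≤ v → v ≤ 258097 → fs0 v = true := slots_step fs0 257828 269 258097 s0u874 s0c875 rfl
theorem s0u876 : ∀ v, 1 ≤ v → v ≤ 258411 → fs0 v = true := slots_step fs0 258097 314 258411 s0u875 s0c876 rfl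
theorem s0u877 : ∀ v, 1 ≤ v → v ≤ 258708 → fs0 v = true := slots_step fs0 258411 297 258708 s0u876 s0c877 rfl
theorem s0u878 : ∀ v, 1 ≤ v → v ≤ 259016 → fs0 v = true := slots_step fs0 258708 308 259016 s0u877 s0c878 rfl
theorem s0u879 : ∀ v, 1 ≤ v → v ≤ 259317 → fs0 v = true := slots_step fs0 259016 301 259317 s0u878 s0c879 rfl
theorem s0u880 : ∀ v, 1 ≤ v → v ≤ 259630 → fs0 v = true := slots_step fs0 259317 313 259630 s0u879 s0c880 rfl
theorem s0u881 : ∀ v, 1 ≤ v → v ≤ 259940 → fs0 v = true := slots_step fs0 259630 310 259940 s0u880 s0c881 rfl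
theorem s0u882 : ∀ v, 1 ≤ v → v ≤ 260203 → fs0 v = true := slots_step fs0 259940 263 260203 s0u881 s0c882 rfl
theorem s0u883 : ∀ v, 1 ≤ v → v ≤ 260502 → fs0 v = true := slots_step fs0 260203 299 260502 s0u882 s0c883 rfl
theorem s0u884 : ∀ v, 1 ≤ v → v ≤ 260807 → fs0 v = true := slots_step fs0 260502 305 260807 s0u883 s0c884 rfl
theorem s0u885 : ∀ v, 1 ≤ v → v ≤ 261120 → fs0 v = true := slots_step fs0 260807 313 261120 s0u884 s0c885 rfl
theorem s0u886 : ∀ v, 1 ≤ v → v ≤ 261431 → fs0 v = true := slots_step fs0 261120 311 261431 s0u885 s0c886 rfl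
theorem s0u887 : ∀ v, 1 ≤ v → v ≤ 261720 → fs0 v = true := slots_step fs0 261431 289 261720 s0u886 s0c887 rfl
theorem s0u888 : ∀ v, 1 ≤ v → v ≤ 262026 → fs0 v = true := slots_step fs0 261720 306 262026 s0u887 s0c888 rfl
theorem s0u889 : ∀ v, 1 ≤ v → v ≤ 262335 → fs0 v = true := slots_step fs0 262026 309 262335 s0u888 s0c889 rfl
theorem s0u890 : ∀ v, 1 ≤ v → v ≤ 262646 → fs0 v = true := slots_step fs0 262335 311 262646 s0u889 s0c890 rfl
theorem s0u891 : ∀ v, 1 ≤ v → v ≤ 262949 → fs0 v = true := slots_step fs0 262646 303 262949 s0u890 s0c891 rfl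
theorem s0u892 : ∀ v, 1 ≤ v → v ≤ 263227 → fs0 v = true := slots_step fs0 262949 278 263227 s0u891 s0c892 rfl
theorem s0u893 : ∀ v, 1 ≤ v → v ≤ 263513 → fs0 v = true := slots_step fs0 263227 286 263513 s0u892 s0c893 rfl
theorem s0u894 : ∀ v, 1 ≤ v → v ≤ 263811 → fs0 v = true := slots_step fs0 263513 298 263811 s0u893 s0c894 rfl
theorem s0u895 : ∀ v, 1 ≤ v → v ≤ 264118 → fs0 v = true := slots_step fs0 263811 307 264118 s0u894 s0c895 rfl
theorem s0u896 : ∀ v, 1 ≤ v → v ≤ 264377 → fs0 v = true := slots_step fs0 264118 259 264377 s0u895 s0c896 rfl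
theorem s0u897 : ∀ v, 1 ≤ v → v ≤ 264637 → fs0 v = true := slots_step fs0 264377 260 264637 s0u896 s0c897 rfl
theorem s0u898 : ∀ v, 1 ≤ v → v ≤ 264951 → fs0 v = true := slots_step fs0 264637 314 264951 s0u897 s0c898 rfl
theorem s0u899 : ∀ v, 1 ≤ v → v ≤ 265262 → fs0 v = true := slots_step fs0 264951 311 265262 s0u898 s0c899 rfl
theorem s0u900 : ∀ v, 1 ≤ v → v ≤ 265574 → fs0 v = true := slots_step fs0 265262 312 265574 s0u899 s0c900 rfl
theorem s0u901 : ∀ v, 1 ≤ v → v ≤ 265829 → fs0 v = true := slots_step fs0 265574 255 265829 s0u900 s0c901 rfl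
theorem s0u902 : ∀ v, 1 ≤ v → v ≤ 266111 → fs0 v = true := slots_step fs0 265829 282 266111 s0u901 s0c902 rfl
theorem s0u903 : ∀ v, 1 ≤ v → v ≤ 266418 → fs0 v = true := slots_step fs0 266111 307 266418 s0u902 s0c903 rfl
theorem s0u904 : ∀ v, 1 ≤ v → v ≤ 266725 → fs0 v = true := slots_step fs0 266418 307 266725 s0u903 s0c904 rfl
theorem s0u905 : ∀ v, 1 ≤ v → v ≤ 266979 → fs0 v = true := slots_step fs0 266725 254 266979 s0u904 s0c905 rfl
theorem s0u906 : ∀ v, 1 ≤ v → v ≤ 267296 → fs0 v = true := slots_step fs0 266979 317 267296 s0u905 s0c906 rfl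
theorem s0u907 : ∀ v, 1 ≤ v → v ≤ 267609 → fs0 v = true := slots_step fs0 267296 313 267609 s0u906 s0c907 rfl
theorem s0u908 : ∀ v, 1 ≤ v → v ≤ 267920 → fs0 v = true := slots_step fs0 267609 311 267920 s0u907 s0c908 rfl
theorem s0u909 : ∀ v, 1 ≤ v → v ≤ 268215 → fs0 v = true := slots_step fs0 267920 295 268215 s0u908 s0c909 rfl
theorem s0u910 : ∀ v, 1 ≤ v → v ≤ 268522 → fs0 v = true := slots_step fs0 268215 307 268522 s0u909 s0c910 rfl
theorem s0u911 : ∀ v, 1 ≤ v → v ≤ 268839 → fs0 v = true := slots_step fs0 268522 317 268839 s0u910 s0c911 rfl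
theorem s0u912 : ∀ v, 1 ≤ v → v ≤ 269155 → fs0 v = true := slots_step fs0 268839 316 269155 s0u911 s0c912 rfl
theorem s0u913 : ∀ v, 1 ≤ v → v ≤ 269469 → fs0 v = true := slots_step fs0 269155 314 269469 s0u912 s0c913 rfl
theorem s0u914 : ∀ v, 1 ≤ v → v ≤ 269778 → fs0 v = true := slots_step fs0 269469 309 269778 s0u913 s0c914 rfl
theorem s0u915 : ∀ v, 1 ≤ v → v ≤ 270096 → fs0 v = true := slots_step fs0 269778 318 270096 s0u914 s0c915 rfl
theorem s0u916 : ∀ v, 1 ≤ v → v ≤ 270414 → fs0 v = true := slots_step fs0 270096 318 270414 s0u915 s0c916 rfl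
theorem s0u917 : ∀ v, 1 ≤ v → v ≤ 270712 → fs0 v = true := slots_step fs0 270414 298 270712 s0u916 s0c917 rfl
theorem s0u918 : ∀ v, 1 ≤ v → v ≤ 271007 → fs0 v = true := slots_step fs0 270712 295 271007 s0u917 s0c918 rfl
theorem s0u919 : ∀ v, 1 ≤ v → v ≤ 271266 → fs0 v = true := slots_step fs0 271007 259 271266 s0u918 s0c919 rfl
theorem s0u920 : ∀ v, 1 ≤ v → v ≤ 271494 → fs0 v = true := slots_step fs0 271266 228 271494 s0u919 s0c920 rfl
theorem s0u921 : ∀ v, 1 ≤ v → v ≤ 271722 → fs0 v = true := slots_step fs0 271494 228 271722 s0u920 s0c921 rfl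
theorem s0u922 : ∀ v, 1 ≤ v → v ≤ 271950 → fs0 v = true := slots_step fs0 271722 228 271950 s0u921 s0c922 rfl
theorem s0u923 : ∀ v, 1 ≤ v → v ≤ 272178 → fs0 v = true := slots_step fs0 271950 228 272178 s0u922 s0c923 rfl
theorem s0u924 : ∀ v, 1 ≤ v → v ≤ 272406 → fs0 v = true := slots_step fs0 272178 228 272406 s0u923 s0c924 rfl
theorem s0u925 : ∀ v, 1 ≤ v → v ≤ 272634 → fs0 v = true := slots_step fs0 272406 228 272634 s0u924 s0c925 rfl
theorem s0u926 : ∀ v, 1 ≤ v → v ≤ 272861 → fs0 v = true := slots_step fs0 272634 227 272861 s0u925 s0c926 rfl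
theorem s0u927 : ∀ v, 1 ≤ v → v ≤ 273089 → fs0 v = true := slots_step fs0 272861 228 273089 s0u926 s0c927 rfl
theorem s0u928 : ∀ v, 1 ≤ v → v ≤ 273316 → fs0 v = true := slots_step fs0 273089 227 273316 s0u927 s0c928 rfl
theorem s0u929 : ∀ v, 1 ≤ v → v ≤ 273575 → fs0 v = true := slots_step fs0 273316 259 273575 s0u928 s0c929 rfl
theorem s0u930 : ∀ v, 1 ≤ v → v ≤ 273809 → fs0 v = true := slots_step fs0 273575 234 273809 s0u929 s0c930 rfl
theorem s0u931 : ∀ v, 1 ≤ v → v ≤ 274038 → fs0 v = true := slots_step fs0 273809 229 274038 s0u930 s0c931 rfl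
theorem s0u932 : ∀ v, 1 ≤ v → v ≤ 274272 → fs0 v = true := slots_step fs0 274038 234 274272 s0u931 s0c932 rfl
theorem s0u933 : ∀ v, 1 ≤ v → v ≤ 274501 → fs0 v = true := slots_step fs0 274272 229 274501 s0u932 s0c933 rfl
theorem s0u934 : ∀ v, 1 ≤ v → v ≤ 274729 → fs0 v = true := slots_step fs0 274501 228 274729 s0u933 s0c934 rfl
theorem s0u935 : ∀ v, 1 ≤ v → v ≤ 274957 → fs0 v = true := slots_step fs0 274729 228 274957 s0u934 s0c935 rfl
theorem s0u936 : ∀ v, 1 ≤ v → v ≤ 275184 → fs0 v = true := slots_step fs0 274957 227 275184 s0u935 s0c936 rfl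
theorem s0u937 : ∀ v, 1 ≤ v → v ≤ 275412 → fs0 v = true := slots_step fs0 275184 228 275412 s0u936 s0c937 rfl
theorem s0u938 : ∀ v, 1 ≤ v → v ≤ 275642 → fs0 v = true := slots_step fs0 275412 230 275642 s0u937 s0c938 rfl
theorem s0u939 : ∀ v, 1 ≤ v → v ≤ 275901 → fs0 v = true := slots_step fs0 275642 259 275901 s0u938 s0c939 rfl
theorem s0u940 : ∀ v, 1 ≤ v → v ≤ 276136 → fs0 v = true := slots_step fs0 275901 235 276136 s0u939 s0c940 rfl
theorem s0u941 : ∀ v, 1 ≤ v → v ≤ 276364 → fs0 v = true := slots_step fs0 276136 228 276364 s0u940 s0c941 rfl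
theorem s0u942 : ∀ v, 1 ≤ v → v ≤ 276592 → fs0 v = true := slots_step fs0 276364 228 276592 s0u941 s0c942 rfl
theorem s0u943 : ∀ v, 1 ≤ v → v ≤ 276821 → fs0 v = true := slots_step fs0 276592 229 276821 s0u942 s0c943 rfl
theorem s0u944 : ∀ v, 1 ≤ v → v ≤ 277050 → fs0 v = true := slots_step fs0 276821 229 277050 s0u943 s0c944 rfl
theorem s0u945 : ∀ v, 1 ≤ v → v ≤ 277287 → fs0 v = true := slots_step fs0 277050 237 277287 s0u944 s0c945 rfl
theorem s0u946 : ∀ v, 1 ≤ v → v ≤ 277516 → fs0 v = true := slots_step fs0 277287 229 277516 s0u945 s0c946 rfl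
theorem s0u947 : ∀ v, 1 ≤ v → v ≤ 277744 → fs0 v = true := slots_step fs0 277516 228 277744 s0u946 s0c947 rfl
theorem s0u948 : ∀ v, 1 ≤ v → v ≤ 277972 → fs0 v = true := slots_step fs0 277744 228 277972 s0u947 s0c948 rfl
theorem s0u949 : ∀ v, 1 ≤ v → v ≤ 278200 → fs0 v = true := slots_step fs0 277972 228 278200 s0u948 s0c949 rfl
theorem s0u950 : ∀ v, 1 ≤ v → v ≤ 278428 → fs0 v = true := slots_step fs0 278200 228 278428 s0u949 s0c950 rfl
theorem s0u951 : ∀ v, 1 ≤ v → v ≤ 278656 → fs0 v = true := slots_step fs0 278428 228 278656 s0u950 s0c951 rfl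
theorem s0u952 : ∀ v, 1 ≤ v → v ≤ 278884 → fs0 v = true := slots_step fs0 278656 228 278884 s0u951 s0c952 rfl
theorem s0u953 : ∀ v, 1 ≤ v → v ≤ 279113 → fs0 v = true := slots_step fs0 278884 229 279113 s0u952 s0c953 rfl
theorem s0u954 : ∀ v, 1 ≤ v → v ≤ 279343 → fs0 v = true := slots_step fs0 279113 230 279343 s0u953 s0c954 rfl
theorem s0u955 : ∀ v, 1 ≤ v → v ≤ 279572 → fs0 v = true := slots_step fs0 279343 229 279572 s0u954 s0c955 rfl
theorem s0u956 : ∀ v, 1 ≤ v → v ≤ 279833 → fs0 v = true := slots_step fs0 279572 261 279833 s0u955 s0c956 rfl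
theorem s0u957 : ∀ v, 1 ≤ v → v ≤ 280065 → fs0 v = true := slots_step fs0 279833 232 280065 s0u956 s0c957 rfl
theorem s0u958 : ∀ v, 1 ≤ v → v ≤ 280297 → fs0 v = true := slots_step fs0 280065 232 280297 s0u957 s0c958 rfl
theorem s0u959 : ∀ v, 1 ≤ v → v ≤ 280526 → fs0 v = true := slots_step fs0 280297 229 280526 s0u958 s0c959 rfl
theorem s0u960 : ∀ v, 1 ≤ v → v ≤ 280763 → fs0 v = true := slots_step fs0 280526 237 280763 s0u959 s0c960 rfl
theorem s0u961 : ∀ v, 1 ≤ v → v ≤ 280992 → fs0 v = true := slots_step fs0 280763 229 280992 s0u960 s0c961 rfl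
theorem s0u962 : ∀ v, 1 ≤ v → v ≤ 281221 → fs0 v = true := slots_step fs0 280992 229 281221 s0u961 s0c962 rfl
theorem s0u963 : ∀ v, 1 ≤ v → v ≤ 281451 → fs0 v = true := slots_step fs0 281221 230 281451 s0u962 s0c963 rfl
theorem s0u964 : ∀ v, 1 ≤ v → v ≤ 281686 → fs0 v = true := slots_step fs0 281451 235 281686 s0u963 s0c964 rfl
theorem s0u965 : ∀ v, 1 ≤ v → v ≤ 281914 → fs0 v = true := slots_step fs0 281686 228 281914 s0u964 s0c965 rfl
theorem s0u966 : ∀ v, 1 ≤ v → v ≤ 282142 → fs0 v = true := slots_step fs0 281914 228 282142 s0u965 s0c966 rfl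
theorem s0u967 : ∀ v, 1 ≤ v → v ≤ 282369 → fs0 v = true := slots_step fs0 282142 227 282369 s0u966 s0c967 rfl
theorem s0u968 : ∀ v, 1 ≤ v → v ≤ 282599 → fs0 v = true := slots_step fs0 282369 230 282599 s0u967 s0c968 rfl
theorem s0u969 : ∀ v, 1 ≤ v → v ≤ 282827 → fs0 v = true := slots_step fs0 282599 228 282827 s0u968 s0c969 rfl
theorem s0u970 : ∀ v, 1 ≤ v → v ≤ 283092 → fs0 v = true := slots_step fs0 282827 265 283092 s0u969 s0c970 rfl
theorem s0u971 : ∀ v, 1 ≤ v → v ≤ 283405 → fs0 v = true := slots_step fs0 283092 313 283405 s0u970 s0c971 rfl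
theorem s0u972 : ∀ v, 1 ≤ v → v ≤ 283676 → fs0 v = true := slots_step fs0 283405 271 283676 s0u971 s0c972 rfl
theorem s0u973 : ∀ v, 1 ≤ v → v ≤ 283988 → fs0 v = true := slots_step fs0 283676 312 283988 s0u972 s0c973 rfl
theorem s0u974 : ∀ v, 1 ≤ v → v ≤ 284301 → fs0 v = true := slots_step fs0 283988 313 284301 s0u973 s0c974 rfl
theorem s0u975 : ∀ v, 1 ≤ v → v ≤ 284589 → fs0 v = true := slots_step fs0 284301 288 284589 s0u974 s0c975 rfl
theorem s0u976 : ∀ v, 1 ≤ v → v ≤ 284893 → fs0 v = true := slots_step fs0 284589 304 284893 s0u975 s0c976 rfl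
theorem s0u977 : ∀ v, 1 ≤ v → v ≤ 285198 → fs0 v = true := slots_step fs0 284893 305 285198 s0u976 s0c977 rfl
theorem s0u978 : ∀ v, 1 ≤ v → v ≤ 285505 → fs0 v = true := slots_step fs0 285198 307 285505 s0u977 s0c978 rfl
theorem s0u979 : ∀ v, 1 ≤ v → v ≤ 285777 → fs0 v = true := slots_step fs0 285505 272 285777 s0u978 s0c979 rfl
theorem s0u980 : ∀ v, 1 ≤ v → v ≤ 286062 → fs0 v = true := slots_step fs0 285777 285 286062 s0u979 s0c980 rfl
theorem s0u981 : ∀ v, 1 ≤ v → v ≤ 286367 → fs0 v = true := slots_step fs0 286062 305 286367 s0u980 s0c981 rfl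
theorem s0u982 : ∀ v, 1 ≤ v → v ≤ 286676 → fs0 v = true := slots_step fs0 286367 309 286676 s0u981 s0c982 rfl
theorem s0u983 : ∀ v, 1 ≤ v → v ≤ 286990 → fs0 v = true := slots_step fs0 286676 314 286990 s0u982 s0c983 rfl
theorem s0u984 : ∀ v, 1 ≤ v → v ≤ 287303 → fs0 v = true := slots_step fs0 286990 313 287303 s0u983 s0c984 rfl
theorem s0u985 : ∀ v, 1 ≤ v → v ≤ 287591 → fs0 v = true := slots_step fs0 287303 288 287591 s0u984 s0c985 rfl
theorem s0u986 : ∀ v, 1 ≤ v → v ≤ 287895 → fs0 v = true := slots_step fs0 287591 304 287895 s0u985 s0c986 rfl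
theorem s0u987 : ∀ v, 1 ≤ v → v ≤ 288198 → fs0 v = true := slots_step fs0 287895 303 288198 s0u986 s0c987 rfl
theorem s0u988 : ∀ v, 1 ≤ v → v ≤ 288506 → fs0 v = true := slots_step fs0 288198 308 288506 s0u987 s0c988 rfl
theorem s0u989 : ∀ v, 1 ≤ v → v ≤ 288809 → fs0 v = true := slots_step fs0 288506 303 288809 s0u988 s0c989 rfl
theorem s0u990 : ∀ v, 1 ≤ v → v ≤ 289083 → fs0 v = true := slots_step fs0 288809 274 289083 s0u989 s0c990 rfl
theorem s0u991 : ∀ v, 1 ≤ v → v ≤ 289368 → fs0 v = true := slots_step fs0 289083 285 289368 s0u990 s0c991 rfl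
theorem s0u992 : ∀ v, 1 ≤ v → v ≤ 289671 → fs0 v = true := slots_step fs0 289368 303 289671 s0u991 s0c992 rfl
theorem s0u993 : ∀ v, 1 ≤ v → v ≤ 289948 → fs0 v = true := slots_step fs0 289671 277 289948 s0u992 s0c993 rfl
theorem s0u994 : ∀ v, 1 ≤ v → v ≤ 290198 → fs0 v = true := slots_step fs0 289948 250 290198 s0u993 s0c994 rfl
theorem s0u995 : ∀ v, 1 ≤ v → v ≤ 290509 → fs0 v = true := slots_step fs0 290198 311 290509 s0u994 s0c995 rfl
theorem s0u996 : ∀ v, 1 ≤ v → v ≤ 290819 → fs0 v = true := slots_step fs0 290509 310 290819 s0u995 s0c996 rfl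
theorem s0u997 : ∀ v, 1 ≤ v → v ≤ 291128 → fs0 v = true := slots_step fs0 290819 309 291128 s0u996 s0c997 rfl
theorem s0u998 : ∀ v, 1 ≤ v → v ≤ 291383 → fs0 v = true := slots_step fs0 291128 255 291383 s0u997 s0c998 rfl
theorem s0u999 : ∀ v, 1 ≤ v → v ≤ 291666 → fs0 v = true := slots_step fs0 291383 283 291666 s0u998 s0c999 rfl
theorem s0u1000 : ∀ v, 1 ≤ v → v ≤ 291966 → fs0 v = true := slots_step fs0 291666 300 291966 s0u999 s0c1000 rfl
theorem s0u1001 : ∀ v, 1 ≤ v → v ≤ 292275 → fs0 v = true := slots_step fs0 291966 309 292275 s0u1000 s0c1001 rfl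
theorem s0u1002 : ∀ v, 1 ≤ v → v ≤ 292534 → fs0 v = true := slots_step fs0 292275 259 292534 s0u1001 s0c1002 rfl
theorem s0u1003 : ∀ v, 1 ≤ v → v ≤ 292851 → fs0 v = true := slots_step fs0 292534 317 292851 s0u1002 s0c1003 rfl
theorem s0u1004 : ∀ v, 1 ≤ v → v ≤ 293160 → fs0 v = true := slots_step fs0 292851 309 293160 s0u1003 s0c1004 rfl
theorem s0u1005 : ∀ v, 1 ≤ v → v ≤ 293471 → fs0 v = true := slots_step fs0 293160 311 293471 s0u1004 s0c1005 rfl
theorem s0u1006 : ∀ v, 1 ≤ v → v ≤ 293769 → fs0 v = true := slots_step fs0 293471 298 293769 s0u1005 s0c1006 rfl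
theorem s0u1007 : ∀ v, 1 ≤ v → v ≤ 294084 → fs0 v = true := slots_step fs0 293769 315 294084 s0u1006 s0c1007 rfl
theorem s0u1008 : ∀ v, 1 ≤ v → v ≤ 294401 → fs0 v = true := slots_step fs0 294084 317 294401 s0u1007 s0c1008 rfl
theorem s0u1009 : ∀ v, 1 ≤ v → v ≤ 294712 → fs0 v = true := slots_step fs0 294401 311 294712 s0u1008 s0c1009 rfl
theorem s0u1010 : ∀ v, 1 ≤ v → v ≤ 295027 → fs0 v = true := slots_step fs0 294712 315 295027 s0u1009 s0c1010 rfl
theorem s0u1011 : ∀ v, 1 ≤ v → v ≤ 295345 → fs0 v = true := slots_step fs0 295027 318 295345 s0u1010 s0c1011 rfl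
theorem s0u1012 : ∀ v, 1 ≤ v → v ≤ 295656 → fs0 v = true := slots_step fs0 295345 311 295656 s0u1011 s0c1012 rfl
theorem s0u1013 : ∀ v, 1 ≤ v → v ≤ 295948 → fs0 v = true := slots_step fs0 295656 292 295948 s0u1012 s0c1013 rfl
theorem s0u1014 : ∀ v, 1 ≤ v → v ≤ 296227 → fs0 v = true := slots_step fs0 295948 279 296227 s0u1013 s0c1014 rfl
theorem s0u1015 : ∀ v, 1 ≤ v → v ≤ 296455 → fs0 v = true := slots_step fs0 296227 228 296455 s0u1014 s0c1015 rfl
theorem s0u1016 : ∀ v, 1 ≤ v → v ≤ 296683 → fs0 v = true := slots_step fs0 296455 228 296683 s0u1015 s0c1016 rfl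
theorem s0u1017 : ∀ v, 1 ≤ v → v ≤ 296911 → fs0 v = true := slots_step fs0 296683 228 296911 s0u1016 s0c1017 rfl
theorem s0u1018 : ∀ v, 1 ≤ v → v ≤ 297139 → fs0 v = true := slots_step fs0 296911 228 297139 s0u1017 s0c1018 rfl
theorem s0u1019 : ∀ v, 1 ≤ v → v ≤ 297367 → fs0 v = true := slots_step fs0 297139 228 297367 s0u1018 s0c1019 rfl
theorem s0u1020 : ∀ v, 1 ≤ v → v ≤ 297595 → fs0 v = true := slots_step fs0 297367 228 297595 s0u1019 s0c1020 rfl
theorem s0u1021 : ∀ v, 1 ≤ v → v ≤ 297822 → fs0 v = true := slots_step fs0 297595 227 297822 s0u1020 s0c1021 rfl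
theorem s0u1022 : ∀ v, 1 ≤ v → v ≤ 298049 → fs0 v = true := slots_step fs0 297822 227 298049 s0u1021 s0c1022 rfl
theorem s0u1023 : ∀ v, 1 ≤ v → v ≤ 298277 → fs0 v = true := slots_step fs0 298049 228 298277 s0u1022 s0c1023 rfl
theorem s0u1024 : ∀ v, 1 ≤ v → v ≤ 298513 → fs0 v = true := slots_step fs0 298277 236 298513 s0u1023 s0c1024 rfl
theorem s0u1025 : ∀ v, 1 ≤ v → v ≤ 298765 → fs0 v = true := slots_step fs0 298513 252 298765 s0u1024 s0c1025 rfl
theorem s0u1026 : ∀ v, 1 ≤ v → v ≤ 298996 → fs0 v = true := slots_step fs0 298765 231 298996 s0u1025 s0c1026 rfl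
theorem s0u1027 : ∀ v, 1 ≤ v → v ≤ 299226 → fs0 v = true := slots_step fs0 298996 230 299226 s0u1026 s0c1027 rfl
theorem s0u1028 : ∀ v, 1 ≤ v → v ≤ 299455 → fs0 v = true := slots_step fs0 299226 229 299455 s0u1027 s0c1028 rfl
theorem s0u1029 : ∀ v, 1 ≤ v → v ≤ 299684 → fs0 v = true := slots_step fs0 299455 229 299684 s0u1028 s0c1029 rfl
theorem s0u1030 : ∀ v, 1 ≤ v → v ≤ 299912 → fs0 v = true := slots_step fs0 299684 228 299912 s0u1029 s0c1030 rfl
theorem s0u1031 : ∀ v, 1 ≤ v → v ≤ 300139 → fs0 v = true := slots_step fs0 299912 227 300139 s0u1030 s0c1031 rfl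
theorem s0u1032 : ∀ v, 1 ≤ v → v ≤ 300367 → fs0 v = true := slots_step fs0 300139 228 300367 s0u1031 s0c1032 rfl
theorem s0u1033 : ∀ v, 1 ≤ v → v ≤ 300595 → fs0 v = true := slots_step fs0 300367 228 300595 s0u1032 s0c1033 rfl
theorem s0u1034 : ∀ v, 1 ≤ v → v ≤ 300842 → fs0 v = true := slots_step fs0 300595 247 300842 s0u1033 s0c1034 rfl
theorem s0u1035 : ∀ v, 1 ≤ v → v ≤ 301089 → fs0 v = true := slots_step fs0 300842 247 301089 s0u1034 s0c1035 rfl
theorem s0u1036 : ∀ v, 1 ≤ v → v ≤ 301317 → fs0 v = true := slots_step fs0 301089 228 301317 s0u1035 s0c1036 rfl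
theorem s0u1037 : ∀ v, 1 ≤ v → v ≤ 301545 → fs0 v = true := slots_step fs0 301317 228 301545 s0u1036 s0c1037 rfl
theorem s0u1038 : ∀ v, 1 ≤ v → v ≤ 301773 → fs0 v = true := slots_step fs0 301545 228 301773 s0u1037 s0c1038 rfl
theorem s0u1039 : ∀ v, 1 ≤ v → v ≤ 302001 → fs0 v = true := slots_step fs0 301773 228 302001 s0u1038 s0c1039 rfl
theorem s0u1040 : ∀ v, 1 ≤ v → v ≤ 302234 → fs0 v = true := slots_step fs0 302001 233 302234 s0u1039 s0c1040 rfl
theorem s0u1041 : ∀ v, 1 ≤ v → v ≤ 302463 → fs0 v = true := slots_step fs0 302234 229 302463 s0u1040 s0c1041 rfl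
theorem s0u1042 : ∀ v, 1 ≤ v → v ≤ 302691 → fs0 v = true := slots_step fs0 302463 228 302691 s0u1041 s0c1042 rfl
theorem s0u1043 : ∀ v, 1 ≤ v → v ≤ 302919 → fs0 v = true := slots_step fs0 302691 228 302919 s0u1042 s0c1043 rfl
theorem s0u1044 : ∀ v, 1 ≤ v → v ≤ 303147 → fs0 v = true := slots_step fs0 302919 228 303147 s0u1043 s0c1044 rfl
theorem s0u1045 : ∀ v, 1 ≤ v → v ≤ 303375 → fs0 v = true := slots_step fs0 303147 228 303375 s0u1044 s0c1045 rfl
theorem s0u1046 : ∀ v, 1 ≤ v → v ≤ 303603 → fs0 v = true := slots_step fs0 303375 228 303603 s0u1045 s0c1046 rfl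
theorem s0u1047 : ∀ v, 1 ≤ v → v ≤ 303831 → fs0 v = true := slots_step fs0 303603 228 303831 s0u1046 s0c1047 rfl
theorem s0u1048 : ∀ v, 1 ≤ v → v ≤ 304060 → fs0 v = true := slots_step fs0 303831 229 304060 s0u1047 s0c1048 rfl
theorem s0u1049 : ∀ v, 1 ≤ v → v ≤ 304290 → fs0 v = true := slots_step fs0 304060 230 304290 s0u1048 s0c1049 rfl
theorem s0u1050 : ∀ v, 1 ≤ v → v ≤ 304523 → fs0 v = true := slots_step fs0 304290 233 304523 s0u1049 s0c1050 rfl
theorem s0u1051 : ∀ v, 1 ≤ v → v ≤ 304776 → fs0 v = true := slots_step fs0 304523 253 304776 s0u1050 s0c1051 rfl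
theorem s0u1052 : ∀ v, 1 ≤ v → v ≤ 305009 → fs0 v = true := slots_step fs0 304776 233 305009 s0u1051 s0c1052 rfl
theorem s0u1053 : ∀ v, 1 ≤ v → v ≤ 305239 → fs0 v = true := slots_step fs0 305009 230 305239 s0u1052 s0c1053 rfl
theorem s0u1054 : ∀ v, 1 ≤ v → v ≤ 305474 → fs0 v = true := slots_step fs0 305239 235 305474 s0u1053 s0c1054 rfl
theorem s0u1055 : ∀ v, 1 ≤ v → v ≤ 305703 → fs0 v = true := slots_step fs0 305474 229 305703 s0u1054 s0c1055 rfl
theorem s0u1056 : ∀ v, 1 ≤ v → v ≤ 305932 → fs0 v = true := slots_step fs0 305703 229 305932 s0u1055 s0c1056 rfl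
theorem s0u1057 : ∀ v, 1 ≤ v → v ≤ 306162 → fs0 v = true := slots_step fs0 305932 230 306162 s0u1056 s0c1057 rfl
theorem s0u1058 : ∀ v, 1 ≤ v → v ≤ 306396 → fs0 v = true := slots_step fs0 306162 234 306396 s0u1057 s0c1058 rfl
theorem s0u1059 : ∀ v, 1 ≤ v → v ≤ 306623 → fs0 v = true := slots_step fs0 306396 227 306623 s0u1058 s0c1059 rfl
theorem s0u1060 : ∀ v, 1 ≤ v → v ≤ 306851 → fs0 v = true := slots_step fs0 306623 228 306851 s0u1059 s0c1060 rfl
theorem s0u1061 : ∀ v, 1 ≤ v → v ≤ 307078 → fs0 v = true := slots_step fs0 306851 227 307078 s0u1060 s0c1061 rfl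
theorem s0u1062 : ∀ v, 1 ≤ v → v ≤ 307306 → fs0 v = true := slots_step fs0 307078 228 307306 s0u1061 s0c1062 rfl
theorem s0u1063 : ∀ v, 1 ≤ v → v ≤ 307534 → fs0 v = true := slots_step fs0 307306 228 307534 s0u1062 s0c1063 rfl
theorem s0u1064 : ∀ v, 1 ≤ v → v ≤ 307845 → fs0 v = true := slots_step fs0 307534 311 307845 s0u1063 s0c1064 rfl
theorem s0u1065 : ∀ v, 1 ≤ v → v ≤ 308139 → fs0 v = true := slots_step fs0 307845 294 308139 s0u1064 s0c1065 rfl
theorem s0u1066 : ∀ v, 1 ≤ v → v ≤ 308429 → fs0 v = true := slots_step fs0 308139 290 308429 s0u1065 s0c1066 rfl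
theorem s0u1067 : ∀ v, 1 ≤ v → v ≤ 308730 → fs0 v = true := slots_step fs0 308429 301 308730 s0u1066 s0c1067 rfl
theorem s0u1068 : ∀ v, 1 ≤ v → v ≤ 309027 → fs0 v = true := slots_step fs0 308730 297 309027 s0u1067 s0c1068 rfl
theorem s0u1069 : ∀ v, 1 ≤ v → v ≤ 309316 → fs0 v = true := slots_step fs0 309027 289 309316 s0u1068 s0c1069 rfl
theorem s0u1070 : ∀ v, 1 ≤ v → v ≤ 309620 → fs0 v = true := slots_step fs0 309316 304 309620 s0u1069 s0c1070 rfl
theorem s0u1071 : ∀ v, 1 ≤ v → v ≤ 309897 → fs0 v = true := slots_step fs0 309620 277 309897 s0u1070 s0c1071 rfl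
theorem s0u1072 : ∀ v, 1 ≤ v → v ≤ 310179 → fs0 v = true := slots_step fs0 309897 282 310179 s0u1071 s0c1072 rfl
theorem s0u1073 : ∀ v, 1 ≤ v → v ≤ 310482 → fs0 v = true := slots_step fs0 310179 303 310482 s0u1072 s0c1073 rfl
theorem s0u1074 : ∀ v, 1 ≤ v → v ≤ 310788 → fs0 v = true := slots_step fs0 310482 306 310788 s0u1073 s0c1074 rfl
theorem s0u1075 : ∀ v, 1 ≤ v → v ≤ 311099 → fs0 v = true := slots_step fs0 310788 311 311099 s0u1074 s0c1075 rfl
theorem s0u1076 : ∀ v, 1 ≤ v → v ≤ 311412 → fs0 v = true := slots_step fs0 311099 313 311412 s0u1075 s0c1076 rfl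
theorem s0u1077 : ∀ v, 1 ≤ v → v ≤ 311709 → fs0 v = true := slots_step fs0 311412 297 311709 s0u1076 s0c1077 rfl
theorem s0u1078 : ∀ v, 1 ≤ v → v ≤ 312008 → fs0 v = true := slots_step fs0 311709 299 312008 s0u1077 s0c1078 rfl
theorem s0u1079 : ∀ v, 1 ≤ v → v ≤ 312306 → fs0 v = true := slots_step fs0 312008 298 312306 s0u1078 s0c1079 rfl
theorem s0u1080 : ∀ v, 1 ≤ v → v ≤ 312608 → fs0 v = true := slots_step fs0 312306 302 312608 s0u1079 s0c1080 rfl
theorem s0u1081 : ∀ v, 1 ≤ v → v ≤ 312912 → fs0 v = true := slots_step fs0 312608 304 312912 s0u1080 s0c1081 rfl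
theorem s0u1082 : ∀ v, 1 ≤ v → v ≤ 313183 → fs0 v = true := slots_step fs0 312912 271 313183 s0u1081 s0c1082 rfl
theorem s0u1083 : ∀ v, 1 ≤ v → v ≤ 313478 → fs0 v = true := slots_step fs0 313183 295 313478 s0u1082 s0c1083 rfl
theorem s0u1084 : ∀ v, 1 ≤ v → v ≤ 313728 → fs0 v = true := slots_step fs0 313478 250 313728 s0u1083 s0c1084 rfl
theorem s0u1085 : ∀ v, 1 ≤ v → v ≤ 314040 → fs0 v = true := slots_step fs0 313728 312 314040 s0u1084 s0c1085 rfl
theorem s0u1086 : ∀ v, 1 ≤ v → v ≤ 314353 → fs0 v = true := slots_step fs0 314040 313 314353 s0u1085 s0c1086 rfl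
theorem s0u1087 : ∀ v, 1 ≤ v → v ≤ 314619 → fs0 v = true := slots_step fs0 314353 266 314619 s0u1086 s0c1087 rfl
theorem s0u1088 : ∀ v, 1 ≤ v → v ≤ 314898 → fs0 v = true := slots_step fs0 314619 279 314898 s0u1087 s0c1088 rfl
theorem s0u1089 : ∀ v, 1 ≤ v → v ≤ 315187 → fs0 v = true := slots_step fs0 314898 289 315187 s0u1088 s0c1089 rfl
theorem s0u1090 : ∀ v, 1 ≤ v → v ≤ 315495 → fs0 v = true := slots_step fs0 315187 308 315495 s0u1089 s0c1090 rfl
theorem s0u1091 : ∀ v, 1 ≤ v → v ≤ 315768 → fs0 v = true := slots_step fs0 315495 273 315768 s0u1090 s0c1091 rfl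
theorem s0u1092 : ∀ v, 1 ≤ v → v ≤ 316081 → fs0 v = true := slots_step fs0 315768 313 316081 s0u1091 s0c1092 rfl
theorem s0u1093 : ∀ v, 1 ≤ v → v ≤ 316388 → fs0 v = true := slots_step fs0 316081 307 316388 s0u1092 s0c1093 rfl
theorem s0u1094 : ∀ v, 1 ≤ v → v ≤ 316693 → fs0 v = true := slots_step fs0 316388 305 316693 s0u1093 s0c1094 rfl
theorem s0u1095 : ∀ v, 1 ≤ v → v ≤ 317009 → fs0 v = true := slots_step fs0 316693 316 317009 s0u1094 s0c1095 rfl
theorem s0u1096 : ∀ v, 1 ≤ v → v ≤ 317321 → fs0 v = true := slots_step fs0 317009 312 317321 s0u1095 s0c1096 rfl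
theorem s0u1097 : ∀ v, 1 ≤ v → v ≤ 317637 → fs0 v = true := slots_step fs0 317321 316 317637 s0u1096 s0c1097 rfl
theorem s0u1098 : ∀ v, 1 ≤ v → v ≤ 317955 → fs0 v = true := slots_step fs0 317637 318 317955 s0u1097 s0c1098 rfl
theorem s0u1099 : ∀ v, 1 ≤ v → v ≤ 318256 → fs0 v = true := slots_step fs0 317955 301 318256 s0u1098 s0c1099 rfl
theorem s0u1100 : ∀ v, 1 ≤ v → v ≤ 318529 → fs0 v = true := slots_step fs0 318256 273 318529 s0u1099 s0c1100 rfl
theorem s0u1101 : ∀ v, 1 ≤ v → v ≤ 318757 → fs0 v = true := slots_step fs0 318529 228 318757 s0u1100 s0c1101 rfl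
theorem s0u1102 : ∀ v, 1 ≤ v → v ≤ 318985 → fs0 v = true := slots_step fs0 318757 228 318985 s0u1101 s0c1102 rfl
theorem s0u1103 : ∀ v, 1 ≤ v → v ≤ 319213 → fs0 v = true := slots_step fs0 318985 228 319213 s0u1102 s0c1103 rfl
theorem s0u1104 : ∀ v, 1 ≤ v → v ≤ 319441 → fs0 v = true := slots_step fs0 319213 228 319441 s0u1103 s0c1104 rfl
theorem s0u1105 : ∀ v, 1 ≤ v → v ≤ 319669 → fs0 v = true := slots_step fs0 319441 228 319669 s0u1104 s0c1105 rfl
theorem s0u1106 : ∀ v, 1 ≤ v → v ≤ 319897 → fs0 v = true := slots_step fs0 319669 228 319897 s0u1105 s0c1106 rfl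
theorem s0u1107 : ∀ v, 1 ≤ v → v ≤ 320125 → fs0 v = true := slots_step fs0 319897 228 320125 s0u1106 s0c1107 rfl
theorem s0u1108 : ∀ v, 1 ≤ v → v ≤ 320353 → fs0 v = true := slots_step fs0 320125 228 320353 s0u1107 s0c1108 rfl
theorem s0u1109 : ∀ v, 1 ≤ v → v ≤ 320581 → fs0 v = true := slots_step fs0 320353 228 320581 s0u1108 s0c1109 rfl
theorem s0u1110 : ∀ v, 1 ≤ v → v ≤ 320816 → fs0 v = true := slots_step fs0 320581 235 320816 s0u1109 s0c1110 rfl
theorem s0u1111 : ∀ v, 1 ≤ v → v ≤ 321056 → fs0 v = true := slots_step fs0 320816 240 321056 s0u1110 s0c1111 rfl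
theorem s0u1112 : ∀ v, 1 ≤ v → v ≤ 321286 → fs0 v = true := slots_step fs0 321056 230 321286 s0u1111 s0c1112 rfl
theorem s0u1113 : ∀ v, 1 ≤ v → v ≤ 321515 → fs0 v = true := slots_step fs0 321286 229 321515 s0u1112 s0c1113 rfl
theorem s0u1114 : ∀ v, 1 ≤ v → v ≤ 321744 → fs0 v = true := slots_step fs0 321515 229 321744 s0u1113 s0c1114 rfl
theorem s0u1115 : ∀ v, 1 ≤ v → v ≤ 321972 → fs0 v = true := slots_step fs0 321744 228 321972 s0u1114 s0c1115 rfl
theorem s0u1116 : ∀ v, 1 ≤ v → v ≤ 322200 → fs0 v = true := slots_step fs0 321972 228 322200 s0u1115 s0c1116 rfl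
theorem s0u1117 : ∀ v, 1 ≤ v → v ≤ 322428 → fs0 v = true := slots_step fs0 322200 228 322428 s0u1116 s0c1117 rfl
theorem s0u1118 : ∀ v, 1 ≤ v → v ≤ 322669 → fs0 v = true := slots_step fs0 322428 241 322669 s0u1117 s0c1118 rfl
theorem s0u1119 : ∀ v, 1 ≤ v → v ≤ 322910 → fs0 v = true := slots_step fs0 322669 241 322910 s0u1118 s0c1119 rfl
theorem s0u1120 : ∀ v, 1 ≤ v → v ≤ 323138 → fs0 v = true := slots_step fs0 322910 228 323138 s0u1119 s0c1120 rfl
theorem s0u1121 : ∀ v, 1 ≤ v → v ≤ 323366 → fs0 v = true := slots_step fs0 323138 228 323366 s0u1120 s0c1121 rfl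
theorem s0u1122 : ∀ v, 1 ≤ v → v ≤ 323594 → fs0 v = true := slots_step fs0 323366 228 323594 s0u1121 s0c1122 rfl
theorem s0u1123 : ∀ v, 1 ≤ v → v ≤ 323822 → fs0 v = true := slots_step fs0 323594 228 323822 s0u1122 s0c1123 rfl
theorem s0u1124 : ∀ v, 1 ≤ v → v ≤ 324054 → fs0 v = true := slots_step fs0 323822 232 324054 s0u1123 s0c1124 rfl
theorem s0u1125 : ∀ v, 1 ≤ v → v ≤ 324282 → fs0 v = true := slots_step fs0 324054 228 324282 s0u1124 s0c1125 rfl
theorem s0u1126 : ∀ v, 1 ≤ v → v ≤ 324510 → fs0 v = true := slots_step fs0 324282 228 324510 s0u1125 s0c1126 rfl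
theorem s0u1127 : ∀ v, 1 ≤ v → v ≤ 324738 → fs0 v = true := slots_step fs0 324510 228 324738 s0u1126 s0c1127 rfl
theorem s0u1128 : ∀ v, 1 ≤ v → v ≤ 324965 → fs0 v = true := slots_step fs0 324738 227 324965 s0u1127 s0c1128 rfl
theorem s0u1129 : ∀ v, 1 ≤ v → v ≤ 325193 → fs0 v = true := slots_step fs0 324965 228 325193 s0u1128 s0c1129 rfl
theorem s0u1130 : ∀ v, 1 ≤ v → v ≤ 325421 → fs0 v = true := slots_step fs0 325193 228 325421 s0u1129 s0c1130 rfl
theorem s0u1131 : ∀ v, 1 ≤ v → v ≤ 325649 → fs0 v = true := slots_step fs0 325421 228 325649 s0u1130 s0c1131 rfl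
theorem s0u1132 : ∀ v, 1 ≤ v → v ≤ 325893 → fs0 v = true := slots_step fs0 325649 244 325893 s0u1131 s0c1132 rfl
theorem s0u1133 : ∀ v, 1 ≤ v → v ≤ 326121 → fs0 v = true := slots_step fs0 325893 228 326121 s0u1132 s0c1133 rfl
theorem s0u1134 : ∀ v, 1 ≤ v → v ≤ 326352 → fs0 v = true := slots_step fs0 326121 231 326352 s0u1133 s0c1134 rfl
theorem s0u1135 : ∀ v, 1 ≤ v → v ≤ 326581 → fs0 v = true := slots_step fs0 326352 229 326581 s0u1134 s0c1135 rfl
theorem s0u1136 : ∀ v, 1 ≤ v → v ≤ 326810 → fs0 v = true := slots_step fs0 326581 229 326810 s0u1135 s0c1136 rfl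
theorem s0u1137 : ∀ v, 1 ≤ v → v ≤ 327041 → fs0 v = true := slots_step fs0 326810 231 327041 s0u1136 s0c1137 rfl
theorem s0u1138 : ∀ v, 1 ≤ v → v ≤ 327268 → fs0 v = true := slots_step fs0 327041 227 327268 s0u1137 s0c1138 rfl
theorem s0u1139 : ∀ v, 1 ≤ v → v ≤ 327494 → fs0 v = true := slots_step fs0 327268 226 327494 s0u1138 s0c1139 rfl
theorem s0u1140 : ∀ v, 1 ≤ v → v ≤ 327722 → fs0 v = true := slots_step fs0 327494 228 327722 s0u1139 s0c1140 rfl
theorem s0u1141 : ∀ v, 1 ≤ v → v ≤ 327950 → fs0 v = true := slots_step fs0 327722 228 327950 s0u1140 s0c1141 rfl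
theorem s0u1142 : ∀ v, 1 ≤ v → v ≤ 328227 → fs0 v = true := slots_step fs0 327950 277 328227 s0u1141 s0c1142 rfl
theorem s0u1143 : ∀ v, 1 ≤ v → v ≤ 328520 → fs0 v = true := slots_step fs0 328227 293 328520 s0u1142 s0c1143 rfl
theorem s0u1144 : ∀ v, 1 ≤ v → v ≤ 328820 → fs0 v = true := slots_step fs0 328520 300 328820 s0u1143 s0c1144 rfl
theorem s0u1145 : ∀ v, 1 ≤ v → v ≤ 329113 → fs0 v = true := slots_step fs0 328820 293 329113 s0u1144 s0c1145 rfl
theorem s0u1146 : ∀ v, 1 ≤ v → v ≤ 329404 → fs0 v = true := slots_step fs0 329113 291 329404 s0u1145 s0c1146 rfl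
theorem s0u1147 : ∀ v, 1 ≤ v → v ≤ 329669 → fs0 v = true := slots_step fs0 329404 265 329669 s0u1146 s0c1147 rfl
theorem s0u1148 : ∀ v, 1 ≤ v → v ≤ 329974 → fs0 v = true := slots_step fs0 329669 305 329974 s0u1147 s0c1148 rfl
theorem s0u1149 : ∀ v, 1 ≤ v → v ≤ 330279 → fs0 v = true := slots_step fs0 329974 305 330279 s0u1148 s0c1149 rfl
theorem s0u1150 : ∀ v, 1 ≤ v → v ≤ 330585 → fs0 v = true := slots_step fs0 330279 306 330585 s0u1149 s0c1150 rfl
theorem s0u1151 : ∀ v, 1 ≤ v → v ≤ 330900 → fs0 v = true := slots_step fs0 330585 315 330900 s0u1150 s0c1151 rfl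
theorem s0u1152 : ∀ v, 1 ≤ v → v ≤ 331197 → fs0 v = true := slots_step fs0 330900 297 331197 s0u1151 s0c1152 rfl
theorem s0u1153 : ∀ v, 1 ≤ v → v ≤ 331490 → fs0 v = true := slots_step fs0 331197 293 331490 s0u1152 s0c1153 rfl
theorem s0u1154 : ∀ v, 1 ≤ v → v ≤ 331786 → fs0 v = true := slots_step fs0 331490 296 331786 s0u1153 s0c1154 rfl
theorem s0u1155 : ∀ v, 1 ≤ v → v ≤ 332078 → fs0 v = true := slots_step fs0 331786 292 332078 s0u1154 s0c1155 rfl
theorem s0u1156 : ∀ v, 1 ≤ v → v ≤ 332351 → fs0 v = true := slots_step fs0 332078 273 332351 s0u1155 s0c1156 rfl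
theorem s0u1157 : ∀ v, 1 ≤ v → v ≤ 332647 → fs0 v = true := slots_step fs0 332351 296 332647 s0u1156 s0c1157 rfl
theorem s0u1158 : ∀ v, 1 ≤ v → v ≤ 332941 → fs0 v = true := slots_step fs0 332647 294 332941 s0u1157 s0c1158 rfl
theorem s0u1159 : ∀ v, 1 ≤ v → v ≤ 333212 → fs0 v = true := slots_step fs0 332941 271 333212 s0u1158 s0c1159 rfl
theorem s0u1160 : ∀ v, 1 ≤ v → v ≤ 333494 → fs0 v = true := slots_step fs0 333212 282 333494 s0u1159 s0c1160 rfl
theorem s0u1161 : ∀ v, 1 ≤ v → v ≤ 333789 → fs0 v = true := slots_step fs0 333494 295 333789 s0u1160 s0c1161 rfl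
theorem s0u1162 : ∀ v, 1 ≤ v → v ≤ 334089 → fs0 v = true := slots_step fs0 333789 300 334089 s0u1161 s0c1162 rfl
theorem s0u1163 : ∀ v, 1 ≤ v → v ≤ 334398 → fs0 v = true := slots_step fs0 334089 309 334398 s0u1162 s0c1163 rfl
theorem s0u1164 : ∀ v, 1 ≤ v → v ≤ 334711 → fs0 v = true := slots_step fs0 334398 313 334711 s0u1163 s0c1164 rfl
theorem s0u1165 : ∀ v, 1 ≤ v → v ≤ 335030 → fs0 v = true := slots_step fs0 334711 319 335030 s0u1164 s0c1165 rfl
theorem s0u1166 : ∀ v, 1 ≤ v → v ≤ 335338 → fs0 v = true := slots_step fs0 335030 308 335338 s0u1165 s0c1166 rfl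
theorem s0u1167 : ∀ v, 1 ≤ v → v ≤ 335598 → fs0 v = true := slots_step fs0 335338 260 335598 s0u1166 s0c1167 rfl
theorem s0u1168 : ∀ v, 1 ≤ v → v ≤ 335826 → fs0 v = true := slots_step fs0 335598 228 335826 s0u1167 s0c1168 rfl
theorem s0u1169 : ∀ v, 1 ≤ v → v ≤ 336054 → fs0 v = true := slots_step fs0 335826 228 336054 s0u1168 s0c1169 rfl
theorem s0u1170 : ∀ v, 1 ≤ v → v ≤ 336282 → fs0 v = true := slots_step fs0 336054 228 336282 s0u1169 s0c1170 rfl
theorem s0u1171 : ∀ v, 1 ≤ v → v ≤ 336510 → fs0 v = true := slots_step fs0 336282 228 336510 s0u1170 s0c1171 rfl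
theorem s0u1172 : ∀ v, 1 ≤ v → v ≤ 336738 → fs0 v = true := slots_step fs0 336510 228 336738 s0u1171 s0c1172 rfl
theorem s0u1173 : ∀ v, 1 ≤ v → v ≤ 336966 → fs0 v = true := slots_step fs0 336738 228 336966 s0u1172 s0c1173 rfl
theorem s0u1174 : ∀ v, 1 ≤ v → v ≤ 337194 → fs0 v = true := slots_step fs0 336966 228 337194 s0u1173 s0c1174 rfl
theorem s0u1175 : ∀ v, 1 ≤ v → v ≤ 337423 → fs0 v = true := slots_step fs0 337194 229 337423 s0u1174 s0c1175 rfl
theorem s0u1176 : ∀ v, 1 ≤ v → v ≤ 337657 → fs0 v = true := slots_step fs0 337423 234 337657 s0u1175 s0c1176 rfl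
theorem s0u1177 : ∀ v, 1 ≤ v → v ≤ 337886 → fs0 v = true := slots_step fs0 337657 229 337886 s0u1176 s0c1177 rfl
theorem s0u1178 : ∀ v, 1 ≤ v → v ≤ 338114 → fs0 v = true := slots_step fs0 337886 228 338114 s0u1177 s0c1178 rfl
theorem s0u1179 : ∀ v, 1 ≤ v → v ≤ 338342 → fs0 v = true := slots_step fs0 338114 228 338342 s0u1178 s0c1179 rfl
theorem s0u1180 : ∀ v, 1 ≤ v → v ≤ 338573 → fs0 v = true := slots_step fs0 338342 231 338573 s0u1179 s0c1180 rfl
theorem s0u1181 : ∀ v, 1 ≤ v → v ≤ 338804 → fs0 v = true := slots_step fs0 338573 231 338804 s0u1180 s0c1181 rfl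
theorem s0u1182 : ∀ v, 1 ≤ v → v ≤ 339032 → fs0 v = true := slots_step fs0 338804 228 339032 s0u1181 s0c1182 rfl
theorem s0u1183 : ∀ v, 1 ≤ v → v ≤ 339260 → fs0 v = true := slots_step fs0 339032 228 339260 s0u1182 s0c1183 rfl
theorem s0u1184 : ∀ v, 1 ≤ v → v ≤ 339488 → fs0 v = true := slots_step fs0 339260 228 339488 s0u1183 s0c1184 rfl
theorem s0u1185 : ∀ v, 1 ≤ v → v ≤ 339717 → fs0 v = true := slots_step fs0 339488 229 339717 s0u1184 s0c1185 rfl
theorem s0u1186 : ∀ v, 1 ≤ v → v ≤ 339945 → fs0 v = true := slots_step fs0 339717 228 339945 s0u1185 s0c1186 rfl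
theorem s0u1187 : ∀ v, 1 ≤ v → v ≤ 340173 → fs0 v = true := slots_step fs0 339945 228 340173 s0u1186 s0c1187 rfl
theorem s0u1188 : ∀ v, 1 ≤ v → v ≤ 340400 → fs0 v = true := slots_step fs0 340173 227 340400 s0u1187 s0c1188 rfl
theorem s0u1189 : ∀ v, 1 ≤ v → v ≤ 340627 → fs0 v = true := slots_step fs0 340400 227 340627 s0u1188 s0c1189 rfl
theorem s0u1190 : ∀ v, 1 ≤ v → v ≤ 340861 → fs0 v = true := slots_step fs0 340627 234 340861 s0u1189 s0c1190 rfl
theorem s0u1191 : ∀ v, 1 ≤ v → v ≤ 341089 → fs0 v = true := slots_step fs0 340861 228 341089 s0u1190 s0c1191 rfl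
theorem s0u1192 : ∀ v, 1 ≤ v → v ≤ 341318 → fs0 v = true := slots_step fs0 341089 229 341318 s0u1191 s0c1192 rfl
theorem s0u1193 : ∀ v, 1 ≤ v → v ≤ 341545 → fs0 v = true := slots_step fs0 341318 227 341545 s0u1192 s0c1193 rfl
theorem s0u1194 : ∀ v, 1 ≤ v → v ≤ 341771 → fs0 v = true := slots_step fs0 341545 226 341771 s0u1193 s0c1194 rfl
theorem s0u1195 : ∀ v, 1 ≤ v → v ≤ 341999 → fs0 v = true := slots_step fs0 341771 228 341999 s0u1194 s0c1195 rfl
theorem s0u1196 : ∀ v, 1 ≤ v → v ≤ 342236 → fs0 v = true := slots_step fs0 341999 237 342236 s0u1195 s0c1196 rfl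
theorem s0u1197 : ∀ v, 1 ≤ v → v ≤ 342546 → fs0 v = true := slots_step fs0 342236 310 342546 s0u1196 s0c1197 rfl
theorem s0u1198 : ∀ v, 1 ≤ v → v ≤ 342831 → fs0 v = true := slots_step fs0 342546 285 342831 s0u1197 s0c1198 rfl
theorem s0u1199 : ∀ v, 1 ≤ v → v ≤ 343126 → fs0 v = true := slots_step fs0 342831 295 343126 s0u1198 s0c1199 rfl
theorem s0u1200 : ∀ v, 1 ≤ v → v ≤ 343415 → fs0 v = true := slots_step fs0 343126 289 343415 s0u1199 s0c1200 rfl
theorem s0u1201 : ∀ v, 1 ≤ v → v ≤ 343718 → fs0 v = true := slots_step fs0 343415 303 343718 s0u1200 s0c1201 rfl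
theorem s0u1202 : ∀ v, 1 ≤ v → v ≤ 344033 → fs0 v = true := slots_step fs0 343718 315 344033 s0u1201 s0c1202 rfl
theorem s0u1203 : ∀ v, 1 ≤ v → v ≤ 344331 → fs0 v = true := slots_step fs0 344033 298 344331 s0u1202 s0c1203 rfl
theorem s0u1204 : ∀ v, 1 ≤ v → v ≤ 344616 → fs0 v = true := slots_step fs0 344331 285 344616 s0u1203 s0c1204 rfl
theorem s0u1205 : ∀ v, 1 ≤ v → v ≤ 344895 → fs0 v = true := slots_step fs0 344616 279 344895 s0u1204 s0c1205 rfl
theorem s0u1206 : ∀ v, 1 ≤ v → v ≤ 345188 → fs0 v = true := slots_step fs0 344895 293 345188 s0u1205 s0c1206 rfl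
theorem s0u1207 : ∀ v, 1 ≤ v → v ≤ 345467 → fs0 v = true := slots_step fs0 345188 279 345467 s0u1206 s0c1207 rfl
theorem s0u1208 : ∀ v, 1 ≤ v → v ≤ 345772 → fs0 v = true := slots_step fs0 345467 305 345772 s0u1207 s0c1208 rfl
theorem s0u1209 : ∀ v, 1 ≤ v → v ≤ 346089 → fs0 v = true := slots_step fs0 345772 317 346089 s0u1208 s0c1209 rfl
theorem s0u1210 : ∀ v, 1 ≤ v → v ≤ 346397 → fs0 v = true := slots_step fs0 346089 308 346397 s0u1209 s0c1210 rfl
theorem s0u1211 : ∀ v, 1 ≤ v → v ≤ 346639 → fs0 v = true := slots_step fs0 346397 242 346639 s0u1210 s0c1211 rfl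
theorem s0u1212 : ∀ v, 1 ≤ v → v ≤ 346867 → fs0 v = true := slots_step fs0 346639 228 346867 s0u1211 s0c1212 rfl
theorem s0u1213 : ∀ v, 1 ≤ v → v ≤ 347095 → fs0 v = true := slots_step fs0 346867 228 347095 s0u1212 s0c1213 rfl
theorem s0u1214 : ∀ v, 1 ≤ v → v ≤ 347323 → fs0 v = true := slots_step fs0 347095 228 347323 s0u1213 s0c1214 rfl
theorem s0u1215 : ∀ v, 1 ≤ v → v ≤ 347551 → fs0 v = true := slots_step fs0 347323 228 347551 s0u1214 s0c1215 rfl
theorem s0u1216 : ∀ v, 1 ≤ v → v ≤ 347779 → fs0 v = true := slots_step fs0 347551 228 347779 s0u1215 s0c1216 rfl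
theorem s0u1217 : ∀ v, 1 ≤ v → v ≤ 348008 → fs0 v = true := slots_step fs0 347779 229 348008 s0u1216 s0c1217 rfl
theorem s0u1218 : ∀ v, 1 ≤ v → v ≤ 348236 → fs0 v = true := slots_step fs0 348008 228 348236 s0u1217 s0c1218 rfl
theorem s0u1219 : ∀ v, 1 ≤ v → v ≤ 348465 → fs0 v = true := slots_step fs0 348236 229 348465 s0u1218 s0c1219 rfl
theorem s0u1220 : ∀ v, 1 ≤ v → v ≤ 348694 → fs0 v = true := slots_step fs0 348465 229 348694 s0u1219 s0c1220 rfl
theorem s0u1221 : ∀ v, 1 ≤ v → v ≤ 348922 → fs0 v = true := slots_step fs0 348694 228 348922 s0u1220 s0c1221 rfl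
theorem s0u1222 : ∀ v, 1 ≤ v → v ≤ 349149 → fs0 v = true := slots_step fs0 348922 227 349149 s0u1221 s0c1222 rfl
theorem s0u1223 : ∀ v, 1 ≤ v → v ≤ 349377 → fs0 v = true := slots_step fs0 349149 228 349377 s0u1222 s0c1223 rfl
theorem s0u1224 : ∀ v, 1 ≤ v → v ≤ 349604 → fs0 v = true := slots_step fs0 349377 227 349604 s0u1223 s0c1224 rfl
theorem s0u1225 : ∀ v, 1 ≤ v → v ≤ 349834 → fs0 v = true := slots_step fs0 349604 230 349834 s0u1224 s0c1225 rfl
theorem s0u1226 : ∀ v, 1 ≤ v → v ≤ 350062 → fs0 v = true := slots_step fs0 349834 228 350062 s0u1225 s0c1226 rfl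
theorem s0u1227 : ∀ v, 1 ≤ v → v ≤ 350287 → fs0 v = true := slots_step fs0 350062 225 350287 s0u1226 s0c1227 rfl
theorem s0u1228 : ∀ v, 1 ≤ v → v ≤ 350515 → fs0 v = true := slots_step fs0 350287 228 350515 s0u1227 s0c1228 rfl
theorem s0u1229 : ∀ v, 1 ≤ v → v ≤ 350746 → fs0 v = true := slots_step fs0 350515 231 350746 s0u1228 s0c1229 rfl
theorem s0u1230 : ∀ v, 1 ≤ v → v ≤ 351037 → fs0 v = true := slots_step fs0 350746 291 351037 s0u1229 s0c1230 rfl
theorem s0u1231 : ∀ v, 1 ≤ v → v ≤ 351342 → fs0 v = true := slots_step fs0 351037 305 351342 s0u1230 s0c1231 rfl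
theorem s0u1232 : ∀ v, 1 ≤ v → v ≤ 351653 → fs0 v = true := slots_step fs0 351342 311 351653 s0u1231 s0c1232 rfl
theorem s0u1233 : ∀ v, 1 ≤ v → v ≤ 351950 → fs0 v = true := slots_step fs0 351653 297 351950 s0u1232 s0c1233 rfl
theorem s0u1234 : ∀ v, 1 ≤ v → v ≤ 352235 → fs0 v = true := slots_step fs0 351950 285 352235 s0u1233 s0c1234 rfl
theorem s0u1235 : ∀ v, 1 ≤ v → v ≤ 352548 → fs0 v = true := slots_step fs0 352235 313 352548 s0u1234 s0c1235 rfl
theorem s0u1236 : ∀ v, 1 ≤ v → v ≤ 352789 → fs0 v = true := slots_step fs0 352548 241 352789 s0u1235 s0c1236 rfl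
theorem s0u1237 : ∀ v, 1 ≤ v → v ≤ 353017 → fs0 v = true := slots_step fs0 352789 228 353017 s0u1236 s0c1237 rfl
theorem s0u1238 : ∀ v, 1 ≤ v → v ≤ 353245 → fs0 v = true := slots_step fs0 353017 228 353245 s0u1237 s0c1238 rfl
theorem s0u1239 : ∀ v, 1 ≤ v → v ≤ 353473 → fs0 v = true := slots_step fs0 353245 228 353473 s0u1238 s0c1239 rfl
theorem s0u1240 : ∀ v, 1 ≤ v → v ≤ 353701 → fs0 v = true := slots_step fs0 353473 228 353701 s0u1239 s0c1240 rfl
theorem s0u1241 : ∀ v, 1 ≤ v → v ≤ 353896 → fs0 v = true := slots_step fs0 353701 195 353896 s0u1240 s0c1241 rfl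
theorem s0u1242 : ∀ v, 1 ≤ v → v ≤ 354123 → fs0 v = true := slots_step fs0 353896 227 354123 s0u1241 s0c1242 rfl
theorem s0u1243 : ∀ v, 1 ≤ v → v ≤ 354351 → fs0 v = true := slots_step fs0 354123 228 354351 s0u1242 s0c1243 rfl
theorem s0u1244 : ∀ v, 1 ≤ v → v ≤ 354578 → fs0 v = true := slots_step fs0 354351 227 354578 s0u1243 s0c1244 rfl
theorem s0u1245 : ∀ v, 1 ≤ v → v ≤ 354805 → fs0 v = true := slots_step fs0 354578 227 354805 s0u1244 s0c1245 rfl
theorem s0u1246 : ∀ v, 1 ≤ v → v ≤ 355079 → fs0 v = true := slots_step fs0 354805 274 355079 s0u1245 s0c1246 rfl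
theorem s0u1247 : ∀ v, 1 ≤ v → v ≤ 355385 → fs0 v = true := slots_step fs0 355079 306 355385 s0u1246 s0c1247 rfl
theorem s0u1248 : ∀ v, 1 ≤ v → v ≤ 355654 → fs0 v = true := slots_step fs0 355385 269 355654 s0u1247 s0c1248 rfl
theorem s0u1249 : ∀ v, 1 ≤ v → v ≤ 355882 → fs0 v = true := slots_step fs0 355654 228 355882 s0u1248 s0c1249 rfl
theorem s0u1250 : ∀ v, 1 ≤ v → v ≤ 356110 → fs0 v = true := slots_step fs0 355882 228 356110 s0u1249 s0c1250 rfl
theorem s0u1251 : ∀ v, 1 ≤ v → v ≤ 356338 → fs0 v = true := slots_step fs0 356110 228 356338 s0u1250 s0c1251 rfl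
theorem s0u1252 : ∀ v, 1 ≤ v → v ≤ 356565 → fs0 v = true := slots_step fs0 356338 227 356565 s0u1251 s0c1252 rfl
theorem s0u1253 : ∀ v, 1 ≤ v → v ≤ 356828 → fs0 v = true := slots_step fs0 356565 263 356828 s0u1252 s0c1253 rfl
theorem s0u1254 : ∀ v, 1 ≤ v → v ≤ 357056 → fs0 v = true := slots_step fs0 356828 228 357056 s0u1253 s0c1254 rfl
theorem s0u1255 : ∀ v, 1 ≤ v → v ≤ 357286 → fs0 v = true := slots_step fs0 357056 230 357286 s0u1254 s0c1255 rfl
theorem s0u1256 : ∀ v, 1 ≤ v → v ≤ 357465 → fs0 v = true := slots_step fs0 357286 179 357465 s0u1255 s0c1256 rfl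
theorem s1u0 : ∀ v, 1 ≤ v → v ≤ 253 → fs1 v = true := slots_step fs1 0 253 253 (slots_zero fs1) s1c0 rfl
theorem s1u1 : ∀ v, 1 ≤ v → v ≤ 528 → fs1 v = true := slots_step fs1 253 275 528 s1u0 s1c1 rfl
theorem s1u2 : ∀ v, 1 ≤ v → v ≤ 783 → fs1 v = true := slots_step fs1 528 255 783 s1u1 s1c2 rfl
theorem s1u3 : ∀ v, 1 ≤ v → v ≤ 1048 → fs1 v = true := slots_step fs1 783 265 1048 s1u2 s1c3 rfl
theorem s1u4 : ∀ v, 1 ≤ v → v ≤ 1312 → fs1 v = true := slots_step fs1 1048 264 1312 s1u3 s1c4 rfl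
theorem s1u5 : ∀ v, 1 ≤ v → v ≤ 1563 → fs1 v = true := slots_step fs1 1312 251 1563 s1u4 s1c5 rfl
theorem s1u6 : ∀ v, 1 ≤ v → v ≤ 1849 → fs1 v = true := slots_step fs1 1563 286 1849 s1u5 s1c6 rfl
theorem s1u7 : ∀ v, 1 ≤ v → v ≤ 2104 → fs1 v = true := slots_step fs1 1849 255 2104 s1u6 s1c7 rfl
theorem s1u8 : ∀ v, 1 ≤ v → v ≤ 2402 → fs1 v = true := slots_step fs1 2104 298 2402 s1u7 s1c8 rfl
theorem s1u9 : ∀ v, 1 ≤ v → v ≤ 2679 → fs1 v = true := slots_step fs1 2402 277 2679 s1u8 s1c9 rfl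
theorem s1u10 : ∀ v, 1 ≤ v → v ≤ 2931 → fs1 v = true := slots_step fs1 2679 252 2931 s1u9 s1c10 rfl
theorem s1u11 : ∀ v, 1 ≤ v → v ≤ 3246 → fs1 v = true := slots_step fs1 2931 315 3246 s1u10 s1c11 rfl
theorem s1u12 : ∀ v, 1 ≤ v → v ≤ 3509 → fs1 v = true := slots_step fs1 3246 263 3509 s1u11 s1c12 rfl
theorem s1u13 : ∀ v, 1 ≤ v → v ≤ 3783 → fs1 v = true := slots_step fs1 3509 274 3783 s1u12 s1c13 rfl
theorem s1u14 : ∀ v, 1 ≤ v → v ≤ 4053 → fs1 v = true := slots_step fs1 3783 270 4053 s1u13 s1c14 rfl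
theorem s1u15 : ∀ v, 1 ≤ v → v ≤ 4386 → fs1 v = true := slots_step fs1 4053 333 4386 s1u14 s1c15 rfl
theorem s1u16 : ∀ v, 1 ≤ v → v ≤ 4654 → fs1 v = true := slots_step fs1 4386 268 4654 s1u15 s1c16 rfl
theorem s1u17 : ∀ v, 1 ≤ v → v ≤ 4950 → fs1 v = true := slots_step fs1 4654 296 4950 s1u16 s1c17 rfl
theorem s1u18 : ∀ v, 1 ≤ v → v ≤ 5220 → fs1 v = true := slots_step fs1 4950 270 5220 s1u17 s1c18 rfl
theorem s1u19 : ∀ v, 1 ≤ v → v ≤ 5480 → fs1 v = true := slots_step fs1 5220 260 5480 s1u18 s1c19 rfl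
theorem s1u20 : ∀ v, 1 ≤ v → v ≤ 5803 → fs1 v = true := slots_step fs1 5480 323 5803 s1u19 s1c20 rfl
theorem s1u21 : ∀ v, 1 ≤ v → v ≤ 6143 → fs1 v = true := slots_step fs1 5803 340 6143 s1u20 s1c21 rfl
theorem s1u22 : ∀ v, 1 ≤ v → v ≤ 6389 → fs1 v = true := slots_step fs1 6143 246 6389 s1u21 s1c22 rfl
theorem s1u23 : ∀ v, 1 ≤ v → v ≤ 6683 → fs1 v = true := slots_step fs1 6389 294 6683 s1u22 s1c23 rfl
theorem s1u24 : ∀ v, 1 ≤ v → v ≤ 7012 → fs1 v = true := slots_step fs1 6683 329 7012 s1u23 s1c24 rfl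
theorem s1u25 : ∀ v, 1 ≤ v → v ≤ 7274 → fs1 v = true := slots_step fs1 7012 262 7274 s1u24 s1c25 rfl
theorem s1u26 : ∀ v, 1 ≤ v → v ≤ 7547 → fs1 v = true := slots_step fs1 7274 273 7547 s1u25 s1c26 rfl
theorem s1u27 : ∀ v, 1 ≤ v → v ≤ 7861 → fs1 v = true := slots_step fs1 7547 314 7861 s1u26 s1c27 rfl
theorem s1u28 : ∀ v, 1 ≤ v → v ≤ 8183 → fs1 v = true := slots_step fs1 7861 322 8183 s1u27 s1c28 rfl
theorem s1u29 : ∀ v, 1 ≤ v → v ≤ 8519 → fs1 v = true := slots_step fs1 8183 336 8519 s1u28 s1c29 rfl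
theorem s1u30 : ∀ v, 1 ≤ v → v ≤ 8770 → fs1 v = true := slots_step fs1 8519 251 8770 s1u29 s1c30 rfl
theorem s1u31 : ∀ v, 1 ≤ v → v ≤ 9066 → fs1 v = true := slots_step fs1 8770 296 9066 s1u30 s1c31 rfl
theorem s1u32 : ∀ v, 1 ≤ v → v ≤ 9351 → fs1 v = true := slots_step fs1 9066 285 9351 s1u31 s1c32 rfl
theorem s1u33 : ∀ v, 1 ≤ v → v ≤ 9715 → fs1 v = true := slots_step fs1 9351 364 9715 s1u32 s1c33 rfl
theorem s1u34 : ∀ v, 1 ≤ v → v ≤ 9987 → fs1 v = true := slots_step fs1 9715 272 9987 s1u33 s1c34 rfl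
theorem s1u35 : ∀ v, 1 ≤ v → v ≤ 10249 → fs1 v = true := slots_step fs1 9987 262 10249 s1u34 s1c35 rfl
theorem s1u36 : ∀ v, 1 ≤ v → v ≤ 10542 → fs1 v = true := slots_step fs1 10249 293 10542 s1u35 s1c36 rfl
theorem s1u37 : ∀ v, 1 ≤ v → v ≤ 10845 → fs1 v = true := slots_step fs1 10542 303 10845 s1u36 s1c37 rfl
theorem s1u38 : ∀ v, 1 ≤ v → v ≤ 11145 → fs1 v = true := slots_step fs1 10845 300 11145 s1u37 s1c38 rfl
theorem s1u39 : ∀ v, 1 ≤ v → v ≤ 11414 → fs1 v = true := slots_step fs1 11145 269 11414 s1u38 s1c39 rfl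
theorem s1u40 : ∀ v, 1 ≤ v → v ≤ 11666 → fs1 v = true := slots_step fs1 11414 252 11666 s1u39 s1c40 rfl
theorem s1u41 : ∀ v, 1 ≤ v → v ≤ 11921 → fs1 v = true := slots_step fs1 11666 255 11921 s1u40 s1c41 rfl
theorem s1u42 : ∀ v, 1 ≤ v → v ≤ 12183 → fs1 v = true := slots_step fs1 11921 262 12183 s1u41 s1c42 rfl
theorem s1u43 : ∀ v, 1 ≤ v → v ≤ 12484 → fs1 v = true := slots_step fs1 12183 301 12484 s1u42 s1c43 rfl
theorem s1u44 : ∀ v, 1 ≤ v → v ≤ 12786 → fs1 v = true := slots_step fs1 12484 302 12786 s1u43 s1c44 rfl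
theorem s1u45 : ∀ v, 1 ≤ v → v ≤ 13027 → fs1 v = true := slots_step fs1 12786 241 13027 s1u44 s1c45 rfl
theorem s1u46 : ∀ v, 1 ≤ v → v ≤ 13288 → fs1 v = true := slots_step fs1 13027 261 13288 s1u45 s1c46 rfl
theorem s1u47 : ∀ v, 1 ≤ v → v ≤ 13578 → fs1 v = true := slots_step fs1 13288 290 13578 s1u46 s1c47 rfl
theorem s1u48 : ∀ v, 1 ≤ v → v ≤ 13886 → fs1 v = true := slots_step fs1 13578 308 13886 s1u47 s1c48 rfl
theorem s1u49 : ∀ v, 1 ≤ v → v ≤ 14178 → fs1 v = true := slots_step fs1 13886 292 14178 s1u48 s1c49 rfl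
theorem s1u50 : ∀ v, 1 ≤ v → v ≤ 14507 → fs1 v = true := slots_step fs1 14178 329 14507 s1u49 s1c50 rfl
theorem s1u51 : ∀ v, 1 ≤ v → v ≤ 14773 → fs1 v = true := slots_step fs1 14507 266 14773 s1u50 s1c51 rfl
theorem s1u52 : ∀ v, 1 ≤ v → v ≤ 15022 → fs1 v = true := slots_step fs1 14773 249 15022 s1u51 s1c52 rfl
theorem s1u53 : ∀ v, 1 ≤ v → v ≤ 15291 → fs1 v = true := slots_step fs1 15022 269 15291 s1u52 s1c53 rfl
theorem s1u54 : ∀ v, 1 ≤ v → v ≤ 15567 → fs1 v = true := slots_step fs1 15291 276 15567 s1u53 s1c54 rfl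
theorem s1u55 : ∀ v, 1 ≤ v → v ≤ 15829 → fs1 v = true := slots_step fs1 15567 262 15829 s1u54 s1c55 rfl
theorem s1u56 : ∀ v, 1 ≤ v → v ≤ 16146 → fs1 v = true := slots_step fs1 15829 317 16146 s1u55 s1c56 rfl
theorem s1u57 : ∀ v, 1 ≤ v → v ≤ 16512 → fs1 v = true := slots_step fs1 16146 366 16512 s1u56 s1c57 rfl
theorem s1u58 : ∀ v, 1 ≤ v → v ≤ 16777 → fs1 v = true := slots_step fs1 16512 265 16777 s1u57 s1c58 rfl
theorem s1u59 : ∀ v, 1 ≤ v → v ≤ 17039 → fs1 v = true := slots_step fs1 16777 262 17039 s1u58 s1c59 rfl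
theorem s1u60 : ∀ v, 1 ≤ v → v ≤ 17316 → fs1 v = true := slots_step fs1 17039 277 17316 s1u59 s1c60 rfl
theorem s1u61 : ∀ v, 1 ≤ v → v ≤ 17616 → fs1 v = true := slots_step fs1 17316 300 17616 s1u60 s1c61 rfl
theorem s1u62 : ∀ v, 1 ≤ v → v ≤ 17917 → fs1 v = true := slots_step fs1 17616 301 17917 s1u61 s1c62 rfl
theorem s1u63 : ∀ v, 1 ≤ v → v ≤ 18245 → fs1 v = true := slots_step fs1 17917 328 18245 s1u62 s1c63 rfl
theorem s1u64 : ∀ v, 1 ≤ v → v ≤ 18552 → fs1 v = true := slots_step fs1 18245 307 18552 s1u63 s1c64 rfl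
theorem s1u65 : ∀ v, 1 ≤ v → v ≤ 18876 → fs1 v = true := slots_step fs1 18552 324 18876 s1u64 s1c65 rfl
theorem s1u66 : ∀ v, 1 ≤ v → v ≤ 19189 → fs1 v = true := slots_step fs1 18876 313 19189 s1u65 s1c66 rfl
theorem s1u67 : ∀ v, 1 ≤ v → v ≤ 19450 → fs1 v = true := slots_step fs1 19189 261 19450 s1u66 s1c67 rfl
theorem s1u68 : ∀ v, 1 ≤ v → v ≤ 19702 → fs1 v = true := slots_step fs1 19450 252 19702 s1u67 s1c68 rfl
theorem s1u69 : ∀ v, 1 ≤ v → v ≤ 19972 → fs1 v = true := slots_step fs1 19702 270 19972 s1u68 s1c69 rfl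
theorem s1u70 : ∀ v, 1 ≤ v → v ≤ 20266 → fs1 v = true := slots_step fs1 19972 294 20266 s1u69 s1c70 rfl
theorem s1u71 : ∀ v, 1 ≤ v → v ≤ 20561 → fs1 v = true := slots_step fs1 20266 295 20561 s1u70 s1c71 rfl
theorem s1u72 : ∀ v, 1 ≤ v → v ≤ 20830 → fs1 v = true := slots_step fs1 20561 269 20830 s1u71 s1c72 rfl
theorem s1u73 : ∀ v, 1 ≤ v → v ≤ 21139 → fs1 v = true := slots_step fs1 20830 309 21139 s1u72 s1c73 rfl
theorem s1u74 : ∀ v, 1 ≤ v → v ≤ 21509 → fs1 v = true := slots_step fs1 21139 370 21509 s1u73 s1c74 rfl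
theorem s1u75 : ∀ v, 1 ≤ v → v ≤ 21921 → fs1 v = true := slots_step fs1 21509 412 21921 s1u74 s1c75 rfl
theorem s1u76 : ∀ v, 1 ≤ v → v ≤ 22168 → fs1 v = true := slots_step fs1 21921 247 22168 s1u75 s1c76 rfl
theorem s1u77 : ∀ v, 1 ≤ v → v ≤ 22459 → fs1 v = true := slots_step fs1 22168 291 22459 s1u76 s1c77 rfl
theorem s1u78 : ∀ v, 1 ≤ v → v ≤ 22757 → fs1 v = true := slots_step fs1 22459 298 22757 s1u77 s1c78 rfl
theorem s1u79 : ∀ v, 1 ≤ v → v ≤ 23098 → fs1 v = true := slots_step fs1 22757 341 23098 s1u78 s1c79 rfl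
theorem s1u80 : ∀ v, 1 ≤ v → v ≤ 23369 → fs1 v = true := slots_step fs1 23098 271 23369 s1u79 s1c80 rfl
theorem s1u81 : ∀ v, 1 ≤ v → v ≤ 23672 → fs1 v = true := slots_step fs1 23369 303 23672 s1u80 s1c81 rfl
theorem s1u82 : ∀ v, 1 ≤ v → v ≤ 24013 → fs1 v = true := slots_step fs1 23672 341 24013 s1u81 s1c82 rfl
theorem s1u83 : ∀ v, 1 ≤ v → v ≤ 24340 → fs1 v = true := slots_step fs1 24013 327 24340 s1u82 s1c83 rfl
theorem s1u84 : ∀ v, 1 ≤ v → v ≤ 24661 → fs1 v = true := slots_step fs1 24340 321 24661 s1u83 s1c84 rfl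
theorem s1u85 : ∀ v, 1 ≤ v → v ≤ 24983 → fs1 v = true := slots_step fs1 24661 322 24983 s1u84 s1c85 rfl
theorem s1u86 : ∀ v, 1 ≤ v → v ≤ 25327 → fs1 v = true := slots_step fs1 24983 344 25327 s1u85 s1c86 rfl
theorem s1u87 : ∀ v, 1 ≤ v → v ≤ 25615 → fs1 v = true := slots_step fs1 25327 288 25615 s1u86 s1c87 rfl
theorem s1u88 : ∀ v, 1 ≤ v → v ≤ 25871 → fs1 v = true := slots_step fs1 25615 256 25871 s1u87 s1c88 rfl
theorem s1u89 : ∀ v, 1 ≤ v → v ≤ 26128 → fs1 v = true := slots_step fs1 25871 257 26128 s1u88 s1c89 rfl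
theorem s1u90 : ∀ v, 1 ≤ v → v ≤ 26384 → fs1 v = true := slots_step fs1 26128 256 26384 s1u89 s1c90 rfl
theorem s1u91 : ∀ v, 1 ≤ v → v ≤ 26699 → fs1 v = true := slots_step fs1 26384 315 26699 s1u90 s1c91 rfl
theorem s1u92 : ∀ v, 1 ≤ v → v ≤ 27006 → fs1 v = true := slots_step fs1 26699 307 27006 s1u91 s1c92 rfl
theorem s1u93 : ∀ v, 1 ≤ v → v ≤ 27318 → fs1 v = true := slots_step fs1 27006 312 27318 s1u92 s1c93 rfl
theorem s1u94 : ∀ v, 1 ≤ v → v ≤ 27624 → fs1 v = true := slots_step fs1 27318 306 27624 s1u93 s1c94 rfl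
theorem s1u95 : ∀ v, 1 ≤ v → v ≤ 27898 → fs1 v = true := slots_step fs1 27624 274 27898 s1u94 s1c95 rfl
theorem s1u96 : ∀ v, 1 ≤ v → v ≤ 28243 → fs1 v = true := slots_step fs1 27898 345 28243 s1u95 s1c96 rfl
theorem s1u97 : ∀ v, 1 ≤ v → v ≤ 28622 → fs1 v = true := slots_step fs1 28243 379 28622 s1u96 s1c97 rfl
theorem s1u98 : ∀ v, 1 ≤ v → v ≤ 29162 → fs1 v = true := slots_step fs1 28622 540 29162 s1u97 s1c98 rfl
theorem s1u99 : ∀ v, 1 ≤ v → v ≤ 29421 → fs1 v = true := slots_step fs1 29162 259 29421 s1u98 s1c99 rfl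
theorem s1u100 : ∀ v, 1 ≤ v → v ≤ 29677 → fs1 v = true := slots_step fs1 29421 256 29677 s1u99 s1c100 rfl
theorem s1u101 : ∀ v, 1 ≤ v → v ≤ 29992 → fs1 v = true := slots_step fs1 29677 315 29992 s1u100 s1c101 rfl
theorem s1u102 : ∀ v, 1 ≤ v → v ≤ 30331 → fs1 v = true := slots_step fs1 29992 339 30331 s1u101 s1c102 rfl
theorem s1u103 : ∀ v, 1 ≤ v → v ≤ 30638 → fs1 v = true := slots_step fs1 30331 307 30638 s1u102 s1c103 rfl
theorem s1u104 : ∀ v, 1 ≤ v → v ≤ 30986 → fs1 v = true := slots_step fs1 30638 348 30986 s1u103 s1c104 rfl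
theorem s1u105 : ∀ v, 1 ≤ v → v ≤ 31268 → fs1 v = true := slots_step fs1 30986 282 31268 s1u104 s1c105 rfl
theorem s1u106 : ∀ v, 1 ≤ v → v ≤ 31582 → fs1 v = true := slots_step fs1 31268 314 31582 s1u105 s1c106 rfl
theorem s1u107 : ∀ v, 1 ≤ v → v ≤ 31867 → fs1 v = true := slots_step fs1 31582 285 31867 s1u106 s1c107 rfl
theorem s1u108 : ∀ v, 1 ≤ v → v ≤ 32233 → fs1 v = true := slots_step fs1 31867 366 32233 s1u107 s1c108 rfl
theorem s1u109 : ∀ v, 1 ≤ v → v ≤ 32582 → fs1 v = true := slots_step fs1 32233 349 32582 s1u108 s1c109 rfl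
theorem s1u110 : ∀ v, 1 ≤ v → v ≤ 32932 → fs1 v = true := slots_step fs1 32582 350 32932 s1u109 s1c110 rfl
theorem s1u111 : ∀ v, 1 ≤ v → v ≤ 33237 → fs1 v = true := slots_step fs1 32932 305 33237 s1u110 s1c111 rfl
theorem s1u112 : ∀ v, 1 ≤ v → v ≤ 33584 → fs1 v = true := slots_step fs1 33237 347 33584 s1u111 s1c112 rfl
theorem s1u113 : ∀ v, 1 ≤ v → v ≤ 33976 → fs1 v = true := slots_step fs1 33584 392 33976 s1u112 s1c113 rfl
theorem s1u114 : ∀ v, 1 ≤ v → v ≤ 34256 → fs1 v = true := slots_step fs1 33976 280 34256 s1u113 s1c114 rfl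
theorem s1u115 : ∀ v, 1 ≤ v → v ≤ 34542 → fs1 v = true := slots_step fs1 34256 286 34542 s1u114 s1c115 rfl
theorem s1u116 : ∀ v, 1 ≤ v → v ≤ 34807 → fs1 v = true := slots_step fs1 34542 265 34807 s1u115 s1c116 rfl
theorem s1u117 : ∀ v, 1 ≤ v → v ≤ 35073 → fs1 v = true := slots_step fs1 34807 266 35073 s1u116 s1c117 rfl
theorem s1u118 : ∀ v, 1 ≤ v → v ≤ 35330 → fs1 v = true := slots_step fs1 35073 257 35330 s1u117 s1c118 rfl
theorem s1u119 : ∀ v, 1 ≤ v → v ≤ 35593 → fs1 v = true := slots_step fs1 35330 263 35593 s1u118 s1c119 rfl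
theorem s1u120 : ∀ v, 1 ≤ v → v ≤ 35918 → fs1 v = true := slots_step fs1 35593 325 35918 s1u119 s1c120 rfl
theorem s1u121 : ∀ v, 1 ≤ v → v ≤ 36265 → fs1 v = true := slots_step fs1 35918 347 36265 s1u120 s1c121 rfl
theorem s1u122 : ∀ v, 1 ≤ v → v ≤ 36585 → fs1 v = true := slots_step fs1 36265 320 36585 s1u121 s1c122 rfl
theorem s1u123 : ∀ v, 1 ≤ v → v ≤ 36969 → fs1 v = true := slots_step fs1 36585 384 36969 s1u122 s1c123 rfl
theorem s1u124 : ∀ v, 1 ≤ v → v ≤ 37268 → fs1 v = true := slots_step fs1 36969 299 37268 s1u123 s1c124 rfl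
theorem s1u125 : ∀ v, 1 ≤ v → v ≤ 37565 → fs1 v = true := slots_step fs1 37268 297 37565 s1u124 s1c125 rfl
theorem s1u126 : ∀ v, 1 ≤ v → v ≤ 37840 → fs1 v = true := slots_step fs1 37565 275 37840 s1u125 s1c126 rfl
theorem s1u127 : ∀ v, 1 ≤ v → v ≤ 38265 → fs1 v = true := slots_step fs1 37840 425 38265 s1u126 s1c127 rfl
theorem s1u128 : ∀ v, 1 ≤ v → v ≤ 38694 → fs1 v = true := slots_step fs1 38265 429 38694 s1u127 s1c128 rfl
theorem s1u129 : ∀ v, 1 ≤ v → v ≤ 39285 → fs1 v = true := slots_step fs1 38694 591 39285 s1u128 s1c129 rfl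
theorem s1u130 : ∀ v, 1 ≤ v → v ≤ 39543 → fs1 v = true := slots_step fs1 39285 258 39543 s1u129 s1c130 rfl
theorem s1u131 : ∀ v, 1 ≤ v → v ≤ 39809 → fs1 v = true := slots_step fs1 39543 266 39809 s1u130 s1c131 rfl
theorem s1u132 : ∀ v, 1 ≤ v → v ≤ 40087 → fs1 v = true := slots_step fs1 39809 278 40087 s1u131 s1c132 rfl
theorem s1u133 : ∀ v, 1 ≤ v → v ≤ 40473 → fs1 v = true := slots_step fs1 40087 386 40473 s1u132 s1c133 rfl
theorem s1u134 : ∀ v, 1 ≤ v → v ≤ 40852 → fs1 v = true := slots_step fs1 40473 379 40852 s1u133 s1c134 rfl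
theorem s1u135 : ∀ v, 1 ≤ v → v ≤ 41148 → fs1 v = true := slots_step fs1 40852 296 41148 s1u134 s1c135 rfl
theorem s1u136 : ∀ v, 1 ≤ v → v ≤ 41575 → fs1 v = true := slots_step fs1 41148 427 41575 s1u135 s1c136 rfl
theorem s1u137 : ∀ v, 1 ≤ v → v ≤ 41853 → fs1 v = true := slots_step fs1 41575 278 41853 s1u136 s1c137 rfl
theorem s1u138 : ∀ v, 1 ≤ v → v ≤ 42147 → fs1 v = true := slots_step fs1 41853 294 42147 s1u137 s1c138 rfl
theorem s1u139 : ∀ v, 1 ≤ v → v ≤ 42475 → fs1 v = true := slots_step fs1 42147 328 42475 s1u138 s1c139 rfl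
theorem s1u140 : ∀ v, 1 ≤ v → v ≤ 42766 → fs1 v = true := slots_step fs1 42475 291 42766 s1u139 s1c140 rfl
theorem s1u141 : ∀ v, 1 ≤ v → v ≤ 43058 → fs1 v = true := slots_step fs1 42766 292 43058 s1u140 s1c141 rfl
theorem s1u142 : ∀ v, 1 ≤ v → v ≤ 43415 → fs1 v = true := slots_step fs1 43058 357 43415 s1u141 s1c142 rfl
theorem s1u143 : ∀ v, 1 ≤ v → v ≤ 43797 → fs1 v = true := slots_step fs1 43415 382 43797 s1u142 s1c143 rfl
theorem s1u144 : ∀ v, 1 ≤ v → v ≤ 44171 → fs1 v = true := slots_step fs1 43797 374 44171 s1u143 s1c144 rfl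
theorem s1u145 : ∀ v, 1 ≤ v → v ≤ 44539 → fs1 v = true := slots_step fs1 44171 368 44539 s1u144 s1c145 rfl
theorem s1u146 : ∀ v, 1 ≤ v → v ≤ 44847 → fs1 v = true := slots_step fs1 44539 308 44847 s1u145 s1c146 rfl
theorem s1u147 : ∀ v, 1 ≤ v → v ≤ 45151 → fs1 v = true := slots_step fs1 44847 304 45151 s1u146 s1c147 rfl
theorem s1u148 : ∀ v, 1 ≤ v → v ≤ 45605 → fs1 v = true := slots_step fs1 45151 454 45605 s1u147 s1c148 rfl
theorem s1u149 : ∀ v, 1 ≤ v → v ≤ 45987 → fs1 v = true := slots_step fs1 45605 382 45987 s1u148 s1c149 rfl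
theorem s1u150 : ∀ v, 1 ≤ v → v ≤ 46270 → fs1 v = true := slots_step fs1 45987 283 46270 s1u149 s1c150 rfl
theorem s1u151 : ∀ v, 1 ≤ v → v ≤ 46582 → fs1 v = true := slots_step fs1 46270 312 46582 s1u150 s1c151 rfl
theorem s1u152 : ∀ v, 1 ≤ v → v ≤ 46847 → fs1 v = true := slots_step fs1 46582 265 46847 s1u151 s1c152 rfl
theorem s1u153 : ∀ v, 1 ≤ v → v ≤ 47115 → fs1 v = true := slots_step fs1 46847 268 47115 s1u152 s1c153 rfl
theorem s1u154 : ∀ v, 1 ≤ v → v ≤ 47409 → fs1 v = true := slots_step fs1 47115 294 47409 s1u153 s1c154 rfl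
theorem s1u155 : ∀ v, 1 ≤ v → v ≤ 47669 → fs1 v = true := slots_step fs1 47409 260 47669 s1u154 s1c155 rfl
theorem s1u156 : ∀ v, 1 ≤ v → v ≤ 47933 → fs1 v = true := slots_step fs1 47669 264 47933 s1u155 s1c156 rfl
theorem s1u157 : ∀ v, 1 ≤ v → v ≤ 48203 → fs1 v = true := slots_step fs1 47933 270 48203 s1u156 s1c157 rfl
theorem s1u158 : ∀ v, 1 ≤ v → v ≤ 48509 → fs1 v = true := slots_step fs1 48203 306 48509 s1u157 s1c158 rfl
theorem s1u159 : ∀ v, 1 ≤ v → v ≤ 48910 → fs1 v = true := slots_step fs1 48509 401 48910 s1u158 s1c159 rfl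
theorem s1u160 : ∀ v, 1 ≤ v → v ≤ 49242 → fs1 v = true := slots_step fs1 48910 332 49242 s1u159 s1c160 rfl
theorem s1u161 : ∀ v, 1 ≤ v → v ≤ 49593 → fs1 v = true := slots_step fs1 49242 351 49593 s1u160 s1c161 rfl
theorem s1u162 : ∀ v, 1 ≤ v → v ≤ 49956 → fs1 v = true := slots_step fs1 49593 363 49956 s1u161 s1c162 rfl
theorem s1u163 : ∀ v, 1 ≤ v → v ≤ 50351 → fs1 v = true := slots_step fs1 49956 395 50351 s1u162 s1c163 rfl
theorem s1u164 : ∀ v, 1 ≤ v → v ≤ 50655 → fs1 v = true := slots_step fs1 50351 304 50655 s1u163 s1c164 rfl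
theorem s1u165 : ∀ v, 1 ≤ v → v ≤ 50978 → fs1 v = true := slots_step fs1 50655 323 50978 s1u164 s1c165 rfl
theorem s1u166 : ∀ v, 1 ≤ v → v ≤ 51264 → fs1 v = true := slots_step fs1 50978 286 51264 s1u165 s1c166 rfl
theorem s1u167 : ∀ v, 1 ≤ v → v ≤ 51639 → fs1 v = true := slots_step fs1 51264 375 51639 s1u166 s1c167 rfl
theorem s1u168 : ∀ v, 1 ≤ v → v ≤ 52115 → fs1 v = true := slots_step fs1 51639 476 52115 s1u167 s1c168 rfl
theorem s1u169 : ∀ v, 1 ≤ v → v ≤ 52604 → fs1 v = true := slots_step fs1 52115 489 52604 s1u168 s1c169 rfl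
theorem s1u170 : ∀ v, 1 ≤ v → v ≤ 53173 → fs1 v = true := slots_step fs1 52604 569 53173 s1u169 s1c170 rfl
theorem s1u171 : ∀ v, 1 ≤ v → v ≤ 53431 → fs1 v = true := slots_step fs1 53173 258 53431 s1u170 s1c171 rfl
theorem s1u172 : ∀ v, 1 ≤ v → v ≤ 53722 → fs1 v = true := slots_step fs1 53431 291 53722 s1u171 s1c172 rfl
theorem s1u173 : ∀ v, 1 ≤ v → v ≤ 53987 → fs1 v = true := slots_step fs1 53722 265 53987 s1u172 s1c173 rfl
theorem s1u174 : ∀ v, 1 ≤ v → v ≤ 54309 → fs1 v = true := slots_step fs1 53987 322 54309 s1u173 s1c174 rfl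
theorem s1u175 : ∀ v, 1 ≤ v → v ≤ 54756 → fs1 v = true := slots_step fs1 54309 447 54756 s1u174 s1c175 rfl
theorem s1u176 : ∀ v, 1 ≤ v → v ≤ 55168 → fs1 v = true := slots_step fs1 54756 412 55168 s1u175 s1c176 rfl
theorem s1u177 : ∀ v, 1 ≤ v → v ≤ 55487 → fs1 v = true := slots_step fs1 55168 319 55487 s1u176 s1c177 rfl
theorem s1u178 : ∀ v, 1 ≤ v → v ≤ 55861 → fs1 v = true := slots_step fs1 55487 374 55861 s1u177 s1c178 rfl
theorem s1u179 : ∀ v, 1 ≤ v → v ≤ 56313 → fs1 v = true := slots_step fs1 55861 452 56313 s1u178 s1c179 rfl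
theorem s1u180 : ∀ v, 1 ≤ v → v ≤ 56569 → fs1 v = true := slots_step fs1 56313 256 56569 s1u179 s1c180 rfl
theorem s1u181 : ∀ v, 1 ≤ v → v ≤ 56877 → fs1 v = true := slots_step fs1 56569 308 56877 s1u180 s1c181 rfl
theorem s1u182 : ∀ v, 1 ≤ v → v ≤ 57178 → fs1 v = true := slots_step fs1 56877 301 57178 s1u181 s1c182 rfl
theorem s1u183 : ∀ v, 1 ≤ v → v ≤ 57514 → fs1 v = true := slots_step fs1 57178 336 57514 s1u182 s1c183 rfl
theorem s1u184 : ∀ v, 1 ≤ v → v ≤ 57804 → fs1 v = true := slots_step fs1 57514 290 57804 s1u183 s1c184 rfl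
theorem s1u185 : ∀ v, 1 ≤ v → v ≤ 58097 → fs1 v = true := slots_step fs1 57804 293 58097 s1u184 s1c185 rfl
theorem s1u186 : ∀ v, 1 ≤ v → v ≤ 58396 → fs1 v = true := slots_step fs1 58097 299 58396 s1u185 s1c186 rfl
theorem s1u187 : ∀ v, 1 ≤ v → v ≤ 58774 → fs1 v = true := slots_step fs1 58396 378 58774 s1u186 s1c187 rfl
theorem s1u188 : ∀ v, 1 ≤ v → v ≤ 59188 → fs1 v = true := slots_step fs1 58774 414 59188 s1u187 s1c188 rfl
theorem s1u189 : ∀ v, 1 ≤ v → v ≤ 59590 → fs1 v = true := slots_step fs1 59188 402 59590 s1u188 s1c189 rfl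
theorem s1u190 : ∀ v, 1 ≤ v → v ≤ 60057 → fs1 v = true := slots_step fs1 59590 467 60057 s1u189 s1c190 rfl
theorem s1u191 : ∀ v, 1 ≤ v → v ≤ 60339 → fs1 v = true := slots_step fs1 60057 282 60339 s1u190 s1c191 rfl
theorem s1u192 : ∀ v, 1 ≤ v → v ≤ 60665 → fs1 v = true := slots_step fs1 60339 326 60665 s1u191 s1c192 rfl
theorem s1u193 : ∀ v, 1 ≤ v → v ≤ 60989 → fs1 v = true := slots_step fs1 60665 324 60989 s1u192 s1c193 rfl
theorem s1u194 : ∀ v, 1 ≤ v → v ≤ 61412 → fs1 v = true := slots_step fs1 60989 423 61412 s1u193 s1c194 rfl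
theorem s1u195 : ∀ v, 1 ≤ v → v ≤ 61941 → fs1 v = true := slots_step fs1 61412 529 61941 s1u194 s1c195 rfl
theorem s1u196 : ∀ v, 1 ≤ v → v ≤ 62214 → fs1 v = true := slots_step fs1 61941 273 62214 s1u195 s1c196 rfl
theorem s1u197 : ∀ v, 1 ≤ v → v ≤ 62517 → fs1 v = true := slots_step fs1 62214 303 62517 s1u196 s1c197 rfl
theorem s1u198 : ∀ v, 1 ≤ v → v ≤ 62819 → fs1 v = true := slots_step fs1 62517 302 62819 s1u197 s1c198 rfl
theorem s1u199 : ∀ v, 1 ≤ v → v ≤ 63131 → fs1 v = true := slots_step fs1 62819 312 63131 s1u198 s1c199 rfl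
theorem s1u200 : ∀ v, 1 ≤ v → v ≤ 63390 → fs1 v = true := slots_step fs1 63131 259 63390 s1u199 s1c200 rfl
theorem s1u201 : ∀ v, 1 ≤ v → v ≤ 63666 → fs1 v = true := slots_step fs1 63390 276 63666 s1u200 s1c201 rfl
theorem s1u202 : ∀ v, 1 ≤ v → v ≤ 63958 → fs1 v = true := slots_step fs1 63666 292 63958 s1u201 s1c202 rfl
theorem s1u203 : ∀ v, 1 ≤ v → v ≤ 64270 → fs1 v = true := slots_step fs1 63958 312 64270 s1u202 s1c203 rfl
theorem s1u204 : ∀ v, 1 ≤ v → v ≤ 64526 → fs1 v = true := slots_step fs1 64270 256 64526 s1u203 s1c204 rfl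
theorem s1u205 : ∀ v, 1 ≤ v → v ≤ 64787 → fs1 v = true := slots_step fs1 64526 261 64787 s1u204 s1c205 rfl
theorem s1u206 : ∀ v, 1 ≤ v → v ≤ 65061 → fs1 v = true := slots_step fs1 64787 274 65061 s1u205 s1c206 rfl
theorem s1u207 : ∀ v, 1 ≤ v → v ≤ 65357 → fs1 v = true := slots_step fs1 65061 296 65357 s1u206 s1c207 rfl
theorem s1u208 : ∀ v, 1 ≤ v → v ≤ 65663 → fs1 v = true := slots_step fs1 65357 306 65663 s1u207 s1c208 rfl
theorem s1u209 : ∀ v, 1 ≤ v → v ≤ 66047 → fs1 v = true := slots_step fs1 65663 384 66047 s1u208 s1c209 rfl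
theorem s1u210 : ∀ v, 1 ≤ v → v ≤ 66458 → fs1 v = true := slots_step fs1 66047 411 66458 s1u209 s1c210 rfl
theorem s1u211 : ∀ v, 1 ≤ v → v ≤ 66810 → fs1 v = true := slots_step fs1 66458 352 66810 s1u210 s1c211 rfl
theorem s1u212 : ∀ v, 1 ≤ v → v ≤ 67192 → fs1 v = true := slots_step fs1 66810 382 67192 s1u211 s1c212 rfl
theorem s1u213 : ∀ v, 1 ≤ v → v ≤ 67595 → fs1 v = true := slots_step fs1 67192 403 67595 s1u212 s1c213 rfl
theorem s1u214 : ∀ v, 1 ≤ v → v ≤ 68048 → fs1 v = true := slots_step fs1 67595 453 68048 s1u213 s1c214 rfl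
theorem s1u215 : ∀ v, 1 ≤ v → v ≤ 68389 → fs1 v = true := slots_step fs1 68048 341 68389 s1u214 s1c215 rfl
theorem s1u216 : ∀ v, 1 ≤ v → v ≤ 68666 → fs1 v = true := slots_step fs1 68389 277 68666 s1u215 s1c216 rfl
theorem s1u217 : ∀ v, 1 ≤ v → v ≤ 69033 → fs1 v = true := slots_step fs1 68666 367 69033 s1u216 s1c217 rfl
theorem s1u218 : ∀ v, 1 ≤ v → v ≤ 69333 → fs1 v = true := slots_step fs1 69033 300 69333 s1u217 s1c218 rfl
theorem s1u219 : ∀ v, 1 ≤ v → v ≤ 69686 → fs1 v = true := slots_step fs1 69333 353 69686 s1u218 s1c219 rfl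
theorem s1u220 : ∀ v, 1 ≤ v → v ≤ 70219 → fs1 v = true := slots_step fs1 69686 533 70219 s1u219 s1c220 rfl
theorem s1u221 : ∀ v, 1 ≤ v → v ≤ 70742 → fs1 v = true := slots_step fs1 70219 523 70742 s1u220 s1c221 rfl
theorem s1u222 : ∀ v, 1 ≤ v → v ≤ 71392 → fs1 v = true := slots_step fs1 70742 650 71392 s1u221 s1c222 rfl
theorem s1u223 : ∀ v, 1 ≤ v → v ≤ 71655 → fs1 v = true := slots_step fs1 71392 263 71655 s1u222 s1c223 rfl
theorem s1u224 : ∀ v, 1 ≤ v → v ≤ 71942 → fs1 v = true := slots_step fs1 71655 287 71942 s1u223 s1c224 rfl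
theorem s1u225 : ∀ v, 1 ≤ v → v ≤ 72242 → fs1 v = true := slots_step fs1 71942 300 72242 s1u224 s1c225 rfl
theorem s1u226 : ∀ v, 1 ≤ v → v ≤ 72538 → fs1 v = true := slots_step fs1 72242 296 72538 s1u225 s1c226 rfl
theorem s1u227 : ∀ v, 1 ≤ v → v ≤ 72855 → fs1 v = true := slots_step fs1 72538 317 72855 s1u226 s1c227 rfl
theorem s1u228 : ∀ v, 1 ≤ v → v ≤ 73217 → fs1 v = true := slots_step fs1 72855 362 73217 s1u227 s1c228 rfl
theorem s1u229 : ∀ v, 1 ≤ v → v ≤ 73697 → fs1 v = true := slots_step fs1 73217 480 73697 s1u228 s1c229 rfl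
theorem s1u230 : ∀ v, 1 ≤ v → v ≤ 74114 → fs1 v = true := slots_step fs1 73697 417 74114 s1u229 s1c230 rfl
theorem s1u231 : ∀ v, 1 ≤ v → v ≤ 74477 → fs1 v = true := slots_step fs1 74114 363 74477 s1u230 s1c231 rfl
theorem s1u232 : ∀ v, 1 ≤ v → v ≤ 74870 → fs1 v = true := slots_step fs1 74477 393 74870 s1u231 s1c232 rfl
theorem s1u233 : ∀ v, 1 ≤ v → v ≤ 75383 → fs1 v = true := slots_step fs1 74870 513 75383 s1u232 s1c233 rfl
theorem s1u234 : ∀ v, 1 ≤ v → v ≤ 75644 → fs1 v = true := slots_step fs1 75383 261 75644 s1u233 s1c234 rfl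
theorem s1u235 : ∀ v, 1 ≤ v → v ≤ 75914 → fs1 v = true := slots_step fs1 75644 270 75914 s1u234 s1c235 rfl
theorem s1u236 : ∀ v, 1 ≤ v → v ≤ 76249 → fs1 v = true := slots_step fs1 75914 335 76249 s1u235 s1c236 rfl
theorem s1u237 : ∀ v, 1 ≤ v → v ≤ 76537 → fs1 v = true := slots_step fs1 76249 288 76537 s1u236 s1c237 rfl
theorem s1u238 : ∀ v, 1 ≤ v → v ≤ 76884 → fs1 v = true := slots_step fs1 76537 347 76884 s1u237 s1c238 rfl
theorem s1u239 : ∀ v, 1 ≤ v → v ≤ 77198 → fs1 v = true := slots_step fs1 76884 314 77198 s1u238 s1c239 rfl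
theorem s1u240 : ∀ v, 1 ≤ v → v ≤ 77492 → fs1 v = true := slots_step fs1 77198 294 77492 s1u239 s1c240 rfl
theorem s1u241 : ∀ v, 1 ≤ v → v ≤ 77798 → fs1 v = true := slots_step fs1 77492 306 77798 s1u240 s1c241 rfl
theorem s1u242 : ∀ v, 1 ≤ v → v ≤ 78099 → fs1 v = true := slots_step fs1 77798 301 78099 s1u241 s1c242 rfl
theorem s1u243 : ∀ v, 1 ≤ v → v ≤ 78407 → fs1 v = true := slots_step fs1 78099 308 78407 s1u242 s1c243 rfl
theorem s1u244 : ∀ v, 1 ≤ v → v ≤ 78783 → fs1 v = true := slots_step fs1 78407 376 78783 s1u243 s1c244 rfl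
theorem s1u245 : ∀ v, 1 ≤ v → v ≤ 79214 → fs1 v = true := slots_step fs1 78783 431 79214 s1u244 s1c245 rfl
theorem s1u246 : ∀ v, 1 ≤ v → v ≤ 79640 → fs1 v = true := slots_step fs1 79214 426 79640 s1u245 s1c246 rfl
theorem s1u247 : ∀ v, 1 ≤ v → v ≤ 80077 → fs1 v = true := slots_step fs1 79640 437 80077 s1u246 s1c247 rfl
theorem s1u248 : ∀ v, 1 ≤ v → v ≤ 80526 → fs1 v = true := slots_step fs1 80077 449 80526 s1u247 s1c248 rfl
theorem s1u249 : ∀ v, 1 ≤ v → v ≤ 80828 → fs1 v = true := slots_step fs1 80526 302 80828 s1u248 s1c249 rfl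
theorem s1u250 : ∀ v, 1 ≤ v → v ≤ 81185 → fs1 v = true := slots_step fs1 80828 357 81185 s1u249 s1c250 rfl
theorem s1u251 : ∀ v, 1 ≤ v → v ≤ 81511 → fs1 v = true := slots_step fs1 81185 326 81511 s1u250 s1c251 rfl
theorem s1u252 : ∀ v, 1 ≤ v → v ≤ 81893 → fs1 v = true := slots_step fs1 81511 382 81893 s1u251 s1c252 rfl
theorem s1u253 : ∀ v, 1 ≤ v → v ≤ 82424 → fs1 v = true := slots_step fs1 81893 531 82424 s1u252 s1c253 rfl
theorem s1u254 : ∀ v, 1 ≤ v → v ≤ 82853 → fs1 v = true := slots_step fs1 82424 429 82853 s1u253 s1c254 rfl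
theorem s1u255 : ∀ v, 1 ≤ v → v ≤ 83122 → fs1 v = true := slots_step fs1 82853 269 83122 s1u254 s1c255 rfl
theorem s1u256 : ∀ v, 1 ≤ v → v ≤ 83443 → fs1 v = true := slots_step fs1 83122 321 83443 s1u255 s1c256 rfl
theorem s1u257 : ∀ v, 1 ≤ v → v ≤ 83741 → fs1 v = true := slots_step fs1 83443 298 83741 s1u256 s1c257 rfl
theorem s1u258 : ∀ v, 1 ≤ v → v ≤ 84059 → fs1 v = true := slots_step fs1 83741 318 84059 s1u257 s1c258 rfl
theorem s1u259 : ∀ v, 1 ≤ v → v ≤ 84363 → fs1 v = true := slots_step fs1 84059 304 84363 s1u258 s1c259 rfl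
theorem s1u260 : ∀ v, 1 ≤ v → v ≤ 84632 → fs1 v = true := slots_step fs1 84363 269 84632 s1u259 s1c260 rfl
theorem s1u261 : ∀ v, 1 ≤ v → v ≤ 84896 → fs1 v = true := slots_step fs1 84632 264 84896 s1u260 s1c261 rfl
theorem s1u262 : ∀ v, 1 ≤ v → v ≤ 85199 → fs1 v = true := slots_step fs1 84896 303 85199 s1u261 s1c262 rfl
theorem s1u263 : ∀ v, 1 ≤ v → v ≤ 85502 → fs1 v = true := slots_step fs1 85199 303 85502 s1u262 s1c263 rfl
theorem s1u264 : ∀ v, 1 ≤ v → v ≤ 85821 → fs1 v = true := slots_step fs1 85502 319 85821 s1u263 s1c264 rfl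
theorem s1u265 : ∀ v, 1 ≤ v → v ≤ 86089 → fs1 v = true := slots_step fs1 85821 268 86089 s1u264 s1c265 rfl
theorem s1u266 : ∀ v, 1 ≤ v → v ≤ 86355 → fs1 v = true := slots_step fs1 86089 266 86355 s1u265 s1c266 rfl
theorem s1u267 : ∀ v, 1 ≤ v → v ≤ 86619 → fs1 v = true := slots_step fs1 86355 264 86619 s1u266 s1c267 rfl
theorem s1u268 : ∀ v, 1 ≤ v → v ≤ 86914 → fs1 v = true := slots_step fs1 86619 295 86914 s1u267 s1c268 rfl
theorem s1u269 : ∀ v, 1 ≤ v → v ≤ 87205 → fs1 v = true := slots_step fs1 86914 291 87205 s1u268 s1c269 rfl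
theorem s1u270 : ∀ v, 1 ≤ v → v ≤ 87523 → fs1 v = true := slots_step fs1 87205 318 87523 s1u269 s1c270 rfl
theorem s1u271 : ∀ v, 1 ≤ v → v ≤ 87852 → fs1 v = true := slots_step fs1 87523 329 87852 s1u270 s1c271 rfl
theorem s1u272 : ∀ v, 1 ≤ v → v ≤ 88264 → fs1 v = true := slots_step fs1 87852 412 88264 s1u271 s1c272 rfl
theorem s1u273 : ∀ v, 1 ≤ v → v ≤ 88650 → fs1 v = true := slots_step fs1 88264 386 88650 s1u272 s1c273 rfl
theorem s1u274 : ∀ v, 1 ≤ v → v ≤ 89044 → fs1 v = true := slots_step fs1 88650 394 89044 s1u273 s1c274 rfl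
theorem s1u275 : ∀ v, 1 ≤ v → v ≤ 89422 → fs1 v = true := slots_step fs1 89044 378 89422 s1u274 s1c275 rfl
theorem s1u276 : ∀ v, 1 ≤ v → v ≤ 89840 → fs1 v = true := slots_step fs1 89422 418 89840 s1u275 s1c276 rfl
theorem s1u277 : ∀ v, 1 ≤ v → v ≤ 90270 → fs1 v = true := slots_step fs1 89840 430 90270 s1u276 s1c277 rfl
theorem s1u278 : ∀ v, 1 ≤ v → v ≤ 90756 → fs1 v = true := slots_step fs1 90270 486 90756 s1u277 s1c278 rfl
theorem s1u279 : ∀ v, 1 ≤ v → v ≤ 91081 → fs1 v = true := slots_step fs1 90756 325 91081 s1u278 s1c279 rfl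
theorem s1u280 : ∀ v, 1 ≤ v → v ≤ 91408 → fs1 v = true := slots_step fs1 91081 327 91408 s1u279 s1c280 rfl
theorem s1u281 : ∀ v, 1 ≤ v → v ≤ 91795 → fs1 v = true := slots_step fs1 91408 387 91795 s1u280 s1c281 rfl
theorem s1u282 : ∀ v, 1 ≤ v → v ≤ 92107 → fs1 v = true := slots_step fs1 91795 312 92107 s1u281 s1c282 rfl
theorem s1u283 : ∀ v, 1 ≤ v → v ≤ 92445 → fs1 v = true := slots_step fs1 92107 338 92445 s1u282 s1c283 rfl
theorem s1u284 : ∀ v, 1 ≤ v → v ≤ 92842 → fs1 v = true := slots_step fs1 92445 397 92842 s1u283 s1c284 rfl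
theorem s1u285 : ∀ v, 1 ≤ v → v ≤ 93388 → fs1 v = true := slots_step fs1 92842 546 93388 s1u284 s1c285 rfl
theorem s1u286 : ∀ v, 1 ≤ v → v ≤ 93936 → fs1 v = true := slots_step fs1 93388 548 93936 s1u285 s1c286 rfl
theorem s1u287 : ∀ v, 1 ≤ v → v ≤ 94461 → fs1 v = true := slots_step fs1 93936 525 94461 s1u286 s1c287 rfl
theorem s1u288 : ∀ v, 1 ≤ v → v ≤ 94736 → fs1 v = true := slots_step fs1 94461 275 94736 s1u287 s1c288 rfl
theorem s1u289 : ∀ v, 1 ≤ v → v ≤ 95018 → fs1 v = true := slots_step fs1 94736 282 95018 s1u288 s1c289 rfl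
theorem s1u290 : ∀ v, 1 ≤ v → v ≤ 95344 → fs1 v = true := slots_step fs1 95018 326 95344 s1u289 s1c290 rfl
theorem s1u291 : ∀ v, 1 ≤ v → v ≤ 95647 → fs1 v = true := slots_step fs1 95344 303 95647 s1u290 s1c291 rfl
theorem s1u292 : ∀ v, 1 ≤ v → v ≤ 95938 → fs1 v = true := slots_step fs1 95647 291 95938 s1u291 s1c292 rfl
theorem s1u293 : ∀ v, 1 ≤ v → v ≤ 96251 → fs1 v = true := slots_step fs1 95938 313 96251 s1u292 s1c293 rfl
theorem s1u294 : ∀ v, 1 ≤ v → v ≤ 96656 → fs1 v = true := slots_step fs1 96251 405 96656 s1u293 s1c294 rfl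
theorem s1u295 : ∀ v, 1 ≤ v → v ≤ 97123 → fs1 v = true := slots_step fs1 96656 467 97123 s1u294 s1c295 rfl
theorem s1u296 : ∀ v, 1 ≤ v → v ≤ 97563 → fs1 v = true := slots_step fs1 97123 440 97563 s1u295 s1c296 rfl
theorem s1u297 : ∀ v, 1 ≤ v → v ≤ 97927 → fs1 v = true := slots_step fs1 97563 364 97927 s1u296 s1c297 rfl
theorem s1u298 : ∀ v, 1 ≤ v → v ≤ 98320 → fs1 v = true := slots_step fs1 97927 393 98320 s1u297 s1c298 rfl
theorem s1u299 : ∀ v, 1 ≤ v → v ≤ 98865 → fs1 v = true := slots_step fs1 98320 545 98865 s1u298 s1c299 rfl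
theorem s1u300 : ∀ v, 1 ≤ v → v ≤ 99130 → fs1 v = true := slots_step fs1 98865 265 99130 s1u299 s1c300 rfl
theorem s1u301 : ∀ v, 1 ≤ v → v ≤ 99398 → fs1 v = true := slots_step fs1 99130 268 99398 s1u300 s1c301 rfl
theorem s1u302 : ∀ v, 1 ≤ v → v ≤ 99684 → fs1 v = true := slots_step fs1 99398 286 99684 s1u301 s1c302 rfl
theorem s1u303 : ∀ v, 1 ≤ v → v ≤ 100031 → fs1 v = true := slots_step fs1 99684 347 100031 s1u302 s1c303 rfl
theorem s1u304 : ∀ v, 1 ≤ v → v ≤ 100322 → fs1 v = true := slots_step fs1 100031 291 100322 s1u303 s1c304 rfl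
theorem s1u305 : ∀ v, 1 ≤ v → v ≤ 100615 → fs1 v = true := slots_step fs1 100322 293 100615 s1u304 s1c305 rfl
theorem s1u306 : ∀ v, 1 ≤ v → v ≤ 100958 → fs1 v = true := slots_step fs1 100615 343 100958 s1u305 s1c306 rfl
theorem s1u307 : ∀ v, 1 ≤ v → v ≤ 101269 → fs1 v = true := slots_step fs1 100958 311 101269 s1u306 s1c307 rfl
theorem s1u308 : ∀ v, 1 ≤ v → v ≤ 101577 → fs1 v = true := slots_step fs1 101269 308 101577 s1u307 s1c308 rfl
theorem s1u309 : ∀ v, 1 ≤ v → v ≤ 101867 → fs1 v = true := slots_step fs1 101577 290 101867 s1u308 s1c309 rfl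
theorem s1u310 : ∀ v, 1 ≤ v → v ≤ 102182 → fs1 v = true := slots_step fs1 101867 315 102182 s1u309 s1c310 rfl
theorem s1u311 : ∀ v, 1 ≤ v → v ≤ 102488 → fs1 v = true := slots_step fs1 102182 306 102488 s1u310 s1c311 rfl
theorem s1u312 : ∀ v, 1 ≤ v → v ≤ 102777 → fs1 v = true := slots_step fs1 102488 289 102777 s1u311 s1c312 rfl
theorem s1u313 : ∀ v, 1 ≤ v → v ≤ 103094 → fs1 v = true := slots_step fs1 102777 317 103094 s1u312 s1c313 rfl
theorem s1u314 : ∀ v, 1 ≤ v → v ≤ 103484 → fs1 v = true := slots_step fs1 103094 390 103484 s1u313 s1c314 rfl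
theorem s1u315 : ∀ v, 1 ≤ v → v ≤ 103893 → fs1 v = true := slots_step fs1 103484 409 103893 s1u314 s1c315 rfl
theorem s1u316 : ∀ v, 1 ≤ v → v ≤ 104311 → fs1 v = true := slots_step fs1 103893 418 104311 s1u315 s1c316 rfl
theorem s1u317 : ∀ v, 1 ≤ v → v ≤ 104744 → fs1 v = true := slots_step fs1 104311 433 104744 s1u316 s1c317 rfl
theorem s1u318 : ∀ v, 1 ≤ v → v ≤ 105199 → fs1 v = true := slots_step fs1 104744 455 105199 s1u317 s1c318 rfl
theorem s1u319 : ∀ v, 1 ≤ v → v ≤ 105511 → fs1 v = true := slots_step fs1 105199 312 105511 s1u318 s1c319 rfl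
theorem s1u320 : ∀ v, 1 ≤ v → v ≤ 105812 → fs1 v = true := slots_step fs1 105511 301 105812 s1u319 s1c320 rfl
theorem s1u321 : ∀ v, 1 ≤ v → v ≤ 106162 → fs1 v = true := slots_step fs1 105812 350 106162 s1u320 s1c321 rfl
theorem s1u322 : ∀ v, 1 ≤ v → v ≤ 106526 → fs1 v = true := slots_step fs1 106162 364 106526 s1u321 s1c322 rfl
theorem s1u323 : ∀ v, 1 ≤ v → v ≤ 106962 → fs1 v = true := slots_step fs1 106526 436 106962 s1u322 s1c323 rfl
theorem s1u324 : ∀ v, 1 ≤ v → v ≤ 107470 → fs1 v = true := slots_step fs1 106962 508 107470 s1u323 s1c324 rfl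
theorem s1u325 : ∀ v, 1 ≤ v → v ≤ 107767 → fs1 v = true := slots_step fs1 107470 297 107767 s1u324 s1c325 rfl
theorem s1u326 : ∀ v, 1 ≤ v → v ≤ 108041 → fs1 v = true := slots_step fs1 107767 274 108041 s1u325 s1c326 rfl
theorem s1u327 : ∀ v, 1 ≤ v → v ≤ 108363 → fs1 v = true := slots_step fs1 108041 322 108363 s1u326 s1c327 rfl
theorem s1u328 : ∀ v, 1 ≤ v → v ≤ 108658 → fs1 v = true := slots_step fs1 108363 295 108658 s1u327 s1c328 rfl
theorem s1u329 : ∀ v, 1 ≤ v → v ≤ 108949 → fs1 v = true := slots_step fs1 108658 291 108949 s1u328 s1c329 rfl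
theorem s1u330 : ∀ v, 1 ≤ v → v ≤ 109298 → fs1 v = true := slots_step fs1 108949 349 109298 s1u329 s1c330 rfl
theorem s1u331 : ∀ v, 1 ≤ v → v ≤ 109596 → fs1 v = true := slots_step fs1 109298 298 109596 s1u330 s1c331 rfl
theorem s1u332 : ∀ v, 1 ≤ v → v ≤ 109870 → fs1 v = true := slots_step fs1 109596 274 109870 s1u331 s1c332 rfl
theorem s1u333 : ∀ v, 1 ≤ v → v ≤ 110138 → fs1 v = true := slots_step fs1 109870 268 110138 s1u332 s1c333 rfl
theorem s1u334 : ∀ v, 1 ≤ v → v ≤ 110414 → fs1 v = true := slots_step fs1 110138 276 110414 s1u333 s1c334 rfl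
theorem s1u335 : ∀ v, 1 ≤ v → v ≤ 110707 → fs1 v = true := slots_step fs1 110414 293 110707 s1u334 s1c335 rfl
theorem s1u336 : ∀ v, 1 ≤ v → v ≤ 111042 → fs1 v = true := slots_step fs1 110707 335 111042 s1u335 s1c336 rfl
theorem s1u337 : ∀ v, 1 ≤ v → v ≤ 111306 → fs1 v = true := slots_step fs1 111042 264 111306 s1u336 s1c337 rfl
theorem s1u338 : ∀ v, 1 ≤ v → v ≤ 111652 → fs1 v = true := slots_step fs1 111306 346 111652 s1u337 s1c338 rfl
theorem s1u339 : ∀ v, 1 ≤ v → v ≤ 111935 → fs1 v = true := slots_step fs1 111652 283 111935 s1u338 s1c339 rfl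
theorem s1u340 : ∀ v, 1 ≤ v → v ≤ 112198 → fs1 v = true := slots_step fs1 111935 263 112198 s1u339 s1c340 rfl
theorem s1u341 : ∀ v, 1 ≤ v → v ≤ 112470 → fs1 v = true := slots_step fs1 112198 272 112470 s1u340 s1c341 rfl
theorem s1u342 : ∀ v, 1 ≤ v → v ≤ 112749 → fs1 v = true := slots_step fs1 112470 279 112749 s1u341 s1c342 rfl
theorem s1u343 : ∀ v, 1 ≤ v → v ≤ 113052 → fs1 v = true := slots_step fs1 112749 303 113052 s1u342 s1c343 rfl
theorem s1u344 : ∀ v, 1 ≤ v → v ≤ 113361 → fs1 v = true := slots_step fs1 113052 309 113361 s1u343 s1c344 rfl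
theorem s1u345 : ∀ v, 1 ≤ v → v ≤ 113649 → fs1 v = true := slots_step fs1 113361 288 113649 s1u344 s1c345 rfl
theorem s1u346 : ∀ v, 1 ≤ v → v ≤ 113986 → fs1 v = true := slots_step fs1 113649 337 113986 s1u345 s1c346 rfl
theorem s1u347 : ∀ v, 1 ≤ v → v ≤ 114292 → fs1 v = true := slots_step fs1 113986 306 114292 s1u346 s1c347 rfl
theorem s1u348 : ∀ v, 1 ≤ v → v ≤ 114618 → fs1 v = true := slots_step fs1 114292 326 114618 s1u347 s1c348 rfl
theorem s1u349 : ∀ v, 1 ≤ v → v ≤ 115022 → fs1 v = true := slots_step fs1 114618 404 115022 s1u348 s1c349 rfl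
theorem s1u350 : ∀ v, 1 ≤ v → v ≤ 115445 → fs1 v = true := slots_step fs1 115022 423 115445 s1u349 s1c350 rfl
theorem s1u351 : ∀ v, 1 ≤ v → v ≤ 115838 → fs1 v = true := slots_step fs1 115445 393 115838 s1u350 s1c351 rfl
theorem s1u352 : ∀ v, 1 ≤ v → v ≤ 116215 → fs1 v = true := slots_step fs1 115838 377 116215 s1u351 s1c352 rfl
theorem s1u353 : ∀ v, 1 ≤ v → v ≤ 116647 → fs1 v = true := slots_step fs1 116215 432 116647 s1u352 s1c353 rfl
theorem s1u354 : ∀ v, 1 ≤ v → v ≤ 117097 → fs1 v = true := slots_step fs1 116647 450 117097 s1u353 s1c354 rfl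
theorem s1u355 : ∀ v, 1 ≤ v → v ≤ 117512 → fs1 v = true := slots_step fs1 117097 415 117512 s1u354 s1c355 rfl
theorem s1u356 : ∀ v, 1 ≤ v → v ≤ 117869 → fs1 v = true := slots_step fs1 117512 357 117869 s1u355 s1c356 rfl
theorem s1u357 : ∀ v, 1 ≤ v → v ≤ 118182 → fs1 v = true := slots_step fs1 117869 313 118182 s1u356 s1c357 rfl
theorem s1u358 : ∀ v, 1 ≤ v → v ≤ 118590 → fs1 v = true := slots_step fs1 118182 408 118590 s1u357 s1c358 rfl
theorem s1u359 : ∀ v, 1 ≤ v → v ≤ 118898 → fs1 v = true := slots_step fs1 118590 308 118898 s1u358 s1c359 rfl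
theorem s1u360 : ∀ v, 1 ≤ v → v ≤ 119251 → fs1 v = true := slots_step fs1 118898 353 119251 s1u359 s1c360 rfl
theorem s1u361 : ∀ v, 1 ≤ v → v ≤ 119674 → fs1 v = true := slots_step fs1 119251 423 119674 s1u360 s1c361 rfl
theorem s1u362 : ∀ v, 1 ≤ v → v ≤ 120233 → fs1 v = true := slots_step fs1 119674 559 120233 s1u361 s1c362 rfl
theorem s1u363 : ∀ v, 1 ≤ v → v ≤ 120669 → fs1 v = true := slots_step fs1 120233 436 120669 s1u362 s1c363 rfl
theorem s1u364 : ∀ v, 1 ≤ v → v ≤ 120938 → fs1 v = true := slots_step fs1 120669 269 120938 s1u363 s1c364 rfl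
theorem s1u365 : ∀ v, 1 ≤ v → v ≤ 121201 → fs1 v = true := slots_step fs1 120938 263 121201 s1u364 s1c365 rfl
theorem s1u366 : ∀ v, 1 ≤ v → v ≤ 121513 → fs1 v = true := slots_step fs1 121201 312 121513 s1u365 s1c366 rfl
theorem s1u367 : ∀ v, 1 ≤ v → v ≤ 121836 → fs1 v = true := slots_step fs1 121513 323 121836 s1u366 s1c367 rfl
theorem s1u368 : ∀ v, 1 ≤ v → v ≤ 122107 → fs1 v = true := slots_step fs1 121836 271 122107 s1u367 s1c368 rfl
theorem s1u369 : ∀ v, 1 ≤ v → v ≤ 122403 → fs1 v = true := slots_step fs1 122107 296 122403 s1u368 s1c369 rfl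
theorem s1u370 : ∀ v, 1 ≤ v → v ≤ 122706 → fs1 v = true := slots_step fs1 122403 303 122706 s1u369 s1c370 rfl
theorem s1u371 : ∀ v, 1 ≤ v → v ≤ 122990 → fs1 v = true := slots_step fs1 122706 284 122990 s1u370 s1c371 rfl
theorem s1u372 : ∀ v, 1 ≤ v → v ≤ 123441 → fs1 v = true := slots_step fs1 122990 451 123441 s1u371 s1c372 rfl
theorem s1u373 : ∀ v, 1 ≤ v → v ≤ 123829 → fs1 v = true := slots_step fs1 123441 388 123829 s1u372 s1c373 rfl
theorem s1u374 : ∀ v, 1 ≤ v → v ≤ 124187 → fs1 v = true := slots_step fs1 123829 358 124187 s1u373 s1c374 rfl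
theorem s1u375 : ∀ v, 1 ≤ v → v ≤ 124617 → fs1 v = true := slots_step fs1 124187 430 124617 s1u374 s1c375 rfl
theorem s1u376 : ∀ v, 1 ≤ v → v ≤ 124917 → fs1 v = true := slots_step fs1 124617 300 124917 s1u375 s1c376 rfl
theorem s1u377 : ∀ v, 1 ≤ v → v ≤ 125171 → fs1 v = true := slots_step fs1 124917 254 125171 s1u376 s1c377 rfl
theorem s1u378 : ∀ v, 1 ≤ v → v ≤ 125418 → fs1 v = true := slots_step fs1 125171 247 125418 s1u377 s1c378 rfl
theorem s1u379 : ∀ v, 1 ≤ v → v ≤ 125669 → fs1 v = true := slots_step fs1 125418 251 125669 s1u378 s1c379 rfl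
theorem s1u380 : ∀ v, 1 ≤ v → v ≤ 125952 → fs1 v = true := slots_step fs1 125669 283 125952 s1u379 s1c380 rfl
theorem s1u381 : ∀ v, 1 ≤ v → v ≤ 126223 → fs1 v = true := slots_step fs1 125952 271 126223 s1u380 s1c381 rfl
theorem s1u382 : ∀ v, 1 ≤ v → v ≤ 126504 → fs1 v = true := slots_step fs1 126223 281 126504 s1u381 s1c382 rfl
theorem s1u383 : ∀ v, 1 ≤ v → v ≤ 126795 → fs1 v = true := slots_step fs1 126504 291 126795 s1u382 s1c383 rfl
theorem s1u384 : ∀ v, 1 ≤ v → v ≤ 127067 → fs1 v = true := slots_step fs1 126795 272 127067 s1u383 s1c384 rfl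
theorem s1u385 : ∀ v, 1 ≤ v → v ≤ 127347 → fs1 v = true := slots_step fs1 127067 280 127347 s1u384 s1c385 rfl
theorem s1u386 : ∀ v, 1 ≤ v → v ≤ 127631 → fs1 v = true := slots_step fs1 127347 284 127631 s1u385 s1c386 rfl
theorem s1u387 : ∀ v, 1 ≤ v → v ≤ 127908 → fs1 v = true := slots_step fs1 127631 277 127908 s1u386 s1c387 rfl
theorem s1u388 : ∀ v, 1 ≤ v → v ≤ 128200 → fs1 v = true := slots_step fs1 127908 292 128200 s1u387 s1c388 rfl
theorem s1u389 : ∀ v, 1 ≤ v → v ≤ 128483 → fs1 v = true := slots_step fs1 128200 283 128483 s1u388 s1c389 rfl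
theorem s1u390 : ∀ v, 1 ≤ v → v ≤ 128749 → fs1 v = true := slots_step fs1 128483 266 128749 s1u389 s1c390 rfl
theorem s1u391 : ∀ v, 1 ≤ v → v ≤ 129029 → fs1 v = true := slots_step fs1 128749 280 129029 s1u390 s1c391 rfl
theorem s1u392 : ∀ v, 1 ≤ v → v ≤ 129308 → fs1 v = true := slots_step fs1 129029 279 129308 s1u391 s1c392 rfl
theorem s1u393 : ∀ v, 1 ≤ v → v ≤ 129583 → fs1 v = true := slots_step fs1 129308 275 129583 s1u392 s1c393 rfl
theorem s1u394 : ∀ v, 1 ≤ v → v ≤ 129835 → fs1 v = true := slots_step fs1 129583 252 129835 s1u393 s1c394 rfl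
theorem s1u395 : ∀ v, 1 ≤ v → v ≤ 130097 → fs1 v = true := slots_step fs1 129835 262 130097 s1u394 s1c395 rfl
theorem s1u396 : ∀ v, 1 ≤ v → v ≤ 130366 → fs1 v = true := slots_step fs1 130097 269 130366 s1u395 s1c396 rfl
theorem s1u397 : ∀ v, 1 ≤ v → v ≤ 130616 → fs1 v = true := slots_step fs1 130366 250 130616 s1u396 s1c397 rfl
theorem s1u398 : ∀ v, 1 ≤ v → v ≤ 130878 → fs1 v = true := slots_step fs1 130616 262 130878 s1u397 s1c398 rfl
theorem s1u399 : ∀ v, 1 ≤ v → v ≤ 131167 → fs1 v = true := slots_step fs1 130878 289 131167 s1u398 s1c399 rfl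
theorem s1u400 : ∀ v, 1 ≤ v → v ≤ 131461 → fs1 v = true := slots_step fs1 131167 294 131461 s1u399 s1c400 rfl
theorem s1u401 : ∀ v, 1 ≤ v → v ≤ 131752 → fs1 v = true := slots_step fs1 131461 291 131752 s1u400 s1c401 rfl
theorem s1u402 : ∀ v, 1 ≤ v → v ≤ 132028 → fs1 v = true := slots_step fs1 131752 276 132028 s1u401 s1c402 rfl
theorem s1u403 : ∀ v, 1 ≤ v → v ≤ 132292 → fs1 v = true := slots_step fs1 132028 264 132292 s1u402 s1c403 rfl
theorem s1u404 : ∀ v, 1 ≤ v → v ≤ 132552 → fs1 v = true := slots_step fs1 132292 260 132552 s1u403 s1c404 rfl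
theorem s1u405 : ∀ v, 1 ≤ v → v ≤ 132832 → fs1 v = true := slots_step fs1 132552 280 132832 s1u404 s1c405 rfl
theorem s1u406 : ∀ v, 1 ≤ v → v ≤ 133086 → fs1 v = true := slots_step fs1 132832 254 133086 s1u405 s1c406 rfl
theorem s1u407 : ∀ v, 1 ≤ v → v ≤ 133355 → fs1 v = true := slots_step fs1 133086 269 133355 s1u406 s1c407 rfl
theorem s1u408 : ∀ v, 1 ≤ v → v ≤ 133602 → fs1 v = true := slots_step fs1 133355 247 133602 s1u407 s1c408 rfl
theorem s1u409 : ∀ v, 1 ≤ v → v ≤ 133850 → fs1 v = true := slots_step fs1 133602 248 133850 s1u408 s1c409 rfl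
theorem s1u410 : ∀ v, 1 ≤ v → v ≤ 134112 → fs1 v = true := slots_step fs1 133850 262 134112 s1u409 s1c410 rfl
theorem s1u411 : ∀ v, 1 ≤ v → v ≤ 134362 → fs1 v = true := slots_step fs1 134112 250 134362 s1u410 s1c411 rfl
theorem s1u412 : ∀ v, 1 ≤ v → v ≤ 134611 → fs1 v = true := slots_step fs1 134362 249 134611 s1u411 s1c412 rfl
theorem s1u413 : ∀ v, 1 ≤ v → v ≤ 134875 → fs1 v = true := slots_step fs1 134611 264 134875 s1u412 s1c413 rfl
theorem s1u414 : ∀ v, 1 ≤ v → v ≤ 135140 → fs1 v = true := slots_step fs1 134875 265 135140 s1u413 s1c414 rfl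
theorem s1u415 : ∀ v, 1 ≤ v → v ≤ 135401 → fs1 v = true := slots_step fs1 135140 261 135401 s1u414 s1c415 rfl
theorem s1u416 : ∀ v, 1 ≤ v → v ≤ 135674 → fs1 v = true := slots_step fs1 135401 273 135674 s1u415 s1c416 rfl
theorem s1u417 : ∀ v, 1 ≤ v → v ≤ 135941 → fs1 v = true := slots_step fs1 135674 267 135941 s1u416 s1c417 rfl
theorem s1u418 : ∀ v, 1 ≤ v → v ≤ 136215 → fs1 v = true := slots_step fs1 135941 274 136215 s1u417 s1c418 rfl
theorem s1u419 : ∀ v, 1 ≤ v → v ≤ 136477 → fs1 v = true := slots_step fs1 136215 262 136477 s1u418 s1c419 rfl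
theorem s1u420 : ∀ v, 1 ≤ v → v ≤ 136745 → fs1 v = true := slots_step fs1 136477 268 136745 s1u419 s1c420 rfl
theorem s1u421 : ∀ v, 1 ≤ v → v ≤ 137006 → fs1 v = true := slots_step fs1 136745 261 137006 s1u420 s1c421 rfl
theorem s1u422 : ∀ v, 1 ≤ v → v ≤ 137275 → fs1 v = true := slots_step fs1 137006 269 137275 s1u421 s1c422 rfl
theorem s1u423 : ∀ v, 1 ≤ v → v ≤ 137540 → fs1 v = true := slots_step fs1 137275 265 137540 s1u422 s1c423 rfl
theorem s1u424 : ∀ v, 1 ≤ v → v ≤ 137815 → fs1 v = true := slots_step fs1 137540 275 137815 s1u423 s1c424 rfl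
theorem s1u425 : ∀ v, 1 ≤ v → v ≤ 138087 → fs1 v = true := slots_step fs1 137815 272 138087 s1u424 s1c425 rfl
theorem s1u426 : ∀ v, 1 ≤ v → v ≤ 138366 → fs1 v = true := slots_step fs1 138087 279 138366 s1u425 s1c426 rfl
theorem s1u427 : ∀ v, 1 ≤ v → v ≤ 138634 → fs1 v = true := slots_step fs1 138366 268 138634 s1u426 s1c427 rfl
theorem s1u428 : ∀ v, 1 ≤ v → v ≤ 138897 → fs1 v = true := slots_step fs1 138634 263 138897 s1u427 s1c428 rfl
theorem s1u429 : ∀ v, 1 ≤ v → v ≤ 139181 → fs1 v = true := slots_step fs1 138897 284 139181 s1u428 s1c429 rfl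
theorem s1u430 : ∀ v, 1 ≤ v → v ≤ 139409 → fs1 v = true := slots_step fs1 139181 228 139409 s1u429 s1c430 rfl
theorem s1u431 : ∀ v, 1 ≤ v → v ≤ 139646 → fs1 v = true := slots_step fs1 139409 237 139646 s1u430 s1c431 rfl
theorem s1u432 : ∀ v, 1 ≤ v → v ≤ 139876 → fs1 v = true := slots_step fs1 139646 230 139876 s1u431 s1c432 rfl
theorem s1u433 : ∀ v, 1 ≤ v → v ≤ 140107 → fs1 v = true := slots_step fs1 139876 231 140107 s1u432 s1c433 rfl
theorem s1u434 : ∀ v, 1 ≤ v → v ≤ 140342 → fs1 v = true := slots_step fs1 140107 235 140342 s1u433 s1c434 rfl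
theorem s1u435 : ∀ v, 1 ≤ v → v ≤ 140584 → fs1 v = true := slots_step fs1 140342 242 140584 s1u434 s1c435 rfl
theorem s1u436 : ∀ v, 1 ≤ v → v ≤ 140825 → fs1 v = true := slots_step fs1 140584 241 140825 s1u435 s1c436 rfl
theorem s1u437 : ∀ v, 1 ≤ v → v ≤ 141056 → fs1 v = true := slots_step fs1 140825 231 141056 s1u436 s1c437 rfl
theorem s1u438 : ∀ v, 1 ≤ v → v ≤ 141302 → fs1 v = true := slots_step fs1 141056 246 141302 s1u437 s1c438 rfl
theorem s1u439 : ∀ v, 1 ≤ v → v ≤ 141549 → fs1 v = true := slots_step fs1 141302 247 141549 s1u438 s1c439 rfl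
theorem s1u440 : ∀ v, 1 ≤ v → v ≤ 141806 → fs1 v = true := slots_step fs1 141549 257 141806 s1u439 s1c440 rfl
theorem s1u441 : ∀ v, 1 ≤ v → v ≤ 142054 → fs1 v = true := slots_step fs1 141806 248 142054 s1u440 s1c441 rfl
theorem s1u442 : ∀ v, 1 ≤ v → v ≤ 142303 → fs1 v = true := slots_step fs1 142054 249 142303 s1u441 s1c442 rfl
theorem s1u443 : ∀ v, 1 ≤ v → v ≤ 142572 → fs1 v = true := slots_step fs1 142303 269 142572 s1u442 s1c443 rfl
theorem s1u444 : ∀ v, 1 ≤ v → v ≤ 142854 → fs1 v = true := slots_step fs1 142572 282 142854 s1u443 s1c444 rfl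
theorem s1u445 : ∀ v, 1 ≤ v → v ≤ 143119 → fs1 v = true := slots_step fs1 142854 265 143119 s1u444 s1c445 rfl
theorem s1u446 : ∀ v, 1 ≤ v → v ≤ 143397 → fs1 v = true := slots_step fs1 143119 278 143397 s1u445 s1c446 rfl
theorem s1u447 : ∀ v, 1 ≤ v → v ≤ 143685 → fs1 v = true := slots_step fs1 143397 288 143685 s1u446 s1c447 rfl
theorem s1u448 : ∀ v, 1 ≤ v → v ≤ 143957 → fs1 v = true := slots_step fs1 143685 272 143957 s1u447 s1c448 rfl
theorem s1u449 : ∀ v, 1 ≤ v → v ≤ 144243 → fs1 v = true := slots_step fs1 143957 286 144243 s1u448 s1c449 rfl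
theorem s1u450 : ∀ v, 1 ≤ v → v ≤ 144504 → fs1 v = true := slots_step fs1 144243 261 144504 s1u449 s1c450 rfl
theorem s1u451 : ∀ v, 1 ≤ v → v ≤ 144789 → fs1 v = true := slots_step fs1 144504 285 144789 s1u450 s1c451 rfl
theorem s1u452 : ∀ v, 1 ≤ v → v ≤ 145063 → fs1 v = true := slots_step fs1 144789 274 145063 s1u451 s1c452 rfl
theorem s1u453 : ∀ v, 1 ≤ v → v ≤ 145355 → fs1 v = true := slots_step fs1 145063 292 145355 s1u452 s1c453 rfl
theorem s1u454 : ∀ v, 1 ≤ v → v ≤ 145623 → fs1 v = true := slots_step fs1 145355 268 145623 s1u453 s1c454 rfl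
theorem s1u455 : ∀ v, 1 ≤ v → v ≤ 145915 → fs1 v = true := slots_step fs1 145623 292 145915 s1u454 s1c455 rfl
theorem s1u456 : ∀ v, 1 ≤ v → v ≤ 146174 → fs1 v = true := slots_step fs1 145915 259 146174 s1u455 s1c456 rfl
theorem s1u457 : ∀ v, 1 ≤ v → v ≤ 146444 → fs1 v = true := slots_step fs1 146174 270 146444 s1u456 s1c457 rfl
theorem s1u458 : ∀ v, 1 ≤ v → v ≤ 146722 → fs1 v = true := slots_step fs1 146444 278 146722 s1u457 s1c458 rfl
theorem s1u459 : ∀ v, 1 ≤ v → v ≤ 146987 → fs1 v = true := slots_step fs1 146722 265 146987 s1u458 s1c459 rfl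
theorem s1u460 : ∀ v, 1 ≤ v → v ≤ 147240 → fs1 v = true := slots_step fs1 146987 253 147240 s1u459 s1c460 rfl
theorem s1u461 : ∀ v, 1 ≤ v → v ≤ 147500 → fs1 v = true := slots_step fs1 147240 260 147500 s1u460 s1c461 rfl
theorem s1u462 : ∀ v, 1 ≤ v → v ≤ 147757 → fs1 v = true := slots_step fs1 147500 257 147757 s1u461 s1c462 rfl
theorem s1u463 : ∀ v, 1 ≤ v → v ≤ 148011 → fs1 v = true := slots_step fs1 147757 254 148011 s1u462 s1c463 rfl
theorem s1u464 : ∀ v, 1 ≤ v → v ≤ 148284 → fs1 v = true := slots_step fs1 148011 273 148284 s1u463 s1c464 rfl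
theorem s1u465 : ∀ v, 1 ≤ v → v ≤ 148575 → fs1 v = true := slots_step fs1 148284 291 148575 s1u464 s1c465 rfl
theorem s1u466 : ∀ v, 1 ≤ v → v ≤ 148879 → fs1 v = true := slots_step fs1 148575 304 148879 s1u465 s1c466 rfl
theorem s1u467 : ∀ v, 1 ≤ v → v ≤ 149158 → fs1 v = true := slots_step fs1 148879 279 149158 s1u466 s1c467 rfl
theorem s1u468 : ∀ v, 1 ≤ v → v ≤ 149427 → fs1 v = true := slots_step fs1 149158 269 149427 s1u467 s1c468 rfl
theorem s1u469 : ∀ v, 1 ≤ v → v ≤ 149700 → fs1 v = true := slots_step fs1 149427 273 149700 s1u468 s1c469 rfl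
theorem s1u470 : ∀ v, 1 ≤ v → v ≤ 149962 → fs1 v = true := slots_step fs1 149700 262 149962 s1u469 s1c470 rfl
theorem s1u471 : ∀ v, 1 ≤ v → v ≤ 150248 → fs1 v = true := slots_step fs1 149962 286 150248 s1u470 s1c471 rfl
theorem s1u472 : ∀ v, 1 ≤ v → v ≤ 150510 → fs1 v = true := slots_step fs1 150248 262 150510 s1u471 s1c472 rfl
theorem s1u473 : ∀ v, 1 ≤ v → v ≤ 150790 → fs1 v = true := slots_step fs1 150510 280 150790 s1u472 s1c473 rfl
theorem s1u474 : ∀ v, 1 ≤ v → v ≤ 151040 → fs1 v = true := slots_step fs1 150790 250 151040 s1u473 s1c474 rfl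
theorem s1u475 : ∀ v, 1 ≤ v → v ≤ 151289 → fs1 v = true := slots_step fs1 151040 249 151289 s1u474 s1c475 rfl
theorem s1u476 : ∀ v, 1 ≤ v → v ≤ 151541 → fs1 v = true := slots_step fs1 151289 252 151541 s1u475 s1c476 rfl
theorem s1u477 : ∀ v, 1 ≤ v → v ≤ 151813 → fs1 v = true := slots_step fs1 151541 272 151813 s1u476 s1c477 rfl
theorem s1u478 : ∀ v, 1 ≤ v → v ≤ 152059 → fs1 v = true := slots_step fs1 151813 246 152059 s1u477 s1c478 rfl
theorem s1u479 : ∀ v, 1 ≤ v → v ≤ 152300 → fs1 v = true := slots_step fs1 152059 241 152300 s1u478 s1c479 rfl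
theorem s1u480 : ∀ v, 1 ≤ v → v ≤ 152581 → fs1 v = true := slots_step fs1 152300 281 152581 s1u479 s1c480 rfl
theorem s1u481 : ∀ v, 1 ≤ v → v ≤ 152835 → fs1 v = true := slots_step fs1 152581 254 152835 s1u480 s1c481 rfl
theorem s1u482 : ∀ v, 1 ≤ v → v ≤ 153112 → fs1 v = true := slots_step fs1 152835 277 153112 s1u481 s1c482 rfl
theorem s1u483 : ∀ v, 1 ≤ v → v ≤ 153375 → fs1 v = true := slots_step fs1 153112 263 153375 s1u482 s1c483 rfl
theorem s1u484 : ∀ v, 1 ≤ v → v ≤ 153648 → fs1 v = true := slots_step fs1 153375 273 153648 s1u483 s1c484 rfl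
theorem s1u485 : ∀ v, 1 ≤ v → v ≤ 153910 → fs1 v = true := slots_step fs1 153648 262 153910 s1u484 s1c485 rfl
theorem s1u486 : ∀ v, 1 ≤ v → v ≤ 154180 → fs1 v = true := slots_step fs1 153910 270 154180 s1u485 s1c486 rfl
theorem s1u487 : ∀ v, 1 ≤ v → v ≤ 154441 → fs1 v = true := slots_step fs1 154180 261 154441 s1u486 s1c487 rfl
theorem s1u488 : ∀ v, 1 ≤ v → v ≤ 154735 → fs1 v = true := slots_step fs1 154441 294 154735 s1u487 s1c488 rfl
theorem s1u489 : ∀ v, 1 ≤ v → v ≤ 154993 → fs1 v = true := slots_step fs1 154735 258 154993 s1u488 s1c489 rfl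
theorem s1u490 : ∀ v, 1 ≤ v → v ≤ 155264 → fs1 v = true := slots_step fs1 154993 271 155264 s1u489 s1c490 rfl
theorem s1u491 : ∀ v, 1 ≤ v → v ≤ 155529 → fs1 v = true := slots_step fs1 155264 265 155529 s1u490 s1c491 rfl
theorem s1u492 : ∀ v, 1 ≤ v → v ≤ 155797 → fs1 v = true := slots_step fs1 155529 268 155797 s1u491 s1c492 rfl
theorem s1u493 : ∀ v, 1 ≤ v → v ≤ 156069 → fs1 v = true := slots_step fs1 155797 272 156069 s1u492 s1c493 rfl
theorem s1u494 : ∀ v, 1 ≤ v → v ≤ 156349 → fs1 v = true := slots_step fs1 156069 280 156349 s1u493 s1c494 rfl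
theorem s1u495 : ∀ v, 1 ≤ v → v ≤ 156629 → fs1 v = true := slots_step fs1 156349 280 156629 s1u494 s1c495 rfl
theorem s1u496 : ∀ v, 1 ≤ v → v ≤ 156896 → fs1 v = true := slots_step fs1 156629 267 156896 s1u495 s1c496 rfl
theorem s1u497 : ∀ v, 1 ≤ v → v ≤ 157166 → fs1 v = true := slots_step fs1 156896 270 157166 s1u496 s1c497 rfl
theorem s1u498 : ∀ v, 1 ≤ v → v ≤ 157430 → fs1 v = true := slots_step fs1 157166 264 157430 s1u497 s1c498 rfl
theorem s1u499 : ∀ v, 1 ≤ v → v ≤ 157658 → fs1 v = true := slots_step fs1 157430 228 157658 s1u498 s1c499 rfl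
theorem s1u500 : ∀ v, 1 ≤ v → v ≤ 157900 → fs1 v = true := slots_step fs1 157658 242 157900 s1u499 s1c500 rfl
theorem s1u501 : ∀ v, 1 ≤ v → v ≤ 158129 → fs1 v = true := slots_step fs1 157900 229 158129 s1u500 s1c501 rfl
theorem s1u502 : ∀ v, 1 ≤ v → v ≤ 158359 → fs1 v = true := slots_step fs1 158129 230 158359 s1u501 s1c502 rfl
theorem s1u503 : ∀ v, 1 ≤ v → v ≤ 158602 → fs1 v = true := slots_step fs1 158359 243 158602 s1u502 s1c503 rfl
theorem s1u504 : ∀ v, 1 ≤ v → v ≤ 158837 → fs1 v = true := slots_step fs1 158602 235 158837 s1u503 s1c504 rfl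
theorem s1u505 : ∀ v, 1 ≤ v → v ≤ 159074 → fs1 v = true := slots_step fs1 158837 237 159074 s1u504 s1c505 rfl
theorem s1u506 : ∀ v, 1 ≤ v → v ≤ 159310 → fs1 v = true := slots_step fs1 159074 236 159310 s1u505 s1c506 rfl
theorem s1u507 : ∀ v, 1 ≤ v → v ≤ 159563 → fs1 v = true := slots_step fs1 159310 253 159563 s1u506 s1c507 rfl
theorem s1u508 : ∀ v, 1 ≤ v → v ≤ 159811 → fs1 v = true := slots_step fs1 159563 248 159811 s1u507 s1c508 rfl
theorem s1u509 : ∀ v, 1 ≤ v → v ≤ 160077 → fs1 v = true := slots_step fs1 159811 266 160077 s1u508 s1c509 rfl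
theorem s1u510 : ∀ v, 1 ≤ v → v ≤ 160330 → fs1 v = true := slots_step fs1 160077 253 160330 s1u509 s1c510 rfl
theorem s1u511 : ∀ v, 1 ≤ v → v ≤ 160575 → fs1 v = true := slots_step fs1 160330 245 160575 s1u510 s1c511 rfl
theorem s1u512 : ∀ v, 1 ≤ v → v ≤ 160814 → fs1 v = true := slots_step fs1 160575 239 160814 s1u511 s1c512 rfl
theorem s1u513 : ∀ v, 1 ≤ v → v ≤ 161076 → fs1 v = true := slots_step fs1 160814 262 161076 s1u512 s1c513 rfl
theorem s1u514 : ∀ v, 1 ≤ v → v ≤ 161360 → fs1 v = true := slots_step fs1 161076 284 161360 s1u513 s1c514 rfl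
theorem s1u515 : ∀ v, 1 ≤ v → v ≤ 161624 → fs1 v = true := slots_step fs1 161360 264 161624 s1u514 s1c515 rfl
theorem s1u516 : ∀ v, 1 ≤ v → v ≤ 161903 → fs1 v = true := slots_step fs1 161624 279 161903 s1u515 s1c516 rfl
theorem s1u517 : ∀ v, 1 ≤ v → v ≤ 162172 → fs1 v = true := slots_step fs1 161903 269 162172 s1u516 s1c517 rfl
theorem s1u518 : ∀ v, 1 ≤ v → v ≤ 162453 → fs1 v = true := slots_step fs1 162172 281 162453 s1u517 s1c518 rfl
theorem s1u519 : ∀ v, 1 ≤ v → v ≤ 162712 → fs1 v = true := slots_step fs1 162453 259 162712 s1u518 s1c519 rfl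
theorem s1u520 : ∀ v, 1 ≤ v → v ≤ 162995 → fs1 v = true := slots_step fs1 162712 283 162995 s1u519 s1c520 rfl
theorem s1u521 : ∀ v, 1 ≤ v → v ≤ 163257 → fs1 v = true := slots_step fs1 162995 262 163257 s1u520 s1c521 rfl
theorem s1u522 : ∀ v, 1 ≤ v → v ≤ 163538 → fs1 v = true := slots_step fs1 163257 281 163538 s1u521 s1c522 rfl
theorem s1u523 : ∀ v, 1 ≤ v → v ≤ 163815 → fs1 v = true := slots_step fs1 163538 277 163815 s1u522 s1c523 rfl
theorem s1u524 : ∀ v, 1 ≤ v → v ≤ 164087 → fs1 v = true := slots_step fs1 163815 272 164087 s1u523 s1c524 rfl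
theorem s1u525 : ∀ v, 1 ≤ v → v ≤ 164374 → fs1 v = true := slots_step fs1 164087 287 164374 s1u524 s1c525 rfl
theorem s1u526 : ∀ v, 1 ≤ v → v ≤ 164641 → fs1 v = true := slots_step fs1 164374 267 164641 s1u525 s1c526 rfl
theorem s1u527 : ∀ v, 1 ≤ v → v ≤ 164929 → fs1 v = true := slots_step fs1 164641 288 164929 s1u526 s1c527 rfl
theorem s1u528 : ∀ v, 1 ≤ v → v ≤ 165184 → fs1 v = true := slots_step fs1 164929 255 165184 s1u527 s1c528 rfl
theorem s1u529 : ∀ v, 1 ≤ v → v ≤ 165451 → fs1 v = true := slots_step fs1 165184 267 165451 s1u528 s1c529 rfl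
theorem s1u530 : ∀ v, 1 ≤ v → v ≤ 165724 → fs1 v = true := slots_step fs1 165451 273 165724 s1u529 s1c530 rfl
theorem s1u531 : ∀ v, 1 ≤ v → v ≤ 165982 → fs1 v = true := slots_step fs1 165724 258 165982 s1u530 s1c531 rfl
theorem s1u532 : ∀ v, 1 ≤ v → v ≤ 166235 → fs1 v = true := slots_step fs1 165982 253 166235 s1u531 s1c532 rfl
theorem s1u533 : ∀ v, 1 ≤ v → v ≤ 166490 → fs1 v = true := slots_step fs1 166235 255 166490 s1u532 s1c533 rfl
theorem s1u534 : ∀ v, 1 ≤ v → v ≤ 166730 → fs1 v = true := slots_step fs1 166490 240 166730 s1u533 s1c534 rfl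
theorem s1u535 : ∀ v, 1 ≤ v → v ≤ 166987 → fs1 v = true := slots_step fs1 166730 257 166987 s1u534 s1c535 rfl
theorem s1u536 : ∀ v, 1 ≤ v → v ≤ 167299 → fs1 v = true := slots_step fs1 166987 312 167299 s1u535 s1c536 rfl
theorem s1u537 : ∀ v, 1 ≤ v → v ≤ 167574 → fs1 v = true := slots_step fs1 167299 275 167574 s1u536 s1c537 rfl
theorem s1u538 : ∀ v, 1 ≤ v → v ≤ 167882 → fs1 v = true := slots_step fs1 167574 308 167882 s1u537 s1c538 rfl
theorem s1u539 : ∀ v, 1 ≤ v → v ≤ 168162 → fs1 v = true := slots_step fs1 167882 280 168162 s1u538 s1c539 rfl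
theorem s1u540 : ∀ v, 1 ≤ v → v ≤ 168421 → fs1 v = true := slots_step fs1 168162 259 168421 s1u539 s1c540 rfl
theorem s1u541 : ∀ v, 1 ≤ v → v ≤ 168700 → fs1 v = true := slots_step fs1 168421 279 168700 s1u540 s1c541 rfl
theorem s1u542 : ∀ v, 1 ≤ v → v ≤ 168966 → fs1 v = true := slots_step fs1 168700 266 168966 s1u541 s1c542 rfl
theorem s1u543 : ∀ v, 1 ≤ v → v ≤ 169226 → fs1 v = true := slots_step fs1 168966 260 169226 s1u542 s1c543 rfl
theorem s1u544 : ∀ v, 1 ≤ v → v ≤ 169530 → fs1 v = true := slots_step fs1 169226 304 169530 s1u543 s1c544 rfl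
theorem s1u545 : ∀ v, 1 ≤ v → v ≤ 169787 → fs1 v = true := slots_step fs1 169530 257 169787 s1u544 s1c545 rfl
theorem s1u546 : ∀ v, 1 ≤ v → v ≤ 170062 → fs1 v = true := slots_step fs1 169787 275 170062 s1u545 s1c546 rfl
theorem s1u547 : ∀ v, 1 ≤ v → v ≤ 170328 → fs1 v = true := slots_step fs1 170062 266 170328 s1u546 s1c547 rfl
theorem s1u548 : ∀ v, 1 ≤ v → v ≤ 170575 → fs1 v = true := slots_step fs1 170328 247 170575 s1u547 s1c548 rfl
theorem s1u549 : ∀ v, 1 ≤ v → v ≤ 170832 → fs1 v = true := slots_step fs1 170575 257 170832 s1u548 s1c549 rfl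
theorem s1u550 : ∀ v, 1 ≤ v → v ≤ 171065 → fs1 v = true := slots_step fs1 170832 233 171065 s1u549 s1c550 rfl
theorem s1u551 : ∀ v, 1 ≤ v → v ≤ 171351 → fs1 v = true := slots_step fs1 171065 286 171351 s1u550 s1c551 rfl
theorem s1u552 : ∀ v, 1 ≤ v → v ≤ 171605 → fs1 v = true := slots_step fs1 171351 254 171605 s1u551 s1c552 rfl
theorem s1u553 : ∀ v, 1 ≤ v → v ≤ 171839 → fs1 v = true := slots_step fs1 171605 234 171839 s1u552 s1c553 rfl
theorem s1u554 : ∀ v, 1 ≤ v → v ≤ 172106 → fs1 v = true := slots_step fs1 171839 267 172106 s1u553 s1c554 rfl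
theorem s1u555 : ∀ v, 1 ≤ v → v ≤ 172385 → fs1 v = true := slots_step fs1 172106 279 172385 s1u554 s1c555 rfl
theorem s1u556 : ∀ v, 1 ≤ v → v ≤ 172631 → fs1 v = true := slots_step fs1 172385 246 172631 s1u555 s1c556 rfl
theorem s1u557 : ∀ v, 1 ≤ v → v ≤ 172923 → fs1 v = true := slots_step fs1 172631 292 172923 s1u556 s1c557 rfl
theorem s1u558 : ∀ v, 1 ≤ v → v ≤ 173194 → fs1 v = true := slots_step fs1 172923 271 173194 s1u557 s1c558 rfl
theorem s1u559 : ∀ v, 1 ≤ v → v ≤ 173447 → fs1 v = true := slots_step fs1 173194 253 173447 s1u558 s1c559 rfl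
theorem s1u560 : ∀ v, 1 ≤ v → v ≤ 173744 → fs1 v = true := slots_step fs1 173447 297 173744 s1u559 s1c560 rfl
theorem s1u561 : ∀ v, 1 ≤ v → v ≤ 173996 → fs1 v = true := slots_step fs1 173744 252 173996 s1u560 s1c561 rfl
theorem s1u562 : ∀ v, 1 ≤ v → v ≤ 174278 → fs1 v = true := slots_step fs1 173996 282 174278 s1u561 s1c562 rfl
theorem s1u563 : ∀ v, 1 ≤ v → v ≤ 174547 → fs1 v = true := slots_step fs1 174278 269 174547 s1u562 s1c563 rfl
theorem s1u564 : ∀ v, 1 ≤ v → v ≤ 174835 → fs1 v = true := slots_step fs1 174547 288 174835 s1u563 s1c564 rfl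
theorem s1u565 : ∀ v, 1 ≤ v → v ≤ 175097 → fs1 v = true := slots_step fs1 174835 262 175097 s1u564 s1c565 rfl
theorem s1u566 : ∀ v, 1 ≤ v → v ≤ 175369 → fs1 v = true := slots_step fs1 175097 272 175369 s1u565 s1c566 rfl
theorem s1u567 : ∀ v, 1 ≤ v → v ≤ 175636 → fs1 v = true := slots_step fs1 175369 267 175636 s1u566 s1c567 rfl
theorem s1u568 : ∀ v, 1 ≤ v → v ≤ 175904 → fs1 v = true := slots_step fs1 175636 268 175904 s1u567 s1c568 rfl
theorem s1u569 : ∀ v, 1 ≤ v → v ≤ 176184 → fs1 v = true := slots_step fs1 175904 280 176184 s1u568 s1c569 rfl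
theorem s1u570 : ∀ v, 1 ≤ v → v ≤ 176468 → fs1 v = true := slots_step fs1 176184 284 176468 s1u569 s1c570 rfl
theorem s1u571 : ∀ v, 1 ≤ v → v ≤ 176744 → fs1 v = true := slots_step fs1 176468 276 176744 s1u570 s1c571 rfl
theorem s1u572 : ∀ v, 1 ≤ v → v ≤ 177011 → fs1 v = true := slots_step fs1 176744 267 177011 s1u571 s1c572 rfl
theorem s1u573 : ∀ v, 1 ≤ v → v ≤ 177270 → fs1 v = true := slots_step fs1 177011 259 177270 s1u572 s1c573 rfl
theorem s1u574 : ∀ v, 1 ≤ v → v ≤ 177505 → fs1 v = true := slots_step fs1 177270 235 177505 s1u573 s1c574 rfl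
theorem s1u575 : ∀ v, 1 ≤ v → v ≤ 177742 → fs1 v = true := slots_step fs1 177505 237 177742 s1u574 s1c575 rfl
theorem s1u576 : ∀ v, 1 ≤ v → v ≤ 177972 → fs1 v = true := slots_step fs1 177742 230 177972 s1u575 s1c576 rfl
theorem s1u577 : ∀ v, 1 ≤ v → v ≤ 178204 → fs1 v = true := slots_step fs1 177972 232 178204 s1u576 s1c577 rfl
theorem s1u578 : ∀ v, 1 ≤ v → v ≤ 178447 → fs1 v = true := slots_step fs1 178204 243 178447 s1u577 s1c578 rfl
theorem s1u579 : ∀ v, 1 ≤ v → v ≤ 178681 → fs1 v = true := slots_step fs1 178447 234 178681 s1u578 s1c579 rfl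
theorem s1u580 : ∀ v, 1 ≤ v → v ≤ 178917 → fs1 v = true := slots_step fs1 178681 236 178917 s1u579 s1c580 rfl
theorem s1u581 : ∀ v, 1 ≤ v → v ≤ 179169 → fs1 v = true := slots_step fs1 178917 252 179169 s1u580 s1c581 rfl
theorem s1u582 : ∀ v, 1 ≤ v → v ≤ 179424 → fs1 v = true := slots_step fs1 179169 255 179424 s1u581 s1c582 rfl
theorem s1u583 : ∀ v, 1 ≤ v → v ≤ 179658 → fs1 v = true := slots_step fs1 179424 234 179658 s1u582 s1c583 rfl
theorem s1u584 : ∀ v, 1 ≤ v → v ≤ 179933 → fs1 v = true := slots_step fs1 179658 275 179933 s1u583 s1c584 rfl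
theorem s1u585 : ∀ v, 1 ≤ v → v ≤ 180177 → fs1 v = true := slots_step fs1 179933 244 180177 s1u584 s1c585 rfl
theorem s1u586 : ∀ v, 1 ≤ v → v ≤ 180425 → fs1 v = true := slots_step fs1 180177 248 180425 s1u585 s1c586 rfl
theorem s1u587 : ∀ v, 1 ≤ v → v ≤ 180669 → fs1 v = true := slots_step fs1 180425 244 180669 s1u586 s1c587 rfl
theorem s1u588 : ∀ v, 1 ≤ v → v ≤ 180927 → fs1 v = true := slots_step fs1 180669 258 180927 s1u587 s1c588 rfl
theorem s1u589 : ∀ v, 1 ≤ v → v ≤ 181190 → fs1 v = true := slots_step fs1 180927 263 181190 s1u588 s1c589 rfl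
theorem s1u590 : ∀ v, 1 ≤ v → v ≤ 181446 → fs1 v = true := slots_step fs1 181190 256 181446 s1u589 s1c590 rfl
theorem s1u591 : ∀ v, 1 ≤ v → v ≤ 181721 → fs1 v = true := slots_step fs1 181446 275 181721 s1u590 s1c591 rfl
theorem s1u592 : ∀ v, 1 ≤ v → v ≤ 182008 → fs1 v = true := slots_step fs1 181721 287 182008 s1u591 s1c592 rfl
theorem s1u593 : ∀ v, 1 ≤ v → v ≤ 182261 → fs1 v = true := slots_step fs1 182008 253 182261 s1u592 s1c593 rfl
theorem s1u594 : ∀ v, 1 ≤ v → v ≤ 182548 → fs1 v = true := slots_step fs1 182261 287 182548 s1u593 s1c594 rfl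
theorem s1u595 : ∀ v, 1 ≤ v → v ≤ 182807 → fs1 v = true := slots_step fs1 182548 259 182807 s1u594 s1c595 rfl
theorem s1u596 : ∀ v, 1 ≤ v → v ≤ 183076 → fs1 v = true := slots_step fs1 182807 269 183076 s1u595 s1c596 rfl
theorem s1u597 : ∀ v, 1 ≤ v → v ≤ 183337 → fs1 v = true := slots_step fs1 183076 261 183337 s1u596 s1c597 rfl
theorem s1u598 : ∀ v, 1 ≤ v → v ≤ 183609 → fs1 v = true := slots_step fs1 183337 272 183609 s1u597 s1c598 rfl
theorem s1u599 : ∀ v, 1 ≤ v → v ≤ 183886 → fs1 v = true := slots_step fs1 183609 277 183886 s1u598 s1c599 rfl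
theorem s1u600 : ∀ v, 1 ≤ v → v ≤ 184161 → fs1 v = true := slots_step fs1 183886 275 184161 s1u599 s1c600 rfl
theorem s1u601 : ∀ v, 1 ≤ v → v ≤ 184423 → fs1 v = true := slots_step fs1 184161 262 184423 s1u600 s1c601 rfl
theorem s1u602 : ∀ v, 1 ≤ v → v ≤ 184716 → fs1 v = true := slots_step fs1 184423 293 184716 s1u601 s1c602 rfl
theorem s1u603 : ∀ v, 1 ≤ v → v ≤ 184979 → fs1 v = true := slots_step fs1 184716 263 184979 s1u602 s1c603 rfl
theorem s1u604 : ∀ v, 1 ≤ v → v ≤ 185252 → fs1 v = true := slots_step fs1 184979 273 185252 s1u603 s1c604 rfl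
theorem s1u605 : ∀ v, 1 ≤ v → v ≤ 185535 → fs1 v = true := slots_step fs1 185252 283 185535 s1u604 s1c605 rfl
theorem s1u606 : ∀ v, 1 ≤ v → v ≤ 185786 → fs1 v = true := slots_step fs1 185535 251 185786 s1u605 s1c606 rfl
theorem s1u607 : ∀ v, 1 ≤ v → v ≤ 186056 → fs1 v = true := slots_step fs1 185786 270 186056 s1u606 s1c607 rfl
theorem s1u608 : ∀ v, 1 ≤ v → v ≤ 186324 → fs1 v = true := slots_step fs1 186056 268 186324 s1u607 s1c608 rfl
theorem s1u609 : ∀ v, 1 ≤ v → v ≤ 186570 → fs1 v = true := slots_step fs1 186324 246 186570 s1u608 s1c609 rfl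
theorem s1u610 : ∀ v, 1 ≤ v → v ≤ 186817 → fs1 v = true := slots_step fs1 186570 247 186817 s1u609 s1c610 rfl
theorem s1u611 : ∀ v, 1 ≤ v → v ≤ 187064 → fs1 v = true := slots_step fs1 186817 247 187064 s1u610 s1c611 rfl
theorem s1u612 : ∀ v, 1 ≤ v → v ≤ 187312 → fs1 v = true := slots_step fs1 187064 248 187312 s1u611 s1c612 rfl
theorem s1u613 : ∀ v, 1 ≤ v → v ≤ 187619 → fs1 v = true := slots_step fs1 187312 307 187619 s1u612 s1c613 rfl
theorem s1u614 : ∀ v, 1 ≤ v → v ≤ 187903 → fs1 v = true := slots_step fs1 187619 284 187903 s1u613 s1c614 rfl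
theorem s1u615 : ∀ v, 1 ≤ v → v ≤ 188196 → fs1 v = true := slots_step fs1 187903 293 188196 s1u614 s1c615 rfl
theorem s1u616 : ∀ v, 1 ≤ v → v ≤ 188477 → fs1 v = true := slots_step fs1 188196 281 188477 s1u615 s1c616 rfl
theorem s1u617 : ∀ v, 1 ≤ v → v ≤ 188752 → fs1 v = true := slots_step fs1 188477 275 188752 s1u616 s1c617 rfl
theorem s1u618 : ∀ v, 1 ≤ v → v ≤ 189030 → fs1 v = true := slots_step fs1 188752 278 189030 s1u617 s1c618 rfl
theorem s1u619 : ∀ v, 1 ≤ v → v ≤ 189311 → fs1 v = true := slots_step fs1 189030 281 189311 s1u618 s1c619 rfl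
theorem s1u620 : ∀ v, 1 ≤ v → v ≤ 189567 → fs1 v = true := slots_step fs1 189311 256 189567 s1u619 s1c620 rfl
theorem s1u621 : ∀ v, 1 ≤ v → v ≤ 189827 → fs1 v = true := slots_step fs1 189567 260 189827 s1u620 s1c621 rfl
theorem s1u622 : ∀ v, 1 ≤ v → v ≤ 190139 → fs1 v = true := slots_step fs1 189827 312 190139 s1u621 s1c622 rfl
theorem s1u623 : ∀ v, 1 ≤ v → v ≤ 190393 → fs1 v = true := slots_step fs1 190139 254 190393 s1u622 s1c623 rfl
theorem s1u624 : ∀ v, 1 ≤ v → v ≤ 190649 → fs1 v = true := slots_step fs1 190393 256 190649 s1u623 s1c624 rfl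
theorem s1u625 : ∀ v, 1 ≤ v → v ≤ 190943 → fs1 v = true := slots_step fs1 190649 294 190943 s1u624 s1c625 rfl
theorem s1u626 : ∀ v, 1 ≤ v → v ≤ 191213 → fs1 v = true := slots_step fs1 190943 270 191213 s1u625 s1c626 rfl
theorem s1u627 : ∀ v, 1 ≤ v → v ≤ 191462 → fs1 v = true := slots_step fs1 191213 249 191462 s1u626 s1c627 rfl
theorem s1u628 : ∀ v, 1 ≤ v → v ≤ 191720 → fs1 v = true := slots_step fs1 191462 258 191720 s1u627 s1c628 rfl
theorem s1u629 : ∀ v, 1 ≤ v → v ≤ 191953 → fs1 v = true := slots_step fs1 191720 233 191953 s1u628 s1c629 rfl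
theorem s1u630 : ∀ v, 1 ≤ v → v ≤ 192234 → fs1 v = true := slots_step fs1 191953 281 192234 s1u629 s1c630 rfl
theorem s1u631 : ∀ v, 1 ≤ v → v ≤ 192482 → fs1 v = true := slots_step fs1 192234 248 192482 s1u630 s1c631 rfl
theorem s1u632 : ∀ v, 1 ≤ v → v ≤ 192739 → fs1 v = true := slots_step fs1 192482 257 192739 s1u631 s1c632 rfl
theorem s1u633 : ∀ v, 1 ≤ v → v ≤ 192975 → fs1 v = true := slots_step fs1 192739 236 192975 s1u632 s1c633 rfl
theorem s1u634 : ∀ v, 1 ≤ v → v ≤ 193267 → fs1 v = true := slots_step fs1 192975 292 193267 s1u633 s1c634 rfl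
theorem s1u635 : ∀ v, 1 ≤ v → v ≤ 193535 → fs1 v = true := slots_step fs1 193267 268 193535 s1u634 s1c635 rfl
theorem s1u636 : ∀ v, 1 ≤ v → v ≤ 193784 → fs1 v = true := slots_step fs1 193535 249 193784 s1u635 s1c636 rfl
theorem s1u637 : ∀ v, 1 ≤ v → v ≤ 194085 → fs1 v = true := slots_step fs1 193784 301 194085 s1u636 s1c637 rfl
theorem s1u638 : ∀ v, 1 ≤ v → v ≤ 194348 → fs1 v = true := slots_step fs1 194085 263 194348 s1u637 s1c638 rfl
theorem s1u639 : ∀ v, 1 ≤ v → v ≤ 194607 → fs1 v = true := slots_step fs1 194348 259 194607 s1u638 s1c639 rfl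
theorem s1u640 : ∀ v, 1 ≤ v → v ≤ 194887 → fs1 v = true := slots_step fs1 194607 280 194887 s1u639 s1c640 rfl
theorem s1u641 : ∀ v, 1 ≤ v → v ≤ 195180 → fs1 v = true := slots_step fs1 194887 293 195180 s1u640 s1c641 rfl
theorem s1u642 : ∀ v, 1 ≤ v → v ≤ 195435 → fs1 v = true := slots_step fs1 195180 255 195435 s1u641 s1c642 rfl
theorem s1u643 : ∀ v, 1 ≤ v → v ≤ 195721 → fs1 v = true := slots_step fs1 195435 286 195721 s1u642 s1c643 rfl
theorem s1u644 : ∀ v, 1 ≤ v → v ≤ 195982 → fs1 v = true := slots_step fs1 195721 261 195982 s1u643 s1c644 rfl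
theorem s1u645 : ∀ v, 1 ≤ v → v ≤ 196294 → fs1 v = true := slots_step fs1 195982 312 196294 s1u644 s1c645 rfl
theorem s1u646 : ∀ v, 1 ≤ v → v ≤ 196555 → fs1 v = true := slots_step fs1 196294 261 196555 s1u645 s1c646 rfl
theorem s1u647 : ∀ v, 1 ≤ v → v ≤ 196826 → fs1 v = true := slots_step fs1 196555 271 196826 s1u646 s1c647 rfl
theorem s1u648 : ∀ v, 1 ≤ v → v ≤ 197088 → fs1 v = true := slots_step fs1 196826 262 197088 s1u647 s1c648 rfl
theorem s1u649 : ∀ v, 1 ≤ v → v ≤ 197369 → fs1 v = true := slots_step fs1 197088 281 197369 s1u648 s1c649 rfl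
theorem s1u650 : ∀ v, 1 ≤ v → v ≤ 197649 → fs1 v = true := slots_step fs1 197369 280 197649 s1u649 s1c650 rfl
theorem s1u651 : ∀ v, 1 ≤ v → v ≤ 197928 → fs1 v = true := slots_step fs1 197649 279 197928 s1u650 s1c651 rfl
theorem s1u652 : ∀ v, 1 ≤ v → v ≤ 198203 → fs1 v = true := slots_step fs1 197928 275 198203 s1u651 s1c652 rfl
theorem s1u653 : ∀ v, 1 ≤ v → v ≤ 198486 → fs1 v = true := slots_step fs1 198203 283 198486 s1u652 s1c653 rfl
theorem s1u654 : ∀ v, 1 ≤ v → v ≤ 198721 → fs1 v = true := slots_step fs1 198486 235 198721 s1u653 s1c654 rfl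
theorem s1u655 : ∀ v, 1 ≤ v → v ≤ 198960 → fs1 v = true := slots_step fs1 198721 239 198960 s1u654 s1c655 rfl
theorem s1u656 : ∀ v, 1 ≤ v → v ≤ 199192 → fs1 v = true := slots_step fs1 198960 232 199192 s1u655 s1c656 rfl
theorem s1u657 : ∀ v, 1 ≤ v → v ≤ 199421 → fs1 v = true := slots_step fs1 199192 229 199421 s1u656 s1c657 rfl
theorem s1u658 : ∀ v, 1 ≤ v → v ≤ 199660 → fs1 v = true := slots_step fs1 199421 239 199660 s1u657 s1c658 rfl
theorem s1u659 : ∀ v, 1 ≤ v → v ≤ 199894 → fs1 v = true := slots_step fs1 199660 234 199894 s1u658 s1c659 rfl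
theorem s1u660 : ∀ v, 1 ≤ v → v ≤ 200126 → fs1 v = true := slots_step fs1 199894 232 200126 s1u659 s1c660 rfl
theorem s1u661 : ∀ v, 1 ≤ v → v ≤ 200380 → fs1 v = true := slots_step fs1 200126 254 200380 s1u660 s1c661 rfl
theorem s1u662 : ∀ v, 1 ≤ v → v ≤ 200623 → fs1 v = true := slots_step fs1 200380 243 200623 s1u661 s1c662 rfl
theorem s1u663 : ∀ v, 1 ≤ v → v ≤ 200876 → fs1 v = true := slots_step fs1 200623 253 200876 s1u662 s1c663 rfl
theorem s1u664 : ∀ v, 1 ≤ v → v ≤ 201133 → fs1 v = true := slots_step fs1 200876 257 201133 s1u663 s1c664 rfl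
theorem s1u665 : ∀ v, 1 ≤ v → v ≤ 201396 → fs1 v = true := slots_step fs1 201133 263 201396 s1u664 s1c665 rfl
theorem s1u666 : ∀ v, 1 ≤ v → v ≤ 201643 → fs1 v = true := slots_step fs1 201396 247 201643 s1u665 s1c666 rfl
theorem s1u667 : ∀ v, 1 ≤ v → v ≤ 201893 → fs1 v = true := slots_step fs1 201643 250 201893 s1u666 s1c667 rfl
theorem s1u668 : ∀ v, 1 ≤ v → v ≤ 202134 → fs1 v = true := slots_step fs1 201893 241 202134 s1u667 s1c668 rfl
theorem s1u669 : ∀ v, 1 ≤ v → v ≤ 202383 → fs1 v = true := slots_step fs1 202134 249 202383 s1u668 s1c669 rfl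
theorem s1u670 : ∀ v, 1 ≤ v → v ≤ 202655 → fs1 v = true := slots_step fs1 202383 272 202655 s1u669 s1c670 rfl
theorem s1u671 : ∀ v, 1 ≤ v → v ≤ 202902 → fs1 v = true := slots_step fs1 202655 247 202902 s1u670 s1c671 rfl
theorem s1u672 : ∀ v, 1 ≤ v → v ≤ 203168 → fs1 v = true := slots_step fs1 202902 266 203168 s1u671 s1c672 rfl
theorem s1u673 : ∀ v, 1 ≤ v → v ≤ 203450 → fs1 v = true := slots_step fs1 203168 282 203450 s1u672 s1c673 rfl
theorem s1u674 : ∀ v, 1 ≤ v → v ≤ 203714 → fs1 v = true := slots_step fs1 203450 264 203714 s1u673 s1c674 rfl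
theorem s1u675 : ∀ v, 1 ≤ v → v ≤ 203977 → fs1 v = true := slots_step fs1 203714 263 203977 s1u674 s1c675 rfl
theorem s1u676 : ∀ v, 1 ≤ v → v ≤ 204264 → fs1 v = true := slots_step fs1 203977 287 204264 s1u675 s1c676 rfl
theorem s1u677 : ∀ v, 1 ≤ v → v ≤ 204515 → fs1 v = true := slots_step fs1 204264 251 204515 s1u676 s1c677 rfl
theorem s1u678 : ∀ v, 1 ≤ v → v ≤ 204783 → fs1 v = true := slots_step fs1 204515 268 204783 s1u677 s1c678 rfl
theorem s1u679 : ∀ v, 1 ≤ v → v ≤ 205040 → fs1 v = true := slots_step fs1 204783 257 205040 s1u678 s1c679 rfl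
theorem s1u680 : ∀ v, 1 ≤ v → v ≤ 205313 → fs1 v = true := slots_step fs1 205040 273 205313 s1u679 s1c680 rfl
theorem s1u681 : ∀ v, 1 ≤ v → v ≤ 205588 → fs1 v = true := slots_step fs1 205313 275 205588 s1u680 s1c681 rfl
theorem s1u682 : ∀ v, 1 ≤ v → v ≤ 205868 → fs1 v = true := slots_step fs1 205588 280 205868 s1u681 s1c682 rfl
theorem s1u683 : ∀ v, 1 ≤ v → v ≤ 206111 → fs1 v = true := slots_step fs1 205868 243 206111 s1u682 s1c683 rfl
theorem s1u684 : ∀ v, 1 ≤ v → v ≤ 206396 → fs1 v = true := slots_step fs1 206111 285 206396 s1u683 s1c684 rfl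
theorem s1u685 : ∀ v, 1 ≤ v → v ≤ 206679 → fs1 v = true := slots_step fs1 206396 283 206679 s1u684 s1c685 rfl
theorem s1u686 : ∀ v, 1 ≤ v → v ≤ 206934 → fs1 v = true := slots_step fs1 206679 255 206934 s1u685 s1c686 rfl
theorem s1u687 : ∀ v, 1 ≤ v → v ≤ 207210 → fs1 v = true := slots_step fs1 206934 276 207210 s1u686 s1c687 rfl
theorem s1u688 : ∀ v, 1 ≤ v → v ≤ 207488 → fs1 v = true := slots_step fs1 207210 278 207488 s1u687 s1c688 rfl
theorem s1u689 : ∀ v, 1 ≤ v → v ≤ 207743 → fs1 v = true := slots_step fs1 207488 255 207743 s1u688 s1c689 rfl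
theorem s1u690 : ∀ v, 1 ≤ v → v ≤ 208008 → fs1 v = true := slots_step fs1 207743 265 208008 s1u689 s1c690 rfl
theorem s1u691 : ∀ v, 1 ≤ v → v ≤ 208274 → fs1 v = true := slots_step fs1 208008 266 208274 s1u690 s1c691 rfl
theorem s1u692 : ∀ v, 1 ≤ v → v ≤ 208521 → fs1 v = true := slots_step fs1 208274 247 208521 s1u691 s1c692 rfl
theorem s1u693 : ∀ v, 1 ≤ v → v ≤ 208773 → fs1 v = true := slots_step fs1 208521 252 208773 s1u692 s1c693 rfl
theorem s1u694 : ∀ v, 1 ≤ v → v ≤ 209017 → fs1 v = true := slots_step fs1 208773 244 209017 s1u693 s1c694 rfl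
theorem s1u695 : ∀ v, 1 ≤ v → v ≤ 209281 → fs1 v = true := slots_step fs1 209017 264 209281 s1u694 s1c695 rfl
theorem s1u696 : ∀ v, 1 ≤ v → v ≤ 209594 → fs1 v = true := slots_step fs1 209281 313 209594 s1u695 s1c696 rfl
theorem s1u697 : ∀ v, 1 ≤ v → v ≤ 209863 → fs1 v = true := slots_step fs1 209594 269 209863 s1u696 s1c697 rfl
theorem s1u698 : ∀ v, 1 ≤ v → v ≤ 210158 → fs1 v = true := slots_step fs1 209863 295 210158 s1u697 s1c698 rfl
theorem s1u699 : ∀ v, 1 ≤ v → v ≤ 210436 → fs1 v = true := slots_step fs1 210158 278 210436 s1u698 s1c699 rfl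
theorem s1u700 : ∀ v, 1 ≤ v → v ≤ 210724 → fs1 v = true := slots_step fs1 210436 288 210724 s1u699 s1c700 rfl
theorem s1u701 : ∀ v, 1 ≤ v → v ≤ 210986 → fs1 v = true := slots_step fs1 210724 262 210986 s1u700 s1c701 rfl
theorem s1u702 : ∀ v, 1 ≤ v → v ≤ 211271 → fs1 v = true := slots_step fs1 210986 285 211271 s1u701 s1c702 rfl
theorem s1u703 : ∀ v, 1 ≤ v → v ≤ 211538 → fs1 v = true := slots_step fs1 211271 267 211538 s1u702 s1c703 rfl
theorem s1u704 : ∀ v, 1 ≤ v → v ≤ 211811 → fs1 v = true := slots_step fs1 211538 273 211811 s1u703 s1c704 rfl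
theorem s1u705 : ∀ v, 1 ≤ v → v ≤ 212080 → fs1 v = true := slots_step fs1 211811 269 212080 s1u704 s1c705 rfl
theorem s1u706 : ∀ v, 1 ≤ v → v ≤ 212388 → fs1 v = true := slots_step fs1 212080 308 212388 s1u705 s1c706 rfl
theorem s1u707 : ∀ v, 1 ≤ v → v ≤ 212645 → fs1 v = true := slots_step fs1 212388 257 212645 s1u706 s1c707 rfl
theorem s1u708 : ∀ v, 1 ≤ v → v ≤ 212903 → fs1 v = true := slots_step fs1 212645 258 212903 s1u707 s1c708 rfl
theorem s1u709 : ∀ v, 1 ≤ v → v ≤ 213179 → fs1 v = true := slots_step fs1 212903 276 213179 s1u708 s1c709 rfl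
theorem s1u710 : ∀ v, 1 ≤ v → v ≤ 213475 → fs1 v = true := slots_step fs1 213179 296 213475 s1u709 s1c710 rfl
theorem s1u711 : ∀ v, 1 ≤ v → v ≤ 213726 → fs1 v = true := slots_step fs1 213475 251 213726 s1u710 s1c711 rfl
theorem s1u712 : ∀ v, 1 ≤ v → v ≤ 213971 → fs1 v = true := slots_step fs1 213726 245 213971 s1u711 s1c712 rfl
theorem s1u713 : ∀ v, 1 ≤ v → v ≤ 214233 → fs1 v = true := slots_step fs1 213971 262 214233 s1u712 s1c713 rfl
theorem s1u714 : ∀ v, 1 ≤ v → v ≤ 214466 → fs1 v = true := slots_step fs1 214233 233 214466 s1u713 s1c714 rfl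
theorem s1u715 : ∀ v, 1 ≤ v → v ≤ 214760 → fs1 v = true := slots_step fs1 214466 294 214760 s1u714 s1c715 rfl
theorem s1u716 : ∀ v, 1 ≤ v → v ≤ 215014 → fs1 v = true := slots_step fs1 214760 254 215014 s1u715 s1c716 rfl
theorem s1u717 : ∀ v, 1 ≤ v → v ≤ 215259 → fs1 v = true := slots_step fs1 215014 245 215259 s1u716 s1c717 rfl
theorem s1u718 : ∀ v, 1 ≤ v → v ≤ 215497 → fs1 v = true := slots_step fs1 215259 238 215497 s1u717 s1c718 rfl
theorem s1u719 : ∀ v, 1 ≤ v → v ≤ 215786 → fs1 v = true := slots_step fs1 215497 289 215786 s1u718 s1c719 rfl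
theorem s1u720 : ∀ v, 1 ≤ v → v ≤ 216068 → fs1 v = true := slots_step fs1 215786 282 216068 s1u719 s1c720 rfl
theorem s1u721 : ∀ v, 1 ≤ v → v ≤ 216319 → fs1 v = true := slots_step fs1 216068 251 216319 s1u720 s1c721 rfl
theorem s1u722 : ∀ v, 1 ≤ v → v ≤ 216581 → fs1 v = true := slots_step fs1 216319 262 216581 s1u721 s1c722 rfl
theorem s1u723 : ∀ v, 1 ≤ v → v ≤ 216886 → fs1 v = true := slots_step fs1 216581 305 216886 s1u722 s1c723 rfl
theorem s1u724 : ∀ v, 1 ≤ v → v ≤ 217149 → fs1 v = true := slots_step fs1 216886 263 217149 s1u723 s1c724 rfl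
theorem s1u725 : ∀ v, 1 ≤ v → v ≤ 217406 → fs1 v = true := slots_step fs1 217149 257 217406 s1u724 s1c725 rfl
theorem s1u726 : ∀ v, 1 ≤ v → v ≤ 217680 → fs1 v = true := slots_step fs1 217406 274 217680 s1u725 s1c726 rfl
theorem s1u727 : ∀ v, 1 ≤ v → v ≤ 217990 → fs1 v = true := slots_step fs1 217680 310 217990 s1u726 s1c727 rfl
theorem s1u728 : ∀ v, 1 ≤ v → v ≤ 218243 → fs1 v = true := slots_step fs1 217990 253 218243 s1u727 s1c728 rfl
theorem s1u729 : ∀ v, 1 ≤ v → v ≤ 218516 → fs1 v = true := slots_step fs1 218243 273 218516 s1u728 s1c729 rfl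
theorem s1u730 : ∀ v, 1 ≤ v → v ≤ 218776 → fs1 v = true := slots_step fs1 218516 260 218776 s1u729 s1c730 rfl
theorem s1u731 : ∀ v, 1 ≤ v → v ≤ 219082 → fs1 v = true := slots_step fs1 218776 306 219082 s1u730 s1c731 rfl
theorem s1u732 : ∀ v, 1 ≤ v → v ≤ 219366 → fs1 v = true := slots_step fs1 219082 284 219366 s1u731 s1c732 rfl
theorem s1u733 : ∀ v, 1 ≤ v → v ≤ 219632 → fs1 v = true := slots_step fs1 219366 266 219632 s1u732 s1c733 rfl
theorem s1u734 : ∀ v, 1 ≤ v → v ≤ 219904 → fs1 v = true := slots_step fs1 219632 272 219904 s1u733 s1c734 rfl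
theorem s1u735 : ∀ v, 1 ≤ v → v ≤ 220184 → fs1 v = true := slots_step fs1 219904 280 220184 s1u734 s1c735 rfl
theorem s1u736 : ∀ v, 1 ≤ v → v ≤ 220458 → fs1 v = true := slots_step fs1 220184 274 220458 s1u735 s1c736 rfl
theorem s1u737 : ∀ v, 1 ≤ v → v ≤ 220749 → fs1 v = true := slots_step fs1 220458 291 220749 s1u736 s1c737 rfl
theorem s1u738 : ∀ v, 1 ≤ v → v ≤ 221024 → fs1 v = true := slots_step fs1 220749 275 221024 s1u737 s1c738 rfl
theorem s1u739 : ∀ v, 1 ≤ v → v ≤ 221302 → fs1 v = true := slots_step fs1 221024 278 221302 s1u738 s1c739 rfl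
theorem s1u740 : ∀ v, 1 ≤ v → v ≤ 221555 → fs1 v = true := slots_step fs1 221302 253 221555 s1u739 s1c740 rfl
theorem s1u741 : ∀ v, 1 ≤ v → v ≤ 221789 → fs1 v = true := slots_step fs1 221555 234 221789 s1u740 s1c741 rfl
theorem s1u742 : ∀ v, 1 ≤ v → v ≤ 222018 → fs1 v = true := slots_step fs1 221789 229 222018 s1u741 s1c742 rfl
theorem s1u743 : ∀ v, 1 ≤ v → v ≤ 222246 → fs1 v = true := slots_step fs1 222018 228 222246 s1u742 s1c743 rfl
theorem s1u744 : ∀ v, 1 ≤ v → v ≤ 222481 → fs1 v = true := slots_step fs1 222246 235 222481 s1u743 s1c744 rfl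
theorem s1u745 : ∀ v, 1 ≤ v → v ≤ 222713 → fs1 v = true := slots_step fs1 222481 232 222713 s1u744 s1c745 rfl
theorem s1u746 : ∀ v, 1 ≤ v → v ≤ 222953 → fs1 v = true := slots_step fs1 222713 240 222953 s1u745 s1c746 rfl
theorem s1u747 : ∀ v, 1 ≤ v → v ≤ 223199 → fs1 v = true := slots_step fs1 222953 246 223199 s1u746 s1c747 rfl
theorem s1u748 : ∀ v, 1 ≤ v → v ≤ 223446 → fs1 v = true := slots_step fs1 223199 247 223446 s1u747 s1c748 rfl
theorem s1u749 : ∀ v, 1 ≤ v → v ≤ 223698 → fs1 v = true := slots_step fs1 223446 252 223698 s1u748 s1c749 rfl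
theorem s1u750 : ∀ v, 1 ≤ v → v ≤ 223940 → fs1 v = true := slots_step fs1 223698 242 223940 s1u749 s1c750 rfl
theorem s1u751 : ∀ v, 1 ≤ v → v ≤ 224221 → fs1 v = true := slots_step fs1 223940 281 224221 s1u750 s1c751 rfl
theorem s1u752 : ∀ v, 1 ≤ v → v ≤ 224467 → fs1 v = true := slots_step fs1 224221 246 224467 s1u751 s1c752 rfl
theorem s1u753 : ∀ v, 1 ≤ v → v ≤ 224728 → fs1 v = true := slots_step fs1 224467 261 224728 s1u752 s1c753 rfl
theorem s1u754 : ∀ v, 1 ≤ v → v ≤ 224965 → fs1 v = true := slots_step fs1 224728 237 224965 s1u753 s1c754 rfl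
theorem s1u755 : ∀ v, 1 ≤ v → v ≤ 225211 → fs1 v = true := slots_step fs1 224965 246 225211 s1u754 s1c755 rfl
theorem s1u756 : ∀ v, 1 ≤ v → v ≤ 225465 → fs1 v = true := slots_step fs1 225211 254 225465 s1u755 s1c756 rfl
theorem s1u757 : ∀ v, 1 ≤ v → v ≤ 225729 → fs1 v = true := slots_step fs1 225465 264 225729 s1u756 s1c757 rfl
theorem s1u758 : ∀ v, 1 ≤ v → v ≤ 225963 → fs1 v = true := slots_step fs1 225729 234 225963 s1u757 s1c758 rfl
theorem s1u759 : ∀ v, 1 ≤ v → v ≤ 226233 → fs1 v = true := slots_step fs1 225963 270 226233 s1u758 s1c759 rfl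
theorem s1u760 : ∀ v, 1 ≤ v → v ≤ 226504 → fs1 v = true := slots_step fs1 226233 271 226504 s1u759 s1c760 rfl
theorem s1u761 : ∀ v, 1 ≤ v → v ≤ 226792 → fs1 v = true := slots_step fs1 226504 288 226792 s1u760 s1c761 rfl
theorem s1u762 : ∀ v, 1 ≤ v → v ≤ 227033 → fs1 v = true := slots_step fs1 226792 241 227033 s1u761 s1c762 rfl
theorem s1u763 : ∀ v, 1 ≤ v → v ≤ 227303 → fs1 v = true := slots_step fs1 227033 270 227303 s1u762 s1c763 rfl
theorem s1u764 : ∀ v, 1 ≤ v → v ≤ 227583 → fs1 v = true := slots_step fs1 227303 280 227583 s1u763 s1c764 rfl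
theorem s1u765 : ∀ v, 1 ≤ v → v ≤ 227830 → fs1 v = true := slots_step fs1 227583 247 227830 s1u764 s1c765 rfl
theorem s1u766 : ∀ v, 1 ≤ v → v ≤ 228107 → fs1 v = true := slots_step fs1 227830 277 228107 s1u765 s1c766 rfl
theorem s1u767 : ∀ v, 1 ≤ v → v ≤ 228350 → fs1 v = true := slots_step fs1 228107 243 228350 s1u766 s1c767 rfl
theorem s1u768 : ∀ v, 1 ≤ v → v ≤ 228633 → fs1 v = true := slots_step fs1 228350 283 228633 s1u767 s1c768 rfl
theorem s1u769 : ∀ v, 1 ≤ v → v ≤ 228905 → fs1 v = true := slots_step fs1 228633 272 228905 s1u768 s1c769 rfl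
theorem s1u770 : ∀ v, 1 ≤ v → v ≤ 229180 → fs1 v = true := slots_step fs1 228905 275 229180 s1u769 s1c770 rfl
theorem s1u771 : ∀ v, 1 ≤ v → v ≤ 229425 → fs1 v = true := slots_step fs1 229180 245 229425 s1u770 s1c771 rfl
theorem s1u772 : ∀ v, 1 ≤ v → v ≤ 229699 → fs1 v = true := slots_step fs1 229425 274 229699 s1u771 s1c772 rfl
theorem s1u773 : ∀ v, 1 ≤ v → v ≤ 229974 → fs1 v = true := slots_step fs1 229699 275 229974 s1u772 s1c773 rfl
theorem s1u774 : ∀ v, 1 ≤ v → v ≤ 230250 → fs1 v = true := slots_step fs1 229974 276 230250 s1u773 s1c774 rfl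
theorem s1u775 : ∀ v, 1 ≤ v → v ≤ 230498 → fs1 v = true := slots_step fs1 230250 248 230498 s1u774 s1c775 rfl
theorem s1u776 : ∀ v, 1 ≤ v → v ≤ 230768 → fs1 v = true := slots_step fs1 230498 270 230768 s1u775 s1c776 rfl
theorem s1u777 : ∀ v, 1 ≤ v → v ≤ 231041 → fs1 v = true := slots_step fs1 230768 273 231041 s1u776 s1c777 rfl
theorem s1u778 : ∀ v, 1 ≤ v → v ≤ 231299 → fs1 v = true := slots_step fs1 231041 258 231299 s1u777 s1c778 rfl
theorem s1u779 : ∀ v, 1 ≤ v → v ≤ 231564 → fs1 v = true := slots_step fs1 231299 265 231564 s1u778 s1c779 rfl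
theorem s1u780 : ∀ v, 1 ≤ v → v ≤ 231812 → fs1 v = true := slots_step fs1 231564 248 231812 s1u779 s1c780 rfl
theorem s1u781 : ∀ v, 1 ≤ v → v ≤ 232060 → fs1 v = true := slots_step fs1 231812 248 232060 s1u780 s1c781 rfl
theorem s1u782 : ∀ v, 1 ≤ v → v ≤ 232311 → fs1 v = true := slots_step fs1 232060 251 232311 s1u781 s1c782 rfl
theorem s1u783 : ∀ v, 1 ≤ v → v ≤ 232552 → fs1 v = true := slots_step fs1 232311 241 232552 s1u782 s1c783 rfl
theorem s1u784 : ∀ v, 1 ≤ v → v ≤ 232848 → fs1 v = true := slots_step fs1 232552 296 232848 s1u783 s1c784 rfl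
theorem s1u785 : ∀ v, 1 ≤ v → v ≤ 233160 → fs1 v = true := slots_step fs1 232848 312 233160 s1u784 s1c785 rfl
theorem s1u786 : ∀ v, 1 ≤ v → v ≤ 233424 → fs1 v = true := slots_step fs1 233160 264 233424 s1u785 s1c786 rfl
theorem s1u787 : ∀ v, 1 ≤ v → v ≤ 233718 → fs1 v = true := slots_step fs1 233424 294 233718 s1u786 s1c787 rfl
theorem s1u788 : ∀ v, 1 ≤ v → v ≤ 233990 → fs1 v = true := slots_step fs1 233718 272 233990 s1u787 s1c788 rfl
theorem s1u789 : ∀ v, 1 ≤ v → v ≤ 234265 → fs1 v = true := slots_step fs1 233990 275 234265 s1u788 s1c789 rfl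
theorem s1u790 : ∀ v, 1 ≤ v → v ≤ 234530 → fs1 v = true := slots_step fs1 234265 265 234530 s1u789 s1c790 rfl
theorem s1u791 : ∀ v, 1 ≤ v → v ≤ 234815 → fs1 v = true := slots_step fs1 234530 285 234815 s1u790 s1c791 rfl
theorem s1u792 : ∀ v, 1 ≤ v → v ≤ 235086 → fs1 v = true := slots_step fs1 234815 271 235086 s1u791 s1c792 rfl
theorem s1u793 : ∀ v, 1 ≤ v → v ≤ 235361 → fs1 v = true := slots_step fs1 235086 275 235361 s1u792 s1c793 rfl
theorem s1u794 : ∀ v, 1 ≤ v → v ≤ 235605 → fs1 v = true := slots_step fs1 235361 244 235605 s1u793 s1c794 rfl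
theorem s1u795 : ∀ v, 1 ≤ v → v ≤ 235913 → fs1 v = true := slots_step fs1 235605 308 235913 s1u794 s1c795 rfl
theorem s1u796 : ∀ v, 1 ≤ v → v ≤ 236220 → fs1 v = true := slots_step fs1 235913 307 236220 s1u795 s1c796 rfl
theorem s1u797 : ∀ v, 1 ≤ v → v ≤ 236463 → fs1 v = true := slots_step fs1 236220 243 236463 s1u796 s1c797 rfl
theorem s1u798 : ∀ v, 1 ≤ v → v ≤ 236727 → fs1 v = true := slots_step fs1 236463 264 236727 s1u797 s1c798 rfl
theorem s1u799 : ∀ v, 1 ≤ v → v ≤ 237003 → fs1 v = true := slots_step fs1 236727 276 237003 s1u798 s1c799 rfl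
theorem s1u800 : ∀ v, 1 ≤ v → v ≤ 237295 → fs1 v = true := slots_step fs1 237003 292 237295 s1u799 s1c800 rfl
theorem s1u801 : ∀ v, 1 ≤ v → v ≤ 237565 → fs1 v = true := slots_step fs1 237295 270 237565 s1u800 s1c801 rfl
theorem s1u802 : ∀ v, 1 ≤ v → v ≤ 237813 → fs1 v = true := slots_step fs1 237565 248 237813 s1u801 s1c802 rfl
theorem s1u803 : ∀ v, 1 ≤ v → v ≤ 238075 → fs1 v = true := slots_step fs1 237813 262 238075 s1u802 s1c803 rfl
theorem s1u804 : ∀ v, 1 ≤ v → v ≤ 238309 → fs1 v = true := slots_step fs1 238075 234 238309 s1u803 s1c804 rfl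
theorem s1u805 : ∀ v, 1 ≤ v → v ≤ 238574 → fs1 v = true := slots_step fs1 238309 265 238574 s1u804 s1c805 rfl
theorem s1u806 : ∀ v, 1 ≤ v → v ≤ 238842 → fs1 v = true := slots_step fs1 238574 268 238842 s1u805 s1c806 rfl
theorem s1u807 : ∀ v, 1 ≤ v → v ≤ 239103 → fs1 v = true := slots_step fs1 238842 261 239103 s1u806 s1c807 rfl
theorem s1u808 : ∀ v, 1 ≤ v → v ≤ 239342 → fs1 v = true := slots_step fs1 239103 239 239342 s1u807 s1c808 rfl
theorem s1u809 : ∀ v, 1 ≤ v → v ≤ 239589 → fs1 v = true := slots_step fs1 239342 247 239589 s1u808 s1c809 rfl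
theorem s1u810 : ∀ v, 1 ≤ v → v ≤ 239889 → fs1 v = true := slots_step fs1 239589 300 239889 s1u809 s1c810 rfl
theorem s1u811 : ∀ v, 1 ≤ v → v ≤ 240166 → fs1 v = true := slots_step fs1 239889 277 240166 s1u810 s1c811 rfl
theorem s1u812 : ∀ v, 1 ≤ v → v ≤ 240420 → fs1 v = true := slots_step fs1 240166 254 240420 s1u811 s1c812 rfl
theorem s1u813 : ∀ v, 1 ≤ v → v ≤ 240663 → fs1 v = true := slots_step fs1 240420 243 240663 s1u812 s1c813 rfl
theorem s1u814 : ∀ v, 1 ≤ v → v ≤ 240972 → fs1 v = true := slots_step fs1 240663 309 240972 s1u813 s1c814 rfl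
theorem s1u815 : ∀ v, 1 ≤ v → v ≤ 241245 → fs1 v = true := slots_step fs1 240972 273 241245 s1u814 s1c815 rfl
theorem s1u816 : ∀ v, 1 ≤ v → v ≤ 241531 → fs1 v = true := slots_step fs1 241245 286 241531 s1u815 s1c816 rfl
theorem s1u817 : ∀ v, 1 ≤ v → v ≤ 241766 → fs1 v = true := slots_step fs1 241531 235 241766 s1u816 s1c817 rfl
theorem s1u818 : ∀ v, 1 ≤ v → v ≤ 242060 → fs1 v = true := slots_step fs1 241766 294 242060 s1u817 s1c818 rfl
theorem s1u819 : ∀ v, 1 ≤ v → v ≤ 242365 → fs1 v = true := slots_step fs1 242060 305 242365 s1u818 s1c819 rfl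
theorem s1u820 : ∀ v, 1 ≤ v → v ≤ 242616 → fs1 v = true := slots_step fs1 242365 251 242616 s1u819 s1c820 rfl
theorem s1u821 : ∀ v, 1 ≤ v → v ≤ 242890 → fs1 v = true := slots_step fs1 242616 274 242890 s1u820 s1c821 rfl
theorem s1u822 : ∀ v, 1 ≤ v → v ≤ 243152 → fs1 v = true := slots_step fs1 242890 262 243152 s1u821 s1c822 rfl
theorem s1u823 : ∀ v, 1 ≤ v → v ≤ 243456 → fs1 v = true := slots_step fs1 243152 304 243456 s1u822 s1c823 rfl
theorem s1u824 : ∀ v, 1 ≤ v → v ≤ 243745 → fs1 v = true := slots_step fs1 243456 289 243745 s1u823 s1c824 rfl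
theorem s1u825 : ∀ v, 1 ≤ v → v ≤ 244010 → fs1 v = true := slots_step fs1 243745 265 244010 s1u824 s1c825 rfl
theorem s1u826 : ∀ v, 1 ≤ v → v ≤ 244286 → fs1 v = true := slots_step fs1 244010 276 244286 s1u825 s1c826 rfl
theorem s1u827 : ∀ v, 1 ≤ v → v ≤ 244565 → fs1 v = true := slots_step fs1 244286 279 244565 s1u826 s1c827 rfl
theorem s1u828 : ∀ v, 1 ≤ v → v ≤ 244842 → fs1 v = true := slots_step fs1 244565 277 244842 s1u827 s1c828 rfl
theorem s1u829 : ∀ v, 1 ≤ v → v ≤ 245134 → fs1 v = true := slots_step fs1 244842 292 245134 s1u828 s1c829 rfl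
theorem s1u830 : ∀ v, 1 ≤ v → v ≤ 245417 → fs1 v = true := slots_step fs1 245134 283 245417 s1u829 s1c830 rfl
theorem s1u831 : ∀ v, 1 ≤ v → v ≤ 245689 → fs1 v = true := slots_step fs1 245417 272 245689 s1u830 s1c831 rfl
theorem s1u832 : ∀ v, 1 ≤ v → v ≤ 245937 → fs1 v = true := slots_step fs1 245689 248 245937 s1u831 s1c832 rfl
theorem s1u833 : ∀ v, 1 ≤ v → v ≤ 246169 → fs1 v = true := slots_step fs1 245937 232 246169 s1u832 s1c833 rfl
theorem s1u834 : ∀ v, 1 ≤ v → v ≤ 246398 → fs1 v = true := slots_step fs1 246169 229 246398 s1u833 s1c834 rfl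
theorem s1u835 : ∀ v, 1 ≤ v → v ≤ 246625 → fs1 v = true := slots_step fs1 246398 227 246625 s1u834 s1c835 rfl
theorem s1u836 : ∀ v, 1 ≤ v → v ≤ 246860 → fs1 v = true := slots_step fs1 246625 235 246860 s1u835 s1c836 rfl
theorem s1u837 : ∀ v, 1 ≤ v → v ≤ 247096 → fs1 v = true := slots_step fs1 246860 236 247096 s1u836 s1c837 rfl
theorem s1u838 : ∀ v, 1 ≤ v → v ≤ 247347 → fs1 v = true := slots_step fs1 247096 251 247347 s1u837 s1c838 rfl
theorem s1u839 : ∀ v, 1 ≤ v → v ≤ 247589 → fs1 v = true := slots_step fs1 247347 242 247589 s1u838 s1c839 rfl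
theorem s1u840 : ∀ v, 1 ≤ v → v ≤ 247852 → fs1 v = true := slots_step fs1 247589 263 247852 s1u839 s1c840 rfl
theorem s1u841 : ∀ v, 1 ≤ v → v ≤ 248088 → fs1 v = true := slots_step fs1 247852 236 248088 s1u840 s1c841 rfl
theorem s1u842 : ∀ v, 1 ≤ v → v ≤ 248345 → fs1 v = true := slots_step fs1 248088 257 248345 s1u841 s1c842 rfl
theorem s1u843 : ∀ v, 1 ≤ v → v ≤ 248617 → fs1 v = true := slots_step fs1 248345 272 248617 s1u842 s1c843 rfl
theorem s1u844 : ∀ v, 1 ≤ v → v ≤ 248857 → fs1 v = true := slots_step fs1 248617 240 248857 s1u843 s1c844 rfl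
theorem s1u845 : ∀ v, 1 ≤ v → v ≤ 249119 → fs1 v = true := slots_step fs1 248857 262 249119 s1u844 s1c845 rfl
theorem s1u846 : ∀ v, 1 ≤ v → v ≤ 249353 → fs1 v = true := slots_step fs1 249119 234 249353 s1u845 s1c846 rfl
theorem s1u847 : ∀ v, 1 ≤ v → v ≤ 249599 → fs1 v = true := slots_step fs1 249353 246 249599 s1u846 s1c847 rfl
theorem s1u848 : ∀ v, 1 ≤ v → v ≤ 249854 → fs1 v = true := slots_step fs1 249599 255 249854 s1u847 s1c848 rfl
theorem s1u849 : ∀ v, 1 ≤ v → v ≤ 250116 → fs1 v = true := slots_step fs1 249854 262 250116 s1u848 s1c849 rfl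
theorem s1u850 : ∀ v, 1 ≤ v → v ≤ 250349 → fs1 v = true := slots_step fs1 250116 233 250349 s1u849 s1c850 rfl
theorem s1u851 : ∀ v, 1 ≤ v → v ≤ 250596 → fs1 v = true := slots_step fs1 250349 247 250596 s1u850 s1c851 rfl
theorem s1u852 : ∀ v, 1 ≤ v → v ≤ 250871 → fs1 v = true := slots_step fs1 250596 275 250871 s1u851 s1c852 rfl
theorem s1u853 : ∀ v, 1 ≤ v → v ≤ 251143 → fs1 v = true := slots_step fs1 250871 272 251143 s1u852 s1c853 rfl
theorem s1u854 : ∀ v, 1 ≤ v → v ≤ 251421 → fs1 v = true := slots_step fs1 251143 278 251421 s1u853 s1c854 rfl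
theorem s1u855 : ∀ v, 1 ≤ v → v ≤ 251667 → fs1 v = true := slots_step fs1 251421 246 251667 s1u854 s1c855 rfl
theorem s1u856 : ∀ v, 1 ≤ v → v ≤ 251932 → fs1 v = true := slots_step fs1 251667 265 251932 s1u855 s1c856 rfl
theorem s1u857 : ∀ v, 1 ≤ v → v ≤ 252210 → fs1 v = true := slots_step fs1 251932 278 252210 s1u856 s1c857 rfl
theorem s1u858 : ∀ v, 1 ≤ v → v ≤ 252452 → fs1 v = true := slots_step fs1 252210 242 252452 s1u857 s1c858 rfl
theorem s1u859 : ∀ v, 1 ≤ v → v ≤ 252724 → fs1 v = true := slots_step fs1 252452 272 252724 s1u858 s1c859 rfl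
theorem s1u860 : ∀ v, 1 ≤ v → v ≤ 252972 → fs1 v = true := slots_step fs1 252724 248 252972 s1u859 s1c860 rfl
theorem s1u861 : ∀ v, 1 ≤ v → v ≤ 253242 → fs1 v = true := slots_step fs1 252972 270 253242 s1u860 s1c861 rfl
theorem s1u862 : ∀ v, 1 ≤ v → v ≤ 253522 → fs1 v = true := slots_step fs1 253242 280 253522 s1u861 s1c862 rfl
theorem s1u863 : ∀ v, 1 ≤ v → v ≤ 253787 → fs1 v = true := slots_step fs1 253522 265 253787 s1u862 s1c863 rfl
theorem s1u864 : ∀ v, 1 ≤ v → v ≤ 254049 → fs1 v = true := slots_step fs1 253787 262 254049 s1u863 s1c864 rfl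
theorem s1u865 : ∀ v, 1 ≤ v → v ≤ 254300 → fs1 v = true := slots_step fs1 254049 251 254300 s1u864 s1c865 rfl
theorem s1u866 : ∀ v, 1 ≤ v → v ≤ 254569 → fs1 v = true := slots_step fs1 254300 269 254569 s1u865 s1c866 rfl
theorem s1u867 : ∀ v, 1 ≤ v → v ≤ 254850 → fs1 v = true := slots_step fs1 254569 281 254850 s1u866 s1c867 rfl
theorem s1u868 : ∀ v, 1 ≤ v → v ≤ 255119 → fs1 v = true := slots_step fs1 254850 269 255119 s1u867 s1c868 rfl
theorem s1u869 : ∀ v, 1 ≤ v → v ≤ 255364 → fs1 v = true := slots_step fs1 255119 245 255364 s1u868 s1c869 rfl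
theorem s1u870 : ∀ v, 1 ≤ v → v ≤ 255644 → fs1 v = true := slots_step fs1 255364 280 255644 s1u869 s1c870 rfl
theorem s1u871 : ∀ v, 1 ≤ v → v ≤ 255907 → fs1 v = true := slots_step fs1 255644 263 255907 s1u870 s1c871 rfl
theorem s1u872 : ∀ v, 1 ≤ v → v ≤ 256157 → fs1 v = true := slots_step fs1 255907 250 256157 s1u871 s1c872 rfl
theorem s1u873 : ∀ v, 1 ≤ v → v ≤ 256422 → fs1 v = true := slots_step fs1 256157 265 256422 s1u872 s1c873 rfl
theorem s1u874 : ∀ v, 1 ≤ v → v ≤ 256662 → fs1 v = true := slots_step fs1 256422 240 256662 s1u873 s1c874 rfl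
theorem s1u875 : ∀ v, 1 ≤ v → v ≤ 256906 → fs1 v = true := slots_step fs1 256662 244 256906 s1u874 s1c875 rfl
theorem s1u876 : ∀ v, 1 ≤ v → v ≤ 257157 → fs1 v = true := slots_step fs1 256906 251 257157 s1u875 s1c876 rfl
theorem s1u877 : ∀ v, 1 ≤ v → v ≤ 257399 → fs1 v = true := slots_step fs1 257157 242 257399 s1u876 s1c877 rfl
theorem s1u878 : ∀ v, 1 ≤ v → v ≤ 257707 → fs1 v = true := slots_step fs1 257399 308 257707 s1u877 s1c878 rfl
theorem s1u879 : ∀ v, 1 ≤ v → v ≤ 258017 → fs1 v = true := slots_step fs1 257707 310 258017 s1u878 s1c879 rfl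
theorem s1u880 : ∀ v, 1 ≤ v → v ≤ 258281 → fs1 v = true := slots_step fs1 258017 264 258281 s1u879 s1c880 rfl
theorem s1u881 : ∀ v, 1 ≤ v → v ≤ 258566 → fs1 v = true := slots_step fs1 258281 285 258566 s1u880 s1c881 rfl
theorem s1u882 : ∀ v, 1 ≤ v → v ≤ 258838 → fs1 v = true := slots_step fs1 258566 272 258838 s1u881 s1c882 rfl
theorem s1u883 : ∀ v, 1 ≤ v → v ≤ 259118 → fs1 v = true := slots_step fs1 258838 280 259118 s1u882 s1c883 rfl
theorem s1u884 : ∀ v, 1 ≤ v → v ≤ 259365 → fs1 v = true := slots_step fs1 259118 247 259365 s1u883 s1c884 rfl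
theorem s1u885 : ∀ v, 1 ≤ v → v ≤ 259659 → fs1 v = true := slots_step fs1 259365 294 259659 s1u884 s1c885 rfl
theorem s1u886 : ∀ v, 1 ≤ v → v ≤ 259943 → fs1 v = true := slots_step fs1 259659 284 259943 s1u885 s1c886 rfl
theorem s1u887 : ∀ v, 1 ≤ v → v ≤ 260207 → fs1 v = true := slots_step fs1 259943 264 260207 s1u886 s1c887 rfl
theorem s1u888 : ∀ v, 1 ≤ v → v ≤ 260460 → fs1 v = true := slots_step fs1 260207 253 260460 s1u887 s1c888 rfl
theorem s1u889 : ∀ v, 1 ≤ v → v ≤ 260728 → fs1 v = true := slots_step fs1 260460 268 260728 s1u888 s1c889 rfl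
theorem s1u890 : ∀ v, 1 ≤ v → v ≤ 261033 → fs1 v = true := slots_step fs1 260728 305 261033 s1u889 s1c890 rfl
theorem s1u891 : ∀ v, 1 ≤ v → v ≤ 261338 → fs1 v = true := slots_step fs1 261033 305 261338 s1u890 s1c891 rfl
theorem s1u892 : ∀ v, 1 ≤ v → v ≤ 261596 → fs1 v = true := slots_step fs1 261338 258 261596 s1u891 s1c892 rfl
theorem s1u893 : ∀ v, 1 ≤ v → v ≤ 261861 → fs1 v = true := slots_step fs1 261596 265 261861 s1u892 s1c893 rfl
theorem s1u894 : ∀ v, 1 ≤ v → v ≤ 262115 → fs1 v = true := slots_step fs1 261861 254 262115 s1u893 s1c894 rfl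
theorem s1u895 : ∀ v, 1 ≤ v → v ≤ 262411 → fs1 v = true := slots_step fs1 262115 296 262411 s1u894 s1c895 rfl
theorem s1u896 : ∀ v, 1 ≤ v → v ≤ 262702 → fs1 v = true := slots_step fs1 262411 291 262702 s1u895 s1c896 rfl
theorem s1u897 : ∀ v, 1 ≤ v → v ≤ 262951 → fs1 v = true := slots_step fs1 262702 249 262951 s1u896 s1c897 rfl
theorem s1u898 : ∀ v, 1 ≤ v → v ≤ 263197 → fs1 v = true := slots_step fs1 262951 246 263197 s1u897 s1c898 rfl
theorem s1u899 : ∀ v, 1 ≤ v → v ≤ 263458 → fs1 v = true := slots_step fs1 263197 261 263458 s1u898 s1c899 rfl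
theorem s1u900 : ∀ v, 1 ≤ v → v ≤ 263690 → fs1 v = true := slots_step fs1 263458 232 263690 s1u899 s1c900 rfl
theorem s1u901 : ∀ v, 1 ≤ v → v ≤ 263971 → fs1 v = true := slots_step fs1 263690 281 263971 s1u900 s1c901 rfl
theorem s1u902 : ∀ v, 1 ≤ v → v ≤ 264225 → fs1 v = true := slots_step fs1 263971 254 264225 s1u901 s1c902 rfl
theorem s1u903 : ∀ v, 1 ≤ v → v ≤ 264483 → fs1 v = true := slots_step fs1 264225 258 264483 s1u902 s1c903 rfl
theorem s1u904 : ∀ v, 1 ≤ v → v ≤ 264724 → fs1 v = true := slots_step fs1 264483 241 264724 s1u903 s1c904 rfl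
theorem s1u905 : ∀ v, 1 ≤ v → v ≤ 264983 → fs1 v = true := slots_step fs1 264724 259 264983 s1u904 s1c905 rfl
theorem s1u906 : ∀ v, 1 ≤ v → v ≤ 265278 → fs1 v = true := slots_step fs1 264983 295 265278 s1u905 s1c906 rfl
theorem s1u907 : ∀ v, 1 ≤ v → v ≤ 265550 → fs1 v = true := slots_step fs1 265278 272 265550 s1u906 s1c907 rfl
theorem s1u908 : ∀ v, 1 ≤ v → v ≤ 265807 → fs1 v = true := slots_step fs1 265550 257 265807 s1u907 s1c908 rfl
theorem s1u909 : ∀ v, 1 ≤ v → v ≤ 266048 → fs1 v = true := slots_step fs1 265807 241 266048 s1u908 s1c909 rfl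
theorem s1u910 : ∀ v, 1 ≤ v → v ≤ 266338 → fs1 v = true := slots_step fs1 266048 290 266338 s1u909 s1c910 rfl
theorem s1u911 : ∀ v, 1 ≤ v → v ≤ 266633 → fs1 v = true := slots_step fs1 266338 295 266633 s1u910 s1c911 rfl
theorem s1u912 : ∀ v, 1 ≤ v → v ≤ 266899 → fs1 v = true := slots_step fs1 266633 266 266899 s1u911 s1c912 rfl
theorem s1u913 : ∀ v, 1 ≤ v → v ≤ 267165 → fs1 v = true := slots_step fs1 266899 266 267165 s1u912 s1c913 rfl
theorem s1u914 : ∀ v, 1 ≤ v → v ≤ 267414 → fs1 v = true := slots_step fs1 267165 249 267414 s1u913 s1c914 rfl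
theorem s1u915 : ∀ v, 1 ≤ v → v ≤ 267721 → fs1 v = true := slots_step fs1 267414 307 267721 s1u914 s1c915 rfl
theorem s1u916 : ∀ v, 1 ≤ v → v ≤ 268006 → fs1 v = true := slots_step fs1 267721 285 268006 s1u915 s1c916 rfl
theorem s1u917 : ∀ v, 1 ≤ v → v ≤ 268259 → fs1 v = true := slots_step fs1 268006 253 268259 s1u916 s1c917 rfl
theorem s1u918 : ∀ v, 1 ≤ v → v ≤ 268538 → fs1 v = true := slots_step fs1 268259 279 268538 s1u917 s1c918 rfl
theorem s1u919 : ∀ v, 1 ≤ v → v ≤ 268827 → fs1 v = true := slots_step fs1 268538 289 268827 s1u918 s1c919 rfl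
theorem s1u920 : ∀ v, 1 ≤ v → v ≤ 269128 → fs1 v = true := slots_step fs1 268827 301 269128 s1u919 s1c920 rfl
theorem s1u921 : ∀ v, 1 ≤ v → v ≤ 269386 → fs1 v = true := slots_step fs1 269128 258 269386 s1u920 s1c921 rfl
theorem s1u922 : ∀ v, 1 ≤ v → v ≤ 269671 → fs1 v = true := slots_step fs1 269386 285 269671 s1u921 s1c922 rfl
theorem s1u923 : ∀ v, 1 ≤ v → v ≤ 269948 → fs1 v = true := slots_step fs1 269671 277 269948 s1u922 s1c923 rfl
theorem s1u924 : ∀ v, 1 ≤ v → v ≤ 270226 → fs1 v = true := slots_step fs1 269948 278 270226 s1u923 s1c924 rfl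
theorem s1u925 : ∀ v, 1 ≤ v → v ≤ 270515 → fs1 v = true := slots_step fs1 270226 289 270515 s1u924 s1c925 rfl
theorem s1u926 : ∀ v, 1 ≤ v → v ≤ 270796 → fs1 v = true := slots_step fs1 270515 281 270796 s1u925 s1c926 rfl
theorem s1u927 : ∀ v, 1 ≤ v → v ≤ 271070 → fs1 v = true := slots_step fs1 270796 274 271070 s1u926 s1c927 rfl
theorem s1u928 : ∀ v, 1 ≤ v → v ≤ 271312 → fs1 v = true := slots_step fs1 271070 242 271312 s1u927 s1c928 rfl
theorem s1u929 : ∀ v, 1 ≤ v → v ≤ 271541 → fs1 v = true := slots_step fs1 271312 229 271541 s1u928 s1c929 rfl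
theorem s1u930 : ∀ v, 1 ≤ v → v ≤ 271766 → fs1 v = true := slots_step fs1 271541 225 271766 s1u929 s1c930 rfl
theorem s1u931 : ∀ v, 1 ≤ v → v ≤ 271998 → fs1 v = true := slots_step fs1 271766 232 271998 s1u930 s1c931 rfl
theorem s1u932 : ∀ v, 1 ≤ v → v ≤ 272223 → fs1 v = true := slots_step fs1 271998 225 272223 s1u931 s1c932 rfl
theorem s1u933 : ∀ v, 1 ≤ v → v ≤ 272472 → fs1 v = true := slots_step fs1 272223 249 272472 s1u932 s1c933 rfl
theorem s1u934 : ∀ v, 1 ≤ v → v ≤ 272712 → fs1 v = true := slots_step fs1 272472 240 272712 s1u933 s1c934 rfl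
theorem s1u935 : ∀ v, 1 ≤ v → v ≤ 272964 → fs1 v = true := slots_step fs1 272712 252 272964 s1u934 s1c935 rfl
theorem s1u936 : ∀ v, 1 ≤ v → v ≤ 273220 → fs1 v = true := slots_step fs1 272964 256 273220 s1u935 s1c936 rfl
theorem s1u937 : ∀ v, 1 ≤ v → v ≤ 273458 → fs1 v = true := slots_step fs1 273220 238 273458 s1u936 s1c937 rfl
theorem s1u938 : ∀ v, 1 ≤ v → v ≤ 273710 → fs1 v = true := slots_step fs1 273458 252 273710 s1u937 s1c938 rfl
theorem s1u939 : ∀ v, 1 ≤ v → v ≤ 273978 → fs1 v = true := slots_step fs1 273710 268 273978 s1u938 s1c939 rfl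
theorem s1u940 : ∀ v, 1 ≤ v → v ≤ 274227 → fs1 v = true := slots_step fs1 273978 249 274227 s1u939 s1c940 rfl
theorem s1u941 : ∀ v, 1 ≤ v → v ≤ 274477 → fs1 v = true := slots_step fs1 274227 250 274477 s1u940 s1c941 rfl
theorem s1u942 : ∀ v, 1 ≤ v → v ≤ 274722 → fs1 v = true := slots_step fs1 274477 245 274722 s1u941 s1c942 rfl
theorem s1u943 : ∀ v, 1 ≤ v → v ≤ 274965 → fs1 v = true := slots_step fs1 274722 243 274965 s1u942 s1c943 rfl
theorem s1u944 : ∀ v, 1 ≤ v → v ≤ 275215 → fs1 v = true := slots_step fs1 274965 250 275215 s1u943 s1c944 rfl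
theorem s1u945 : ∀ v, 1 ≤ v → v ≤ 275474 → fs1 v = true := slots_step fs1 275215 259 275474 s1u944 s1c945 rfl
theorem s1u946 : ∀ v, 1 ≤ v → v ≤ 275714 → fs1 v = true := slots_step fs1 275474 240 275714 s1u945 s1c946 rfl
theorem s1u947 : ∀ v, 1 ≤ v → v ≤ 275947 → fs1 v = true := slots_step fs1 275714 233 275947 s1u946 s1c947 rfl
theorem s1u948 : ∀ v, 1 ≤ v → v ≤ 276209 → fs1 v = true := slots_step fs1 275947 262 276209 s1u947 s1c948 rfl
theorem s1u949 : ∀ v, 1 ≤ v → v ≤ 276477 → fs1 v = true := slots_step fs1 276209 268 276477 s1u948 s1c949 rfl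
theorem s1u950 : ∀ v, 1 ≤ v → v ≤ 276743 → fs1 v = true := slots_step fs1 276477 266 276743 s1u949 s1c950 rfl
theorem s1u951 : ∀ v, 1 ≤ v → v ≤ 277027 → fs1 v = true := slots_step fs1 276743 284 277027 s1u950 s1c951 rfl
theorem s1u952 : ∀ v, 1 ≤ v → v ≤ 277267 → fs1 v = true := slots_step fs1 277027 240 277267 s1u951 s1c952 rfl
theorem s1u953 : ∀ v, 1 ≤ v → v ≤ 277527 → fs1 v = true := slots_step fs1 277267 260 277527 s1u952 s1c953 rfl
theorem s1u954 : ∀ v, 1 ≤ v → v ≤ 277802 → fs1 v = true := slots_step fs1 277527 275 277802 s1u953 s1c954 rfl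
theorem s1u955 : ∀ v, 1 ≤ v → v ≤ 278054 → fs1 v = true := slots_step fs1 277802 252 278054 s1u954 s1c955 rfl
theorem s1u956 : ∀ v, 1 ≤ v → v ≤ 278310 → fs1 v = true := slots_step fs1 278054 256 278310 s1u955 s1c956 rfl
theorem s1u957 : ∀ v, 1 ≤ v → v ≤ 278569 → fs1 v = true := slots_step fs1 278310 259 278569 s1u956 s1c957 rfl
theorem s1u958 : ∀ v, 1 ≤ v → v ≤ 278831 → fs1 v = true := slots_step fs1 278569 262 278831 s1u957 s1c958 rfl
theorem s1u959 : ∀ v, 1 ≤ v → v ≤ 279112 → fs1 v = true := slots_step fs1 278831 281 279112 s1u958 s1c959 rfl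
theorem s1u960 : ∀ v, 1 ≤ v → v ≤ 279372 → fs1 v = true := slots_step fs1 279112 260 279372 s1u959 s1c960 rfl
theorem s1u961 : ∀ v, 1 ≤ v → v ≤ 279637 → fs1 v = true := slots_step fs1 279372 265 279637 s1u960 s1c961 rfl
theorem s1u962 : ∀ v, 1 ≤ v → v ≤ 279880 → fs1 v = true := slots_step fs1 279637 243 279880 s1u961 s1c962 rfl
theorem s1u963 : ∀ v, 1 ≤ v → v ≤ 280154 → fs1 v = true := slots_step fs1 279880 274 280154 s1u962 s1c963 rfl
theorem s1u964 : ∀ v, 1 ≤ v → v ≤ 280427 → fs1 v = true := slots_step fs1 280154 273 280427 s1u963 s1c964 rfl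
theorem s1u965 : ∀ v, 1 ≤ v → v ≤ 280704 → fs1 v = true := slots_step fs1 280427 277 280704 s1u964 s1c965 rfl
theorem s1u966 : ∀ v, 1 ≤ v → v ≤ 280943 → fs1 v = true := slots_step fs1 280704 239 280943 s1u965 s1c966 rfl
theorem s1u967 : ∀ v, 1 ≤ v → v ≤ 281213 → fs1 v = true := slots_step fs1 280943 270 281213 s1u966 s1c967 rfl
theorem s1u968 : ∀ v, 1 ≤ v → v ≤ 281476 → fs1 v = true := slots_step fs1 281213 263 281476 s1u967 s1c968 rfl
theorem s1u969 : ∀ v, 1 ≤ v → v ≤ 281731 → fs1 v = true := slots_step fs1 281476 255 281731 s1u968 s1c969 rfl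
theorem s1u970 : ∀ v, 1 ≤ v → v ≤ 281986 → fs1 v = true := slots_step fs1 281731 255 281986 s1u969 s1c970 rfl
theorem s1u971 : ∀ v, 1 ≤ v → v ≤ 282228 → fs1 v = true := slots_step fs1 281986 242 282228 s1u970 s1c971 rfl
theorem s1u972 : ∀ v, 1 ≤ v → v ≤ 282473 → fs1 v = true := slots_step fs1 282228 245 282473 s1u971 s1c972 rfl
theorem s1u973 : ∀ v, 1 ≤ v → v ≤ 282719 → fs1 v = true := slots_step fs1 282473 246 282719 s1u972 s1c973 rfl
theorem s1u974 : ∀ v, 1 ≤ v → v ≤ 282953 → fs1 v = true := slots_step fs1 282719 234 282953 s1u973 s1c974 rfl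
theorem s1u975 : ∀ v, 1 ≤ v → v ≤ 283248 → fs1 v = true := slots_step fs1 282953 295 283248 s1u974 s1c975 rfl
theorem s1u976 : ∀ v, 1 ≤ v → v ≤ 283555 → fs1 v = true := slots_step fs1 283248 307 283555 s1u975 s1c976 rfl
theorem s1u977 : ∀ v, 1 ≤ v → v ≤ 283823 → fs1 v = true := slots_step fs1 283555 268 283823 s1u976 s1c977 rfl
theorem s1u978 : ∀ v, 1 ≤ v → v ≤ 284109 → fs1 v = true := slots_step fs1 283823 286 284109 s1u977 s1c978 rfl
theorem s1u979 : ∀ v, 1 ≤ v → v ≤ 284394 → fs1 v = true := slots_step fs1 284109 285 284394 s1u978 s1c979 rfl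
theorem s1u980 : ∀ v, 1 ≤ v → v ≤ 284644 → fs1 v = true := slots_step fs1 284394 250 284644 s1u979 s1c980 rfl
theorem s1u981 : ∀ v, 1 ≤ v → v ≤ 284898 → fs1 v = true := slots_step fs1 284644 254 284898 s1u980 s1c981 rfl
theorem s1u982 : ∀ v, 1 ≤ v → v ≤ 285177 → fs1 v = true := slots_step fs1 284898 279 285177 s1u981 s1c982 rfl
theorem s1u983 : ∀ v, 1 ≤ v → v ≤ 285463 → fs1 v = true := slots_step fs1 285177 286 285463 s1u982 s1c983 rfl
theorem s1u984 : ∀ v, 1 ≤ v → v ≤ 285723 → fs1 v = true := slots_step fs1 285463 260 285723 s1u983 s1c984 rfl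
theorem s1u985 : ∀ v, 1 ≤ v → v ≤ 285996 → fs1 v = true := slots_step fs1 285723 273 285996 s1u984 s1c985 rfl
theorem s1u986 : ∀ v, 1 ≤ v → v ≤ 286238 → fs1 v = true := slots_step fs1 285996 242 286238 s1u985 s1c986 rfl
theorem s1u987 : ∀ v, 1 ≤ v → v ≤ 286540 → fs1 v = true := slots_step fs1 286238 302 286540 s1u986 s1c987 rfl
theorem s1u988 : ∀ v, 1 ≤ v → v ≤ 286838 → fs1 v = true := slots_step fs1 286540 298 286838 s1u987 s1c988 rfl
theorem s1u989 : ∀ v, 1 ≤ v → v ≤ 287145 → fs1 v = true := slots_step fs1 286838 307 287145 s1u988 s1c989 rfl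
theorem s1u990 : ∀ v, 1 ≤ v → v ≤ 287396 → fs1 v = true := slots_step fs1 287145 251 287396 s1u989 s1c990 rfl
theorem s1u991 : ∀ v, 1 ≤ v → v ≤ 287660 → fs1 v = true := slots_step fs1 287396 264 287660 s1u990 s1c991 rfl
theorem s1u992 : ∀ v, 1 ≤ v → v ≤ 287914 → fs1 v = true := slots_step fs1 287660 254 287914 s1u991 s1c992 rfl
theorem s1u993 : ∀ v, 1 ≤ v → v ≤ 288202 → fs1 v = true := slots_step fs1 287914 288 288202 s1u992 s1c993 rfl
theorem s1u994 : ∀ v, 1 ≤ v → v ≤ 288487 → fs1 v = true := slots_step fs1 288202 285 288487 s1u993 s1c994 rfl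
theorem s1u995 : ∀ v, 1 ≤ v → v ≤ 288740 → fs1 v = true := slots_step fs1 288487 253 288740 s1u994 s1c995 rfl
theorem s1u996 : ∀ v, 1 ≤ v → v ≤ 288989 → fs1 v = true := slots_step fs1 288740 249 288989 s1u995 s1c996 rfl
theorem s1u997 : ∀ v, 1 ≤ v → v ≤ 289247 → fs1 v = true := slots_step fs1 288989 258 289247 s1u996 s1c997 rfl
theorem s1u998 : ∀ v, 1 ≤ v → v ≤ 289480 → fs1 v = true := slots_step fs1 289247 233 289480 s1u997 s1c998 rfl
theorem s1u999 : ∀ v, 1 ≤ v → v ≤ 289759 → fs1 v = true := slots_step fs1 289480 279 289759 s1u998 s1c999 rfl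
theorem s1u1000 : ∀ v, 1 ≤ v → v ≤ 290010 → fs1 v = true := slots_step fs1 289759 251 290010 s1u999 s1c1000 rfl
theorem s1u1001 : ∀ v, 1 ≤ v → v ≤ 290258 → fs1 v = true := slots_step fs1 290010 248 290258 s1u1000 s1c1001 rfl
theorem s1u1002 : ∀ v, 1 ≤ v → v ≤ 290511 → fs1 v = true := slots_step fs1 290258 253 290511 s1u1001 s1c1002 rfl
theorem s1u1003 : ∀ v, 1 ≤ v → v ≤ 290788 → fs1 v = true := slots_step fs1 290511 277 290788 s1u1002 s1c1003 rfl
theorem s1u1004 : ∀ v, 1 ≤ v → v ≤ 291068 → fs1 v = true := slots_step fs1 290788 280 291068 s1u1003 s1c1004 rfl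
theorem s1u1005 : ∀ v, 1 ≤ v → v ≤ 291329 → fs1 v = true := slots_step fs1 291068 261 291329 s1u1004 s1c1005 rfl
theorem s1u1006 : ∀ v, 1 ≤ v → v ≤ 291571 → fs1 v = true := slots_step fs1 291329 242 291571 s1u1005 s1c1006 rfl
theorem s1u1007 : ∀ v, 1 ≤ v → v ≤ 291840 → fs1 v = true := slots_step fs1 291571 269 291840 s1u1006 s1c1007 rfl
theorem s1u1008 : ∀ v, 1 ≤ v → v ≤ 292135 → fs1 v = true := slots_step fs1 291840 295 292135 s1u1007 s1c1008 rfl
theorem s1u1009 : ∀ v, 1 ≤ v → v ≤ 292406 → fs1 v = true := slots_step fs1 292135 271 292406 s1u1008 s1c1009 rfl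
theorem s1u1010 : ∀ v, 1 ≤ v → v ≤ 292691 → fs1 v = true := slots_step fs1 292406 285 292691 s1u1009 s1c1010 rfl
theorem s1u1011 : ∀ v, 1 ≤ v → v ≤ 292933 → fs1 v = true := slots_step fs1 292691 242 292933 s1u1010 s1c1011 rfl
theorem s1u1012 : ∀ v, 1 ≤ v → v ≤ 293230 → fs1 v = true := slots_step fs1 292933 297 293230 s1u1011 s1c1012 rfl
theorem s1u1013 : ∀ v, 1 ≤ v → v ≤ 293512 → fs1 v = true := slots_step fs1 293230 282 293512 s1u1012 s1c1013 rfl
theorem s1u1014 : ∀ v, 1 ≤ v → v ≤ 293780 → fs1 v = true := slots_step fs1 293512 268 293780 s1u1013 s1c1014 rfl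
theorem s1u1015 : ∀ v, 1 ≤ v → v ≤ 294053 → fs1 v = true := slots_step fs1 293780 273 294053 s1u1014 s1c1015 rfl
theorem s1u1016 : ∀ v, 1 ≤ v → v ≤ 294352 → fs1 v = true := slots_step fs1 294053 299 294352 s1u1015 s1c1016 rfl
theorem s1u1017 : ∀ v, 1 ≤ v → v ≤ 294612 → fs1 v = true := slots_step fs1 294352 260 294612 s1u1016 s1c1017 rfl
theorem s1u1018 : ∀ v, 1 ≤ v → v ≤ 294890 → fs1 v = true := slots_step fs1 294612 278 294890 s1u1017 s1c1018 rfl
theorem s1u1019 : ∀ v, 1 ≤ v → v ≤ 295178 → fs1 v = true := slots_step fs1 294890 288 295178 s1u1018 s1c1019 rfl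
theorem s1u1020 : ∀ v, 1 ≤ v → v ≤ 295462 → fs1 v = true := slots_step fs1 295178 284 295462 s1u1019 s1c1020 rfl
theorem s1u1021 : ∀ v, 1 ≤ v → v ≤ 295741 → fs1 v = true := slots_step fs1 295462 279 295741 s1u1020 s1c1021 rfl
theorem s1u1022 : ∀ v, 1 ≤ v → v ≤ 296014 → fs1 v = true := slots_step fs1 295741 273 296014 s1u1021 s1c1022 rfl
theorem s1u1023 : ∀ v, 1 ≤ v → v ≤ 296270 → fs1 v = true := slots_step fs1 296014 256 296270 s1u1022 s1c1023 rfl
theorem s1u1024 : ∀ v, 1 ≤ v → v ≤ 296499 → fs1 v = true := slots_step fs1 296270 229 296499 s1u1023 s1c1024 rfl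
theorem s1u1025 : ∀ v, 1 ≤ v → v ≤ 296721 → fs1 v = true := slots_step fs1 296499 222 296721 s1u1024 s1c1025 rfl
theorem s1u1026 : ∀ v, 1 ≤ v → v ≤ 296947 → fs1 v = true := slots_step fs1 296721 226 296947 s1u1025 s1c1026 rfl
theorem s1u1027 : ∀ v, 1 ≤ v → v ≤ 297169 → fs1 v = true := slots_step fs1 296947 222 297169 s1u1026 s1c1027 rfl
theorem s1u1028 : ∀ v, 1 ≤ v → v ≤ 297409 → fs1 v = true := slots_step fs1 297169 240 297409 s1u1027 s1c1028 rfl
theorem s1u1029 : ∀ v, 1 ≤ v → v ≤ 297654 → fs1 v = true := slots_step fs1 297409 245 297654 s1u1028 s1c1029 rfl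
theorem s1u1030 : ∀ v, 1 ≤ v → v ≤ 297882 → fs1 v = true := slots_step fs1 297654 228 297882 s1u1029 s1c1030 rfl
theorem s1u1031 : ∀ v, 1 ≤ v → v ≤ 298153 → fs1 v = true := slots_step fs1 297882 271 298153 s1u1030 s1c1031 rfl
theorem s1u1032 : ∀ v, 1 ≤ v → v ≤ 298388 → fs1 v = true := slots_step fs1 298153 235 298388 s1u1031 s1c1032 rfl
theorem s1u1033 : ∀ v, 1 ≤ v → v ≤ 298623 → fs1 v = true := slots_step fs1 298388 235 298623 s1u1032 s1c1033 rfl
theorem s1u1034 : ∀ v, 1 ≤ v → v ≤ 298886 → fs1 v = true := slots_step fs1 298623 263 298886 s1u1033 s1c1034 rfl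
theorem s1u1035 : ∀ v, 1 ≤ v → v ≤ 299149 → fs1 v = true := slots_step fs1 298886 263 299149 s1u1034 s1c1035 rfl
theorem s1u1036 : ∀ v, 1 ≤ v → v ≤ 299389 → fs1 v = true := slots_step fs1 299149 240 299389 s1u1035 s1c1036 rfl
theorem s1u1037 : ∀ v, 1 ≤ v → v ≤ 299640 → fs1 v = true := slots_step fs1 299389 251 299640 s1u1036 s1c1037 rfl
theorem s1u1038 : ∀ v, 1 ≤ v → v ≤ 299875 → fs1 v = true := slots_step fs1 299640 235 299875 s1u1037 s1c1038 rfl
theorem s1u1039 : ∀ v, 1 ≤ v → v ≤ 300114 → fs1 v = true := slots_step fs1 299875 239 300114 s1u1038 s1c1039 rfl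
theorem s1u1040 : ∀ v, 1 ≤ v → v ≤ 300362 → fs1 v = true := slots_step fs1 300114 248 300362 s1u1039 s1c1040 rfl
theorem s1u1041 : ∀ v, 1 ≤ v → v ≤ 300620 → fs1 v = true := slots_step fs1 300362 258 300620 s1u1040 s1c1041 rfl
theorem s1u1042 : ∀ v, 1 ≤ v → v ≤ 300852 → fs1 v = true := slots_step fs1 300620 232 300852 s1u1041 s1c1042 rfl
theorem s1u1043 : ∀ v, 1 ≤ v → v ≤ 301082 → fs1 v = true := slots_step fs1 300852 230 301082 s1u1042 s1c1043 rfl
theorem s1u1044 : ∀ v, 1 ≤ v → v ≤ 301351 → fs1 v = true := slots_step fs1 301082 269 301351 s1u1043 s1c1044 rfl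
theorem s1u1045 : ∀ v, 1 ≤ v → v ≤ 301612 → fs1 v = true := slots_step fs1 301351 261 301612 s1u1044 s1c1045 rfl
theorem s1u1046 : ∀ v, 1 ≤ v → v ≤ 301877 → fs1 v = true := slots_step fs1 301612 265 301877 s1u1045 s1c1046 rfl
theorem s1u1047 : ∀ v, 1 ≤ v → v ≤ 302162 → fs1 v = true := slots_step fs1 301877 285 302162 s1u1046 s1c1047 rfl
theorem s1u1048 : ∀ v, 1 ≤ v → v ≤ 302403 → fs1 v = true := slots_step fs1 302162 241 302403 s1u1047 s1c1048 rfl
theorem s1u1049 : ∀ v, 1 ≤ v → v ≤ 302657 → fs1 v = true := slots_step fs1 302403 254 302657 s1u1048 s1c1049 rfl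
theorem s1u1050 : ∀ v, 1 ≤ v → v ≤ 302940 → fs1 v = true := slots_step fs1 302657 283 302940 s1u1049 s1c1050 rfl
theorem s1u1051 : ∀ v, 1 ≤ v → v ≤ 303182 → fs1 v = true := slots_step fs1 302940 242 303182 s1u1050 s1c1051 rfl
theorem s1u1052 : ∀ v, 1 ≤ v → v ≤ 303439 → fs1 v = true := slots_step fs1 303182 257 303439 s1u1051 s1c1052 rfl
theorem s1u1053 : ∀ v, 1 ≤ v → v ≤ 303690 → fs1 v = true := slots_step fs1 303439 251 303690 s1u1052 s1c1053 rfl
theorem s1u1054 : ∀ v, 1 ≤ v → v ≤ 303971 → fs1 v = true := slots_step fs1 303690 281 303971 s1u1053 s1c1054 rfl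
theorem s1u1055 : ∀ v, 1 ≤ v → v ≤ 304228 → fs1 v = true := slots_step fs1 303971 257 304228 s1u1054 s1c1055 rfl
theorem s1u1056 : ∀ v, 1 ≤ v → v ≤ 304491 → fs1 v = true := slots_step fs1 304228 263 304491 s1u1055 s1c1056 rfl
theorem s1u1057 : ∀ v, 1 ≤ v → v ≤ 304738 → fs1 v = true := slots_step fs1 304491 247 304738 s1u1056 s1c1057 rfl
theorem s1u1058 : ∀ v, 1 ≤ v → v ≤ 305004 → fs1 v = true := slots_step fs1 304738 266 305004 s1u1057 s1c1058 rfl
theorem s1u1059 : ∀ v, 1 ≤ v → v ≤ 305276 → fs1 v = true := slots_step fs1 305004 272 305276 s1u1058 s1c1059 rfl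
theorem s1u1060 : ∀ v, 1 ≤ v → v ≤ 305527 → fs1 v = true := slots_step fs1 305276 251 305527 s1u1059 s1c1060 rfl
theorem s1u1061 : ∀ v, 1 ≤ v → v ≤ 305774 → fs1 v = true := slots_step fs1 305527 247 305774 s1u1060 s1c1061 rfl
theorem s1u1062 : ∀ v, 1 ≤ v → v ≤ 306044 → fs1 v = true := slots_step fs1 305774 270 306044 s1u1061 s1c1062 rfl
theorem s1u1063 : ∀ v, 1 ≤ v → v ≤ 306296 → fs1 v = true := slots_step fs1 306044 252 306296 s1u1062 s1c1063 rfl
theorem s1u1064 : ∀ v, 1 ≤ v → v ≤ 306549 → fs1 v = true := slots_step fs1 306296 253 306549 s1u1063 s1c1064 rfl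
theorem s1u1065 : ∀ v, 1 ≤ v → v ≤ 306792 → fs1 v = true := slots_step fs1 306549 243 306792 s1u1064 s1c1065 rfl
theorem s1u1066 : ∀ v, 1 ≤ v → v ≤ 307033 → fs1 v = true := slots_step fs1 306792 241 307033 s1u1065 s1c1066 rfl
theorem s1u1067 : ∀ v, 1 ≤ v → v ≤ 307278 → fs1 v = true := slots_step fs1 307033 245 307278 s1u1066 s1c1067 rfl
theorem s1u1068 : ∀ v, 1 ≤ v → v ≤ 307508 → fs1 v = true := slots_step fs1 307278 230 307508 s1u1067 s1c1068 rfl
theorem s1u1069 : ∀ v, 1 ≤ v → v ≤ 307785 → fs1 v = true := slots_step fs1 307508 277 307785 s1u1068 s1c1069 rfl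
theorem s1u1070 : ∀ v, 1 ≤ v → v ≤ 308094 → fs1 v = true := slots_step fs1 307785 309 308094 s1u1069 s1c1070 rfl
theorem s1u1071 : ∀ v, 1 ≤ v → v ≤ 308373 → fs1 v = true := slots_step fs1 308094 279 308373 s1u1070 s1c1071 rfl
theorem s1u1072 : ∀ v, 1 ≤ v → v ≤ 308645 → fs1 v = true := slots_step fs1 308373 272 308645 s1u1071 s1c1072 rfl
theorem s1u1073 : ∀ v, 1 ≤ v → v ≤ 308904 → fs1 v = true := slots_step fs1 308645 259 308904 s1u1072 s1c1073 rfl
theorem s1u1074 : ∀ v, 1 ≤ v → v ≤ 309153 → fs1 v = true := slots_step fs1 308904 249 309153 s1u1073 s1c1074 rfl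
theorem s1u1075 : ∀ v, 1 ≤ v → v ≤ 309419 → fs1 v = true := slots_step fs1 309153 266 309419 s1u1074 s1c1075 rfl
theorem s1u1076 : ∀ v, 1 ≤ v → v ≤ 309701 → fs1 v = true := slots_step fs1 309419 282 309701 s1u1075 s1c1076 rfl
theorem s1u1077 : ∀ v, 1 ≤ v → v ≤ 309963 → fs1 v = true := slots_step fs1 309701 262 309963 s1u1076 s1c1077 rfl
theorem s1u1078 : ∀ v, 1 ≤ v → v ≤ 310219 → fs1 v = true := slots_step fs1 309963 256 310219 s1u1077 s1c1078 rfl
theorem s1u1079 : ∀ v, 1 ≤ v → v ≤ 310471 → fs1 v = true := slots_step fs1 310219 252 310471 s1u1078 s1c1079 rfl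
theorem s1u1080 : ∀ v, 1 ≤ v → v ≤ 310775 → fs1 v = true := slots_step fs1 310471 304 310775 s1u1079 s1c1080 rfl
theorem s1u1081 : ∀ v, 1 ≤ v → v ≤ 311075 → fs1 v = true := slots_step fs1 310775 300 311075 s1u1080 s1c1081 rfl
theorem s1u1082 : ∀ v, 1 ≤ v → v ≤ 311378 → fs1 v = true := slots_step fs1 311075 303 311378 s1u1081 s1c1082 rfl
theorem s1u1083 : ∀ v, 1 ≤ v → v ≤ 311614 → fs1 v = true := slots_step fs1 311378 236 311614 s1u1082 s1c1083 rfl
theorem s1u1084 : ∀ v, 1 ≤ v → v ≤ 311879 → fs1 v = true := slots_step fs1 311614 265 311879 s1u1083 s1c1084 rfl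
theorem s1u1085 : ∀ v, 1 ≤ v → v ≤ 312148 → fs1 v = true := slots_step fs1 311879 269 312148 s1u1084 s1c1085 rfl
theorem s1u1086 : ∀ v, 1 ≤ v → v ≤ 312426 → fs1 v = true := slots_step fs1 312148 278 312426 s1u1085 s1c1086 rfl
theorem s1u1087 : ∀ v, 1 ≤ v → v ≤ 312691 → fs1 v = true := slots_step fs1 312426 265 312691 s1u1086 s1c1087 rfl
theorem s1u1088 : ∀ v, 1 ≤ v → v ≤ 312938 → fs1 v = true := slots_step fs1 312691 247 312938 s1u1087 s1c1088 rfl
theorem s1u1089 : ∀ v, 1 ≤ v → v ≤ 313185 → fs1 v = true := slots_step fs1 312938 247 313185 s1u1088 s1c1089 rfl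
theorem s1u1090 : ∀ v, 1 ≤ v → v ≤ 313438 → fs1 v = true := slots_step fs1 313185 253 313438 s1u1089 s1c1090 rfl
theorem s1u1091 : ∀ v, 1 ≤ v → v ≤ 313696 → fs1 v = true := slots_step fs1 313438 258 313696 s1u1090 s1c1091 rfl
theorem s1u1092 : ∀ v, 1 ≤ v → v ≤ 313952 → fs1 v = true := slots_step fs1 313696 256 313952 s1u1091 s1c1092 rfl
theorem s1u1093 : ∀ v, 1 ≤ v → v ≤ 314227 → fs1 v = true := slots_step fs1 313952 275 314227 s1u1092 s1c1093 rfl
theorem s1u1094 : ∀ v, 1 ≤ v → v ≤ 314497 → fs1 v = true := slots_step fs1 314227 270 314497 s1u1093 s1c1094 rfl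
theorem s1u1095 : ∀ v, 1 ≤ v → v ≤ 314752 → fs1 v = true := slots_step fs1 314497 255 314752 s1u1094 s1c1095 rfl
theorem s1u1096 : ∀ v, 1 ≤ v → v ≤ 314997 → fs1 v = true := slots_step fs1 314752 245 314997 s1u1095 s1c1096 rfl
theorem s1u1097 : ∀ v, 1 ≤ v → v ≤ 315285 → fs1 v = true := slots_step fs1 314997 288 315285 s1u1096 s1c1097 rfl
theorem s1u1098 : ∀ v, 1 ≤ v → v ≤ 315572 → fs1 v = true := slots_step fs1 315285 287 315572 s1u1097 s1c1098 rfl
theorem s1u1099 : ∀ v, 1 ≤ v → v ≤ 315848 → fs1 v = true := slots_step fs1 315572 276 315848 s1u1098 s1c1099 rfl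
theorem s1u1100 : ∀ v, 1 ≤ v → v ≤ 316098 → fs1 v = true := slots_step fs1 315848 250 316098 s1u1099 s1c1100 rfl
theorem s1u1101 : ∀ v, 1 ≤ v → v ≤ 316389 → fs1 v = true := slots_step fs1 316098 291 316389 s1u1100 s1c1101 rfl
theorem s1u1102 : ∀ v, 1 ≤ v → v ≤ 316652 → fs1 v = true := slots_step fs1 316389 263 316652 s1u1101 s1c1102 rfl
theorem s1u1103 : ∀ v, 1 ≤ v → v ≤ 316941 → fs1 v = true := slots_step fs1 316652 289 316941 s1u1102 s1c1103 rfl
theorem s1u1104 : ∀ v, 1 ≤ v → v ≤ 317206 → fs1 v = true := slots_step fs1 316941 265 317206 s1u1103 s1c1104 rfl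
theorem s1u1105 : ∀ v, 1 ≤ v → v ≤ 317481 → fs1 v = true := slots_step fs1 317206 275 317481 s1u1104 s1c1105 rfl
theorem s1u1106 : ∀ v, 1 ≤ v → v ≤ 317761 → fs1 v = true := slots_step fs1 317481 280 317761 s1u1105 s1c1106 rfl
theorem s1u1107 : ∀ v, 1 ≤ v → v ≤ 318062 → fs1 v = true := slots_step fs1 317761 301 318062 s1u1106 s1c1107 rfl
theorem s1u1108 : ∀ v, 1 ≤ v → v ≤ 318333 → fs1 v = true := slots_step fs1 318062 271 318333 s1u1107 s1c1108 rfl
theorem s1u1109 : ∀ v, 1 ≤ v → v ≤ 318581 → fs1 v = true := slots_step fs1 318333 248 318581 s1u1108 s1c1109 rfl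
theorem s1u1110 : ∀ v, 1 ≤ v → v ≤ 318807 → fs1 v = true := slots_step fs1 318581 226 318807 s1u1109 s1c1110 rfl
theorem s1u1111 : ∀ v, 1 ≤ v → v ≤ 319025 → fs1 v = true := slots_step fs1 318807 218 319025 s1u1110 s1c1111 rfl
theorem s1u1112 : ∀ v, 1 ≤ v → v ≤ 319245 → fs1 v = true := slots_step fs1 319025 220 319245 s1u1111 s1c1112 rfl
theorem s1u1113 : ∀ v, 1 ≤ v → v ≤ 319465 → fs1 v = true := slots_step fs1 319245 220 319465 s1u1112 s1c1113 rfl
theorem s1u1114 : ∀ v, 1 ≤ v → v ≤ 319702 → fs1 v = true := slots_step fs1 319465 237 319702 s1u1113 s1c1114 rfl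
theorem s1u1115 : ∀ v, 1 ≤ v → v ≤ 319942 → fs1 v = true := slots_step fs1 319702 240 319942 s1u1114 s1c1115 rfl
theorem s1u1116 : ∀ v, 1 ≤ v → v ≤ 320172 → fs1 v = true := slots_step fs1 319942 230 320172 s1u1115 s1c1116 rfl
theorem s1u1117 : ∀ v, 1 ≤ v → v ≤ 320438 → fs1 v = true := slots_step fs1 320172 266 320438 s1u1116 s1c1117 rfl
theorem s1u1118 : ∀ v, 1 ≤ v → v ≤ 320671 → fs1 v = true := slots_step fs1 320438 233 320671 s1u1117 s1c1118 rfl
theorem s1u1119 : ∀ v, 1 ≤ v → v ≤ 320900 → fs1 v = true := slots_step fs1 320671 229 320900 s1u1118 s1c1119 rfl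
theorem s1u1120 : ∀ v, 1 ≤ v → v ≤ 321161 → fs1 v = true := slots_step fs1 320900 261 321161 s1u1119 s1c1120 rfl
theorem s1u1121 : ∀ v, 1 ≤ v → v ≤ 321412 → fs1 v = true := slots_step fs1 321161 251 321412 s1u1120 s1c1121 rfl
theorem s1u1122 : ∀ v, 1 ≤ v → v ≤ 321649 → fs1 v = true := slots_step fs1 321412 237 321649 s1u1121 s1c1122 rfl
theorem s1u1123 : ∀ v, 1 ≤ v → v ≤ 321892 → fs1 v = true := slots_step fs1 321649 243 321892 s1u1122 s1c1123 rfl
theorem s1u1124 : ∀ v, 1 ≤ v → v ≤ 322133 → fs1 v = true := slots_step fs1 321892 241 322133 s1u1123 s1c1124 rfl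
theorem s1u1125 : ∀ v, 1 ≤ v → v ≤ 322385 → fs1 v = true := slots_step fs1 322133 252 322385 s1u1124 s1c1125 rfl
theorem s1u1126 : ∀ v, 1 ≤ v → v ≤ 322616 → fs1 v = true := slots_step fs1 322385 231 322616 s1u1125 s1c1126 rfl
theorem s1u1127 : ∀ v, 1 ≤ v → v ≤ 322846 → fs1 v = true := slots_step fs1 322616 230 322846 s1u1126 s1c1127 rfl
theorem s1u1128 : ∀ v, 1 ≤ v → v ≤ 323098 → fs1 v = true := slots_step fs1 322846 252 323098 s1u1127 s1c1128 rfl
theorem s1u1129 : ∀ v, 1 ≤ v → v ≤ 323357 → fs1 v = true := slots_step fs1 323098 259 323357 s1u1128 s1c1129 rfl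
theorem s1u1130 : ∀ v, 1 ≤ v → v ≤ 323616 → fs1 v = true := slots_step fs1 323357 259 323616 s1u1129 s1c1130 rfl
theorem s1u1131 : ∀ v, 1 ≤ v → v ≤ 323905 → fs1 v = true := slots_step fs1 323616 289 323905 s1u1130 s1c1131 rfl
theorem s1u1132 : ∀ v, 1 ≤ v → v ≤ 324108 → fs1 v = true := slots_step fs1 323905 203 324108 s1u1131 s1c1132 rfl
theorem s1u1133 : ∀ v, 1 ≤ v → v ≤ 324358 → fs1 v = true := slots_step fs1 324108 250 324358 s1u1132 s1c1133 rfl
theorem s1u1134 : ∀ v, 1 ≤ v → v ≤ 324630 → fs1 v = true := slots_step fs1 324358 272 324630 s1u1133 s1c1134 rfl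
theorem s1u1135 : ∀ v, 1 ≤ v → v ≤ 324878 → fs1 v = true := slots_step fs1 324630 248 324878 s1u1134 s1c1135 rfl
theorem s1u1136 : ∀ v, 1 ≤ v → v ≤ 325137 → fs1 v = true := slots_step fs1 324878 259 325137 s1u1135 s1c1136 rfl
theorem s1u1137 : ∀ v, 1 ≤ v → v ≤ 325395 → fs1 v = true := slots_step fs1 325137 258 325395 s1u1136 s1c1137 rfl
theorem s1u1138 : ∀ v, 1 ≤ v → v ≤ 325652 → fs1 v = true := slots_step fs1 325395 257 325652 s1u1137 s1c1138 rfl
theorem s1u1139 : ∀ v, 1 ≤ v → v ≤ 325901 → fs1 v = true := slots_step fs1 325652 249 325901 s1u1138 s1c1139 rfl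
theorem s1u1140 : ∀ v, 1 ≤ v → v ≤ 326160 → fs1 v = true := slots_step fs1 325901 259 326160 s1u1139 s1c1140 rfl
theorem s1u1141 : ∀ v, 1 ≤ v → v ≤ 326402 → fs1 v = true := slots_step fs1 326160 242 326402 s1u1140 s1c1141 rfl
theorem s1u1142 : ∀ v, 1 ≤ v → v ≤ 326669 → fs1 v = true := slots_step fs1 326402 267 326669 s1u1141 s1c1142 rfl
theorem s1u1143 : ∀ v, 1 ≤ v → v ≤ 326915 → fs1 v = true := slots_step fs1 326669 246 326915 s1u1142 s1c1143 rfl
theorem s1u1144 : ∀ v, 1 ≤ v → v ≤ 327163 → fs1 v = true := slots_step fs1 326915 248 327163 s1u1143 s1c1144 rfl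
theorem s1u1145 : ∀ v, 1 ≤ v → v ≤ 327405 → fs1 v = true := slots_step fs1 327163 242 327405 s1u1144 s1c1145 rfl
theorem s1u1146 : ∀ v, 1 ≤ v → v ≤ 327644 → fs1 v = true := slots_step fs1 327405 239 327644 s1u1145 s1c1146 rfl
theorem s1u1147 : ∀ v, 1 ≤ v → v ≤ 327880 → fs1 v = true := slots_step fs1 327644 236 327880 s1u1146 s1c1147 rfl
theorem s1u1148 : ∀ v, 1 ≤ v → v ≤ 328113 → fs1 v = true := slots_step fs1 327880 233 328113 s1u1147 s1c1148 rfl
theorem s1u1149 : ∀ v, 1 ≤ v → v ≤ 328412 → fs1 v = true := slots_step fs1 328113 299 328412 s1u1148 s1c1149 rfl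
theorem s1u1150 : ∀ v, 1 ≤ v → v ≤ 328695 → fs1 v = true := slots_step fs1 328412 283 328695 s1u1149 s1c1150 rfl
theorem s1u1151 : ∀ v, 1 ≤ v → v ≤ 328950 → fs1 v = true := slots_step fs1 328695 255 328950 s1u1150 s1c1151 rfl
theorem s1u1152 : ∀ v, 1 ≤ v → v ≤ 329195 → fs1 v = true := slots_step fs1 328950 245 329195 s1u1151 s1c1152 rfl
theorem s1u1153 : ∀ v, 1 ≤ v → v ≤ 329473 → fs1 v = true := slots_step fs1 329195 278 329473 s1u1152 s1c1153 rfl
theorem s1u1154 : ∀ v, 1 ≤ v → v ≤ 329738 → fs1 v = true := slots_step fs1 329473 265 329738 s1u1153 s1c1154 rfl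
theorem s1u1155 : ∀ v, 1 ≤ v → v ≤ 329982 → fs1 v = true := slots_step fs1 329738 244 329982 s1u1154 s1c1155 rfl
theorem s1u1156 : ∀ v, 1 ≤ v → v ≤ 330270 → fs1 v = true := slots_step fs1 329982 288 330270 s1u1155 s1c1156 rfl
theorem s1u1157 : ∀ v, 1 ≤ v → v ≤ 330563 → fs1 v = true := slots_step fs1 330270 293 330563 s1u1156 s1c1157 rfl
theorem s1u1158 : ∀ v, 1 ≤ v → v ≤ 330860 → fs1 v = true := slots_step fs1 330563 297 330860 s1u1157 s1c1158 rfl
theorem s1u1159 : ∀ v, 1 ≤ v → v ≤ 331113 → fs1 v = true := slots_step fs1 330860 253 331113 s1u1158 s1c1159 rfl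
theorem s1u1160 : ∀ v, 1 ≤ v → v ≤ 331365 → fs1 v = true := slots_step fs1 331113 252 331365 s1u1159 s1c1160 rfl
theorem s1u1161 : ∀ v, 1 ≤ v → v ≤ 331644 → fs1 v = true := slots_step fs1 331365 279 331644 s1u1160 s1c1161 rfl
theorem s1u1162 : ∀ v, 1 ≤ v → v ≤ 331895 → fs1 v = true := slots_step fs1 331644 251 331895 s1u1161 s1c1162 rfl
theorem s1u1163 : ∀ v, 1 ≤ v → v ≤ 332145 → fs1 v = true := slots_step fs1 331895 250 332145 s1u1162 s1c1163 rfl
theorem s1u1164 : ∀ v, 1 ≤ v → v ≤ 332394 → fs1 v = true := slots_step fs1 332145 249 332394 s1u1163 s1c1164 rfl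
theorem s1u1165 : ∀ v, 1 ≤ v → v ≤ 332663 → fs1 v = true := slots_step fs1 332394 269 332663 s1u1164 s1c1165 rfl
theorem s1u1166 : ∀ v, 1 ≤ v → v ≤ 332933 → fs1 v = true := slots_step fs1 332663 270 332933 s1u1165 s1c1166 rfl
theorem s1u1167 : ∀ v, 1 ≤ v → v ≤ 333189 → fs1 v = true := slots_step fs1 332933 256 333189 s1u1166 s1c1167 rfl
theorem s1u1168 : ∀ v, 1 ≤ v → v ≤ 333444 → fs1 v = true := slots_step fs1 333189 255 333444 s1u1167 s1c1168 rfl
theorem s1u1169 : ∀ v, 1 ≤ v → v ≤ 333724 → fs1 v = true := slots_step fs1 333444 280 333724 s1u1168 s1c1169 rfl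
theorem s1u1170 : ∀ v, 1 ≤ v → v ≤ 333981 → fs1 v = true := slots_step fs1 333724 257 333981 s1u1169 s1c1170 rfl
theorem s1u1171 : ∀ v, 1 ≤ v → v ≤ 334255 → fs1 v = true := slots_step fs1 333981 274 334255 s1u1170 s1c1171 rfl
theorem s1u1172 : ∀ v, 1 ≤ v → v ≤ 334527 → fs1 v = true := slots_step fs1 334255 272 334527 s1u1171 s1c1172 rfl
theorem s1u1173 : ∀ v, 1 ≤ v → v ≤ 334798 → fs1 v = true := slots_step fs1 334527 271 334798 s1u1172 s1c1173 rfl
theorem s1u1174 : ∀ v, 1 ≤ v → v ≤ 335087 → fs1 v = true := slots_step fs1 334798 289 335087 s1u1173 s1c1174 rfl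
theorem s1u1175 : ∀ v, 1 ≤ v → v ≤ 335374 → fs1 v = true := slots_step fs1 335087 287 335374 s1u1174 s1c1175 rfl
theorem s1u1176 : ∀ v, 1 ≤ v → v ≤ 335614 → fs1 v = true := slots_step fs1 335374 240 335614 s1u1175 s1c1176 rfl
theorem s1u1177 : ∀ v, 1 ≤ v → v ≤ 335835 → fs1 v = true := slots_step fs1 335614 221 335835 s1u1176 s1c1177 rfl
theorem s1u1178 : ∀ v, 1 ≤ v → v ≤ 336052 → fs1 v = true := slots_step fs1 335835 217 336052 s1u1177 s1c1178 rfl
theorem s1u1179 : ∀ v, 1 ≤ v → v ≤ 336271 → fs1 v = true := slots_step fs1 336052 219 336271 s1u1178 s1c1179 rfl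
theorem s1u1180 : ∀ v, 1 ≤ v → v ≤ 336489 → fs1 v = true := slots_step fs1 336271 218 336489 s1u1179 s1c1180 rfl
theorem s1u1181 : ∀ v, 1 ≤ v → v ≤ 336726 → fs1 v = true := slots_step fs1 336489 237 336726 s1u1180 s1c1181 rfl
theorem s1u1182 : ∀ v, 1 ≤ v → v ≤ 336951 → fs1 v = true := slots_step fs1 336726 225 336951 s1u1181 s1c1182 rfl
theorem s1u1183 : ∀ v, 1 ≤ v → v ≤ 337206 → fs1 v = true := slots_step fs1 336951 255 337206 s1u1182 s1c1183 rfl
theorem s1u1184 : ∀ v, 1 ≤ v → v ≤ 337435 → fs1 v = true := slots_step fs1 337206 229 337435 s1u1183 s1c1184 rfl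
theorem s1u1185 : ∀ v, 1 ≤ v → v ≤ 337679 → fs1 v = true := slots_step fs1 337435 244 337679 s1u1184 s1c1185 rfl
theorem s1u1186 : ∀ v, 1 ≤ v → v ≤ 337922 → fs1 v = true := slots_step fs1 337679 243 337922 s1u1185 s1c1186 rfl
theorem s1u1187 : ∀ v, 1 ≤ v → v ≤ 338163 → fs1 v = true := slots_step fs1 337922 241 338163 s1u1186 s1c1187 rfl
theorem s1u1188 : ∀ v, 1 ≤ v → v ≤ 338412 → fs1 v = true := slots_step fs1 338163 249 338412 s1u1187 s1c1188 rfl
theorem s1u1189 : ∀ v, 1 ≤ v → v ≤ 338641 → fs1 v = true := slots_step fs1 338412 229 338641 s1u1188 s1c1189 rfl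
theorem s1u1190 : ∀ v, 1 ≤ v → v ≤ 338875 → fs1 v = true := slots_step fs1 338641 234 338875 s1u1189 s1c1190 rfl
theorem s1u1191 : ∀ v, 1 ≤ v → v ≤ 339126 → fs1 v = true := slots_step fs1 338875 251 339126 s1u1190 s1c1191 rfl
theorem s1u1192 : ∀ v, 1 ≤ v → v ≤ 339377 → fs1 v = true := slots_step fs1 339126 251 339377 s1u1191 s1c1192 rfl
theorem s1u1193 : ∀ v, 1 ≤ v → v ≤ 339651 → fs1 v = true := slots_step fs1 339377 274 339651 s1u1192 s1c1193 rfl
theorem s1u1194 : ∀ v, 1 ≤ v → v ≤ 339865 → fs1 v = true := slots_step fs1 339651 214 339865 s1u1193 s1c1194 rfl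
theorem s1u1195 : ∀ v, 1 ≤ v → v ≤ 340132 → fs1 v = true := slots_step fs1 339865 267 340132 s1u1194 s1c1195 rfl
theorem s1u1196 : ∀ v, 1 ≤ v → v ≤ 340387 → fs1 v = true := slots_step fs1 340132 255 340387 s1u1195 s1c1196 rfl
theorem s1u1197 : ∀ v, 1 ≤ v → v ≤ 340634 → fs1 v = true := slots_step fs1 340387 247 340634 s1u1196 s1c1197 rfl
theorem s1u1198 : ∀ v, 1 ≤ v → v ≤ 340889 → fs1 v = true := slots_step fs1 340634 255 340889 s1u1197 s1c1198 rfl
theorem s1u1199 : ∀ v, 1 ≤ v → v ≤ 341140 → fs1 v = true := slots_step fs1 340889 251 341140 s1u1198 s1c1199 rfl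
theorem s1u1200 : ∀ v, 1 ≤ v → v ≤ 341385 → fs1 v = true := slots_step fs1 341140 245 341385 s1u1199 s1c1200 rfl
theorem s1u1201 : ∀ v, 1 ≤ v → v ≤ 341627 → fs1 v = true := slots_step fs1 341385 242 341627 s1u1200 s1c1201 rfl
theorem s1u1202 : ∀ v, 1 ≤ v → v ≤ 341867 → fs1 v = true := slots_step fs1 341627 240 341867 s1u1201 s1c1202 rfl
theorem s1u1203 : ∀ v, 1 ≤ v → v ≤ 342099 → fs1 v = true := slots_step fs1 341867 232 342099 s1u1202 s1c1203 rfl
theorem s1u1204 : ∀ v, 1 ≤ v → v ≤ 342361 → fs1 v = true := slots_step fs1 342099 262 342361 s1u1203 s1c1204 rfl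
theorem s1u1205 : ∀ v, 1 ≤ v → v ≤ 342645 → fs1 v = true := slots_step fs1 342361 284 342645 s1u1204 s1c1205 rfl
theorem s1u1206 : ∀ v, 1 ≤ v → v ≤ 342889 → fs1 v = true := slots_step fs1 342645 244 342889 s1u1205 s1c1206 rfl
theorem s1u1207 : ∀ v, 1 ≤ v → v ≤ 343151 → fs1 v = true := slots_step fs1 342889 262 343151 s1u1206 s1c1207 rfl
theorem s1u1208 : ∀ v, 1 ≤ v → v ≤ 343403 → fs1 v = true := slots_step fs1 343151 252 343403 s1u1207 s1c1208 rfl
theorem s1u1209 : ∀ v, 1 ≤ v → v ≤ 343688 → fs1 v = true := slots_step fs1 343403 285 343688 s1u1208 s1c1209 rfl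
theorem s1u1210 : ∀ v, 1 ≤ v → v ≤ 343989 → fs1 v = true := slots_step fs1 343688 301 343989 s1u1209 s1c1210 rfl
theorem s1u1211 : ∀ v, 1 ≤ v → v ≤ 344239 → fs1 v = true := slots_step fs1 343989 250 344239 s1u1210 s1c1211 rfl
theorem s1u1212 : ∀ v, 1 ≤ v → v ≤ 344499 → fs1 v = true := slots_step fs1 344239 260 344499 s1u1211 s1c1212 rfl
theorem s1u1213 : ∀ v, 1 ≤ v → v ≤ 344747 → fs1 v = true := slots_step fs1 344499 248 344747 s1u1212 s1c1213 rfl
theorem s1u1214 : ∀ v, 1 ≤ v → v ≤ 345003 → fs1 v = true := slots_step fs1 344747 256 345003 s1u1213 s1c1214 rfl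
theorem s1u1215 : ∀ v, 1 ≤ v → v ≤ 345264 → fs1 v = true := slots_step fs1 345003 261 345264 s1u1214 s1c1215 rfl
theorem s1u1216 : ∀ v, 1 ≤ v → v ≤ 345525 → fs1 v = true := slots_step fs1 345264 261 345525 s1u1215 s1c1216 rfl
theorem s1u1217 : ∀ v, 1 ≤ v → v ≤ 345796 → fs1 v = true := slots_step fs1 345525 271 345796 s1u1216 s1c1217 rfl
theorem s1u1218 : ∀ v, 1 ≤ v → v ≤ 346066 → fs1 v = true := slots_step fs1 345796 270 346066 s1u1217 s1c1218 rfl
theorem s1u1219 : ∀ v, 1 ≤ v → v ≤ 346359 → fs1 v = true := slots_step fs1 346066 293 346359 s1u1218 s1c1219 rfl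
theorem s1u1220 : ∀ v, 1 ≤ v → v ≤ 346600 → fs1 v = true := slots_step fs1 346359 241 346600 s1u1219 s1c1220 rfl
theorem s1u1221 : ∀ v, 1 ≤ v → v ≤ 346819 → fs1 v = true := slots_step fs1 346600 219 346819 s1u1220 s1c1221 rfl
theorem s1u1222 : ∀ v, 1 ≤ v → v ≤ 347036 → fs1 v = true := slots_step fs1 346819 217 347036 s1u1221 s1c1222 rfl
theorem s1u1223 : ∀ v, 1 ≤ v → v ≤ 347257 → fs1 v = true := slots_step fs1 347036 221 347257 s1u1222 s1c1223 rfl
theorem s1u1224 : ∀ v, 1 ≤ v → v ≤ 347487 → fs1 v = true := slots_step fs1 347257 230 347487 s1u1223 s1c1224 rfl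
theorem s1u1225 : ∀ v, 1 ≤ v → v ≤ 347729 → fs1 v = true := slots_step fs1 347487 242 347729 s1u1224 s1c1225 rfl
theorem s1u1226 : ∀ v, 1 ≤ v → v ≤ 347962 → fs1 v = true := slots_step fs1 347729 233 347962 s1u1225 s1c1226 rfl
theorem s1u1227 : ∀ v, 1 ≤ v → v ≤ 348203 → fs1 v = true := slots_step fs1 347962 241 348203 s1u1226 s1c1227 rfl
theorem s1u1228 : ∀ v, 1 ≤ v → v ≤ 348445 → fs1 v = true := slots_step fs1 348203 242 348445 s1u1227 s1c1228 rfl
theorem s1u1229 : ∀ v, 1 ≤ v → v ≤ 348684 → fs1 v = true := slots_step fs1 348445 239 348684 s1u1228 s1c1229 rfl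
theorem s1u1230 : ∀ v, 1 ≤ v → v ≤ 348930 → fs1 v = true := slots_step fs1 348684 246 348930 s1u1229 s1c1230 rfl
theorem s1u1231 : ∀ v, 1 ≤ v → v ≤ 349200 → fs1 v = true := slots_step fs1 348930 270 349200 s1u1230 s1c1231 rfl
theorem s1u1232 : ∀ v, 1 ≤ v → v ≤ 349461 → fs1 v = true := slots_step fs1 349200 261 349461 s1u1231 s1c1232 rfl
theorem s1u1233 : ∀ v, 1 ≤ v → v ≤ 349707 → fs1 v = true := slots_step fs1 349461 246 349707 s1u1232 s1c1233 rfl
theorem s1u1234 : ∀ v, 1 ≤ v → v ≤ 349954 → fs1 v = true := slots_step fs1 349707 247 349954 s1u1233 s1c1234 rfl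
theorem s1u1235 : ∀ v, 1 ≤ v → v ≤ 350196 → fs1 v = true := slots_step fs1 349954 242 350196 s1u1234 s1c1235 rfl
theorem s1u1236 : ∀ v, 1 ≤ v → v ≤ 350434 → fs1 v = true := slots_step fs1 350196 238 350434 s1u1235 s1c1236 rfl
theorem s1u1237 : ∀ v, 1 ≤ v → v ≤ 350675 → fs1 v = true := slots_step fs1 350434 241 350675 s1u1236 s1c1237 rfl
theorem s1u1238 : ∀ v, 1 ≤ v → v ≤ 350946 → fs1 v = true := slots_step fs1 350675 271 350946 s1u1237 s1c1238 rfl
theorem s1u1239 : ∀ v, 1 ≤ v → v ≤ 351196 → fs1 v = true := slots_step fs1 350946 250 351196 s1u1238 s1c1239 rfl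
theorem s1u1240 : ∀ v, 1 ≤ v → v ≤ 351439 → fs1 v = true := slots_step fs1 351196 243 351439 s1u1239 s1c1240 rfl
theorem s1u1241 : ∀ v, 1 ≤ v → v ≤ 351704 → fs1 v = true := slots_step fs1 351439 265 351704 s1u1240 s1c1241 rfl
theorem s1u1242 : ∀ v, 1 ≤ v → v ≤ 351953 → fs1 v = true := slots_step fs1 351704 249 351953 s1u1241 s1c1242 rfl
theorem s1u1243 : ∀ v, 1 ≤ v → v ≤ 352213 → fs1 v = true := slots_step fs1 351953 260 352213 s1u1242 s1c1243 rfl
theorem s1u1244 : ∀ v, 1 ≤ v → v ≤ 352498 → fs1 v = true := slots_step fs1 352213 285 352498 s1u1243 s1c1244 rfl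
theorem s1u1245 : ∀ v, 1 ≤ v → v ≤ 352742 → fs1 v = true := slots_step fs1 352498 244 352742 s1u1244 s1c1245 rfl
theorem s1u1246 : ∀ v, 1 ≤ v → v ≤ 352965 → fs1 v = true := slots_step fs1 352742 223 352965 s1u1245 s1c1246 rfl
theorem s1u1247 : ∀ v, 1 ≤ v → v ≤ 353193 → fs1 v = true := slots_step fs1 352965 228 353193 s1u1246 s1c1247 rfl
theorem s1u1248 : ∀ v, 1 ≤ v → v ≤ 353426 → fs1 v = true := slots_step fs1 353193 233 353426 s1u1247 s1c1248 rfl
theorem s1u1249 : ∀ v, 1 ≤ v → v ≤ 353657 → fs1 v = true := slots_step fs1 353426 231 353657 s1u1248 s1c1249 rfl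
theorem s1u1250 : ∀ v, 1 ≤ v → v ≤ 353897 → fs1 v = true := slots_step fs1 353657 240 353897 s1u1249 s1c1250 rfl
theorem s1u1251 : ∀ v, 1 ≤ v → v ≤ 354159 → fs1 v = true := slots_step fs1 353897 262 354159 s1u1250 s1c1251 rfl
theorem s1u1252 : ∀ v, 1 ≤ v → v ≤ 354409 → fs1 v = true := slots_step fs1 354159 250 354409 s1u1251 s1c1252 rfl
theorem s1u1253 : ∀ v, 1 ≤ v → v ≤ 354644 → fs1 v = true := slots_step fs1 354409 235 354644 s1u1252 s1c1253 rfl
theorem s1u1254 : ∀ v, 1 ≤ v → v ≤ 354877 → fs1 v = true := slots_step fs1 354644 233 354877 s1u1253 s1c1254 rfl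
theorem s1u1255 : ∀ v, 1 ≤ v → v ≤ 355138 → fs1 v = true := slots_step fs1 354877 261 355138 s1u1254 s1c1255 rfl
theorem s1u1256 : ∀ v, 1 ≤ v → v ≤ 355396 → fs1 v = true := slots_step fs1 355138 258 355396 s1u1255 s1c1256 rfl
theorem s1u1257 : ∀ v, 1 ≤ v → v ≤ 355657 → fs1 v = true := slots_step fs1 355396 261 355657 s1u1256 s1c1257 rfl
theorem s1u1258 : ∀ v, 1 ≤ v → v ≤ 355885 → fs1 v = true := slots_step fs1 355657 228 355885 s1u1257 s1c1258 rfl
theorem s1u1259 : ∀ v, 1 ≤ v → v ≤ 356115 → fs1 v = true := slots_step fs1 355885 230 356115 s1u1258 s1c1259 rfl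
theorem s1u1260 : ∀ v, 1 ≤ v → v ≤ 356365 → fs1 v = true := slots_step fs1 356115 250 356365 s1u1259 s1c1260 rfl
theorem s1u1261 : ∀ v, 1 ≤ v → v ≤ 356594 → fs1 v = true := slots_step fs1 356365 229 356594 s1u1260 s1c1261 rfl
theorem s1u1262 : ∀ v, 1 ≤ v → v ≤ 356843 → fs1 v = true := slots_step fs1 356594 249 356843 s1u1261 s1c1262 rfl
theorem s1u1263 : ∀ v, 1 ≤ v → v ≤ 357075 → fs1 v = true := slots_step fs1 356843 232 357075 s1u1262 s1c1263 rfl
theorem s1u1264 : ∀ v, 1 ≤ v → v ≤ 357304 → fs1 v = true := slots_step fs1 357075 229 357304 s1u1263 s1c1264 rfl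
theorem s1u1265 : ∀ v, 1 ≤ v → v ≤ 357465 → fs1 v = true := slots_step fs1 357304 161 357465 s1u1264 s1c1265 rfl
theorem s2u0 : ∀ v, 1 ≤ v → v ≤ 253 → fs2 v = true := slots_step fs2 0 253 253 (slots_zero fs2) s2c0 rfl
theorem s2u1 : ∀ v, 1 ≤ v → v ≤ 525 → fs2 v = true := slots_step fs2 253 272 525 s2u0 s2c1 rfl
theorem s2u2 : ∀ v, 1 ≤ v → v ≤ 781 → fs2 v = true := slots_step fs2 525 256 781 s2u1 s2c2 rfl
theorem s2u3 : ∀ v, 1 ≤ v → v ≤ 1040 → fs2 v = true := slots_step fs2 781 259 1040 s2u2 s2c3 rfl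
theorem s2u4 : ∀ v, 1 ≤ v → v ≤ 1303 → fs2 v = true := slots_step fs2 1040 263 1303 s2u3 s2c4 rfl
theorem s2u5 : ∀ v, 1 ≤ v → v ≤ 1572 → fs2 v = true := slots_step fs2 1303 269 1572 s2u4 s2c5 rfl
theorem s2u6 : ∀ v, 1 ≤ v → v ≤ 1842 → fs2 v = true := slots_step fs2 1572 270 1842 s2u5 s2c6 rfl
theorem s2u7 : ∀ v, 1 ≤ v → v ≤ 2112 → fs2 v = true := slots_step fs2 1842 270 2112 s2u6 s2c7 rfl
theorem s2u8 : ∀ v, 1 ≤ v → v ≤ 2385 → fs2 v = true := slots_step fs2 2112 273 2385 s2u7 s2c8 rfl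
theorem s2u9 : ∀ v, 1 ≤ v → v ≤ 2663 → fs2 v = true := slots_step fs2 2385 278 2663 s2u8 s2c9 rfl
theorem s2u10 : ∀ v, 1 ≤ v → v ≤ 2930 → fs2 v = true := slots_step fs2 2663 267 2930 s2u9 s2c10 rfl
theorem s2u11 : ∀ v, 1 ≤ v → v ≤ 3206 → fs2 v = true := slots_step fs2 2930 276 3206 s2u10 s2c11 rfl
theorem s2u12 : ∀ v, 1 ≤ v → v ≤ 3485 → fs2 v = true := slots_step fs2 3206 279 3485 s2u11 s2c12 rfl
theorem s2u13 : ∀ v, 1 ≤ v → v ≤ 3758 → fs2 v = true := slots_step fs2 3485 273 3758 s2u12 s2c13 rfl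
theorem s2u14 : ∀ v, 1 ≤ v → v ≤ 4037 → fs2 v = true := slots_step fs2 3758 279 4037 s2u13 s2c14 rfl
theorem s2u15 : ∀ v, 1 ≤ v → v ≤ 4311 → fs2 v = true := slots_step fs2 4037 274 4311 s2u14 s2c15 rfl
theorem s2u16 : ∀ v, 1 ≤ v → v ≤ 4597 → fs2 v = true := slots_step fs2 4311 286 4597 s2u15 s2c16 rfl
theorem s2u17 : ∀ v, 1 ≤ v → v ≤ 4886 → fs2 v = true := slots_step fs2 4597 289 4886 s2u16 s2c17 rfl
theorem s2u18 : ∀ v, 1 ≤ v → v ≤ 5174 → fs2 v = true := slots_step fs2 4886 288 5174 s2u17 s2c18 rfl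
theorem s2u19 : ∀ v, 1 ≤ v → v ≤ 5460 → fs2 v = true := slots_step fs2 5174 286 5460 s2u18 s2c19 rfl
theorem s2u20 : ∀ v, 1 ≤ v → v ≤ 5726 → fs2 v = true := slots_step fs2 5460 266 5726 s2u19 s2c20 rfl
theorem s2u21 : ∀ v, 1 ≤ v → v ≤ 6040 → fs2 v = true := slots_step fs2 5726 314 6040 s2u20 s2c21 rfl
theorem s2u22 : ∀ v, 1 ≤ v → v ≤ 6318 → fs2 v = true := slots_step fs2 6040 278 6318 s2u21 s2c22 rfl
theorem s2u23 : ∀ v, 1 ≤ v → v ≤ 6603 → fs2 v = true := slots_step fs2 6318 285 6603 s2u22 s2c23 rfl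
theorem s2u24 : ∀ v, 1 ≤ v → v ≤ 6925 → fs2 v = true := slots_step fs2 6603 322 6925 s2u23 s2c24 rfl
theorem s2u25 : ∀ v, 1 ≤ v → v ≤ 7194 → fs2 v = true := slots_step fs2 6925 269 7194 s2u24 s2c25 rfl
theorem s2u26 : ∀ v, 1 ≤ v → v ≤ 7478 → fs2 v = true := slots_step fs2 7194 284 7478 s2u25 s2c26 rfl
theorem s2u27 : ∀ v, 1 ≤ v → v ≤ 7762 → fs2 v = true := slots_step fs2 7478 284 7762 s2u26 s2c27 rfl
theorem s2u28 : ∀ v, 1 ≤ v → v ≤ 8033 → fs2 v = true := slots_step fs2 7762 271 8033 s2u27 s2c28 rfl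
theorem s2u29 : ∀ v, 1 ≤ v → v ≤ 8373 → fs2 v = true := slots_step fs2 8033 340 8373 s2u28 s2c29 rfl
theorem s2u30 : ∀ v, 1 ≤ v → v ≤ 8662 → fs2 v = true := slots_step fs2 8373 289 8662 s2u29 s2c30 rfl
theorem s2u31 : ∀ v, 1 ≤ v → v ≤ 8922 → fs2 v = true := slots_step fs2 8662 260 8922 s2u30 s2c31 rfl
theorem s2u32 : ∀ v, 1 ≤ v → v ≤ 9235 → fs2 v = true := slots_step fs2 8922 313 9235 s2u31 s2c32 rfl
theorem s2u33 : ∀ v, 1 ≤ v → v ≤ 9587 → fs2 v = true := slots_step fs2 9235 352 9587 s2u32 s2c33 rfl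
theorem s2u34 : ∀ v, 1 ≤ v → v ≤ 9869 → fs2 v = true := slots_step fs2 9587 282 9869 s2u33 s2c34 rfl
theorem s2u35 : ∀ v, 1 ≤ v → v ≤ 10145 → fs2 v = true := slots_step fs2 9869 276 10145 s2u34 s2c35 rfl
theorem s2u36 : ∀ v, 1 ≤ v → v ≤ 10436 → fs2 v = true := slots_step fs2 10145 291 10436 s2u35 s2c36 rfl
theorem s2u37 : ∀ v, 1 ≤ v → v ≤ 10704 → fs2 v = true := slots_step fs2 10436 268 10704 s2u36 s2c37 rfl
theorem s2u38 : ∀ v, 1 ≤ v → v ≤ 10972 → fs2 v = true := slots_step fs2 10704 268 10972 s2u37 s2c38 rfl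
theorem s2u39 : ∀ v, 1 ≤ v → v ≤ 11252 → fs2 v = true := slots_step fs2 10972 280 11252 s2u38 s2c39 rfl
theorem s2u40 : ∀ v, 1 ≤ v → v ≤ 11533 → fs2 v = true := slots_step fs2 11252 281 11533 s2u39 s2c40 rfl
theorem s2u41 : ∀ v, 1 ≤ v → v ≤ 11799 → fs2 v = true := slots_step fs2 11533 266 11799 s2u40 s2c41 rfl
theorem s2u42 : ∀ v, 1 ≤ v → v ≤ 12065 → fs2 v = true := slots_step fs2 11799 266 12065 s2u41 s2c42 rfl
theorem s2u43 : ∀ v, 1 ≤ v → v ≤ 12344 → fs2 v = true := slots_step fs2 12065 279 12344 s2u42 s2c43 rfl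
theorem s2u44 : ∀ v, 1 ≤ v → v ≤ 12649 → fs2 v = true := slots_step fs2 12344 305 12649 s2u43 s2c44 rfl
theorem s2u45 : ∀ v, 1 ≤ v → v ≤ 12913 → fs2 v = true := slots_step fs2 12649 264 12913 s2u44 s2c45 rfl
theorem s2u46 : ∀ v, 1 ≤ v → v ≤ 13194 → fs2 v = true := slots_step fs2 12913 281 13194 s2u45 s2c46 rfl
theorem s2u47 : ∀ v, 1 ≤ v → v ≤ 13469 → fs2 v = true := slots_step fs2 13194 275 13469 s2u46 s2c47 rfl
theorem s2u48 : ∀ v, 1 ≤ v → v ≤ 13739 → fs2 v = true := slots_step fs2 13469 270 13739 s2u47 s2c48 rfl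
theorem s2u49 : ∀ v, 1 ≤ v → v ≤ 14017 → fs2 v = true := slots_step fs2 13739 278 14017 s2u48 s2c49 rfl
theorem s2u50 : ∀ v, 1 ≤ v → v ≤ 14287 → fs2 v = true := slots_step fs2 14017 270 14287 s2u49 s2c50 rfl
theorem s2u51 : ∀ v, 1 ≤ v → v ≤ 14603 → fs2 v = true := slots_step fs2 14287 316 14603 s2u50 s2c51 rfl
theorem s2u52 : ∀ v, 1 ≤ v → v ≤ 14884 → fs2 v = true := slots_step fs2 14603 281 14884 s2u51 s2c52 rfl
theorem s2u53 : ∀ v, 1 ≤ v → v ≤ 15159 → fs2 v = true := slots_step fs2 14884 275 15159 s2u52 s2c53 rfl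
theorem s2u54 : ∀ v, 1 ≤ v → v ≤ 15432 → fs2 v = true := slots_step fs2 15159 273 15432 s2u53 s2c54 rfl
theorem s2u55 : ∀ v, 1 ≤ v → v ≤ 15715 → fs2 v = true := slots_step fs2 15432 283 15715 s2u54 s2c55 rfl
theorem s2u56 : ∀ v, 1 ≤ v → v ≤ 15991 → fs2 v = true := slots_step fs2 15715 276 15991 s2u55 s2c56 rfl
theorem s2u57 : ∀ v, 1 ≤ v → v ≤ 16327 → fs2 v = true := slots_step fs2 15991 336 16327 s2u56 s2c57 rfl
theorem s2u58 : ∀ v, 1 ≤ v → v ≤ 16636 → fs2 v = true := slots_step fs2 16327 309 16636 s2u57 s2c58 rfl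
theorem s2u59 : ∀ v, 1 ≤ v → v ≤ 16906 → fs2 v = true := slots_step fs2 16636 270 16906 s2u58 s2c59 rfl
theorem s2u60 : ∀ v, 1 ≤ v → v ≤ 17195 → fs2 v = true := slots_step fs2 16906 289 17195 s2u59 s2c60 rfl
theorem s2u61 : ∀ v, 1 ≤ v → v ≤ 17495 → fs2 v = true := slots_step fs2 17195 300 17495 s2u60 s2c61 rfl
theorem s2u62 : ∀ v, 1 ≤ v → v ≤ 17760 → fs2 v = true := slots_step fs2 17495 265 17760 s2u61 s2c62 rfl
theorem s2u63 : ∀ v, 1 ≤ v → v ≤ 18040 → fs2 v = true := slots_step fs2 17760 280 18040 s2u62 s2c63 rfl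
theorem s2u64 : ∀ v, 1 ≤ v → v ≤ 18345 → fs2 v = true := slots_step fs2 18040 305 18345 s2u63 s2c64 rfl
theorem s2u65 : ∀ v, 1 ≤ v → v ≤ 18631 → fs2 v = true := slots_step fs2 18345 286 18631 s2u64 s2c65 rfl
theorem s2u66 : ∀ v, 1 ≤ v → v ≤ 18974 → fs2 v = true := slots_step fs2 18631 343 18974 s2u65 s2c66 rfl
theorem s2u67 : ∀ v, 1 ≤ v → v ≤ 19247 → fs2 v = true := slots_step fs2 18974 273 19247 s2u66 s2c67 rfl
theorem s2u68 : ∀ v, 1 ≤ v → v ≤ 19536 → fs2 v = true := slots_step fs2 19247 289 19536 s2u67 s2c68 rfl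
theorem s2u69 : ∀ v, 1 ≤ v → v ≤ 19803 → fs2 v = true := slots_step fs2 19536 267 19803 s2u68 s2c69 rfl
theorem s2u70 : ∀ v, 1 ≤ v → v ≤ 20093 → fs2 v = true := slots_step fs2 19803 290 20093 s2u69 s2c70 rfl
theorem s2u71 : ∀ v, 1 ≤ v → v ≤ 20384 → fs2 v = true := slots_step fs2 20093 291 20384 s2u70 s2c71 rfl
theorem s2u72 : ∀ v, 1 ≤ v → v ≤ 20683 → fs2 v = true := slots_step fs2 20384 299 20683 s2u71 s2c72 rfl
theorem s2u73 : ∀ v, 1 ≤ v → v ≤ 20956 → fs2 v = true := slots_step fs2 20683 273 20956 s2u72 s2c73 rfl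
theorem s2u74 : ∀ v, 1 ≤ v → v ≤ 21305 → fs2 v = true := slots_step fs2 20956 349 21305 s2u73 s2c74 rfl
theorem s2u75 : ∀ v, 1 ≤ v → v ≤ 21660 → fs2 v = true := slots_step fs2 21305 355 21660 s2u74 s2c75 rfl
theorem s2u76 : ∀ v, 1 ≤ v → v ≤ 21984 → fs2 v = true := slots_step fs2 21660 324 21984 s2u75 s2c76 rfl
theorem s2u77 : ∀ v, 1 ≤ v → v ≤ 22246 → fs2 v = true := slots_step fs2 21984 262 22246 s2u76 s2c77 rfl
theorem s2u78 : ∀ v, 1 ≤ v → v ≤ 22583 → fs2 v = true := slots_step fs2 22246 337 22583 s2u77 s2c78 rfl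
theorem s2u79 : ∀ v, 1 ≤ v → v ≤ 22855 → fs2 v = true := slots_step fs2 22583 272 22855 s2u78 s2c79 rfl
theorem s2u80 : ∀ v, 1 ≤ v → v ≤ 23187 → fs2 v = true := slots_step fs2 22855 332 23187 s2u79 s2c80 rfl
theorem s2u81 : ∀ v, 1 ≤ v → v ≤ 23463 → fs2 v = true := slots_step fs2 23187 276 23463 s2u80 s2c81 rfl
theorem s2u82 : ∀ v, 1 ≤ v → v ≤ 23736 → fs2 v = true := slots_step fs2 23463 273 23736 s2u81 s2c82 rfl
theorem s2u83 : ∀ v, 1 ≤ v → v ≤ 24064 → fs2 v = true := slots_step fs2 23736 328 24064 s2u82 s2c83 rfl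
theorem s2u84 : ∀ v, 1 ≤ v → v ≤ 24390 → fs2 v = true := slots_step fs2 24064 326 24390 s2u83 s2c84 rfl
theorem s2u85 : ∀ v, 1 ≤ v → v ≤ 24682 → fs2 v = true := slots_step fs2 24390 292 24682 s2u84 s2c85 rfl
theorem s2u86 : ∀ v, 1 ≤ v → v ≤ 25009 → fs2 v = true := slots_step fs2 24682 327 25009 s2u85 s2c86 rfl
theorem s2u87 : ∀ v, 1 ≤ v → v ≤ 25343 → fs2 v = true := slots_step fs2 25009 334 25343 s2u86 s2c87 rfl
theorem s2u88 : ∀ v, 1 ≤ v → v ≤ 25628 → fs2 v = true := slots_step fs2 25343 285 25628 s2u87 s2c88 rfl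
theorem s2u89 : ∀ v, 1 ≤ v → v ≤ 25912 → fs2 v = true := slots_step fs2 25628 284 25912 s2u88 s2c89 rfl
theorem s2u90 : ∀ v, 1 ≤ v → v ≤ 26184 → fs2 v = true := slots_step fs2 25912 272 26184 s2u89 s2c90 rfl
theorem s2u91 : ∀ v, 1 ≤ v → v ≤ 26454 → fs2 v = true := slots_step fs2 26184 270 26454 s2u90 s2c91 rfl
theorem s2u92 : ∀ v, 1 ≤ v → v ≤ 26768 → fs2 v = true := slots_step fs2 26454 314 26768 s2u91 s2c92 rfl
theorem s2u93 : ∀ v, 1 ≤ v → v ≤ 27091 → fs2 v = true := slots_step fs2 26768 323 27091 s2u92 s2c93 rfl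
theorem s2u94 : ∀ v, 1 ≤ v → v ≤ 27412 → fs2 v = true := slots_step fs2 27091 321 27412 s2u93 s2c94 rfl
theorem s2u95 : ∀ v, 1 ≤ v → v ≤ 27717 → fs2 v = true := slots_step fs2 27412 305 27717 s2u94 s2c95 rfl
theorem s2u96 : ∀ v, 1 ≤ v → v ≤ 27984 → fs2 v = true := slots_step fs2 27717 267 27984 s2u95 s2c96 rfl
theorem s2u97 : ∀ v, 1 ≤ v → v ≤ 28336 → fs2 v = true := slots_step fs2 27984 352 28336 s2u96 s2c97 rfl
theorem s2u98 : ∀ v, 1 ≤ v → v ≤ 28742 → fs2 v = true := slots_step fs2 28336 406 28742 s2u97 s2c98 rfl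
theorem s2u99 : ∀ v, 1 ≤ v → v ≤ 29175 → fs2 v = true := slots_step fs2 28742 433 29175 s2u98 s2c99 rfl
theorem s2u100 : ∀ v, 1 ≤ v → v ≤ 29435 → fs2 v = true := slots_step fs2 29175 260 29435 s2u99 s2c100 rfl
theorem s2u101 : ∀ v, 1 ≤ v → v ≤ 29696 → fs2 v = true := slots_step fs2 29435 261 29696 s2u100 s2c101 rfl
theorem s2u102 : ∀ v, 1 ≤ v → v ≤ 30054 → fs2 v = true := slots_step fs2 29696 358 30054 s2u101 s2c102 rfl
theorem s2u103 : ∀ v, 1 ≤ v → v ≤ 30392 → fs2 v = true := slots_step fs2 30054 338 30392 s2u102 s2c103 rfl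
theorem s2u104 : ∀ v, 1 ≤ v → v ≤ 30703 → fs2 v = true := slots_step fs2 30392 311 30703 s2u103 s2c104 rfl
theorem s2u105 : ∀ v, 1 ≤ v → v ≤ 31037 → fs2 v = true := slots_step fs2 30703 334 31037 s2u104 s2c105 rfl
theorem s2u106 : ∀ v, 1 ≤ v → v ≤ 31303 → fs2 v = true := slots_step fs2 31037 266 31303 s2u105 s2c106 rfl
theorem s2u107 : ∀ v, 1 ≤ v → v ≤ 31598 → fs2 v = true := slots_step fs2 31303 295 31598 s2u106 s2c107 rfl
theorem s2u108 : ∀ v, 1 ≤ v → v ≤ 31879 → fs2 v = true := slots_step fs2 31598 281 31879 s2u107 s2c108 rfl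
theorem s2u109 : ∀ v, 1 ≤ v → v ≤ 32240 → fs2 v = true := slots_step fs2 31879 361 32240 s2u108 s2c109 rfl
theorem s2u110 : ∀ v, 1 ≤ v → v ≤ 32588 → fs2 v = true := slots_step fs2 32240 348 32588 s2u109 s2c110 rfl
theorem s2u111 : ∀ v, 1 ≤ v → v ≤ 32914 → fs2 v = true := slots_step fs2 32588 326 32914 s2u110 s2c111 rfl
theorem s2u112 : ∀ v, 1 ≤ v → v ≤ 33213 → fs2 v = true := slots_step fs2 32914 299 33213 s2u111 s2c112 rfl
theorem s2u113 : ∀ v, 1 ≤ v → v ≤ 33577 → fs2 v = true := slots_step fs2 33213 364 33577 s2u112 s2c113 rfl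
theorem s2u114 : ∀ v, 1 ≤ v → v ≤ 33947 → fs2 v = true := slots_step fs2 33577 370 33947 s2u113 s2c114 rfl
theorem s2u115 : ∀ v, 1 ≤ v → v ≤ 34224 → fs2 v = true := slots_step fs2 33947 277 34224 s2u114 s2c115 rfl
theorem s2u116 : ∀ v, 1 ≤ v → v ≤ 34522 → fs2 v = true := slots_step fs2 34224 298 34522 s2u115 s2c116 rfl
theorem s2u117 : ∀ v, 1 ≤ v → v ≤ 34808 → fs2 v = true := slots_step fs2 34522 286 34808 s2u116 s2c117 rfl
theorem s2u118 : ∀ v, 1 ≤ v → v ≤ 35090 → fs2 v = true := slots_step fs2 34808 282 35090 s2u117 s2c118 rfl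
theorem s2u119 : ∀ v, 1 ≤ v → v ≤ 35361 → fs2 v = true := slots_step fs2 35090 271 35361 s2u118 s2c119 rfl
theorem s2u120 : ∀ v, 1 ≤ v → v ≤ 35627 → fs2 v = true := slots_step fs2 35361 266 35627 s2u119 s2c120 rfl
theorem s2u121 : ∀ v, 1 ≤ v → v ≤ 35957 → fs2 v = true := slots_step fs2 35627 330 35957 s2u120 s2c121 rfl
theorem s2u122 : ∀ v, 1 ≤ v → v ≤ 36290 → fs2 v = true := slots_step fs2 35957 333 36290 s2u121 s2c122 rfl
theorem s2u123 : ∀ v, 1 ≤ v → v ≤ 36640 → fs2 v = true := slots_step fs2 36290 350 36640 s2u122 s2c123 rfl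
theorem s2u124 : ∀ v, 1 ≤ v → v ≤ 37012 → fs2 v = true := slots_step fs2 36640 372 37012 s2u123 s2c124 rfl
theorem s2u125 : ∀ v, 1 ≤ v → v ≤ 37316 → fs2 v = true := slots_step fs2 37012 304 37316 s2u124 s2c125 rfl
theorem s2u126 : ∀ v, 1 ≤ v → v ≤ 37607 → fs2 v = true := slots_step fs2 37316 291 37607 s2u125 s2c126 rfl
theorem s2u127 : ∀ v, 1 ≤ v → v ≤ 37889 → fs2 v = true := slots_step fs2 37607 282 37889 s2u126 s2c127 rfl
theorem s2u128 : ∀ v, 1 ≤ v → v ≤ 38286 → fs2 v = true := slots_step fs2 37889 397 38286 s2u127 s2c128 rfl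
theorem s2u129 : ∀ v, 1 ≤ v → v ≤ 38720 → fs2 v = true := slots_step fs2 38286 434 38720 s2u128 s2c129 rfl
theorem s2u130 : ∀ v, 1 ≤ v → v ≤ 39201 → fs2 v = true := slots_step fs2 38720 481 39201 s2u129 s2c130 rfl
theorem s2u131 : ∀ v, 1 ≤ v → v ≤ 39494 → fs2 v = true := slots_step fs2 39201 293 39494 s2u130 s2c131 rfl
theorem s2u132 : ∀ v, 1 ≤ v → v ≤ 39765 → fs2 v = true := slots_step fs2 39494 271 39765 s2u131 s2c132 rfl
theorem s2u133 : ∀ v, 1 ≤ v → v ≤ 40047 → fs2 v = true := slots_step fs2 39765 282 40047 s2u132 s2c133 rfl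
theorem s2u134 : ∀ v, 1 ≤ v → v ≤ 40413 → fs2 v = true := slots_step fs2 40047 366 40413 s2u133 s2c134 rfl
theorem s2u135 : ∀ v, 1 ≤ v → v ≤ 40835 → fs2 v = true := slots_step fs2 40413 422 40835 s2u134 s2c135 rfl
theorem s2u136 : ∀ v, 1 ≤ v → v ≤ 41122 → fs2 v = true := slots_step fs2 40835 287 41122 s2u135 s2c136 rfl
theorem s2u137 : ∀ v, 1 ≤ v → v ≤ 41510 → fs2 v = true := slots_step fs2 41122 388 41510 s2u136 s2c137 rfl
theorem s2u138 : ∀ v, 1 ≤ v → v ≤ 41831 → fs2 v = true := slots_step fs2 41510 321 41831 s2u137 s2c138 rfl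
theorem s2u139 : ∀ v, 1 ≤ v → v ≤ 42105 → fs2 v = true := slots_step fs2 41831 274 42105 s2u138 s2c139 rfl
theorem s2u140 : ∀ v, 1 ≤ v → v ≤ 42398 → fs2 v = true := slots_step fs2 42105 293 42398 s2u139 s2c140 rfl
theorem s2u141 : ∀ v, 1 ≤ v → v ≤ 42698 → fs2 v = true := slots_step fs2 42398 300 42698 s2u140 s2c141 rfl
theorem s2u142 : ∀ v, 1 ≤ v → v ≤ 42980 → fs2 v = true := slots_step fs2 42698 282 42980 s2u141 s2c142 rfl
theorem s2u143 : ∀ v, 1 ≤ v → v ≤ 43302 → fs2 v = true := slots_step fs2 42980 322 43302 s2u142 s2c143 rfl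
theorem s2u144 : ∀ v, 1 ≤ v → v ≤ 43700 → fs2 v = true := slots_step fs2 43302 398 43700 s2u143 s2c144 rfl
theorem s2u145 : ∀ v, 1 ≤ v → v ≤ 44080 → fs2 v = true := slots_step fs2 43700 380 44080 s2u144 s2c145 rfl
theorem s2u146 : ∀ v, 1 ≤ v → v ≤ 44454 → fs2 v = true := slots_step fs2 44080 374 44454 s2u145 s2c146 rfl
theorem s2u147 : ∀ v, 1 ≤ v → v ≤ 44754 → fs2 v = true := slots_step fs2 44454 300 44754 s2u146 s2c147 rfl
theorem s2u148 : ∀ v, 1 ≤ v → v ≤ 45059 → fs2 v = true := slots_step fs2 44754 305 45059 s2u147 s2c148 rfl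
theorem s2u149 : ∀ v, 1 ≤ v → v ≤ 45462 → fs2 v = true := slots_step fs2 45059 403 45462 s2u148 s2c149 rfl
theorem s2u150 : ∀ v, 1 ≤ v → v ≤ 45880 → fs2 v = true := slots_step fs2 45462 418 45880 s2u149 s2c150 rfl
theorem s2u151 : ∀ v, 1 ≤ v → v ≤ 46160 → fs2 v = true := slots_step fs2 45880 280 46160 s2u150 s2c151 rfl
theorem s2u152 : ∀ v, 1 ≤ v → v ≤ 46450 → fs2 v = true := slots_step fs2 46160 290 46450 s2u151 s2c152 rfl
theorem s2u153 : ∀ v, 1 ≤ v → v ≤ 46764 → fs2 v = true := slots_step fs2 46450 314 46764 s2u152 s2c153 rfl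
theorem s2u154 : ∀ v, 1 ≤ v → v ≤ 47046 → fs2 v = true := slots_step fs2 46764 282 47046 s2u153 s2c154 rfl
theorem s2u155 : ∀ v, 1 ≤ v → v ≤ 47352 → fs2 v = true := slots_step fs2 47046 306 47352 s2u154 s2c155 rfl
theorem s2u156 : ∀ v, 1 ≤ v → v ≤ 47623 → fs2 v = true := slots_step fs2 47352 271 47623 s2u155 s2c156 rfl
theorem s2u157 : ∀ v, 1 ≤ v → v ≤ 47896 → fs2 v = true := slots_step fs2 47623 273 47896 s2u156 s2c157 rfl
theorem s2u158 : ∀ v, 1 ≤ v → v ≤ 48166 → fs2 v = true := slots_step fs2 47896 270 48166 s2u157 s2c158 rfl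
theorem s2u159 : ∀ v, 1 ≤ v → v ≤ 48454 → fs2 v = true := slots_step fs2 48166 288 48454 s2u158 s2c159 rfl
theorem s2u160 : ∀ v, 1 ≤ v → v ≤ 48806 → fs2 v = true := slots_step fs2 48454 352 48806 s2u159 s2c160 rfl
theorem s2u161 : ∀ v, 1 ≤ v → v ≤ 49172 → fs2 v = true := slots_step fs2 48806 366 49172 s2u160 s2c161 rfl
theorem s2u162 : ∀ v, 1 ≤ v → v ≤ 49545 → fs2 v = true := slots_step fs2 49172 373 49545 s2u161 s2c162 rfl
theorem s2u163 : ∀ v, 1 ≤ v → v ≤ 49893 → fs2 v = true := slots_step fs2 49545 348 49893 s2u162 s2c163 rfl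
theorem s2u164 : ∀ v, 1 ≤ v → v ≤ 50302 → fs2 v = true := slots_step fs2 49893 409 50302 s2u163 s2c164 rfl
theorem s2u165 : ∀ v, 1 ≤ v → v ≤ 50622 → fs2 v = true := slots_step fs2 50302 320 50622 s2u164 s2c165 rfl
theorem s2u166 : ∀ v, 1 ≤ v → v ≤ 50937 → fs2 v = true := slots_step fs2 50622 315 50937 s2u165 s2c166 rfl
theorem s2u167 : ∀ v, 1 ≤ v → v ≤ 51217 → fs2 v = true := slots_step fs2 50937 280 51217 s2u166 s2c167 rfl
theorem s2u168 : ∀ v, 1 ≤ v → v ≤ 51528 → fs2 v = true := slots_step fs2 51217 311 51528 s2u167 s2c168 rfl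
theorem s2u169 : ∀ v, 1 ≤ v → v ≤ 51971 → fs2 v = true := slots_step fs2 51528 443 51971 s2u168 s2c169 rfl
theorem s2u170 : ∀ v, 1 ≤ v → v ≤ 52446 → fs2 v = true := slots_step fs2 51971 475 52446 s2u169 s2c170 rfl
theorem s2u171 : ∀ v, 1 ≤ v → v ≤ 52974 → fs2 v = true := slots_step fs2 52446 528 52974 s2u170 s2c171 rfl
theorem s2u172 : ∀ v, 1 ≤ v → v ≤ 53300 → fs2 v = true := slots_step fs2 52974 326 53300 s2u171 s2c172 rfl
theorem s2u173 : ∀ v, 1 ≤ v → v ≤ 53587 → fs2 v = true := slots_step fs2 53300 287 53587 s2u172 s2c173 rfl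
theorem s2u174 : ∀ v, 1 ≤ v → v ≤ 53861 → fs2 v = true := slots_step fs2 53587 274 53861 s2u173 s2c174 rfl
theorem s2u175 : ∀ v, 1 ≤ v → v ≤ 54166 → fs2 v = true := slots_step fs2 53861 305 54166 s2u174 s2c175 rfl
theorem s2u176 : ∀ v, 1 ≤ v → v ≤ 54526 → fs2 v = true := slots_step fs2 54166 360 54526 s2u175 s2c176 rfl
theorem s2u177 : ∀ v, 1 ≤ v → v ≤ 54986 → fs2 v = true := slots_step fs2 54526 460 54986 s2u176 s2c177 rfl
theorem s2u178 : ∀ v, 1 ≤ v → v ≤ 55376 → fs2 v = true := slots_step fs2 54986 390 55376 s2u177 s2c178 rfl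
theorem s2u179 : ∀ v, 1 ≤ v → v ≤ 55709 → fs2 v = true := slots_step fs2 55376 333 55709 s2u178 s2c179 rfl
theorem s2u180 : ∀ v, 1 ≤ v → v ≤ 56162 → fs2 v = true := slots_step fs2 55709 453 56162 s2u179 s2c180 rfl
theorem s2u181 : ∀ v, 1 ≤ v → v ≤ 56468 → fs2 v = true := slots_step fs2 56162 306 56468 s2u180 s2c181 rfl
theorem s2u182 : ∀ v, 1 ≤ v → v ≤ 56740 → fs2 v = true := slots_step fs2 56468 272 56740 s2u181 s2c182 rfl
theorem s2u183 : ∀ v, 1 ≤ v → v ≤ 57031 → fs2 v = true := slots_step fs2 56740 291 57031 s2u182 s2c183 rfl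
theorem s2u184 : ∀ v, 1 ≤ v → v ≤ 57342 → fs2 v = true := slots_step fs2 57031 311 57342 s2u183 s2c184 rfl
theorem s2u185 : ∀ v, 1 ≤ v → v ≤ 57649 → fs2 v = true := slots_step fs2 57342 307 57649 s2u184 s2c185 rfl
theorem s2u186 : ∀ v, 1 ≤ v → v ≤ 57932 → fs2 v = true := slots_step fs2 57649 283 57932 s2u185 s2c186 rfl
theorem s2u187 : ∀ v, 1 ≤ v → v ≤ 58233 → fs2 v = true := slots_step fs2 57932 301 58233 s2u186 s2c187 rfl
theorem s2u188 : ∀ v, 1 ≤ v → v ≤ 58546 → fs2 v = true := slots_step fs2 58233 313 58546 s2u187 s2c188 rfl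
theorem s2u189 : ∀ v, 1 ≤ v → v ≤ 58991 → fs2 v = true := slots_step fs2 58546 445 58991 s2u188 s2c189 rfl
theorem s2u190 : ∀ v, 1 ≤ v → v ≤ 59367 → fs2 v = true := slots_step fs2 58991 376 59367 s2u189 s2c190 rfl
theorem s2u191 : ∀ v, 1 ≤ v → v ≤ 59775 → fs2 v = true := slots_step fs2 59367 408 59775 s2u190 s2c191 rfl
theorem s2u192 : ∀ v, 1 ≤ v → v ≤ 60173 → fs2 v = true := slots_step fs2 59775 398 60173 s2u191 s2c192 rfl
theorem s2u193 : ∀ v, 1 ≤ v → v ≤ 60460 → fs2 v = true := slots_step fs2 60173 287 60460 s2u192 s2c193 rfl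
theorem s2u194 : ∀ v, 1 ≤ v → v ≤ 60813 → fs2 v = true := slots_step fs2 60460 353 60813 s2u193 s2c194 rfl
theorem s2u195 : ∀ v, 1 ≤ v → v ≤ 61158 → fs2 v = true := slots_step fs2 60813 345 61158 s2u194 s2c195 rfl
theorem s2u196 : ∀ v, 1 ≤ v → v ≤ 61648 → fs2 v = true := slots_step fs2 61158 490 61648 s2u195 s2c196 rfl
theorem s2u197 : ∀ v, 1 ≤ v → v ≤ 62049 → fs2 v = true := slots_step fs2 61648 401 62049 s2u196 s2c197 rfl
theorem s2u198 : ∀ v, 1 ≤ v → v ≤ 62333 → fs2 v = true := slots_step fs2 62049 284 62333 s2u197 s2c198 rfl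
theorem s2u199 : ∀ v, 1 ≤ v → v ≤ 62637 → fs2 v = true := slots_step fs2 62333 304 62637 s2u198 s2c199 rfl
theorem s2u200 : ∀ v, 1 ≤ v → v ≤ 62923 → fs2 v = true := slots_step fs2 62637 286 62923 s2u199 s2c200 rfl
theorem s2u201 : ∀ v, 1 ≤ v → v ≤ 63252 → fs2 v = true := slots_step fs2 62923 329 63252 s2u200 s2c201 rfl
theorem s2u202 : ∀ v, 1 ≤ v → v ≤ 63526 → fs2 v = true := slots_step fs2 63252 274 63526 s2u201 s2c202 rfl
theorem s2u203 : ∀ v, 1 ≤ v → v ≤ 63850 → fs2 v = true := slots_step fs2 63526 324 63850 s2u202 s2c203 rfl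
theorem s2u204 : ∀ v, 1 ≤ v → v ≤ 64156 → fs2 v = true := slots_step fs2 63850 306 64156 s2u203 s2c204 rfl
theorem s2u205 : ∀ v, 1 ≤ v → v ≤ 64417 → fs2 v = true := slots_step fs2 64156 261 64417 s2u204 s2c205 rfl
theorem s2u206 : ∀ v, 1 ≤ v → v ≤ 64695 → fs2 v = true := slots_step fs2 64417 278 64695 s2u205 s2c206 rfl
theorem s2u207 : ∀ v, 1 ≤ v → v ≤ 64976 → fs2 v = true := slots_step fs2 64695 281 64976 s2u206 s2c207 rfl
theorem s2u208 : ∀ v, 1 ≤ v → v ≤ 65262 → fs2 v = true := slots_step fs2 64976 286 65262 s2u207 s2c208 rfl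
theorem s2u209 : ∀ v, 1 ≤ v → v ≤ 65564 → fs2 v = true := slots_step fs2 65262 302 65564 s2u208 s2c209 rfl
theorem s2u210 : ∀ v, 1 ≤ v → v ≤ 65924 → fs2 v = true := slots_step fs2 65564 360 65924 s2u209 s2c210 rfl
theorem s2u211 : ∀ v, 1 ≤ v → v ≤ 66312 → fs2 v = true := slots_step fs2 65924 388 66312 s2u210 s2c211 rfl
theorem s2u212 : ∀ v, 1 ≤ v → v ≤ 66681 → fs2 v = true := slots_step fs2 66312 369 66681 s2u211 s2c212 rfl
theorem s2u213 : ∀ v, 1 ≤ v → v ≤ 67072 → fs2 v = true := slots_step fs2 66681 391 67072 s2u212 s2c213 rfl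
theorem s2u214 : ∀ v, 1 ≤ v → v ≤ 67478 → fs2 v = true := slots_step fs2 67072 406 67478 s2u213 s2c214 rfl
theorem s2u215 : ∀ v, 1 ≤ v → v ≤ 67951 → fs2 v = true := slots_step fs2 67478 473 67951 s2u214 s2c215 rfl
theorem s2u216 : ∀ v, 1 ≤ v → v ≤ 68259 → fs2 v = true := slots_step fs2 67951 308 68259 s2u215 s2c216 rfl
theorem s2u217 : ∀ v, 1 ≤ v → v ≤ 68577 → fs2 v = true := slots_step fs2 68259 318 68577 s2u216 s2c217 rfl
theorem s2u218 : ∀ v, 1 ≤ v → v ≤ 68921 → fs2 v = true := slots_step fs2 68577 344 68921 s2u217 s2c218 rfl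
theorem s2u219 : ∀ v, 1 ≤ v → v ≤ 69208 → fs2 v = true := slots_step fs2 68921 287 69208 s2u218 s2c219 rfl
theorem s2u220 : ∀ v, 1 ≤ v → v ≤ 69544 → fs2 v = true := slots_step fs2 69208 336 69544 s2u219 s2c220 rfl
theorem s2u221 : ∀ v, 1 ≤ v → v ≤ 69993 → fs2 v = true := slots_step fs2 69544 449 69993 s2u220 s2c221 rfl
theorem s2u222 : ∀ v, 1 ≤ v → v ≤ 70458 → fs2 v = true := slots_step fs2 69993 465 70458 s2u221 s2c222 rfl
theorem s2u223 : ∀ v, 1 ≤ v → v ≤ 71003 → fs2 v = true := slots_step fs2 70458 545 71003 s2u222 s2c223 rfl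
theorem s2u224 : ∀ v, 1 ≤ v → v ≤ 71472 → fs2 v = true := slots_step fs2 71003 469 71472 s2u223 s2c224 rfl
theorem s2u225 : ∀ v, 1 ≤ v → v ≤ 71742 → fs2 v = true := slots_step fs2 71472 270 71742 s2u224 s2c225 rfl
theorem s2u226 : ∀ v, 1 ≤ v → v ≤ 72042 → fs2 v = true := slots_step fs2 71742 300 72042 s2u225 s2c226 rfl
theorem s2u227 : ∀ v, 1 ≤ v → v ≤ 72338 → fs2 v = true := slots_step fs2 72042 296 72338 s2u226 s2c227 rfl
theorem s2u228 : ∀ v, 1 ≤ v → v ≤ 72651 → fs2 v = true := slots_step fs2 72338 313 72651 s2u227 s2c228 rfl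
theorem s2u229 : ∀ v, 1 ≤ v → v ≤ 72961 → fs2 v = true := slots_step fs2 72651 310 72961 s2u228 s2c229 rfl
theorem s2u230 : ∀ v, 1 ≤ v → v ≤ 73404 → fs2 v = true := slots_step fs2 72961 443 73404 s2u229 s2c230 rfl
theorem s2u231 : ∀ v, 1 ≤ v → v ≤ 73889 → fs2 v = true := slots_step fs2 73404 485 73889 s2u230 s2c231 rfl
theorem s2u232 : ∀ v, 1 ≤ v → v ≤ 74287 → fs2 v = true := slots_step fs2 73889 398 74287 s2u231 s2c232 rfl
theorem s2u233 : ∀ v, 1 ≤ v → v ≤ 74655 → fs2 v = true := slots_step fs2 74287 368 74655 s2u232 s2c233 rfl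
theorem s2u234 : ∀ v, 1 ≤ v → v ≤ 75120 → fs2 v = true := slots_step fs2 74655 465 75120 s2u233 s2c234 rfl
theorem s2u235 : ∀ v, 1 ≤ v → v ≤ 75507 → fs2 v = true := slots_step fs2 75120 387 75507 s2u234 s2c235 rfl
theorem s2u236 : ∀ v, 1 ≤ v → v ≤ 75771 → fs2 v = true := slots_step fs2 75507 264 75771 s2u235 s2c236 rfl
theorem s2u237 : ∀ v, 1 ≤ v → v ≤ 76053 → fs2 v = true := slots_step fs2 75771 282 76053 s2u236 s2c237 rfl
theorem s2u238 : ∀ v, 1 ≤ v → v ≤ 76352 → fs2 v = true := slots_step fs2 76053 299 76352 s2u237 s2c238 rfl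
theorem s2u239 : ∀ v, 1 ≤ v → v ≤ 76632 → fs2 v = true := slots_step fs2 76352 280 76632 s2u238 s2c239 rfl
theorem s2u240 : ∀ v, 1 ≤ v → v ≤ 76970 → fs2 v = true := slots_step fs2 76632 338 76970 s2u239 s2c240 rfl
theorem s2u241 : ∀ v, 1 ≤ v → v ≤ 77302 → fs2 v = true := slots_step fs2 76970 332 77302 s2u240 s2c241 rfl
theorem s2u242 : ∀ v, 1 ≤ v → v ≤ 77592 → fs2 v = true := slots_step fs2 77302 290 77592 s2u241 s2c242 rfl
theorem s2u243 : ∀ v, 1 ≤ v → v ≤ 77891 → fs2 v = true := slots_step fs2 77592 299 77891 s2u242 s2c243 rfl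
theorem s2u244 : ∀ v, 1 ≤ v → v ≤ 78204 → fs2 v = true := slots_step fs2 77891 313 78204 s2u243 s2c244 rfl
theorem s2u245 : ∀ v, 1 ≤ v → v ≤ 78531 → fs2 v = true := slots_step fs2 78204 327 78531 s2u244 s2c245 rfl
theorem s2u246 : ∀ v, 1 ≤ v → v ≤ 78935 → fs2 v = true := slots_step fs2 78531 404 78935 s2u245 s2c246 rfl
theorem s2u247 : ∀ v, 1 ≤ v → v ≤ 79397 → fs2 v = true := slots_step fs2 78935 462 79397 s2u246 s2c247 rfl
theorem s2u248 : ∀ v, 1 ≤ v → v ≤ 79836 → fs2 v = true := slots_step fs2 79397 439 79836 s2u247 s2c248 rfl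
theorem s2u249 : ∀ v, 1 ≤ v → v ≤ 80274 → fs2 v = true := slots_step fs2 79836 438 80274 s2u248 s2c249 rfl
theorem s2u250 : ∀ v, 1 ≤ v → v ≤ 80616 → fs2 v = true := slots_step fs2 80274 342 80616 s2u249 s2c250 rfl
theorem s2u251 : ∀ v, 1 ≤ v → v ≤ 80917 → fs2 v = true := slots_step fs2 80616 301 80917 s2u250 s2c251 rfl
theorem s2u252 : ∀ v, 1 ≤ v → v ≤ 81296 → fs2 v = true := slots_step fs2 80917 379 81296 s2u251 s2c252 rfl
theorem s2u253 : ∀ v, 1 ≤ v → v ≤ 81640 → fs2 v = true := slots_step fs2 81296 344 81640 s2u252 s2c253 rfl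
theorem s2u254 : ∀ v, 1 ≤ v → v ≤ 82076 → fs2 v = true := slots_step fs2 81640 436 82076 s2u253 s2c254 rfl
theorem s2u255 : ∀ v, 1 ≤ v → v ≤ 82593 → fs2 v = true := slots_step fs2 82076 517 82593 s2u254 s2c255 rfl
theorem s2u256 : ∀ v, 1 ≤ v → v ≤ 82907 → fs2 v = true := slots_step fs2 82593 314 82907 s2u255 s2c256 rfl
theorem s2u257 : ∀ v, 1 ≤ v → v ≤ 83194 → fs2 v = true := slots_step fs2 82907 287 83194 s2u256 s2c257 rfl
theorem s2u258 : ∀ v, 1 ≤ v → v ≤ 83517 → fs2 v = true := slots_step fs2 83194 323 83517 s2u257 s2c258 rfl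
theorem s2u259 : ∀ v, 1 ≤ v → v ≤ 83806 → fs2 v = true := slots_step fs2 83517 289 83806 s2u258 s2c259 rfl
theorem s2u260 : ∀ v, 1 ≤ v → v ≤ 84098 → fs2 v = true := slots_step fs2 83806 292 84098 s2u259 s2c260 rfl
theorem s2u261 : ∀ v, 1 ≤ v → v ≤ 84448 → fs2 v = true := slots_step fs2 84098 350 84448 s2u260 s2c261 rfl
theorem s2u262 : ∀ v, 1 ≤ v → v ≤ 84730 → fs2 v = true := slots_step fs2 84448 282 84730 s2u261 s2c262 rfl
theorem s2u263 : ∀ v, 1 ≤ v → v ≤ 85009 → fs2 v = true := slots_step fs2 84730 279 85009 s2u262 s2c263 rfl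
theorem s2u264 : ∀ v, 1 ≤ v → v ≤ 85350 → fs2 v = true := slots_step fs2 85009 341 85350 s2u263 s2c264 rfl
theorem s2u265 : ∀ v, 1 ≤ v → v ≤ 85665 → fs2 v = true := slots_step fs2 85350 315 85665 s2u264 s2c265 rfl
theorem s2u266 : ∀ v, 1 ≤ v → v ≤ 85936 → fs2 v = true := slots_step fs2 85665 271 85936 s2u265 s2c266 rfl
theorem s2u267 : ∀ v, 1 ≤ v → v ≤ 86206 → fs2 v = true := slots_step fs2 85936 270 86206 s2u266 s2c267 rfl
theorem s2u268 : ∀ v, 1 ≤ v → v ≤ 86492 → fs2 v = true := slots_step fs2 86206 286 86492 s2u267 s2c268 rfl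
theorem s2u269 : ∀ v, 1 ≤ v → v ≤ 86787 → fs2 v = true := slots_step fs2 86492 295 86787 s2u268 s2c269 rfl
theorem s2u270 : ∀ v, 1 ≤ v → v ≤ 87079 → fs2 v = true := slots_step fs2 86787 292 87079 s2u269 s2c270 rfl
theorem s2u271 : ∀ v, 1 ≤ v → v ≤ 87383 → fs2 v = true := slots_step fs2 87079 304 87383 s2u270 s2c271 rfl
theorem s2u272 : ∀ v, 1 ≤ v → v ≤ 87685 → fs2 v = true := slots_step fs2 87383 302 87685 s2u271 s2c272 rfl
theorem s2u273 : ∀ v, 1 ≤ v → v ≤ 88001 → fs2 v = true := slots_step fs2 87685 316 88001 s2u272 s2c273 rfl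
theorem s2u274 : ∀ v, 1 ≤ v → v ≤ 88408 → fs2 v = true := slots_step fs2 88001 407 88408 s2u273 s2c274 rfl
theorem s2u275 : ∀ v, 1 ≤ v → v ≤ 88826 → fs2 v = true := slots_step fs2 88408 418 88826 s2u274 s2c275 rfl
theorem s2u276 : ∀ v, 1 ≤ v → v ≤ 89220 → fs2 v = true := slots_step fs2 88826 394 89220 s2u275 s2c276 rfl
theorem s2u277 : ∀ v, 1 ≤ v → v ≤ 89625 → fs2 v = true := slots_step fs2 89220 405 89625 s2u276 s2c277 rfl
theorem s2u278 : ∀ v, 1 ≤ v → v ≤ 90030 → fs2 v = true := slots_step fs2 89625 405 90030 s2u277 s2c278 rfl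
theorem s2u279 : ∀ v, 1 ≤ v → v ≤ 90560 → fs2 v = true := slots_step fs2 90030 530 90560 s2u278 s2c279 rfl
theorem s2u280 : ∀ v, 1 ≤ v → v ≤ 90927 → fs2 v = true := slots_step fs2 90560 367 90927 s2u279 s2c280 rfl
theorem s2u281 : ∀ v, 1 ≤ v → v ≤ 91265 → fs2 v = true := slots_step fs2 90927 338 91265 s2u280 s2c281 rfl
theorem s2u282 : ∀ v, 1 ≤ v → v ≤ 91556 → fs2 v = true := slots_step fs2 91265 291 91556 s2u281 s2c282 rfl
theorem s2u283 : ∀ v, 1 ≤ v → v ≤ 91930 → fs2 v = true := slots_step fs2 91556 374 91930 s2u282 s2c283 rfl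
theorem s2u284 : ∀ v, 1 ≤ v → v ≤ 92237 → fs2 v = true := slots_step fs2 91930 307 92237 s2u283 s2c284 rfl
theorem s2u285 : ∀ v, 1 ≤ v → v ≤ 92583 → fs2 v = true := slots_step fs2 92237 346 92583 s2u284 s2c285 rfl
theorem s2u286 : ∀ v, 1 ≤ v → v ≤ 93046 → fs2 v = true := slots_step fs2 92583 463 93046 s2u285 s2c286 rfl
theorem s2u287 : ∀ v, 1 ≤ v → v ≤ 93533 → fs2 v = true := slots_step fs2 93046 487 93533 s2u286 s2c287 rfl
theorem s2u288 : ∀ v, 1 ≤ v → v ≤ 94100 → fs2 v = true := slots_step fs2 93533 567 94100 s2u287 s2c288 rfl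
theorem s2u289 : ∀ v, 1 ≤ v → v ≤ 94506 → fs2 v = true := slots_step fs2 94100 406 94506 s2u288 s2c289 rfl
theorem s2u290 : ∀ v, 1 ≤ v → v ≤ 94797 → fs2 v = true := slots_step fs2 94506 291 94797 s2u289 s2c290 rfl
theorem s2u291 : ∀ v, 1 ≤ v → v ≤ 95094 → fs2 v = true := slots_step fs2 94797 297 95094 s2u290 s2c291 rfl
theorem s2u292 : ∀ v, 1 ≤ v → v ≤ 95418 → fs2 v = true := slots_step fs2 95094 324 95418 s2u291 s2c292 rfl
theorem s2u293 : ∀ v, 1 ≤ v → v ≤ 95724 → fs2 v = true := slots_step fs2 95418 306 95724 s2u292 s2c293 rfl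
theorem s2u294 : ∀ v, 1 ≤ v → v ≤ 96044 → fs2 v = true := slots_step fs2 95724 320 96044 s2u293 s2c294 rfl
theorem s2u295 : ∀ v, 1 ≤ v → v ≤ 96362 → fs2 v = true := slots_step fs2 96044 318 96362 s2u294 s2c295 rfl
theorem s2u296 : ∀ v, 1 ≤ v → v ≤ 96802 → fs2 v = true := slots_step fs2 96362 440 96802 s2u295 s2c296 rfl
theorem s2u297 : ∀ v, 1 ≤ v → v ≤ 97322 → fs2 v = true := slots_step fs2 96802 520 97322 s2u296 s2c297 rfl
theorem s2u298 : ∀ v, 1 ≤ v → v ≤ 97724 → fs2 v = true := slots_step fs2 97322 402 97724 s2u297 s2c298 rfl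
theorem s2u299 : ∀ v, 1 ≤ v → v ≤ 98125 → fs2 v = true := slots_step fs2 97724 401 98125 s2u298 s2c299 rfl
theorem s2u300 : ∀ v, 1 ≤ v → v ≤ 98593 → fs2 v = true := slots_step fs2 98125 468 98593 s2u299 s2c300 rfl
theorem s2u301 : ∀ v, 1 ≤ v → v ≤ 99000 → fs2 v = true := slots_step fs2 98593 407 99000 s2u300 s2c301 rfl
theorem s2u302 : ∀ v, 1 ≤ v → v ≤ 99261 → fs2 v = true := slots_step fs2 99000 261 99261 s2u301 s2c302 rfl
theorem s2u303 : ∀ v, 1 ≤ v → v ≤ 99524 → fs2 v = true := slots_step fs2 99261 263 99524 s2u302 s2c303 rfl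
theorem s2u304 : ∀ v, 1 ≤ v → v ≤ 99816 → fs2 v = true := slots_step fs2 99524 292 99816 s2u303 s2c304 rfl
theorem s2u305 : ∀ v, 1 ≤ v → v ≤ 100121 → fs2 v = true := slots_step fs2 99816 305 100121 s2u304 s2c305 rfl
theorem s2u306 : ∀ v, 1 ≤ v → v ≤ 100412 → fs2 v = true := slots_step fs2 100121 291 100412 s2u305 s2c306 rfl
theorem s2u307 : ∀ v, 1 ≤ v → v ≤ 100709 → fs2 v = true := slots_step fs2 100412 297 100709 s2u306 s2c307 rfl
theorem s2u308 : ∀ v, 1 ≤ v → v ≤ 101059 → fs2 v = true := slots_step fs2 100709 350 101059 s2u307 s2c308 rfl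
theorem s2u309 : ∀ v, 1 ≤ v → v ≤ 101410 → fs2 v = true := slots_step fs2 101059 351 101410 s2u308 s2c309 rfl
theorem s2u310 : ∀ v, 1 ≤ v → v ≤ 101693 → fs2 v = true := slots_step fs2 101410 283 101693 s2u309 s2c310 rfl
theorem s2u311 : ∀ v, 1 ≤ v → v ≤ 101990 → fs2 v = true := slots_step fs2 101693 297 101990 s2u310 s2c311 rfl
theorem s2u312 : ∀ v, 1 ≤ v → v ≤ 102314 → fs2 v = true := slots_step fs2 101990 324 102314 s2u311 s2c312 rfl
theorem s2u313 : ∀ v, 1 ≤ v → v ≤ 102613 → fs2 v = true := slots_step fs2 102314 299 102613 s2u312 s2c313 rfl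
theorem s2u314 : ∀ v, 1 ≤ v → v ≤ 102924 → fs2 v = true := slots_step fs2 102613 311 102924 s2u313 s2c314 rfl
theorem s2u315 : ∀ v, 1 ≤ v → v ≤ 103259 → fs2 v = true := slots_step fs2 102924 335 103259 s2u314 s2c315 rfl
theorem s2u316 : ∀ v, 1 ≤ v → v ≤ 103680 → fs2 v = true := slots_step fs2 103259 421 103680 s2u315 s2c316 rfl
theorem s2u317 : ∀ v, 1 ≤ v → v ≤ 104132 → fs2 v = true := slots_step fs2 103680 452 104132 s2u316 s2c317 rfl
theorem s2u318 : ∀ v, 1 ≤ v → v ≤ 104576 → fs2 v = true := slots_step fs2 104132 444 104576 s2u317 s2c318 rfl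
theorem s2u319 : ∀ v, 1 ≤ v → v ≤ 105021 → fs2 v = true := slots_step fs2 104576 445 105021 s2u318 s2c319 rfl
theorem s2u320 : ∀ v, 1 ≤ v → v ≤ 105357 → fs2 v = true := slots_step fs2 105021 336 105357 s2u319 s2c320 rfl
theorem s2u321 : ∀ v, 1 ≤ v → v ≤ 105663 → fs2 v = true := slots_step fs2 105357 306 105663 s2u320 s2c321 rfl
theorem s2u322 : ∀ v, 1 ≤ v → v ≤ 106027 → fs2 v = true := slots_step fs2 105663 364 106027 s2u321 s2c322 rfl
theorem s2u323 : ∀ v, 1 ≤ v → v ≤ 106403 → fs2 v = true := slots_step fs2 106027 376 106403 s2u322 s2c323 rfl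
theorem s2u324 : ∀ v, 1 ≤ v → v ≤ 106798 → fs2 v = true := slots_step fs2 106403 395 106798 s2u323 s2c324 rfl
theorem s2u325 : ∀ v, 1 ≤ v → v ≤ 107286 → fs2 v = true := slots_step fs2 106798 488 107286 s2u324 s2c325 rfl
theorem s2u326 : ∀ v, 1 ≤ v → v ≤ 107622 → fs2 v = true := slots_step fs2 107286 336 107622 s2u325 s2c326 rfl
theorem s2u327 : ∀ v, 1 ≤ v → v ≤ 107899 → fs2 v = true := slots_step fs2 107622 277 107899 s2u326 s2c327 rfl
theorem s2u328 : ∀ v, 1 ≤ v → v ≤ 108222 → fs2 v = true := slots_step fs2 107899 323 108222 s2u327 s2c328 rfl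
theorem s2u329 : ∀ v, 1 ≤ v → v ≤ 108532 → fs2 v = true := slots_step fs2 108222 310 108532 s2u328 s2c329 rfl
theorem s2u330 : ∀ v, 1 ≤ v → v ≤ 108822 → fs2 v = true := slots_step fs2 108532 290 108822 s2u329 s2c330 rfl
theorem s2u331 : ∀ v, 1 ≤ v → v ≤ 109104 → fs2 v = true := slots_step fs2 108822 282 109104 s2u330 s2c331 rfl
theorem s2u332 : ∀ v, 1 ≤ v → v ≤ 109468 → fs2 v = true := slots_step fs2 109104 364 109468 s2u331 s2c332 rfl
theorem s2u333 : ∀ v, 1 ≤ v → v ≤ 109786 → fs2 v = true := slots_step fs2 109468 318 109786 s2u332 s2c333 rfl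
theorem s2u334 : ∀ v, 1 ≤ v → v ≤ 110065 → fs2 v = true := slots_step fs2 109786 279 110065 s2u333 s2c334 rfl
theorem s2u335 : ∀ v, 1 ≤ v → v ≤ 110342 → fs2 v = true := slots_step fs2 110065 277 110342 s2u334 s2c335 rfl
theorem s2u336 : ∀ v, 1 ≤ v → v ≤ 110663 → fs2 v = true := slots_step fs2 110342 321 110663 s2u335 s2c336 rfl
theorem s2u337 : ∀ v, 1 ≤ v → v ≤ 110998 → fs2 v = true := slots_step fs2 110663 335 110998 s2u336 s2c337 rfl
theorem s2u338 : ∀ v, 1 ≤ v → v ≤ 111267 → fs2 v = true := slots_step fs2 110998 269 111267 s2u337 s2c338 rfl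
theorem s2u339 : ∀ v, 1 ≤ v → v ≤ 111615 → fs2 v = true := slots_step fs2 111267 348 111615 s2u338 s2c339 rfl
theorem s2u340 : ∀ v, 1 ≤ v → v ≤ 111882 → fs2 v = true := slots_step fs2 111615 267 111882 s2u339 s2c340 rfl
theorem s2u341 : ∀ v, 1 ≤ v → v ≤ 112164 → fs2 v = true := slots_step fs2 111882 282 112164 s2u340 s2c341 rfl
theorem s2u342 : ∀ v, 1 ≤ v → v ≤ 112454 → fs2 v = true := slots_step fs2 112164 290 112454 s2u341 s2c342 rfl
theorem s2u343 : ∀ v, 1 ≤ v → v ≤ 112742 → fs2 v = true := slots_step fs2 112454 288 112742 s2u342 s2c343 rfl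
theorem s2u344 : ∀ v, 1 ≤ v → v ≤ 113057 → fs2 v = true := slots_step fs2 112742 315 113057 s2u343 s2c344 rfl
theorem s2u345 : ∀ v, 1 ≤ v → v ≤ 113350 → fs2 v = true := slots_step fs2 113057 293 113350 s2u344 s2c345 rfl
theorem s2u346 : ∀ v, 1 ≤ v → v ≤ 113651 → fs2 v = true := slots_step fs2 113350 301 113651 s2u345 s2c346 rfl
theorem s2u347 : ∀ v, 1 ≤ v → v ≤ 113971 → fs2 v = true := slots_step fs2 113651 320 113971 s2u346 s2c347 rfl
theorem s2u348 : ∀ v, 1 ≤ v → v ≤ 114290 → fs2 v = true := slots_step fs2 113971 319 114290 s2u347 s2c348 rfl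
theorem s2u349 : ∀ v, 1 ≤ v → v ≤ 114613 → fs2 v = true := slots_step fs2 114290 323 114613 s2u348 s2c349 rfl
theorem s2u350 : ∀ v, 1 ≤ v → v ≤ 115031 → fs2 v = true := slots_step fs2 114613 418 115031 s2u349 s2c350 rfl
theorem s2u351 : ∀ v, 1 ≤ v → v ≤ 115447 → fs2 v = true := slots_step fs2 115031 416 115447 s2u350 s2c351 rfl
theorem s2u352 : ∀ v, 1 ≤ v → v ≤ 115821 → fs2 v = true := slots_step fs2 115447 374 115821 s2u351 s2c352 rfl
theorem s2u353 : ∀ v, 1 ≤ v → v ≤ 116229 → fs2 v = true := slots_step fs2 115821 408 116229 s2u352 s2c353 rfl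
theorem s2u354 : ∀ v, 1 ≤ v → v ≤ 116689 → fs2 v = true := slots_step fs2 116229 460 116689 s2u353 s2c354 rfl
theorem s2u355 : ∀ v, 1 ≤ v → v ≤ 117173 → fs2 v = true := slots_step fs2 116689 484 117173 s2u354 s2c355 rfl
theorem s2u356 : ∀ v, 1 ≤ v → v ≤ 117541 → fs2 v = true := slots_step fs2 117173 368 117541 s2u355 s2c356 rfl
theorem s2u357 : ∀ v, 1 ≤ v → v ≤ 117910 → fs2 v = true := slots_step fs2 117541 369 117910 s2u356 s2c357 rfl
theorem s2u358 : ∀ v, 1 ≤ v → v ≤ 118207 → fs2 v = true := slots_step fs2 117910 297 118207 s2u357 s2c358 rfl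
theorem s2u359 : ∀ v, 1 ≤ v → v ≤ 118590 → fs2 v = true := slots_step fs2 118207 383 118590 s2u358 s2c359 rfl
theorem s2u360 : ∀ v, 1 ≤ v → v ≤ 118900 → fs2 v = true := slots_step fs2 118590 310 118900 s2u359 s2c360 rfl
theorem s2u361 : ∀ v, 1 ≤ v → v ≤ 119279 → fs2 v = true := slots_step fs2 118900 379 119279 s2u360 s2c361 rfl
theorem s2u362 : ∀ v, 1 ≤ v → v ≤ 119702 → fs2 v = true := slots_step fs2 119279 423 119702 s2u361 s2c362 rfl
theorem s2u363 : ∀ v, 1 ≤ v → v ≤ 120205 → fs2 v = true := slots_step fs2 119702 503 120205 s2u362 s2c363 rfl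
theorem s2u364 : ∀ v, 1 ≤ v → v ≤ 120637 → fs2 v = true := slots_step fs2 120205 432 120637 s2u363 s2c364 rfl
theorem s2u365 : ∀ v, 1 ≤ v → v ≤ 120918 → fs2 v = true := slots_step fs2 120637 281 120918 s2u364 s2c365 rfl
theorem s2u366 : ∀ v, 1 ≤ v → v ≤ 121201 → fs2 v = true := slots_step fs2 120918 283 121201 s2u365 s2c366 rfl
theorem s2u367 : ∀ v, 1 ≤ v → v ≤ 121502 → fs2 v = true := slots_step fs2 121201 301 121502 s2u366 s2c367 rfl
theorem s2u368 : ∀ v, 1 ≤ v → v ≤ 121812 → fs2 v = true := slots_step fs2 121502 310 121812 s2u367 s2c368 rfl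
theorem s2u369 : ∀ v, 1 ≤ v → v ≤ 122109 → fs2 v = true := slots_step fs2 121812 297 122109 s2u368 s2c369 rfl
theorem s2u370 : ∀ v, 1 ≤ v → v ≤ 122416 → fs2 v = true := slots_step fs2 122109 307 122416 s2u369 s2c370 rfl
theorem s2u371 : ∀ v, 1 ≤ v → v ≤ 122717 → fs2 v = true := slots_step fs2 122416 301 122717 s2u370 s2c371 rfl
theorem s2u372 : ∀ v, 1 ≤ v → v ≤ 123030 → fs2 v = true := slots_step fs2 122717 313 123030 s2u371 s2c372 rfl
theorem s2u373 : ∀ v, 1 ≤ v → v ≤ 123494 → fs2 v = true := slots_step fs2 123030 464 123494 s2u372 s2c373 rfl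
theorem s2u374 : ∀ v, 1 ≤ v → v ≤ 123939 → fs2 v = true := slots_step fs2 123494 445 123939 s2u373 s2c374 rfl
theorem s2u375 : ∀ v, 1 ≤ v → v ≤ 124284 → fs2 v = true := slots_step fs2 123939 345 124284 s2u374 s2c375 rfl
theorem s2u376 : ∀ v, 1 ≤ v → v ≤ 124748 → fs2 v = true := slots_step fs2 124284 464 124748 s2u375 s2c376 rfl
theorem s2u377 : ∀ v, 1 ≤ v → v ≤ 125000 → fs2 v = true := slots_step fs2 124748 252 125000 s2u376 s2c377 rfl
theorem s2u378 : ∀ v, 1 ≤ v → v ≤ 125257 → fs2 v = true := slots_step fs2 125000 257 125257 s2u377 s2c378 rfl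
theorem s2u379 : ∀ v, 1 ≤ v → v ≤ 125509 → fs2 v = true := slots_step fs2 125257 252 125509 s2u378 s2c379 rfl
theorem s2u380 : ∀ v, 1 ≤ v → v ≤ 125768 → fs2 v = true := slots_step fs2 125509 259 125768 s2u379 s2c380 rfl
theorem s2u381 : ∀ v, 1 ≤ v → v ≤ 126017 → fs2 v = true := slots_step fs2 125768 249 126017 s2u380 s2c381 rfl
theorem s2u382 : ∀ v, 1 ≤ v → v ≤ 126287 → fs2 v = true := slots_step fs2 126017 270 126287 s2u381 s2c382 rfl
theorem s2u383 : ∀ v, 1 ≤ v → v ≤ 126560 → fs2 v = true := slots_step fs2 126287 273 126560 s2u382 s2c383 rfl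
theorem s2u384 : ∀ v, 1 ≤ v → v ≤ 126830 → fs2 v = true := slots_step fs2 126560 270 126830 s2u383 s2c384 rfl
theorem s2u385 : ∀ v, 1 ≤ v → v ≤ 127081 → fs2 v = true := slots_step fs2 126830 251 127081 s2u384 s2c385 rfl
theorem s2u386 : ∀ v, 1 ≤ v → v ≤ 127348 → fs2 v = true := slots_step fs2 127081 267 127348 s2u385 s2c386 rfl
theorem s2u387 : ∀ v, 1 ≤ v → v ≤ 127609 → fs2 v = true := slots_step fs2 127348 261 127609 s2u386 s2c387 rfl
theorem s2u388 : ∀ v, 1 ≤ v → v ≤ 127890 → fs2 v = true := slots_step fs2 127609 281 127890 s2u387 s2c388 rfl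
theorem s2u389 : ∀ v, 1 ≤ v → v ≤ 128163 → fs2 v = true := slots_step fs2 127890 273 128163 s2u388 s2c389 rfl
theorem s2u390 : ∀ v, 1 ≤ v → v ≤ 128448 → fs2 v = true := slots_step fs2 128163 285 128448 s2u389 s2c390 rfl
theorem s2u391 : ∀ v, 1 ≤ v → v ≤ 128713 → fs2 v = true := slots_step fs2 128448 265 128713 s2u390 s2c391 rfl
theorem s2u392 : ∀ v, 1 ≤ v → v ≤ 128989 → fs2 v = true := slots_step fs2 128713 276 128989 s2u391 s2c392 rfl
theorem s2u393 : ∀ v, 1 ≤ v → v ≤ 129244 → fs2 v = true := slots_step fs2 128989 255 129244 s2u392 s2c393 rfl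
theorem s2u394 : ∀ v, 1 ≤ v → v ≤ 129522 → fs2 v = true := slots_step fs2 129244 278 129522 s2u393 s2c394 rfl
theorem s2u395 : ∀ v, 1 ≤ v → v ≤ 129778 → fs2 v = true := slots_step fs2 129522 256 129778 s2u394 s2c395 rfl
theorem s2u396 : ∀ v, 1 ≤ v → v ≤ 130029 → fs2 v = true := slots_step fs2 129778 251 130029 s2u395 s2c396 rfl
theorem s2u397 : ∀ v, 1 ≤ v → v ≤ 130291 → fs2 v = true := slots_step fs2 130029 262 130291 s2u396 s2c397 rfl
theorem s2u398 : ∀ v, 1 ≤ v → v ≤ 130568 → fs2 v = true := slots_step fs2 130291 277 130568 s2u397 s2c398 rfl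
theorem s2u399 : ∀ v, 1 ≤ v → v ≤ 130833 → fs2 v = true := slots_step fs2 130568 265 130833 s2u398 s2c399 rfl
theorem s2u400 : ∀ v, 1 ≤ v → v ≤ 131096 → fs2 v = true := slots_step fs2 130833 263 131096 s2u399 s2c400 rfl
theorem s2u401 : ∀ v, 1 ≤ v → v ≤ 131375 → fs2 v = true := slots_step fs2 131096 279 131375 s2u400 s2c401 rfl
theorem s2u402 : ∀ v, 1 ≤ v → v ≤ 131658 → fs2 v = true := slots_step fs2 131375 283 131658 s2u401 s2c402 rfl
theorem s2u403 : ∀ v, 1 ≤ v → v ≤ 131917 → fs2 v = true := slots_step fs2 131658 259 131917 s2u402 s2c403 rfl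
theorem s2u404 : ∀ v, 1 ≤ v → v ≤ 132192 → fs2 v = true := slots_step fs2 131917 275 132192 s2u403 s2c404 rfl
theorem s2u405 : ∀ v, 1 ≤ v → v ≤ 132447 → fs2 v = true := slots_step fs2 132192 255 132447 s2u404 s2c405 rfl
theorem s2u406 : ∀ v, 1 ≤ v → v ≤ 132730 → fs2 v = true := slots_step fs2 132447 283 132730 s2u405 s2c406 rfl
theorem s2u407 : ∀ v, 1 ≤ v → v ≤ 133002 → fs2 v = true := slots_step fs2 132730 272 133002 s2u406 s2c407 rfl
theorem s2u408 : ∀ v, 1 ≤ v → v ≤ 133281 → fs2 v = true := slots_step fs2 133002 279 133281 s2u407 s2c408 rfl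
theorem s2u409 : ∀ v, 1 ≤ v → v ≤ 133552 → fs2 v = true := slots_step fs2 133281 271 133552 s2u408 s2c409 rfl
theorem s2u410 : ∀ v, 1 ≤ v → v ≤ 133822 → fs2 v = true := slots_step fs2 133552 270 133822 s2u409 s2c410 rfl
theorem s2u411 : ∀ v, 1 ≤ v → v ≤ 134069 → fs2 v = true := slots_step fs2 133822 247 134069 s2u410 s2c411 rfl
theorem s2u412 : ∀ v, 1 ≤ v → v ≤ 134347 → fs2 v = true := slots_step fs2 134069 278 134347 s2u411 s2c412 rfl
theorem s2u413 : ∀ v, 1 ≤ v → v ≤ 134598 → fs2 v = true := slots_step fs2 134347 251 134598 s2u412 s2c413 rfl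
theorem s2u414 : ∀ v, 1 ≤ v → v ≤ 134865 → fs2 v = true := slots_step fs2 134598 267 134865 s2u413 s2c414 rfl
theorem s2u415 : ∀ v, 1 ≤ v → v ≤ 135133 → fs2 v = true := slots_step fs2 134865 268 135133 s2u414 s2c415 rfl
theorem s2u416 : ∀ v, 1 ≤ v → v ≤ 135398 → fs2 v = true := slots_step fs2 135133 265 135398 s2u415 s2c416 rfl
theorem s2u417 : ∀ v, 1 ≤ v → v ≤ 135676 → fs2 v = true := slots_step fs2 135398 278 135676 s2u416 s2c417 rfl
theorem s2u418 : ∀ v, 1 ≤ v → v ≤ 135945 → fs2 v = true := slots_step fs2 135676 269 135945 s2u417 s2c418 rfl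
theorem s2u419 : ∀ v, 1 ≤ v → v ≤ 136220 → fs2 v = true := slots_step fs2 135945 275 136220 s2u418 s2c419 rfl
theorem s2u420 : ∀ v, 1 ≤ v → v ≤ 136488 → fs2 v = true := slots_step fs2 136220 268 136488 s2u419 s2c420 rfl
theorem s2u421 : ∀ v, 1 ≤ v → v ≤ 136735 → fs2 v = true := slots_step fs2 136488 247 136735 s2u420 s2c421 rfl
theorem s2u422 : ∀ v, 1 ≤ v → v ≤ 137002 → fs2 v = true := slots_step fs2 136735 267 137002 s2u421 s2c422 rfl
theorem s2u423 : ∀ v, 1 ≤ v → v ≤ 137261 → fs2 v = true := slots_step fs2 137002 259 137261 s2u422 s2c423 rfl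
theorem s2u424 : ∀ v, 1 ≤ v → v ≤ 137505 → fs2 v = true := slots_step fs2 137261 244 137505 s2u423 s2c424 rfl
theorem s2u425 : ∀ v, 1 ≤ v → v ≤ 137779 → fs2 v = true := slots_step fs2 137505 274 137779 s2u424 s2c425 rfl
theorem s2u426 : ∀ v, 1 ≤ v → v ≤ 138056 → fs2 v = true := slots_step fs2 137779 277 138056 s2u425 s2c426 rfl
theorem s2u427 : ∀ v, 1 ≤ v → v ≤ 138321 → fs2 v = true := slots_step fs2 138056 265 138321 s2u426 s2c427 rfl
theorem s2u428 : ∀ v, 1 ≤ v → v ≤ 138591 → fs2 v = true := slots_step fs2 138321 270 138591 s2u427 s2c428 rfl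
theorem s2u429 : ∀ v, 1 ≤ v → v ≤ 138849 → fs2 v = true := slots_step fs2 138591 258 138849 s2u428 s2c429 rfl
theorem s2u430 : ∀ v, 1 ≤ v → v ≤ 139128 → fs2 v = true := slots_step fs2 138849 279 139128 s2u429 s2c430 rfl
theorem s2u431 : ∀ v, 1 ≤ v → v ≤ 139376 → fs2 v = true := slots_step fs2 139128 248 139376 s2u430 s2c431 rfl
theorem s2u432 : ∀ v, 1 ≤ v → v ≤ 139635 → fs2 v = true := slots_step fs2 139376 259 139635 s2u431 s2c432 rfl
theorem s2u433 : ∀ v, 1 ≤ v → v ≤ 139887 → fs2 v = true := slots_step fs2 139635 252 139887 s2u432 s2c433 rfl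
theorem s2u434 : ∀ v, 1 ≤ v → v ≤ 140139 → fs2 v = true := slots_step fs2 139887 252 140139 s2u433 s2c434 rfl
theorem s2u435 : ∀ v, 1 ≤ v → v ≤ 140404 → fs2 v = true := slots_step fs2 140139 265 140404 s2u434 s2c435 rfl
theorem s2u436 : ∀ v, 1 ≤ v → v ≤ 140675 → fs2 v = true := slots_step fs2 140404 271 140675 s2u435 s2c436 rfl
theorem s2u437 : ∀ v, 1 ≤ v → v ≤ 140937 → fs2 v = true := slots_step fs2 140675 262 140937 s2u436 s2c437 rfl
theorem s2u438 : ∀ v, 1 ≤ v → v ≤ 141191 → fs2 v = true := slots_step fs2 140937 254 141191 s2u437 s2c438 rfl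
theorem s2u439 : ∀ v, 1 ≤ v → v ≤ 141446 → fs2 v = true := slots_step fs2 141191 255 141446 s2u438 s2c439 rfl
theorem s2u440 : ∀ v, 1 ≤ v → v ≤ 141712 → fs2 v = true := slots_step fs2 141446 266 141712 s2u439 s2c440 rfl
theorem s2u441 : ∀ v, 1 ≤ v → v ≤ 141970 → fs2 v = true := slots_step fs2 141712 258 141970 s2u440 s2c441 rfl
theorem s2u442 : ∀ v, 1 ≤ v → v ≤ 142209 → fs2 v = true := slots_step fs2 141970 239 142209 s2u441 s2c442 rfl
theorem s2u443 : ∀ v, 1 ≤ v → v ≤ 142457 → fs2 v = true := slots_step fs2 142209 248 142457 s2u442 s2c443 rfl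
theorem s2u444 : ∀ v, 1 ≤ v → v ≤ 142708 → fs2 v = true := slots_step fs2 142457 251 142708 s2u443 s2c444 rfl
theorem s2u445 : ∀ v, 1 ≤ v → v ≤ 142973 → fs2 v = true := slots_step fs2 142708 265 142973 s2u444 s2c445 rfl
theorem s2u446 : ∀ v, 1 ≤ v → v ≤ 143255 → fs2 v = true := slots_step fs2 142973 282 143255 s2u445 s2c446 rfl
theorem s2u447 : ∀ v, 1 ≤ v → v ≤ 143518 → fs2 v = true := slots_step fs2 143255 263 143518 s2u446 s2c447 rfl
theorem s2u448 : ∀ v, 1 ≤ v → v ≤ 143790 → fs2 v = true := slots_step fs2 143518 272 143790 s2u447 s2c448 rfl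
theorem s2u449 : ∀ v, 1 ≤ v → v ≤ 144042 → fs2 v = true := slots_step fs2 143790 252 144042 s2u448 s2c449 rfl
theorem s2u450 : ∀ v, 1 ≤ v → v ≤ 144314 → fs2 v = true := slots_step fs2 144042 272 144314 s2u449 s2c450 rfl
theorem s2u451 : ∀ v, 1 ≤ v → v ≤ 144556 → fs2 v = true := slots_step fs2 144314 242 144556 s2u450 s2c451 rfl
theorem s2u452 : ∀ v, 1 ≤ v → v ≤ 144832 → fs2 v = true := slots_step fs2 144556 276 144832 s2u451 s2c452 rfl
theorem s2u453 : ∀ v, 1 ≤ v → v ≤ 145118 → fs2 v = true := slots_step fs2 144832 286 145118 s2u452 s2c453 rfl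
theorem s2u454 : ∀ v, 1 ≤ v → v ≤ 145400 → fs2 v = true := slots_step fs2 145118 282 145400 s2u453 s2c454 rfl
theorem s2u455 : ∀ v, 1 ≤ v → v ≤ 145678 → fs2 v = true := slots_step fs2 145400 278 145678 s2u454 s2c455 rfl
theorem s2u456 : ∀ v, 1 ≤ v → v ≤ 145954 → fs2 v = true := slots_step fs2 145678 276 145954 s2u455 s2c456 rfl
theorem s2u457 : ∀ v, 1 ≤ v → v ≤ 146218 → fs2 v = true := slots_step fs2 145954 264 146218 s2u456 s2c457 rfl
theorem s2u458 : ∀ v, 1 ≤ v → v ≤ 146485 → fs2 v = true := slots_step fs2 146218 267 146485 s2u457 s2c458 rfl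
theorem s2u459 : ∀ v, 1 ≤ v → v ≤ 146740 → fs2 v = true := slots_step fs2 146485 255 146740 s2u458 s2c459 rfl
theorem s2u460 : ∀ v, 1 ≤ v → v ≤ 147004 → fs2 v = true := slots_step fs2 146740 264 147004 s2u459 s2c460 rfl
theorem s2u461 : ∀ v, 1 ≤ v → v ≤ 147238 → fs2 v = true := slots_step fs2 147004 234 147238 s2u460 s2c461 rfl
theorem s2u462 : ∀ v, 1 ≤ v → v ≤ 147499 → fs2 v = true := slots_step fs2 147238 261 147499 s2u461 s2c462 rfl
theorem s2u463 : ∀ v, 1 ≤ v → v ≤ 147768 → fs2 v = true := slots_step fs2 147499 269 147768 s2u462 s2c463 rfl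
theorem s2u464 : ∀ v, 1 ≤ v → v ≤ 148044 → fs2 v = true := slots_step fs2 147768 276 148044 s2u463 s2c464 rfl
theorem s2u465 : ∀ v, 1 ≤ v → v ≤ 148309 → fs2 v = true := slots_step fs2 148044 265 148309 s2u464 s2c465 rfl
theorem s2u466 : ∀ v, 1 ≤ v → v ≤ 148581 → fs2 v = true := slots_step fs2 148309 272 148581 s2u465 s2c466 rfl
theorem s2u467 : ∀ v, 1 ≤ v → v ≤ 148865 → fs2 v = true := slots_step fs2 148581 284 148865 s2u466 s2c467 rfl
theorem s2u468 : ∀ v, 1 ≤ v → v ≤ 149145 → fs2 v = true := slots_step fs2 148865 280 149145 s2u467 s2c468 rfl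
theorem s2u469 : ∀ v, 1 ≤ v → v ≤ 149397 → fs2 v = true := slots_step fs2 149145 252 149397 s2u468 s2c469 rfl
theorem s2u470 : ∀ v, 1 ≤ v → v ≤ 149659 → fs2 v = true := slots_step fs2 149397 262 149659 s2u469 s2c470 rfl
theorem s2u471 : ∀ v, 1 ≤ v → v ≤ 149921 → fs2 v = true := slots_step fs2 149659 262 149921 s2u470 s2c471 rfl
theorem s2u472 : ∀ v, 1 ≤ v → v ≤ 150194 → fs2 v = true := slots_step fs2 149921 273 150194 s2u471 s2c472 rfl
theorem s2u473 : ∀ v, 1 ≤ v → v ≤ 150466 → fs2 v = true := slots_step fs2 150194 272 150466 s2u472 s2c473 rfl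
theorem s2u474 : ∀ v, 1 ≤ v → v ≤ 150742 → fs2 v = true := slots_step fs2 150466 276 150742 s2u473 s2c474 rfl
theorem s2u475 : ∀ v, 1 ≤ v → v ≤ 151016 → fs2 v = true := slots_step fs2 150742 274 151016 s2u474 s2c475 rfl
theorem s2u476 : ∀ v, 1 ≤ v → v ≤ 151275 → fs2 v = true := slots_step fs2 151016 259 151275 s2u475 s2c476 rfl
theorem s2u477 : ∀ v, 1 ≤ v → v ≤ 151534 → fs2 v = true := slots_step fs2 151275 259 151534 s2u476 s2c477 rfl
theorem s2u478 : ∀ v, 1 ≤ v → v ≤ 151781 → fs2 v = true := slots_step fs2 151534 247 151781 s2u477 s2c478 rfl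
theorem s2u479 : ∀ v, 1 ≤ v → v ≤ 152054 → fs2 v = true := slots_step fs2 151781 273 152054 s2u478 s2c479 rfl
theorem s2u480 : ∀ v, 1 ≤ v → v ≤ 152323 → fs2 v = true := slots_step fs2 152054 269 152323 s2u479 s2c480 rfl
theorem s2u481 : ∀ v, 1 ≤ v → v ≤ 152565 → fs2 v = true := slots_step fs2 152323 242 152565 s2u480 s2c481 rfl
theorem s2u482 : ∀ v, 1 ≤ v → v ≤ 152835 → fs2 v = true := slots_step fs2 152565 270 152835 s2u481 s2c482 rfl
theorem s2u483 : ∀ v, 1 ≤ v → v ≤ 153100 → fs2 v = true := slots_step fs2 152835 265 153100 s2u482 s2c483 rfl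
theorem s2u484 : ∀ v, 1 ≤ v → v ≤ 153368 → fs2 v = true := slots_step fs2 153100 268 153368 s2u483 s2c484 rfl
theorem s2u485 : ∀ v, 1 ≤ v → v ≤ 153645 → fs2 v = true := slots_step fs2 153368 277 153645 s2u484 s2c485 rfl
theorem s2u486 : ∀ v, 1 ≤ v → v ≤ 153919 → fs2 v = true := slots_step fs2 153645 274 153919 s2u485 s2c486 rfl
theorem s2u487 : ∀ v, 1 ≤ v → v ≤ 154191 → fs2 v = true := slots_step fs2 153919 272 154191 s2u486 s2c487 rfl
theorem s2u488 : ∀ v, 1 ≤ v → v ≤ 154463 → fs2 v = true := slots_step fs2 154191 272 154463 s2u487 s2c488 rfl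
theorem s2u489 : ∀ v, 1 ≤ v → v ≤ 154736 → fs2 v = true := slots_step fs2 154463 273 154736 s2u488 s2c489 rfl
theorem s2u490 : ∀ v, 1 ≤ v → v ≤ 154999 → fs2 v = true := slots_step fs2 154736 263 154999 s2u489 s2c490 rfl
theorem s2u491 : ∀ v, 1 ≤ v → v ≤ 155249 → fs2 v = true := slots_step fs2 154999 250 155249 s2u490 s2c491 rfl
theorem s2u492 : ∀ v, 1 ≤ v → v ≤ 155508 → fs2 v = true := slots_step fs2 155249 259 155508 s2u491 s2c492 rfl
theorem s2u493 : ∀ v, 1 ≤ v → v ≤ 155767 → fs2 v = true := slots_step fs2 155508 259 155767 s2u492 s2c493 rfl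
theorem s2u494 : ∀ v, 1 ≤ v → v ≤ 156027 → fs2 v = true := slots_step fs2 155767 260 156027 s2u493 s2c494 rfl
theorem s2u495 : ∀ v, 1 ≤ v → v ≤ 156315 → fs2 v = true := slots_step fs2 156027 288 156315 s2u494 s2c495 rfl
theorem s2u496 : ∀ v, 1 ≤ v → v ≤ 156576 → fs2 v = true := slots_step fs2 156315 261 156576 s2u495 s2c496 rfl
theorem s2u497 : ∀ v, 1 ≤ v → v ≤ 156842 → fs2 v = true := slots_step fs2 156576 266 156842 s2u496 s2c497 rfl
theorem s2u498 : ∀ v, 1 ≤ v → v ≤ 157104 → fs2 v = true := slots_step fs2 156842 262 157104 s2u497 s2c498 rfl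
theorem s2u499 : ∀ v, 1 ≤ v → v ≤ 157380 → fs2 v = true := slots_step fs2 157104 276 157380 s2u498 s2c499 rfl
theorem s2u500 : ∀ v, 1 ≤ v → v ≤ 157629 → fs2 v = true := slots_step fs2 157380 249 157629 s2u499 s2c500 rfl
theorem s2u501 : ∀ v, 1 ≤ v → v ≤ 157886 → fs2 v = true := slots_step fs2 157629 257 157886 s2u500 s2c501 rfl
theorem s2u502 : ∀ v, 1 ≤ v → v ≤ 158127 → fs2 v = true := slots_step fs2 157886 241 158127 s2u501 s2c502 rfl
theorem s2u503 : ∀ v, 1 ≤ v → v ≤ 158385 → fs2 v = true := slots_step fs2 158127 258 158385 s2u502 s2c503 rfl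
theorem s2u504 : ∀ v, 1 ≤ v → v ≤ 158652 → fs2 v = true := slots_step fs2 158385 267 158652 s2u503 s2c504 rfl
theorem s2u505 : ∀ v, 1 ≤ v → v ≤ 158918 → fs2 v = true := slots_step fs2 158652 266 158918 s2u504 s2c505 rfl
theorem s2u506 : ∀ v, 1 ≤ v → v ≤ 159180 → fs2 v = true := slots_step fs2 158918 262 159180 s2u505 s2c506 rfl
theorem s2u507 : ∀ v, 1 ≤ v → v ≤ 159430 → fs2 v = true := slots_step fs2 159180 250 159430 s2u506 s2c507 rfl
theorem s2u508 : ∀ v, 1 ≤ v → v ≤ 159677 → fs2 v = true := slots_step fs2 159430 247 159677 s2u507 s2c508 rfl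
theorem s2u509 : ∀ v, 1 ≤ v → v ≤ 159936 → fs2 v = true := slots_step fs2 159677 259 159936 s2u508 s2c509 rfl
theorem s2u510 : ∀ v, 1 ≤ v → v ≤ 160192 → fs2 v = true := slots_step fs2 159936 256 160192 s2u509 s2c510 rfl
theorem s2u511 : ∀ v, 1 ≤ v → v ≤ 160453 → fs2 v = true := slots_step fs2 160192 261 160453 s2u510 s2c511 rfl
theorem s2u512 : ∀ v, 1 ≤ v → v ≤ 160698 → fs2 v = true := slots_step fs2 160453 245 160698 s2u511 s2c512 rfl
theorem s2u513 : ∀ v, 1 ≤ v → v ≤ 160948 → fs2 v = true := slots_step fs2 160698 250 160948 s2u512 s2c513 rfl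
theorem s2u514 : ∀ v, 1 ≤ v → v ≤ 161184 → fs2 v = true := slots_step fs2 160948 236 161184 s2u513 s2c514 rfl
theorem s2u515 : ∀ v, 1 ≤ v → v ≤ 161458 → fs2 v = true := slots_step fs2 161184 274 161458 s2u514 s2c515 rfl
theorem s2u516 : ∀ v, 1 ≤ v → v ≤ 161735 → fs2 v = true := slots_step fs2 161458 277 161735 s2u515 s2c516 rfl
theorem s2u517 : ∀ v, 1 ≤ v → v ≤ 162010 → fs2 v = true := slots_step fs2 161735 275 162010 s2u516 s2c517 rfl
theorem s2u518 : ∀ v, 1 ≤ v → v ≤ 162287 → fs2 v = true := slots_step fs2 162010 277 162287 s2u517 s2c518 rfl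
theorem s2u519 : ∀ v, 1 ≤ v → v ≤ 162543 → fs2 v = true := slots_step fs2 162287 256 162543 s2u518 s2c519 rfl
theorem s2u520 : ∀ v, 1 ≤ v → v ≤ 162788 → fs2 v = true := slots_step fs2 162543 245 162788 s2u519 s2c520 rfl
theorem s2u521 : ∀ v, 1 ≤ v → v ≤ 163060 → fs2 v = true := slots_step fs2 162788 272 163060 s2u520 s2c521 rfl
theorem s2u522 : ∀ v, 1 ≤ v → v ≤ 163303 → fs2 v = true := slots_step fs2 163060 243 163303 s2u521 s2c522 rfl
theorem s2u523 : ∀ v, 1 ≤ v → v ≤ 163581 → fs2 v = true := slots_step fs2 163303 278 163581 s2u522 s2c523 rfl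
theorem s2u524 : ∀ v, 1 ≤ v → v ≤ 163860 → fs2 v = true := slots_step fs2 163581 279 163860 s2u523 s2c524 rfl
theorem s2u525 : ∀ v, 1 ≤ v → v ≤ 164138 → fs2 v = true := slots_step fs2 163860 278 164138 s2u524 s2c525 rfl
theorem s2u526 : ∀ v, 1 ≤ v → v ≤ 164422 → fs2 v = true := slots_step fs2 164138 284 164422 s2u525 s2c526 rfl
theorem s2u527 : ∀ v, 1 ≤ v → v ≤ 164701 → fs2 v = true := slots_step fs2 164422 279 164701 s2u526 s2c527 rfl
theorem s2u528 : ∀ v, 1 ≤ v → v ≤ 164974 → fs2 v = true := slots_step fs2 164701 273 164974 s2u527 s2c528 rfl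
theorem s2u529 : ∀ v, 1 ≤ v → v ≤ 165225 → fs2 v = true := slots_step fs2 164974 251 165225 s2u528 s2c529 rfl
theorem s2u530 : ∀ v, 1 ≤ v → v ≤ 165489 → fs2 v = true := slots_step fs2 165225 264 165489 s2u529 s2c530 rfl
theorem s2u531 : ∀ v, 1 ≤ v → v ≤ 165746 → fs2 v = true := slots_step fs2 165489 257 165746 s2u530 s2c531 rfl
theorem s2u532 : ∀ v, 1 ≤ v → v ≤ 166005 → fs2 v = true := slots_step fs2 165746 259 166005 s2u531 s2c532 rfl
theorem s2u533 : ∀ v, 1 ≤ v → v ≤ 166251 → fs2 v = true := slots_step fs2 166005 246 166251 s2u532 s2c533 rfl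
theorem s2u534 : ∀ v, 1 ≤ v → v ≤ 166510 → fs2 v = true := slots_step fs2 166251 259 166510 s2u533 s2c534 rfl
theorem s2u535 : ∀ v, 1 ≤ v → v ≤ 166780 → fs2 v = true := slots_step fs2 166510 270 166780 s2u534 s2c535 rfl
theorem s2u536 : ∀ v, 1 ≤ v → v ≤ 167054 → fs2 v = true := slots_step fs2 166780 274 167054 s2u535 s2c536 rfl
theorem s2u537 : ∀ v, 1 ≤ v → v ≤ 167322 → fs2 v = true := slots_step fs2 167054 268 167322 s2u536 s2c537 rfl
theorem s2u538 : ∀ v, 1 ≤ v → v ≤ 167609 → fs2 v = true := slots_step fs2 167322 287 167609 s2u537 s2c538 rfl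
theorem s2u539 : ∀ v, 1 ≤ v → v ≤ 167879 → fs2 v = true := slots_step fs2 167609 270 167879 s2u538 s2c539 rfl
theorem s2u540 : ∀ v, 1 ≤ v → v ≤ 168165 → fs2 v = true := slots_step fs2 167879 286 168165 s2u539 s2c540 rfl
theorem s2u541 : ∀ v, 1 ≤ v → v ≤ 168416 → fs2 v = true := slots_step fs2 168165 251 168416 s2u540 s2c541 rfl
theorem s2u542 : ∀ v, 1 ≤ v → v ≤ 168669 → fs2 v = true := slots_step fs2 168416 253 168669 s2u541 s2c542 rfl
theorem s2u543 : ∀ v, 1 ≤ v → v ≤ 168925 → fs2 v = true := slots_step fs2 168669 256 168925 s2u542 s2c543 rfl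
theorem s2u544 : ∀ v, 1 ≤ v → v ≤ 169194 → fs2 v = true := slots_step fs2 168925 269 169194 s2u543 s2c544 rfl
theorem s2u545 : ∀ v, 1 ≤ v → v ≤ 169463 → fs2 v = true := slots_step fs2 169194 269 169463 s2u544 s2c545 rfl
theorem s2u546 : ∀ v, 1 ≤ v → v ≤ 169743 → fs2 v = true := slots_step fs2 169463 280 169743 s2u545 s2c546 rfl
theorem s2u547 : ∀ v, 1 ≤ v → v ≤ 170029 → fs2 v = true := slots_step fs2 169743 286 170029 s2u546 s2c547 rfl
theorem s2u548 : ∀ v, 1 ≤ v → v ≤ 170293 → fs2 v = true := slots_step fs2 170029 264 170293 s2u547 s2c548 rfl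
theorem s2u549 : ∀ v, 1 ≤ v → v ≤ 170556 → fs2 v = true := slots_step fs2 170293 263 170556 s2u548 s2c549 rfl
theorem s2u550 : ∀ v, 1 ≤ v → v ≤ 170816 → fs2 v = true := slots_step fs2 170556 260 170816 s2u549 s2c550 rfl
theorem s2u551 : ∀ v, 1 ≤ v → v ≤ 171073 → fs2 v = true := slots_step fs2 170816 257 171073 s2u550 s2c551 rfl
theorem s2u552 : ∀ v, 1 ≤ v → v ≤ 171320 → fs2 v = true := slots_step fs2 171073 247 171320 s2u551 s2c552 rfl
theorem s2u553 : ∀ v, 1 ≤ v → v ≤ 171588 → fs2 v = true := slots_step fs2 171320 268 171588 s2u552 s2c553 rfl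
theorem s2u554 : ∀ v, 1 ≤ v → v ≤ 171861 → fs2 v = true := slots_step fs2 171588 273 171861 s2u553 s2c554 rfl
theorem s2u555 : ∀ v, 1 ≤ v → v ≤ 172109 → fs2 v = true := slots_step fs2 171861 248 172109 s2u554 s2c555 rfl
theorem s2u556 : ∀ v, 1 ≤ v → v ≤ 172368 → fs2 v = true := slots_step fs2 172109 259 172368 s2u555 s2c556 rfl
theorem s2u557 : ∀ v, 1 ≤ v → v ≤ 172636 → fs2 v = true := slots_step fs2 172368 268 172636 s2u556 s2c557 rfl
theorem s2u558 : ∀ v, 1 ≤ v → v ≤ 172912 → fs2 v = true := slots_step fs2 172636 276 172912 s2u557 s2c558 rfl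
theorem s2u559 : ∀ v, 1 ≤ v → v ≤ 173173 → fs2 v = true := slots_step fs2 172912 261 173173 s2u558 s2c559 rfl
theorem s2u560 : ∀ v, 1 ≤ v → v ≤ 173449 → fs2 v = true := slots_step fs2 173173 276 173449 s2u559 s2c560 rfl
theorem s2u561 : ∀ v, 1 ≤ v → v ≤ 173718 → fs2 v = true := slots_step fs2 173449 269 173718 s2u560 s2c561 rfl
theorem s2u562 : ∀ v, 1 ≤ v → v ≤ 173987 → fs2 v = true := slots_step fs2 173718 269 173987 s2u561 s2c562 rfl
theorem s2u563 : ∀ v, 1 ≤ v → v ≤ 174258 → fs2 v = true := slots_step fs2 173987 271 174258 s2u562 s2c563 rfl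
theorem s2u564 : ∀ v, 1 ≤ v → v ≤ 174545 → fs2 v = true := slots_step fs2 174258 287 174545 s2u563 s2c564 rfl
theorem s2u565 : ∀ v, 1 ≤ v → v ≤ 174816 → fs2 v = true := slots_step fs2 174545 271 174816 s2u564 s2c565 rfl
theorem s2u566 : ∀ v, 1 ≤ v → v ≤ 175079 → fs2 v = true := slots_step fs2 174816 263 175079 s2u565 s2c566 rfl
theorem s2u567 : ∀ v, 1 ≤ v → v ≤ 175329 → fs2 v = true := slots_step fs2 175079 250 175329 s2u566 s2c567 rfl
theorem s2u568 : ∀ v, 1 ≤ v → v ≤ 175590 → fs2 v = true := slots_step fs2 175329 261 175590 s2u567 s2c568 rfl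
theorem s2u569 : ∀ v, 1 ≤ v → v ≤ 175849 → fs2 v = true := slots_step fs2 175590 259 175849 s2u568 s2c569 rfl
theorem s2u570 : ∀ v, 1 ≤ v → v ≤ 176128 → fs2 v = true := slots_step fs2 175849 279 176128 s2u569 s2c570 rfl
theorem s2u571 : ∀ v, 1 ≤ v → v ≤ 176403 → fs2 v = true := slots_step fs2 176128 275 176403 s2u570 s2c571 rfl
theorem s2u572 : ∀ v, 1 ≤ v → v ≤ 176673 → fs2 v = true := slots_step fs2 176403 270 176673 s2u571 s2c572 rfl
theorem s2u573 : ∀ v, 1 ≤ v → v ≤ 176936 → fs2 v = true := slots_step fs2 176673 263 176936 s2u572 s2c573 rfl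
theorem s2u574 : ∀ v, 1 ≤ v → v ≤ 177213 → fs2 v = true := slots_step fs2 176936 277 177213 s2u573 s2c574 rfl
theorem s2u575 : ∀ v, 1 ≤ v → v ≤ 177452 → fs2 v = true := slots_step fs2 177213 239 177452 s2u574 s2c575 rfl
theorem s2u576 : ∀ v, 1 ≤ v → v ≤ 177710 → fs2 v = true := slots_step fs2 177452 258 177710 s2u575 s2c576 rfl
theorem s2u577 : ∀ v, 1 ≤ v → v ≤ 177966 → fs2 v = true := slots_step fs2 177710 256 177966 s2u576 s2c577 rfl
theorem s2u578 : ∀ v, 1 ≤ v → v ≤ 178222 → fs2 v = true := slots_step fs2 177966 256 178222 s2u577 s2c578 rfl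
theorem s2u579 : ∀ v, 1 ≤ v → v ≤ 178482 → fs2 v = true := slots_step fs2 178222 260 178482 s2u578 s2c579 rfl
theorem s2u580 : ∀ v, 1 ≤ v → v ≤ 178744 → fs2 v = true := slots_step fs2 178482 262 178744 s2u579 s2c580 rfl
theorem s2u581 : ∀ v, 1 ≤ v → v ≤ 178989 → fs2 v = true := slots_step fs2 178744 245 178989 s2u580 s2c581 rfl
theorem s2u582 : ∀ v, 1 ≤ v → v ≤ 179242 → fs2 v = true := slots_step fs2 178989 253 179242 s2u581 s2c582 rfl
theorem s2u583 : ∀ v, 1 ≤ v → v ≤ 179486 → fs2 v = true := slots_step fs2 179242 244 179486 s2u582 s2c583 rfl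
theorem s2u584 : ∀ v, 1 ≤ v → v ≤ 179747 → fs2 v = true := slots_step fs2 179486 261 179747 s2u583 s2c584 rfl
theorem s2u585 : ∀ v, 1 ≤ v → v ≤ 180011 → fs2 v = true := slots_step fs2 179747 264 180011 s2u584 s2c585 rfl
theorem s2u586 : ∀ v, 1 ≤ v → v ≤ 180269 → fs2 v = true := slots_step fs2 180011 258 180269 s2u585 s2c586 rfl
theorem s2u587 : ∀ v, 1 ≤ v → v ≤ 180513 → fs2 v = true := slots_step fs2 180269 244 180513 s2u586 s2c587 rfl
theorem s2u588 : ∀ v, 1 ≤ v → v ≤ 180759 → fs2 v = true := slots_step fs2 180513 246 180759 s2u587 s2c588 rfl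
theorem s2u589 : ∀ v, 1 ≤ v → v ≤ 181009 → fs2 v = true := slots_step fs2 180759 250 181009 s2u588 s2c589 rfl
theorem s2u590 : ∀ v, 1 ≤ v → v ≤ 181267 → fs2 v = true := slots_step fs2 181009 258 181267 s2u589 s2c590 rfl
theorem s2u591 : ∀ v, 1 ≤ v → v ≤ 181532 → fs2 v = true := slots_step fs2 181267 265 181532 s2u590 s2c591 rfl
theorem s2u592 : ∀ v, 1 ≤ v → v ≤ 181801 → fs2 v = true := slots_step fs2 181532 269 181801 s2u591 s2c592 rfl
theorem s2u593 : ∀ v, 1 ≤ v → v ≤ 182075 → fs2 v = true := slots_step fs2 181801 274 182075 s2u592 s2c593 rfl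
theorem s2u594 : ∀ v, 1 ≤ v → v ≤ 182344 → fs2 v = true := slots_step fs2 182075 269 182344 s2u593 s2c594 rfl
theorem s2u595 : ∀ v, 1 ≤ v → v ≤ 182620 → fs2 v = true := slots_step fs2 182344 276 182620 s2u594 s2c595 rfl
theorem s2u596 : ∀ v, 1 ≤ v → v ≤ 182869 → fs2 v = true := slots_step fs2 182620 249 182869 s2u595 s2c596 rfl
theorem s2u597 : ∀ v, 1 ≤ v → v ≤ 183125 → fs2 v = true := slots_step fs2 182869 256 183125 s2u596 s2c597 rfl
theorem s2u598 : ∀ v, 1 ≤ v → v ≤ 183378 → fs2 v = true := slots_step fs2 183125 253 183378 s2u597 s2c598 rfl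
theorem s2u599 : ∀ v, 1 ≤ v → v ≤ 183628 → fs2 v = true := slots_step fs2 183378 250 183628 s2u598 s2c599 rfl
theorem s2u600 : ∀ v, 1 ≤ v → v ≤ 183904 → fs2 v = true := slots_step fs2 183628 276 183904 s2u599 s2c600 rfl
theorem s2u601 : ∀ v, 1 ≤ v → v ≤ 184174 → fs2 v = true := slots_step fs2 183904 270 184174 s2u600 s2c601 rfl
theorem s2u602 : ∀ v, 1 ≤ v → v ≤ 184464 → fs2 v = true := slots_step fs2 184174 290 184464 s2u601 s2c602 rfl
theorem s2u603 : ∀ v, 1 ≤ v → v ≤ 184737 → fs2 v = true := slots_step fs2 184464 273 184737 s2u602 s2c603 rfl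
theorem s2u604 : ∀ v, 1 ≤ v → v ≤ 185012 → fs2 v = true := slots_step fs2 184737 275 185012 s2u603 s2c604 rfl
theorem s2u605 : ∀ v, 1 ≤ v → v ≤ 185289 → fs2 v = true := slots_step fs2 185012 277 185289 s2u604 s2c605 rfl
theorem s2u606 : ∀ v, 1 ≤ v → v ≤ 185555 → fs2 v = true := slots_step fs2 185289 266 185555 s2u605 s2c606 rfl
theorem s2u607 : ∀ v, 1 ≤ v → v ≤ 185810 → fs2 v = true := slots_step fs2 185555 255 185810 s2u606 s2c607 rfl
theorem s2u608 : ∀ v, 1 ≤ v → v ≤ 186069 → fs2 v = true := slots_step fs2 185810 259 186069 s2u607 s2c608 rfl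
theorem s2u609 : ∀ v, 1 ≤ v → v ≤ 186331 → fs2 v = true := slots_step fs2 186069 262 186331 s2u608 s2c609 rfl
theorem s2u610 : ∀ v, 1 ≤ v → v ≤ 186581 → fs2 v = true := slots_step fs2 186331 250 186581 s2u609 s2c610 rfl
theorem s2u611 : ∀ v, 1 ≤ v → v ≤ 186829 → fs2 v = true := slots_step fs2 186581 248 186829 s2u610 s2c611 rfl
theorem s2u612 : ∀ v, 1 ≤ v → v ≤ 187104 → fs2 v = true := slots_step fs2 186829 275 187104 s2u611 s2c612 rfl
theorem s2u613 : ∀ v, 1 ≤ v → v ≤ 187374 → fs2 v = true := slots_step fs2 187104 270 187374 s2u612 s2c613 rfl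
theorem s2u614 : ∀ v, 1 ≤ v → v ≤ 187632 → fs2 v = true := slots_step fs2 187374 258 187632 s2u613 s2c614 rfl
theorem s2u615 : ∀ v, 1 ≤ v → v ≤ 187906 → fs2 v = true := slots_step fs2 187632 274 187906 s2u614 s2c615 rfl
theorem s2u616 : ∀ v, 1 ≤ v → v ≤ 188187 → fs2 v = true := slots_step fs2 187906 281 188187 s2u615 s2c616 rfl
theorem s2u617 : ∀ v, 1 ≤ v → v ≤ 188473 → fs2 v = true := slots_step fs2 188187 286 188473 s2u616 s2c617 rfl
theorem s2u618 : ∀ v, 1 ≤ v → v ≤ 188748 → fs2 v = true := slots_step fs2 188473 275 188748 s2u617 s2c618 rfl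
theorem s2u619 : ∀ v, 1 ≤ v → v ≤ 188992 → fs2 v = true := slots_step fs2 188748 244 188992 s2u618 s2c619 rfl
theorem s2u620 : ∀ v, 1 ≤ v → v ≤ 189241 → fs2 v = true := slots_step fs2 188992 249 189241 s2u619 s2c620 rfl
theorem s2u621 : ∀ v, 1 ≤ v → v ≤ 189507 → fs2 v = true := slots_step fs2 189241 266 189507 s2u620 s2c621 rfl
theorem s2u622 : ∀ v, 1 ≤ v → v ≤ 189772 → fs2 v = true := slots_step fs2 189507 265 189772 s2u621 s2c622 rfl
theorem s2u623 : ∀ v, 1 ≤ v → v ≤ 190051 → fs2 v = true := slots_step fs2 189772 279 190051 s2u622 s2c623 rfl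
theorem s2u624 : ∀ v, 1 ≤ v → v ≤ 190318 → fs2 v = true := slots_step fs2 190051 267 190318 s2u623 s2c624 rfl
theorem s2u625 : ∀ v, 1 ≤ v → v ≤ 190589 → fs2 v = true := slots_step fs2 190318 271 190589 s2u624 s2c625 rfl
theorem s2u626 : ∀ v, 1 ≤ v → v ≤ 190878 → fs2 v = true := slots_step fs2 190589 289 190878 s2u625 s2c626 rfl
theorem s2u627 : ∀ v, 1 ≤ v → v ≤ 191141 → fs2 v = true := slots_step fs2 190878 263 191141 s2u626 s2c627 rfl
theorem s2u628 : ∀ v, 1 ≤ v → v ≤ 191411 → fs2 v = true := slots_step fs2 191141 270 191411 s2u627 s2c628 rfl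
theorem s2u629 : ∀ v, 1 ≤ v → v ≤ 191661 → fs2 v = true := slots_step fs2 191411 250 191661 s2u628 s2c629 rfl
theorem s2u630 : ∀ v, 1 ≤ v → v ≤ 191929 → fs2 v = true := slots_step fs2 191661 268 191929 s2u629 s2c630 rfl
theorem s2u631 : ∀ v, 1 ≤ v → v ≤ 192173 → fs2 v = true := slots_step fs2 191929 244 192173 s2u630 s2c631 rfl
theorem s2u632 : ∀ v, 1 ≤ v → v ≤ 192437 → fs2 v = true := slots_step fs2 192173 264 192437 s2u631 s2c632 rfl
theorem s2u633 : ∀ v, 1 ≤ v → v ≤ 192707 → fs2 v = true := slots_step fs2 192437 270 192707 s2u632 s2c633 rfl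
theorem s2u634 : ∀ v, 1 ≤ v → v ≤ 192971 → fs2 v = true := slots_step fs2 192707 264 192971 s2u633 s2c634 rfl
theorem s2u635 : ∀ v, 1 ≤ v → v ≤ 193218 → fs2 v = true := slots_step fs2 192971 247 193218 s2u634 s2c635 rfl
theorem s2u636 : ∀ v, 1 ≤ v → v ≤ 193481 → fs2 v = true := slots_step fs2 193218 263 193481 s2u635 s2c636 rfl
theorem s2u637 : ∀ v, 1 ≤ v → v ≤ 193754 → fs2 v = true := slots_step fs2 193481 273 193754 s2u636 s2c637 rfl
theorem s2u638 : ∀ v, 1 ≤ v → v ≤ 194029 → fs2 v = true := slots_step fs2 193754 275 194029 s2u637 s2c638 rfl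
theorem s2u639 : ∀ v, 1 ≤ v → v ≤ 194299 → fs2 v = true := slots_step fs2 194029 270 194299 s2u638 s2c639 rfl
theorem s2u640 : ∀ v, 1 ≤ v → v ≤ 194565 → fs2 v = true := slots_step fs2 194299 266 194565 s2u639 s2c640 rfl
theorem s2u641 : ∀ v, 1 ≤ v → v ≤ 194839 → fs2 v = true := slots_step fs2 194565 274 194839 s2u640 s2c641 rfl
theorem s2u642 : ∀ v, 1 ≤ v → v ≤ 195105 → fs2 v = true := slots_step fs2 194839 266 195105 s2u641 s2c642 rfl
theorem s2u643 : ∀ v, 1 ≤ v → v ≤ 195374 → fs2 v = true := slots_step fs2 195105 269 195374 s2u642 s2c643 rfl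
theorem s2u644 : ∀ v, 1 ≤ v → v ≤ 195653 → fs2 v = true := slots_step fs2 195374 279 195653 s2u643 s2c644 rfl
theorem s2u645 : ∀ v, 1 ≤ v → v ≤ 195926 → fs2 v = true := slots_step fs2 195653 273 195926 s2u644 s2c645 rfl
theorem s2u646 : ∀ v, 1 ≤ v → v ≤ 196219 → fs2 v = true := slots_step fs2 195926 293 196219 s2u645 s2c646 rfl
theorem s2u647 : ∀ v, 1 ≤ v → v ≤ 196489 → fs2 v = true := slots_step fs2 196219 270 196489 s2u646 s2c647 rfl
theorem s2u648 : ∀ v, 1 ≤ v → v ≤ 196739 → fs2 v = true := slots_step fs2 196489 250 196739 s2u647 s2c648 rfl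
theorem s2u649 : ∀ v, 1 ≤ v → v ≤ 196992 → fs2 v = true := slots_step fs2 196739 253 196992 s2u648 s2c649 rfl
theorem s2u650 : ∀ v, 1 ≤ v → v ≤ 197254 → fs2 v = true := slots_step fs2 196992 262 197254 s2u649 s2c650 rfl
theorem s2u651 : ∀ v, 1 ≤ v → v ≤ 197532 → fs2 v = true := slots_step fs2 197254 278 197532 s2u650 s2c651 rfl
theorem s2u652 : ∀ v, 1 ≤ v → v ≤ 197817 → fs2 v = true := slots_step fs2 197532 285 197817 s2u651 s2c652 rfl
theorem s2u653 : ∀ v, 1 ≤ v → v ≤ 198092 → fs2 v = true := slots_step fs2 197817 275 198092 s2u652 s2c653 rfl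
theorem s2u654 : ∀ v, 1 ≤ v → v ≤ 198363 → fs2 v = true := slots_step fs2 198092 271 198363 s2u653 s2c654 rfl
theorem s2u655 : ∀ v, 1 ≤ v → v ≤ 198630 → fs2 v = true := slots_step fs2 198363 267 198630 s2u654 s2c655 rfl
theorem s2u656 : ∀ v, 1 ≤ v → v ≤ 198875 → fs2 v = true := slots_step fs2 198630 245 198875 s2u655 s2c656 rfl
theorem s2u657 : ∀ v, 1 ≤ v → v ≤ 199128 → fs2 v = true := slots_step fs2 198875 253 199128 s2u656 s2c657 rfl
theorem s2u658 : ∀ v, 1 ≤ v → v ≤ 199375 → fs2 v = true := slots_step fs2 199128 247 199375 s2u657 s2c658 rfl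
theorem s2u659 : ∀ v, 1 ≤ v → v ≤ 199633 → fs2 v = true := slots_step fs2 199375 258 199633 s2u658 s2c659 rfl
theorem s2u660 : ∀ v, 1 ≤ v → v ≤ 199904 → fs2 v = true := slots_step fs2 199633 271 199904 s2u659 s2c660 rfl
theorem s2u661 : ∀ v, 1 ≤ v → v ≤ 200158 → fs2 v = true := slots_step fs2 199904 254 200158 s2u660 s2c661 rfl
theorem s2u662 : ∀ v, 1 ≤ v → v ≤ 200406 → fs2 v = true := slots_step fs2 200158 248 200406 s2u661 s2c662 rfl
theorem s2u663 : ∀ v, 1 ≤ v → v ≤ 200646 → fs2 v = true := slots_step fs2 200406 240 200646 s2u662 s2c663 rfl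
theorem s2u664 : ∀ v, 1 ≤ v → v ≤ 200899 → fs2 v = true := slots_step fs2 200646 253 200899 s2u663 s2c664 rfl
theorem s2u665 : ∀ v, 1 ≤ v → v ≤ 201165 → fs2 v = true := slots_step fs2 200899 266 201165 s2u664 s2c665 rfl
theorem s2u666 : ∀ v, 1 ≤ v → v ≤ 201425 → fs2 v = true := slots_step fs2 201165 260 201425 s2u665 s2c666 rfl
theorem s2u667 : ∀ v, 1 ≤ v → v ≤ 201687 → fs2 v = true := slots_step fs2 201425 262 201687 s2u666 s2c667 rfl
theorem s2u668 : ∀ v, 1 ≤ v → v ≤ 201933 → fs2 v = true := slots_step fs2 201687 246 201933 s2u667 s2c668 rfl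
theorem s2u669 : ∀ v, 1 ≤ v → v ≤ 202173 → fs2 v = true := slots_step fs2 201933 240 202173 s2u668 s2c669 rfl
theorem s2u670 : ∀ v, 1 ≤ v → v ≤ 202419 → fs2 v = true := slots_step fs2 202173 246 202419 s2u669 s2c670 rfl
theorem s2u671 : ∀ v, 1 ≤ v → v ≤ 202673 → fs2 v = true := slots_step fs2 202419 254 202673 s2u670 s2c671 rfl
theorem s2u672 : ∀ v, 1 ≤ v → v ≤ 202937 → fs2 v = true := slots_step fs2 202673 264 202937 s2u671 s2c672 rfl
theorem s2u673 : ∀ v, 1 ≤ v → v ≤ 203212 → fs2 v = true := slots_step fs2 202937 275 203212 s2u672 s2c673 rfl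
theorem s2u674 : ∀ v, 1 ≤ v → v ≤ 203475 → fs2 v = true := slots_step fs2 203212 263 203475 s2u673 s2c674 rfl
theorem s2u675 : ∀ v, 1 ≤ v → v ≤ 203737 → fs2 v = true := slots_step fs2 203475 262 203737 s2u674 s2c675 rfl
theorem s2u676 : ∀ v, 1 ≤ v → v ≤ 204011 → fs2 v = true := slots_step fs2 203737 274 204011 s2u675 s2c676 rfl
theorem s2u677 : ∀ v, 1 ≤ v → v ≤ 204284 → fs2 v = true := slots_step fs2 204011 273 204284 s2u676 s2c677 rfl
theorem s2u678 : ∀ v, 1 ≤ v → v ≤ 204537 → fs2 v = true := slots_step fs2 204284 253 204537 s2u677 s2c678 rfl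
theorem s2u679 : ∀ v, 1 ≤ v → v ≤ 204779 → fs2 v = true := slots_step fs2 204537 242 204779 s2u678 s2c679 rfl
theorem s2u680 : ∀ v, 1 ≤ v → v ≤ 205040 → fs2 v = true := slots_step fs2 204779 261 205040 s2u679 s2c680 rfl
theorem s2u681 : ∀ v, 1 ≤ v → v ≤ 205288 → fs2 v = true := slots_step fs2 205040 248 205288 s2u680 s2c681 rfl
theorem s2u682 : ∀ v, 1 ≤ v → v ≤ 205566 → fs2 v = true := slots_step fs2 205288 278 205566 s2u681 s2c682 rfl
theorem s2u683 : ∀ v, 1 ≤ v → v ≤ 205835 → fs2 v = true := slots_step fs2 205566 269 205835 s2u682 s2c683 rfl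
theorem s2u684 : ∀ v, 1 ≤ v → v ≤ 206103 → fs2 v = true := slots_step fs2 205835 268 206103 s2u683 s2c684 rfl
theorem s2u685 : ∀ v, 1 ≤ v → v ≤ 206385 → fs2 v = true := slots_step fs2 206103 282 206385 s2u684 s2c685 rfl
theorem s2u686 : ∀ v, 1 ≤ v → v ≤ 206655 → fs2 v = true := slots_step fs2 206385 270 206655 s2u685 s2c686 rfl
theorem s2u687 : ∀ v, 1 ≤ v → v ≤ 206924 → fs2 v = true := slots_step fs2 206655 269 206924 s2u686 s2c687 rfl
theorem s2u688 : ∀ v, 1 ≤ v → v ≤ 207208 → fs2 v = true := slots_step fs2 206924 284 207208 s2u687 s2c688 rfl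
theorem s2u689 : ∀ v, 1 ≤ v → v ≤ 207474 → fs2 v = true := slots_step fs2 207208 266 207474 s2u688 s2c689 rfl
theorem s2u690 : ∀ v, 1 ≤ v → v ≤ 207727 → fs2 v = true := slots_step fs2 207474 253 207727 s2u689 s2c690 rfl
theorem s2u691 : ∀ v, 1 ≤ v → v ≤ 207988 → fs2 v = true := slots_step fs2 207727 261 207988 s2u690 s2c691 rfl
theorem s2u692 : ∀ v, 1 ≤ v → v ≤ 208248 → fs2 v = true := slots_step fs2 207988 260 208248 s2u691 s2c692 rfl
theorem s2u693 : ∀ v, 1 ≤ v → v ≤ 208497 → fs2 v = true := slots_step fs2 208248 249 208497 s2u692 s2c693 rfl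
theorem s2u694 : ∀ v, 1 ≤ v → v ≤ 208750 → fs2 v = true := slots_step fs2 208497 253 208750 s2u693 s2c694 rfl
theorem s2u695 : ∀ v, 1 ≤ v → v ≤ 209028 → fs2 v = true := slots_step fs2 208750 278 209028 s2u694 s2c695 rfl
theorem s2u696 : ∀ v, 1 ≤ v → v ≤ 209294 → fs2 v = true := slots_step fs2 209028 266 209294 s2u695 s2c696 rfl
theorem s2u697 : ∀ v, 1 ≤ v → v ≤ 209556 → fs2 v = true := slots_step fs2 209294 262 209556 s2u696 s2c697 rfl
theorem s2u698 : ∀ v, 1 ≤ v → v ≤ 209823 → fs2 v = true := slots_step fs2 209556 267 209823 s2u697 s2c698 rfl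
theorem s2u699 : ∀ v, 1 ≤ v → v ≤ 210114 → fs2 v = true := slots_step fs2 209823 291 210114 s2u698 s2c699 rfl
theorem s2u700 : ∀ v, 1 ≤ v → v ≤ 210383 → fs2 v = true := slots_step fs2 210114 269 210383 s2u699 s2c700 rfl
theorem s2u701 : ∀ v, 1 ≤ v → v ≤ 210685 → fs2 v = true := slots_step fs2 210383 302 210685 s2u700 s2c701 rfl
theorem s2u702 : ∀ v, 1 ≤ v → v ≤ 210930 → fs2 v = true := slots_step fs2 210685 245 210930 s2u701 s2c702 rfl
theorem s2u703 : ∀ v, 1 ≤ v → v ≤ 211176 → fs2 v = true := slots_step fs2 210930 246 211176 s2u702 s2c703 rfl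
theorem s2u704 : ∀ v, 1 ≤ v → v ≤ 211418 → fs2 v = true := slots_step fs2 211176 242 211418 s2u703 s2c704 rfl
theorem s2u705 : ∀ v, 1 ≤ v → v ≤ 211690 → fs2 v = true := slots_step fs2 211418 272 211690 s2u704 s2c705 rfl
theorem s2u706 : ∀ v, 1 ≤ v → v ≤ 211955 → fs2 v = true := slots_step fs2 211690 265 211955 s2u705 s2c706 rfl
theorem s2u707 : ∀ v, 1 ≤ v → v ≤ 212248 → fs2 v = true := slots_step fs2 211955 293 212248 s2u706 s2c707 rfl
theorem s2u708 : ∀ v, 1 ≤ v → v ≤ 212506 → fs2 v = true := slots_step fs2 212248 258 212506 s2u707 s2c708 rfl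
theorem s2u709 : ∀ v, 1 ≤ v → v ≤ 212784 → fs2 v = true := slots_step fs2 212506 278 212784 s2u708 s2c709 rfl
theorem s2u710 : ∀ v, 1 ≤ v → v ≤ 213068 → fs2 v = true := slots_step fs2 212784 284 213068 s2u709 s2c710 rfl
theorem s2u711 : ∀ v, 1 ≤ v → v ≤ 213348 → fs2 v = true := slots_step fs2 213068 280 213348 s2u710 s2c711 rfl
theorem s2u712 : ∀ v, 1 ≤ v → v ≤ 213616 → fs2 v = true := slots_step fs2 213348 268 213616 s2u711 s2c712 rfl
theorem s2u713 : ∀ v, 1 ≤ v → v ≤ 213877 → fs2 v = true := slots_step fs2 213616 261 213877 s2u712 s2c713 rfl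
theorem s2u714 : ∀ v, 1 ≤ v → v ≤ 214133 → fs2 v = true := slots_step fs2 213877 256 214133 s2u713 s2c714 rfl
theorem s2u715 : ∀ v, 1 ≤ v → v ≤ 214397 → fs2 v = true := slots_step fs2 214133 264 214397 s2u714 s2c715 rfl
theorem s2u716 : ∀ v, 1 ≤ v → v ≤ 214642 → fs2 v = true := slots_step fs2 214397 245 214642 s2u715 s2c716 rfl
theorem s2u717 : ∀ v, 1 ≤ v → v ≤ 214906 → fs2 v = true := slots_step fs2 214642 264 214906 s2u716 s2c717 rfl
theorem s2u718 : ∀ v, 1 ≤ v → v ≤ 215172 → fs2 v = true := slots_step fs2 214906 266 215172 s2u717 s2c718 rfl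
theorem s2u719 : ∀ v, 1 ≤ v → v ≤ 215438 → fs2 v = true := slots_step fs2 215172 266 215438 s2u718 s2c719 rfl
theorem s2u720 : ∀ v, 1 ≤ v → v ≤ 215688 → fs2 v = true := slots_step fs2 215438 250 215688 s2u719 s2c720 rfl
theorem s2u721 : ∀ v, 1 ≤ v → v ≤ 215945 → fs2 v = true := slots_step fs2 215688 257 215945 s2u720 s2c721 rfl
theorem s2u722 : ∀ v, 1 ≤ v → v ≤ 216212 → fs2 v = true := slots_step fs2 215945 267 216212 s2u721 s2c722 rfl
theorem s2u723 : ∀ v, 1 ≤ v → v ≤ 216472 → fs2 v = true := slots_step fs2 216212 260 216472 s2u722 s2c723 rfl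
theorem s2u724 : ∀ v, 1 ≤ v → v ≤ 216757 → fs2 v = true := slots_step fs2 216472 285 216757 s2u723 s2c724 rfl
theorem s2u725 : ∀ v, 1 ≤ v → v ≤ 217024 → fs2 v = true := slots_step fs2 216757 267 217024 s2u724 s2c725 rfl
theorem s2u726 : ∀ v, 1 ≤ v → v ≤ 217283 → fs2 v = true := slots_step fs2 217024 259 217283 s2u725 s2c726 rfl
theorem s2u727 : ∀ v, 1 ≤ v → v ≤ 217554 → fs2 v = true := slots_step fs2 217283 271 217554 s2u726 s2c727 rfl
theorem s2u728 : ∀ v, 1 ≤ v → v ≤ 217843 → fs2 v = true := slots_step fs2 217554 289 217843 s2u727 s2c728 rfl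
theorem s2u729 : ∀ v, 1 ≤ v → v ≤ 218108 → fs2 v = true := slots_step fs2 217843 265 218108 s2u728 s2c729 rfl
theorem s2u730 : ∀ v, 1 ≤ v → v ≤ 218375 → fs2 v = true := slots_step fs2 218108 267 218375 s2u729 s2c730 rfl
theorem s2u731 : ∀ v, 1 ≤ v → v ≤ 218651 → fs2 v = true := slots_step fs2 218375 276 218651 s2u730 s2c731 rfl
theorem s2u732 : ∀ v, 1 ≤ v → v ≤ 218939 → fs2 v = true := slots_step fs2 218651 288 218939 s2u731 s2c732 rfl
theorem s2u733 : ∀ v, 1 ≤ v → v ≤ 219223 → fs2 v = true := slots_step fs2 218939 284 219223 s2u732 s2c733 rfl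
theorem s2u734 : ∀ v, 1 ≤ v → v ≤ 219488 → fs2 v = true := slots_step fs2 219223 265 219488 s2u733 s2c734 rfl
theorem s2u735 : ∀ v, 1 ≤ v → v ≤ 219745 → fs2 v = true := slots_step fs2 219488 257 219745 s2u734 s2c735 rfl
theorem s2u736 : ∀ v, 1 ≤ v → v ≤ 220012 → fs2 v = true := slots_step fs2 219745 267 220012 s2u735 s2c736 rfl
theorem s2u737 : ∀ v, 1 ≤ v → v ≤ 220276 → fs2 v = true := slots_step fs2 220012 264 220276 s2u736 s2c737 rfl
theorem s2u738 : ∀ v, 1 ≤ v → v ≤ 220571 → fs2 v = true := slots_step fs2 220276 295 220571 s2u737 s2c738 rfl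
theorem s2u739 : ∀ v, 1 ≤ v → v ≤ 220848 → fs2 v = true := slots_step fs2 220571 277 220848 s2u738 s2c739 rfl
theorem s2u740 : ∀ v, 1 ≤ v → v ≤ 221122 → fs2 v = true := slots_step fs2 220848 274 221122 s2u739 s2c740 rfl
theorem s2u741 : ∀ v, 1 ≤ v → v ≤ 221403 → fs2 v = true := slots_step fs2 221122 281 221403 s2u740 s2c741 rfl
theorem s2u742 : ∀ v, 1 ≤ v → v ≤ 221646 → fs2 v = true := slots_step fs2 221403 243 221646 s2u741 s2c742 rfl
theorem s2u743 : ∀ v, 1 ≤ v → v ≤ 221896 → fs2 v = true := slots_step fs2 221646 250 221896 s2u742 s2c743 rfl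
theorem s2u744 : ∀ v, 1 ≤ v → v ≤ 222148 → fs2 v = true := slots_step fs2 221896 252 222148 s2u743 s2c744 rfl
theorem s2u745 : ∀ v, 1 ≤ v → v ≤ 222405 → fs2 v = true := slots_step fs2 222148 257 222405 s2u744 s2c745 rfl
theorem s2u746 : ∀ v, 1 ≤ v → v ≤ 222675 → fs2 v = true := slots_step fs2 222405 270 222675 s2u745 s2c746 rfl
theorem s2u747 : ∀ v, 1 ≤ v → v ≤ 222926 → fs2 v = true := slots_step fs2 222675 251 222926 s2u746 s2c747 rfl
theorem s2u748 : ∀ v, 1 ≤ v → v ≤ 223172 → fs2 v = true := slots_step fs2 222926 246 223172 s2u747 s2c748 rfl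
theorem s2u749 : ∀ v, 1 ≤ v → v ≤ 223416 → fs2 v = true := slots_step fs2 223172 244 223416 s2u748 s2c749 rfl
theorem s2u750 : ∀ v, 1 ≤ v → v ≤ 223661 → fs2 v = true := slots_step fs2 223416 245 223661 s2u749 s2c750 rfl
theorem s2u751 : ∀ v, 1 ≤ v → v ≤ 223907 → fs2 v = true := slots_step fs2 223661 246 223907 s2u750 s2c751 rfl
theorem s2u752 : ∀ v, 1 ≤ v → v ≤ 224171 → fs2 v = true := slots_step fs2 223907 264 224171 s2u751 s2c752 rfl
theorem s2u753 : ∀ v, 1 ≤ v → v ≤ 224420 → fs2 v = true := slots_step fs2 224171 249 224420 s2u752 s2c753 rfl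
theorem s2u754 : ∀ v, 1 ≤ v → v ≤ 224692 → fs2 v = true := slots_step fs2 224420 272 224692 s2u753 s2c754 rfl
theorem s2u755 : ∀ v, 1 ≤ v → v ≤ 224934 → fs2 v = true := slots_step fs2 224692 242 224934 s2u754 s2c755 rfl
theorem s2u756 : ∀ v, 1 ≤ v → v ≤ 225171 → fs2 v = true := slots_step fs2 224934 237 225171 s2u755 s2c756 rfl
theorem s2u757 : ∀ v, 1 ≤ v → v ≤ 225415 → fs2 v = true := slots_step fs2 225171 244 225415 s2u756 s2c757 rfl
theorem s2u758 : ∀ v, 1 ≤ v → v ≤ 225675 → fs2 v = true := slots_step fs2 225415 260 225675 s2u757 s2c758 rfl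
theorem s2u759 : ∀ v, 1 ≤ v → v ≤ 225931 → fs2 v = true := slots_step fs2 225675 256 225931 s2u758 s2c759 rfl
theorem s2u760 : ∀ v, 1 ≤ v → v ≤ 226195 → fs2 v = true := slots_step fs2 225931 264 226195 s2u759 s2c760 rfl
theorem s2u761 : ∀ v, 1 ≤ v → v ≤ 226452 → fs2 v = true := slots_step fs2 226195 257 226452 s2u760 s2c761 rfl
theorem s2u762 : ∀ v, 1 ≤ v → v ≤ 226730 → fs2 v = true := slots_step fs2 226452 278 226730 s2u761 s2c762 rfl
theorem s2u763 : ∀ v, 1 ≤ v → v ≤ 226990 → fs2 v = true := slots_step fs2 226730 260 226990 s2u762 s2c763 rfl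
theorem s2u764 : ∀ v, 1 ≤ v → v ≤ 227258 → fs2 v = true := slots_step fs2 226990 268 227258 s2u763 s2c764 rfl
theorem s2u765 : ∀ v, 1 ≤ v → v ≤ 227529 → fs2 v = true := slots_step fs2 227258 271 227529 s2u764 s2c765 rfl
theorem s2u766 : ∀ v, 1 ≤ v → v ≤ 227770 → fs2 v = true := slots_step fs2 227529 241 227770 s2u765 s2c766 rfl
theorem s2u767 : ∀ v, 1 ≤ v → v ≤ 228009 → fs2 v = true := slots_step fs2 227770 239 228009 s2u766 s2c767 rfl
theorem s2u768 : ∀ v, 1 ≤ v → v ≤ 228258 → fs2 v = true := slots_step fs2 228009 249 228258 s2u767 s2c768 rfl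
theorem s2u769 : ∀ v, 1 ≤ v → v ≤ 228509 → fs2 v = true := slots_step fs2 228258 251 228509 s2u768 s2c769 rfl
theorem s2u770 : ∀ v, 1 ≤ v → v ≤ 228777 → fs2 v = true := slots_step fs2 228509 268 228777 s2u769 s2c770 rfl
theorem s2u771 : ∀ v, 1 ≤ v → v ≤ 229045 → fs2 v = true := slots_step fs2 228777 268 229045 s2u770 s2c771 rfl
theorem s2u772 : ∀ v, 1 ≤ v → v ≤ 229307 → fs2 v = true := slots_step fs2 229045 262 229307 s2u771 s2c772 rfl
theorem s2u773 : ∀ v, 1 ≤ v → v ≤ 229585 → fs2 v = true := slots_step fs2 229307 278 229585 s2u772 s2c773 rfl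
theorem s2u774 : ∀ v, 1 ≤ v → v ≤ 229863 → fs2 v = true := slots_step fs2 229585 278 229863 s2u773 s2c774 rfl
theorem s2u775 : ∀ v, 1 ≤ v → v ≤ 230125 → fs2 v = true := slots_step fs2 229863 262 230125 s2u774 s2c775 rfl
theorem s2u776 : ∀ v, 1 ≤ v → v ≤ 230391 → fs2 v = true := slots_step fs2 230125 266 230391 s2u775 s2c776 rfl
theorem s2u777 : ∀ v, 1 ≤ v → v ≤ 230669 → fs2 v = true := slots_step fs2 230391 278 230669 s2u776 s2c777 rfl
theorem s2u778 : ∀ v, 1 ≤ v → v ≤ 230934 → fs2 v = true := slots_step fs2 230669 265 230934 s2u777 s2c778 rfl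
theorem s2u779 : ∀ v, 1 ≤ v → v ≤ 231188 → fs2 v = true := slots_step fs2 230934 254 231188 s2u778 s2c779 rfl
theorem s2u780 : ∀ v, 1 ≤ v → v ≤ 231445 → fs2 v = true := slots_step fs2 231188 257 231445 s2u779 s2c780 rfl
theorem s2u781 : ∀ v, 1 ≤ v → v ≤ 231705 → fs2 v = true := slots_step fs2 231445 260 231705 s2u780 s2c781 rfl
theorem s2u782 : ∀ v, 1 ≤ v → v ≤ 231956 → fs2 v = true := slots_step fs2 231705 251 231956 s2u781 s2c782 rfl
theorem s2u783 : ∀ v, 1 ≤ v → v ≤ 232212 → fs2 v = true := slots_step fs2 231956 256 232212 s2u782 s2c783 rfl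
theorem s2u784 : ∀ v, 1 ≤ v → v ≤ 232495 → fs2 v = true := slots_step fs2 232212 283 232495 s2u783 s2c784 rfl
theorem s2u785 : ∀ v, 1 ≤ v → v ≤ 232759 → fs2 v = true := slots_step fs2 232495 264 232759 s2u784 s2c785 rfl
theorem s2u786 : ∀ v, 1 ≤ v → v ≤ 233019 → fs2 v = true := slots_step fs2 232759 260 233019 s2u785 s2c786 rfl
theorem s2u787 : ∀ v, 1 ≤ v → v ≤ 233283 → fs2 v = true := slots_step fs2 233019 264 233283 s2u786 s2c787 rfl
theorem s2u788 : ∀ v, 1 ≤ v → v ≤ 233579 → fs2 v = true := slots_step fs2 233283 296 233579 s2u787 s2c788 rfl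
theorem s2u789 : ∀ v, 1 ≤ v → v ≤ 233842 → fs2 v = true := slots_step fs2 233579 263 233842 s2u788 s2c789 rfl
theorem s2u790 : ∀ v, 1 ≤ v → v ≤ 234146 → fs2 v = true := slots_step fs2 233842 304 234146 s2u789 s2c790 rfl
theorem s2u791 : ∀ v, 1 ≤ v → v ≤ 234398 → fs2 v = true := slots_step fs2 234146 252 234398 s2u790 s2c791 rfl
theorem s2u792 : ∀ v, 1 ≤ v → v ≤ 234641 → fs2 v = true := slots_step fs2 234398 243 234641 s2u791 s2c792 rfl
theorem s2u793 : ∀ v, 1 ≤ v → v ≤ 234882 → fs2 v = true := slots_step fs2 234641 241 234882 s2u792 s2c793 rfl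
theorem s2u794 : ∀ v, 1 ≤ v → v ≤ 235142 → fs2 v = true := slots_step fs2 234882 260 235142 s2u793 s2c794 rfl
theorem s2u795 : ∀ v, 1 ≤ v → v ≤ 235413 → fs2 v = true := slots_step fs2 235142 271 235413 s2u794 s2c795 rfl
theorem s2u796 : ∀ v, 1 ≤ v → v ≤ 235691 → fs2 v = true := slots_step fs2 235413 278 235691 s2u795 s2c796 rfl
theorem s2u797 : ∀ v, 1 ≤ v → v ≤ 235978 → fs2 v = true := slots_step fs2 235691 287 235978 s2u796 s2c797 rfl
theorem s2u798 : ∀ v, 1 ≤ v → v ≤ 236232 → fs2 v = true := slots_step fs2 235978 254 236232 s2u797 s2c798 rfl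
theorem s2u799 : ∀ v, 1 ≤ v → v ≤ 236512 → fs2 v = true := slots_step fs2 236232 280 236512 s2u798 s2c799 rfl
theorem s2u800 : ∀ v, 1 ≤ v → v ≤ 236792 → fs2 v = true := slots_step fs2 236512 280 236792 s2u799 s2c800 rfl
theorem s2u801 : ∀ v, 1 ≤ v → v ≤ 237078 → fs2 v = true := slots_step fs2 236792 286 237078 s2u800 s2c801 rfl
theorem s2u802 : ∀ v, 1 ≤ v → v ≤ 237347 → fs2 v = true := slots_step fs2 237078 269 237347 s2u801 s2c802 rfl
theorem s2u803 : ∀ v, 1 ≤ v → v ≤ 237613 → fs2 v = true := slots_step fs2 237347 266 237613 s2u802 s2c803 rfl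
theorem s2u804 : ∀ v, 1 ≤ v → v ≤ 237869 → fs2 v = true := slots_step fs2 237613 256 237869 s2u803 s2c804 rfl
theorem s2u805 : ∀ v, 1 ≤ v → v ≤ 238123 → fs2 v = true := slots_step fs2 237869 254 238123 s2u804 s2c805 rfl
theorem s2u806 : ∀ v, 1 ≤ v → v ≤ 238386 → fs2 v = true := slots_step fs2 238123 263 238386 s2u805 s2c806 rfl
theorem s2u807 : ∀ v, 1 ≤ v → v ≤ 238632 → fs2 v = true := slots_step fs2 238386 246 238632 s2u806 s2c807 rfl
theorem s2u808 : ∀ v, 1 ≤ v → v ≤ 238901 → fs2 v = true := slots_step fs2 238632 269 238901 s2u807 s2c808 rfl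
theorem s2u809 : ∀ v, 1 ≤ v → v ≤ 239165 → fs2 v = true := slots_step fs2 238901 264 239165 s2u808 s2c809 rfl
theorem s2u810 : ∀ v, 1 ≤ v → v ≤ 239433 → fs2 v = true := slots_step fs2 239165 268 239433 s2u809 s2c810 rfl
theorem s2u811 : ∀ v, 1 ≤ v → v ≤ 239689 → fs2 v = true := slots_step fs2 239433 256 239689 s2u810 s2c811 rfl
theorem s2u812 : ∀ v, 1 ≤ v → v ≤ 239945 → fs2 v = true := slots_step fs2 239689 256 239945 s2u811 s2c812 rfl
theorem s2u813 : ∀ v, 1 ≤ v → v ≤ 240210 → fs2 v = true := slots_step fs2 239945 265 240210 s2u812 s2c813 rfl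
theorem s2u814 : ∀ v, 1 ≤ v → v ≤ 240473 → fs2 v = true := slots_step fs2 240210 263 240473 s2u813 s2c814 rfl
theorem s2u815 : ∀ v, 1 ≤ v → v ≤ 240743 → fs2 v = true := slots_step fs2 240473 270 240743 s2u814 s2c815 rfl
theorem s2u816 : ∀ v, 1 ≤ v → v ≤ 241022 → fs2 v = true := slots_step fs2 240743 279 241022 s2u815 s2c816 rfl
theorem s2u817 : ∀ v, 1 ≤ v → v ≤ 241286 → fs2 v = true := slots_step fs2 241022 264 241286 s2u816 s2c817 rfl
theorem s2u818 : ∀ v, 1 ≤ v → v ≤ 241545 → fs2 v = true := slots_step fs2 241286 259 241545 s2u817 s2c818 rfl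
theorem s2u819 : ∀ v, 1 ≤ v → v ≤ 241817 → fs2 v = true := slots_step fs2 241545 272 241817 s2u818 s2c819 rfl
theorem s2u820 : ∀ v, 1 ≤ v → v ≤ 242114 → fs2 v = true := slots_step fs2 241817 297 242114 s2u819 s2c820 rfl
theorem s2u821 : ∀ v, 1 ≤ v → v ≤ 242377 → fs2 v = true := slots_step fs2 242114 263 242377 s2u820 s2c821 rfl
theorem s2u822 : ∀ v, 1 ≤ v → v ≤ 242637 → fs2 v = true := slots_step fs2 242377 260 242637 s2u821 s2c822 rfl
theorem s2u823 : ∀ v, 1 ≤ v → v ≤ 242914 → fs2 v = true := slots_step fs2 242637 277 242914 s2u822 s2c823 rfl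
theorem s2u824 : ∀ v, 1 ≤ v → v ≤ 243191 → fs2 v = true := slots_step fs2 242914 277 243191 s2u823 s2c824 rfl
theorem s2u825 : ∀ v, 1 ≤ v → v ≤ 243486 → fs2 v = true := slots_step fs2 243191 295 243486 s2u824 s2c825 rfl
theorem s2u826 : ∀ v, 1 ≤ v → v ≤ 243753 → fs2 v = true := slots_step fs2 243486 267 243753 s2u825 s2c826 rfl
theorem s2u827 : ∀ v, 1 ≤ v → v ≤ 244016 → fs2 v = true := slots_step fs2 243753 263 244016 s2u826 s2c827 rfl
theorem s2u828 : ∀ v, 1 ≤ v → v ≤ 244279 → fs2 v = true := slots_step fs2 244016 263 244279 s2u827 s2c828 rfl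
theorem s2u829 : ∀ v, 1 ≤ v → v ≤ 244550 → fs2 v = true := slots_step fs2 244279 271 244550 s2u828 s2c829 rfl
theorem s2u830 : ∀ v, 1 ≤ v → v ≤ 244835 → fs2 v = true := slots_step fs2 244550 285 244835 s2u829 s2c830 rfl
theorem s2u831 : ∀ v, 1 ≤ v → v ≤ 245118 → fs2 v = true := slots_step fs2 244835 283 245118 s2u830 s2c831 rfl
theorem s2u832 : ∀ v, 1 ≤ v → v ≤ 245396 → fs2 v = true := slots_step fs2 245118 278 245396 s2u831 s2c832 rfl
theorem s2u833 : ∀ v, 1 ≤ v → v ≤ 245671 → fs2 v = true := slots_step fs2 245396 275 245671 s2u832 s2c833 rfl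
theorem s2u834 : ∀ v, 1 ≤ v → v ≤ 245932 → fs2 v = true := slots_step fs2 245671 261 245932 s2u833 s2c834 rfl
theorem s2u835 : ∀ v, 1 ≤ v → v ≤ 246181 → fs2 v = true := slots_step fs2 245932 249 246181 s2u834 s2c835 rfl
theorem s2u836 : ∀ v, 1 ≤ v → v ≤ 246434 → fs2 v = true := slots_step fs2 246181 253 246434 s2u835 s2c836 rfl
theorem s2u837 : ∀ v, 1 ≤ v → v ≤ 246697 → fs2 v = true := slots_step fs2 246434 263 246697 s2u836 s2c837 rfl
theorem s2u838 : ∀ v, 1 ≤ v → v ≤ 246970 → fs2 v = true := slots_step fs2 246697 273 246970 s2u837 s2c838 rfl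
theorem s2u839 : ∀ v, 1 ≤ v → v ≤ 247198 → fs2 v = true := slots_step fs2 246970 228 247198 s2u838 s2c839 rfl
theorem s2u840 : ∀ v, 1 ≤ v → v ≤ 247451 → fs2 v = true := slots_step fs2 247198 253 247451 s2u839 s2c840 rfl
theorem s2u841 : ∀ v, 1 ≤ v → v ≤ 247692 → fs2 v = true := slots_step fs2 247451 241 247692 s2u840 s2c841 rfl
theorem s2u842 : ∀ v, 1 ≤ v → v ≤ 247933 → fs2 v = true := slots_step fs2 247692 241 247933 s2u841 s2c842 rfl
theorem s2u843 : ∀ v, 1 ≤ v → v ≤ 248180 → fs2 v = true := slots_step fs2 247933 247 248180 s2u842 s2c843 rfl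
theorem s2u844 : ∀ v, 1 ≤ v → v ≤ 248453 → fs2 v = true := slots_step fs2 248180 273 248453 s2u843 s2c844 rfl
theorem s2u845 : ∀ v, 1 ≤ v → v ≤ 248696 → fs2 v = true := slots_step fs2 248453 243 248696 s2u844 s2c845 rfl
theorem s2u846 : ∀ v, 1 ≤ v → v ≤ 248949 → fs2 v = true := slots_step fs2 248696 253 248949 s2u845 s2c846 rfl
theorem s2u847 : ∀ v, 1 ≤ v → v ≤ 249214 → fs2 v = true := slots_step fs2 248949 265 249214 s2u846 s2c847 rfl
theorem s2u848 : ∀ v, 1 ≤ v → v ≤ 249452 → fs2 v = true := slots_step fs2 249214 238 249452 s2u847 s2c848 rfl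
theorem s2u849 : ∀ v, 1 ≤ v → v ≤ 249683 → fs2 v = true := slots_step fs2 249452 231 249683 s2u848 s2c849 rfl
theorem s2u850 : ∀ v, 1 ≤ v → v ≤ 249924 → fs2 v = true := slots_step fs2 249683 241 249924 s2u849 s2c850 rfl
theorem s2u851 : ∀ v, 1 ≤ v → v ≤ 250185 → fs2 v = true := slots_step fs2 249924 261 250185 s2u850 s2c851 rfl
theorem s2u852 : ∀ v, 1 ≤ v → v ≤ 250438 → fs2 v = true := slots_step fs2 250185 253 250438 s2u851 s2c852 rfl
theorem s2u853 : ∀ v, 1 ≤ v → v ≤ 250699 → fs2 v = true := slots_step fs2 250438 261 250699 s2u852 s2c853 rfl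
theorem s2u854 : ∀ v, 1 ≤ v → v ≤ 250959 → fs2 v = true := slots_step fs2 250699 260 250959 s2u853 s2c854 rfl
theorem s2u855 : ∀ v, 1 ≤ v → v ≤ 251223 → fs2 v = true := slots_step fs2 250959 264 251223 s2u854 s2c855 rfl
theorem s2u856 : ∀ v, 1 ≤ v → v ≤ 251481 → fs2 v = true := slots_step fs2 251223 258 251481 s2u855 s2c856 rfl
theorem s2u857 : ∀ v, 1 ≤ v → v ≤ 251753 → fs2 v = true := slots_step fs2 251481 272 251753 s2u856 s2c857 rfl
theorem s2u858 : ∀ v, 1 ≤ v → v ≤ 252008 → fs2 v = true := slots_step fs2 251753 255 252008 s2u857 s2c858 rfl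
theorem s2u859 : ∀ v, 1 ≤ v → v ≤ 252272 → fs2 v = true := slots_step fs2 252008 264 252272 s2u858 s2c859 rfl
theorem s2u860 : ∀ v, 1 ≤ v → v ≤ 252513 → fs2 v = true := slots_step fs2 252272 241 252513 s2u859 s2c860 rfl
theorem s2u861 : ∀ v, 1 ≤ v → v ≤ 252766 → fs2 v = true := slots_step fs2 252513 253 252766 s2u860 s2c861 rfl
theorem s2u862 : ∀ v, 1 ≤ v → v ≤ 253016 → fs2 v = true := slots_step fs2 252766 250 253016 s2u861 s2c862 rfl
theorem s2u863 : ∀ v, 1 ≤ v → v ≤ 253269 → fs2 v = true := slots_step fs2 253016 253 253269 s2u862 s2c863 rfl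
theorem s2u864 : ∀ v, 1 ≤ v → v ≤ 253542 → fs2 v = true := slots_step fs2 253269 273 253542 s2u863 s2c864 rfl
theorem s2u865 : ∀ v, 1 ≤ v → v ≤ 253805 → fs2 v = true := slots_step fs2 253542 263 253805 s2u864 s2c865 rfl
theorem s2u866 : ∀ v, 1 ≤ v → v ≤ 254066 → fs2 v = true := slots_step fs2 253805 261 254066 s2u865 s2c866 rfl
theorem s2u867 : ∀ v, 1 ≤ v → v ≤ 254339 → fs2 v = true := slots_step fs2 254066 273 254339 s2u866 s2c867 rfl
theorem s2u868 : ∀ v, 1 ≤ v → v ≤ 254619 → fs2 v = true := slots_step fs2 254339 280 254619 s2u867 s2c868 rfl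
theorem s2u869 : ∀ v, 1 ≤ v → v ≤ 254874 → fs2 v = true := slots_step fs2 254619 255 254874 s2u868 s2c869 rfl
theorem s2u870 : ∀ v, 1 ≤ v → v ≤ 255138 → fs2 v = true := slots_step fs2 254874 264 255138 s2u869 s2c870 rfl
theorem s2u871 : ∀ v, 1 ≤ v → v ≤ 255413 → fs2 v = true := slots_step fs2 255138 275 255413 s2u870 s2c871 rfl
theorem s2u872 : ∀ v, 1 ≤ v → v ≤ 255677 → fs2 v = true := slots_step fs2 255413 264 255677 s2u871 s2c872 rfl
theorem s2u873 : ∀ v, 1 ≤ v → v ≤ 255934 → fs2 v = true := slots_step fs2 255677 257 255934 s2u872 s2c873 rfl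
theorem s2u874 : ∀ v, 1 ≤ v → v ≤ 256189 → fs2 v = true := slots_step fs2 255934 255 256189 s2u873 s2c874 rfl
theorem s2u875 : ∀ v, 1 ≤ v → v ≤ 256448 → fs2 v = true := slots_step fs2 256189 259 256448 s2u874 s2c875 rfl
theorem s2u876 : ∀ v, 1 ≤ v → v ≤ 256705 → fs2 v = true := slots_step fs2 256448 257 256705 s2u875 s2c876 rfl
theorem s2u877 : ∀ v, 1 ≤ v → v ≤ 256953 → fs2 v = true := slots_step fs2 256705 248 256953 s2u876 s2c877 rfl
theorem s2u878 : ∀ v, 1 ≤ v → v ≤ 257230 → fs2 v = true := slots_step fs2 256953 277 257230 s2u877 s2c878 rfl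
theorem s2u879 : ∀ v, 1 ≤ v → v ≤ 257499 → fs2 v = true := slots_step fs2 257230 269 257499 s2u878 s2c879 rfl
theorem s2u880 : ∀ v, 1 ≤ v → v ≤ 257758 → fs2 v = true := slots_step fs2 257499 259 257758 s2u879 s2c880 rfl
theorem s2u881 : ∀ v, 1 ≤ v → v ≤ 258020 → fs2 v = true := slots_step fs2 257758 262 258020 s2u880 s2c881 rfl
theorem s2u882 : ∀ v, 1 ≤ v → v ≤ 258301 → fs2 v = true := slots_step fs2 258020 281 258301 s2u881 s2c882 rfl
theorem s2u883 : ∀ v, 1 ≤ v → v ≤ 258584 → fs2 v = true := slots_step fs2 258301 283 258584 s2u882 s2c883 rfl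
theorem s2u884 : ∀ v, 1 ≤ v → v ≤ 258864 → fs2 v = true := slots_step fs2 258584 280 258864 s2u883 s2c884 rfl
theorem s2u885 : ∀ v, 1 ≤ v → v ≤ 259149 → fs2 v = true := slots_step fs2 258864 285 259149 s2u884 s2c885 rfl
theorem s2u886 : ∀ v, 1 ≤ v → v ≤ 259357 → fs2 v = true := slots_step fs2 259149 208 259357 s2u885 s2c886 rfl
theorem s2u887 : ∀ v, 1 ≤ v → v ≤ 259598 → fs2 v = true := slots_step fs2 259357 241 259598 s2u886 s2c887 rfl
theorem s2u888 : ∀ v, 1 ≤ v → v ≤ 259843 → fs2 v = true := slots_step fs2 259598 245 259843 s2u887 s2c888 rfl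
theorem s2u889 : ∀ v, 1 ≤ v → v ≤ 260099 → fs2 v = true := slots_step fs2 259843 256 260099 s2u888 s2c889 rfl
theorem s2u890 : ∀ v, 1 ≤ v → v ≤ 260374 → fs2 v = true := slots_step fs2 260099 275 260374 s2u889 s2c890 rfl
theorem s2u891 : ∀ v, 1 ≤ v → v ≤ 260650 → fs2 v = true := slots_step fs2 260374 276 260650 s2u890 s2c891 rfl
theorem s2u892 : ∀ v, 1 ≤ v → v ≤ 260935 → fs2 v = true := slots_step fs2 260650 285 260935 s2u891 s2c892 rfl
theorem s2u893 : ∀ v, 1 ≤ v → v ≤ 261208 → fs2 v = true := slots_step fs2 260935 273 261208 s2u892 s2c893 rfl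
theorem s2u894 : ∀ v, 1 ≤ v → v ≤ 261476 → fs2 v = true := slots_step fs2 261208 268 261476 s2u893 s2c894 rfl
theorem s2u895 : ∀ v, 1 ≤ v → v ≤ 261746 → fs2 v = true := slots_step fs2 261476 270 261746 s2u894 s2c895 rfl
theorem s2u896 : ∀ v, 1 ≤ v → v ≤ 262030 → fs2 v = true := slots_step fs2 261746 284 262030 s2u895 s2c896 rfl
theorem s2u897 : ∀ v, 1 ≤ v → v ≤ 262304 → fs2 v = true := slots_step fs2 262030 274 262304 s2u896 s2c897 rfl
theorem s2u898 : ∀ v, 1 ≤ v → v ≤ 262579 → fs2 v = true := slots_step fs2 262304 275 262579 s2u897 s2c898 rfl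
theorem s2u899 : ∀ v, 1 ≤ v → v ≤ 262841 → fs2 v = true := slots_step fs2 262579 262 262841 s2u898 s2c899 rfl
theorem s2u900 : ∀ v, 1 ≤ v → v ≤ 263095 → fs2 v = true := slots_step fs2 262841 254 263095 s2u899 s2c900 rfl
theorem s2u901 : ∀ v, 1 ≤ v → v ≤ 263348 → fs2 v = true := slots_step fs2 263095 253 263348 s2u900 s2c901 rfl
theorem s2u902 : ∀ v, 1 ≤ v → v ≤ 263609 → fs2 v = true := slots_step fs2 263348 261 263609 s2u901 s2c902 rfl
theorem s2u903 : ∀ v, 1 ≤ v → v ≤ 263861 → fs2 v = true := slots_step fs2 263609 252 263861 s2u902 s2c903 rfl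
theorem s2u904 : ∀ v, 1 ≤ v → v ≤ 264115 → fs2 v = true := slots_step fs2 263861 254 264115 s2u903 s2c904 rfl
theorem s2u905 : ∀ v, 1 ≤ v → v ≤ 264379 → fs2 v = true := slots_step fs2 264115 264 264379 s2u904 s2c905 rfl
theorem s2u906 : ∀ v, 1 ≤ v → v ≤ 264649 → fs2 v = true := slots_step fs2 264379 270 264649 s2u905 s2c906 rfl
theorem s2u907 : ∀ v, 1 ≤ v → v ≤ 264912 → fs2 v = true := slots_step fs2 264649 263 264912 s2u906 s2c907 rfl
theorem s2u908 : ∀ v, 1 ≤ v → v ≤ 265175 → fs2 v = true := slots_step fs2 264912 263 265175 s2u907 s2c908 rfl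
theorem s2u909 : ∀ v, 1 ≤ v → v ≤ 265442 → fs2 v = true := slots_step fs2 265175 267 265442 s2u908 s2c909 rfl
theorem s2u910 : ∀ v, 1 ≤ v → v ≤ 265696 → fs2 v = true := slots_step fs2 265442 254 265696 s2u909 s2c910 rfl
theorem s2u911 : ∀ v, 1 ≤ v → v ≤ 265958 → fs2 v = true := slots_step fs2 265696 262 265958 s2u910 s2c911 rfl
theorem s2u912 : ∀ v, 1 ≤ v → v ≤ 266227 → fs2 v = true := slots_step fs2 265958 269 266227 s2u911 s2c912 rfl
theorem s2u913 : ∀ v, 1 ≤ v → v ≤ 266505 → fs2 v = true := slots_step fs2 266227 278 266505 s2u912 s2c913 rfl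
theorem s2u914 : ∀ v, 1 ≤ v → v ≤ 266772 → fs2 v = true := slots_step fs2 266505 267 266772 s2u913 s2c914 rfl
theorem s2u915 : ∀ v, 1 ≤ v → v ≤ 267035 → fs2 v = true := slots_step fs2 266772 263 267035 s2u914 s2c915 rfl
theorem s2u916 : ∀ v, 1 ≤ v → v ≤ 267308 → fs2 v = true := slots_step fs2 267035 273 267308 s2u915 s2c916 rfl
theorem s2u917 : ∀ v, 1 ≤ v → v ≤ 267595 → fs2 v = true := slots_step fs2 267308 287 267595 s2u916 s2c917 rfl
theorem s2u918 : ∀ v, 1 ≤ v → v ≤ 267863 → fs2 v = true := slots_step fs2 267595 268 267863 s2u917 s2c918 rfl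
theorem s2u919 : ∀ v, 1 ≤ v → v ≤ 268123 → fs2 v = true := slots_step fs2 267863 260 268123 s2u918 s2c919 rfl
theorem s2u920 : ∀ v, 1 ≤ v → v ≤ 268394 → fs2 v = true := slots_step fs2 268123 271 268394 s2u919 s2c920 rfl
theorem s2u921 : ∀ v, 1 ≤ v → v ≤ 268675 → fs2 v = true := slots_step fs2 268394 281 268675 s2u920 s2c921 rfl
theorem s2u922 : ∀ v, 1 ≤ v → v ≤ 268963 → fs2 v = true := slots_step fs2 268675 288 268963 s2u921 s2c922 rfl
theorem s2u923 : ∀ v, 1 ≤ v → v ≤ 269233 → fs2 v = true := slots_step fs2 268963 270 269233 s2u922 s2c923 rfl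
theorem s2u924 : ∀ v, 1 ≤ v → v ≤ 269491 → fs2 v = true := slots_step fs2 269233 258 269491 s2u923 s2c924 rfl
theorem s2u925 : ∀ v, 1 ≤ v → v ≤ 269766 → fs2 v = true := slots_step fs2 269491 275 269766 s2u924 s2c925 rfl
theorem s2u926 : ∀ v, 1 ≤ v → v ≤ 270040 → fs2 v = true := slots_step fs2 269766 274 270040 s2u925 s2c926 rfl
theorem s2u927 : ∀ v, 1 ≤ v → v ≤ 270339 → fs2 v = true := slots_step fs2 270040 299 270339 s2u926 s2c927 rfl
theorem s2u928 : ∀ v, 1 ≤ v → v ≤ 270609 → fs2 v = true := slots_step fs2 270339 270 270609 s2u927 s2c928 rfl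
theorem s2u929 : ∀ v, 1 ≤ v → v ≤ 270883 → fs2 v = true := slots_step fs2 270609 274 270883 s2u928 s2c929 rfl
theorem s2u930 : ∀ v, 1 ≤ v → v ≤ 271159 → fs2 v = true := slots_step fs2 270883 276 271159 s2u929 s2c930 rfl
theorem s2u931 : ∀ v, 1 ≤ v → v ≤ 271404 → fs2 v = true := slots_step fs2 271159 245 271404 s2u930 s2c931 rfl
theorem s2u932 : ∀ v, 1 ≤ v → v ≤ 271666 → fs2 v = true := slots_step fs2 271404 262 271666 s2u931 s2c932 rfl
theorem s2u933 : ∀ v, 1 ≤ v → v ≤ 271936 → fs2 v = true := slots_step fs2 271666 270 271936 s2u932 s2c933 rfl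
theorem s2u934 : ∀ v, 1 ≤ v → v ≤ 272215 → fs2 v = true := slots_step fs2 271936 279 272215 s2u933 s2c934 rfl
theorem s2u935 : ∀ v, 1 ≤ v → v ≤ 272444 → fs2 v = true := slots_step fs2 272215 229 272444 s2u934 s2c935 rfl
theorem s2u936 : ∀ v, 1 ≤ v → v ≤ 272693 → fs2 v = true := slots_step fs2 272444 249 272693 s2u935 s2c936 rfl
theorem s2u937 : ∀ v, 1 ≤ v → v ≤ 272937 → fs2 v = true := slots_step fs2 272693 244 272937 s2u936 s2c937 rfl
theorem s2u938 : ∀ v, 1 ≤ v → v ≤ 273179 → fs2 v = true := slots_step fs2 272937 242 273179 s2u937 s2c938 rfl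
theorem s2u939 : ∀ v, 1 ≤ v → v ≤ 273424 → fs2 v = true := slots_step fs2 273179 245 273424 s2u938 s2c939 rfl
theorem s2u940 : ∀ v, 1 ≤ v → v ≤ 273669 → fs2 v = true := slots_step fs2 273424 245 273669 s2u939 s2c940 rfl
theorem s2u941 : ∀ v, 1 ≤ v → v ≤ 273942 → fs2 v = true := slots_step fs2 273669 273 273942 s2u940 s2c941 rfl
theorem s2u942 : ∀ v, 1 ≤ v → v ≤ 274186 → fs2 v = true := slots_step fs2 273942 244 274186 s2u941 s2c942 rfl
theorem s2u943 : ∀ v, 1 ≤ v → v ≤ 274449 → fs2 v = true := slots_step fs2 274186 263 274449 s2u942 s2c943 rfl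
theorem s2u944 : ∀ v, 1 ≤ v → v ≤ 274701 → fs2 v = true := slots_step fs2 274449 252 274701 s2u943 s2c944 rfl
theorem s2u945 : ∀ v, 1 ≤ v → v ≤ 274936 → fs2 v = true := slots_step fs2 274701 235 274936 s2u944 s2c945 rfl
theorem s2u946 : ∀ v, 1 ≤ v → v ≤ 275174 → fs2 v = true := slots_step fs2 274936 238 275174 s2u945 s2c946 rfl
theorem s2u947 : ∀ v, 1 ≤ v → v ≤ 275421 → fs2 v = true := slots_step fs2 275174 247 275421 s2u946 s2c947 rfl
theorem s2u948 : ∀ v, 1 ≤ v → v ≤ 275676 → fs2 v = true := slots_step fs2 275421 255 275676 s2u947 s2c948 rfl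
theorem s2u949 : ∀ v, 1 ≤ v → v ≤ 275921 → fs2 v = true := slots_step fs2 275676 245 275921 s2u948 s2c949 rfl
theorem s2u950 : ∀ v, 1 ≤ v → v ≤ 276173 → fs2 v = true := slots_step fs2 275921 252 276173 s2u949 s2c950 rfl
theorem s2u951 : ∀ v, 1 ≤ v → v ≤ 276440 → fs2 v = true := slots_step fs2 276173 267 276440 s2u950 s2c951 rfl
theorem s2u952 : ∀ v, 1 ≤ v → v ≤ 276685 → fs2 v = true := slots_step fs2 276440 245 276685 s2u951 s2c952 rfl
theorem s2u953 : ∀ v, 1 ≤ v → v ≤ 276958 → fs2 v = true := slots_step fs2 276685 273 276958 s2u952 s2c953 rfl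
theorem s2u954 : ∀ v, 1 ≤ v → v ≤ 277214 → fs2 v = true := slots_step fs2 276958 256 277214 s2u953 s2c954 rfl
theorem s2u955 : ∀ v, 1 ≤ v → v ≤ 277472 → fs2 v = true := slots_step fs2 277214 258 277472 s2u954 s2c955 rfl
theorem s2u956 : ∀ v, 1 ≤ v → v ≤ 277726 → fs2 v = true := slots_step fs2 277472 254 277726 s2u955 s2c956 rfl
theorem s2u957 : ∀ v, 1 ≤ v → v ≤ 277976 → fs2 v = true := slots_step fs2 277726 250 277976 s2u956 s2c957 rfl
theorem s2u958 : ∀ v, 1 ≤ v → v ≤ 278217 → fs2 v = true := slots_step fs2 277976 241 278217 s2u957 s2c958 rfl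
theorem s2u959 : ∀ v, 1 ≤ v → v ≤ 278466 → fs2 v = true := slots_step fs2 278217 249 278466 s2u958 s2c959 rfl
theorem s2u960 : ∀ v, 1 ≤ v → v ≤ 278718 → fs2 v = true := slots_step fs2 278466 252 278718 s2u959 s2c960 rfl
theorem s2u961 : ∀ v, 1 ≤ v → v ≤ 278979 → fs2 v = true := slots_step fs2 278718 261 278979 s2u960 s2c961 rfl
theorem s2u962 : ∀ v, 1 ≤ v → v ≤ 279245 → fs2 v = true := slots_step fs2 278979 266 279245 s2u961 s2c962 rfl
theorem s2u963 : ∀ v, 1 ≤ v → v ≤ 279507 → fs2 v = true := slots_step fs2 279245 262 279507 s2u962 s2c963 rfl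
theorem s2u964 : ∀ v, 1 ≤ v → v ≤ 279769 → fs2 v = true := slots_step fs2 279507 262 279769 s2u963 s2c964 rfl
theorem s2u965 : ∀ v, 1 ≤ v → v ≤ 280038 → fs2 v = true := slots_step fs2 279769 269 280038 s2u964 s2c965 rfl
theorem s2u966 : ∀ v, 1 ≤ v → v ≤ 280305 → fs2 v = true := slots_step fs2 280038 267 280305 s2u965 s2c966 rfl
theorem s2u967 : ∀ v, 1 ≤ v → v ≤ 280558 → fs2 v = true := slots_step fs2 280305 253 280558 s2u966 s2c967 rfl
theorem s2u968 : ∀ v, 1 ≤ v → v ≤ 280818 → fs2 v = true := slots_step fs2 280558 260 280818 s2u967 s2c968 rfl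
theorem s2u969 : ∀ v, 1 ≤ v → v ≤ 281089 → fs2 v = true := slots_step fs2 280818 271 281089 s2u968 s2c969 rfl
theorem s2u970 : ∀ v, 1 ≤ v → v ≤ 281344 → fs2 v = true := slots_step fs2 281089 255 281344 s2u969 s2c970 rfl
theorem s2u971 : ∀ v, 1 ≤ v → v ≤ 281601 → fs2 v = true := slots_step fs2 281344 257 281601 s2u970 s2c971 rfl
theorem s2u972 : ∀ v, 1 ≤ v → v ≤ 281860 → fs2 v = true := slots_step fs2 281601 259 281860 s2u971 s2c972 rfl
theorem s2u973 : ∀ v, 1 ≤ v → v ≤ 282117 → fs2 v = true := slots_step fs2 281860 257 282117 s2u972 s2c973 rfl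
theorem s2u974 : ∀ v, 1 ≤ v → v ≤ 282369 → fs2 v = true := slots_step fs2 282117 252 282369 s2u973 s2c974 rfl
theorem s2u975 : ∀ v, 1 ≤ v → v ≤ 282619 → fs2 v = true := slots_step fs2 282369 250 282619 s2u974 s2c975 rfl
theorem s2u976 : ∀ v, 1 ≤ v → v ≤ 282909 → fs2 v = true := slots_step fs2 282619 290 282909 s2u975 s2c976 rfl
theorem s2u977 : ∀ v, 1 ≤ v → v ≤ 283167 → fs2 v = true := slots_step fs2 282909 258 283167 s2u976 s2c977 rfl
theorem s2u978 : ∀ v, 1 ≤ v → v ≤ 283428 → fs2 v = true := slots_step fs2 283167 261 283428 s2u977 s2c978 rfl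
theorem s2u979 : ∀ v, 1 ≤ v → v ≤ 283689 → fs2 v = true := slots_step fs2 283428 261 283689 s2u978 s2c979 rfl
theorem s2u980 : ∀ v, 1 ≤ v → v ≤ 283970 → fs2 v = true := slots_step fs2 283689 281 283970 s2u979 s2c980 rfl
theorem s2u981 : ∀ v, 1 ≤ v → v ≤ 284253 → fs2 v = true := slots_step fs2 283970 283 284253 s2u980 s2c981 rfl
theorem s2u982 : ∀ v, 1 ≤ v → v ≤ 284530 → fs2 v = true := slots_step fs2 284253 277 284530 s2u981 s2c982 rfl
theorem s2u983 : ∀ v, 1 ≤ v → v ≤ 284800 → fs2 v = true := slots_step fs2 284530 270 284800 s2u982 s2c983 rfl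
theorem s2u984 : ∀ v, 1 ≤ v → v ≤ 285039 → fs2 v = true := slots_step fs2 284800 239 285039 s2u983 s2c984 rfl
theorem s2u985 : ∀ v, 1 ≤ v → v ≤ 285280 → fs2 v = true := slots_step fs2 285039 241 285280 s2u984 s2c985 rfl
theorem s2u986 : ∀ v, 1 ≤ v → v ≤ 285525 → fs2 v = true := slots_step fs2 285280 245 285525 s2u985 s2c986 rfl
theorem s2u987 : ∀ v, 1 ≤ v → v ≤ 285785 → fs2 v = true := slots_step fs2 285525 260 285785 s2u986 s2c987 rfl
theorem s2u988 : ∀ v, 1 ≤ v → v ≤ 286062 → fs2 v = true := slots_step fs2 285785 277 286062 s2u987 s2c988 rfl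
theorem s2u989 : ∀ v, 1 ≤ v → v ≤ 286339 → fs2 v = true := slots_step fs2 286062 277 286339 s2u988 s2c989 rfl
theorem s2u990 : ∀ v, 1 ≤ v → v ≤ 286618 → fs2 v = true := slots_step fs2 286339 279 286618 s2u989 s2c990 rfl
theorem s2u991 : ∀ v, 1 ≤ v → v ≤ 286893 → fs2 v = true := slots_step fs2 286618 275 286893 s2u990 s2c991 rfl
theorem s2u992 : ∀ v, 1 ≤ v → v ≤ 287149 → fs2 v = true := slots_step fs2 286893 256 287149 s2u991 s2c992 rfl
theorem s2u993 : ∀ v, 1 ≤ v → v ≤ 287422 → fs2 v = true := slots_step fs2 287149 273 287422 s2u992 s2c993 rfl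
theorem s2u994 : ∀ v, 1 ≤ v → v ≤ 287696 → fs2 v = true := slots_step fs2 287422 274 287696 s2u993 s2c994 rfl
theorem s2u995 : ∀ v, 1 ≤ v → v ≤ 287973 → fs2 v = true := slots_step fs2 287696 277 287973 s2u994 s2c995 rfl
theorem s2u996 : ∀ v, 1 ≤ v → v ≤ 288239 → fs2 v = true := slots_step fs2 287973 266 288239 s2u995 s2c996 rfl
theorem s2u997 : ∀ v, 1 ≤ v → v ≤ 288500 → fs2 v = true := slots_step fs2 288239 261 288500 s2u996 s2c997 rfl
theorem s2u998 : ∀ v, 1 ≤ v → v ≤ 288757 → fs2 v = true := slots_step fs2 288500 257 288757 s2u997 s2c998 rfl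
theorem s2u999 : ∀ v, 1 ≤ v → v ≤ 289008 → fs2 v = true := slots_step fs2 288757 251 289008 s2u998 s2c999 rfl
theorem s2u1000 : ∀ v, 1 ≤ v → v ≤ 289261 → fs2 v = true := slots_step fs2 289008 253 289261 s2u999 s2c1000 rfl
theorem s2u1001 : ∀ v, 1 ≤ v → v ≤ 289518 → fs2 v = true := slots_step fs2 289261 257 289518 s2u1000 s2c1001 rfl
theorem s2u1002 : ∀ v, 1 ≤ v → v ≤ 289772 → fs2 v = true := slots_step fs2 289518 254 289772 s2u1001 s2c1002 rfl
theorem s2u1003 : ∀ v, 1 ≤ v → v ≤ 290032 → fs2 v = true := slots_step fs2 289772 260 290032 s2u1002 s2c1003 rfl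
theorem s2u1004 : ∀ v, 1 ≤ v → v ≤ 290301 → fs2 v = true := slots_step fs2 290032 269 290301 s2u1003 s2c1004 rfl
theorem s2u1005 : ∀ v, 1 ≤ v → v ≤ 290559 → fs2 v = true := slots_step fs2 290301 258 290559 s2u1004 s2c1005 rfl
theorem s2u1006 : ∀ v, 1 ≤ v → v ≤ 290827 → fs2 v = true := slots_step fs2 290559 268 290827 s2u1005 s2c1006 rfl
theorem s2u1007 : ∀ v, 1 ≤ v → v ≤ 291090 → fs2 v = true := slots_step fs2 290827 263 291090 s2u1006 s2c1007 rfl
theorem s2u1008 : ∀ v, 1 ≤ v → v ≤ 291350 → fs2 v = true := slots_step fs2 291090 260 291350 s2u1007 s2c1008 rfl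
theorem s2u1009 : ∀ v, 1 ≤ v → v ≤ 291614 → fs2 v = true := slots_step fs2 291350 264 291614 s2u1008 s2c1009 rfl
theorem s2u1010 : ∀ v, 1 ≤ v → v ≤ 291891 → fs2 v = true := slots_step fs2 291614 277 291891 s2u1009 s2c1010 rfl
theorem s2u1011 : ∀ v, 1 ≤ v → v ≤ 292166 → fs2 v = true := slots_step fs2 291891 275 292166 s2u1010 s2c1011 rfl
theorem s2u1012 : ∀ v, 1 ≤ v → v ≤ 292427 → fs2 v = true := slots_step fs2 292166 261 292427 s2u1011 s2c1012 rfl
theorem s2u1013 : ∀ v, 1 ≤ v → v ≤ 292695 → fs2 v = true := slots_step fs2 292427 268 292695 s2u1012 s2c1013 rfl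
theorem s2u1014 : ∀ v, 1 ≤ v → v ≤ 292966 → fs2 v = true := slots_step fs2 292695 271 292966 s2u1013 s2c1014 rfl
theorem s2u1015 : ∀ v, 1 ≤ v → v ≤ 293247 → fs2 v = true := slots_step fs2 292966 281 293247 s2u1014 s2c1015 rfl
theorem s2u1016 : ∀ v, 1 ≤ v → v ≤ 293507 → fs2 v = true := slots_step fs2 293247 260 293507 s2u1015 s2c1016 rfl
theorem s2u1017 : ∀ v, 1 ≤ v → v ≤ 293768 → fs2 v = true := slots_step fs2 293507 261 293768 s2u1016 s2c1017 rfl
theorem s2u1018 : ∀ v, 1 ≤ v → v ≤ 294052 → fs2 v = true := slots_step fs2 293768 284 294052 s2u1017 s2c1018 rfl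
theorem s2u1019 : ∀ v, 1 ≤ v → v ≤ 294331 → fs2 v = true := slots_step fs2 294052 279 294331 s2u1018 s2c1019 rfl
theorem s2u1020 : ∀ v, 1 ≤ v → v ≤ 294587 → fs2 v = true := slots_step fs2 294331 256 294587 s2u1019 s2c1020 rfl
theorem s2u1021 : ∀ v, 1 ≤ v → v ≤ 294862 → fs2 v = true := slots_step fs2 294587 275 294862 s2u1020 s2c1021 rfl
theorem s2u1022 : ∀ v, 1 ≤ v → v ≤ 295141 → fs2 v = true := slots_step fs2 294862 279 295141 s2u1021 s2c1022 rfl
theorem s2u1023 : ∀ v, 1 ≤ v → v ≤ 295439 → fs2 v = true := slots_step fs2 295141 298 295439 s2u1022 s2c1023 rfl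
theorem s2u1024 : ∀ v, 1 ≤ v → v ≤ 295714 → fs2 v = true := slots_step fs2 295439 275 295714 s2u1023 s2c1024 rfl
theorem s2u1025 : ∀ v, 1 ≤ v → v ≤ 295985 → fs2 v = true := slots_step fs2 295714 271 295985 s2u1024 s2c1025 rfl
theorem s2u1026 : ∀ v, 1 ≤ v → v ≤ 296258 → fs2 v = true := slots_step fs2 295985 273 296258 s2u1025 s2c1026 rfl
theorem s2u1027 : ∀ v, 1 ≤ v → v ≤ 296514 → fs2 v = true := slots_step fs2 296258 256 296514 s2u1026 s2c1027 rfl
theorem s2u1028 : ∀ v, 1 ≤ v → v ≤ 296796 → fs2 v = true := slots_step fs2 296514 282 296796 s2u1027 s2c1028 rfl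
theorem s2u1029 : ∀ v, 1 ≤ v → v ≤ 297074 → fs2 v = true := slots_step fs2 296796 278 297074 s2u1028 s2c1029 rfl
theorem s2u1030 : ∀ v, 1 ≤ v → v ≤ 297334 → fs2 v = true := slots_step fs2 297074 260 297334 s2u1029 s2c1030 rfl
theorem s2u1031 : ∀ v, 1 ≤ v → v ≤ 297569 → fs2 v = true := slots_step fs2 297334 235 297569 s2u1030 s2c1031 rfl
theorem s2u1032 : ∀ v, 1 ≤ v → v ≤ 297824 → fs2 v = true := slots_step fs2 297569 255 297824 s2u1031 s2c1032 rfl
theorem s2u1033 : ∀ v, 1 ≤ v → v ≤ 298067 → fs2 v = true := slots_step fs2 297824 243 298067 s2u1032 s2c1033 rfl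
theorem s2u1034 : ∀ v, 1 ≤ v → v ≤ 298309 → fs2 v = true := slots_step fs2 298067 242 298309 s2u1033 s2c1034 rfl
theorem s2u1035 : ∀ v, 1 ≤ v → v ≤ 298555 → fs2 v = true := slots_step fs2 298309 246 298555 s2u1034 s2c1035 rfl
theorem s2u1036 : ∀ v, 1 ≤ v → v ≤ 298798 → fs2 v = true := slots_step fs2 298555 243 298798 s2u1035 s2c1036 rfl
theorem s2u1037 : ∀ v, 1 ≤ v → v ≤ 299065 → fs2 v = true := slots_step fs2 298798 267 299065 s2u1036 s2c1037 rfl
theorem s2u1038 : ∀ v, 1 ≤ v → v ≤ 299306 → fs2 v = true := slots_step fs2 299065 241 299306 s2u1037 s2c1038 rfl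
theorem s2u1039 : ∀ v, 1 ≤ v → v ≤ 299569 → fs2 v = true := slots_step fs2 299306 263 299569 s2u1038 s2c1039 rfl
theorem s2u1040 : ∀ v, 1 ≤ v → v ≤ 299813 → fs2 v = true := slots_step fs2 299569 244 299813 s2u1039 s2c1040 rfl
theorem s2u1041 : ∀ v, 1 ≤ v → v ≤ 300046 → fs2 v = true := slots_step fs2 299813 233 300046 s2u1040 s2c1041 rfl
theorem s2u1042 : ∀ v, 1 ≤ v → v ≤ 300280 → fs2 v = true := slots_step fs2 300046 234 300280 s2u1041 s2c1042 rfl
theorem s2u1043 : ∀ v, 1 ≤ v → v ≤ 300527 → fs2 v = true := slots_step fs2 300280 247 300527 s2u1042 s2c1043 rfl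
theorem s2u1044 : ∀ v, 1 ≤ v → v ≤ 300778 → fs2 v = true := slots_step fs2 300527 251 300778 s2u1043 s2c1044 rfl
theorem s2u1045 : ∀ v, 1 ≤ v → v ≤ 301017 → fs2 v = true := slots_step fs2 300778 239 301017 s2u1044 s2c1045 rfl
theorem s2u1046 : ∀ v, 1 ≤ v → v ≤ 301265 → fs2 v = true := slots_step fs2 301017 248 301265 s2u1045 s2c1046 rfl
theorem s2u1047 : ∀ v, 1 ≤ v → v ≤ 301518 → fs2 v = true := slots_step fs2 301265 253 301518 s2u1046 s2c1047 rfl
theorem s2u1048 : ∀ v, 1 ≤ v → v ≤ 301764 → fs2 v = true := slots_step fs2 301518 246 301764 s2u1047 s2c1048 rfl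
theorem s2u1049 : ∀ v, 1 ≤ v → v ≤ 302025 → fs2 v = true := slots_step fs2 301764 261 302025 s2u1048 s2c1049 rfl
theorem s2u1050 : ∀ v, 1 ≤ v → v ≤ 302257 → fs2 v = true := slots_step fs2 302025 232 302257 s2u1049 s2c1050 rfl
theorem s2u1051 : ∀ v, 1 ≤ v → v ≤ 302513 → fs2 v = true := slots_step fs2 302257 256 302513 s2u1050 s2c1051 rfl
theorem s2u1052 : ∀ v, 1 ≤ v → v ≤ 302760 → fs2 v = true := slots_step fs2 302513 247 302760 s2u1051 s2c1052 rfl
theorem s2u1053 : ∀ v, 1 ≤ v → v ≤ 303012 → fs2 v = true := slots_step fs2 302760 252 303012 s2u1052 s2c1053 rfl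
theorem s2u1054 : ∀ v, 1 ≤ v → v ≤ 303249 → fs2 v = true := slots_step fs2 303012 237 303249 s2u1053 s2c1054 rfl
theorem s2u1055 : ∀ v, 1 ≤ v → v ≤ 303492 → fs2 v = true := slots_step fs2 303249 243 303492 s2u1054 s2c1055 rfl
theorem s2u1056 : ∀ v, 1 ≤ v → v ≤ 303752 → fs2 v = true := slots_step fs2 303492 260 303752 s2u1055 s2c1056 rfl
theorem s2u1057 : ∀ v, 1 ≤ v → v ≤ 304013 → fs2 v = true := slots_step fs2 303752 261 304013 s2u1056 s2c1057 rfl
theorem s2u1058 : ∀ v, 1 ≤ v → v ≤ 304275 → fs2 v = true := slots_step fs2 304013 262 304275 s2u1057 s2c1058 rfl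
theorem s2u1059 : ∀ v, 1 ≤ v → v ≤ 304532 → fs2 v = true := slots_step fs2 304275 257 304532 s2u1058 s2c1059 rfl
theorem s2u1060 : ∀ v, 1 ≤ v → v ≤ 304790 → fs2 v = true := slots_step fs2 304532 258 304790 s2u1059 s2c1060 rfl
theorem s2u1061 : ∀ v, 1 ≤ v → v ≤ 305051 → fs2 v = true := slots_step fs2 304790 261 305051 s2u1060 s2c1061 rfl
theorem s2u1062 : ∀ v, 1 ≤ v → v ≤ 305295 → fs2 v = true := slots_step fs2 305051 244 305295 s2u1061 s2c1062 rfl
theorem s2u1063 : ∀ v, 1 ≤ v → v ≤ 305551 → fs2 v = true := slots_step fs2 305295 256 305551 s2u1062 s2c1063 rfl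
theorem s2u1064 : ∀ v, 1 ≤ v → v ≤ 305816 → fs2 v = true := slots_step fs2 305551 265 305816 s2u1063 s2c1064 rfl
theorem s2u1065 : ∀ v, 1 ≤ v → v ≤ 306067 → fs2 v = true := slots_step fs2 305816 251 306067 s2u1064 s2c1065 rfl
theorem s2u1066 : ∀ v, 1 ≤ v → v ≤ 306319 → fs2 v = true := slots_step fs2 306067 252 306319 s2u1065 s2c1066 rfl
theorem s2u1067 : ∀ v, 1 ≤ v → v ≤ 306579 → fs2 v = true := slots_step fs2 306319 260 306579 s2u1066 s2c1067 rfl
theorem s2u1068 : ∀ v, 1 ≤ v → v ≤ 306837 → fs2 v = true := slots_step fs2 306579 258 306837 s2u1067 s2c1068 rfl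
theorem s2u1069 : ∀ v, 1 ≤ v → v ≤ 307086 → fs2 v = true := slots_step fs2 306837 249 307086 s2u1068 s2c1069 rfl
theorem s2u1070 : ∀ v, 1 ≤ v → v ≤ 307340 → fs2 v = true := slots_step fs2 307086 254 307340 s2u1069 s2c1070 rfl
theorem s2u1071 : ∀ v, 1 ≤ v → v ≤ 307632 → fs2 v = true := slots_step fs2 307340 292 307632 s2u1070 s2c1071 rfl
theorem s2u1072 : ∀ v, 1 ≤ v → v ≤ 307886 → fs2 v = true := slots_step fs2 307632 254 307886 s2u1071 s2c1072 rfl
theorem s2u1073 : ∀ v, 1 ≤ v → v ≤ 308149 → fs2 v = true := slots_step fs2 307886 263 308149 s2u1072 s2c1073 rfl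
theorem s2u1074 : ∀ v, 1 ≤ v → v ≤ 308408 → fs2 v = true := slots_step fs2 308149 259 308408 s2u1073 s2c1074 rfl
theorem s2u1075 : ∀ v, 1 ≤ v → v ≤ 308688 → fs2 v = true := slots_step fs2 308408 280 308688 s2u1074 s2c1075 rfl
theorem s2u1076 : ∀ v, 1 ≤ v → v ≤ 308968 → fs2 v = true := slots_step fs2 308688 280 308968 s2u1075 s2c1076 rfl
theorem s2u1077 : ∀ v, 1 ≤ v → v ≤ 309218 → fs2 v = true := slots_step fs2 308968 250 309218 s2u1076 s2c1077 rfl
theorem s2u1078 : ∀ v, 1 ≤ v → v ≤ 309455 → fs2 v = true := slots_step fs2 309218 237 309455 s2u1077 s2c1078 rfl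
theorem s2u1079 : ∀ v, 1 ≤ v → v ≤ 309699 → fs2 v = true := slots_step fs2 309455 244 309699 s2u1078 s2c1079 rfl
theorem s2u1080 : ∀ v, 1 ≤ v → v ≤ 309954 → fs2 v = true := slots_step fs2 309699 255 309954 s2u1079 s2c1080 rfl
theorem s2u1081 : ∀ v, 1 ≤ v → v ≤ 310233 → fs2 v = true := slots_step fs2 309954 279 310233 s2u1080 s2c1081 rfl
theorem s2u1082 : ∀ v, 1 ≤ v → v ≤ 310507 → fs2 v = true := slots_step fs2 310233 274 310507 s2u1081 s2c1082 rfl
theorem s2u1083 : ∀ v, 1 ≤ v → v ≤ 310785 → fs2 v = true := slots_step fs2 310507 278 310785 s2u1082 s2c1083 rfl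
theorem s2u1084 : ∀ v, 1 ≤ v → v ≤ 311055 → fs2 v = true := slots_step fs2 310785 270 311055 s2u1083 s2c1084 rfl
theorem s2u1085 : ∀ v, 1 ≤ v → v ≤ 311308 → fs2 v = true := slots_step fs2 311055 253 311308 s2u1084 s2c1085 rfl
theorem s2u1086 : ∀ v, 1 ≤ v → v ≤ 311573 → fs2 v = true := slots_step fs2 311308 265 311573 s2u1085 s2c1086 rfl
theorem s2u1087 : ∀ v, 1 ≤ v → v ≤ 311843 → fs2 v = true := slots_step fs2 311573 270 311843 s2u1086 s2c1087 rfl
theorem s2u1088 : ∀ v, 1 ≤ v → v ≤ 312114 → fs2 v = true := slots_step fs2 311843 271 312114 s2u1087 s2c1088 rfl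
theorem s2u1089 : ∀ v, 1 ≤ v → v ≤ 312377 → fs2 v = true := slots_step fs2 312114 263 312377 s2u1088 s2c1089 rfl
theorem s2u1090 : ∀ v, 1 ≤ v → v ≤ 312631 → fs2 v = true := slots_step fs2 312377 254 312631 s2u1089 s2c1090 rfl
theorem s2u1091 : ∀ v, 1 ≤ v → v ≤ 312878 → fs2 v = true := slots_step fs2 312631 247 312878 s2u1090 s2c1091 rfl
theorem s2u1092 : ∀ v, 1 ≤ v → v ≤ 313123 → fs2 v = true := slots_step fs2 312878 245 313123 s2u1091 s2c1092 rfl
theorem s2u1093 : ∀ v, 1 ≤ v → v ≤ 313375 → fs2 v = true := slots_step fs2 313123 252 313375 s2u1092 s2c1093 rfl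
theorem s2u1094 : ∀ v, 1 ≤ v → v ≤ 313634 → fs2 v = true := slots_step fs2 313375 259 313634 s2u1093 s2c1094 rfl
theorem s2u1095 : ∀ v, 1 ≤ v → v ≤ 313899 → fs2 v = true := slots_step fs2 313634 265 313899 s2u1094 s2c1095 rfl
theorem s2u1096 : ∀ v, 1 ≤ v → v ≤ 314165 → fs2 v = true := slots_step fs2 313899 266 314165 s2u1095 s2c1096 rfl
theorem s2u1097 : ∀ v, 1 ≤ v → v ≤ 314418 → fs2 v = true := slots_step fs2 314165 253 314418 s2u1096 s2c1097 rfl
theorem s2u1098 : ∀ v, 1 ≤ v → v ≤ 314679 → fs2 v = true := slots_step fs2 314418 261 314679 s2u1097 s2c1098 rfl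
theorem s2u1099 : ∀ v, 1 ≤ v → v ≤ 314933 → fs2 v = true := slots_step fs2 314679 254 314933 s2u1098 s2c1099 rfl
theorem s2u1100 : ∀ v, 1 ≤ v → v ≤ 315212 → fs2 v = true := slots_step fs2 314933 279 315212 s2u1099 s2c1100 rfl
theorem s2u1101 : ∀ v, 1 ≤ v → v ≤ 315482 → fs2 v = true := slots_step fs2 315212 270 315482 s2u1100 s2c1101 rfl
theorem s2u1102 : ∀ v, 1 ≤ v → v ≤ 315745 → fs2 v = true := slots_step fs2 315482 263 315745 s2u1101 s2c1102 rfl
theorem s2u1103 : ∀ v, 1 ≤ v → v ≤ 316011 → fs2 v = true := slots_step fs2 315745 266 316011 s2u1102 s2c1103 rfl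
theorem s2u1104 : ∀ v, 1 ≤ v → v ≤ 316285 → fs2 v = true := slots_step fs2 316011 274 316285 s2u1103 s2c1104 rfl
theorem s2u1105 : ∀ v, 1 ≤ v → v ≤ 316540 → fs2 v = true := slots_step fs2 316285 255 316540 s2u1104 s2c1105 rfl
theorem s2u1106 : ∀ v, 1 ≤ v → v ≤ 316821 → fs2 v = true := slots_step fs2 316540 281 316821 s2u1105 s2c1106 rfl
theorem s2u1107 : ∀ v, 1 ≤ v → v ≤ 317087 → fs2 v = true := slots_step fs2 316821 266 317087 s2u1106 s2c1107 rfl
theorem s2u1108 : ∀ v, 1 ≤ v → v ≤ 317353 → fs2 v = true := slots_step fs2 317087 266 317353 s2u1107 s2c1108 rfl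
theorem s2u1109 : ∀ v, 1 ≤ v → v ≤ 317641 → fs2 v = true := slots_step fs2 317353 288 317641 s2u1108 s2c1109 rfl
theorem s2u1110 : ∀ v, 1 ≤ v → v ≤ 317939 → fs2 v = true := slots_step fs2 317641 298 317939 s2u1109 s2c1110 rfl
theorem s2u1111 : ∀ v, 1 ≤ v → v ≤ 318209 → fs2 v = true := slots_step fs2 317939 270 318209 s2u1110 s2c1111 rfl
theorem s2u1112 : ∀ v, 1 ≤ v → v ≤ 318488 → fs2 v = true := slots_step fs2 318209 279 318488 s2u1111 s2c1112 rfl
theorem s2u1113 : ∀ v, 1 ≤ v → v ≤ 318750 → fs2 v = true := slots_step fs2 318488 262 318750 s2u1112 s2c1113 rfl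
theorem s2u1114 : ∀ v, 1 ≤ v → v ≤ 319033 → fs2 v = true := slots_step fs2 318750 283 319033 s2u1113 s2c1114 rfl
theorem s2u1115 : ∀ v, 1 ≤ v → v ≤ 319319 → fs2 v = true := slots_step fs2 319033 286 319319 s2u1114 s2c1115 rfl
theorem s2u1116 : ∀ v, 1 ≤ v → v ≤ 319586 → fs2 v = true := slots_step fs2 319319 267 319586 s2u1115 s2c1116 rfl
theorem s2u1117 : ∀ v, 1 ≤ v → v ≤ 319820 → fs2 v = true := slots_step fs2 319586 234 319820 s2u1116 s2c1117 rfl
theorem s2u1118 : ∀ v, 1 ≤ v → v ≤ 320070 → fs2 v = true := slots_step fs2 319820 250 320070 s2u1117 s2c1118 rfl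
theorem s2u1119 : ∀ v, 1 ≤ v → v ≤ 320316 → fs2 v = true := slots_step fs2 320070 246 320316 s2u1118 s2c1119 rfl
theorem s2u1120 : ∀ v, 1 ≤ v → v ≤ 320556 → fs2 v = true := slots_step fs2 320316 240 320556 s2u1119 s2c1120 rfl
theorem s2u1121 : ∀ v, 1 ≤ v → v ≤ 320799 → fs2 v = true := slots_step fs2 320556 243 320799 s2u1120 s2c1121 rfl
theorem s2u1122 : ∀ v, 1 ≤ v → v ≤ 321039 → fs2 v = true := slots_step fs2 320799 240 321039 s2u1121 s2c1122 rfl
theorem s2u1123 : ∀ v, 1 ≤ v → v ≤ 321277 → fs2 v = true := slots_step fs2 321039 238 321277 s2u1122 s2c1123 rfl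
theorem s2u1124 : ∀ v, 1 ≤ v → v ≤ 321512 → fs2 v = true := slots_step fs2 321277 235 321512 s2u1123 s2c1124 rfl
theorem s2u1125 : ∀ v, 1 ≤ v → v ≤ 321771 → fs2 v = true := slots_step fs2 321512 259 321771 s2u1124 s2c1125 rfl
theorem s2u1126 : ∀ v, 1 ≤ v → v ≤ 322004 → fs2 v = true := slots_step fs2 321771 233 322004 s2u1125 s2c1126 rfl
theorem s2u1127 : ∀ v, 1 ≤ v → v ≤ 322239 → fs2 v = true := slots_step fs2 322004 235 322239 s2u1126 s2c1127 rfl
theorem s2u1128 : ∀ v, 1 ≤ v → v ≤ 322482 → fs2 v = true := slots_step fs2 322239 243 322482 s2u1127 s2c1128 rfl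
theorem s2u1129 : ∀ v, 1 ≤ v → v ≤ 322720 → fs2 v = true := slots_step fs2 322482 238 322720 s2u1128 s2c1129 rfl
theorem s2u1130 : ∀ v, 1 ≤ v → v ≤ 322960 → fs2 v = true := slots_step fs2 322720 240 322960 s2u1129 s2c1130 rfl
theorem s2u1131 : ∀ v, 1 ≤ v → v ≤ 323201 → fs2 v = true := slots_step fs2 322960 241 323201 s2u1130 s2c1131 rfl
theorem s2u1132 : ∀ v, 1 ≤ v → v ≤ 323449 → fs2 v = true := slots_step fs2 323201 248 323449 s2u1131 s2c1132 rfl
theorem s2u1133 : ∀ v, 1 ≤ v → v ≤ 323688 → fs2 v = true := slots_step fs2 323449 239 323688 s2u1132 s2c1133 rfl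
theorem s2u1134 : ∀ v, 1 ≤ v → v ≤ 323938 → fs2 v = true := slots_step fs2 323688 250 323938 s2u1133 s2c1134 rfl
theorem s2u1135 : ∀ v, 1 ≤ v → v ≤ 324185 → fs2 v = true := slots_step fs2 323938 247 324185 s2u1134 s2c1135 rfl
theorem s2u1136 : ∀ v, 1 ≤ v → v ≤ 324428 → fs2 v = true := slots_step fs2 324185 243 324428 s2u1135 s2c1136 rfl
theorem s2u1137 : ∀ v, 1 ≤ v → v ≤ 324670 → fs2 v = true := slots_step fs2 324428 242 324670 s2u1136 s2c1137 rfl
theorem s2u1138 : ∀ v, 1 ≤ v → v ≤ 324909 → fs2 v = true := slots_step fs2 324670 239 324909 s2u1137 s2c1138 rfl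
theorem s2u1139 : ∀ v, 1 ≤ v → v ≤ 325166 → fs2 v = true := slots_step fs2 324909 257 325166 s2u1138 s2c1139 rfl
theorem s2u1140 : ∀ v, 1 ≤ v → v ≤ 325425 → fs2 v = true := slots_step fs2 325166 259 325425 s2u1139 s2c1140 rfl
theorem s2u1141 : ∀ v, 1 ≤ v → v ≤ 325671 → fs2 v = true := slots_step fs2 325425 246 325671 s2u1140 s2c1141 rfl
theorem s2u1142 : ∀ v, 1 ≤ v → v ≤ 325928 → fs2 v = true := slots_step fs2 325671 257 325928 s2u1141 s2c1142 rfl
theorem s2u1143 : ∀ v, 1 ≤ v → v ≤ 326171 → fs2 v = true := slots_step fs2 325928 243 326171 s2u1142 s2c1143 rfl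
theorem s2u1144 : ∀ v, 1 ≤ v → v ≤ 326427 → fs2 v = true := slots_step fs2 326171 256 326427 s2u1143 s2c1144 rfl
theorem s2u1145 : ∀ v, 1 ≤ v → v ≤ 326680 → fs2 v = true := slots_step fs2 326427 253 326680 s2u1144 s2c1145 rfl
theorem s2u1146 : ∀ v, 1 ≤ v → v ≤ 326928 → fs2 v = true := slots_step fs2 326680 248 326928 s2u1145 s2c1146 rfl
theorem s2u1147 : ∀ v, 1 ≤ v → v ≤ 327183 → fs2 v = true := slots_step fs2 326928 255 327183 s2u1146 s2c1147 rfl
theorem s2u1148 : ∀ v, 1 ≤ v → v ≤ 327438 → fs2 v = true := slots_step fs2 327183 255 327438 s2u1147 s2c1148 rfl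
theorem s2u1149 : ∀ v, 1 ≤ v → v ≤ 327688 → fs2 v = true := slots_step fs2 327438 250 327688 s2u1148 s2c1149 rfl
theorem s2u1150 : ∀ v, 1 ≤ v → v ≤ 327967 → fs2 v = true := slots_step fs2 327688 279 327967 s2u1149 s2c1150 rfl
theorem s2u1151 : ∀ v, 1 ≤ v → v ≤ 328228 → fs2 v = true := slots_step fs2 327967 261 328228 s2u1150 s2c1151 rfl
theorem s2u1152 : ∀ v, 1 ≤ v → v ≤ 328493 → fs2 v = true := slots_step fs2 328228 265 328493 s2u1151 s2c1152 rfl
theorem s2u1153 : ∀ v, 1 ≤ v → v ≤ 328765 → fs2 v = true := slots_step fs2 328493 272 328765 s2u1152 s2c1153 rfl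
theorem s2u1154 : ∀ v, 1 ≤ v → v ≤ 329031 → fs2 v = true := slots_step fs2 328765 266 329031 s2u1153 s2c1154 rfl
theorem s2u1155 : ∀ v, 1 ≤ v → v ≤ 329274 → fs2 v = true := slots_step fs2 329031 243 329274 s2u1154 s2c1155 rfl
theorem s2u1156 : ∀ v, 1 ≤ v → v ≤ 329485 → fs2 v = true := slots_step fs2 329274 211 329485 s2u1155 s2c1156 rfl
theorem s2u1157 : ∀ v, 1 ≤ v → v ≤ 329753 → fs2 v = true := slots_step fs2 329485 268 329753 s2u1156 s2c1157 rfl
theorem s2u1158 : ∀ v, 1 ≤ v → v ≤ 330023 → fs2 v = true := slots_step fs2 329753 270 330023 s2u1157 s2c1158 rfl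
theorem s2u1159 : ∀ v, 1 ≤ v → v ≤ 330296 → fs2 v = true := slots_step fs2 330023 273 330296 s2u1158 s2c1159 rfl
theorem s2u1160 : ∀ v, 1 ≤ v → v ≤ 330558 → fs2 v = true := slots_step fs2 330296 262 330558 s2u1159 s2c1160 rfl
theorem s2u1161 : ∀ v, 1 ≤ v → v ≤ 330807 → fs2 v = true := slots_step fs2 330558 249 330807 s2u1160 s2c1161 rfl
theorem s2u1162 : ∀ v, 1 ≤ v → v ≤ 331072 → fs2 v = true := slots_step fs2 330807 265 331072 s2u1161 s2c1162 rfl
theorem s2u1163 : ∀ v, 1 ≤ v → v ≤ 331339 → fs2 v = true := slots_step fs2 331072 267 331339 s2u1162 s2c1163 rfl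
theorem s2u1164 : ∀ v, 1 ≤ v → v ≤ 331601 → fs2 v = true := slots_step fs2 331339 262 331601 s2u1163 s2c1164 rfl
theorem s2u1165 : ∀ v, 1 ≤ v → v ≤ 331845 → fs2 v = true := slots_step fs2 331601 244 331845 s2u1164 s2c1165 rfl
theorem s2u1166 : ∀ v, 1 ≤ v → v ≤ 332092 → fs2 v = true := slots_step fs2 331845 247 332092 s2u1165 s2c1166 rfl
theorem s2u1167 : ∀ v, 1 ≤ v → v ≤ 332344 → fs2 v = true := slots_step fs2 332092 252 332344 s2u1166 s2c1167 rfl
theorem s2u1168 : ∀ v, 1 ≤ v → v ≤ 332601 → fs2 v = true := slots_step fs2 332344 257 332601 s2u1167 s2c1168 rfl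
theorem s2u1169 : ∀ v, 1 ≤ v → v ≤ 332869 → fs2 v = true := slots_step fs2 332601 268 332869 s2u1168 s2c1169 rfl
theorem s2u1170 : ∀ v, 1 ≤ v → v ≤ 333118 → fs2 v = true := slots_step fs2 332869 249 333118 s2u1169 s2c1170 rfl
theorem s2u1171 : ∀ v, 1 ≤ v → v ≤ 333381 → fs2 v = true := slots_step fs2 333118 263 333381 s2u1170 s2c1171 rfl
theorem s2u1172 : ∀ v, 1 ≤ v → v ≤ 333650 → fs2 v = true := slots_step fs2 333381 269 333650 s2u1171 s2c1172 rfl
theorem s2u1173 : ∀ v, 1 ≤ v → v ≤ 333915 → fs2 v = true := slots_step fs2 333650 265 333915 s2u1172 s2c1173 rfl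
theorem s2u1174 : ∀ v, 1 ≤ v → v ≤ 334174 → fs2 v = true := slots_step fs2 333915 259 334174 s2u1173 s2c1174 rfl
theorem s2u1175 : ∀ v, 1 ≤ v → v ≤ 334451 → fs2 v = true := slots_step fs2 334174 277 334451 s2u1174 s2c1175 rfl
theorem s2u1176 : ∀ v, 1 ≤ v → v ≤ 334720 → fs2 v = true := slots_step fs2 334451 269 334720 s2u1175 s2c1176 rfl
theorem s2u1177 : ∀ v, 1 ≤ v → v ≤ 335007 → fs2 v = true := slots_step fs2 334720 287 335007 s2u1176 s2c1177 rfl
theorem s2u1178 : ∀ v, 1 ≤ v → v ≤ 335287 → fs2 v = true := slots_step fs2 335007 280 335287 s2u1177 s2c1178 rfl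
theorem s2u1179 : ∀ v, 1 ≤ v → v ≤ 335570 → fs2 v = true := slots_step fs2 335287 283 335570 s2u1178 s2c1179 rfl
theorem s2u1180 : ∀ v, 1 ≤ v → v ≤ 335842 → fs2 v = true := slots_step fs2 335570 272 335842 s2u1179 s2c1180 rfl
theorem s2u1181 : ∀ v, 1 ≤ v → v ≤ 336128 → fs2 v = true := slots_step fs2 335842 286 336128 s2u1180 s2c1181 rfl
theorem s2u1182 : ∀ v, 1 ≤ v → v ≤ 336409 → fs2 v = true := slots_step fs2 336128 281 336409 s2u1181 s2c1182 rfl
theorem s2u1183 : ∀ v, 1 ≤ v → v ≤ 336641 → fs2 v = true := slots_step fs2 336409 232 336641 s2u1182 s2c1183 rfl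
theorem s2u1184 : ∀ v, 1 ≤ v → v ≤ 336888 → fs2 v = true := slots_step fs2 336641 247 336888 s2u1183 s2c1184 rfl
theorem s2u1185 : ∀ v, 1 ≤ v → v ≤ 337138 → fs2 v = true := slots_step fs2 336888 250 337138 s2u1184 s2c1185 rfl
theorem s2u1186 : ∀ v, 1 ≤ v → v ≤ 337376 → fs2 v = true := slots_step fs2 337138 238 337376 s2u1185 s2c1186 rfl
theorem s2u1187 : ∀ v, 1 ≤ v → v ≤ 337613 → fs2 v = true := slots_step fs2 337376 237 337613 s2u1186 s2c1187 rfl
theorem s2u1188 : ∀ v, 1 ≤ v → v ≤ 337846 → fs2 v = true := slots_step fs2 337613 233 337846 s2u1187 s2c1188 rfl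
theorem s2u1189 : ∀ v, 1 ≤ v → v ≤ 338093 → fs2 v = true := slots_step fs2 337846 247 338093 s2u1188 s2c1189 rfl
theorem s2u1190 : ∀ v, 1 ≤ v → v ≤ 338292 → fs2 v = true := slots_step fs2 338093 199 338292 s2u1189 s2c1190 rfl
theorem s2u1191 : ∀ v, 1 ≤ v → v ≤ 338529 → fs2 v = true := slots_step fs2 338292 237 338529 s2u1190 s2c1191 rfl
theorem s2u1192 : ∀ v, 1 ≤ v → v ≤ 338756 → fs2 v = true := slots_step fs2 338529 227 338756 s2u1191 s2c1192 rfl
theorem s2u1193 : ∀ v, 1 ≤ v → v ≤ 338997 → fs2 v = true := slots_step fs2 338756 241 338997 s2u1192 s2c1193 rfl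
theorem s2u1194 : ∀ v, 1 ≤ v → v ≤ 339241 → fs2 v = true := slots_step fs2 338997 244 339241 s2u1193 s2c1194 rfl
theorem s2u1195 : ∀ v, 1 ≤ v → v ≤ 339488 → fs2 v = true := slots_step fs2 339241 247 339488 s2u1194 s2c1195 rfl
theorem s2u1196 : ∀ v, 1 ≤ v → v ≤ 339716 → fs2 v = true := slots_step fs2 339488 228 339716 s2u1195 s2c1196 rfl
theorem s2u1197 : ∀ v, 1 ≤ v → v ≤ 339956 → fs2 v = true := slots_step fs2 339716 240 339956 s2u1196 s2c1197 rfl
theorem s2u1198 : ∀ v, 1 ≤ v → v ≤ 340199 → fs2 v = true := slots_step fs2 339956 243 340199 s2u1197 s2c1198 rfl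
theorem s2u1199 : ∀ v, 1 ≤ v → v ≤ 340453 → fs2 v = true := slots_step fs2 340199 254 340453 s2u1198 s2c1199 rfl
theorem s2u1200 : ∀ v, 1 ≤ v → v ≤ 340706 → fs2 v = true := slots_step fs2 340453 253 340706 s2u1199 s2c1200 rfl
theorem s2u1201 : ∀ v, 1 ≤ v → v ≤ 340953 → fs2 v = true := slots_step fs2 340706 247 340953 s2u1200 s2c1201 rfl
theorem s2u1202 : ∀ v, 1 ≤ v → v ≤ 341207 → fs2 v = true := slots_step fs2 340953 254 341207 s2u1201 s2c1202 rfl
theorem s2u1203 : ∀ v, 1 ≤ v → v ≤ 341456 → fs2 v = true := slots_step fs2 341207 249 341456 s2u1202 s2c1203 rfl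
theorem s2u1204 : ∀ v, 1 ≤ v → v ≤ 341711 → fs2 v = true := slots_step fs2 341456 255 341711 s2u1203 s2c1204 rfl
theorem s2u1205 : ∀ v, 1 ≤ v → v ≤ 341960 → fs2 v = true := slots_step fs2 341711 249 341960 s2u1204 s2c1205 rfl
theorem s2u1206 : ∀ v, 1 ≤ v → v ≤ 342236 → fs2 v = true := slots_step fs2 341960 276 342236 s2u1205 s2c1206 rfl
theorem s2u1207 : ∀ v, 1 ≤ v → v ≤ 342497 → fs2 v = true := slots_step fs2 342236 261 342497 s2u1206 s2c1207 rfl
theorem s2u1208 : ∀ v, 1 ≤ v → v ≤ 342760 → fs2 v = true := slots_step fs2 342497 263 342760 s2u1207 s2c1208 rfl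
theorem s2u1209 : ∀ v, 1 ≤ v → v ≤ 343010 → fs2 v = true := slots_step fs2 342760 250 343010 s2u1208 s2c1209 rfl
theorem s2u1210 : ∀ v, 1 ≤ v → v ≤ 343270 → fs2 v = true := slots_step fs2 343010 260 343270 s2u1209 s2c1210 rfl
theorem s2u1211 : ∀ v, 1 ≤ v → v ≤ 343533 → fs2 v = true := slots_step fs2 343270 263 343533 s2u1210 s2c1211 rfl
theorem s2u1212 : ∀ v, 1 ≤ v → v ≤ 343791 → fs2 v = true := slots_step fs2 343533 258 343791 s2u1211 s2c1212 rfl
theorem s2u1213 : ∀ v, 1 ≤ v → v ≤ 344039 → fs2 v = true := slots_step fs2 343791 248 344039 s2u1212 s2c1213 rfl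
theorem s2u1214 : ∀ v, 1 ≤ v → v ≤ 344297 → fs2 v = true := slots_step fs2 344039 258 344297 s2u1213 s2c1214 rfl
theorem s2u1215 : ∀ v, 1 ≤ v → v ≤ 344557 → fs2 v = true := slots_step fs2 344297 260 344557 s2u1214 s2c1215 rfl
theorem s2u1216 : ∀ v, 1 ≤ v → v ≤ 344803 → fs2 v = true := slots_step fs2 344557 246 344803 s2u1215 s2c1216 rfl
theorem s2u1217 : ∀ v, 1 ≤ v → v ≤ 345063 → fs2 v = true := slots_step fs2 344803 260 345063 s2u1216 s2c1217 rfl
theorem s2u1218 : ∀ v, 1 ≤ v → v ≤ 345312 → fs2 v = true := slots_step fs2 345063 249 345312 s2u1217 s2c1218 rfl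
theorem s2u1219 : ∀ v, 1 ≤ v → v ≤ 345575 → fs2 v = true := slots_step fs2 345312 263 345575 s2u1218 s2c1219 rfl
theorem s2u1220 : ∀ v, 1 ≤ v → v ≤ 345838 → fs2 v = true := slots_step fs2 345575 263 345838 s2u1219 s2c1220 rfl
theorem s2u1221 : ∀ v, 1 ≤ v → v ≤ 346117 → fs2 v = true := slots_step fs2 345838 279 346117 s2u1220 s2c1221 rfl
theorem s2u1222 : ∀ v, 1 ≤ v → v ≤ 346389 → fs2 v = true := slots_step fs2 346117 272 346389 s2u1221 s2c1222 rfl
theorem s2u1223 : ∀ v, 1 ≤ v → v ≤ 346666 → fs2 v = true := slots_step fs2 346389 277 346666 s2u1222 s2c1223 rfl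
theorem s2u1224 : ∀ v, 1 ≤ v → v ≤ 346942 → fs2 v = true := slots_step fs2 346666 276 346942 s2u1223 s2c1224 rfl
theorem s2u1225 : ∀ v, 1 ≤ v → v ≤ 347214 → fs2 v = true := slots_step fs2 346942 272 347214 s2u1224 s2c1225 rfl
theorem s2u1226 : ∀ v, 1 ≤ v → v ≤ 347451 → fs2 v = true := slots_step fs2 347214 237 347451 s2u1225 s2c1226 rfl
theorem s2u1227 : ∀ v, 1 ≤ v → v ≤ 347696 → fs2 v = true := slots_step fs2 347451 245 347696 s2u1226 s2c1227 rfl
theorem s2u1228 : ∀ v, 1 ≤ v → v ≤ 347935 → fs2 v = true := slots_step fs2 347696 239 347935 s2u1227 s2c1228 rfl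
theorem s2u1229 : ∀ v, 1 ≤ v → v ≤ 348177 → fs2 v = true := slots_step fs2 347935 242 348177 s2u1228 s2c1229 rfl
theorem s2u1230 : ∀ v, 1 ≤ v → v ≤ 348410 → fs2 v = true := slots_step fs2 348177 233 348410 s2u1229 s2c1230 rfl
theorem s2u1231 : ∀ v, 1 ≤ v → v ≤ 348643 → fs2 v = true := slots_step fs2 348410 233 348643 s2u1230 s2c1231 rfl
theorem s2u1232 : ∀ v, 1 ≤ v → v ≤ 348883 → fs2 v = true := slots_step fs2 348643 240 348883 s2u1231 s2c1232 rfl
theorem s2u1233 : ∀ v, 1 ≤ v → v ≤ 349130 → fs2 v = true := slots_step fs2 348883 247 349130 s2u1232 s2c1233 rfl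
theorem s2u1234 : ∀ v, 1 ≤ v → v ≤ 349373 → fs2 v = true := slots_step fs2 349130 243 349373 s2u1233 s2c1234 rfl
theorem s2u1235 : ∀ v, 1 ≤ v → v ≤ 349623 → fs2 v = true := slots_step fs2 349373 250 349623 s2u1234 s2c1235 rfl
theorem s2u1236 : ∀ v, 1 ≤ v → v ≤ 349873 → fs2 v = true := slots_step fs2 349623 250 349873 s2u1235 s2c1236 rfl
theorem s2u1237 : ∀ v, 1 ≤ v → v ≤ 350109 → fs2 v = true := slots_step fs2 349873 236 350109 s2u1236 s2c1237 rfl
theorem s2u1238 : ∀ v, 1 ≤ v → v ≤ 350361 → fs2 v = true := slots_step fs2 350109 252 350361 s2u1237 s2c1238 rfl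
theorem s2u1239 : ∀ v, 1 ≤ v → v ≤ 350622 → fs2 v = true := slots_step fs2 350361 261 350622 s2u1238 s2c1239 rfl
theorem s2u1240 : ∀ v, 1 ≤ v → v ≤ 350873 → fs2 v = true := slots_step fs2 350622 251 350873 s2u1239 s2c1240 rfl
theorem s2u1241 : ∀ v, 1 ≤ v → v ≤ 351073 → fs2 v = true := slots_step fs2 350873 200 351073 s2u1240 s2c1241 rfl
theorem s2u1242 : ∀ v, 1 ≤ v → v ≤ 351331 → fs2 v = true := slots_step fs2 351073 258 351331 s2u1241 s2c1242 rfl
theorem s2u1243 : ∀ v, 1 ≤ v → v ≤ 351585 → fs2 v = true := slots_step fs2 351331 254 351585 s2u1242 s2c1243 rfl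
theorem s2u1244 : ∀ v, 1 ≤ v → v ≤ 351839 → fs2 v = true := slots_step fs2 351585 254 351839 s2u1243 s2c1244 rfl
theorem s2u1245 : ∀ v, 1 ≤ v → v ≤ 352089 → fs2 v = true := slots_step fs2 351839 250 352089 s2u1244 s2c1245 rfl
theorem s2u1246 : ∀ v, 1 ≤ v → v ≤ 352352 → fs2 v = true := slots_step fs2 352089 263 352352 s2u1245 s2c1246 rfl
theorem s2u1247 : ∀ v, 1 ≤ v → v ≤ 352623 → fs2 v = true := slots_step fs2 352352 271 352623 s2u1246 s2c1247 rfl
theorem s2u1248 : ∀ v, 1 ≤ v → v ≤ 352889 → fs2 v = true := slots_step fs2 352623 266 352889 s2u1247 s2c1248 rfl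
theorem s2u1249 : ∀ v, 1 ≤ v → v ≤ 353152 → fs2 v = true := slots_step fs2 352889 263 353152 s2u1248 s2c1249 rfl
theorem s2u1250 : ∀ v, 1 ≤ v → v ≤ 353390 → fs2 v = true := slots_step fs2 353152 238 353390 s2u1249 s2c1250 rfl
theorem s2u1251 : ∀ v, 1 ≤ v → v ≤ 353618 → fs2 v = true := slots_step fs2 353390 228 353618 s2u1250 s2c1251 rfl
theorem s2u1252 : ∀ v, 1 ≤ v → v ≤ 353850 → fs2 v = true := slots_step fs2 353618 232 353850 s2u1251 s2c1252 rfl
theorem s2u1253 : ∀ v, 1 ≤ v → v ≤ 354087 → fs2 v = true := slots_step fs2 353850 237 354087 s2u1252 s2c1253 rfl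
theorem s2u1254 : ∀ v, 1 ≤ v → v ≤ 354325 → fs2 v = true := slots_step fs2 354087 238 354325 s2u1253 s2c1254 rfl
theorem s2u1255 : ∀ v, 1 ≤ v → v ≤ 354573 → fs2 v = true := slots_step fs2 354325 248 354573 s2u1254 s2c1255 rfl
theorem s2u1256 : ∀ v, 1 ≤ v → v ≤ 354825 → fs2 v = true := slots_step fs2 354573 252 354825 s2u1255 s2c1256 rfl
theorem s2u1257 : ∀ v, 1 ≤ v → v ≤ 355071 → fs2 v = true := slots_step fs2 354825 246 355071 s2u1256 s2c1257 rfl
theorem s2u1258 : ∀ v, 1 ≤ v → v ≤ 355320 → fs2 v = true := slots_step fs2 355071 249 355320 s2u1257 s2c1258 rfl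
theorem s2u1259 : ∀ v, 1 ≤ v → v ≤ 355576 → fs2 v = true := slots_step fs2 355320 256 355576 s2u1258 s2c1259 rfl
theorem s2u1260 : ∀ v, 1 ≤ v → v ≤ 355836 → fs2 v = true := slots_step fs2 355576 260 355836 s2u1259 s2c1260 rfl
theorem s2u1261 : ∀ v, 1 ≤ v → v ≤ 356073 → fs2 v = true := slots_step fs2 355836 237 356073 s2u1260 s2c1261 rfl
theorem s2u1262 : ∀ v, 1 ≤ v → v ≤ 356307 → fs2 v = true := slots_step fs2 356073 234 356307 s2u1261 s2c1262 rfl
theorem s2u1263 : ∀ v, 1 ≤ v → v ≤ 356551 → fs2 v = true := slots_step fs2 356307 244 356551 s2u1262 s2c1263 rfl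
theorem s2u1264 : ∀ v, 1 ≤ v → v ≤ 356798 → fs2 v = true := slots_step fs2 356551 247 356798 s2u1263 s2c1264 rfl
theorem s2u1265 : ∀ v, 1 ≤ v → v ≤ 357029 → fs2 v = true := slots_step fs2 356798 231 357029 s2u1264 s2c1265 rfl
theorem s2u1266 : ∀ v, 1 ≤ v → v ≤ 357258 → fs2 v = true := slots_step fs2 357029 229 357258 s2u1265 s2c1266 rfl
theorem s2u1267 : ∀ v, 1 ≤ v → v ≤ 357465 → fs2 v = true := slots_step fs2 357258 207 357465 s2u1266 s2c1267 rfl
theorem s3u0 : ∀ v, 1 ≤ v → v ≤ 258 → fs3 v = true := slots_step fs3 0 258 258 (slots_zero fs3) s3c0 rfl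
theorem s3u1 : ∀ v, 1 ≤ v → v ≤ 532 → fs3 v = true := slots_step fs3 258 274 532 s3u0 s3c1 rfl
theorem s3u2 : ∀ v, 1 ≤ v → v ≤ 795 → fs3 v = true := slots_step fs3 532 263 795 s3u1 s3c2 rfl
theorem s3u3 : ∀ v, 1 ≤ v → v ≤ 1064 → fs3 v = true := slots_step fs3 795 269 1064 s3u2 s3c3 rfl
theorem s3u4 : ∀ v, 1 ≤ v → v ≤ 1333 → fs3 v = true := slots_step fs3 1064 269 1333 s3u3 s3c4 rfl
theorem s3u5 : ∀ v, 1 ≤ v → v ≤ 1610 → fs3 v = true := slots_step fs3 1333 277 1610 s3u4 s3c5 rfl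
theorem s3u6 : ∀ v, 1 ≤ v → v ≤ 1894 → fs3 v = true := slots_step fs3 1610 284 1894 s3u5 s3c6 rfl
theorem s3u7 : ∀ v, 1 ≤ v → v ≤ 2169 → fs3 v = true := slots_step fs3 1894 275 2169 s3u6 s3c7 rfl
theorem s3u8 : ∀ v, 1 ≤ v → v ≤ 2449 → fs3 v = true := slots_step fs3 2169 280 2449 s3u7 s3c8 rfl
theorem s3u9 : ∀ v, 1 ≤ v → v ≤ 2727 → fs3 v = true := slots_step fs3 2449 278 2727 s3u8 s3c9 rfl
theorem s3u10 : ∀ v, 1 ≤ v → v ≤ 3009 → fs3 v = true := slots_step fs3 2727 282 3009 s3u9 s3c10 rfl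
theorem s3u11 : ∀ v, 1 ≤ v → v ≤ 3292 → fs3 v = true := slots_step fs3 3009 283 3292 s3u10 s3c11 rfl
theorem s3u12 : ∀ v, 1 ≤ v → v ≤ 3582 → fs3 v = true := slots_step fs3 3292 290 3582 s3u11 s3c12 rfl
theorem s3u13 : ∀ v, 1 ≤ v → v ≤ 3851 → fs3 v = true := slots_step fs3 3582 269 3851 s3u12 s3c13 rfl
theorem s3u14 : ∀ v, 1 ≤ v → v ≤ 4137 → fs3 v = true := slots_step fs3 3851 286 4137 s3u13 s3c14 rfl
theorem s3u15 : ∀ v, 1 ≤ v → v ≤ 4431 → fs3 v = true := slots_step fs3 4137 294 4431 s3u14 s3c15 rfl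
theorem s3u16 : ∀ v, 1 ≤ v → v ≤ 4714 → fs3 v = true := slots_step fs3 4431 283 4714 s3u15 s3c16 rfl
theorem s3u17 : ∀ v, 1 ≤ v → v ≤ 5019 → fs3 v = true := slots_step fs3 4714 305 5019 s3u16 s3c17 rfl
theorem s3u18 : ∀ v, 1 ≤ v → v ≤ 5286 → fs3 v = true := slots_step fs3 5019 267 5286 s3u17 s3c18 rfl
theorem s3u19 : ∀ v, 1 ≤ v → v ≤ 5578 → fs3 v = true := slots_step fs3 5286 292 5578 s3u18 s3c19 rfl
theorem s3u20 : ∀ v, 1 ≤ v → v ≤ 5860 → fs3 v = true := slots_step fs3 5578 282 5860 s3u19 s3c20 rfl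
theorem s3u21 : ∀ v, 1 ≤ v → v ≤ 6174 → fs3 v = true := slots_step fs3 5860 314 6174 s3u20 s3c21 rfl
theorem s3u22 : ∀ v, 1 ≤ v → v ≤ 6449 → fs3 v = true := slots_step fs3 6174 275 6449 s3u21 s3c22 rfl
theorem s3u23 : ∀ v, 1 ≤ v → v ≤ 6742 → fs3 v = true := slots_step fs3 6449 293 6742 s3u22 s3c23 rfl
theorem s3u24 : ∀ v, 1 ≤ v → v ≤ 7070 → fs3 v = true := slots_step fs3 6742 328 7070 s3u23 s3c24 rfl
theorem s3u25 : ∀ v, 1 ≤ v → v ≤ 7345 → fs3 v = true := slots_step fs3 7070 275 7345 s3u24 s3c25 rfl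
theorem s3u26 : ∀ v, 1 ≤ v → v ≤ 7659 → fs3 v = true := slots_step fs3 7345 314 7659 s3u25 s3c26 rfl
theorem s3u27 : ∀ v, 1 ≤ v → v ≤ 7930 → fs3 v = true := slots_step fs3 7659 271 7930 s3u26 s3c27 rfl
theorem s3u28 : ∀ v, 1 ≤ v → v ≤ 8217 → fs3 v = true := slots_step fs3 7930 287 8217 s3u27 s3c28 rfl
theorem s3u29 : ∀ v, 1 ≤ v → v ≤ 8546 → fs3 v = true := slots_step fs3 8217 329 8546 s3u28 s3c29 rfl
theorem s3u30 : ∀ v, 1 ≤ v → v ≤ 8821 → fs3 v = true := slots_step fs3 8546 275 8821 s3u29 s3c30 rfl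
theorem s3u31 : ∀ v, 1 ≤ v → v ≤ 9121 → fs3 v = true := slots_step fs3 8821 300 9121 s3u30 s3c31 rfl
theorem s3u32 : ∀ v, 1 ≤ v → v ≤ 9429 → fs3 v = true := slots_step fs3 9121 308 9429 s3u31 s3c32 rfl
theorem s3u33 : ∀ v, 1 ≤ v → v ≤ 9775 → fs3 v = true := slots_step fs3 9429 346 9775 s3u32 s3c33 rfl
theorem s3u34 : ∀ v, 1 ≤ v → v ≤ 10056 → fs3 v = true := slots_step fs3 9775 281 10056 s3u33 s3c34 rfl
theorem s3u35 : ∀ v, 1 ≤ v → v ≤ 10352 → fs3 v = true := slots_step fs3 10056 296 10352 s3u34 s3c35 rfl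
theorem s3u36 : ∀ v, 1 ≤ v → v ≤ 10622 → fs3 v = true := slots_step fs3 10352 270 10622 s3u35 s3c36 rfl
theorem s3u37 : ∀ v, 1 ≤ v → v ≤ 10887 → fs3 v = true := slots_step fs3 10622 265 10887 s3u36 s3c37 rfl
theorem s3u38 : ∀ v, 1 ≤ v → v ≤ 11163 → fs3 v = true := slots_step fs3 10887 276 11163 s3u37 s3c38 rfl
theorem s3u39 : ∀ v, 1 ≤ v → v ≤ 11416 → fs3 v = true := slots_step fs3 11163 253 11416 s3u38 s3c39 rfl
theorem s3u40 : ∀ v, 1 ≤ v → v ≤ 11704 → fs3 v = true := slots_step fs3 11416 288 11704 s3u39 s3c40 rfl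
theorem s3u41 : ∀ v, 1 ≤ v → v ≤ 11967 → fs3 v = true := slots_step fs3 11704 263 11967 s3u40 s3c41 rfl
theorem s3u42 : ∀ v, 1 ≤ v → v ≤ 12246 → fs3 v = true := slots_step fs3 11967 279 12246 s3u41 s3c42 rfl
theorem s3u43 : ∀ v, 1 ≤ v → v ≤ 12551 → fs3 v = true := slots_step fs3 12246 305 12551 s3u42 s3c43 rfl
theorem s3u44 : ∀ v, 1 ≤ v → v ≤ 12832 → fs3 v = true := slots_step fs3 12551 281 12832 s3u43 s3c44 rfl
theorem s3u45 : ∀ v, 1 ≤ v → v ≤ 13119 → fs3 v = true := slots_step fs3 12832 287 13119 s3u44 s3c45 rfl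
theorem s3u46 : ∀ v, 1 ≤ v → v ≤ 13405 → fs3 v = true := slots_step fs3 13119 286 13405 s3u45 s3c46 rfl
theorem s3u47 : ∀ v, 1 ≤ v → v ≤ 13667 → fs3 v = true := slots_step fs3 13405 262 13667 s3u46 s3c47 rfl
theorem s3u48 : ∀ v, 1 ≤ v → v ≤ 13942 → fs3 v = true := slots_step fs3 13667 275 13942 s3u47 s3c48 rfl
theorem s3u49 : ∀ v, 1 ≤ v → v ≤ 14213 → fs3 v = true := slots_step fs3 13942 271 14213 s3u48 s3c49 rfl
theorem s3u50 : ∀ v, 1 ≤ v → v ≤ 14518 → fs3 v = true := slots_step fs3 14213 305 14518 s3u49 s3c50 rfl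
theorem s3u51 : ∀ v, 1 ≤ v → v ≤ 14782 → fs3 v = true := slots_step fs3 14518 264 14782 s3u50 s3c51 rfl
theorem s3u52 : ∀ v, 1 ≤ v → v ≤ 15069 → fs3 v = true := slots_step fs3 14782 287 15069 s3u51 s3c52 rfl
theorem s3u53 : ∀ v, 1 ≤ v → v ≤ 15353 → fs3 v = true := slots_step fs3 15069 284 15353 s3u52 s3c53 rfl
theorem s3u54 : ∀ v, 1 ≤ v → v ≤ 15629 → fs3 v = true := slots_step fs3 15353 276 15629 s3u53 s3c54 rfl
theorem s3u55 : ∀ v, 1 ≤ v → v ≤ 15918 → fs3 v = true := slots_step fs3 15629 289 15918 s3u54 s3c55 rfl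
theorem s3u56 : ∀ v, 1 ≤ v → v ≤ 16246 → fs3 v = true := slots_step fs3 15918 328 16246 s3u55 s3c56 rfl
theorem s3u57 : ∀ v, 1 ≤ v → v ≤ 16570 → fs3 v = true := slots_step fs3 16246 324 16570 s3u56 s3c57 rfl
theorem s3u58 : ∀ v, 1 ≤ v → v ≤ 16826 → fs3 v = true := slots_step fs3 16570 256 16826 s3u57 s3c58 rfl
theorem s3u59 : ∀ v, 1 ≤ v → v ≤ 17147 → fs3 v = true := slots_step fs3 16826 321 17147 s3u58 s3c59 rfl
theorem s3u60 : ∀ v, 1 ≤ v → v ≤ 17459 → fs3 v = true := slots_step fs3 17147 312 17459 s3u59 s3c60 rfl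
theorem s3u61 : ∀ v, 1 ≤ v → v ≤ 17714 → fs3 v = true := slots_step fs3 17459 255 17714 s3u60 s3c61 rfl
theorem s3u62 : ∀ v, 1 ≤ v → v ≤ 17984 → fs3 v = true := slots_step fs3 17714 270 17984 s3u61 s3c62 rfl
theorem s3u63 : ∀ v, 1 ≤ v → v ≤ 18284 → fs3 v = true := slots_step fs3 17984 300 18284 s3u62 s3c63 rfl
theorem s3u64 : ∀ v, 1 ≤ v → v ≤ 18567 → fs3 v = true := slots_step fs3 18284 283 18567 s3u63 s3c64 rfl
theorem s3u65 : ∀ v, 1 ≤ v → v ≤ 18867 → fs3 v = true := slots_step fs3 18567 300 18867 s3u64 s3c65 rfl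
theorem s3u66 : ∀ v, 1 ≤ v → v ≤ 19170 → fs3 v = true := slots_step fs3 18867 303 19170 s3u65 s3c66 rfl
theorem s3u67 : ∀ v, 1 ≤ v → v ≤ 19449 → fs3 v = true := slots_step fs3 19170 279 19449 s3u66 s3c67 rfl
theorem s3u68 : ∀ v, 1 ≤ v → v ≤ 19741 → fs3 v = true := slots_step fs3 19449 292 19741 s3u67 s3c68 rfl
theorem s3u69 : ∀ v, 1 ≤ v → v ≤ 20041 → fs3 v = true := slots_step fs3 19741 300 20041 s3u68 s3c69 rfl
theorem s3u70 : ∀ v, 1 ≤ v → v ≤ 20333 → fs3 v = true := slots_step fs3 20041 292 20333 s3u69 s3c70 rfl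
theorem s3u71 : ∀ v, 1 ≤ v → v ≤ 20621 → fs3 v = true := slots_step fs3 20333 288 20621 s3u70 s3c71 rfl
theorem s3u72 : ∀ v, 1 ≤ v → v ≤ 20914 → fs3 v = true := slots_step fs3 20621 293 20914 s3u71 s3c72 rfl
theorem s3u73 : ∀ v, 1 ≤ v → v ≤ 21255 → fs3 v = true := slots_step fs3 20914 341 21255 s3u72 s3c73 rfl
theorem s3u74 : ∀ v, 1 ≤ v → v ≤ 21590 → fs3 v = true := slots_step fs3 21255 335 21590 s3u73 s3c74 rfl
theorem s3u75 : ∀ v, 1 ≤ v → v ≤ 21928 → fs3 v = true := slots_step fs3 21590 338 21928 s3u74 s3c75 rfl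
theorem s3u76 : ∀ v, 1 ≤ v → v ≤ 22193 → fs3 v = true := slots_step fs3 21928 265 22193 s3u75 s3c76 rfl
theorem s3u77 : ∀ v, 1 ≤ v → v ≤ 22534 → fs3 v = true := slots_step fs3 22193 341 22534 s3u76 s3c77 rfl
theorem s3u78 : ∀ v, 1 ≤ v → v ≤ 22842 → fs3 v = true := slots_step fs3 22534 308 22842 s3u77 s3c78 rfl
theorem s3u79 : ∀ v, 1 ≤ v → v ≤ 23177 → fs3 v = true := slots_step fs3 22842 335 23177 s3u78 s3c79 rfl
theorem s3u80 : ∀ v, 1 ≤ v → v ≤ 23435 → fs3 v = true := slots_step fs3 23177 258 23435 s3u79 s3c80 rfl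
theorem s3u81 : ∀ v, 1 ≤ v → v ≤ 23712 → fs3 v = true := slots_step fs3 23435 277 23712 s3u80 s3c81 rfl
theorem s3u82 : ∀ v, 1 ≤ v → v ≤ 24016 → fs3 v = true := slots_step fs3 23712 304 24016 s3u81 s3c82 rfl
theorem s3u83 : ∀ v, 1 ≤ v → v ≤ 24333 → fs3 v = true := slots_step fs3 24016 317 24333 s3u82 s3c83 rfl
theorem s3u84 : ∀ v, 1 ≤ v → v ≤ 24629 → fs3 v = true := slots_step fs3 24333 296 24629 s3u83 s3c84 rfl
theorem s3u85 : ∀ v, 1 ≤ v → v ≤ 24908 → fs3 v = true := slots_step fs3 24629 279 24908 s3u84 s3c85 rfl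
theorem s3u86 : ∀ v, 1 ≤ v → v ≤ 25290 → fs3 v = true := slots_step fs3 24908 382 25290 s3u85 s3c86 rfl
theorem s3u87 : ∀ v, 1 ≤ v → v ≤ 25548 → fs3 v = true := slots_step fs3 25290 258 25548 s3u86 s3c87 rfl
theorem s3u88 : ∀ v, 1 ≤ v → v ≤ 25839 → fs3 v = true := slots_step fs3 25548 291 25839 s3u87 s3c88 rfl
theorem s3u89 : ∀ v, 1 ≤ v → v ≤ 26132 → fs3 v = true := slots_step fs3 25839 293 26132 s3u88 s3c89 rfl
theorem s3u90 : ∀ v, 1 ≤ v → v ≤ 26419 → fs3 v = true := slots_step fs3 26132 287 26419 s3u89 s3c90 rfl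
theorem s3u91 : ∀ v, 1 ≤ v → v ≤ 26739 → fs3 v = true := slots_step fs3 26419 320 26739 s3u90 s3c91 rfl
theorem s3u92 : ∀ v, 1 ≤ v → v ≤ 27056 → fs3 v = true := slots_step fs3 26739 317 27056 s3u91 s3c92 rfl
theorem s3u93 : ∀ v, 1 ≤ v → v ≤ 27388 → fs3 v = true := slots_step fs3 27056 332 27388 s3u92 s3c93 rfl
theorem s3u94 : ∀ v, 1 ≤ v → v ≤ 27674 → fs3 v = true := slots_step fs3 27388 286 27674 s3u93 s3c94 rfl
theorem s3u95 : ∀ v, 1 ≤ v → v ≤ 27965 → fs3 v = true := slots_step fs3 27674 291 27965 s3u94 s3c95 rfl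
theorem s3u96 : ∀ v, 1 ≤ v → v ≤ 28313 → fs3 v = true := slots_step fs3 27965 348 28313 s3u95 s3c96 rfl
theorem s3u97 : ∀ v, 1 ≤ v → v ≤ 28684 → fs3 v = true := slots_step fs3 28313 371 28684 s3u96 s3c97 rfl
theorem s3u98 : ∀ v, 1 ≤ v → v ≤ 29093 → fs3 v = true := slots_step fs3 28684 409 29093 s3u97 s3c98 rfl
theorem s3u99 : ∀ v, 1 ≤ v → v ≤ 29396 → fs3 v = true := slots_step fs3 29093 303 29396 s3u98 s3c99 rfl
theorem s3u100 : ∀ v, 1 ≤ v → v ≤ 29662 → fs3 v = true := slots_step fs3 29396 266 29662 s3u99 s3c100 rfl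
theorem s3u101 : ∀ v, 1 ≤ v → v ≤ 30032 → fs3 v = true := slots_step fs3 29662 370 30032 s3u100 s3c101 rfl
theorem s3u102 : ∀ v, 1 ≤ v → v ≤ 30394 → fs3 v = true := slots_step fs3 30032 362 30394 s3u101 s3c102 rfl
theorem s3u103 : ∀ v, 1 ≤ v → v ≤ 30726 → fs3 v = true := slots_step fs3 30394 332 30726 s3u102 s3c103 rfl
theorem s3u104 : ∀ v, 1 ≤ v → v ≤ 31044 → fs3 v = true := slots_step fs3 30726 318 31044 s3u103 s3c104 rfl
theorem s3u105 : ∀ v, 1 ≤ v → v ≤ 31303 → fs3 v = true := slots_step fs3 31044 259 31303 s3u104 s3c105 rfl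
theorem s3u106 : ∀ v, 1 ≤ v → v ≤ 31585 → fs3 v = true := slots_step fs3 31303 282 31585 s3u105 s3c106 rfl
theorem s3u107 : ∀ v, 1 ≤ v → v ≤ 31862 → fs3 v = true := slots_step fs3 31585 277 31862 s3u106 s3c107 rfl
theorem s3u108 : ∀ v, 1 ≤ v → v ≤ 32183 → fs3 v = true := slots_step fs3 31862 321 32183 s3u107 s3c108 rfl
theorem s3u109 : ∀ v, 1 ≤ v → v ≤ 32538 → fs3 v = true := slots_step fs3 32183 355 32538 s3u108 s3c109 rfl
theorem s3u110 : ∀ v, 1 ≤ v → v ≤ 32882 → fs3 v = true := slots_step fs3 32538 344 32882 s3u109 s3c110 rfl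
theorem s3u111 : ∀ v, 1 ≤ v → v ≤ 33160 → fs3 v = true := slots_step fs3 32882 278 33160 s3u110 s3c111 rfl
theorem s3u112 : ∀ v, 1 ≤ v → v ≤ 33461 → fs3 v = true := slots_step fs3 33160 301 33461 s3u111 s3c112 rfl
theorem s3u113 : ∀ v, 1 ≤ v → v ≤ 33895 → fs3 v = true := slots_step fs3 33461 434 33895 s3u112 s3c113 rfl
theorem s3u114 : ∀ v, 1 ≤ v → v ≤ 34168 → fs3 v = true := slots_step fs3 33895 273 34168 s3u113 s3c114 rfl
theorem s3u115 : ∀ v, 1 ≤ v → v ≤ 34452 → fs3 v = true := slots_step fs3 34168 284 34452 s3u114 s3c115 rfl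
theorem s3u116 : ∀ v, 1 ≤ v → v ≤ 34747 → fs3 v = true := slots_step fs3 34452 295 34747 s3u115 s3c116 rfl
theorem s3u117 : ∀ v, 1 ≤ v → v ≤ 35042 → fs3 v = true := slots_step fs3 34747 295 35042 s3u116 s3c117 rfl
theorem s3u118 : ∀ v, 1 ≤ v → v ≤ 35335 → fs3 v = true := slots_step fs3 35042 293 35335 s3u117 s3c118 rfl
theorem s3u119 : ∀ v, 1 ≤ v → v ≤ 35622 → fs3 v = true := slots_step fs3 35335 287 35622 s3u118 s3c119 rfl
theorem s3u120 : ∀ v, 1 ≤ v → v ≤ 35947 → fs3 v = true := slots_step fs3 35622 325 35947 s3u119 s3c120 rfl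
theorem s3u121 : ∀ v, 1 ≤ v → v ≤ 36283 → fs3 v = true := slots_step fs3 35947 336 36283 s3u120 s3c121 rfl
theorem s3u122 : ∀ v, 1 ≤ v → v ≤ 36628 → fs3 v = true := slots_step fs3 36283 345 36628 s3u121 s3c122 rfl
theorem s3u123 : ∀ v, 1 ≤ v → v ≤ 36991 → fs3 v = true := slots_step fs3 36628 363 36991 s3u122 s3c123 rfl
theorem s3u124 : ∀ v, 1 ≤ v → v ≤ 37284 → fs3 v = true := slots_step fs3 36991 293 37284 s3u123 s3c124 rfl
theorem s3u125 : ∀ v, 1 ≤ v → v ≤ 37579 → fs3 v = true := slots_step fs3 37284 295 37579 s3u124 s3c125 rfl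
theorem s3u126 : ∀ v, 1 ≤ v → v ≤ 37876 → fs3 v = true := slots_step fs3 37579 297 37876 s3u125 s3c126 rfl
theorem s3u127 : ∀ v, 1 ≤ v → v ≤ 38265 → fs3 v = true := slots_step fs3 37876 389 38265 s3u126 s3c127 rfl
theorem s3u128 : ∀ v, 1 ≤ v → v ≤ 38666 → fs3 v = true := slots_step fs3 38265 401 38666 s3u127 s3c128 rfl
theorem s3u129 : ∀ v, 1 ≤ v → v ≤ 39130 → fs3 v = true := slots_step fs3 38666 464 39130 s3u128 s3c129 rfl
theorem s3u130 : ∀ v, 1 ≤ v → v ≤ 39451 → fs3 v = true := slots_step fs3 39130 321 39451 s3u129 s3c130 rfl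
theorem s3u131 : ∀ v, 1 ≤ v → v ≤ 39746 → fs3 v = true := slots_step fs3 39451 295 39746 s3u130 s3c131 rfl
theorem s3u132 : ∀ v, 1 ≤ v → v ≤ 40028 → fs3 v = true := slots_step fs3 39746 282 40028 s3u131 s3c132 rfl
theorem s3u133 : ∀ v, 1 ≤ v → v ≤ 40428 → fs3 v = true := slots_step fs3 40028 400 40428 s3u132 s3c133 rfl
theorem s3u134 : ∀ v, 1 ≤ v → v ≤ 40863 → fs3 v = true := slots_step fs3 40428 435 40863 s3u133 s3c134 rfl
theorem s3u135 : ∀ v, 1 ≤ v → v ≤ 41178 → fs3 v = true := slots_step fs3 40863 315 41178 s3u134 s3c135 rfl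
theorem s3u136 : ∀ v, 1 ≤ v → v ≤ 41598 → fs3 v = true := slots_step fs3 41178 420 41598 s3u135 s3c136 rfl
theorem s3u137 : ∀ v, 1 ≤ v → v ≤ 41876 → fs3 v = true := slots_step fs3 41598 278 41876 s3u136 s3c137 rfl
theorem s3u138 : ∀ v, 1 ≤ v → v ≤ 42145 → fs3 v = true := slots_step fs3 41876 269 42145 s3u137 s3c138 rfl
theorem s3u139 : ∀ v, 1 ≤ v → v ≤ 42429 → fs3 v = true := slots_step fs3 42145 284 42429 s3u138 s3c139 rfl
theorem s3u140 : ∀ v, 1 ≤ v → v ≤ 42713 → fs3 v = true := slots_step fs3 42429 284 42713 s3u139 s3c140 rfl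
theorem s3u141 : ∀ v, 1 ≤ v → v ≤ 42999 → fs3 v = true := slots_step fs3 42713 286 42999 s3u140 s3c141 rfl
theorem s3u142 : ∀ v, 1 ≤ v → v ≤ 43300 → fs3 v = true := slots_step fs3 42999 301 43300 s3u141 s3c142 rfl
theorem s3u143 : ∀ v, 1 ≤ v → v ≤ 43675 → fs3 v = true := slots_step fs3 43300 375 43675 s3u142 s3c143 rfl
theorem s3u144 : ∀ v, 1 ≤ v → v ≤ 44065 → fs3 v = true := slots_step fs3 43675 390 44065 s3u143 s3c144 rfl
theorem s3u145 : ∀ v, 1 ≤ v → v ≤ 44443 → fs3 v = true := slots_step fs3 44065 378 44443 s3u144 s3c145 rfl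
theorem s3u146 : ∀ v, 1 ≤ v → v ≤ 44730 → fs3 v = true := slots_step fs3 44443 287 44730 s3u145 s3c146 rfl
theorem s3u147 : ∀ v, 1 ≤ v → v ≤ 45021 → fs3 v = true := slots_step fs3 44730 291 45021 s3u146 s3c147 rfl
theorem s3u148 : ∀ v, 1 ≤ v → v ≤ 45405 → fs3 v = true := slots_step fs3 45021 384 45405 s3u147 s3c148 rfl
theorem s3u149 : ∀ v, 1 ≤ v → v ≤ 45848 → fs3 v = true := slots_step fs3 45405 443 45848 s3u148 s3c149 rfl
theorem s3u150 : ∀ v, 1 ≤ v → v ≤ 46125 → fs3 v = true := slots_step fs3 45848 277 46125 s3u149 s3c150 rfl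
theorem s3u151 : ∀ v, 1 ≤ v → v ≤ 46399 → fs3 v = true := slots_step fs3 46125 274 46399 s3u150 s3c151 rfl
theorem s3u152 : ∀ v, 1 ≤ v → v ≤ 46712 → fs3 v = true := slots_step fs3 46399 313 46712 s3u151 s3c152 rfl
theorem s3u153 : ∀ v, 1 ≤ v → v ≤ 46993 → fs3 v = true := slots_step fs3 46712 281 46993 s3u152 s3c153 rfl
theorem s3u154 : ∀ v, 1 ≤ v → v ≤ 47309 → fs3 v = true := slots_step fs3 46993 316 47309 s3u153 s3c154 rfl
theorem s3u155 : ∀ v, 1 ≤ v → v ≤ 47593 → fs3 v = true := slots_step fs3 47309 284 47593 s3u154 s3c155 rfl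
theorem s3u156 : ∀ v, 1 ≤ v → v ≤ 47879 → fs3 v = true := slots_step fs3 47593 286 47879 s3u155 s3c156 rfl
theorem s3u157 : ∀ v, 1 ≤ v → v ≤ 48178 → fs3 v = true := slots_step fs3 47879 299 48178 s3u156 s3c157 rfl
theorem s3u158 : ∀ v, 1 ≤ v → v ≤ 48486 → fs3 v = true := slots_step fs3 48178 308 48486 s3u157 s3c158 rfl
theorem s3u159 : ∀ v, 1 ≤ v → v ≤ 48851 → fs3 v = true := slots_step fs3 48486 365 48851 s3u158 s3c159 rfl
theorem s3u160 : ∀ v, 1 ≤ v → v ≤ 49208 → fs3 v = true := slots_step fs3 48851 357 49208 s3u159 s3c160 rfl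
theorem s3u161 : ∀ v, 1 ≤ v → v ≤ 49563 → fs3 v = true := slots_step fs3 49208 355 49563 s3u160 s3c161 rfl
theorem s3u162 : ∀ v, 1 ≤ v → v ≤ 49910 → fs3 v = true := slots_step fs3 49563 347 49910 s3u161 s3c162 rfl
theorem s3u163 : ∀ v, 1 ≤ v → v ≤ 50299 → fs3 v = true := slots_step fs3 49910 389 50299 s3u162 s3c163 rfl
theorem s3u164 : ∀ v, 1 ≤ v → v ≤ 50610 → fs3 v = true := slots_step fs3 50299 311 50610 s3u163 s3c164 rfl
theorem s3u165 : ∀ v, 1 ≤ v → v ≤ 50927 → fs3 v = true := slots_step fs3 50610 317 50927 s3u164 s3c165 rfl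
theorem s3u166 : ∀ v, 1 ≤ v → v ≤ 51210 → fs3 v = true := slots_step fs3 50927 283 51210 s3u165 s3c166 rfl
theorem s3u167 : ∀ v, 1 ≤ v → v ≤ 51527 → fs3 v = true := slots_step fs3 51210 317 51527 s3u166 s3c167 rfl
theorem s3u168 : ∀ v, 1 ≤ v → v ≤ 51971 → fs3 v = true := slots_step fs3 51527 444 51971 s3u167 s3c168 rfl
theorem s3u169 : ∀ v, 1 ≤ v → v ≤ 52409 → fs3 v = true := slots_step fs3 51971 438 52409 s3u168 s3c169 rfl
theorem s3u170 : ∀ v, 1 ≤ v → v ≤ 52918 → fs3 v = true := slots_step fs3 52409 509 52918 s3u169 s3c170 rfl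
theorem s3u171 : ∀ v, 1 ≤ v → v ≤ 53265 → fs3 v = true := slots_step fs3 52918 347 53265 s3u170 s3c171 rfl
theorem s3u172 : ∀ v, 1 ≤ v → v ≤ 53558 → fs3 v = true := slots_step fs3 53265 293 53558 s3u171 s3c172 rfl
theorem s3u173 : ∀ v, 1 ≤ v → v ≤ 53866 → fs3 v = true := slots_step fs3 53558 308 53866 s3u172 s3c173 rfl
theorem s3u174 : ∀ v, 1 ≤ v → v ≤ 54169 → fs3 v = true := slots_step fs3 53866 303 54169 s3u173 s3c174 rfl
theorem s3u175 : ∀ v, 1 ≤ v → v ≤ 54588 → fs3 v = true := slots_step fs3 54169 419 54588 s3u174 s3c175 rfl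
theorem s3u176 : ∀ v, 1 ≤ v → v ≤ 55050 → fs3 v = true := slots_step fs3 54588 462 55050 s3u175 s3c176 rfl
theorem s3u177 : ∀ v, 1 ≤ v → v ≤ 55437 → fs3 v = true := slots_step fs3 55050 387 55437 s3u176 s3c177 rfl
theorem s3u178 : ∀ v, 1 ≤ v → v ≤ 55826 → fs3 v = true := slots_step fs3 55437 389 55826 s3u177 s3c178 rfl
theorem s3u179 : ∀ v, 1 ≤ v → v ≤ 56260 → fs3 v = true := slots_step fs3 55826 434 56260 s3u178 s3c179 rfl
theorem s3u180 : ∀ v, 1 ≤ v → v ≤ 56529 → fs3 v = true := slots_step fs3 56260 269 56529 s3u179 s3c180 rfl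
theorem s3u181 : ∀ v, 1 ≤ v → v ≤ 56814 → fs3 v = true := slots_step fs3 56529 285 56814 s3u180 s3c181 rfl
theorem s3u182 : ∀ v, 1 ≤ v → v ≤ 57085 → fs3 v = true := slots_step fs3 56814 271 57085 s3u181 s3c182 rfl
theorem s3u183 : ∀ v, 1 ≤ v → v ≤ 57381 → fs3 v = true := slots_step fs3 57085 296 57381 s3u182 s3c183 rfl
theorem s3u184 : ∀ v, 1 ≤ v → v ≤ 57671 → fs3 v = true := slots_step fs3 57381 290 57671 s3u183 s3c184 rfl
theorem s3u185 : ∀ v, 1 ≤ v → v ≤ 57970 → fs3 v = true := slots_step fs3 57671 299 57970 s3u184 s3c185 rfl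
theorem s3u186 : ∀ v, 1 ≤ v → v ≤ 58265 → fs3 v = true := slots_step fs3 57970 295 58265 s3u185 s3c186 rfl
theorem s3u187 : ∀ v, 1 ≤ v → v ≤ 58572 → fs3 v = true := slots_step fs3 58265 307 58572 s3u186 s3c187 rfl
theorem s3u188 : ∀ v, 1 ≤ v → v ≤ 58968 → fs3 v = true := slots_step fs3 58572 396 58968 s3u187 s3c188 rfl
theorem s3u189 : ∀ v, 1 ≤ v → v ≤ 59373 → fs3 v = true := slots_step fs3 58968 405 59373 s3u188 s3c189 rfl
theorem s3u190 : ∀ v, 1 ≤ v → v ≤ 59789 → fs3 v = true := slots_step fs3 59373 416 59789 s3u189 s3c190 rfl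
theorem s3u191 : ∀ v, 1 ≤ v → v ≤ 60194 → fs3 v = true := slots_step fs3 59789 405 60194 s3u190 s3c191 rfl
theorem s3u192 : ∀ v, 1 ≤ v → v ≤ 60479 → fs3 v = true := slots_step fs3 60194 285 60479 s3u191 s3c192 rfl
theorem s3u193 : ∀ v, 1 ≤ v → v ≤ 60797 → fs3 v = true := slots_step fs3 60479 318 60797 s3u192 s3c193 rfl
theorem s3u194 : ∀ v, 1 ≤ v → v ≤ 61158 → fs3 v = true := slots_step fs3 60797 361 61158 s3u193 s3c194 rfl
theorem s3u195 : ∀ v, 1 ≤ v → v ≤ 61633 → fs3 v = true := slots_step fs3 61158 475 61633 s3u194 s3c195 rfl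
theorem s3u196 : ∀ v, 1 ≤ v → v ≤ 62052 → fs3 v = true := slots_step fs3 61633 419 62052 s3u195 s3c196 rfl
theorem s3u197 : ∀ v, 1 ≤ v → v ≤ 62322 → fs3 v = true := slots_step fs3 62052 270 62322 s3u196 s3c197 rfl
theorem s3u198 : ∀ v, 1 ≤ v → v ≤ 62608 → fs3 v = true := slots_step fs3 62322 286 62608 s3u197 s3c198 rfl
theorem s3u199 : ∀ v, 1 ≤ v → v ≤ 62886 → fs3 v = true := slots_step fs3 62608 278 62886 s3u198 s3c199 rfl
theorem s3u200 : ∀ v, 1 ≤ v → v ≤ 63221 → fs3 v = true := slots_step fs3 62886 335 63221 s3u199 s3c200 rfl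
theorem s3u201 : ∀ v, 1 ≤ v → v ≤ 63507 → fs3 v = true := slots_step fs3 63221 286 63507 s3u200 s3c201 rfl
theorem s3u202 : ∀ v, 1 ≤ v → v ≤ 63836 → fs3 v = true := slots_step fs3 63507 329 63836 s3u201 s3c202 rfl
theorem s3u203 : ∀ v, 1 ≤ v → v ≤ 64147 → fs3 v = true := slots_step fs3 63836 311 64147 s3u202 s3c203 rfl
theorem s3u204 : ∀ v, 1 ≤ v → v ≤ 64425 → fs3 v = true := slots_step fs3 64147 278 64425 s3u203 s3c204 rfl
theorem s3u205 : ∀ v, 1 ≤ v → v ≤ 64708 → fs3 v = true := slots_step fs3 64425 283 64708 s3u204 s3c205 rfl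
theorem s3u206 : ∀ v, 1 ≤ v → v ≤ 65011 → fs3 v = true := slots_step fs3 64708 303 65011 s3u205 s3c206 rfl
theorem s3u207 : ∀ v, 1 ≤ v → v ≤ 65318 → fs3 v = true := slots_step fs3 65011 307 65318 s3u206 s3c207 rfl
theorem s3u208 : ∀ v, 1 ≤ v → v ≤ 65625 → fs3 v = true := slots_step fs3 65318 307 65625 s3u207 s3c208 rfl
theorem s3u209 : ∀ v, 1 ≤ v → v ≤ 66000 → fs3 v = true := slots_step fs3 65625 375 66000 s3u208 s3c209 rfl
theorem s3u210 : ∀ v, 1 ≤ v → v ≤ 66392 → fs3 v = true := slots_step fs3 66000 392 66392 s3u209 s3c210 rfl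
theorem s3u211 : ∀ v, 1 ≤ v → v ≤ 66755 → fs3 v = true := slots_step fs3 66392 363 66755 s3u210 s3c211 rfl
theorem s3u212 : ∀ v, 1 ≤ v → v ≤ 67146 → fs3 v = true := slots_step fs3 66755 391 67146 s3u211 s3c212 rfl
theorem s3u213 : ∀ v, 1 ≤ v → v ≤ 67532 → fs3 v = true := slots_step fs3 67146 386 67532 s3u212 s3c213 rfl
theorem s3u214 : ∀ v, 1 ≤ v → v ≤ 67980 → fs3 v = true := slots_step fs3 67532 448 67980 s3u213 s3c214 rfl
theorem s3u215 : ∀ v, 1 ≤ v → v ≤ 68281 → fs3 v = true := slots_step fs3 67980 301 68281 s3u214 s3c215 rfl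
theorem s3u216 : ∀ v, 1 ≤ v → v ≤ 68599 → fs3 v = true := slots_step fs3 68281 318 68599 s3u215 s3c216 rfl
theorem s3u217 : ∀ v, 1 ≤ v → v ≤ 68945 → fs3 v = true := slots_step fs3 68599 346 68945 s3u216 s3c217 rfl
theorem s3u218 : ∀ v, 1 ≤ v → v ≤ 69254 → fs3 v = true := slots_step fs3 68945 309 69254 s3u217 s3c218 rfl
theorem s3u219 : ∀ v, 1 ≤ v → v ≤ 69592 → fs3 v = true := slots_step fs3 69254 338 69592 s3u218 s3c219 rfl
theorem s3u220 : ∀ v, 1 ≤ v → v ≤ 70048 → fs3 v = true := slots_step fs3 69592 456 70048 s3u219 s3c220 rfl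
theorem s3u221 : ∀ v, 1 ≤ v → v ≤ 70514 → fs3 v = true := slots_step fs3 70048 466 70514 s3u220 s3c221 rfl
theorem s3u222 : ∀ v, 1 ≤ v → v ≤ 70995 → fs3 v = true := slots_step fs3 70514 481 70995 s3u221 s3c222 rfl
theorem s3u223 : ∀ v, 1 ≤ v → v ≤ 71446 → fs3 v = true := slots_step fs3 70995 451 71446 s3u222 s3c223 rfl
theorem s3u224 : ∀ v, 1 ≤ v → v ≤ 71737 → fs3 v = true := slots_step fs3 71446 291 71737 s3u223 s3c224 rfl
theorem s3u225 : ∀ v, 1 ≤ v → v ≤ 72060 → fs3 v = true := slots_step fs3 71737 323 72060 s3u224 s3c225 rfl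
theorem s3u226 : ∀ v, 1 ≤ v → v ≤ 72377 → fs3 v = true := slots_step fs3 72060 317 72377 s3u225 s3c226 rfl
theorem s3u227 : ∀ v, 1 ≤ v → v ≤ 72705 → fs3 v = true := slots_step fs3 72377 328 72705 s3u226 s3c227 rfl
theorem s3u228 : ∀ v, 1 ≤ v → v ≤ 73046 → fs3 v = true := slots_step fs3 72705 341 73046 s3u227 s3c228 rfl
theorem s3u229 : ∀ v, 1 ≤ v → v ≤ 73565 → fs3 v = true := slots_step fs3 73046 519 73565 s3u228 s3c229 rfl
theorem s3u230 : ∀ v, 1 ≤ v → v ≤ 74071 → fs3 v = true := slots_step fs3 73565 506 74071 s3u229 s3c230 rfl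
theorem s3u231 : ∀ v, 1 ≤ v → v ≤ 74438 → fs3 v = true := slots_step fs3 74071 367 74438 s3u230 s3c231 rfl
theorem s3u232 : ∀ v, 1 ≤ v → v ≤ 74859 → fs3 v = true := slots_step fs3 74438 421 74859 s3u231 s3c232 rfl
theorem s3u233 : ∀ v, 1 ≤ v → v ≤ 75340 → fs3 v = true := slots_step fs3 74859 481 75340 s3u232 s3c233 rfl
theorem s3u234 : ∀ v, 1 ≤ v → v ≤ 75616 → fs3 v = true := slots_step fs3 75340 276 75616 s3u233 s3c234 rfl
theorem s3u235 : ∀ v, 1 ≤ v → v ≤ 75899 → fs3 v = true := slots_step fs3 75616 283 75899 s3u234 s3c235 rfl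
theorem s3u236 : ∀ v, 1 ≤ v → v ≤ 76205 → fs3 v = true := slots_step fs3 75899 306 76205 s3u235 s3c236 rfl
theorem s3u237 : ∀ v, 1 ≤ v → v ≤ 76481 → fs3 v = true := slots_step fs3 76205 276 76481 s3u236 s3c237 rfl
theorem s3u238 : ∀ v, 1 ≤ v → v ≤ 76783 → fs3 v = true := slots_step fs3 76481 302 76783 s3u237 s3c238 rfl
theorem s3u239 : ∀ v, 1 ≤ v → v ≤ 77105 → fs3 v = true := slots_step fs3 76783 322 77105 s3u238 s3c239 rfl
theorem s3u240 : ∀ v, 1 ≤ v → v ≤ 77388 → fs3 v = true := slots_step fs3 77105 283 77388 s3u239 s3c240 rfl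
theorem s3u241 : ∀ v, 1 ≤ v → v ≤ 77696 → fs3 v = true := slots_step fs3 77388 308 77696 s3u240 s3c241 rfl
theorem s3u242 : ∀ v, 1 ≤ v → v ≤ 78005 → fs3 v = true := slots_step fs3 77696 309 78005 s3u241 s3c242 rfl
theorem s3u243 : ∀ v, 1 ≤ v → v ≤ 78309 → fs3 v = true := slots_step fs3 78005 304 78309 s3u242 s3c243 rfl
theorem s3u244 : ∀ v, 1 ≤ v → v ≤ 78640 → fs3 v = true := slots_step fs3 78309 331 78640 s3u243 s3c244 rfl
theorem s3u245 : ∀ v, 1 ≤ v → v ≤ 79037 → fs3 v = true := slots_step fs3 78640 397 79037 s3u244 s3c245 rfl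
theorem s3u246 : ∀ v, 1 ≤ v → v ≤ 79496 → fs3 v = true := slots_step fs3 79037 459 79496 s3u245 s3c246 rfl
theorem s3u247 : ∀ v, 1 ≤ v → v ≤ 79919 → fs3 v = true := slots_step fs3 79496 423 79919 s3u246 s3c247 rfl
theorem s3u248 : ∀ v, 1 ≤ v → v ≤ 80414 → fs3 v = true := slots_step fs3 79919 495 80414 s3u247 s3c248 rfl
theorem s3u249 : ∀ v, 1 ≤ v → v ≤ 80733 → fs3 v = true := slots_step fs3 80414 319 80733 s3u248 s3c249 rfl
theorem s3u250 : ∀ v, 1 ≤ v → v ≤ 81042 → fs3 v = true := slots_step fs3 80733 309 81042 s3u249 s3c250 rfl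
theorem s3u251 : ∀ v, 1 ≤ v → v ≤ 81381 → fs3 v = true := slots_step fs3 81042 339 81381 s3u250 s3c251 rfl
theorem s3u252 : ∀ v, 1 ≤ v → v ≤ 81771 → fs3 v = true := slots_step fs3 81381 390 81771 s3u251 s3c252 rfl
theorem s3u253 : ∀ v, 1 ≤ v → v ≤ 82214 → fs3 v = true := slots_step fs3 81771 443 82214 s3u252 s3c253 rfl
theorem s3u254 : ∀ v, 1 ≤ v → v ≤ 82688 → fs3 v = true := slots_step fs3 82214 474 82688 s3u253 s3c254 rfl
theorem s3u255 : ∀ v, 1 ≤ v → v ≤ 82993 → fs3 v = true := slots_step fs3 82688 305 82993 s3u254 s3c255 rfl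
theorem s3u256 : ∀ v, 1 ≤ v → v ≤ 83278 → fs3 v = true := slots_step fs3 82993 285 83278 s3u255 s3c256 rfl
theorem s3u257 : ∀ v, 1 ≤ v → v ≤ 83573 → fs3 v = true := slots_step fs3 83278 295 83573 s3u256 s3c257 rfl
theorem s3u258 : ∀ v, 1 ≤ v → v ≤ 83858 → fs3 v = true := slots_step fs3 83573 285 83858 s3u257 s3c258 rfl
theorem s3u259 : ∀ v, 1 ≤ v → v ≤ 84183 → fs3 v = true := slots_step fs3 83858 325 84183 s3u258 s3c259 rfl
theorem s3u260 : ∀ v, 1 ≤ v → v ≤ 84513 → fs3 v = true := slots_step fs3 84183 330 84513 s3u259 s3c260 rfl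
theorem s3u261 : ∀ v, 1 ≤ v → v ≤ 84789 → fs3 v = true := slots_step fs3 84513 276 84789 s3u260 s3c261 rfl
theorem s3u262 : ∀ v, 1 ≤ v → v ≤ 85102 → fs3 v = true := slots_step fs3 84789 313 85102 s3u261 s3c262 rfl
theorem s3u263 : ∀ v, 1 ≤ v → v ≤ 85437 → fs3 v = true := slots_step fs3 85102 335 85437 s3u262 s3c263 rfl
theorem s3u264 : ∀ v, 1 ≤ v → v ≤ 85767 → fs3 v = true := slots_step fs3 85437 330 85767 s3u263 s3c264 rfl
theorem s3u265 : ∀ v, 1 ≤ v → v ≤ 86040 → fs3 v = true := slots_step fs3 85767 273 86040 s3u264 s3c265 rfl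
theorem s3u266 : ∀ v, 1 ≤ v → v ≤ 86325 → fs3 v = true := slots_step fs3 86040 285 86325 s3u265 s3c266 rfl
theorem s3u267 : ∀ v, 1 ≤ v → v ≤ 86621 → fs3 v = true := slots_step fs3 86325 296 86621 s3u266 s3c267 rfl
theorem s3u268 : ∀ v, 1 ≤ v → v ≤ 86922 → fs3 v = true := slots_step fs3 86621 301 86922 s3u267 s3c268 rfl
theorem s3u269 : ∀ v, 1 ≤ v → v ≤ 87223 → fs3 v = true := slots_step fs3 86922 301 87223 s3u268 s3c269 rfl
theorem s3u270 : ∀ v, 1 ≤ v → v ≤ 87546 → fs3 v = true := slots_step fs3 87223 323 87546 s3u269 s3c270 rfl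
theorem s3u271 : ∀ v, 1 ≤ v → v ≤ 87876 → fs3 v = true := slots_step fs3 87546 330 87876 s3u270 s3c271 rfl
theorem s3u272 : ∀ v, 1 ≤ v → v ≤ 88284 → fs3 v = true := slots_step fs3 87876 408 88284 s3u271 s3c272 rfl
theorem s3u273 : ∀ v, 1 ≤ v → v ≤ 88680 → fs3 v = true := slots_step fs3 88284 396 88680 s3u272 s3c273 rfl
theorem s3u274 : ∀ v, 1 ≤ v → v ≤ 89061 → fs3 v = true := slots_step fs3 88680 381 89061 s3u273 s3c274 rfl
theorem s3u275 : ∀ v, 1 ≤ v → v ≤ 89434 → fs3 v = true := slots_step fs3 89061 373 89434 s3u274 s3c275 rfl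
theorem s3u276 : ∀ v, 1 ≤ v → v ≤ 89862 → fs3 v = true := slots_step fs3 89434 428 89862 s3u275 s3c276 rfl
theorem s3u277 : ∀ v, 1 ≤ v → v ≤ 90284 → fs3 v = true := slots_step fs3 89862 422 90284 s3u276 s3c277 rfl
theorem s3u278 : ∀ v, 1 ≤ v → v ≤ 90740 → fs3 v = true := slots_step fs3 90284 456 90740 s3u277 s3c278 rfl
theorem s3u279 : ∀ v, 1 ≤ v → v ≤ 91062 → fs3 v = true := slots_step fs3 90740 322 91062 s3u278 s3c279 rfl
theorem s3u280 : ∀ v, 1 ≤ v → v ≤ 91398 → fs3 v = true := slots_step fs3 91062 336 91398 s3u279 s3c280 rfl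
theorem s3u281 : ∀ v, 1 ≤ v → v ≤ 91768 → fs3 v = true := slots_step fs3 91398 370 91768 s3u280 s3c281 rfl
theorem s3u282 : ∀ v, 1 ≤ v → v ≤ 92072 → fs3 v = true := slots_step fs3 91768 304 92072 s3u281 s3c282 rfl
theorem s3u283 : ∀ v, 1 ≤ v → v ≤ 92406 → fs3 v = true := slots_step fs3 92072 334 92406 s3u282 s3c283 rfl
theorem s3u284 : ∀ v, 1 ≤ v → v ≤ 92787 → fs3 v = true := slots_step fs3 92406 381 92787 s3u283 s3c284 rfl
theorem s3u285 : ∀ v, 1 ≤ v → v ≤ 93286 → fs3 v = true := slots_step fs3 92787 499 93286 s3u284 s3c285 rfl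
theorem s3u286 : ∀ v, 1 ≤ v → v ≤ 93751 → fs3 v = true := slots_step fs3 93286 465 93751 s3u285 s3c286 rfl
theorem s3u287 : ∀ v, 1 ≤ v → v ≤ 94285 → fs3 v = true := slots_step fs3 93751 534 94285 s3u286 s3c287 rfl
theorem s3u288 : ∀ v, 1 ≤ v → v ≤ 94622 → fs3 v = true := slots_step fs3 94285 337 94622 s3u287 s3c288 rfl
theorem s3u289 : ∀ v, 1 ≤ v → v ≤ 94916 → fs3 v = true := slots_step fs3 94622 294 94916 s3u288 s3c289 rfl
theorem s3u290 : ∀ v, 1 ≤ v → v ≤ 95253 → fs3 v = true := slots_step fs3 94916 337 95253 s3u289 s3c290 rfl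
theorem s3u291 : ∀ v, 1 ≤ v → v ≤ 95587 → fs3 v = true := slots_step fs3 95253 334 95587 s3u290 s3c291 rfl
theorem s3u292 : ∀ v, 1 ≤ v → v ≤ 95926 → fs3 v = true := slots_step fs3 95587 339 95926 s3u291 s3c292 rfl
theorem s3u293 : ∀ v, 1 ≤ v → v ≤ 96248 → fs3 v = true := slots_step fs3 95926 322 96248 s3u292 s3c293 rfl
theorem s3u294 : ∀ v, 1 ≤ v → v ≤ 96663 → fs3 v = true := slots_step fs3 96248 415 96663 s3u293 s3c294 rfl
theorem s3u295 : ∀ v, 1 ≤ v → v ≤ 97175 → fs3 v = true := slots_step fs3 96663 512 97175 s3u294 s3c295 rfl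
theorem s3u296 : ∀ v, 1 ≤ v → v ≤ 97641 → fs3 v = true := slots_step fs3 97175 466 97641 s3u295 s3c296 rfl
theorem s3u297 : ∀ v, 1 ≤ v → v ≤ 98035 → fs3 v = true := slots_step fs3 97641 394 98035 s3u296 s3c297 rfl
theorem s3u298 : ∀ v, 1 ≤ v → v ≤ 98521 → fs3 v = true := slots_step fs3 98035 486 98521 s3u297 s3c298 rfl
theorem s3u299 : ∀ v, 1 ≤ v → v ≤ 98935 → fs3 v = true := slots_step fs3 98521 414 98935 s3u298 s3c299 rfl
theorem s3u300 : ∀ v, 1 ≤ v → v ≤ 99222 → fs3 v = true := slots_step fs3 98935 287 99222 s3u299 s3c300 rfl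
theorem s3u301 : ∀ v, 1 ≤ v → v ≤ 99513 → fs3 v = true := slots_step fs3 99222 291 99513 s3u300 s3c301 rfl
theorem s3u302 : ∀ v, 1 ≤ v → v ≤ 99830 → fs3 v = true := slots_step fs3 99513 317 99830 s3u301 s3c302 rfl
theorem s3u303 : ∀ v, 1 ≤ v → v ≤ 100126 → fs3 v = true := slots_step fs3 99830 296 100126 s3u302 s3c303 rfl
theorem s3u304 : ∀ v, 1 ≤ v → v ≤ 100419 → fs3 v = true := slots_step fs3 100126 293 100419 s3u303 s3c304 rfl
theorem s3u305 : ∀ v, 1 ≤ v → v ≤ 100702 → fs3 v = true := slots_step fs3 100419 283 100702 s3u304 s3c305 rfl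
theorem s3u306 : ∀ v, 1 ≤ v → v ≤ 101041 → fs3 v = true := slots_step fs3 100702 339 101041 s3u305 s3c306 rfl
theorem s3u307 : ∀ v, 1 ≤ v → v ≤ 101367 → fs3 v = true := slots_step fs3 101041 326 101367 s3u306 s3c307 rfl
theorem s3u308 : ∀ v, 1 ≤ v → v ≤ 101653 → fs3 v = true := slots_step fs3 101367 286 101653 s3u307 s3c308 rfl
theorem s3u309 : ∀ v, 1 ≤ v → v ≤ 101963 → fs3 v = true := slots_step fs3 101653 310 101963 s3u308 s3c309 rfl
theorem s3u310 : ∀ v, 1 ≤ v → v ≤ 102285 → fs3 v = true := slots_step fs3 101963 322 102285 s3u309 s3c310 rfl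
theorem s3u311 : ∀ v, 1 ≤ v → v ≤ 102582 → fs3 v = true := slots_step fs3 102285 297 102582 s3u310 s3c311 rfl
theorem s3u312 : ∀ v, 1 ≤ v → v ≤ 102892 → fs3 v = true := slots_step fs3 102582 310 102892 s3u311 s3c312 rfl
theorem s3u313 : ∀ v, 1 ≤ v → v ≤ 103221 → fs3 v = true := slots_step fs3 102892 329 103221 s3u312 s3c313 rfl
theorem s3u314 : ∀ v, 1 ≤ v → v ≤ 103623 → fs3 v = true := slots_step fs3 103221 402 103623 s3u313 s3c314 rfl
theorem s3u315 : ∀ v, 1 ≤ v → v ≤ 104059 → fs3 v = true := slots_step fs3 103623 436 104059 s3u314 s3c315 rfl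
theorem s3u316 : ∀ v, 1 ≤ v → v ≤ 104484 → fs3 v = true := slots_step fs3 104059 425 104484 s3u315 s3c316 rfl
theorem s3u317 : ∀ v, 1 ≤ v → v ≤ 104944 → fs3 v = true := slots_step fs3 104484 460 104944 s3u316 s3c317 rfl
theorem s3u318 : ∀ v, 1 ≤ v → v ≤ 105328 → fs3 v = true := slots_step fs3 104944 384 105328 s3u317 s3c318 rfl
theorem s3u319 : ∀ v, 1 ≤ v → v ≤ 105659 → fs3 v = true := slots_step fs3 105328 331 105659 s3u318 s3c319 rfl
theorem s3u320 : ∀ v, 1 ≤ v → v ≤ 106025 → fs3 v = true := slots_step fs3 105659 366 106025 s3u319 s3c320 rfl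
theorem s3u321 : ∀ v, 1 ≤ v → v ≤ 106388 → fs3 v = true := slots_step fs3 106025 363 106388 s3u320 s3c321 rfl
theorem s3u322 : ∀ v, 1 ≤ v → v ≤ 106796 → fs3 v = true := slots_step fs3 106388 408 106796 s3u321 s3c322 rfl
theorem s3u323 : ∀ v, 1 ≤ v → v ≤ 107252 → fs3 v = true := slots_step fs3 106796 456 107252 s3u322 s3c323 rfl
theorem s3u324 : ∀ v, 1 ≤ v → v ≤ 107629 → fs3 v = true := slots_step fs3 107252 377 107629 s3u323 s3c324 rfl
theorem s3u325 : ∀ v, 1 ≤ v → v ≤ 107912 → fs3 v = true := slots_step fs3 107629 283 107912 s3u324 s3c325 rfl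
theorem s3u326 : ∀ v, 1 ≤ v → v ≤ 108213 → fs3 v = true := slots_step fs3 107912 301 108213 s3u325 s3c326 rfl
theorem s3u327 : ∀ v, 1 ≤ v → v ≤ 108515 → fs3 v = true := slots_step fs3 108213 302 108515 s3u326 s3c327 rfl
theorem s3u328 : ∀ v, 1 ≤ v → v ≤ 108798 → fs3 v = true := slots_step fs3 108515 283 108798 s3u327 s3c328 rfl
theorem s3u329 : ∀ v, 1 ≤ v → v ≤ 109090 → fs3 v = true := slots_step fs3 108798 292 109090 s3u328 s3c329 rfl
theorem s3u330 : ∀ v, 1 ≤ v → v ≤ 109446 → fs3 v = true := slots_step fs3 109090 356 109446 s3u329 s3c330 rfl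
theorem s3u331 : ∀ v, 1 ≤ v → v ≤ 109796 → fs3 v = true := slots_step fs3 109446 350 109796 s3u330 s3c331 rfl
theorem s3u332 : ∀ v, 1 ≤ v → v ≤ 110078 → fs3 v = true := slots_step fs3 109796 282 110078 s3u331 s3c332 rfl
theorem s3u333 : ∀ v, 1 ≤ v → v ≤ 110356 → fs3 v = true := slots_step fs3 110078 278 110356 s3u332 s3c333 rfl
theorem s3u334 : ∀ v, 1 ≤ v → v ≤ 110672 → fs3 v = true := slots_step fs3 110356 316 110672 s3u333 s3c334 rfl
theorem s3u335 : ∀ v, 1 ≤ v → v ≤ 111025 → fs3 v = true := slots_step fs3 110672 353 111025 s3u334 s3c335 rfl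
theorem s3u336 : ∀ v, 1 ≤ v → v ≤ 111301 → fs3 v = true := slots_step fs3 111025 276 111301 s3u335 s3c336 rfl
theorem s3u337 : ∀ v, 1 ≤ v → v ≤ 111651 → fs3 v = true := slots_step fs3 111301 350 111651 s3u336 s3c337 rfl
theorem s3u338 : ∀ v, 1 ≤ v → v ≤ 111929 → fs3 v = true := slots_step fs3 111651 278 111929 s3u337 s3c338 rfl
theorem s3u339 : ∀ v, 1 ≤ v → v ≤ 112202 → fs3 v = true := slots_step fs3 111929 273 112202 s3u338 s3c339 rfl
theorem s3u340 : ∀ v, 1 ≤ v → v ≤ 112504 → fs3 v = true := slots_step fs3 112202 302 112504 s3u339 s3c340 rfl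
theorem s3u341 : ∀ v, 1 ≤ v → v ≤ 112797 → fs3 v = true := slots_step fs3 112504 293 112797 s3u340 s3c341 rfl
theorem s3u342 : ∀ v, 1 ≤ v → v ≤ 113117 → fs3 v = true := slots_step fs3 112797 320 113117 s3u341 s3c342 rfl
theorem s3u343 : ∀ v, 1 ≤ v → v ≤ 113409 → fs3 v = true := slots_step fs3 113117 292 113409 s3u342 s3c343 rfl
theorem s3u344 : ∀ v, 1 ≤ v → v ≤ 113747 → fs3 v = true := slots_step fs3 113409 338 113747 s3u343 s3c344 rfl
theorem s3u345 : ∀ v, 1 ≤ v → v ≤ 114050 → fs3 v = true := slots_step fs3 113747 303 114050 s3u344 s3c345 rfl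
theorem s3u346 : ∀ v, 1 ≤ v → v ≤ 114395 → fs3 v = true := slots_step fs3 114050 345 114395 s3u345 s3c346 rfl
theorem s3u347 : ∀ v, 1 ≤ v → v ≤ 114767 → fs3 v = true := slots_step fs3 114395 372 114767 s3u346 s3c347 rfl
theorem s3u348 : ∀ v, 1 ≤ v → v ≤ 115141 → fs3 v = true := slots_step fs3 114767 374 115141 s3u347 s3c348 rfl
theorem s3u349 : ∀ v, 1 ≤ v → v ≤ 115585 → fs3 v = true := slots_step fs3 115141 444 115585 s3u348 s3c349 rfl
theorem s3u350 : ∀ v, 1 ≤ v → v ≤ 115953 → fs3 v = true := slots_step fs3 115585 368 115953 s3u349 s3c350 rfl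
theorem s3u351 : ∀ v, 1 ≤ v → v ≤ 116361 → fs3 v = true := slots_step fs3 115953 408 116361 s3u350 s3c351 rfl
theorem s3u352 : ∀ v, 1 ≤ v → v ≤ 116746 → fs3 v = true := slots_step fs3 116361 385 116746 s3u351 s3c352 rfl
theorem s3u353 : ∀ v, 1 ≤ v → v ≤ 117192 → fs3 v = true := slots_step fs3 116746 446 117192 s3u352 s3c353 rfl
theorem s3u354 : ∀ v, 1 ≤ v → v ≤ 117584 → fs3 v = true := slots_step fs3 117192 392 117584 s3u353 s3c354 rfl
theorem s3u355 : ∀ v, 1 ≤ v → v ≤ 117955 → fs3 v = true := slots_step fs3 117584 371 117955 s3u354 s3c355 rfl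
theorem s3u356 : ∀ v, 1 ≤ v → v ≤ 118251 → fs3 v = true := slots_step fs3 117955 296 118251 s3u355 s3c356 rfl
theorem s3u357 : ∀ v, 1 ≤ v → v ≤ 118648 → fs3 v = true := slots_step fs3 118251 397 118648 s3u356 s3c357 rfl
theorem s3u358 : ∀ v, 1 ≤ v → v ≤ 118976 → fs3 v = true := slots_step fs3 118648 328 118976 s3u357 s3c358 rfl
theorem s3u359 : ∀ v, 1 ≤ v → v ≤ 119326 → fs3 v = true := slots_step fs3 118976 350 119326 s3u358 s3c359 rfl
theorem s3u360 : ∀ v, 1 ≤ v → v ≤ 119797 → fs3 v = true := slots_step fs3 119326 471 119797 s3u359 s3c360 rfl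
theorem s3u361 : ∀ v, 1 ≤ v → v ≤ 120272 → fs3 v = true := slots_step fs3 119797 475 120272 s3u360 s3c361 rfl
theorem s3u362 : ∀ v, 1 ≤ v → v ≤ 120684 → fs3 v = true := slots_step fs3 120272 412 120684 s3u361 s3c362 rfl
theorem s3u363 : ∀ v, 1 ≤ v → v ≤ 120974 → fs3 v = true := slots_step fs3 120684 290 120974 s3u362 s3c363 rfl
theorem s3u364 : ∀ v, 1 ≤ v → v ≤ 121275 → fs3 v = true := slots_step fs3 120974 301 121275 s3u363 s3c364 rfl
theorem s3u365 : ∀ v, 1 ≤ v → v ≤ 121618 → fs3 v = true := slots_step fs3 121275 343 121618 s3u364 s3c365 rfl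
theorem s3u366 : ∀ v, 1 ≤ v → v ≤ 121948 → fs3 v = true := slots_step fs3 121618 330 121948 s3u365 s3c366 rfl
theorem s3u367 : ∀ v, 1 ≤ v → v ≤ 122261 → fs3 v = true := slots_step fs3 121948 313 122261 s3u366 s3c367 rfl
theorem s3u368 : ∀ v, 1 ≤ v → v ≤ 122608 → fs3 v = true := slots_step fs3 122261 347 122608 s3u367 s3c368 rfl
theorem s3u369 : ∀ v, 1 ≤ v → v ≤ 122920 → fs3 v = true := slots_step fs3 122608 312 122920 s3u368 s3c369 rfl
theorem s3u370 : ∀ v, 1 ≤ v → v ≤ 123359 → fs3 v = true := slots_step fs3 122920 439 123359 s3u369 s3c370 rfl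
theorem s3u371 : ∀ v, 1 ≤ v → v ≤ 123855 → fs3 v = true := slots_step fs3 123359 496 123855 s3u370 s3c371 rfl
theorem s3u372 : ∀ v, 1 ≤ v → v ≤ 124220 → fs3 v = true := slots_step fs3 123855 365 124220 s3u371 s3c372 rfl
theorem s3u373 : ∀ v, 1 ≤ v → v ≤ 124716 → fs3 v = true := slots_step fs3 124220 496 124716 s3u372 s3c373 rfl
theorem s3u374 : ∀ v, 1 ≤ v → v ≤ 124975 → fs3 v = true := slots_step fs3 124716 259 124975 s3u373 s3c374 rfl
theorem s3u375 : ∀ v, 1 ≤ v → v ≤ 125240 → fs3 v = true := slots_step fs3 124975 265 125240 s3u374 s3c375 rfl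
theorem s3u376 : ∀ v, 1 ≤ v → v ≤ 125514 → fs3 v = true := slots_step fs3 125240 274 125514 s3u375 s3c376 rfl
theorem s3u377 : ∀ v, 1 ≤ v → v ≤ 125769 → fs3 v = true := slots_step fs3 125514 255 125769 s3u376 s3c377 rfl
theorem s3u378 : ∀ v, 1 ≤ v → v ≤ 126023 → fs3 v = true := slots_step fs3 125769 254 126023 s3u377 s3c378 rfl
theorem s3u379 : ∀ v, 1 ≤ v → v ≤ 126288 → fs3 v = true := slots_step fs3 126023 265 126288 s3u378 s3c379 rfl
theorem s3u380 : ∀ v, 1 ≤ v → v ≤ 126561 → fs3 v = true := slots_step fs3 126288 273 126561 s3u379 s3c380 rfl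
theorem s3u381 : ∀ v, 1 ≤ v → v ≤ 126835 → fs3 v = true := slots_step fs3 126561 274 126835 s3u380 s3c381 rfl
theorem s3u382 : ∀ v, 1 ≤ v → v ≤ 127101 → fs3 v = true := slots_step fs3 126835 266 127101 s3u381 s3c382 rfl
theorem s3u383 : ∀ v, 1 ≤ v → v ≤ 127365 → fs3 v = true := slots_step fs3 127101 264 127365 s3u382 s3c383 rfl
theorem s3u384 : ∀ v, 1 ≤ v → v ≤ 127624 → fs3 v = true := slots_step fs3 127365 259 127624 s3u383 s3c384 rfl
theorem s3u385 : ∀ v, 1 ≤ v → v ≤ 127896 → fs3 v = true := slots_step fs3 127624 272 127896 s3u384 s3c385 rfl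
theorem s3u386 : ∀ v, 1 ≤ v → v ≤ 128184 → fs3 v = true := slots_step fs3 127896 288 128184 s3u385 s3c386 rfl
theorem s3u387 : ∀ v, 1 ≤ v → v ≤ 128461 → fs3 v = true := slots_step fs3 128184 277 128461 s3u386 s3c387 rfl
theorem s3u388 : ∀ v, 1 ≤ v → v ≤ 128732 → fs3 v = true := slots_step fs3 128461 271 128732 s3u387 s3c388 rfl
theorem s3u389 : ∀ v, 1 ≤ v → v ≤ 128995 → fs3 v = true := slots_step fs3 128732 263 128995 s3u388 s3c389 rfl
theorem s3u390 : ∀ v, 1 ≤ v → v ≤ 129255 → fs3 v = true := slots_step fs3 128995 260 129255 s3u389 s3c390 rfl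
theorem s3u391 : ∀ v, 1 ≤ v → v ≤ 129512 → fs3 v = true := slots_step fs3 129255 257 129512 s3u390 s3c391 rfl
theorem s3u392 : ∀ v, 1 ≤ v → v ≤ 129772 → fs3 v = true := slots_step fs3 129512 260 129772 s3u391 s3c392 rfl
theorem s3u393 : ∀ v, 1 ≤ v → v ≤ 130030 → fs3 v = true := slots_step fs3 129772 258 130030 s3u392 s3c393 rfl
theorem s3u394 : ∀ v, 1 ≤ v → v ≤ 130294 → fs3 v = true := slots_step fs3 130030 264 130294 s3u393 s3c394 rfl
theorem s3u395 : ∀ v, 1 ≤ v → v ≤ 130554 → fs3 v = true := slots_step fs3 130294 260 130554 s3u394 s3c395 rfl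
theorem s3u396 : ∀ v, 1 ≤ v → v ≤ 130835 → fs3 v = true := slots_step fs3 130554 281 130835 s3u395 s3c396 rfl
theorem s3u397 : ∀ v, 1 ≤ v → v ≤ 131097 → fs3 v = true := slots_step fs3 130835 262 131097 s3u396 s3c397 rfl
theorem s3u398 : ∀ v, 1 ≤ v → v ≤ 131361 → fs3 v = true := slots_step fs3 131097 264 131361 s3u397 s3c398 rfl
theorem s3u399 : ∀ v, 1 ≤ v → v ≤ 131634 → fs3 v = true := slots_step fs3 131361 273 131634 s3u398 s3c399 rfl
theorem s3u400 : ∀ v, 1 ≤ v → v ≤ 131911 → fs3 v = true := slots_step fs3 131634 277 131911 s3u399 s3c400 rfl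
theorem s3u401 : ∀ v, 1 ≤ v → v ≤ 132182 → fs3 v = true := slots_step fs3 131911 271 132182 s3u400 s3c401 rfl
theorem s3u402 : ∀ v, 1 ≤ v → v ≤ 132450 → fs3 v = true := slots_step fs3 132182 268 132450 s3u401 s3c402 rfl
theorem s3u403 : ∀ v, 1 ≤ v → v ≤ 132708 → fs3 v = true := slots_step fs3 132450 258 132708 s3u402 s3c403 rfl
theorem s3u404 : ∀ v, 1 ≤ v → v ≤ 132989 → fs3 v = true := slots_step fs3 132708 281 132989 s3u403 s3c404 rfl
theorem s3u405 : ∀ v, 1 ≤ v → v ≤ 133257 → fs3 v = true := slots_step fs3 132989 268 133257 s3u404 s3c405 rfl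
theorem s3u406 : ∀ v, 1 ≤ v → v ≤ 133530 → fs3 v = true := slots_step fs3 133257 273 133530 s3u405 s3c406 rfl
theorem s3u407 : ∀ v, 1 ≤ v → v ≤ 133804 → fs3 v = true := slots_step fs3 133530 274 133804 s3u406 s3c407 rfl
theorem s3u408 : ∀ v, 1 ≤ v → v ≤ 134060 → fs3 v = true := slots_step fs3 133804 256 134060 s3u407 s3c408 rfl
theorem s3u409 : ∀ v, 1 ≤ v → v ≤ 134326 → fs3 v = true := slots_step fs3 134060 266 134326 s3u408 s3c409 rfl
theorem s3u410 : ∀ v, 1 ≤ v → v ≤ 134588 → fs3 v = true := slots_step fs3 134326 262 134588 s3u409 s3c410 rfl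
theorem s3u411 : ∀ v, 1 ≤ v → v ≤ 134855 → fs3 v = true := slots_step fs3 134588 267 134855 s3u410 s3c411 rfl
theorem s3u412 : ∀ v, 1 ≤ v → v ≤ 135135 → fs3 v = true := slots_step fs3 134855 280 135135 s3u411 s3c412 rfl
theorem s3u413 : ∀ v, 1 ≤ v → v ≤ 135403 → fs3 v = true := slots_step fs3 135135 268 135403 s3u412 s3c413 rfl
theorem s3u414 : ∀ v, 1 ≤ v → v ≤ 135688 → fs3 v = true := slots_step fs3 135403 285 135688 s3u413 s3c414 rfl
theorem s3u415 : ∀ v, 1 ≤ v → v ≤ 135955 → fs3 v = true := slots_step fs3 135688 267 135955 s3u414 s3c415 rfl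
theorem s3u416 : ∀ v, 1 ≤ v → v ≤ 136204 → fs3 v = true := slots_step fs3 135955 249 136204 s3u415 s3c416 rfl
theorem s3u417 : ∀ v, 1 ≤ v → v ≤ 136491 → fs3 v = true := slots_step fs3 136204 287 136491 s3u416 s3c417 rfl
theorem s3u418 : ∀ v, 1 ≤ v → v ≤ 136760 → fs3 v = true := slots_step fs3 136491 269 136760 s3u417 s3c418 rfl
theorem s3u419 : ∀ v, 1 ≤ v → v ≤ 137027 → fs3 v = true := slots_step fs3 136760 267 137027 s3u418 s3c419 rfl
theorem s3u420 : ∀ v, 1 ≤ v → v ≤ 137298 → fs3 v = true := slots_step fs3 137027 271 137298 s3u419 s3c420 rfl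
theorem s3u421 : ∀ v, 1 ≤ v → v ≤ 137547 → fs3 v = true := slots_step fs3 137298 249 137547 s3u420 s3c421 rfl
theorem s3u422 : ∀ v, 1 ≤ v → v ≤ 137816 → fs3 v = true := slots_step fs3 137547 269 137816 s3u421 s3c422 rfl
theorem s3u423 : ∀ v, 1 ≤ v → v ≤ 138083 → fs3 v = true := slots_step fs3 137816 267 138083 s3u422 s3c423 rfl
theorem s3u424 : ∀ v, 1 ≤ v → v ≤ 138354 → fs3 v = true := slots_step fs3 138083 271 138354 s3u423 s3c424 rfl
theorem s3u425 : ∀ v, 1 ≤ v → v ≤ 138616 → fs3 v = true := slots_step fs3 138354 262 138616 s3u424 s3c425 rfl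
theorem s3u426 : ∀ v, 1 ≤ v → v ≤ 138880 → fs3 v = true := slots_step fs3 138616 264 138880 s3u425 s3c426 rfl
theorem s3u427 : ∀ v, 1 ≤ v → v ≤ 139149 → fs3 v = true := slots_step fs3 138880 269 139149 s3u426 s3c427 rfl
theorem s3u428 : ∀ v, 1 ≤ v → v ≤ 139393 → fs3 v = true := slots_step fs3 139149 244 139393 s3u427 s3c428 rfl
theorem s3u429 : ∀ v, 1 ≤ v → v ≤ 139658 → fs3 v = true := slots_step fs3 139393 265 139658 s3u428 s3c429 rfl
theorem s3u430 : ∀ v, 1 ≤ v → v ≤ 139925 → fs3 v = true := slots_step fs3 139658 267 139925 s3u429 s3c430 rfl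
theorem s3u431 : ∀ v, 1 ≤ v → v ≤ 140175 → fs3 v = true := slots_step fs3 139925 250 140175 s3u430 s3c431 rfl
theorem s3u432 : ∀ v, 1 ≤ v → v ≤ 140453 → fs3 v = true := slots_step fs3 140175 278 140453 s3u431 s3c432 rfl
theorem s3u433 : ∀ v, 1 ≤ v → v ≤ 140720 → fs3 v = true := slots_step fs3 140453 267 140720 s3u432 s3c433 rfl
theorem s3u434 : ∀ v, 1 ≤ v → v ≤ 140975 → fs3 v = true := slots_step fs3 140720 255 140975 s3u433 s3c434 rfl
theorem s3u435 : ∀ v, 1 ≤ v → v ≤ 141234 → fs3 v = true := slots_step fs3 140975 259 141234 s3u434 s3c435 rfl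
theorem s3u436 : ∀ v, 1 ≤ v → v ≤ 141492 → fs3 v = true := slots_step fs3 141234 258 141492 s3u435 s3c436 rfl
theorem s3u437 : ∀ v, 1 ≤ v → v ≤ 141765 → fs3 v = true := slots_step fs3 141492 273 141765 s3u436 s3c437 rfl
theorem s3u438 : ∀ v, 1 ≤ v → v ≤ 142025 → fs3 v = true := slots_step fs3 141765 260 142025 s3u437 s3c438 rfl
theorem s3u439 : ∀ v, 1 ≤ v → v ≤ 142288 → fs3 v = true := slots_step fs3 142025 263 142288 s3u438 s3c439 rfl
theorem s3u440 : ∀ v, 1 ≤ v → v ≤ 142542 → fs3 v = true := slots_step fs3 142288 254 142542 s3u439 s3c440 rfl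
theorem s3u441 : ∀ v, 1 ≤ v → v ≤ 142800 → fs3 v = true := slots_step fs3 142542 258 142800 s3u440 s3c441 rfl
theorem s3u442 : ∀ v, 1 ≤ v → v ≤ 143055 → fs3 v = true := slots_step fs3 142800 255 143055 s3u441 s3c442 rfl
theorem s3u443 : ∀ v, 1 ≤ v → v ≤ 143330 → fs3 v = true := slots_step fs3 143055 275 143330 s3u442 s3c443 rfl
theorem s3u444 : ∀ v, 1 ≤ v → v ≤ 143603 → fs3 v = true := slots_step fs3 143330 273 143603 s3u443 s3c444 rfl
theorem s3u445 : ∀ v, 1 ≤ v → v ≤ 143863 → fs3 v = true := slots_step fs3 143603 260 143863 s3u444 s3c445 rfl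
theorem s3u446 : ∀ v, 1 ≤ v → v ≤ 144127 → fs3 v = true := slots_step fs3 143863 264 144127 s3u445 s3c446 rfl
theorem s3u447 : ∀ v, 1 ≤ v → v ≤ 144389 → fs3 v = true := slots_step fs3 144127 262 144389 s3u446 s3c447 rfl
theorem s3u448 : ∀ v, 1 ≤ v → v ≤ 144650 → fs3 v = true := slots_step fs3 144389 261 144650 s3u447 s3c448 rfl
theorem s3u449 : ∀ v, 1 ≤ v → v ≤ 144924 → fs3 v = true := slots_step fs3 144650 274 144924 s3u448 s3c449 rfl
theorem s3u450 : ∀ v, 1 ≤ v → v ≤ 145199 → fs3 v = true := slots_step fs3 144924 275 145199 s3u449 s3c450 rfl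
theorem s3u451 : ∀ v, 1 ≤ v → v ≤ 145477 → fs3 v = true := slots_step fs3 145199 278 145477 s3u450 s3c451 rfl
theorem s3u452 : ∀ v, 1 ≤ v → v ≤ 145746 → fs3 v = true := slots_step fs3 145477 269 145746 s3u451 s3c452 rfl
theorem s3u453 : ∀ v, 1 ≤ v → v ≤ 146016 → fs3 v = true := slots_step fs3 145746 270 146016 s3u452 s3c453 rfl
theorem s3u454 : ∀ v, 1 ≤ v → v ≤ 146277 → fs3 v = true := slots_step fs3 146016 261 146277 s3u453 s3c454 rfl
theorem s3u455 : ∀ v, 1 ≤ v → v ≤ 146539 → fs3 v = true := slots_step fs3 146277 262 146539 s3u454 s3c455 rfl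
theorem s3u456 : ∀ v, 1 ≤ v → v ≤ 146791 → fs3 v = true := slots_step fs3 146539 252 146791 s3u455 s3c456 rfl
theorem s3u457 : ∀ v, 1 ≤ v → v ≤ 147055 → fs3 v = true := slots_step fs3 146791 264 147055 s3u456 s3c457 rfl
theorem s3u458 : ∀ v, 1 ≤ v → v ≤ 147309 → fs3 v = true := slots_step fs3 147055 254 147309 s3u457 s3c458 rfl
theorem s3u459 : ∀ v, 1 ≤ v → v ≤ 147569 → fs3 v = true := slots_step fs3 147309 260 147569 s3u458 s3c459 rfl
theorem s3u460 : ∀ v, 1 ≤ v → v ≤ 147827 → fs3 v = true := slots_step fs3 147569 258 147827 s3u459 s3c460 rfl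
theorem s3u461 : ∀ v, 1 ≤ v → v ≤ 148108 → fs3 v = true := slots_step fs3 147827 281 148108 s3u460 s3c461 rfl
theorem s3u462 : ∀ v, 1 ≤ v → v ≤ 148370 → fs3 v = true := slots_step fs3 148108 262 148370 s3u461 s3c462 rfl
theorem s3u463 : ∀ v, 1 ≤ v → v ≤ 148639 → fs3 v = true := slots_step fs3 148370 269 148639 s3u462 s3c463 rfl
theorem s3u464 : ∀ v, 1 ≤ v → v ≤ 148912 → fs3 v = true := slots_step fs3 148639 273 148912 s3u463 s3c464 rfl
theorem s3u465 : ∀ v, 1 ≤ v → v ≤ 149188 → fs3 v = true := slots_step fs3 148912 276 149188 s3u464 s3c465 rfl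
theorem s3u466 : ∀ v, 1 ≤ v → v ≤ 149462 → fs3 v = true := slots_step fs3 149188 274 149462 s3u465 s3c466 rfl
theorem s3u467 : ∀ v, 1 ≤ v → v ≤ 149721 → fs3 v = true := slots_step fs3 149462 259 149721 s3u466 s3c467 rfl
theorem s3u468 : ∀ v, 1 ≤ v → v ≤ 149983 → fs3 v = true := slots_step fs3 149721 262 149983 s3u467 s3c468 rfl
theorem s3u469 : ∀ v, 1 ≤ v → v ≤ 150250 → fs3 v = true := slots_step fs3 149983 267 150250 s3u468 s3c469 rfl
theorem s3u470 : ∀ v, 1 ≤ v → v ≤ 150528 → fs3 v = true := slots_step fs3 150250 278 150528 s3u469 s3c470 rfl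
theorem s3u471 : ∀ v, 1 ≤ v → v ≤ 150790 → fs3 v = true := slots_step fs3 150528 262 150790 s3u470 s3c471 rfl
theorem s3u472 : ∀ v, 1 ≤ v → v ≤ 151071 → fs3 v = true := slots_step fs3 150790 281 151071 s3u471 s3c472 rfl
theorem s3u473 : ∀ v, 1 ≤ v → v ≤ 151340 → fs3 v = true := slots_step fs3 151071 269 151340 s3u472 s3c473 rfl
theorem s3u474 : ∀ v, 1 ≤ v → v ≤ 151589 → fs3 v = true := slots_step fs3 151340 249 151589 s3u473 s3c474 rfl
theorem s3u475 : ∀ v, 1 ≤ v → v ≤ 151863 → fs3 v = true := slots_step fs3 151589 274 151863 s3u474 s3c475 rfl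
theorem s3u476 : ∀ v, 1 ≤ v → v ≤ 152130 → fs3 v = true := slots_step fs3 151863 267 152130 s3u475 s3c476 rfl
theorem s3u477 : ∀ v, 1 ≤ v → v ≤ 152394 → fs3 v = true := slots_step fs3 152130 264 152394 s3u476 s3c477 rfl
theorem s3u478 : ∀ v, 1 ≤ v → v ≤ 152657 → fs3 v = true := slots_step fs3 152394 263 152657 s3u477 s3c478 rfl
theorem s3u479 : ∀ v, 1 ≤ v → v ≤ 152924 → fs3 v = true := slots_step fs3 152657 267 152924 s3u478 s3c479 rfl
theorem s3u480 : ∀ v, 1 ≤ v → v ≤ 153203 → fs3 v = true := slots_step fs3 152924 279 153203 s3u479 s3c480 rfl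
theorem s3u481 : ∀ v, 1 ≤ v → v ≤ 153474 → fs3 v = true := slots_step fs3 153203 271 153474 s3u480 s3c481 rfl
theorem s3u482 : ∀ v, 1 ≤ v → v ≤ 153742 → fs3 v = true := slots_step fs3 153474 268 153742 s3u481 s3c482 rfl
theorem s3u483 : ∀ v, 1 ≤ v → v ≤ 154022 → fs3 v = true := slots_step fs3 153742 280 154022 s3u482 s3c483 rfl
theorem s3u484 : ∀ v, 1 ≤ v → v ≤ 154291 → fs3 v = true := slots_step fs3 154022 269 154291 s3u483 s3c484 rfl
theorem s3u485 : ∀ v, 1 ≤ v → v ≤ 154558 → fs3 v = true := slots_step fs3 154291 267 154558 s3u484 s3c485 rfl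
theorem s3u486 : ∀ v, 1 ≤ v → v ≤ 154843 → fs3 v = true := slots_step fs3 154558 285 154843 s3u485 s3c486 rfl
theorem s3u487 : ∀ v, 1 ≤ v → v ≤ 155112 → fs3 v = true := slots_step fs3 154843 269 155112 s3u486 s3c487 rfl
theorem s3u488 : ∀ v, 1 ≤ v → v ≤ 155383 → fs3 v = true := slots_step fs3 155112 271 155383 s3u487 s3c488 rfl
theorem s3u489 : ∀ v, 1 ≤ v → v ≤ 155655 → fs3 v = true := slots_step fs3 155383 272 155655 s3u488 s3c489 rfl
theorem s3u490 : ∀ v, 1 ≤ v → v ≤ 155907 → fs3 v = true := slots_step fs3 155655 252 155907 s3u489 s3c490 rfl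
theorem s3u491 : ∀ v, 1 ≤ v → v ≤ 156169 → fs3 v = true := slots_step fs3 155907 262 156169 s3u490 s3c491 rfl
theorem s3u492 : ∀ v, 1 ≤ v → v ≤ 156440 → fs3 v = true := slots_step fs3 156169 271 156440 s3u491 s3c492 rfl
theorem s3u493 : ∀ v, 1 ≤ v → v ≤ 156705 → fs3 v = true := slots_step fs3 156440 265 156705 s3u492 s3c493 rfl
theorem s3u494 : ∀ v, 1 ≤ v → v ≤ 156969 → fs3 v = true := slots_step fs3 156705 264 156969 s3u493 s3c494 rfl
theorem s3u495 : ∀ v, 1 ≤ v → v ≤ 157238 → fs3 v = true := slots_step fs3 156969 269 157238 s3u494 s3c495 rfl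
theorem s3u496 : ∀ v, 1 ≤ v → v ≤ 157485 → fs3 v = true := slots_step fs3 157238 247 157485 s3u495 s3c496 rfl
theorem s3u497 : ∀ v, 1 ≤ v → v ≤ 157737 → fs3 v = true := slots_step fs3 157485 252 157737 s3u496 s3c497 rfl
theorem s3u498 : ∀ v, 1 ≤ v → v ≤ 158013 → fs3 v = true := slots_step fs3 157737 276 158013 s3u497 s3c498 rfl
theorem s3u499 : ∀ v, 1 ≤ v → v ≤ 158251 → fs3 v = true := slots_step fs3 158013 238 158251 s3u498 s3c499 rfl
theorem s3u500 : ∀ v, 1 ≤ v → v ≤ 158511 → fs3 v = true := slots_step fs3 158251 260 158511 s3u499 s3c500 rfl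
theorem s3u501 : ∀ v, 1 ≤ v → v ≤ 158780 → fs3 v = true := slots_step fs3 158511 269 158780 s3u500 s3c501 rfl
theorem s3u502 : ∀ v, 1 ≤ v → v ≤ 159040 → fs3 v = true := slots_step fs3 158780 260 159040 s3u501 s3c502 rfl
theorem s3u503 : ∀ v, 1 ≤ v → v ≤ 159280 → fs3 v = true := slots_step fs3 159040 240 159280 s3u502 s3c503 rfl
theorem s3u504 : ∀ v, 1 ≤ v → v ≤ 159543 → fs3 v = true := slots_step fs3 159280 263 159543 s3u503 s3c504 rfl
theorem s3u505 : ∀ v, 1 ≤ v → v ≤ 159806 → fs3 v = true := slots_step fs3 159543 263 159806 s3u504 s3c505 rfl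
theorem s3u506 : ∀ v, 1 ≤ v → v ≤ 160079 → fs3 v = true := slots_step fs3 159806 273 160079 s3u505 s3c506 rfl
theorem s3u507 : ∀ v, 1 ≤ v → v ≤ 160337 → fs3 v = true := slots_step fs3 160079 258 160337 s3u506 s3c507 rfl
theorem s3u508 : ∀ v, 1 ≤ v → v ≤ 160597 → fs3 v = true := slots_step fs3 160337 260 160597 s3u507 s3c508 rfl
theorem s3u509 : ∀ v, 1 ≤ v → v ≤ 160850 → fs3 v = true := slots_step fs3 160597 253 160850 s3u508 s3c509 rfl
theorem s3u510 : ∀ v, 1 ≤ v → v ≤ 161109 → fs3 v = true := slots_step fs3 160850 259 161109 s3u509 s3c510 rfl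
theorem s3u511 : ∀ v, 1 ≤ v → v ≤ 161370 → fs3 v = true := slots_step fs3 161109 261 161370 s3u510 s3c511 rfl
theorem s3u512 : ∀ v, 1 ≤ v → v ≤ 161637 → fs3 v = true := slots_step fs3 161370 267 161637 s3u511 s3c512 rfl
theorem s3u513 : ∀ v, 1 ≤ v → v ≤ 161901 → fs3 v = true := slots_step fs3 161637 264 161901 s3u512 s3c513 rfl
theorem s3u514 : ∀ v, 1 ≤ v → v ≤ 162169 → fs3 v = true := slots_step fs3 161901 268 162169 s3u513 s3c514 rfl
theorem s3u515 : ∀ v, 1 ≤ v → v ≤ 162435 → fs3 v = true := slots_step fs3 162169 266 162435 s3u514 s3c515 rfl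
theorem s3u516 : ∀ v, 1 ≤ v → v ≤ 162692 → fs3 v = true := slots_step fs3 162435 257 162692 s3u515 s3c516 rfl
theorem s3u517 : ∀ v, 1 ≤ v → v ≤ 162956 → fs3 v = true := slots_step fs3 162692 264 162956 s3u516 s3c517 rfl
theorem s3u518 : ∀ v, 1 ≤ v → v ≤ 163216 → fs3 v = true := slots_step fs3 162956 260 163216 s3u517 s3c518 rfl
theorem s3u519 : ∀ v, 1 ≤ v → v ≤ 163478 → fs3 v = true := slots_step fs3 163216 262 163478 s3u518 s3c519 rfl
theorem s3u520 : ∀ v, 1 ≤ v → v ≤ 163756 → fs3 v = true := slots_step fs3 163478 278 163756 s3u519 s3c520 rfl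
theorem s3u521 : ∀ v, 1 ≤ v → v ≤ 164023 → fs3 v = true := slots_step fs3 163756 267 164023 s3u520 s3c521 rfl
theorem s3u522 : ∀ v, 1 ≤ v → v ≤ 164303 → fs3 v = true := slots_step fs3 164023 280 164303 s3u521 s3c522 rfl
theorem s3u523 : ∀ v, 1 ≤ v → v ≤ 164569 → fs3 v = true := slots_step fs3 164303 266 164569 s3u522 s3c523 rfl
theorem s3u524 : ∀ v, 1 ≤ v → v ≤ 164848 → fs3 v = true := slots_step fs3 164569 279 164848 s3u523 s3c524 rfl
theorem s3u525 : ∀ v, 1 ≤ v → v ≤ 165107 → fs3 v = true := slots_step fs3 164848 259 165107 s3u524 s3c525 rfl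
theorem s3u526 : ∀ v, 1 ≤ v → v ≤ 165367 → fs3 v = true := slots_step fs3 165107 260 165367 s3u525 s3c526 rfl
theorem s3u527 : ∀ v, 1 ≤ v → v ≤ 165629 → fs3 v = true := slots_step fs3 165367 262 165629 s3u526 s3c527 rfl
theorem s3u528 : ∀ v, 1 ≤ v → v ≤ 165873 → fs3 v = true := slots_step fs3 165629 244 165873 s3u527 s3c528 rfl
theorem s3u529 : ∀ v, 1 ≤ v → v ≤ 166136 → fs3 v = true := slots_step fs3 165873 263 166136 s3u528 s3c529 rfl
theorem s3u530 : ∀ v, 1 ≤ v → v ≤ 166393 → fs3 v = true := slots_step fs3 166136 257 166393 s3u529 s3c530 rfl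
theorem s3u531 : ∀ v, 1 ≤ v → v ≤ 166648 → fs3 v = true := slots_step fs3 166393 255 166648 s3u530 s3c531 rfl
theorem s3u532 : ∀ v, 1 ≤ v → v ≤ 166930 → fs3 v = true := slots_step fs3 166648 282 166930 s3u531 s3c532 rfl
theorem s3u533 : ∀ v, 1 ≤ v → v ≤ 167191 → fs3 v = true := slots_step fs3 166930 261 167191 s3u532 s3c533 rfl
theorem s3u534 : ∀ v, 1 ≤ v → v ≤ 167463 → fs3 v = true := slots_step fs3 167191 272 167463 s3u533 s3c534 rfl
theorem s3u535 : ∀ v, 1 ≤ v → v ≤ 167733 → fs3 v = true := slots_step fs3 167463 270 167733 s3u534 s3c535 rfl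
theorem s3u536 : ∀ v, 1 ≤ v → v ≤ 168002 → fs3 v = true := slots_step fs3 167733 269 168002 s3u535 s3c536 rfl
theorem s3u537 : ∀ v, 1 ≤ v → v ≤ 168285 → fs3 v = true := slots_step fs3 168002 283 168285 s3u536 s3c537 rfl
theorem s3u538 : ∀ v, 1 ≤ v → v ≤ 168558 → fs3 v = true := slots_step fs3 168285 273 168558 s3u537 s3c538 rfl
theorem s3u539 : ∀ v, 1 ≤ v → v ≤ 168815 → fs3 v = true := slots_step fs3 168558 257 168815 s3u538 s3c539 rfl
theorem s3u540 : ∀ v, 1 ≤ v → v ≤ 169077 → fs3 v = true := slots_step fs3 168815 262 169077 s3u539 s3c540 rfl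
theorem s3u541 : ∀ v, 1 ≤ v → v ≤ 169335 → fs3 v = true := slots_step fs3 169077 258 169335 s3u540 s3c541 rfl
theorem s3u542 : ∀ v, 1 ≤ v → v ≤ 169616 → fs3 v = true := slots_step fs3 169335 281 169616 s3u541 s3c542 rfl
theorem s3u543 : ∀ v, 1 ≤ v → v ≤ 169884 → fs3 v = true := slots_step fs3 169616 268 169884 s3u542 s3c543 rfl
theorem s3u544 : ∀ v, 1 ≤ v → v ≤ 170150 → fs3 v = true := slots_step fs3 169884 266 170150 s3u543 s3c544 rfl
theorem s3u545 : ∀ v, 1 ≤ v → v ≤ 170435 → fs3 v = true := slots_step fs3 170150 285 170435 s3u544 s3c545 rfl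
theorem s3u546 : ∀ v, 1 ≤ v → v ≤ 170699 → fs3 v = true := slots_step fs3 170435 264 170699 s3u545 s3c546 rfl
theorem s3u547 : ∀ v, 1 ≤ v → v ≤ 170953 → fs3 v = true := slots_step fs3 170699 254 170953 s3u546 s3c547 rfl
theorem s3u548 : ∀ v, 1 ≤ v → v ≤ 171214 → fs3 v = true := slots_step fs3 170953 261 171214 s3u547 s3c548 rfl
theorem s3u549 : ∀ v, 1 ≤ v → v ≤ 171481 → fs3 v = true := slots_step fs3 171214 267 171481 s3u548 s3c549 rfl
theorem s3u550 : ∀ v, 1 ≤ v → v ≤ 171747 → fs3 v = true := slots_step fs3 171481 266 171747 s3u549 s3c550 rfl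
theorem s3u551 : ∀ v, 1 ≤ v → v ≤ 172007 → fs3 v = true := slots_step fs3 171747 260 172007 s3u550 s3c551 rfl
theorem s3u552 : ∀ v, 1 ≤ v → v ≤ 172269 → fs3 v = true := slots_step fs3 172007 262 172269 s3u551 s3c552 rfl
theorem s3u553 : ∀ v, 1 ≤ v → v ≤ 172538 → fs3 v = true := slots_step fs3 172269 269 172538 s3u552 s3c553 rfl
theorem s3u554 : ∀ v, 1 ≤ v → v ≤ 172807 → fs3 v = true := slots_step fs3 172538 269 172807 s3u553 s3c554 rfl
theorem s3u555 : ∀ v, 1 ≤ v → v ≤ 173082 → fs3 v = true := slots_step fs3 172807 275 173082 s3u554 s3c555 rfl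
theorem s3u556 : ∀ v, 1 ≤ v → v ≤ 173353 → fs3 v = true := slots_step fs3 173082 271 173353 s3u555 s3c556 rfl
theorem s3u557 : ∀ v, 1 ≤ v → v ≤ 173619 → fs3 v = true := slots_step fs3 173353 266 173619 s3u556 s3c557 rfl
theorem s3u558 : ∀ v, 1 ≤ v → v ≤ 173903 → fs3 v = true := slots_step fs3 173619 284 173903 s3u557 s3c558 rfl
theorem s3u559 : ∀ v, 1 ≤ v → v ≤ 174171 → fs3 v = true := slots_step fs3 173903 268 174171 s3u558 s3c559 rfl
theorem s3u560 : ∀ v, 1 ≤ v → v ≤ 174442 → fs3 v = true := slots_step fs3 174171 271 174442 s3u559 s3c560 rfl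
theorem s3u561 : ∀ v, 1 ≤ v → v ≤ 174715 → fs3 v = true := slots_step fs3 174442 273 174715 s3u560 s3c561 rfl
theorem s3u562 : ∀ v, 1 ≤ v → v ≤ 174999 → fs3 v = true := slots_step fs3 174715 284 174999 s3u561 s3c562 rfl
theorem s3u563 : ∀ v, 1 ≤ v → v ≤ 175267 → fs3 v = true := slots_step fs3 174999 268 175267 s3u562 s3c563 rfl
theorem s3u564 : ∀ v, 1 ≤ v → v ≤ 175539 → fs3 v = true := slots_step fs3 175267 272 175539 s3u563 s3c564 rfl
theorem s3u565 : ∀ v, 1 ≤ v → v ≤ 175811 → fs3 v = true := slots_step fs3 175539 272 175811 s3u564 s3c565 rfl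
theorem s3u566 : ∀ v, 1 ≤ v → v ≤ 176072 → fs3 v = true := slots_step fs3 175811 261 176072 s3u565 s3c566 rfl
theorem s3u567 : ∀ v, 1 ≤ v → v ≤ 176332 → fs3 v = true := slots_step fs3 176072 260 176332 s3u566 s3c567 rfl
theorem s3u568 : ∀ v, 1 ≤ v → v ≤ 176599 → fs3 v = true := slots_step fs3 176332 267 176599 s3u567 s3c568 rfl
theorem s3u569 : ∀ v, 1 ≤ v → v ≤ 176863 → fs3 v = true := slots_step fs3 176599 264 176863 s3u568 s3c569 rfl
theorem s3u570 : ∀ v, 1 ≤ v → v ≤ 177137 → fs3 v = true := slots_step fs3 176863 274 177137 s3u569 s3c570 rfl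
theorem s3u571 : ∀ v, 1 ≤ v → v ≤ 177367 → fs3 v = true := slots_step fs3 177137 230 177367 s3u570 s3c571 rfl
theorem s3u572 : ∀ v, 1 ≤ v → v ≤ 177632 → fs3 v = true := slots_step fs3 177367 265 177632 s3u571 s3c572 rfl
theorem s3u573 : ∀ v, 1 ≤ v → v ≤ 177893 → fs3 v = true := slots_step fs3 177632 261 177893 s3u572 s3c573 rfl
theorem s3u574 : ∀ v, 1 ≤ v → v ≤ 178140 → fs3 v = true := slots_step fs3 177893 247 178140 s3u573 s3c574 rfl
theorem s3u575 : ∀ v, 1 ≤ v → v ≤ 178406 → fs3 v = true := slots_step fs3 178140 266 178406 s3u574 s3c575 rfl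
theorem s3u576 : ∀ v, 1 ≤ v → v ≤ 178675 → fs3 v = true := slots_step fs3 178406 269 178675 s3u575 s3c576 rfl
theorem s3u577 : ∀ v, 1 ≤ v → v ≤ 178924 → fs3 v = true := slots_step fs3 178675 249 178924 s3u576 s3c577 rfl
theorem s3u578 : ∀ v, 1 ≤ v → v ≤ 179184 → fs3 v = true := slots_step fs3 178924 260 179184 s3u577 s3c578 rfl
theorem s3u579 : ∀ v, 1 ≤ v → v ≤ 179444 → fs3 v = true := slots_step fs3 179184 260 179444 s3u578 s3c579 rfl
theorem s3u580 : ∀ v, 1 ≤ v → v ≤ 179707 → fs3 v = true := slots_step fs3 179444 263 179707 s3u579 s3c580 rfl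
theorem s3u581 : ∀ v, 1 ≤ v → v ≤ 179978 → fs3 v = true := slots_step fs3 179707 271 179978 s3u580 s3c581 rfl
theorem s3u582 : ∀ v, 1 ≤ v → v ≤ 180226 → fs3 v = true := slots_step fs3 179978 248 180226 s3u581 s3c582 rfl
theorem s3u583 : ∀ v, 1 ≤ v → v ≤ 180496 → fs3 v = true := slots_step fs3 180226 270 180496 s3u582 s3c583 rfl
theorem s3u584 : ∀ v, 1 ≤ v → v ≤ 180750 → fs3 v = true := slots_step fs3 180496 254 180750 s3u583 s3c584 rfl
theorem s3u585 : ∀ v, 1 ≤ v → v ≤ 181009 → fs3 v = true := slots_step fs3 180750 259 181009 s3u584 s3c585 rfl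
theorem s3u586 : ∀ v, 1 ≤ v → v ≤ 181268 → fs3 v = true := slots_step fs3 181009 259 181268 s3u585 s3c586 rfl
theorem s3u587 : ∀ v, 1 ≤ v → v ≤ 181532 → fs3 v = true := slots_step fs3 181268 264 181532 s3u586 s3c587 rfl
theorem s3u588 : ∀ v, 1 ≤ v → v ≤ 181799 → fs3 v = true := slots_step fs3 181532 267 181799 s3u587 s3c588 rfl
theorem s3u589 : ∀ v, 1 ≤ v → v ≤ 182061 → fs3 v = true := slots_step fs3 181799 262 182061 s3u588 s3c589 rfl
theorem s3u590 : ∀ v, 1 ≤ v → v ≤ 182326 → fs3 v = true := slots_step fs3 182061 265 182326 s3u589 s3c590 rfl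
theorem s3u591 : ∀ v, 1 ≤ v → v ≤ 182602 → fs3 v = true := slots_step fs3 182326 276 182602 s3u590 s3c591 rfl
theorem s3u592 : ∀ v, 1 ≤ v → v ≤ 182860 → fs3 v = true := slots_step fs3 182602 258 182860 s3u591 s3c592 rfl
theorem s3u593 : ∀ v, 1 ≤ v → v ≤ 183121 → fs3 v = true := slots_step fs3 182860 261 183121 s3u592 s3c593 rfl
theorem s3u594 : ∀ v, 1 ≤ v → v ≤ 183383 → fs3 v = true := slots_step fs3 183121 262 183383 s3u593 s3c594 rfl
theorem s3u595 : ∀ v, 1 ≤ v → v ≤ 183641 → fs3 v = true := slots_step fs3 183383 258 183641 s3u594 s3c595 rfl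
theorem s3u596 : ∀ v, 1 ≤ v → v ≤ 183908 → fs3 v = true := slots_step fs3 183641 267 183908 s3u595 s3c596 rfl
theorem s3u597 : ∀ v, 1 ≤ v → v ≤ 184177 → fs3 v = true := slots_step fs3 183908 269 184177 s3u596 s3c597 rfl
theorem s3u598 : ∀ v, 1 ≤ v → v ≤ 184442 → fs3 v = true := slots_step fs3 184177 265 184442 s3u597 s3c598 rfl
theorem s3u599 : ∀ v, 1 ≤ v → v ≤ 184717 → fs3 v = true := slots_step fs3 184442 275 184717 s3u598 s3c599 rfl
theorem s3u600 : ∀ v, 1 ≤ v → v ≤ 184988 → fs3 v = true := slots_step fs3 184717 271 184988 s3u599 s3c600 rfl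
theorem s3u601 : ∀ v, 1 ≤ v → v ≤ 185255 → fs3 v = true := slots_step fs3 184988 267 185255 s3u600 s3c601 rfl
theorem s3u602 : ∀ v, 1 ≤ v → v ≤ 185531 → fs3 v = true := slots_step fs3 185255 276 185531 s3u601 s3c602 rfl
theorem s3u603 : ∀ v, 1 ≤ v → v ≤ 185785 → fs3 v = true := slots_step fs3 185531 254 185785 s3u602 s3c603 rfl
theorem s3u604 : ∀ v, 1 ≤ v → v ≤ 186057 → fs3 v = true := slots_step fs3 185785 272 186057 s3u603 s3c604 rfl
theorem s3u605 : ∀ v, 1 ≤ v → v ≤ 186304 → fs3 v = true := slots_step fs3 186057 247 186304 s3u604 s3c605 rfl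
theorem s3u606 : ∀ v, 1 ≤ v → v ≤ 186562 → fs3 v = true := slots_step fs3 186304 258 186562 s3u605 s3c606 rfl
theorem s3u607 : ∀ v, 1 ≤ v → v ≤ 186819 → fs3 v = true := slots_step fs3 186562 257 186819 s3u606 s3c607 rfl
theorem s3u608 : ∀ v, 1 ≤ v → v ≤ 187079 → fs3 v = true := slots_step fs3 186819 260 187079 s3u607 s3c608 rfl
theorem s3u609 : ∀ v, 1 ≤ v → v ≤ 187359 → fs3 v = true := slots_step fs3 187079 280 187359 s3u608 s3c609 rfl
theorem s3u610 : ∀ v, 1 ≤ v → v ≤ 187625 → fs3 v = true := slots_step fs3 187359 266 187625 s3u609 s3c610 rfl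
theorem s3u611 : ∀ v, 1 ≤ v → v ≤ 187897 → fs3 v = true := slots_step fs3 187625 272 187897 s3u610 s3c611 rfl
theorem s3u612 : ∀ v, 1 ≤ v → v ≤ 188165 → fs3 v = true := slots_step fs3 187897 268 188165 s3u611 s3c612 rfl
theorem s3u613 : ∀ v, 1 ≤ v → v ≤ 188436 → fs3 v = true := slots_step fs3 188165 271 188436 s3u612 s3c613 rfl
theorem s3u614 : ∀ v, 1 ≤ v → v ≤ 188716 → fs3 v = true := slots_step fs3 188436 280 188716 s3u613 s3c614 rfl
theorem s3u615 : ∀ v, 1 ≤ v → v ≤ 188986 → fs3 v = true := slots_step fs3 188716 270 188986 s3u614 s3c615 rfl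
theorem s3u616 : ∀ v, 1 ≤ v → v ≤ 189246 → fs3 v = true := slots_step fs3 188986 260 189246 s3u615 s3c616 rfl
theorem s3u617 : ∀ v, 1 ≤ v → v ≤ 189516 → fs3 v = true := slots_step fs3 189246 270 189516 s3u616 s3c617 rfl
theorem s3u618 : ∀ v, 1 ≤ v → v ≤ 189781 → fs3 v = true := slots_step fs3 189516 265 189781 s3u617 s3c618 rfl
theorem s3u619 : ∀ v, 1 ≤ v → v ≤ 190042 → fs3 v = true := slots_step fs3 189781 261 190042 s3u618 s3c619 rfl
theorem s3u620 : ∀ v, 1 ≤ v → v ≤ 190317 → fs3 v = true := slots_step fs3 190042 275 190317 s3u619 s3c620 rfl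
theorem s3u621 : ∀ v, 1 ≤ v → v ≤ 190591 → fs3 v = true := slots_step fs3 190317 274 190591 s3u620 s3c621 rfl
theorem s3u622 : ∀ v, 1 ≤ v → v ≤ 190858 → fs3 v = true := slots_step fs3 190591 267 190858 s3u621 s3c622 rfl
theorem s3u623 : ∀ v, 1 ≤ v → v ≤ 191126 → fs3 v = true := slots_step fs3 190858 268 191126 s3u622 s3c623 rfl
theorem s3u624 : ∀ v, 1 ≤ v → v ≤ 191408 → fs3 v = true := slots_step fs3 191126 282 191408 s3u623 s3c624 rfl
theorem s3u625 : ∀ v, 1 ≤ v → v ≤ 191677 → fs3 v = true := slots_step fs3 191408 269 191677 s3u624 s3c625 rfl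
theorem s3u626 : ∀ v, 1 ≤ v → v ≤ 191934 → fs3 v = true := slots_step fs3 191677 257 191934 s3u625 s3c626 rfl
theorem s3u627 : ∀ v, 1 ≤ v → v ≤ 192195 → fs3 v = true := slots_step fs3 191934 261 192195 s3u626 s3c627 rfl
theorem s3u628 : ∀ v, 1 ≤ v → v ≤ 192459 → fs3 v = true := slots_step fs3 192195 264 192459 s3u627 s3c628 rfl
theorem s3u629 : ∀ v, 1 ≤ v → v ≤ 192725 → fs3 v = true := slots_step fs3 192459 266 192725 s3u628 s3c629 rfl
theorem s3u630 : ∀ v, 1 ≤ v → v ≤ 192984 → fs3 v = true := slots_step fs3 192725 259 192984 s3u629 s3c630 rfl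
theorem s3u631 : ∀ v, 1 ≤ v → v ≤ 193243 → fs3 v = true := slots_step fs3 192984 259 193243 s3u630 s3c631 rfl
theorem s3u632 : ∀ v, 1 ≤ v → v ≤ 193520 → fs3 v = true := slots_step fs3 193243 277 193520 s3u631 s3c632 rfl
theorem s3u633 : ∀ v, 1 ≤ v → v ≤ 193784 → fs3 v = true := slots_step fs3 193520 264 193784 s3u632 s3c633 rfl
theorem s3u634 : ∀ v, 1 ≤ v → v ≤ 194049 → fs3 v = true := slots_step fs3 193784 265 194049 s3u633 s3c634 rfl
theorem s3u635 : ∀ v, 1 ≤ v → v ≤ 194321 → fs3 v = true := slots_step fs3 194049 272 194321 s3u634 s3c635 rfl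
theorem s3u636 : ∀ v, 1 ≤ v → v ≤ 194586 → fs3 v = true := slots_step fs3 194321 265 194586 s3u635 s3c636 rfl
theorem s3u637 : ∀ v, 1 ≤ v → v ≤ 194859 → fs3 v = true := slots_step fs3 194586 273 194859 s3u636 s3c637 rfl
theorem s3u638 : ∀ v, 1 ≤ v → v ≤ 195125 → fs3 v = true := slots_step fs3 194859 266 195125 s3u637 s3c638 rfl
theorem s3u639 : ∀ v, 1 ≤ v → v ≤ 195415 → fs3 v = true := slots_step fs3 195125 290 195415 s3u638 s3c639 rfl
theorem s3u640 : ∀ v, 1 ≤ v → v ≤ 195686 → fs3 v = true := slots_step fs3 195415 271 195686 s3u639 s3c640 rfl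
theorem s3u641 : ∀ v, 1 ≤ v → v ≤ 195959 → fs3 v = true := slots_step fs3 195686 273 195959 s3u640 s3c641 rfl
theorem s3u642 : ∀ v, 1 ≤ v → v ≤ 196238 → fs3 v = true := slots_step fs3 195959 279 196238 s3u641 s3c642 rfl
theorem s3u643 : ∀ v, 1 ≤ v → v ≤ 196528 → fs3 v = true := slots_step fs3 196238 290 196528 s3u642 s3c643 rfl
theorem s3u644 : ∀ v, 1 ≤ v → v ≤ 196792 → fs3 v = true := slots_step fs3 196528 264 196792 s3u643 s3c644 rfl
theorem s3u645 : ∀ v, 1 ≤ v → v ≤ 197066 → fs3 v = true := slots_step fs3 196792 274 197066 s3u644 s3c645 rfl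
theorem s3u646 : ∀ v, 1 ≤ v → v ≤ 197342 → fs3 v = true := slots_step fs3 197066 276 197342 s3u645 s3c646 rfl
theorem s3u647 : ∀ v, 1 ≤ v → v ≤ 197604 → fs3 v = true := slots_step fs3 197342 262 197604 s3u646 s3c647 rfl
theorem s3u648 : ∀ v, 1 ≤ v → v ≤ 197867 → fs3 v = true := slots_step fs3 197604 263 197867 s3u647 s3c648 rfl
theorem s3u649 : ∀ v, 1 ≤ v → v ≤ 198141 → fs3 v = true := slots_step fs3 197867 274 198141 s3u648 s3c649 rfl
theorem s3u650 : ∀ v, 1 ≤ v → v ≤ 198414 → fs3 v = true := slots_step fs3 198141 273 198414 s3u649 s3c650 rfl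
theorem s3u651 : ∀ v, 1 ≤ v → v ≤ 198661 → fs3 v = true := slots_step fs3 198414 247 198661 s3u650 s3c651 rfl
theorem s3u652 : ∀ v, 1 ≤ v → v ≤ 198915 → fs3 v = true := slots_step fs3 198661 254 198915 s3u651 s3c652 rfl
theorem s3u653 : ∀ v, 1 ≤ v → v ≤ 199177 → fs3 v = true := slots_step fs3 198915 262 199177 s3u652 s3c653 rfl
theorem s3u654 : ∀ v, 1 ≤ v → v ≤ 199422 → fs3 v = true := slots_step fs3 199177 245 199422 s3u653 s3c654 rfl
theorem s3u655 : ∀ v, 1 ≤ v → v ≤ 199686 → fs3 v = true := slots_step fs3 199422 264 199686 s3u654 s3c655 rfl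
theorem s3u656 : ∀ v, 1 ≤ v → v ≤ 199950 → fs3 v = true := slots_step fs3 199686 264 199950 s3u655 s3c656 rfl
theorem s3u657 : ∀ v, 1 ≤ v → v ≤ 200198 → fs3 v = true := slots_step fs3 199950 248 200198 s3u656 s3c657 rfl
theorem s3u658 : ∀ v, 1 ≤ v → v ≤ 200454 → fs3 v = true := slots_step fs3 200198 256 200454 s3u657 s3c658 rfl
theorem s3u659 : ∀ v, 1 ≤ v → v ≤ 200717 → fs3 v = true := slots_step fs3 200454 263 200717 s3u658 s3c659 rfl
theorem s3u660 : ∀ v, 1 ≤ v → v ≤ 200976 → fs3 v = true := slots_step fs3 200717 259 200976 s3u659 s3c660 rfl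
theorem s3u661 : ∀ v, 1 ≤ v → v ≤ 201237 → fs3 v = true := slots_step fs3 200976 261 201237 s3u660 s3c661 rfl
theorem s3u662 : ∀ v, 1 ≤ v → v ≤ 201501 → fs3 v = true := slots_step fs3 201237 264 201501 s3u661 s3c662 rfl
theorem s3u663 : ∀ v, 1 ≤ v → v ≤ 201757 → fs3 v = true := slots_step fs3 201501 256 201757 s3u662 s3c663 rfl
theorem s3u664 : ∀ v, 1 ≤ v → v ≤ 202025 → fs3 v = true := slots_step fs3 201757 268 202025 s3u663 s3c664 rfl
theorem s3u665 : ∀ v, 1 ≤ v → v ≤ 202279 → fs3 v = true := slots_step fs3 202025 254 202279 s3u664 s3c665 rfl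
theorem s3u666 : ∀ v, 1 ≤ v → v ≤ 202532 → fs3 v = true := slots_step fs3 202279 253 202532 s3u665 s3c666 rfl
theorem s3u667 : ∀ v, 1 ≤ v → v ≤ 202793 → fs3 v = true := slots_step fs3 202532 261 202793 s3u666 s3c667 rfl
theorem s3u668 : ∀ v, 1 ≤ v → v ≤ 203056 → fs3 v = true := slots_step fs3 202793 263 203056 s3u667 s3c668 rfl
theorem s3u669 : ∀ v, 1 ≤ v → v ≤ 203318 → fs3 v = true := slots_step fs3 203056 262 203318 s3u668 s3c669 rfl
theorem s3u670 : ∀ v, 1 ≤ v → v ≤ 203590 → fs3 v = true := slots_step fs3 203318 272 203590 s3u669 s3c670 rfl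
theorem s3u671 : ∀ v, 1 ≤ v → v ≤ 203849 → fs3 v = true := slots_step fs3 203590 259 203849 s3u670 s3c671 rfl
theorem s3u672 : ∀ v, 1 ≤ v → v ≤ 204118 → fs3 v = true := slots_step fs3 203849 269 204118 s3u671 s3c672 rfl
theorem s3u673 : ∀ v, 1 ≤ v → v ≤ 204384 → fs3 v = true := slots_step fs3 204118 266 204384 s3u672 s3c673 rfl
theorem s3u674 : ∀ v, 1 ≤ v → v ≤ 204641 → fs3 v = true := slots_step fs3 204384 257 204641 s3u673 s3c674 rfl
theorem s3u675 : ∀ v, 1 ≤ v → v ≤ 204904 → fs3 v = true := slots_step fs3 204641 263 204904 s3u674 s3c675 rfl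
theorem s3u676 : ∀ v, 1 ≤ v → v ≤ 205161 → fs3 v = true := slots_step fs3 204904 257 205161 s3u675 s3c676 rfl
theorem s3u677 : ∀ v, 1 ≤ v → v ≤ 205425 → fs3 v = true := slots_step fs3 205161 264 205425 s3u676 s3c677 rfl
theorem s3u678 : ∀ v, 1 ≤ v → v ≤ 205688 → fs3 v = true := slots_step fs3 205425 263 205688 s3u677 s3c678 rfl
theorem s3u679 : ∀ v, 1 ≤ v → v ≤ 205957 → fs3 v = true := slots_step fs3 205688 269 205957 s3u678 s3c679 rfl
theorem s3u680 : ∀ v, 1 ≤ v → v ≤ 206218 → fs3 v = true := slots_step fs3 205957 261 206218 s3u679 s3c680 rfl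
theorem s3u681 : ∀ v, 1 ≤ v → v ≤ 206477 → fs3 v = true := slots_step fs3 206218 259 206477 s3u680 s3c681 rfl
theorem s3u682 : ∀ v, 1 ≤ v → v ≤ 206759 → fs3 v = true := slots_step fs3 206477 282 206759 s3u681 s3c682 rfl
theorem s3u683 : ∀ v, 1 ≤ v → v ≤ 207028 → fs3 v = true := slots_step fs3 206759 269 207028 s3u682 s3c683 rfl
theorem s3u684 : ∀ v, 1 ≤ v → v ≤ 207305 → fs3 v = true := slots_step fs3 207028 277 207305 s3u683 s3c684 rfl
theorem s3u685 : ∀ v, 1 ≤ v → v ≤ 207576 → fs3 v = true := slots_step fs3 207305 271 207576 s3u684 s3c685 rfl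
theorem s3u686 : ∀ v, 1 ≤ v → v ≤ 207833 → fs3 v = true := slots_step fs3 207576 257 207833 s3u685 s3c686 rfl
theorem s3u687 : ∀ v, 1 ≤ v → v ≤ 208102 → fs3 v = true := slots_step fs3 207833 269 208102 s3u686 s3c687 rfl
theorem s3u688 : ∀ v, 1 ≤ v → v ≤ 208349 → fs3 v = true := slots_step fs3 208102 247 208349 s3u687 s3c688 rfl
theorem s3u689 : ∀ v, 1 ≤ v → v ≤ 208602 → fs3 v = true := slots_step fs3 208349 253 208602 s3u688 s3c689 rfl
theorem s3u690 : ∀ v, 1 ≤ v → v ≤ 208862 → fs3 v = true := slots_step fs3 208602 260 208862 s3u689 s3c690 rfl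
theorem s3u691 : ∀ v, 1 ≤ v → v ≤ 209146 → fs3 v = true := slots_step fs3 208862 284 209146 s3u690 s3c691 rfl
theorem s3u692 : ∀ v, 1 ≤ v → v ≤ 209407 → fs3 v = true := slots_step fs3 209146 261 209407 s3u691 s3c692 rfl
theorem s3u693 : ∀ v, 1 ≤ v → v ≤ 209678 → fs3 v = true := slots_step fs3 209407 271 209678 s3u692 s3c693 rfl
theorem s3u694 : ∀ v, 1 ≤ v → v ≤ 209947 → fs3 v = true := slots_step fs3 209678 269 209947 s3u693 s3c694 rfl
theorem s3u695 : ∀ v, 1 ≤ v → v ≤ 210217 → fs3 v = true := slots_step fs3 209947 270 210217 s3u694 s3c695 rfl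
theorem s3u696 : ∀ v, 1 ≤ v → v ≤ 210480 → fs3 v = true := slots_step fs3 210217 263 210480 s3u695 s3c696 rfl
theorem s3u697 : ∀ v, 1 ≤ v → v ≤ 210772 → fs3 v = true := slots_step fs3 210480 292 210772 s3u696 s3c697 rfl
theorem s3u698 : ∀ v, 1 ≤ v → v ≤ 211036 → fs3 v = true := slots_step fs3 210772 264 211036 s3u697 s3c698 rfl
theorem s3u699 : ∀ v, 1 ≤ v → v ≤ 211293 → fs3 v = true := slots_step fs3 211036 257 211293 s3u698 s3c699 rfl
theorem s3u700 : ∀ v, 1 ≤ v → v ≤ 211564 → fs3 v = true := slots_step fs3 211293 271 211564 s3u699 s3c700 rfl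
theorem s3u701 : ∀ v, 1 ≤ v → v ≤ 211829 → fs3 v = true := slots_step fs3 211564 265 211829 s3u700 s3c701 rfl
theorem s3u702 : ∀ v, 1 ≤ v → v ≤ 212096 → fs3 v = true := slots_step fs3 211829 267 212096 s3u701 s3c702 rfl
theorem s3u703 : ∀ v, 1 ≤ v → v ≤ 212363 → fs3 v = true := slots_step fs3 212096 267 212363 s3u702 s3c703 rfl
theorem s3u704 : ∀ v, 1 ≤ v → v ≤ 212637 → fs3 v = true := slots_step fs3 212363 274 212637 s3u703 s3c704 rfl
theorem s3u705 : ∀ v, 1 ≤ v → v ≤ 212908 → fs3 v = true := slots_step fs3 212637 271 212908 s3u704 s3c705 rfl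
theorem s3u706 : ∀ v, 1 ≤ v → v ≤ 213173 → fs3 v = true := slots_step fs3 212908 265 213173 s3u705 s3c706 rfl
theorem s3u707 : ∀ v, 1 ≤ v → v ≤ 213440 → fs3 v = true := slots_step fs3 213173 267 213440 s3u706 s3c707 rfl
theorem s3u708 : ∀ v, 1 ≤ v → v ≤ 213722 → fs3 v = true := slots_step fs3 213440 282 213722 s3u707 s3c708 rfl
theorem s3u709 : ∀ v, 1 ≤ v → v ≤ 213988 → fs3 v = true := slots_step fs3 213722 266 213988 s3u708 s3c709 rfl
theorem s3u710 : ∀ v, 1 ≤ v → v ≤ 214257 → fs3 v = true := slots_step fs3 213988 269 214257 s3u709 s3c710 rfl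
theorem s3u711 : ∀ v, 1 ≤ v → v ≤ 214513 → fs3 v = true := slots_step fs3 214257 256 214513 s3u710 s3c711 rfl
theorem s3u712 : ∀ v, 1 ≤ v → v ≤ 214770 → fs3 v = true := slots_step fs3 214513 257 214770 s3u711 s3c712 rfl
theorem s3u713 : ∀ v, 1 ≤ v → v ≤ 215038 → fs3 v = true := slots_step fs3 214770 268 215038 s3u712 s3c713 rfl
theorem s3u714 : ∀ v, 1 ≤ v → v ≤ 215302 → fs3 v = true := slots_step fs3 215038 264 215302 s3u713 s3c714 rfl
theorem s3u715 : ∀ v, 1 ≤ v → v ≤ 215567 → fs3 v = true := slots_step fs3 215302 265 215567 s3u714 s3c715 rfl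
theorem s3u716 : ∀ v, 1 ≤ v → v ≤ 215829 → fs3 v = true := slots_step fs3 215567 262 215829 s3u715 s3c716 rfl
theorem s3u717 : ∀ v, 1 ≤ v → v ≤ 216108 → fs3 v = true := slots_step fs3 215829 279 216108 s3u716 s3c717 rfl
theorem s3u718 : ∀ v, 1 ≤ v → v ≤ 216371 → fs3 v = true := slots_step fs3 216108 263 216371 s3u717 s3c718 rfl
theorem s3u719 : ∀ v, 1 ≤ v → v ≤ 216635 → fs3 v = true := slots_step fs3 216371 264 216635 s3u718 s3c719 rfl
theorem s3u720 : ∀ v, 1 ≤ v → v ≤ 216890 → fs3 v = true := slots_step fs3 216635 255 216890 s3u719 s3c720 rfl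
theorem s3u721 : ∀ v, 1 ≤ v → v ≤ 217170 → fs3 v = true := slots_step fs3 216890 280 217170 s3u720 s3c721 rfl
theorem s3u722 : ∀ v, 1 ≤ v → v ≤ 217438 → fs3 v = true := slots_step fs3 217170 268 217438 s3u721 s3c722 rfl
theorem s3u723 : ∀ v, 1 ≤ v → v ≤ 217711 → fs3 v = true := slots_step fs3 217438 273 217711 s3u722 s3c723 rfl
theorem s3u724 : ∀ v, 1 ≤ v → v ≤ 217974 → fs3 v = true := slots_step fs3 217711 263 217974 s3u723 s3c724 rfl
theorem s3u725 : ∀ v, 1 ≤ v → v ≤ 218268 → fs3 v = true := slots_step fs3 217974 294 218268 s3u724 s3c725 rfl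
theorem s3u726 : ∀ v, 1 ≤ v → v ≤ 218538 → fs3 v = true := slots_step fs3 218268 270 218538 s3u725 s3c726 rfl
theorem s3u727 : ∀ v, 1 ≤ v → v ≤ 218809 → fs3 v = true := slots_step fs3 218538 271 218809 s3u726 s3c727 rfl
theorem s3u728 : ∀ v, 1 ≤ v → v ≤ 219094 → fs3 v = true := slots_step fs3 218809 285 219094 s3u727 s3c728 rfl
theorem s3u729 : ∀ v, 1 ≤ v → v ≤ 219366 → fs3 v = true := slots_step fs3 219094 272 219366 s3u728 s3c729 rfl
theorem s3u730 : ∀ v, 1 ≤ v → v ≤ 219641 → fs3 v = true := slots_step fs3 219366 275 219641 s3u729 s3c730 rfl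
theorem s3u731 : ∀ v, 1 ≤ v → v ≤ 219908 → fs3 v = true := slots_step fs3 219641 267 219908 s3u730 s3c731 rfl
theorem s3u732 : ∀ v, 1 ≤ v → v ≤ 220185 → fs3 v = true := slots_step fs3 219908 277 220185 s3u731 s3c732 rfl
theorem s3u733 : ∀ v, 1 ≤ v → v ≤ 220458 → fs3 v = true := slots_step fs3 220185 273 220458 s3u732 s3c733 rfl
theorem s3u734 : ∀ v, 1 ≤ v → v ≤ 220721 → fs3 v = true := slots_step fs3 220458 263 220721 s3u733 s3c734 rfl
theorem s3u735 : ∀ v, 1 ≤ v → v ≤ 220992 → fs3 v = true := slots_step fs3 220721 271 220992 s3u734 s3c735 rfl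
theorem s3u736 : ∀ v, 1 ≤ v → v ≤ 221269 → fs3 v = true := slots_step fs3 220992 277 221269 s3u735 s3c736 rfl
theorem s3u737 : ∀ v, 1 ≤ v → v ≤ 221527 → fs3 v = true := slots_step fs3 221269 258 221527 s3u736 s3c737 rfl
theorem s3u738 : ∀ v, 1 ≤ v → v ≤ 221775 → fs3 v = true := slots_step fs3 221527 248 221775 s3u737 s3c738 rfl
theorem s3u739 : ∀ v, 1 ≤ v → v ≤ 222027 → fs3 v = true := slots_step fs3 221775 252 222027 s3u738 s3c739 rfl
theorem s3u740 : ∀ v, 1 ≤ v → v ≤ 222288 → fs3 v = true := slots_step fs3 222027 261 222288 s3u739 s3c740 rfl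
theorem s3u741 : ∀ v, 1 ≤ v → v ≤ 222550 → fs3 v = true := slots_step fs3 222288 262 222550 s3u740 s3c741 rfl
theorem s3u742 : ∀ v, 1 ≤ v → v ≤ 222816 → fs3 v = true := slots_step fs3 222550 266 222816 s3u741 s3c742 rfl
theorem s3u743 : ∀ v, 1 ≤ v → v ≤ 223073 → fs3 v = true := slots_step fs3 222816 257 223073 s3u742 s3c743 rfl
theorem s3u744 : ∀ v, 1 ≤ v → v ≤ 223330 → fs3 v = true := slots_step fs3 223073 257 223330 s3u743 s3c744 rfl
theorem s3u745 : ∀ v, 1 ≤ v → v ≤ 223586 → fs3 v = true := slots_step fs3 223330 256 223586 s3u744 s3c745 rfl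
theorem s3u746 : ∀ v, 1 ≤ v → v ≤ 223843 → fs3 v = true := slots_step fs3 223586 257 223843 s3u745 s3c746 rfl
theorem s3u747 : ∀ v, 1 ≤ v → v ≤ 224104 → fs3 v = true := slots_step fs3 223843 261 224104 s3u746 s3c747 rfl
theorem s3u748 : ∀ v, 1 ≤ v → v ≤ 224370 → fs3 v = true := slots_step fs3 224104 266 224370 s3u747 s3c748 rfl
theorem s3u749 : ∀ v, 1 ≤ v → v ≤ 224616 → fs3 v = true := slots_step fs3 224370 246 224616 s3u748 s3c749 rfl
theorem s3u750 : ∀ v, 1 ≤ v → v ≤ 224884 → fs3 v = true := slots_step fs3 224616 268 224884 s3u749 s3c750 rfl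
theorem s3u751 : ∀ v, 1 ≤ v → v ≤ 225137 → fs3 v = true := slots_step fs3 224884 253 225137 s3u750 s3c751 rfl
theorem s3u752 : ∀ v, 1 ≤ v → v ≤ 225389 → fs3 v = true := slots_step fs3 225137 252 225389 s3u751 s3c752 rfl
theorem s3u753 : ∀ v, 1 ≤ v → v ≤ 225648 → fs3 v = true := slots_step fs3 225389 259 225648 s3u752 s3c753 rfl
theorem s3u754 : ∀ v, 1 ≤ v → v ≤ 225903 → fs3 v = true := slots_step fs3 225648 255 225903 s3u753 s3c754 rfl
theorem s3u755 : ∀ v, 1 ≤ v → v ≤ 226163 → fs3 v = true := slots_step fs3 225903 260 226163 s3u754 s3c755 rfl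
theorem s3u756 : ∀ v, 1 ≤ v → v ≤ 226424 → fs3 v = true := slots_step fs3 226163 261 226424 s3u755 s3c756 rfl
theorem s3u757 : ∀ v, 1 ≤ v → v ≤ 226695 → fs3 v = true := slots_step fs3 226424 271 226695 s3u756 s3c757 rfl
theorem s3u758 : ∀ v, 1 ≤ v → v ≤ 226956 → fs3 v = true := slots_step fs3 226695 261 226956 s3u757 s3c758 rfl
theorem s3u759 : ∀ v, 1 ≤ v → v ≤ 227223 → fs3 v = true := slots_step fs3 226956 267 227223 s3u758 s3c759 rfl
theorem s3u760 : ∀ v, 1 ≤ v → v ≤ 227497 → fs3 v = true := slots_step fs3 227223 274 227497 s3u759 s3c760 rfl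
theorem s3u761 : ∀ v, 1 ≤ v → v ≤ 227757 → fs3 v = true := slots_step fs3 227497 260 227757 s3u760 s3c761 rfl
theorem s3u762 : ∀ v, 1 ≤ v → v ≤ 228015 → fs3 v = true := slots_step fs3 227757 258 228015 s3u761 s3c762 rfl
theorem s3u763 : ∀ v, 1 ≤ v → v ≤ 228275 → fs3 v = true := slots_step fs3 228015 260 228275 s3u762 s3c763 rfl
theorem s3u764 : ∀ v, 1 ≤ v → v ≤ 228532 → fs3 v = true := slots_step fs3 228275 257 228532 s3u763 s3c764 rfl
theorem s3u765 : ∀ v, 1 ≤ v → v ≤ 228801 → fs3 v = true := slots_step fs3 228532 269 228801 s3u764 s3c765 rfl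
theorem s3u766 : ∀ v, 1 ≤ v → v ≤ 229055 → fs3 v = true := slots_step fs3 228801 254 229055 s3u765 s3c766 rfl
theorem s3u767 : ∀ v, 1 ≤ v → v ≤ 229321 → fs3 v = true := slots_step fs3 229055 266 229321 s3u766 s3c767 rfl
theorem s3u768 : ∀ v, 1 ≤ v → v ≤ 229582 → fs3 v = true := slots_step fs3 229321 261 229582 s3u767 s3c768 rfl
theorem s3u769 : ∀ v, 1 ≤ v → v ≤ 229841 → fs3 v = true := slots_step fs3 229582 259 229841 s3u768 s3c769 rfl
theorem s3u770 : ∀ v, 1 ≤ v → v ≤ 230119 → fs3 v = true := slots_step fs3 229841 278 230119 s3u769 s3c770 rfl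
theorem s3u771 : ∀ v, 1 ≤ v → v ≤ 230385 → fs3 v = true := slots_step fs3 230119 266 230385 s3u770 s3c771 rfl
theorem s3u772 : ∀ v, 1 ≤ v → v ≤ 230653 → fs3 v = true := slots_step fs3 230385 268 230653 s3u771 s3c772 rfl
theorem s3u773 : ∀ v, 1 ≤ v → v ≤ 230931 → fs3 v = true := slots_step fs3 230653 278 230931 s3u772 s3c773 rfl
theorem s3u774 : ∀ v, 1 ≤ v → v ≤ 231188 → fs3 v = true := slots_step fs3 230931 257 231188 s3u773 s3c774 rfl
theorem s3u775 : ∀ v, 1 ≤ v → v ≤ 231453 → fs3 v = true := slots_step fs3 231188 265 231453 s3u774 s3c775 rfl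
theorem s3u776 : ∀ v, 1 ≤ v → v ≤ 231711 → fs3 v = true := slots_step fs3 231453 258 231711 s3u775 s3c776 rfl
theorem s3u777 : ∀ v, 1 ≤ v → v ≤ 231969 → fs3 v = true := slots_step fs3 231711 258 231969 s3u776 s3c777 rfl
theorem s3u778 : ∀ v, 1 ≤ v → v ≤ 232223 → fs3 v = true := slots_step fs3 231969 254 232223 s3u777 s3c778 rfl
theorem s3u779 : ∀ v, 1 ≤ v → v ≤ 232497 → fs3 v = true := slots_step fs3 232223 274 232497 s3u778 s3c779 rfl
theorem s3u780 : ∀ v, 1 ≤ v → v ≤ 232768 → fs3 v = true := slots_step fs3 232497 271 232768 s3u779 s3c780 rfl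
theorem s3u781 : ∀ v, 1 ≤ v → v ≤ 233045 → fs3 v = true := slots_step fs3 232768 277 233045 s3u780 s3c781 rfl
theorem s3u782 : ∀ v, 1 ≤ v → v ≤ 233311 → fs3 v = true := slots_step fs3 233045 266 233311 s3u781 s3c782 rfl
theorem s3u783 : ∀ v, 1 ≤ v → v ≤ 233580 → fs3 v = true := slots_step fs3 233311 269 233580 s3u782 s3c783 rfl
theorem s3u784 : ∀ v, 1 ≤ v → v ≤ 233850 → fs3 v = true := slots_step fs3 233580 270 233850 s3u783 s3c784 rfl
theorem s3u785 : ∀ v, 1 ≤ v → v ≤ 234119 → fs3 v = true := slots_step fs3 233850 269 234119 s3u784 s3c785 rfl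
theorem s3u786 : ∀ v, 1 ≤ v → v ≤ 234398 → fs3 v = true := slots_step fs3 234119 279 234398 s3u785 s3c786 rfl
theorem s3u787 : ∀ v, 1 ≤ v → v ≤ 234654 → fs3 v = true := slots_step fs3 234398 256 234654 s3u786 s3c787 rfl
theorem s3u788 : ∀ v, 1 ≤ v → v ≤ 234911 → fs3 v = true := slots_step fs3 234654 257 234911 s3u787 s3c788 rfl
theorem s3u789 : ∀ v, 1 ≤ v → v ≤ 235181 → fs3 v = true := slots_step fs3 234911 270 235181 s3u788 s3c789 rfl
theorem s3u790 : ∀ v, 1 ≤ v → v ≤ 235453 → fs3 v = true := slots_step fs3 235181 272 235453 s3u789 s3c790 rfl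
theorem s3u791 : ∀ v, 1 ≤ v → v ≤ 235719 → fs3 v = true := slots_step fs3 235453 266 235719 s3u790 s3c791 rfl
theorem s3u792 : ∀ v, 1 ≤ v → v ≤ 235986 → fs3 v = true := slots_step fs3 235719 267 235986 s3u791 s3c792 rfl
theorem s3u793 : ∀ v, 1 ≤ v → v ≤ 236252 → fs3 v = true := slots_step fs3 235986 266 236252 s3u792 s3c793 rfl
theorem s3u794 : ∀ v, 1 ≤ v → v ≤ 236535 → fs3 v = true := slots_step fs3 236252 283 236535 s3u793 s3c794 rfl
theorem s3u795 : ∀ v, 1 ≤ v → v ≤ 236797 → fs3 v = true := slots_step fs3 236535 262 236797 s3u794 s3c795 rfl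
theorem s3u796 : ∀ v, 1 ≤ v → v ≤ 237067 → fs3 v = true := slots_step fs3 236797 270 237067 s3u795 s3c796 rfl
theorem s3u797 : ∀ v, 1 ≤ v → v ≤ 237332 → fs3 v = true := slots_step fs3 237067 265 237332 s3u796 s3c797 rfl
theorem s3u798 : ∀ v, 1 ≤ v → v ≤ 237614 → fs3 v = true := slots_step fs3 237332 282 237614 s3u797 s3c798 rfl
theorem s3u799 : ∀ v, 1 ≤ v → v ≤ 237882 → fs3 v = true := slots_step fs3 237614 268 237882 s3u798 s3c799 rfl
theorem s3u800 : ∀ v, 1 ≤ v → v ≤ 238153 → fs3 v = true := slots_step fs3 237882 271 238153 s3u799 s3c800 rfl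
theorem s3u801 : ∀ v, 1 ≤ v → v ≤ 238414 → fs3 v = true := slots_step fs3 238153 261 238414 s3u800 s3c801 rfl
theorem s3u802 : ∀ v, 1 ≤ v → v ≤ 238666 → fs3 v = true := slots_step fs3 238414 252 238666 s3u801 s3c802 rfl
theorem s3u803 : ∀ v, 1 ≤ v → v ≤ 238938 → fs3 v = true := slots_step fs3 238666 272 238938 s3u802 s3c803 rfl
theorem s3u804 : ∀ v, 1 ≤ v → v ≤ 239203 → fs3 v = true := slots_step fs3 238938 265 239203 s3u803 s3c804 rfl
theorem s3u805 : ∀ v, 1 ≤ v → v ≤ 239470 → fs3 v = true := slots_step fs3 239203 267 239470 s3u804 s3c805 rfl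
theorem s3u806 : ∀ v, 1 ≤ v → v ≤ 239735 → fs3 v = true := slots_step fs3 239470 265 239735 s3u805 s3c806 rfl
theorem s3u807 : ∀ v, 1 ≤ v → v ≤ 239995 → fs3 v = true := slots_step fs3 239735 260 239995 s3u806 s3c807 rfl
theorem s3u808 : ∀ v, 1 ≤ v → v ≤ 240279 → fs3 v = true := slots_step fs3 239995 284 240279 s3u807 s3c808 rfl
theorem s3u809 : ∀ v, 1 ≤ v → v ≤ 240544 → fs3 v = true := slots_step fs3 240279 265 240544 s3u808 s3c809 rfl
theorem s3u810 : ∀ v, 1 ≤ v → v ≤ 240805 → fs3 v = true := slots_step fs3 240544 261 240805 s3u809 s3c810 rfl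
theorem s3u811 : ∀ v, 1 ≤ v → v ≤ 241059 → fs3 v = true := slots_step fs3 240805 254 241059 s3u810 s3c811 rfl
theorem s3u812 : ∀ v, 1 ≤ v → v ≤ 241339 → fs3 v = true := slots_step fs3 241059 280 241339 s3u811 s3c812 rfl
theorem s3u813 : ∀ v, 1 ≤ v → v ≤ 241604 → fs3 v = true := slots_step fs3 241339 265 241604 s3u812 s3c813 rfl
theorem s3u814 : ∀ v, 1 ≤ v → v ≤ 241879 → fs3 v = true := slots_step fs3 241604 275 241879 s3u813 s3c814 rfl
theorem s3u815 : ∀ v, 1 ≤ v → v ≤ 242156 → fs3 v = true := slots_step fs3 241879 277 242156 s3u814 s3c815 rfl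
theorem s3u816 : ∀ v, 1 ≤ v → v ≤ 242423 → fs3 v = true := slots_step fs3 242156 267 242423 s3u815 s3c816 rfl
theorem s3u817 : ∀ v, 1 ≤ v → v ≤ 242708 → fs3 v = true := slots_step fs3 242423 285 242708 s3u816 s3c817 rfl
theorem s3u818 : ∀ v, 1 ≤ v → v ≤ 242974 → fs3 v = true := slots_step fs3 242708 266 242974 s3u817 s3c818 rfl
theorem s3u819 : ∀ v, 1 ≤ v → v ≤ 243248 → fs3 v = true := slots_step fs3 242974 274 243248 s3u818 s3c819 rfl
theorem s3u820 : ∀ v, 1 ≤ v → v ≤ 243530 → fs3 v = true := slots_step fs3 243248 282 243530 s3u819 s3c820 rfl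
theorem s3u821 : ∀ v, 1 ≤ v → v ≤ 243809 → fs3 v = true := slots_step fs3 243530 279 243809 s3u820 s3c821 rfl
theorem s3u822 : ∀ v, 1 ≤ v → v ≤ 244075 → fs3 v = true := slots_step fs3 243809 266 244075 s3u821 s3c822 rfl
theorem s3u823 : ∀ v, 1 ≤ v → v ≤ 244343 → fs3 v = true := slots_step fs3 244075 268 244343 s3u822 s3c823 rfl
theorem s3u824 : ∀ v, 1 ≤ v → v ≤ 244620 → fs3 v = true := slots_step fs3 244343 277 244620 s3u823 s3c824 rfl
theorem s3u825 : ∀ v, 1 ≤ v → v ≤ 244889 → fs3 v = true := slots_step fs3 244620 269 244889 s3u824 s3c825 rfl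
theorem s3u826 : ∀ v, 1 ≤ v → v ≤ 245163 → fs3 v = true := slots_step fs3 244889 274 245163 s3u825 s3c826 rfl
theorem s3u827 : ∀ v, 1 ≤ v → v ≤ 245436 → fs3 v = true := slots_step fs3 245163 273 245436 s3u826 s3c827 rfl
theorem s3u828 : ∀ v, 1 ≤ v → v ≤ 245716 → fs3 v = true := slots_step fs3 245436 280 245716 s3u827 s3c828 rfl
theorem s3u829 : ∀ v, 1 ≤ v → v ≤ 245970 → fs3 v = true := slots_step fs3 245716 254 245970 s3u828 s3c829 rfl
theorem s3u830 : ∀ v, 1 ≤ v → v ≤ 246222 → fs3 v = true := slots_step fs3 245970 252 246222 s3u829 s3c830 rfl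
theorem s3u831 : ∀ v, 1 ≤ v → v ≤ 246491 → fs3 v = true := slots_step fs3 246222 269 246491 s3u830 s3c831 rfl
theorem s3u832 : ∀ v, 1 ≤ v → v ≤ 246763 → fs3 v = true := slots_step fs3 246491 272 246763 s3u831 s3c832 rfl
theorem s3u833 : ∀ v, 1 ≤ v → v ≤ 247037 → fs3 v = true := slots_step fs3 246763 274 247037 s3u832 s3c833 rfl
theorem s3u834 : ∀ v, 1 ≤ v → v ≤ 247289 → fs3 v = true := slots_step fs3 247037 252 247289 s3u833 s3c834 rfl
theorem s3u835 : ∀ v, 1 ≤ v → v ≤ 247547 → fs3 v = true := slots_step fs3 247289 258 247547 s3u834 s3c835 rfl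
theorem s3u836 : ∀ v, 1 ≤ v → v ≤ 247806 → fs3 v = true := slots_step fs3 247547 259 247806 s3u835 s3c836 rfl
theorem s3u837 : ∀ v, 1 ≤ v → v ≤ 248057 → fs3 v = true := slots_step fs3 247806 251 248057 s3u836 s3c837 rfl
theorem s3u838 : ∀ v, 1 ≤ v → v ≤ 248316 → fs3 v = true := slots_step fs3 248057 259 248316 s3u837 s3c838 rfl
theorem s3u839 : ∀ v, 1 ≤ v → v ≤ 248570 → fs3 v = true := slots_step fs3 248316 254 248570 s3u838 s3c839 rfl
theorem s3u840 : ∀ v, 1 ≤ v → v ≤ 248827 → fs3 v = true := slots_step fs3 248570 257 248827 s3u839 s3c840 rfl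
theorem s3u841 : ∀ v, 1 ≤ v → v ≤ 249078 → fs3 v = true := slots_step fs3 248827 251 249078 s3u840 s3c841 rfl
theorem s3u842 : ∀ v, 1 ≤ v → v ≤ 249340 → fs3 v = true := slots_step fs3 249078 262 249340 s3u841 s3c842 rfl
theorem s3u843 : ∀ v, 1 ≤ v → v ≤ 249591 → fs3 v = true := slots_step fs3 249340 251 249591 s3u842 s3c843 rfl
theorem s3u844 : ∀ v, 1 ≤ v → v ≤ 249840 → fs3 v = true := slots_step fs3 249591 249 249840 s3u843 s3c844 rfl
theorem s3u845 : ∀ v, 1 ≤ v → v ≤ 250100 → fs3 v = true := slots_step fs3 249840 260 250100 s3u844 s3c845 rfl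
theorem s3u846 : ∀ v, 1 ≤ v → v ≤ 250353 → fs3 v = true := slots_step fs3 250100 253 250353 s3u845 s3c846 rfl
theorem s3u847 : ∀ v, 1 ≤ v → v ≤ 250612 → fs3 v = true := slots_step fs3 250353 259 250612 s3u846 s3c847 rfl
theorem s3u848 : ∀ v, 1 ≤ v → v ≤ 250868 → fs3 v = true := slots_step fs3 250612 256 250868 s3u847 s3c848 rfl
theorem s3u849 : ∀ v, 1 ≤ v → v ≤ 251131 → fs3 v = true := slots_step fs3 250868 263 251131 s3u848 s3c849 rfl
theorem s3u850 : ∀ v, 1 ≤ v → v ≤ 251400 → fs3 v = true := slots_step fs3 251131 269 251400 s3u849 s3c850 rfl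
theorem s3u851 : ∀ v, 1 ≤ v → v ≤ 251662 → fs3 v = true := slots_step fs3 251400 262 251662 s3u850 s3c851 rfl
theorem s3u852 : ∀ v, 1 ≤ v → v ≤ 251930 → fs3 v = true := slots_step fs3 251662 268 251930 s3u851 s3c852 rfl
theorem s3u853 : ∀ v, 1 ≤ v → v ≤ 252206 → fs3 v = true := slots_step fs3 251930 276 252206 s3u852 s3c853 rfl
theorem s3u854 : ∀ v, 1 ≤ v → v ≤ 252460 → fs3 v = true := slots_step fs3 252206 254 252460 s3u853 s3c854 rfl
theorem s3u855 : ∀ v, 1 ≤ v → v ≤ 252714 → fs3 v = true := slots_step fs3 252460 254 252714 s3u854 s3c855 rfl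
theorem s3u856 : ∀ v, 1 ≤ v → v ≤ 252974 → fs3 v = true := slots_step fs3 252714 260 252974 s3u855 s3c856 rfl
theorem s3u857 : ∀ v, 1 ≤ v → v ≤ 253228 → fs3 v = true := slots_step fs3 252974 254 253228 s3u856 s3c857 rfl
theorem s3u858 : ∀ v, 1 ≤ v → v ≤ 253501 → fs3 v = true := slots_step fs3 253228 273 253501 s3u857 s3c858 rfl
theorem s3u859 : ∀ v, 1 ≤ v → v ≤ 253753 → fs3 v = true := slots_step fs3 253501 252 253753 s3u858 s3c859 rfl
theorem s3u860 : ∀ v, 1 ≤ v → v ≤ 254016 → fs3 v = true := slots_step fs3 253753 263 254016 s3u859 s3c860 rfl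
theorem s3u861 : ∀ v, 1 ≤ v → v ≤ 254272 → fs3 v = true := slots_step fs3 254016 256 254272 s3u860 s3c861 rfl
theorem s3u862 : ∀ v, 1 ≤ v → v ≤ 254536 → fs3 v = true := slots_step fs3 254272 264 254536 s3u861 s3c862 rfl
theorem s3u863 : ∀ v, 1 ≤ v → v ≤ 254786 → fs3 v = true := slots_step fs3 254536 250 254786 s3u862 s3c863 rfl
theorem s3u864 : ∀ v, 1 ≤ v → v ≤ 255068 → fs3 v = true := slots_step fs3 254786 282 255068 s3u863 s3c864 rfl
theorem s3u865 : ∀ v, 1 ≤ v → v ≤ 255343 → fs3 v = true := slots_step fs3 255068 275 255343 s3u864 s3c865 rfl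
theorem s3u866 : ∀ v, 1 ≤ v → v ≤ 255613 → fs3 v = true := slots_step fs3 255343 270 255613 s3u865 s3c866 rfl
theorem s3u867 : ∀ v, 1 ≤ v → v ≤ 255881 → fs3 v = true := slots_step fs3 255613 268 255881 s3u866 s3c867 rfl
theorem s3u868 : ∀ v, 1 ≤ v → v ≤ 256135 → fs3 v = true := slots_step fs3 255881 254 256135 s3u867 s3c868 rfl
theorem s3u869 : ∀ v, 1 ≤ v → v ≤ 256409 → fs3 v = true := slots_step fs3 256135 274 256409 s3u868 s3c869 rfl
theorem s3u870 : ∀ v, 1 ≤ v → v ≤ 256669 → fs3 v = true := slots_step fs3 256409 260 256669 s3u869 s3c870 rfl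
theorem s3u871 : ∀ v, 1 ≤ v → v ≤ 256920 → fs3 v = true := slots_step fs3 256669 251 256920 s3u870 s3c871 rfl
theorem s3u872 : ∀ v, 1 ≤ v → v ≤ 257183 → fs3 v = true := slots_step fs3 256920 263 257183 s3u871 s3c872 rfl
theorem s3u873 : ∀ v, 1 ≤ v → v ≤ 257468 → fs3 v = true := slots_step fs3 257183 285 257468 s3u872 s3c873 rfl
theorem s3u874 : ∀ v, 1 ≤ v → v ≤ 257741 → fs3 v = true := slots_step fs3 257468 273 257741 s3u873 s3c874 rfl
theorem s3u875 : ∀ v, 1 ≤ v → v ≤ 258011 → fs3 v = true := slots_step fs3 257741 270 258011 s3u874 s3c875 rfl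
theorem s3u876 : ∀ v, 1 ≤ v → v ≤ 258279 → fs3 v = true := slots_step fs3 258011 268 258279 s3u875 s3c876 rfl
theorem s3u877 : ∀ v, 1 ≤ v → v ≤ 258547 → fs3 v = true := slots_step fs3 258279 268 258547 s3u876 s3c877 rfl
theorem s3u878 : ∀ v, 1 ≤ v → v ≤ 258813 → fs3 v = true := slots_step fs3 258547 266 258813 s3u877 s3c878 rfl
theorem s3u879 : ∀ v, 1 ≤ v → v ≤ 259089 → fs3 v = true := slots_step fs3 258813 276 259089 s3u878 s3c879 rfl
theorem s3u880 : ∀ v, 1 ≤ v → v ≤ 259347 → fs3 v = true := slots_step fs3 259089 258 259347 s3u879 s3c880 rfl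
theorem s3u881 : ∀ v, 1 ≤ v → v ≤ 259609 → fs3 v = true := slots_step fs3 259347 262 259609 s3u880 s3c881 rfl
theorem s3u882 : ∀ v, 1 ≤ v → v ≤ 259860 → fs3 v = true := slots_step fs3 259609 251 259860 s3u881 s3c882 rfl
theorem s3u883 : ∀ v, 1 ≤ v → v ≤ 260134 → fs3 v = true := slots_step fs3 259860 274 260134 s3u882 s3c883 rfl
theorem s3u884 : ∀ v, 1 ≤ v → v ≤ 260408 → fs3 v = true := slots_step fs3 260134 274 260408 s3u883 s3c884 rfl
theorem s3u885 : ∀ v, 1 ≤ v → v ≤ 260679 → fs3 v = true := slots_step fs3 260408 271 260679 s3u884 s3c885 rfl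
theorem s3u886 : ∀ v, 1 ≤ v → v ≤ 260941 → fs3 v = true := slots_step fs3 260679 262 260941 s3u885 s3c886 rfl
theorem s3u887 : ∀ v, 1 ≤ v → v ≤ 261213 → fs3 v = true := slots_step fs3 260941 272 261213 s3u886 s3c887 rfl
theorem s3u888 : ∀ v, 1 ≤ v → v ≤ 261471 → fs3 v = true := slots_step fs3 261213 258 261471 s3u887 s3c888 rfl
theorem s3u889 : ∀ v, 1 ≤ v → v ≤ 261752 → fs3 v = true := slots_step fs3 261471 281 261752 s3u888 s3c889 rfl
theorem s3u890 : ∀ v, 1 ≤ v → v ≤ 262017 → fs3 v = true := slots_step fs3 261752 265 262017 s3u889 s3c890 rfl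
theorem s3u891 : ∀ v, 1 ≤ v → v ≤ 262290 → fs3 v = true := slots_step fs3 262017 273 262290 s3u890 s3c891 rfl
theorem s3u892 : ∀ v, 1 ≤ v → v ≤ 262555 → fs3 v = true := slots_step fs3 262290 265 262555 s3u891 s3c892 rfl
theorem s3u893 : ∀ v, 1 ≤ v → v ≤ 262825 → fs3 v = true := slots_step fs3 262555 270 262825 s3u892 s3c893 rfl
theorem s3u894 : ∀ v, 1 ≤ v → v ≤ 263099 → fs3 v = true := slots_step fs3 262825 274 263099 s3u893 s3c894 rfl
theorem s3u895 : ∀ v, 1 ≤ v → v ≤ 263354 → fs3 v = true := slots_step fs3 263099 255 263354 s3u894 s3c895 rfl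
theorem s3u896 : ∀ v, 1 ≤ v → v ≤ 263624 → fs3 v = true := slots_step fs3 263354 270 263624 s3u895 s3c896 rfl
theorem s3u897 : ∀ v, 1 ≤ v → v ≤ 263878 → fs3 v = true := slots_step fs3 263624 254 263878 s3u896 s3c897 rfl
theorem s3u898 : ∀ v, 1 ≤ v → v ≤ 264144 → fs3 v = true := slots_step fs3 263878 266 264144 s3u897 s3c898 rfl
theorem s3u899 : ∀ v, 1 ≤ v → v ≤ 264411 → fs3 v = true := slots_step fs3 264144 267 264411 s3u898 s3c899 rfl
theorem s3u900 : ∀ v, 1 ≤ v → v ≤ 264677 → fs3 v = true := slots_step fs3 264411 266 264677 s3u899 s3c900 rfl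
theorem s3u901 : ∀ v, 1 ≤ v → v ≤ 264942 → fs3 v = true := slots_step fs3 264677 265 264942 s3u900 s3c901 rfl
theorem s3u902 : ∀ v, 1 ≤ v → v ≤ 265211 → fs3 v = true := slots_step fs3 264942 269 265211 s3u901 s3c902 rfl
theorem s3u903 : ∀ v, 1 ≤ v → v ≤ 265477 → fs3 v = true := slots_step fs3 265211 266 265477 s3u902 s3c903 rfl
theorem s3u904 : ∀ v, 1 ≤ v → v ≤ 265744 → fs3 v = true := slots_step fs3 265477 267 265744 s3u903 s3c904 rfl
theorem s3u905 : ∀ v, 1 ≤ v → v ≤ 266006 → fs3 v = true := slots_step fs3 265744 262 266006 s3u904 s3c905 rfl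
theorem s3u906 : ∀ v, 1 ≤ v → v ≤ 266269 → fs3 v = true := slots_step fs3 266006 263 266269 s3u905 s3c906 rfl
theorem s3u907 : ∀ v, 1 ≤ v → v ≤ 266528 → fs3 v = true := slots_step fs3 266269 259 266528 s3u906 s3c907 rfl
theorem s3u908 : ∀ v, 1 ≤ v → v ≤ 266798 → fs3 v = true := slots_step fs3 266528 270 266798 s3u907 s3c908 rfl
theorem s3u909 : ∀ v, 1 ≤ v → v ≤ 267059 → fs3 v = true := slots_step fs3 266798 261 267059 s3u908 s3c909 rfl
theorem s3u910 : ∀ v, 1 ≤ v → v ≤ 267333 → fs3 v = true := slots_step fs3 267059 274 267333 s3u909 s3c910 rfl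
theorem s3u911 : ∀ v, 1 ≤ v → v ≤ 267615 → fs3 v = true := slots_step fs3 267333 282 267615 s3u910 s3c911 rfl
theorem s3u912 : ∀ v, 1 ≤ v → v ≤ 267873 → fs3 v = true := slots_step fs3 267615 258 267873 s3u911 s3c912 rfl
theorem s3u913 : ∀ v, 1 ≤ v → v ≤ 268162 → fs3 v = true := slots_step fs3 267873 289 268162 s3u912 s3c913 rfl
theorem s3u914 : ∀ v, 1 ≤ v → v ≤ 268425 → fs3 v = true := slots_step fs3 268162 263 268425 s3u913 s3c914 rfl
theorem s3u915 : ∀ v, 1 ≤ v → v ≤ 268699 → fs3 v = true := slots_step fs3 268425 274 268699 s3u914 s3c915 rfl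
theorem s3u916 : ∀ v, 1 ≤ v → v ≤ 268982 → fs3 v = true := slots_step fs3 268699 283 268982 s3u915 s3c916 rfl
theorem s3u917 : ∀ v, 1 ≤ v → v ≤ 269255 → fs3 v = true := slots_step fs3 268982 273 269255 s3u916 s3c917 rfl
theorem s3u918 : ∀ v, 1 ≤ v → v ≤ 269520 → fs3 v = true := slots_step fs3 269255 265 269520 s3u917 s3c918 rfl
theorem s3u919 : ∀ v, 1 ≤ v → v ≤ 269791 → fs3 v = true := slots_step fs3 269520 271 269791 s3u918 s3c919 rfl
theorem s3u920 : ∀ v, 1 ≤ v → v ≤ 270071 → fs3 v = true := slots_step fs3 269791 280 270071 s3u919 s3c920 rfl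
theorem s3u921 : ∀ v, 1 ≤ v → v ≤ 270341 → fs3 v = true := slots_step fs3 270071 270 270341 s3u920 s3c921 rfl
theorem s3u922 : ∀ v, 1 ≤ v → v ≤ 270612 → fs3 v = true := slots_step fs3 270341 271 270612 s3u921 s3c922 rfl
theorem s3u923 : ∀ v, 1 ≤ v → v ≤ 270883 → fs3 v = true := slots_step fs3 270612 271 270883 s3u922 s3c923 rfl
theorem s3u924 : ∀ v, 1 ≤ v → v ≤ 271161 → fs3 v = true := slots_step fs3 270883 278 271161 s3u923 s3c924 rfl
theorem s3u925 : ∀ v, 1 ≤ v → v ≤ 271413 → fs3 v = true := slots_step fs3 271161 252 271413 s3u924 s3c925 rfl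
theorem s3u926 : ∀ v, 1 ≤ v → v ≤ 271687 → fs3 v = true := slots_step fs3 271413 274 271687 s3u925 s3c926 rfl
theorem s3u927 : ∀ v, 1 ≤ v → v ≤ 271974 → fs3 v = true := slots_step fs3 271687 287 271974 s3u926 s3c927 rfl
theorem s3u928 : ∀ v, 1 ≤ v → v ≤ 272250 → fs3 v = true := slots_step fs3 271974 276 272250 s3u927 s3c928 rfl
theorem s3u929 : ∀ v, 1 ≤ v → v ≤ 272499 → fs3 v = true := slots_step fs3 272250 249 272499 s3u928 s3c929 rfl
theorem s3u930 : ∀ v, 1 ≤ v → v ≤ 272756 → fs3 v = true := slots_step fs3 272499 257 272756 s3u929 s3c930 rfl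
theorem s3u931 : ∀ v, 1 ≤ v → v ≤ 273011 → fs3 v = true := slots_step fs3 272756 255 273011 s3u930 s3c931 rfl
theorem s3u932 : ∀ v, 1 ≤ v → v ≤ 273266 → fs3 v = true := slots_step fs3 273011 255 273266 s3u931 s3c932 rfl
theorem s3u933 : ∀ v, 1 ≤ v → v ≤ 273519 → fs3 v = true := slots_step fs3 273266 253 273519 s3u932 s3c933 rfl
theorem s3u934 : ∀ v, 1 ≤ v → v ≤ 273775 → fs3 v = true := slots_step fs3 273519 256 273775 s3u933 s3c934 rfl
theorem s3u935 : ∀ v, 1 ≤ v → v ≤ 274026 → fs3 v = true := slots_step fs3 273775 251 274026 s3u934 s3c935 rfl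
theorem s3u936 : ∀ v, 1 ≤ v → v ≤ 274276 → fs3 v = true := slots_step fs3 274026 250 274276 s3u935 s3c936 rfl
theorem s3u937 : ∀ v, 1 ≤ v → v ≤ 274526 → fs3 v = true := slots_step fs3 274276 250 274526 s3u936 s3c937 rfl
theorem s3u938 : ∀ v, 1 ≤ v → v ≤ 274781 → fs3 v = true := slots_step fs3 274526 255 274781 s3u937 s3c938 rfl
theorem s3u939 : ∀ v, 1 ≤ v → v ≤ 275031 → fs3 v = true := slots_step fs3 274781 250 275031 s3u938 s3c939 rfl
theorem s3u940 : ∀ v, 1 ≤ v → v ≤ 275274 → fs3 v = true := slots_step fs3 275031 243 275274 s3u939 s3c940 rfl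
theorem s3u941 : ∀ v, 1 ≤ v → v ≤ 275535 → fs3 v = true := slots_step fs3 275274 261 275535 s3u940 s3c941 rfl
theorem s3u942 : ∀ v, 1 ≤ v → v ≤ 275784 → fs3 v = true := slots_step fs3 275535 249 275784 s3u941 s3c942 rfl
theorem s3u943 : ∀ v, 1 ≤ v → v ≤ 276042 → fs3 v = true := slots_step fs3 275784 258 276042 s3u942 s3c943 rfl
theorem s3u944 : ∀ v, 1 ≤ v → v ≤ 276295 → fs3 v = true := slots_step fs3 276042 253 276295 s3u943 s3c944 rfl
theorem s3u945 : ∀ v, 1 ≤ v → v ≤ 276559 → fs3 v = true := slots_step fs3 276295 264 276559 s3u944 s3c945 rfl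
theorem s3u946 : ∀ v, 1 ≤ v → v ≤ 276814 → fs3 v = true := slots_step fs3 276559 255 276814 s3u945 s3c946 rfl
theorem s3u947 : ∀ v, 1 ≤ v → v ≤ 277087 → fs3 v = true := slots_step fs3 276814 273 277087 s3u946 s3c947 rfl
theorem s3u948 : ∀ v, 1 ≤ v → v ≤ 277349 → fs3 v = true := slots_step fs3 277087 262 277349 s3u947 s3c948 rfl
theorem s3u949 : ∀ v, 1 ≤ v → v ≤ 277611 → fs3 v = true := slots_step fs3 277349 262 277611 s3u948 s3c949 rfl
theorem s3u950 : ∀ v, 1 ≤ v → v ≤ 277884 → fs3 v = true := slots_step fs3 277611 273 277884 s3u949 s3c950 rfl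
theorem s3u951 : ∀ v, 1 ≤ v → v ≤ 278139 → fs3 v = true := slots_step fs3 277884 255 278139 s3u950 s3c951 rfl
theorem s3u952 : ∀ v, 1 ≤ v → v ≤ 278393 → fs3 v = true := slots_step fs3 278139 254 278393 s3u951 s3c952 rfl
theorem s3u953 : ∀ v, 1 ≤ v → v ≤ 278644 → fs3 v = true := slots_step fs3 278393 251 278644 s3u952 s3c953 rfl
theorem s3u954 : ∀ v, 1 ≤ v → v ≤ 278900 → fs3 v = true := slots_step fs3 278644 256 278900 s3u953 s3c954 rfl
theorem s3u955 : ∀ v, 1 ≤ v → v ≤ 279169 → fs3 v = true := slots_step fs3 278900 269 279169 s3u954 s3c955 rfl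
theorem s3u956 : ∀ v, 1 ≤ v → v ≤ 279412 → fs3 v = true := slots_step fs3 279169 243 279412 s3u955 s3c956 rfl
theorem s3u957 : ∀ v, 1 ≤ v → v ≤ 279670 → fs3 v = true := slots_step fs3 279412 258 279670 s3u956 s3c957 rfl
theorem s3u958 : ∀ v, 1 ≤ v → v ≤ 279930 → fs3 v = true := slots_step fs3 279670 260 279930 s3u957 s3c958 rfl
theorem s3u959 : ∀ v, 1 ≤ v → v ≤ 280190 → fs3 v = true := slots_step fs3 279930 260 280190 s3u958 s3c959 rfl
theorem s3u960 : ∀ v, 1 ≤ v → v ≤ 280442 → fs3 v = true := slots_step fs3 280190 252 280442 s3u959 s3c960 rfl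
theorem s3u961 : ∀ v, 1 ≤ v → v ≤ 280722 → fs3 v = true := slots_step fs3 280442 280 280722 s3u960 s3c961 rfl
theorem s3u962 : ∀ v, 1 ≤ v → v ≤ 281001 → fs3 v = true := slots_step fs3 280722 279 281001 s3u961 s3c962 rfl
theorem s3u963 : ∀ v, 1 ≤ v → v ≤ 281273 → fs3 v = true := slots_step fs3 281001 272 281273 s3u962 s3c963 rfl
theorem s3u964 : ∀ v, 1 ≤ v → v ≤ 281531 → fs3 v = true := slots_step fs3 281273 258 281531 s3u963 s3c964 rfl
theorem s3u965 : ∀ v, 1 ≤ v → v ≤ 281788 → fs3 v = true := slots_step fs3 281531 257 281788 s3u964 s3c965 rfl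
theorem s3u966 : ∀ v, 1 ≤ v → v ≤ 282054 → fs3 v = true := slots_step fs3 281788 266 282054 s3u965 s3c966 rfl
theorem s3u967 : ∀ v, 1 ≤ v → v ≤ 282319 → fs3 v = true := slots_step fs3 282054 265 282319 s3u966 s3c967 rfl
theorem s3u968 : ∀ v, 1 ≤ v → v ≤ 282570 → fs3 v = true := slots_step fs3 282319 251 282570 s3u967 s3c968 rfl
theorem s3u969 : ∀ v, 1 ≤ v → v ≤ 282846 → fs3 v = true := slots_step fs3 282570 276 282846 s3u968 s3c969 rfl
theorem s3u970 : ∀ v, 1 ≤ v → v ≤ 283120 → fs3 v = true := slots_step fs3 282846 274 283120 s3u969 s3c970 rfl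
theorem s3u971 : ∀ v, 1 ≤ v → v ≤ 283392 → fs3 v = true := slots_step fs3 283120 272 283392 s3u970 s3c971 rfl
theorem s3u972 : ∀ v, 1 ≤ v → v ≤ 283661 → fs3 v = true := slots_step fs3 283392 269 283661 s3u971 s3c972 rfl
theorem s3u973 : ∀ v, 1 ≤ v → v ≤ 283928 → fs3 v = true := slots_step fs3 283661 267 283928 s3u972 s3c973 rfl
theorem s3u974 : ∀ v, 1 ≤ v → v ≤ 284192 → fs3 v = true := slots_step fs3 283928 264 284192 s3u973 s3c974 rfl
theorem s3u975 : ∀ v, 1 ≤ v → v ≤ 284456 → fs3 v = true := slots_step fs3 284192 264 284456 s3u974 s3c975 rfl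
theorem s3u976 : ∀ v, 1 ≤ v → v ≤ 284728 → fs3 v = true := slots_step fs3 284456 272 284728 s3u975 s3c976 rfl
theorem s3u977 : ∀ v, 1 ≤ v → v ≤ 284973 → fs3 v = true := slots_step fs3 284728 245 284973 s3u976 s3c977 rfl
theorem s3u978 : ∀ v, 1 ≤ v → v ≤ 285232 → fs3 v = true := slots_step fs3 284973 259 285232 s3u977 s3c978 rfl
theorem s3u979 : ∀ v, 1 ≤ v → v ≤ 285475 → fs3 v = true := slots_step fs3 285232 243 285475 s3u978 s3c979 rfl
theorem s3u980 : ∀ v, 1 ≤ v → v ≤ 285750 → fs3 v = true := slots_step fs3 285475 275 285750 s3u979 s3c980 rfl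
theorem s3u981 : ∀ v, 1 ≤ v → v ≤ 286024 → fs3 v = true := slots_step fs3 285750 274 286024 s3u980 s3c981 rfl
theorem s3u982 : ∀ v, 1 ≤ v → v ≤ 286298 → fs3 v = true := slots_step fs3 286024 274 286298 s3u981 s3c982 rfl
theorem s3u983 : ∀ v, 1 ≤ v → v ≤ 286558 → fs3 v = true := slots_step fs3 286298 260 286558 s3u982 s3c983 rfl
theorem s3u984 : ∀ v, 1 ≤ v → v ≤ 286827 → fs3 v = true := slots_step fs3 286558 269 286827 s3u983 s3c984 rfl
theorem s3u985 : ∀ v, 1 ≤ v → v ≤ 287079 → fs3 v = true := slots_step fs3 286827 252 287079 s3u984 s3c985 rfl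
theorem s3u986 : ∀ v, 1 ≤ v → v ≤ 287351 → fs3 v = true := slots_step fs3 287079 272 287351 s3u985 s3c986 rfl
theorem s3u987 : ∀ v, 1 ≤ v → v ≤ 287621 → fs3 v = true := slots_step fs3 287351 270 287621 s3u986 s3c987 rfl
theorem s3u988 : ∀ v, 1 ≤ v → v ≤ 287884 → fs3 v = true := slots_step fs3 287621 263 287884 s3u987 s3c988 rfl
theorem s3u989 : ∀ v, 1 ≤ v → v ≤ 288155 → fs3 v = true := slots_step fs3 287884 271 288155 s3u988 s3c989 rfl
theorem s3u990 : ∀ v, 1 ≤ v → v ≤ 288409 → fs3 v = true := slots_step fs3 288155 254 288409 s3u989 s3c990 rfl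
theorem s3u991 : ∀ v, 1 ≤ v → v ≤ 288681 → fs3 v = true := slots_step fs3 288409 272 288681 s3u990 s3c991 rfl
theorem s3u992 : ∀ v, 1 ≤ v → v ≤ 288942 → fs3 v = true := slots_step fs3 288681 261 288942 s3u991 s3c992 rfl
theorem s3u993 : ∀ v, 1 ≤ v → v ≤ 289205 → fs3 v = true := slots_step fs3 288942 263 289205 s3u992 s3c993 rfl
theorem s3u994 : ∀ v, 1 ≤ v → v ≤ 289469 → fs3 v = true := slots_step fs3 289205 264 289469 s3u993 s3c994 rfl
theorem s3u995 : ∀ v, 1 ≤ v → v ≤ 289715 → fs3 v = true := slots_step fs3 289469 246 289715 s3u994 s3c995 rfl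
theorem s3u996 : ∀ v, 1 ≤ v → v ≤ 289981 → fs3 v = true := slots_step fs3 289715 266 289981 s3u995 s3c996 rfl
theorem s3u997 : ∀ v, 1 ≤ v → v ≤ 290245 → fs3 v = true := slots_step fs3 289981 264 290245 s3u996 s3c997 rfl
theorem s3u998 : ∀ v, 1 ≤ v → v ≤ 290514 → fs3 v = true := slots_step fs3 290245 269 290514 s3u997 s3c998 rfl
theorem s3u999 : ∀ v, 1 ≤ v → v ≤ 290785 → fs3 v = true := slots_step fs3 290514 271 290785 s3u998 s3c999 rfl
theorem s3u1000 : ∀ v, 1 ≤ v → v ≤ 291049 → fs3 v = true := slots_step fs3 290785 264 291049 s3u999 s3c1000 rfl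
theorem s3u1001 : ∀ v, 1 ≤ v → v ≤ 291306 → fs3 v = true := slots_step fs3 291049 257 291306 s3u1000 s3c1001 rfl
theorem s3u1002 : ∀ v, 1 ≤ v → v ≤ 291569 → fs3 v = true := slots_step fs3 291306 263 291569 s3u1001 s3c1002 rfl
theorem s3u1003 : ∀ v, 1 ≤ v → v ≤ 291831 → fs3 v = true := slots_step fs3 291569 262 291831 s3u1002 s3c1003 rfl
theorem s3u1004 : ∀ v, 1 ≤ v → v ≤ 292096 → fs3 v = true := slots_step fs3 291831 265 292096 s3u1003 s3c1004 rfl
theorem s3u1005 : ∀ v, 1 ≤ v → v ≤ 292354 → fs3 v = true := slots_step fs3 292096 258 292354 s3u1004 s3c1005 rfl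
theorem s3u1006 : ∀ v, 1 ≤ v → v ≤ 292619 → fs3 v = true := slots_step fs3 292354 265 292619 s3u1005 s3c1006 rfl
theorem s3u1007 : ∀ v, 1 ≤ v → v ≤ 292888 → fs3 v = true := slots_step fs3 292619 269 292888 s3u1006 s3c1007 rfl
theorem s3u1008 : ∀ v, 1 ≤ v → v ≤ 293172 → fs3 v = true := slots_step fs3 292888 284 293172 s3u1007 s3c1008 rfl
theorem s3u1009 : ∀ v, 1 ≤ v → v ≤ 293433 → fs3 v = true := slots_step fs3 293172 261 293433 s3u1008 s3c1009 rfl
theorem s3u1010 : ∀ v, 1 ≤ v → v ≤ 293704 → fs3 v = true := slots_step fs3 293433 271 293704 s3u1009 s3c1010 rfl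
theorem s3u1011 : ∀ v, 1 ≤ v → v ≤ 293974 → fs3 v = true := slots_step fs3 293704 270 293974 s3u1010 s3c1011 rfl
theorem s3u1012 : ∀ v, 1 ≤ v → v ≤ 294255 → fs3 v = true := slots_step fs3 293974 281 294255 s3u1011 s3c1012 rfl
theorem s3u1013 : ∀ v, 1 ≤ v → v ≤ 294523 → fs3 v = true := slots_step fs3 294255 268 294523 s3u1012 s3c1013 rfl
theorem s3u1014 : ∀ v, 1 ≤ v → v ≤ 294788 → fs3 v = true := slots_step fs3 294523 265 294788 s3u1013 s3c1014 rfl
theorem s3u1015 : ∀ v, 1 ≤ v → v ≤ 295068 → fs3 v = true := slots_step fs3 294788 280 295068 s3u1014 s3c1015 rfl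
theorem s3u1016 : ∀ v, 1 ≤ v → v ≤ 295346 → fs3 v = true := slots_step fs3 295068 278 295346 s3u1015 s3c1016 rfl
theorem s3u1017 : ∀ v, 1 ≤ v → v ≤ 295619 → fs3 v = true := slots_step fs3 295346 273 295619 s3u1016 s3c1017 rfl
theorem s3u1018 : ∀ v, 1 ≤ v → v ≤ 295884 → fs3 v = true := slots_step fs3 295619 265 295884 s3u1017 s3c1018 rfl
theorem s3u1019 : ∀ v, 1 ≤ v → v ≤ 296165 → fs3 v = true := slots_step fs3 295884 281 296165 s3u1018 s3c1019 rfl
theorem s3u1020 : ∀ v, 1 ≤ v → v ≤ 296432 → fs3 v = true := slots_step fs3 296165 267 296432 s3u1019 s3c1020 rfl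
theorem s3u1021 : ∀ v, 1 ≤ v → v ≤ 296712 → fs3 v = true := slots_step fs3 296432 280 296712 s3u1020 s3c1021 rfl
theorem s3u1022 : ∀ v, 1 ≤ v → v ≤ 296999 → fs3 v = true := slots_step fs3 296712 287 296999 s3u1021 s3c1022 rfl
theorem s3u1023 : ∀ v, 1 ≤ v → v ≤ 297273 → fs3 v = true := slots_step fs3 296999 274 297273 s3u1022 s3c1023 rfl
theorem s3u1024 : ∀ v, 1 ≤ v → v ≤ 297519 → fs3 v = true := slots_step fs3 297273 246 297519 s3u1023 s3c1024 rfl
theorem s3u1025 : ∀ v, 1 ≤ v → v ≤ 297772 → fs3 v = true := slots_step fs3 297519 253 297772 s3u1024 s3c1025 rfl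
theorem s3u1026 : ∀ v, 1 ≤ v → v ≤ 298030 → fs3 v = true := slots_step fs3 297772 258 298030 s3u1025 s3c1026 rfl
theorem s3u1027 : ∀ v, 1 ≤ v → v ≤ 298285 → fs3 v = true := slots_step fs3 298030 255 298285 s3u1026 s3c1027 rfl
theorem s3u1028 : ∀ v, 1 ≤ v → v ≤ 298530 → fs3 v = true := slots_step fs3 298285 245 298530 s3u1027 s3c1028 rfl
theorem s3u1029 : ∀ v, 1 ≤ v → v ≤ 298782 → fs3 v = true := slots_step fs3 298530 252 298782 s3u1028 s3c1029 rfl
theorem s3u1030 : ∀ v, 1 ≤ v → v ≤ 299033 → fs3 v = true := slots_step fs3 298782 251 299033 s3u1029 s3c1030 rfl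
theorem s3u1031 : ∀ v, 1 ≤ v → v ≤ 299282 → fs3 v = true := slots_step fs3 299033 249 299282 s3u1030 s3c1031 rfl
theorem s3u1032 : ∀ v, 1 ≤ v → v ≤ 299529 → fs3 v = true := slots_step fs3 299282 247 299529 s3u1031 s3c1032 rfl
theorem s3u1033 : ∀ v, 1 ≤ v → v ≤ 299778 → fs3 v = true := slots_step fs3 299529 249 299778 s3u1032 s3c1033 rfl
theorem s3u1034 : ∀ v, 1 ≤ v → v ≤ 300021 → fs3 v = true := slots_step fs3 299778 243 300021 s3u1033 s3c1034 rfl
theorem s3u1035 : ∀ v, 1 ≤ v → v ≤ 300261 → fs3 v = true := slots_step fs3 300021 240 300261 s3u1034 s3c1035 rfl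
theorem s3u1036 : ∀ v, 1 ≤ v → v ≤ 300517 → fs3 v = true := slots_step fs3 300261 256 300517 s3u1035 s3c1036 rfl
theorem s3u1037 : ∀ v, 1 ≤ v → v ≤ 300759 → fs3 v = true := slots_step fs3 300517 242 300759 s3u1036 s3c1037 rfl
theorem s3u1038 : ∀ v, 1 ≤ v → v ≤ 301005 → fs3 v = true := slots_step fs3 300759 246 301005 s3u1037 s3c1038 rfl
theorem s3u1039 : ∀ v, 1 ≤ v → v ≤ 301259 → fs3 v = true := slots_step fs3 301005 254 301259 s3u1038 s3c1039 rfl
theorem s3u1040 : ∀ v, 1 ≤ v → v ≤ 301512 → fs3 v = true := slots_step fs3 301259 253 301512 s3u1039 s3c1040 rfl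
theorem s3u1041 : ∀ v, 1 ≤ v → v ≤ 301766 → fs3 v = true := slots_step fs3 301512 254 301766 s3u1040 s3c1041 rfl
theorem s3u1042 : ∀ v, 1 ≤ v → v ≤ 302027 → fs3 v = true := slots_step fs3 301766 261 302027 s3u1041 s3c1042 rfl
theorem s3u1043 : ∀ v, 1 ≤ v → v ≤ 302293 → fs3 v = true := slots_step fs3 302027 266 302293 s3u1042 s3c1043 rfl
theorem s3u1044 : ∀ v, 1 ≤ v → v ≤ 302556 → fs3 v = true := slots_step fs3 302293 263 302556 s3u1043 s3c1044 rfl
theorem s3u1045 : ∀ v, 1 ≤ v → v ≤ 302815 → fs3 v = true := slots_step fs3 302556 259 302815 s3u1044 s3c1045 rfl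
theorem s3u1046 : ∀ v, 1 ≤ v → v ≤ 303071 → fs3 v = true := slots_step fs3 302815 256 303071 s3u1045 s3c1046 rfl
theorem s3u1047 : ∀ v, 1 ≤ v → v ≤ 303314 → fs3 v = true := slots_step fs3 303071 243 303314 s3u1046 s3c1047 rfl
theorem s3u1048 : ∀ v, 1 ≤ v → v ≤ 303568 → fs3 v = true := slots_step fs3 303314 254 303568 s3u1047 s3c1048 rfl
theorem s3u1049 : ∀ v, 1 ≤ v → v ≤ 303828 → fs3 v = true := slots_step fs3 303568 260 303828 s3u1048 s3c1049 rfl
theorem s3u1050 : ∀ v, 1 ≤ v → v ≤ 304086 → fs3 v = true := slots_step fs3 303828 258 304086 s3u1049 s3c1050 rfl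
theorem s3u1051 : ∀ v, 1 ≤ v → v ≤ 304333 → fs3 v = true := slots_step fs3 304086 247 304333 s3u1050 s3c1051 rfl
theorem s3u1052 : ∀ v, 1 ≤ v → v ≤ 304589 → fs3 v = true := slots_step fs3 304333 256 304589 s3u1051 s3c1052 rfl
theorem s3u1053 : ∀ v, 1 ≤ v → v ≤ 304850 → fs3 v = true := slots_step fs3 304589 261 304850 s3u1052 s3c1053 rfl
theorem s3u1054 : ∀ v, 1 ≤ v → v ≤ 305097 → fs3 v = true := slots_step fs3 304850 247 305097 s3u1053 s3c1054 rfl
theorem s3u1055 : ∀ v, 1 ≤ v → v ≤ 305365 → fs3 v = true := slots_step fs3 305097 268 305365 s3u1054 s3c1055 rfl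
theorem s3u1056 : ∀ v, 1 ≤ v → v ≤ 305635 → fs3 v = true := slots_step fs3 305365 270 305635 s3u1055 s3c1056 rfl
theorem s3u1057 : ∀ v, 1 ≤ v → v ≤ 305903 → fs3 v = true := slots_step fs3 305635 268 305903 s3u1056 s3c1057 rfl
theorem s3u1058 : ∀ v, 1 ≤ v → v ≤ 306159 → fs3 v = true := slots_step fs3 305903 256 306159 s3u1057 s3c1058 rfl
theorem s3u1059 : ∀ v, 1 ≤ v → v ≤ 306415 → fs3 v = true := slots_step fs3 306159 256 306415 s3u1058 s3c1059 rfl
theorem s3u1060 : ∀ v, 1 ≤ v → v ≤ 306676 → fs3 v = true := slots_step fs3 306415 261 306676 s3u1059 s3c1060 rfl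
theorem s3u1061 : ∀ v, 1 ≤ v → v ≤ 306939 → fs3 v = true := slots_step fs3 306676 263 306939 s3u1060 s3c1061 rfl
theorem s3u1062 : ∀ v, 1 ≤ v → v ≤ 307187 → fs3 v = true := slots_step fs3 306939 248 307187 s3u1061 s3c1062 rfl
theorem s3u1063 : ∀ v, 1 ≤ v → v ≤ 307465 → fs3 v = true := slots_step fs3 307187 278 307465 s3u1062 s3c1063 rfl
theorem s3u1064 : ∀ v, 1 ≤ v → v ≤ 307730 → fs3 v = true := slots_step fs3 307465 265 307730 s3u1063 s3c1064 rfl
theorem s3u1065 : ∀ v, 1 ≤ v → v ≤ 307995 → fs3 v = true := slots_step fs3 307730 265 307995 s3u1064 s3c1065 rfl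
theorem s3u1066 : ∀ v, 1 ≤ v → v ≤ 308256 → fs3 v = true := slots_step fs3 307995 261 308256 s3u1065 s3c1066 rfl
theorem s3u1067 : ∀ v, 1 ≤ v → v ≤ 308523 → fs3 v = true := slots_step fs3 308256 267 308523 s3u1066 s3c1067 rfl
theorem s3u1068 : ∀ v, 1 ≤ v → v ≤ 308780 → fs3 v = true := slots_step fs3 308523 257 308780 s3u1067 s3c1068 rfl
theorem s3u1069 : ∀ v, 1 ≤ v → v ≤ 309045 → fs3 v = true := slots_step fs3 308780 265 309045 s3u1068 s3c1069 rfl
theorem s3u1070 : ∀ v, 1 ≤ v → v ≤ 309286 → fs3 v = true := slots_step fs3 309045 241 309286 s3u1069 s3c1070 rfl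
theorem s3u1071 : ∀ v, 1 ≤ v → v ≤ 309542 → fs3 v = true := slots_step fs3 309286 256 309542 s3u1070 s3c1071 rfl
theorem s3u1072 : ∀ v, 1 ≤ v → v ≤ 309791 → fs3 v = true := slots_step fs3 309542 249 309791 s3u1071 s3c1072 rfl
theorem s3u1073 : ∀ v, 1 ≤ v → v ≤ 310065 → fs3 v = true := slots_step fs3 309791 274 310065 s3u1072 s3c1073 rfl
theorem s3u1074 : ∀ v, 1 ≤ v → v ≤ 310344 → fs3 v = true := slots_step fs3 310065 279 310344 s3u1073 s3c1074 rfl
theorem s3u1075 : ∀ v, 1 ≤ v → v ≤ 310599 → fs3 v = true := slots_step fs3 310344 255 310599 s3u1074 s3c1075 rfl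
theorem s3u1076 : ∀ v, 1 ≤ v → v ≤ 310857 → fs3 v = true := slots_step fs3 310599 258 310857 s3u1075 s3c1076 rfl
theorem s3u1077 : ∀ v, 1 ≤ v → v ≤ 311120 → fs3 v = true := slots_step fs3 310857 263 311120 s3u1076 s3c1077 rfl
theorem s3u1078 : ∀ v, 1 ≤ v → v ≤ 311366 → fs3 v = true := slots_step fs3 311120 246 311366 s3u1077 s3c1078 rfl
theorem s3u1079 : ∀ v, 1 ≤ v → v ≤ 311635 → fs3 v = true := slots_step fs3 311366 269 311635 s3u1078 s3c1079 rfl
theorem s3u1080 : ∀ v, 1 ≤ v → v ≤ 311904 → fs3 v = true := slots_step fs3 311635 269 311904 s3u1079 s3c1080 rfl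
theorem s3u1081 : ∀ v, 1 ≤ v → v ≤ 312167 → fs3 v = true := slots_step fs3 311904 263 312167 s3u1080 s3c1081 rfl
theorem s3u1082 : ∀ v, 1 ≤ v → v ≤ 312417 → fs3 v = true := slots_step fs3 312167 250 312417 s3u1081 s3c1082 rfl
theorem s3u1083 : ∀ v, 1 ≤ v → v ≤ 312687 → fs3 v = true := slots_step fs3 312417 270 312687 s3u1082 s3c1083 rfl
theorem s3u1084 : ∀ v, 1 ≤ v → v ≤ 312942 → fs3 v = true := slots_step fs3 312687 255 312942 s3u1083 s3c1084 rfl
theorem s3u1085 : ∀ v, 1 ≤ v → v ≤ 313197 → fs3 v = true := slots_step fs3 312942 255 313197 s3u1084 s3c1085 rfl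
theorem s3u1086 : ∀ v, 1 ≤ v → v ≤ 313445 → fs3 v = true := slots_step fs3 313197 248 313445 s3u1085 s3c1086 rfl
theorem s3u1087 : ∀ v, 1 ≤ v → v ≤ 313702 → fs3 v = true := slots_step fs3 313445 257 313702 s3u1086 s3c1087 rfl
theorem s3u1088 : ∀ v, 1 ≤ v → v ≤ 313972 → fs3 v = true := slots_step fs3 313702 270 313972 s3u1087 s3c1088 rfl
theorem s3u1089 : ∀ v, 1 ≤ v → v ≤ 314241 → fs3 v = true := slots_step fs3 313972 269 314241 s3u1088 s3c1089 rfl
theorem s3u1090 : ∀ v, 1 ≤ v → v ≤ 314499 → fs3 v = true := slots_step fs3 314241 258 314499 s3u1089 s3c1090 rfl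
theorem s3u1091 : ∀ v, 1 ≤ v → v ≤ 314758 → fs3 v = true := slots_step fs3 314499 259 314758 s3u1090 s3c1091 rfl
theorem s3u1092 : ∀ v, 1 ≤ v → v ≤ 315015 → fs3 v = true := slots_step fs3 314758 257 315015 s3u1091 s3c1092 rfl
theorem s3u1093 : ∀ v, 1 ≤ v → v ≤ 315289 → fs3 v = true := slots_step fs3 315015 274 315289 s3u1092 s3c1093 rfl
theorem s3u1094 : ∀ v, 1 ≤ v → v ≤ 315535 → fs3 v = true := slots_step fs3 315289 246 315535 s3u1093 s3c1094 rfl
theorem s3u1095 : ∀ v, 1 ≤ v → v ≤ 315797 → fs3 v = true := slots_step fs3 315535 262 315797 s3u1094 s3c1095 rfl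
theorem s3u1096 : ∀ v, 1 ≤ v → v ≤ 316069 → fs3 v = true := slots_step fs3 315797 272 316069 s3u1095 s3c1096 rfl
theorem s3u1097 : ∀ v, 1 ≤ v → v ≤ 316339 → fs3 v = true := slots_step fs3 316069 270 316339 s3u1096 s3c1097 rfl
theorem s3u1098 : ∀ v, 1 ≤ v → v ≤ 316604 → fs3 v = true := slots_step fs3 316339 265 316604 s3u1097 s3c1098 rfl
theorem s3u1099 : ∀ v, 1 ≤ v → v ≤ 316880 → fs3 v = true := slots_step fs3 316604 276 316880 s3u1098 s3c1099 rfl
theorem s3u1100 : ∀ v, 1 ≤ v → v ≤ 317134 → fs3 v = true := slots_step fs3 316880 254 317134 s3u1099 s3c1100 rfl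
theorem s3u1101 : ∀ v, 1 ≤ v → v ≤ 317404 → fs3 v = true := slots_step fs3 317134 270 317404 s3u1100 s3c1101 rfl
theorem s3u1102 : ∀ v, 1 ≤ v → v ≤ 317680 → fs3 v = true := slots_step fs3 317404 276 317680 s3u1101 s3c1102 rfl
theorem s3u1103 : ∀ v, 1 ≤ v → v ≤ 317962 → fs3 v = true := slots_step fs3 317680 282 317962 s3u1102 s3c1103 rfl
theorem s3u1104 : ∀ v, 1 ≤ v → v ≤ 318223 → fs3 v = true := slots_step fs3 317962 261 318223 s3u1103 s3c1104 rfl
theorem s3u1105 : ∀ v, 1 ≤ v → v ≤ 318498 → fs3 v = true := slots_step fs3 318223 275 318498 s3u1104 s3c1105 rfl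
theorem s3u1106 : ∀ v, 1 ≤ v → v ≤ 318774 → fs3 v = true := slots_step fs3 318498 276 318774 s3u1105 s3c1106 rfl
theorem s3u1107 : ∀ v, 1 ≤ v → v ≤ 319048 → fs3 v = true := slots_step fs3 318774 274 319048 s3u1106 s3c1107 rfl
theorem s3u1108 : ∀ v, 1 ≤ v → v ≤ 319329 → fs3 v = true := slots_step fs3 319048 281 319329 s3u1107 s3c1108 rfl
theorem s3u1109 : ∀ v, 1 ≤ v → v ≤ 319593 → fs3 v = true := slots_step fs3 319329 264 319593 s3u1108 s3c1109 rfl
theorem s3u1110 : ∀ v, 1 ≤ v → v ≤ 319813 → fs3 v = true := slots_step fs3 319593 220 319813 s3u1109 s3c1110 rfl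
theorem s3u1111 : ∀ v, 1 ≤ v → v ≤ 320059 → fs3 v = true := slots_step fs3 319813 246 320059 s3u1110 s3c1111 rfl
theorem s3u1112 : ∀ v, 1 ≤ v → v ≤ 320313 → fs3 v = true := slots_step fs3 320059 254 320313 s3u1111 s3c1112 rfl
theorem s3u1113 : ∀ v, 1 ≤ v → v ≤ 320559 → fs3 v = true := slots_step fs3 320313 246 320559 s3u1112 s3c1113 rfl
theorem s3u1114 : ∀ v, 1 ≤ v → v ≤ 320801 → fs3 v = true := slots_step fs3 320559 242 320801 s3u1113 s3c1114 rfl
theorem s3u1115 : ∀ v, 1 ≤ v → v ≤ 321047 → fs3 v = true := slots_step fs3 320801 246 321047 s3u1114 s3c1115 rfl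
theorem s3u1116 : ∀ v, 1 ≤ v → v ≤ 321283 → fs3 v = true := slots_step fs3 321047 236 321283 s3u1115 s3c1116 rfl
theorem s3u1117 : ∀ v, 1 ≤ v → v ≤ 321522 → fs3 v = true := slots_step fs3 321283 239 321522 s3u1116 s3c1117 rfl
theorem s3u1118 : ∀ v, 1 ≤ v → v ≤ 321779 → fs3 v = true := slots_step fs3 321522 257 321779 s3u1117 s3c1118 rfl
theorem s3u1119 : ∀ v, 1 ≤ v → v ≤ 322016 → fs3 v = true := slots_step fs3 321779 237 322016 s3u1118 s3c1119 rfl
theorem s3u1120 : ∀ v, 1 ≤ v → v ≤ 322256 → fs3 v = true := slots_step fs3 322016 240 322256 s3u1119 s3c1120 rfl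
theorem s3u1121 : ∀ v, 1 ≤ v → v ≤ 322502 → fs3 v = true := slots_step fs3 322256 246 322502 s3u1120 s3c1121 rfl
theorem s3u1122 : ∀ v, 1 ≤ v → v ≤ 322746 → fs3 v = true := slots_step fs3 322502 244 322746 s3u1121 s3c1122 rfl
theorem s3u1123 : ∀ v, 1 ≤ v → v ≤ 322990 → fs3 v = true := slots_step fs3 322746 244 322990 s3u1122 s3c1123 rfl
theorem s3u1124 : ∀ v, 1 ≤ v → v ≤ 323240 → fs3 v = true := slots_step fs3 322990 250 323240 s3u1123 s3c1124 rfl
theorem s3u1125 : ∀ v, 1 ≤ v → v ≤ 323494 → fs3 v = true := slots_step fs3 323240 254 323494 s3u1124 s3c1125 rfl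
theorem s3u1126 : ∀ v, 1 ≤ v → v ≤ 323741 → fs3 v = true := slots_step fs3 323494 247 323741 s3u1125 s3c1126 rfl
theorem s3u1127 : ∀ v, 1 ≤ v → v ≤ 324008 → fs3 v = true := slots_step fs3 323741 267 324008 s3u1126 s3c1127 rfl
theorem s3u1128 : ∀ v, 1 ≤ v → v ≤ 324261 → fs3 v = true := slots_step fs3 324008 253 324261 s3u1127 s3c1128 rfl
theorem s3u1129 : ∀ v, 1 ≤ v → v ≤ 324521 → fs3 v = true := slots_step fs3 324261 260 324521 s3u1128 s3c1129 rfl
theorem s3u1130 : ∀ v, 1 ≤ v → v ≤ 324762 → fs3 v = true := slots_step fs3 324521 241 324762 s3u1129 s3c1130 rfl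
theorem s3u1131 : ∀ v, 1 ≤ v → v ≤ 325012 → fs3 v = true := slots_step fs3 324762 250 325012 s3u1130 s3c1131 rfl
theorem s3u1132 : ∀ v, 1 ≤ v → v ≤ 325263 → fs3 v = true := slots_step fs3 325012 251 325263 s3u1131 s3c1132 rfl
theorem s3u1133 : ∀ v, 1 ≤ v → v ≤ 325504 → fs3 v = true := slots_step fs3 325263 241 325504 s3u1132 s3c1133 rfl
theorem s3u1134 : ∀ v, 1 ≤ v → v ≤ 325755 → fs3 v = true := slots_step fs3 325504 251 325755 s3u1133 s3c1134 rfl
theorem s3u1135 : ∀ v, 1 ≤ v → v ≤ 326005 → fs3 v = true := slots_step fs3 325755 250 326005 s3u1134 s3c1135 rfl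
theorem s3u1136 : ∀ v, 1 ≤ v → v ≤ 326262 → fs3 v = true := slots_step fs3 326005 257 326262 s3u1135 s3c1136 rfl
theorem s3u1137 : ∀ v, 1 ≤ v → v ≤ 326526 → fs3 v = true := slots_step fs3 326262 264 326526 s3u1136 s3c1137 rfl
theorem s3u1138 : ∀ v, 1 ≤ v → v ≤ 326776 → fs3 v = true := slots_step fs3 326526 250 326776 s3u1137 s3c1138 rfl
theorem s3u1139 : ∀ v, 1 ≤ v → v ≤ 327027 → fs3 v = true := slots_step fs3 326776 251 327027 s3u1138 s3c1139 rfl
theorem s3u1140 : ∀ v, 1 ≤ v → v ≤ 327285 → fs3 v = true := slots_step fs3 327027 258 327285 s3u1139 s3c1140 rfl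
theorem s3u1141 : ∀ v, 1 ≤ v → v ≤ 327543 → fs3 v = true := slots_step fs3 327285 258 327543 s3u1140 s3c1141 rfl
theorem s3u1142 : ∀ v, 1 ≤ v → v ≤ 327790 → fs3 v = true := slots_step fs3 327543 247 327790 s3u1141 s3c1142 rfl
theorem s3u1143 : ∀ v, 1 ≤ v → v ≤ 328067 → fs3 v = true := slots_step fs3 327790 277 328067 s3u1142 s3c1143 rfl
theorem s3u1144 : ∀ v, 1 ≤ v → v ≤ 328323 → fs3 v = true := slots_step fs3 328067 256 328323 s3u1143 s3c1144 rfl
theorem s3u1145 : ∀ v, 1 ≤ v → v ≤ 328586 → fs3 v = true := slots_step fs3 328323 263 328586 s3u1144 s3c1145 rfl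
theorem s3u1146 : ∀ v, 1 ≤ v → v ≤ 328845 → fs3 v = true := slots_step fs3 328586 259 328845 s3u1145 s3c1146 rfl
theorem s3u1147 : ∀ v, 1 ≤ v → v ≤ 329105 → fs3 v = true := slots_step fs3 328845 260 329105 s3u1146 s3c1147 rfl
theorem s3u1148 : ∀ v, 1 ≤ v → v ≤ 329352 → fs3 v = true := slots_step fs3 329105 247 329352 s3u1147 s3c1148 rfl
theorem s3u1149 : ∀ v, 1 ≤ v → v ≤ 329610 → fs3 v = true := slots_step fs3 329352 258 329610 s3u1148 s3c1149 rfl
theorem s3u1150 : ∀ v, 1 ≤ v → v ≤ 329886 → fs3 v = true := slots_step fs3 329610 276 329886 s3u1149 s3c1150 rfl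
theorem s3u1151 : ∀ v, 1 ≤ v → v ≤ 330136 → fs3 v = true := slots_step fs3 329886 250 330136 s3u1150 s3c1151 rfl
theorem s3u1152 : ∀ v, 1 ≤ v → v ≤ 330390 → fs3 v = true := slots_step fs3 330136 254 330390 s3u1151 s3c1152 rfl
theorem s3u1153 : ∀ v, 1 ≤ v → v ≤ 330645 → fs3 v = true := slots_step fs3 330390 255 330645 s3u1152 s3c1153 rfl
theorem s3u1154 : ∀ v, 1 ≤ v → v ≤ 330897 → fs3 v = true := slots_step fs3 330645 252 330897 s3u1153 s3c1154 rfl
theorem s3u1155 : ∀ v, 1 ≤ v → v ≤ 331161 → fs3 v = true := slots_step fs3 330897 264 331161 s3u1154 s3c1155 rfl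
theorem s3u1156 : ∀ v, 1 ≤ v → v ≤ 331425 → fs3 v = true := slots_step fs3 331161 264 331425 s3u1155 s3c1156 rfl
theorem s3u1157 : ∀ v, 1 ≤ v → v ≤ 331676 → fs3 v = true := slots_step fs3 331425 251 331676 s3u1156 s3c1157 rfl
theorem s3u1158 : ∀ v, 1 ≤ v → v ≤ 331928 → fs3 v = true := slots_step fs3 331676 252 331928 s3u1157 s3c1158 rfl
theorem s3u1159 : ∀ v, 1 ≤ v → v ≤ 332168 → fs3 v = true := slots_step fs3 331928 240 332168 s3u1158 s3c1159 rfl
theorem s3u1160 : ∀ v, 1 ≤ v → v ≤ 332419 → fs3 v = true := slots_step fs3 332168 251 332419 s3u1159 s3c1160 rfl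
theorem s3u1161 : ∀ v, 1 ≤ v → v ≤ 332682 → fs3 v = true := slots_step fs3 332419 263 332682 s3u1160 s3c1161 rfl
theorem s3u1162 : ∀ v, 1 ≤ v → v ≤ 332935 → fs3 v = true := slots_step fs3 332682 253 332935 s3u1161 s3c1162 rfl
theorem s3u1163 : ∀ v, 1 ≤ v → v ≤ 333194 → fs3 v = true := slots_step fs3 332935 259 333194 s3u1162 s3c1163 rfl
theorem s3u1164 : ∀ v, 1 ≤ v → v ≤ 333455 → fs3 v = true := slots_step fs3 333194 261 333455 s3u1163 s3c1164 rfl
theorem s3u1165 : ∀ v, 1 ≤ v → v ≤ 333701 → fs3 v = true := slots_step fs3 333455 246 333701 s3u1164 s3c1165 rfl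
theorem s3u1166 : ∀ v, 1 ≤ v → v ≤ 333963 → fs3 v = true := slots_step fs3 333701 262 333963 s3u1165 s3c1166 rfl
theorem s3u1167 : ∀ v, 1 ≤ v → v ≤ 334236 → fs3 v = true := slots_step fs3 333963 273 334236 s3u1166 s3c1167 rfl
theorem s3u1168 : ∀ v, 1 ≤ v → v ≤ 334495 → fs3 v = true := slots_step fs3 334236 259 334495 s3u1167 s3c1168 rfl
theorem s3u1169 : ∀ v, 1 ≤ v → v ≤ 334763 → fs3 v = true := slots_step fs3 334495 268 334763 s3u1168 s3c1169 rfl
theorem s3u1170 : ∀ v, 1 ≤ v → v ≤ 335045 → fs3 v = true := slots_step fs3 334763 282 335045 s3u1169 s3c1170 rfl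
theorem s3u1171 : ∀ v, 1 ≤ v → v ≤ 335311 → fs3 v = true := slots_step fs3 335045 266 335311 s3u1170 s3c1171 rfl
theorem s3u1172 : ∀ v, 1 ≤ v → v ≤ 335573 → fs3 v = true := slots_step fs3 335311 262 335573 s3u1171 s3c1172 rfl
theorem s3u1173 : ∀ v, 1 ≤ v → v ≤ 335843 → fs3 v = true := slots_step fs3 335573 270 335843 s3u1172 s3c1173 rfl
theorem s3u1174 : ∀ v, 1 ≤ v → v ≤ 336105 → fs3 v = true := slots_step fs3 335843 262 336105 s3u1173 s3c1174 rfl
theorem s3u1175 : ∀ v, 1 ≤ v → v ≤ 336373 → fs3 v = true := slots_step fs3 336105 268 336373 s3u1174 s3c1175 rfl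
theorem s3u1176 : ∀ v, 1 ≤ v → v ≤ 336595 → fs3 v = true := slots_step fs3 336373 222 336595 s3u1175 s3c1176 rfl
theorem s3u1177 : ∀ v, 1 ≤ v → v ≤ 336821 → fs3 v = true := slots_step fs3 336595 226 336821 s3u1176 s3c1177 rfl
theorem s3u1178 : ∀ v, 1 ≤ v → v ≤ 337063 → fs3 v = true := slots_step fs3 336821 242 337063 s3u1177 s3c1178 rfl
theorem s3u1179 : ∀ v, 1 ≤ v → v ≤ 337306 → fs3 v = true := slots_step fs3 337063 243 337306 s3u1178 s3c1179 rfl
theorem s3u1180 : ∀ v, 1 ≤ v → v ≤ 337546 → fs3 v = true := slots_step fs3 337306 240 337546 s3u1179 s3c1180 rfl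
theorem s3u1181 : ∀ v, 1 ≤ v → v ≤ 337783 → fs3 v = true := slots_step fs3 337546 237 337783 s3u1180 s3c1181 rfl
theorem s3u1182 : ∀ v, 1 ≤ v → v ≤ 338036 → fs3 v = true := slots_step fs3 337783 253 338036 s3u1181 s3c1182 rfl
theorem s3u1183 : ∀ v, 1 ≤ v → v ≤ 338279 → fs3 v = true := slots_step fs3 338036 243 338279 s3u1182 s3c1183 rfl
theorem s3u1184 : ∀ v, 1 ≤ v → v ≤ 338514 → fs3 v = true := slots_step fs3 338279 235 338514 s3u1183 s3c1184 rfl
theorem s3u1185 : ∀ v, 1 ≤ v → v ≤ 338750 → fs3 v = true := slots_step fs3 338514 236 338750 s3u1184 s3c1185 rfl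
theorem s3u1186 : ∀ v, 1 ≤ v → v ≤ 339001 → fs3 v = true := slots_step fs3 338750 251 339001 s3u1185 s3c1186 rfl
theorem s3u1187 : ∀ v, 1 ≤ v → v ≤ 339248 → fs3 v = true := slots_step fs3 339001 247 339248 s3u1186 s3c1187 rfl
theorem s3u1188 : ∀ v, 1 ≤ v → v ≤ 339498 → fs3 v = true := slots_step fs3 339248 250 339498 s3u1187 s3c1188 rfl
theorem s3u1189 : ∀ v, 1 ≤ v → v ≤ 339756 → fs3 v = true := slots_step fs3 339498 258 339756 s3u1188 s3c1189 rfl
theorem s3u1190 : ∀ v, 1 ≤ v → v ≤ 340003 → fs3 v = true := slots_step fs3 339756 247 340003 s3u1189 s3c1190 rfl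
theorem s3u1191 : ∀ v, 1 ≤ v → v ≤ 340250 → fs3 v = true := slots_step fs3 340003 247 340250 s3u1190 s3c1191 rfl
theorem s3u1192 : ∀ v, 1 ≤ v → v ≤ 340491 → fs3 v = true := slots_step fs3 340250 241 340491 s3u1191 s3c1192 rfl
theorem s3u1193 : ∀ v, 1 ≤ v → v ≤ 340737 → fs3 v = true := slots_step fs3 340491 246 340737 s3u1192 s3c1193 rfl
theorem s3u1194 : ∀ v, 1 ≤ v → v ≤ 340996 → fs3 v = true := slots_step fs3 340737 259 340996 s3u1193 s3c1194 rfl
theorem s3u1195 : ∀ v, 1 ≤ v → v ≤ 341246 → fs3 v = true := slots_step fs3 340996 250 341246 s3u1194 s3c1195 rfl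
theorem s3u1196 : ∀ v, 1 ≤ v → v ≤ 341488 → fs3 v = true := slots_step fs3 341246 242 341488 s3u1195 s3c1196 rfl
theorem s3u1197 : ∀ v, 1 ≤ v → v ≤ 341746 → fs3 v = true := slots_step fs3 341488 258 341746 s3u1196 s3c1197 rfl
theorem s3u1198 : ∀ v, 1 ≤ v → v ≤ 341996 → fs3 v = true := slots_step fs3 341746 250 341996 s3u1197 s3c1198 rfl
theorem s3u1199 : ∀ v, 1 ≤ v → v ≤ 342262 → fs3 v = true := slots_step fs3 341996 266 342262 s3u1198 s3c1199 rfl
theorem s3u1200 : ∀ v, 1 ≤ v → v ≤ 342513 → fs3 v = true := slots_step fs3 342262 251 342513 s3u1199 s3c1200 rfl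
theorem s3u1201 : ∀ v, 1 ≤ v → v ≤ 342775 → fs3 v = true := slots_step fs3 342513 262 342775 s3u1200 s3c1201 rfl
theorem s3u1202 : ∀ v, 1 ≤ v → v ≤ 343020 → fs3 v = true := slots_step fs3 342775 245 343020 s3u1201 s3c1202 rfl
theorem s3u1203 : ∀ v, 1 ≤ v → v ≤ 343275 → fs3 v = true := slots_step fs3 343020 255 343275 s3u1202 s3c1203 rfl
theorem s3u1204 : ∀ v, 1 ≤ v → v ≤ 343529 → fs3 v = true := slots_step fs3 343275 254 343529 s3u1203 s3c1204 rfl
theorem s3u1205 : ∀ v, 1 ≤ v → v ≤ 343785 → fs3 v = true := slots_step fs3 343529 256 343785 s3u1204 s3c1205 rfl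
theorem s3u1206 : ∀ v, 1 ≤ v → v ≤ 344027 → fs3 v = true := slots_step fs3 343785 242 344027 s3u1205 s3c1206 rfl
theorem s3u1207 : ∀ v, 1 ≤ v → v ≤ 344282 → fs3 v = true := slots_step fs3 344027 255 344282 s3u1206 s3c1207 rfl
theorem s3u1208 : ∀ v, 1 ≤ v → v ≤ 344536 → fs3 v = true := slots_step fs3 344282 254 344536 s3u1207 s3c1208 rfl
theorem s3u1209 : ∀ v, 1 ≤ v → v ≤ 344778 → fs3 v = true := slots_step fs3 344536 242 344778 s3u1208 s3c1209 rfl
theorem s3u1210 : ∀ v, 1 ≤ v → v ≤ 345024 → fs3 v = true := slots_step fs3 344778 246 345024 s3u1209 s3c1210 rfl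
theorem s3u1211 : ∀ v, 1 ≤ v → v ≤ 345275 → fs3 v = true := slots_step fs3 345024 251 345275 s3u1210 s3c1211 rfl
theorem s3u1212 : ∀ v, 1 ≤ v → v ≤ 345524 → fs3 v = true := slots_step fs3 345275 249 345524 s3u1211 s3c1212 rfl
theorem s3u1213 : ∀ v, 1 ≤ v → v ≤ 345789 → fs3 v = true := slots_step fs3 345524 265 345789 s3u1212 s3c1213 rfl
theorem s3u1214 : ∀ v, 1 ≤ v → v ≤ 346050 → fs3 v = true := slots_step fs3 345789 261 346050 s3u1213 s3c1214 rfl
theorem s3u1215 : ∀ v, 1 ≤ v → v ≤ 346320 → fs3 v = true := slots_step fs3 346050 270 346320 s3u1214 s3c1215 rfl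
theorem s3u1216 : ∀ v, 1 ≤ v → v ≤ 346575 → fs3 v = true := slots_step fs3 346320 255 346575 s3u1215 s3c1216 rfl
theorem s3u1217 : ∀ v, 1 ≤ v → v ≤ 346829 → fs3 v = true := slots_step fs3 346575 254 346829 s3u1216 s3c1217 rfl
theorem s3u1218 : ∀ v, 1 ≤ v → v ≤ 347078 → fs3 v = true := slots_step fs3 346829 249 347078 s3u1217 s3c1218 rfl
theorem s3u1219 : ∀ v, 1 ≤ v → v ≤ 347310 → fs3 v = true := slots_step fs3 347078 232 347310 s3u1218 s3c1219 rfl
theorem s3u1220 : ∀ v, 1 ≤ v → v ≤ 347553 → fs3 v = true := slots_step fs3 347310 243 347553 s3u1219 s3c1220 rfl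
theorem s3u1221 : ∀ v, 1 ≤ v → v ≤ 347795 → fs3 v = true := slots_step fs3 347553 242 347795 s3u1220 s3c1221 rfl
theorem s3u1222 : ∀ v, 1 ≤ v → v ≤ 348039 → fs3 v = true := slots_step fs3 347795 244 348039 s3u1221 s3c1222 rfl
theorem s3u1223 : ∀ v, 1 ≤ v → v ≤ 348282 → fs3 v = true := slots_step fs3 348039 243 348282 s3u1222 s3c1223 rfl
theorem s3u1224 : ∀ v, 1 ≤ v → v ≤ 348526 → fs3 v = true := slots_step fs3 348282 244 348526 s3u1223 s3c1224 rfl
theorem s3u1225 : ∀ v, 1 ≤ v → v ≤ 348771 → fs3 v = true := slots_step fs3 348526 245 348771 s3u1224 s3c1225 rfl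
theorem s3u1226 : ∀ v, 1 ≤ v → v ≤ 349012 → fs3 v = true := slots_step fs3 348771 241 349012 s3u1225 s3c1226 rfl
theorem s3u1227 : ∀ v, 1 ≤ v → v ≤ 349257 → fs3 v = true := slots_step fs3 349012 245 349257 s3u1226 s3c1227 rfl
theorem s3u1228 : ∀ v, 1 ≤ v → v ≤ 349496 → fs3 v = true := slots_step fs3 349257 239 349496 s3u1227 s3c1228 rfl
theorem s3u1229 : ∀ v, 1 ≤ v → v ≤ 349729 → fs3 v = true := slots_step fs3 349496 233 349729 s3u1228 s3c1229 rfl
theorem s3u1230 : ∀ v, 1 ≤ v → v ≤ 349963 → fs3 v = true := slots_step fs3 349729 234 349963 s3u1229 s3c1230 rfl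
theorem s3u1231 : ∀ v, 1 ≤ v → v ≤ 350217 → fs3 v = true := slots_step fs3 349963 254 350217 s3u1230 s3c1231 rfl
theorem s3u1232 : ∀ v, 1 ≤ v → v ≤ 350467 → fs3 v = true := slots_step fs3 350217 250 350467 s3u1231 s3c1232 rfl
theorem s3u1233 : ∀ v, 1 ≤ v → v ≤ 350721 → fs3 v = true := slots_step fs3 350467 254 350721 s3u1232 s3c1233 rfl
theorem s3u1234 : ∀ v, 1 ≤ v → v ≤ 350967 → fs3 v = true := slots_step fs3 350721 246 350967 s3u1233 s3c1234 rfl
theorem s3u1235 : ∀ v, 1 ≤ v → v ≤ 351215 → fs3 v = true := slots_step fs3 350967 248 351215 s3u1234 s3c1235 rfl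
theorem s3u1236 : ∀ v, 1 ≤ v → v ≤ 351465 → fs3 v = true := slots_step fs3 351215 250 351465 s3u1235 s3c1236 rfl
theorem s3u1237 : ∀ v, 1 ≤ v → v ≤ 351704 → fs3 v = true := slots_step fs3 351465 239 351704 s3u1236 s3c1237 rfl
theorem s3u1238 : ∀ v, 1 ≤ v → v ≤ 351946 → fs3 v = true := slots_step fs3 351704 242 351946 s3u1237 s3c1238 rfl
theorem s3u1239 : ∀ v, 1 ≤ v → v ≤ 352198 → fs3 v = true := slots_step fs3 351946 252 352198 s3u1238 s3c1239 rfl
theorem s3u1240 : ∀ v, 1 ≤ v → v ≤ 352451 → fs3 v = true := slots_step fs3 352198 253 352451 s3u1239 s3c1240 rfl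
theorem s3u1241 : ∀ v, 1 ≤ v → v ≤ 352704 → fs3 v = true := slots_step fs3 352451 253 352704 s3u1240 s3c1241 rfl
theorem s3u1242 : ∀ v, 1 ≤ v → v ≤ 352946 → fs3 v = true := slots_step fs3 352704 242 352946 s3u1241 s3c1242 rfl
theorem s3u1243 : ∀ v, 1 ≤ v → v ≤ 353187 → fs3 v = true := slots_step fs3 352946 241 353187 s3u1242 s3c1243 rfl
theorem s3u1244 : ∀ v, 1 ≤ v → v ≤ 353425 → fs3 v = true := slots_step fs3 353187 238 353425 s3u1243 s3c1244 rfl
theorem s3u1245 : ∀ v, 1 ≤ v → v ≤ 353662 → fs3 v = true := slots_step fs3 353425 237 353662 s3u1244 s3c1245 rfl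
theorem s3u1246 : ∀ v, 1 ≤ v → v ≤ 353897 → fs3 v = true := slots_step fs3 353662 235 353897 s3u1245 s3c1246 rfl
theorem s3u1247 : ∀ v, 1 ≤ v → v ≤ 354131 → fs3 v = true := slots_step fs3 353897 234 354131 s3u1246 s3c1247 rfl
theorem s3u1248 : ∀ v, 1 ≤ v → v ≤ 354361 → fs3 v = true := slots_step fs3 354131 230 354361 s3u1247 s3c1248 rfl
theorem s3u1249 : ∀ v, 1 ≤ v → v ≤ 354595 → fs3 v = true := slots_step fs3 354361 234 354595 s3u1248 s3c1249 rfl
theorem s3u1250 : ∀ v, 1 ≤ v → v ≤ 354847 → fs3 v = true := slots_step fs3 354595 252 354847 s3u1249 s3c1250 rfl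
theorem s3u1251 : ∀ v, 1 ≤ v → v ≤ 355088 → fs3 v = true := slots_step fs3 354847 241 355088 s3u1250 s3c1251 rfl
theorem s3u1252 : ∀ v, 1 ≤ v → v ≤ 355321 → fs3 v = true := slots_step fs3 355088 233 355321 s3u1251 s3c1252 rfl
theorem s3u1253 : ∀ v, 1 ≤ v → v ≤ 355568 → fs3 v = true := slots_step fs3 355321 247 355568 s3u1252 s3c1253 rfl
theorem s3u1254 : ∀ v, 1 ≤ v → v ≤ 355808 → fs3 v = true := slots_step fs3 355568 240 355808 s3u1253 s3c1254 rfl
theorem s3u1255 : ∀ v, 1 ≤ v → v ≤ 356050 → fs3 v = true := slots_step fs3 355808 242 356050 s3u1254 s3c1255 rfl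
theorem s3u1256 : ∀ v, 1 ≤ v → v ≤ 356276 → fs3 v = true := slots_step fs3 356050 226 356276 s3u1255 s3c1256 rfl
theorem s3u1257 : ∀ v, 1 ≤ v → v ≤ 356514 → fs3 v = true := slots_step fs3 356276 238 356514 s3u1256 s3c1257 rfl
theorem s3u1258 : ∀ v, 1 ≤ v → v ≤ 356763 → fs3 v = true := slots_step fs3 356514 249 356763 s3u1257 s3c1258 rfl
theorem s3u1259 : ∀ v, 1 ≤ v → v ≤ 357025 → fs3 v = true := slots_step fs3 356763 262 357025 s3u1258 s3c1259 rfl
theorem s3u1260 : ∀ v, 1 ≤ v → v ≤ 357282 → fs3 v = true := slots_step fs3 357025 257 357282 s3u1259 s3c1260 rfl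
theorem s3u1261 : ∀ v, 1 ≤ v → v ≤ 357465 → fs3 v = true := slots_step fs3 357282 183 357465 s3u1260 s3c1261 rfl
theorem s4u0 : ∀ v, 1 ≤ v → v ≤ 261 → fs4 v = true := slots_step fs4 0 261 261 (slots_zero fs4) s4c0 rfl
theorem s4u1 : ∀ v, 1 ≤ v → v ≤ 523 → fs4 v = true := slots_step fs4 261 262 523 s4u0 s4c1 rfl
theorem s4u2 : ∀ v, 1 ≤ v → v ≤ 789 → fs4 v = true := slots_step fs4 523 266 789 s4u1 s4c2 rfl
theorem s4u3 : ∀ v, 1 ≤ v → v ≤ 1066 → fs4 v = true := slots_step fs4 789 277 1066 s4u2 s4c3 rfl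
theorem s4u4 : ∀ v, 1 ≤ v → v ≤ 1345 → fs4 v = true := slots_step fs4 1066 279 1345 s4u3 s4c4 rfl
theorem s4u5 : ∀ v, 1 ≤ v → v ≤ 1621 → fs4 v = true := slots_step fs4 1345 276 1621 s4u4 s4c5 rfl
theorem s4u6 : ∀ v, 1 ≤ v → v ≤ 1907 → fs4 v = true := slots_step fs4 1621 286 1907 s4u5 s4c6 rfl
theorem s4u7 : ∀ v, 1 ≤ v → v ≤ 2182 → fs4 v = true := slots_step fs4 1907 275 2182 s4u6 s4c7 rfl
theorem s4u8 : ∀ v, 1 ≤ v → v ≤ 2466 → fs4 v = true := slots_step fs4 2182 284 2466 s4u7 s4c8 rfl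
theorem s4u9 : ∀ v, 1 ≤ v → v ≤ 2739 → fs4 v = true := slots_step fs4 2466 273 2739 s4u8 s4c9 rfl
theorem s4u10 : ∀ v, 1 ≤ v → v ≤ 3010 → fs4 v = true := slots_step fs4 2739 271 3010 s4u9 s4c10 rfl
theorem s4u11 : ∀ v, 1 ≤ v → v ≤ 3290 → fs4 v = true := slots_step fs4 3010 280 3290 s4u10 s4c11 rfl
theorem s4u12 : ∀ v, 1 ≤ v → v ≤ 3578 → fs4 v = true := slots_step fs4 3290 288 3578 s4u11 s4c12 rfl
theorem s4u13 : ∀ v, 1 ≤ v → v ≤ 3848 → fs4 v = true := slots_step fs4 3578 270 3848 s4u12 s4c13 rfl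
theorem s4u14 : ∀ v, 1 ≤ v → v ≤ 4124 → fs4 v = true := slots_step fs4 3848 276 4124 s4u13 s4c14 rfl
theorem s4u15 : ∀ v, 1 ≤ v → v ≤ 4430 → fs4 v = true := slots_step fs4 4124 306 4430 s4u14 s4c15 rfl
theorem s4u16 : ∀ v, 1 ≤ v → v ≤ 4708 → fs4 v = true := slots_step fs4 4430 278 4708 s4u15 s4c16 rfl
theorem s4u17 : ∀ v, 1 ≤ v → v ≤ 5022 → fs4 v = true := slots_step fs4 4708 314 5022 s4u16 s4c17 rfl
theorem s4u18 : ∀ v, 1 ≤ v → v ≤ 5293 → fs4 v = true := slots_step fs4 5022 271 5293 s4u17 s4c18 rfl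
theorem s4u19 : ∀ v, 1 ≤ v → v ≤ 5578 → fs4 v = true := slots_step fs4 5293 285 5578 s4u18 s4c19 rfl
theorem s4u20 : ∀ v, 1 ≤ v → v ≤ 5867 → fs4 v = true := slots_step fs4 5578 289 5867 s4u19 s4c20 rfl
theorem s4u21 : ∀ v, 1 ≤ v → v ≤ 6185 → fs4 v = true := slots_step fs4 5867 318 6185 s4u20 s4c21 rfl
theorem s4u22 : ∀ v, 1 ≤ v → v ≤ 6472 → fs4 v = true := slots_step fs4 6185 287 6472 s4u21 s4c22 rfl
theorem s4u23 : ∀ v, 1 ≤ v → v ≤ 6761 → fs4 v = true := slots_step fs4 6472 289 6761 s4u22 s4c23 rfl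
theorem s4u24 : ∀ v, 1 ≤ v → v ≤ 7113 → fs4 v = true := slots_step fs4 6761 352 7113 s4u23 s4c24 rfl
theorem s4u25 : ∀ v, 1 ≤ v → v ≤ 7381 → fs4 v = true := slots_step fs4 7113 268 7381 s4u24 s4c25 rfl
theorem s4u26 : ∀ v, 1 ≤ v → v ≤ 7697 → fs4 v = true := slots_step fs4 7381 316 7697 s4u25 s4c26 rfl
theorem s4u27 : ∀ v, 1 ≤ v → v ≤ 7984 → fs4 v = true := slots_step fs4 7697 287 7984 s4u26 s4c27 rfl
theorem s4u28 : ∀ v, 1 ≤ v → v ≤ 8313 → fs4 v = true := slots_step fs4 7984 329 8313 s4u27 s4c28 rfl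
theorem s4u29 : ∀ v, 1 ≤ v → v ≤ 8608 → fs4 v = true := slots_step fs4 8313 295 8608 s4u28 s4c29 rfl
theorem s4u30 : ∀ v, 1 ≤ v → v ≤ 8890 → fs4 v = true := slots_step fs4 8608 282 8890 s4u29 s4c30 rfl
theorem s4u31 : ∀ v, 1 ≤ v → v ≤ 9202 → fs4 v = true := slots_step fs4 8890 312 9202 s4u30 s4c31 rfl
theorem s4u32 : ∀ v, 1 ≤ v → v ≤ 9581 → fs4 v = true := slots_step fs4 9202 379 9581 s4u31 s4c32 rfl
theorem s4u33 : ∀ v, 1 ≤ v → v ≤ 9880 → fs4 v = true := slots_step fs4 9581 299 9880 s4u32 s4c33 rfl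
theorem s4u34 : ∀ v, 1 ≤ v → v ≤ 10161 → fs4 v = true := slots_step fs4 9880 281 10161 s4u33 s4c34 rfl
theorem s4u35 : ∀ v, 1 ≤ v → v ≤ 10469 → fs4 v = true := slots_step fs4 10161 308 10469 s4u34 s4c35 rfl
theorem s4u36 : ∀ v, 1 ≤ v → v ≤ 10741 → fs4 v = true := slots_step fs4 10469 272 10741 s4u35 s4c36 rfl
theorem s4u37 : ∀ v, 1 ≤ v → v ≤ 11011 → fs4 v = true := slots_step fs4 10741 270 11011 s4u36 s4c37 rfl
theorem s4u38 : ∀ v, 1 ≤ v → v ≤ 11290 → fs4 v = true := slots_step fs4 11011 279 11290 s4u37 s4c38 rfl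
theorem s4u39 : ∀ v, 1 ≤ v → v ≤ 11553 → fs4 v = true := slots_step fs4 11290 263 11553 s4u38 s4c39 rfl
theorem s4u40 : ∀ v, 1 ≤ v → v ≤ 11840 → fs4 v = true := slots_step fs4 11553 287 11840 s4u39 s4c40 rfl
theorem s4u41 : ∀ v, 1 ≤ v → v ≤ 12113 → fs4 v = true := slots_step fs4 11840 273 12113 s4u40 s4c41 rfl
theorem s4u42 : ∀ v, 1 ≤ v → v ≤ 12404 → fs4 v = true := slots_step fs4 12113 291 12404 s4u41 s4c42 rfl
theorem s4u43 : ∀ v, 1 ≤ v → v ≤ 12713 → fs4 v = true := slots_step fs4 12404 309 12713 s4u42 s4c43 rfl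
theorem s4u44 : ∀ v, 1 ≤ v → v ≤ 12979 → fs4 v = true := slots_step fs4 12713 266 12979 s4u43 s4c44 rfl
theorem s4u45 : ∀ v, 1 ≤ v → v ≤ 13262 → fs4 v = true := slots_step fs4 12979 283 13262 s4u44 s4c45 rfl
theorem s4u46 : ∀ v, 1 ≤ v → v ≤ 13546 → fs4 v = true := slots_step fs4 13262 284 13546 s4u45 s4c46 rfl
theorem s4u47 : ∀ v, 1 ≤ v → v ≤ 13822 → fs4 v = true := slots_step fs4 13546 276 13822 s4u46 s4c47 rfl
theorem s4u48 : ∀ v, 1 ≤ v → v ≤ 14112 → fs4 v = true := slots_step fs4 13822 290 14112 s4u47 s4c48 rfl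
theorem s4u49 : ∀ v, 1 ≤ v → v ≤ 14399 → fs4 v = true := slots_step fs4 14112 287 14399 s4u48 s4c49 rfl
theorem s4u50 : ∀ v, 1 ≤ v → v ≤ 14683 → fs4 v = true := slots_step fs4 14399 284 14683 s4u49 s4c50 rfl
theorem s4u51 : ∀ v, 1 ≤ v → v ≤ 14950 → fs4 v = true := slots_step fs4 14683 267 14950 s4u50 s4c51 rfl
theorem s4u52 : ∀ v, 1 ≤ v → v ≤ 15237 → fs4 v = true := slots_step fs4 14950 287 15237 s4u51 s4c52 rfl
theorem s4u53 : ∀ v, 1 ≤ v → v ≤ 15519 → fs4 v = true := slots_step fs4 15237 282 15519 s4u52 s4c53 rfl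
theorem s4u54 : ∀ v, 1 ≤ v → v ≤ 15799 → fs4 v = true := slots_step fs4 15519 280 15799 s4u53 s4c54 rfl
theorem s4u55 : ∀ v, 1 ≤ v → v ≤ 16098 → fs4 v = true := slots_step fs4 15799 299 16098 s4u54 s4c55 rfl
theorem s4u56 : ∀ v, 1 ≤ v → v ≤ 16423 → fs4 v = true := slots_step fs4 16098 325 16423 s4u55 s4c56 rfl
theorem s4u57 : ∀ v, 1 ≤ v → v ≤ 16726 → fs4 v = true := slots_step fs4 16423 303 16726 s4u56 s4c57 rfl
theorem s4u58 : ∀ v, 1 ≤ v → v ≤ 17021 → fs4 v = true := slots_step fs4 16726 295 17021 s4u57 s4c58 rfl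
theorem s4u59 : ∀ v, 1 ≤ v → v ≤ 17331 → fs4 v = true := slots_step fs4 17021 310 17331 s4u58 s4c59 rfl
theorem s4u60 : ∀ v, 1 ≤ v → v ≤ 17638 → fs4 v = true := slots_step fs4 17331 307 17638 s4u59 s4c60 rfl
theorem s4u61 : ∀ v, 1 ≤ v → v ≤ 17904 → fs4 v = true := slots_step fs4 17638 266 17904 s4u60 s4c61 rfl
theorem s4u62 : ∀ v, 1 ≤ v → v ≤ 18206 → fs4 v = true := slots_step fs4 17904 302 18206 s4u61 s4c62 rfl
theorem s4u63 : ∀ v, 1 ≤ v → v ≤ 18509 → fs4 v = true := slots_step fs4 18206 303 18509 s4u62 s4c63 rfl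
theorem s4u64 : ∀ v, 1 ≤ v → v ≤ 18798 → fs4 v = true := slots_step fs4 18509 289 18798 s4u63 s4c64 rfl
theorem s4u65 : ∀ v, 1 ≤ v → v ≤ 19114 → fs4 v = true := slots_step fs4 18798 316 19114 s4u64 s4c65 rfl
theorem s4u66 : ∀ v, 1 ≤ v → v ≤ 19389 → fs4 v = true := slots_step fs4 19114 275 19389 s4u65 s4c66 rfl
theorem s4u67 : ∀ v, 1 ≤ v → v ≤ 19660 → fs4 v = true := slots_step fs4 19389 271 19660 s4u66 s4c67 rfl
theorem s4u68 : ∀ v, 1 ≤ v → v ≤ 19951 → fs4 v = true := slots_step fs4 19660 291 19951 s4u67 s4c68 rfl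
theorem s4u69 : ∀ v, 1 ≤ v → v ≤ 20243 → fs4 v = true := slots_step fs4 19951 292 20243 s4u68 s4c69 rfl
theorem s4u70 : ∀ v, 1 ≤ v → v ≤ 20551 → fs4 v = true := slots_step fs4 20243 308 20551 s4u69 s4c70 rfl
theorem s4u71 : ∀ v, 1 ≤ v → v ≤ 20826 → fs4 v = true := slots_step fs4 20551 275 20826 s4u70 s4c71 rfl
theorem s4u72 : ∀ v, 1 ≤ v → v ≤ 21125 → fs4 v = true := slots_step fs4 20826 299 21125 s4u71 s4c72 rfl
theorem s4u73 : ∀ v, 1 ≤ v → v ≤ 21456 → fs4 v = true := slots_step fs4 21125 331 21456 s4u72 s4c73 rfl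
theorem s4u74 : ∀ v, 1 ≤ v → v ≤ 21838 → fs4 v = true := slots_step fs4 21456 382 21838 s4u73 s4c74 rfl
theorem s4u75 : ∀ v, 1 ≤ v → v ≤ 22105 → fs4 v = true := slots_step fs4 21838 267 22105 s4u74 s4c75 rfl
theorem s4u76 : ∀ v, 1 ≤ v → v ≤ 22413 → fs4 v = true := slots_step fs4 22105 308 22413 s4u75 s4c76 rfl
theorem s4u77 : ∀ v, 1 ≤ v → v ≤ 22753 → fs4 v = true := slots_step fs4 22413 340 22753 s4u76 s4c77 rfl
theorem s4u78 : ∀ v, 1 ≤ v → v ≤ 23109 → fs4 v = true := slots_step fs4 22753 356 23109 s4u77 s4c78 rfl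
theorem s4u79 : ∀ v, 1 ≤ v → v ≤ 23380 → fs4 v = true := slots_step fs4 23109 271 23380 s4u78 s4c79 rfl
theorem s4u80 : ∀ v, 1 ≤ v → v ≤ 23652 → fs4 v = true := slots_step fs4 23380 272 23652 s4u79 s4c80 rfl
theorem s4u81 : ∀ v, 1 ≤ v → v ≤ 23948 → fs4 v = true := slots_step fs4 23652 296 23948 s4u80 s4c81 rfl
theorem s4u82 : ∀ v, 1 ≤ v → v ≤ 24265 → fs4 v = true := slots_step fs4 23948 317 24265 s4u81 s4c82 rfl
theorem s4u83 : ∀ v, 1 ≤ v → v ≤ 24583 → fs4 v = true := slots_step fs4 24265 318 24583 s4u82 s4c83 rfl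
theorem s4u84 : ∀ v, 1 ≤ v → v ≤ 24861 → fs4 v = true := slots_step fs4 24583 278 24861 s4u83 s4c84 rfl
theorem s4u85 : ∀ v, 1 ≤ v → v ≤ 25217 → fs4 v = true := slots_step fs4 24861 356 25217 s4u84 s4c85 rfl
theorem s4u86 : ∀ v, 1 ≤ v → v ≤ 25503 → fs4 v = true := slots_step fs4 25217 286 25503 s4u85 s4c86 rfl
theorem s4u87 : ∀ v, 1 ≤ v → v ≤ 25784 → fs4 v = true := slots_step fs4 25503 281 25784 s4u86 s4c87 rfl
theorem s4u88 : ∀ v, 1 ≤ v → v ≤ 26056 → fs4 v = true := slots_step fs4 25784 272 26056 s4u87 s4c88 rfl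
theorem s4u89 : ∀ v, 1 ≤ v → v ≤ 26334 → fs4 v = true := slots_step fs4 26056 278 26334 s4u88 s4c89 rfl
theorem s4u90 : ∀ v, 1 ≤ v → v ≤ 26639 → fs4 v = true := slots_step fs4 26334 305 26639 s4u89 s4c90 rfl
theorem s4u91 : ∀ v, 1 ≤ v → v ≤ 26938 → fs4 v = true := slots_step fs4 26639 299 26938 s4u90 s4c91 rfl
theorem s4u92 : ∀ v, 1 ≤ v → v ≤ 27256 → fs4 v = true := slots_step fs4 26938 318 27256 s4u91 s4c92 rfl
theorem s4u93 : ∀ v, 1 ≤ v → v ≤ 27565 → fs4 v = true := slots_step fs4 27256 309 27565 s4u92 s4c93 rfl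
theorem s4u94 : ∀ v, 1 ≤ v → v ≤ 27845 → fs4 v = true := slots_step fs4 27565 280 27845 s4u93 s4c94 rfl
theorem s4u95 : ∀ v, 1 ≤ v → v ≤ 28144 → fs4 v = true := slots_step fs4 27845 299 28144 s4u94 s4c95 rfl
theorem s4u96 : ∀ v, 1 ≤ v → v ≤ 28470 → fs4 v = true := slots_step fs4 28144 326 28470 s4u95 s4c96 rfl
theorem s4u97 : ∀ v, 1 ≤ v → v ≤ 28855 → fs4 v = true := slots_step fs4 28470 385 28855 s4u96 s4c97 rfl
theorem s4u98 : ∀ v, 1 ≤ v → v ≤ 29244 → fs4 v = true := slots_step fs4 28855 389 29244 s4u97 s4c98 rfl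
theorem s4u99 : ∀ v, 1 ≤ v → v ≤ 29520 → fs4 v = true := slots_step fs4 29244 276 29520 s4u98 s4c99 rfl
theorem s4u100 : ∀ v, 1 ≤ v → v ≤ 29822 → fs4 v = true := slots_step fs4 29520 302 29822 s4u99 s4c100 rfl
theorem s4u101 : ∀ v, 1 ≤ v → v ≤ 30238 → fs4 v = true := slots_step fs4 29822 416 30238 s4u100 s4c101 rfl
theorem s4u102 : ∀ v, 1 ≤ v → v ≤ 30527 → fs4 v = true := slots_step fs4 30238 289 30527 s4u101 s4c102 rfl
theorem s4u103 : ∀ v, 1 ≤ v → v ≤ 30912 → fs4 v = true := slots_step fs4 30527 385 30912 s4u102 s4c103 rfl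
theorem s4u104 : ∀ v, 1 ≤ v → v ≤ 31181 → fs4 v = true := slots_step fs4 30912 269 31181 s4u103 s4c104 rfl
theorem s4u105 : ∀ v, 1 ≤ v → v ≤ 31459 → fs4 v = true := slots_step fs4 31181 278 31459 s4u104 s4c105 rfl
theorem s4u106 : ∀ v, 1 ≤ v → v ≤ 31733 → fs4 v = true := slots_step fs4 31459 274 31733 s4u105 s4c106 rfl
theorem s4u107 : ∀ v, 1 ≤ v → v ≤ 32035 → fs4 v = true := slots_step fs4 31733 302 32035 s4u106 s4c107 rfl
theorem s4u108 : ∀ v, 1 ≤ v → v ≤ 32377 → fs4 v = true := slots_step fs4 32035 342 32377 s4u107 s4c108 rfl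
theorem s4u109 : ∀ v, 1 ≤ v → v ≤ 32742 → fs4 v = true := slots_step fs4 32377 365 32742 s4u108 s4c109 rfl
theorem s4u110 : ∀ v, 1 ≤ v → v ≤ 33026 → fs4 v = true := slots_step fs4 32742 284 33026 s4u109 s4c110 rfl
theorem s4u111 : ∀ v, 1 ≤ v → v ≤ 33304 → fs4 v = true := slots_step fs4 33026 278 33304 s4u110 s4c111 rfl
theorem s4u112 : ∀ v, 1 ≤ v → v ≤ 33646 → fs4 v = true := slots_step fs4 33304 342 33646 s4u111 s4c112 rfl
theorem s4u113 : ∀ v, 1 ≤ v → v ≤ 34009 → fs4 v = true := slots_step fs4 33646 363 34009 s4u112 s4c113 rfl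
theorem s4u114 : ∀ v, 1 ≤ v → v ≤ 34281 → fs4 v = true := slots_step fs4 34009 272 34281 s4u113 s4c114 rfl
theorem s4u115 : ∀ v, 1 ≤ v → v ≤ 34574 → fs4 v = true := slots_step fs4 34281 293 34574 s4u114 s4c115 rfl
theorem s4u116 : ∀ v, 1 ≤ v → v ≤ 34857 → fs4 v = true := slots_step fs4 34574 283 34857 s4u115 s4c116 rfl
theorem s4u117 : ∀ v, 1 ≤ v → v ≤ 35131 → fs4 v = true := slots_step fs4 34857 274 35131 s4u116 s4c117 rfl
theorem s4u118 : ∀ v, 1 ≤ v → v ≤ 35412 → fs4 v = true := slots_step fs4 35131 281 35412 s4u117 s4c118 rfl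
theorem s4u119 : ∀ v, 1 ≤ v → v ≤ 35709 → fs4 v = true := slots_step fs4 35412 297 35709 s4u118 s4c119 rfl
theorem s4u120 : ∀ v, 1 ≤ v → v ≤ 36058 → fs4 v = true := slots_step fs4 35709 349 36058 s4u119 s4c120 rfl
theorem s4u121 : ∀ v, 1 ≤ v → v ≤ 36352 → fs4 v = true := slots_step fs4 36058 294 36352 s4u120 s4c121 rfl
theorem s4u122 : ∀ v, 1 ≤ v → v ≤ 36676 → fs4 v = true := slots_step fs4 36352 324 36676 s4u121 s4c122 rfl
theorem s4u123 : ∀ v, 1 ≤ v → v ≤ 37041 → fs4 v = true := slots_step fs4 36676 365 37041 s4u122 s4c123 rfl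
theorem s4u124 : ∀ v, 1 ≤ v → v ≤ 37332 → fs4 v = true := slots_step fs4 37041 291 37332 s4u123 s4c124 rfl
theorem s4u125 : ∀ v, 1 ≤ v → v ≤ 37616 → fs4 v = true := slots_step fs4 37332 284 37616 s4u124 s4c125 rfl
theorem s4u126 : ∀ v, 1 ≤ v → v ≤ 37914 → fs4 v = true := slots_step fs4 37616 298 37914 s4u125 s4c126 rfl
theorem s4u127 : ∀ v, 1 ≤ v → v ≤ 38292 → fs4 v = true := slots_step fs4 37914 378 38292 s4u126 s4c127 rfl
theorem s4u128 : ∀ v, 1 ≤ v → v ≤ 38673 → fs4 v = true := slots_step fs4 38292 381 38673 s4u127 s4c128 rfl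
theorem s4u129 : ∀ v, 1 ≤ v → v ≤ 39125 → fs4 v = true := slots_step fs4 38673 452 39125 s4u128 s4c129 rfl
theorem s4u130 : ∀ v, 1 ≤ v → v ≤ 39449 → fs4 v = true := slots_step fs4 39125 324 39449 s4u129 s4c130 rfl
theorem s4u131 : ∀ v, 1 ≤ v → v ≤ 39734 → fs4 v = true := slots_step fs4 39449 285 39734 s4u130 s4c131 rfl
theorem s4u132 : ∀ v, 1 ≤ v → v ≤ 40044 → fs4 v = true := slots_step fs4 39734 310 40044 s4u131 s4c132 rfl
theorem s4u133 : ∀ v, 1 ≤ v → v ≤ 40438 → fs4 v = true := slots_step fs4 40044 394 40438 s4u132 s4c133 rfl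
theorem s4u134 : ∀ v, 1 ≤ v → v ≤ 40865 → fs4 v = true := slots_step fs4 40438 427 40865 s4u133 s4c134 rfl
theorem s4u135 : ∀ v, 1 ≤ v → v ≤ 41177 → fs4 v = true := slots_step fs4 40865 312 41177 s4u134 s4c135 rfl
theorem s4u136 : ∀ v, 1 ≤ v → v ≤ 41592 → fs4 v = true := slots_step fs4 41177 415 41592 s4u135 s4c136 rfl
theorem s4u137 : ∀ v, 1 ≤ v → v ≤ 41873 → fs4 v = true := slots_step fs4 41592 281 41873 s4u136 s4c137 rfl
theorem s4u138 : ∀ v, 1 ≤ v → v ≤ 42150 → fs4 v = true := slots_step fs4 41873 277 42150 s4u137 s4c138 rfl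
theorem s4u139 : ∀ v, 1 ≤ v → v ≤ 42444 → fs4 v = true := slots_step fs4 42150 294 42444 s4u138 s4c139 rfl
theorem s4u140 : ∀ v, 1 ≤ v → v ≤ 42717 → fs4 v = true := slots_step fs4 42444 273 42717 s4u139 s4c140 rfl
theorem s4u141 : ∀ v, 1 ≤ v → v ≤ 43002 → fs4 v = true := slots_step fs4 42717 285 43002 s4u140 s4c141 rfl
theorem s4u142 : ∀ v, 1 ≤ v → v ≤ 43319 → fs4 v = true := slots_step fs4 43002 317 43319 s4u141 s4c142 rfl
theorem s4u143 : ∀ v, 1 ≤ v → v ≤ 43702 → fs4 v = true := slots_step fs4 43319 383 43702 s4u142 s4c143 rfl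
theorem s4u144 : ∀ v, 1 ≤ v → v ≤ 44049 → fs4 v = true := slots_step fs4 43702 347 44049 s4u143 s4c144 rfl
theorem s4u145 : ∀ v, 1 ≤ v → v ≤ 44432 → fs4 v = true := slots_step fs4 44049 383 44432 s4u144 s4c145 rfl
theorem s4u146 : ∀ v, 1 ≤ v → v ≤ 44699 → fs4 v = true := slots_step fs4 44432 267 44699 s4u145 s4c146 rfl
theorem s4u147 : ∀ v, 1 ≤ v → v ≤ 44994 → fs4 v = true := slots_step fs4 44699 295 44994 s4u146 s4c147 rfl
theorem s4u148 : ∀ v, 1 ≤ v → v ≤ 45336 → fs4 v = true := slots_step fs4 44994 342 45336 s4u147 s4c148 rfl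
theorem s4u149 : ∀ v, 1 ≤ v → v ≤ 45749 → fs4 v = true := slots_step fs4 45336 413 45749 s4u148 s4c149 rfl
theorem s4u150 : ∀ v, 1 ≤ v → v ≤ 46066 → fs4 v = true := slots_step fs4 45749 317 46066 s4u149 s4c150 rfl
theorem s4u151 : ∀ v, 1 ≤ v → v ≤ 46342 → fs4 v = true := slots_step fs4 46066 276 46342 s4u150 s4c151 rfl
theorem s4u152 : ∀ v, 1 ≤ v → v ≤ 46641 → fs4 v = true := slots_step fs4 46342 299 46641 s4u151 s4c152 rfl
theorem s4u153 : ∀ v, 1 ≤ v → v ≤ 46928 → fs4 v = true := slots_step fs4 46641 287 46928 s4u152 s4c153 rfl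
theorem s4u154 : ∀ v, 1 ≤ v → v ≤ 47223 → fs4 v = true := slots_step fs4 46928 295 47223 s4u153 s4c154 rfl
theorem s4u155 : ∀ v, 1 ≤ v → v ≤ 47507 → fs4 v = true := slots_step fs4 47223 284 47507 s4u154 s4c155 rfl
theorem s4u156 : ∀ v, 1 ≤ v → v ≤ 47778 → fs4 v = true := slots_step fs4 47507 271 47778 s4u155 s4c156 rfl
theorem s4u157 : ∀ v, 1 ≤ v → v ≤ 48057 → fs4 v = true := slots_step fs4 47778 279 48057 s4u156 s4c157 rfl
theorem s4u158 : ∀ v, 1 ≤ v → v ≤ 48378 → fs4 v = true := slots_step fs4 48057 321 48378 s4u157 s4c158 rfl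
theorem s4u159 : ∀ v, 1 ≤ v → v ≤ 48714 → fs4 v = true := slots_step fs4 48378 336 48714 s4u158 s4c159 rfl
theorem s4u160 : ∀ v, 1 ≤ v → v ≤ 49064 → fs4 v = true := slots_step fs4 48714 350 49064 s4u159 s4c160 rfl
theorem s4u161 : ∀ v, 1 ≤ v → v ≤ 49380 → fs4 v = true := slots_step fs4 49064 316 49380 s4u160 s4c161 rfl
theorem s4u162 : ∀ v, 1 ≤ v → v ≤ 49710 → fs4 v = true := slots_step fs4 49380 330 49710 s4u161 s4c162 rfl
theorem s4u163 : ∀ v, 1 ≤ v → v ≤ 50112 → fs4 v = true := slots_step fs4 49710 402 50112 s4u162 s4c163 rfl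
theorem s4u164 : ∀ v, 1 ≤ v → v ≤ 50441 → fs4 v = true := slots_step fs4 50112 329 50441 s4u163 s4c164 rfl
theorem s4u165 : ∀ v, 1 ≤ v → v ≤ 50744 → fs4 v = true := slots_step fs4 50441 303 50744 s4u164 s4c165 rfl
theorem s4u166 : ∀ v, 1 ≤ v → v ≤ 51053 → fs4 v = true := slots_step fs4 50744 309 51053 s4u165 s4c166 rfl
theorem s4u167 : ∀ v, 1 ≤ v → v ≤ 51346 → fs4 v = true := slots_step fs4 51053 293 51346 s4u166 s4c167 rfl
theorem s4u168 : ∀ v, 1 ≤ v → v ≤ 51744 → fs4 v = true := slots_step fs4 51346 398 51744 s4u167 s4c168 rfl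
theorem s4u169 : ∀ v, 1 ≤ v → v ≤ 52136 → fs4 v = true := slots_step fs4 51744 392 52136 s4u168 s4c169 rfl
theorem s4u170 : ∀ v, 1 ≤ v → v ≤ 52552 → fs4 v = true := slots_step fs4 52136 416 52552 s4u169 s4c170 rfl
theorem s4u171 : ∀ v, 1 ≤ v → v ≤ 53026 → fs4 v = true := slots_step fs4 52552 474 53026 s4u170 s4c171 rfl
theorem s4u172 : ∀ v, 1 ≤ v → v ≤ 53333 → fs4 v = true := slots_step fs4 53026 307 53333 s4u171 s4c172 rfl
theorem s4u173 : ∀ v, 1 ≤ v → v ≤ 53641 → fs4 v = true := slots_step fs4 53333 308 53641 s4u172 s4c173 rfl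
theorem s4u174 : ∀ v, 1 ≤ v → v ≤ 53933 → fs4 v = true := slots_step fs4 53641 292 53933 s4u173 s4c174 rfl
theorem s4u175 : ∀ v, 1 ≤ v → v ≤ 54257 → fs4 v = true := slots_step fs4 53933 324 54257 s4u174 s4c175 rfl
theorem s4u176 : ∀ v, 1 ≤ v → v ≤ 54723 → fs4 v = true := slots_step fs4 54257 466 54723 s4u175 s4c176 rfl
theorem s4u177 : ∀ v, 1 ≤ v → v ≤ 55190 → fs4 v = true := slots_step fs4 54723 467 55190 s4u176 s4c177 rfl
theorem s4u178 : ∀ v, 1 ≤ v → v ≤ 55526 → fs4 v = true := slots_step fs4 55190 336 55526 s4u177 s4c178 rfl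
theorem s4u179 : ∀ v, 1 ≤ v → v ≤ 55925 → fs4 v = true := slots_step fs4 55526 399 55925 s4u178 s4c179 rfl
theorem s4u180 : ∀ v, 1 ≤ v → v ≤ 56329 → fs4 v = true := slots_step fs4 55925 404 56329 s4u179 s4c180 rfl
theorem s4u181 : ∀ v, 1 ≤ v → v ≤ 56585 → fs4 v = true := slots_step fs4 56329 256 56585 s4u180 s4c181 rfl
theorem s4u182 : ∀ v, 1 ≤ v → v ≤ 56875 → fs4 v = true := slots_step fs4 56585 290 56875 s4u181 s4c182 rfl
theorem s4u183 : ∀ v, 1 ≤ v → v ≤ 57145 → fs4 v = true := slots_step fs4 56875 270 57145 s4u182 s4c183 rfl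
theorem s4u184 : ∀ v, 1 ≤ v → v ≤ 57459 → fs4 v = true := slots_step fs4 57145 314 57459 s4u183 s4c184 rfl
theorem s4u185 : ∀ v, 1 ≤ v → v ≤ 57742 → fs4 v = true := slots_step fs4 57459 283 57742 s4u184 s4c185 rfl
theorem s4u186 : ∀ v, 1 ≤ v → v ≤ 58023 → fs4 v = true := slots_step fs4 57742 281 58023 s4u185 s4c186 rfl
theorem s4u187 : ∀ v, 1 ≤ v → v ≤ 58316 → fs4 v = true := slots_step fs4 58023 293 58316 s4u186 s4c187 rfl
theorem s4u188 : ∀ v, 1 ≤ v → v ≤ 58640 → fs4 v = true := slots_step fs4 58316 324 58640 s4u187 s4c188 rfl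
theorem s4u189 : ∀ v, 1 ≤ v → v ≤ 59074 → fs4 v = true := slots_step fs4 58640 434 59074 s4u188 s4c189 rfl
theorem s4u190 : ∀ v, 1 ≤ v → v ≤ 59436 → fs4 v = true := slots_step fs4 59074 362 59436 s4u189 s4c190 rfl
theorem s4u191 : ∀ v, 1 ≤ v → v ≤ 59820 → fs4 v = true := slots_step fs4 59436 384 59820 s4u190 s4c191 rfl
theorem s4u192 : ∀ v, 1 ≤ v → v ≤ 60184 → fs4 v = true := slots_step fs4 59820 364 60184 s4u191 s4c192 rfl
theorem s4u193 : ∀ v, 1 ≤ v → v ≤ 60461 → fs4 v = true := slots_step fs4 60184 277 60461 s4u192 s4c193 rfl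
theorem s4u194 : ∀ v, 1 ≤ v → v ≤ 60786 → fs4 v = true := slots_step fs4 60461 325 60786 s4u193 s4c194 rfl
theorem s4u195 : ∀ v, 1 ≤ v → v ≤ 61112 → fs4 v = true := slots_step fs4 60786 326 61112 s4u194 s4c195 rfl
theorem s4u196 : ∀ v, 1 ≤ v → v ≤ 61538 → fs4 v = true := slots_step fs4 61112 426 61538 s4u195 s4c196 rfl
theorem s4u197 : ∀ v, 1 ≤ v → v ≤ 61964 → fs4 v = true := slots_step fs4 61538 426 61964 s4u196 s4c197 rfl
theorem s4u198 : ∀ v, 1 ≤ v → v ≤ 62261 → fs4 v = true := slots_step fs4 61964 297 62261 s4u197 s4c198 rfl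
theorem s4u199 : ∀ v, 1 ≤ v → v ≤ 62554 → fs4 v = true := slots_step fs4 62261 293 62554 s4u198 s4c199 rfl
theorem s4u200 : ∀ v, 1 ≤ v → v ≤ 62830 → fs4 v = true := slots_step fs4 62554 276 62830 s4u199 s4c200 rfl
theorem s4u201 : ∀ v, 1 ≤ v → v ≤ 63171 → fs4 v = true := slots_step fs4 62830 341 63171 s4u200 s4c201 rfl
theorem s4u202 : ∀ v, 1 ≤ v → v ≤ 63447 → fs4 v = true := slots_step fs4 63171 276 63447 s4u201 s4c202 rfl
theorem s4u203 : ∀ v, 1 ≤ v → v ≤ 63740 → fs4 v = true := slots_step fs4 63447 293 63740 s4u202 s4c203 rfl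
theorem s4u204 : ∀ v, 1 ≤ v → v ≤ 64047 → fs4 v = true := slots_step fs4 63740 307 64047 s4u203 s4c204 rfl
theorem s4u205 : ∀ v, 1 ≤ v → v ≤ 64339 → fs4 v = true := slots_step fs4 64047 292 64339 s4u204 s4c205 rfl
theorem s4u206 : ∀ v, 1 ≤ v → v ≤ 64615 → fs4 v = true := slots_step fs4 64339 276 64615 s4u205 s4c206 rfl
theorem s4u207 : ∀ v, 1 ≤ v → v ≤ 64905 → fs4 v = true := slots_step fs4 64615 290 64905 s4u206 s4c207 rfl
theorem s4u208 : ∀ v, 1 ≤ v → v ≤ 65196 → fs4 v = true := slots_step fs4 64905 291 65196 s4u207 s4c208 rfl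
theorem s4u209 : ∀ v, 1 ≤ v → v ≤ 65523 → fs4 v = true := slots_step fs4 65196 327 65523 s4u208 s4c209 rfl
theorem s4u210 : ∀ v, 1 ≤ v → v ≤ 65866 → fs4 v = true := slots_step fs4 65523 343 65866 s4u209 s4c210 rfl
theorem s4u211 : ∀ v, 1 ≤ v → v ≤ 66243 → fs4 v = true := slots_step fs4 65866 377 66243 s4u210 s4c211 rfl
theorem s4u212 : ∀ v, 1 ≤ v → v ≤ 66599 → fs4 v = true := slots_step fs4 66243 356 66599 s4u211 s4c212 rfl
theorem s4u213 : ∀ v, 1 ≤ v → v ≤ 66927 → fs4 v = true := slots_step fs4 66599 328 66927 s4u212 s4c213 rfl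
theorem s4u214 : ∀ v, 1 ≤ v → v ≤ 67285 → fs4 v = true := slots_step fs4 66927 358 67285 s4u213 s4c214 rfl
theorem s4u215 : ∀ v, 1 ≤ v → v ≤ 67713 → fs4 v = true := slots_step fs4 67285 428 67713 s4u214 s4c215 rfl
theorem s4u216 : ∀ v, 1 ≤ v → v ≤ 68117 → fs4 v = true := slots_step fs4 67713 404 68117 s4u215 s4c216 rfl
theorem s4u217 : ∀ v, 1 ≤ v → v ≤ 68436 → fs4 v = true := slots_step fs4 68117 319 68436 s4u216 s4c217 rfl
theorem s4u218 : ∀ v, 1 ≤ v → v ≤ 68725 → fs4 v = true := slots_step fs4 68436 289 68725 s4u217 s4c218 rfl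
theorem s4u219 : ∀ v, 1 ≤ v → v ≤ 69060 → fs4 v = true := slots_step fs4 68725 335 69060 s4u218 s4c219 rfl
theorem s4u220 : ∀ v, 1 ≤ v → v ≤ 69384 → fs4 v = true := slots_step fs4 69060 324 69384 s4u219 s4c220 rfl
theorem s4u221 : ∀ v, 1 ≤ v → v ≤ 69748 → fs4 v = true := slots_step fs4 69384 364 69748 s4u220 s4c221 rfl
theorem s4u222 : ∀ v, 1 ≤ v → v ≤ 70154 → fs4 v = true := slots_step fs4 69748 406 70154 s4u221 s4c222 rfl
theorem s4u223 : ∀ v, 1 ≤ v → v ≤ 70597 → fs4 v = true := slots_step fs4 70154 443 70597 s4u222 s4c223 rfl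
theorem s4u224 : ∀ v, 1 ≤ v → v ≤ 71058 → fs4 v = true := slots_step fs4 70597 461 71058 s4u223 s4c224 rfl
theorem s4u225 : ∀ v, 1 ≤ v → v ≤ 71459 → fs4 v = true := slots_step fs4 71058 401 71459 s4u224 s4c225 rfl
theorem s4u226 : ∀ v, 1 ≤ v → v ≤ 71755 → fs4 v = true := slots_step fs4 71459 296 71755 s4u225 s4c226 rfl
theorem s4u227 : ∀ v, 1 ≤ v → v ≤ 72084 → fs4 v = true := slots_step fs4 71755 329 72084 s4u226 s4c227 rfl
theorem s4u228 : ∀ v, 1 ≤ v → v ≤ 72397 → fs4 v = true := slots_step fs4 72084 313 72397 s4u227 s4c228 rfl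
theorem s4u229 : ∀ v, 1 ≤ v → v ≤ 72727 → fs4 v = true := slots_step fs4 72397 330 72727 s4u228 s4c229 rfl
theorem s4u230 : ∀ v, 1 ≤ v → v ≤ 73094 → fs4 v = true := slots_step fs4 72727 367 73094 s4u229 s4c230 rfl
theorem s4u231 : ∀ v, 1 ≤ v → v ≤ 73600 → fs4 v = true := slots_step fs4 73094 506 73600 s4u230 s4c231 rfl
theorem s4u232 : ∀ v, 1 ≤ v → v ≤ 74074 → fs4 v = true := slots_step fs4 73600 474 74074 s4u231 s4c232 rfl
theorem s4u233 : ∀ v, 1 ≤ v → v ≤ 74449 → fs4 v = true := slots_step fs4 74074 375 74449 s4u232 s4c233 rfl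
theorem s4u234 : ∀ v, 1 ≤ v → v ≤ 74853 → fs4 v = true := slots_step fs4 74449 404 74853 s4u233 s4c234 rfl
theorem s4u235 : ∀ v, 1 ≤ v → v ≤ 75335 → fs4 v = true := slots_step fs4 74853 482 75335 s4u234 s4c235 rfl
theorem s4u236 : ∀ v, 1 ≤ v → v ≤ 75607 → fs4 v = true := slots_step fs4 75335 272 75607 s4u235 s4c236 rfl
theorem s4u237 : ∀ v, 1 ≤ v → v ≤ 75875 → fs4 v = true := slots_step fs4 75607 268 75875 s4u236 s4c237 rfl
theorem s4u238 : ∀ v, 1 ≤ v → v ≤ 76177 → fs4 v = true := slots_step fs4 75875 302 76177 s4u237 s4c238 rfl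
theorem s4u239 : ∀ v, 1 ≤ v → v ≤ 76455 → fs4 v = true := slots_step fs4 76177 278 76455 s4u238 s4c239 rfl
theorem s4u240 : ∀ v, 1 ≤ v → v ≤ 76745 → fs4 v = true := slots_step fs4 76455 290 76745 s4u239 s4c240 rfl
theorem s4u241 : ∀ v, 1 ≤ v → v ≤ 77081 → fs4 v = true := slots_step fs4 76745 336 77081 s4u240 s4c241 rfl
theorem s4u242 : ∀ v, 1 ≤ v → v ≤ 77376 → fs4 v = true := slots_step fs4 77081 295 77376 s4u241 s4c242 rfl
theorem s4u243 : ∀ v, 1 ≤ v → v ≤ 77661 → fs4 v = true := slots_step fs4 77376 285 77661 s4u242 s4c243 rfl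
theorem s4u244 : ∀ v, 1 ≤ v → v ≤ 77953 → fs4 v = true := slots_step fs4 77661 292 77953 s4u243 s4c244 rfl
theorem s4u245 : ∀ v, 1 ≤ v → v ≤ 78264 → fs4 v = true := slots_step fs4 77953 311 78264 s4u244 s4c245 rfl
theorem s4u246 : ∀ v, 1 ≤ v → v ≤ 78577 → fs4 v = true := slots_step fs4 78264 313 78577 s4u245 s4c246 rfl
theorem s4u247 : ∀ v, 1 ≤ v → v ≤ 78974 → fs4 v = true := slots_step fs4 78577 397 78974 s4u246 s4c247 rfl
theorem s4u248 : ∀ v, 1 ≤ v → v ≤ 79427 → fs4 v = true := slots_step fs4 78974 453 79427 s4u247 s4c248 rfl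
theorem s4u249 : ∀ v, 1 ≤ v → v ≤ 79810 → fs4 v = true := slots_step fs4 79427 383 79810 s4u248 s4c249 rfl
theorem s4u250 : ∀ v, 1 ≤ v → v ≤ 80219 → fs4 v = true := slots_step fs4 79810 409 80219 s4u249 s4c250 rfl
theorem s4u251 : ∀ v, 1 ≤ v → v ≤ 80579 → fs4 v = true := slots_step fs4 80219 360 80579 s4u250 s4c251 rfl
theorem s4u252 : ∀ v, 1 ≤ v → v ≤ 80875 → fs4 v = true := slots_step fs4 80579 296 80875 s4u251 s4c252 rfl
theorem s4u253 : ∀ v, 1 ≤ v → v ≤ 81217 → fs4 v = true := slots_step fs4 80875 342 81217 s4u252 s4c253 rfl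
theorem s4u254 : ∀ v, 1 ≤ v → v ≤ 81558 → fs4 v = true := slots_step fs4 81217 341 81558 s4u253 s4c254 rfl
theorem s4u255 : ∀ v, 1 ≤ v → v ≤ 81929 → fs4 v = true := slots_step fs4 81558 371 81929 s4u254 s4c255 rfl
theorem s4u256 : ∀ v, 1 ≤ v → v ≤ 82339 → fs4 v = true := slots_step fs4 81929 410 82339 s4u255 s4c256 rfl
theorem s4u257 : ∀ v, 1 ≤ v → v ≤ 82771 → fs4 v = true := slots_step fs4 82339 432 82771 s4u256 s4c257 rfl
theorem s4u258 : ∀ v, 1 ≤ v → v ≤ 83063 → fs4 v = true := slots_step fs4 82771 292 83063 s4u257 s4c258 rfl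
theorem s4u259 : ∀ v, 1 ≤ v → v ≤ 83393 → fs4 v = true := slots_step fs4 83063 330 83393 s4u258 s4c259 rfl
theorem s4u260 : ∀ v, 1 ≤ v → v ≤ 83654 → fs4 v = true := slots_step fs4 83393 261 83654 s4u259 s4c260 rfl
theorem s4u261 : ∀ v, 1 ≤ v → v ≤ 83943 → fs4 v = true := slots_step fs4 83654 289 83943 s4u260 s4c261 rfl
theorem s4u262 : ∀ v, 1 ≤ v → v ≤ 84287 → fs4 v = true := slots_step fs4 83943 344 84287 s4u261 s4c262 rfl
theorem s4u263 : ∀ v, 1 ≤ v → v ≤ 84601 → fs4 v = true := slots_step fs4 84287 314 84601 s4u262 s4c263 rfl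
theorem s4u264 : ∀ v, 1 ≤ v → v ≤ 84877 → fs4 v = true := slots_step fs4 84601 276 84877 s4u263 s4c264 rfl
theorem s4u265 : ∀ v, 1 ≤ v → v ≤ 85178 → fs4 v = true := slots_step fs4 84877 301 85178 s4u264 s4c265 rfl
theorem s4u266 : ∀ v, 1 ≤ v → v ≤ 85494 → fs4 v = true := slots_step fs4 85178 316 85494 s4u265 s4c266 rfl
theorem s4u267 : ∀ v, 1 ≤ v → v ≤ 85824 → fs4 v = true := slots_step fs4 85494 330 85824 s4u266 s4c267 rfl
theorem s4u268 : ∀ v, 1 ≤ v → v ≤ 86103 → fs4 v = true := slots_step fs4 85824 279 86103 s4u267 s4c268 rfl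
theorem s4u269 : ∀ v, 1 ≤ v → v ≤ 86394 → fs4 v = true := slots_step fs4 86103 291 86394 s4u268 s4c269 rfl
theorem s4u270 : ∀ v, 1 ≤ v → v ≤ 86675 → fs4 v = true := slots_step fs4 86394 281 86675 s4u269 s4c270 rfl
theorem s4u271 : ∀ v, 1 ≤ v → v ≤ 86982 → fs4 v = true := slots_step fs4 86675 307 86982 s4u270 s4c271 rfl
theorem s4u272 : ∀ v, 1 ≤ v → v ≤ 87292 → fs4 v = true := slots_step fs4 86982 310 87292 s4u271 s4c272 rfl
theorem s4u273 : ∀ v, 1 ≤ v → v ≤ 87600 → fs4 v = true := slots_step fs4 87292 308 87600 s4u272 s4c273 rfl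
theorem s4u274 : ∀ v, 1 ≤ v → v ≤ 87943 → fs4 v = true := slots_step fs4 87600 343 87943 s4u273 s4c274 rfl
theorem s4u275 : ∀ v, 1 ≤ v → v ≤ 88353 → fs4 v = true := slots_step fs4 87943 410 88353 s4u274 s4c275 rfl
theorem s4u276 : ∀ v, 1 ≤ v → v ≤ 88761 → fs4 v = true := slots_step fs4 88353 408 88761 s4u275 s4c276 rfl
theorem s4u277 : ∀ v, 1 ≤ v → v ≤ 89111 → fs4 v = true := slots_step fs4 88761 350 89111 s4u276 s4c277 rfl
theorem s4u278 : ∀ v, 1 ≤ v → v ≤ 89450 → fs4 v = true := slots_step fs4 89111 339 89450 s4u277 s4c278 rfl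
theorem s4u279 : ∀ v, 1 ≤ v → v ≤ 89859 → fs4 v = true := slots_step fs4 89450 409 89859 s4u278 s4c279 rfl
theorem s4u280 : ∀ v, 1 ≤ v → v ≤ 90250 → fs4 v = true := slots_step fs4 89859 391 90250 s4u279 s4c280 rfl
theorem s4u281 : ∀ v, 1 ≤ v → v ≤ 90702 → fs4 v = true := slots_step fs4 90250 452 90702 s4u280 s4c281 rfl
theorem s4u282 : ∀ v, 1 ≤ v → v ≤ 90997 → fs4 v = true := slots_step fs4 90702 295 90997 s4u281 s4c282 rfl
theorem s4u283 : ∀ v, 1 ≤ v → v ≤ 91340 → fs4 v = true := slots_step fs4 90997 343 91340 s4u282 s4c283 rfl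
theorem s4u284 : ∀ v, 1 ≤ v → v ≤ 91668 → fs4 v = true := slots_step fs4 91340 328 91668 s4u283 s4c284 rfl
theorem s4u285 : ∀ v, 1 ≤ v → v ≤ 92019 → fs4 v = true := slots_step fs4 91668 351 92019 s4u284 s4c285 rfl
theorem s4u286 : ∀ v, 1 ≤ v → v ≤ 92367 → fs4 v = true := slots_step fs4 92019 348 92367 s4u285 s4c286 rfl
theorem s4u287 : ∀ v, 1 ≤ v → v ≤ 92713 → fs4 v = true := slots_step fs4 92367 346 92713 s4u286 s4c287 rfl
theorem s4u288 : ∀ v, 1 ≤ v → v ≤ 93129 → fs4 v = true := slots_step fs4 92713 416 93129 s4u287 s4c288 rfl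
theorem s4u289 : ∀ v, 1 ≤ v → v ≤ 93576 → fs4 v = true := slots_step fs4 93129 447 93576 s4u288 s4c289 rfl
theorem s4u290 : ∀ v, 1 ≤ v → v ≤ 94048 → fs4 v = true := slots_step fs4 93576 472 94048 s4u289 s4c290 rfl
theorem s4u291 : ∀ v, 1 ≤ v → v ≤ 94458 → fs4 v = true := slots_step fs4 94048 410 94458 s4u290 s4c291 rfl
theorem s4u292 : ∀ v, 1 ≤ v → v ≤ 94768 → fs4 v = true := slots_step fs4 94458 310 94768 s4u291 s4c292 rfl
theorem s4u293 : ∀ v, 1 ≤ v → v ≤ 95090 → fs4 v = true := slots_step fs4 94768 322 95090 s4u292 s4c293 rfl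
theorem s4u294 : ∀ v, 1 ≤ v → v ≤ 95461 → fs4 v = true := slots_step fs4 95090 371 95461 s4u293 s4c294 rfl
theorem s4u295 : ∀ v, 1 ≤ v → v ≤ 95783 → fs4 v = true := slots_step fs4 95461 322 95783 s4u294 s4c295 rfl
theorem s4u296 : ∀ v, 1 ≤ v → v ≤ 96125 → fs4 v = true := slots_step fs4 95783 342 96125 s4u295 s4c296 rfl
theorem s4u297 : ∀ v, 1 ≤ v → v ≤ 96466 → fs4 v = true := slots_step fs4 96125 341 96466 s4u296 s4c297 rfl
theorem s4u298 : ∀ v, 1 ≤ v → v ≤ 97000 → fs4 v = true := slots_step fs4 96466 534 97000 s4u297 s4c298 rfl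
theorem s4u299 : ∀ v, 1 ≤ v → v ≤ 97485 → fs4 v = true := slots_step fs4 97000 485 97485 s4u298 s4c299 rfl
theorem s4u300 : ∀ v, 1 ≤ v → v ≤ 97861 → fs4 v = true := slots_step fs4 97485 376 97861 s4u299 s4c300 rfl
theorem s4u301 : ∀ v, 1 ≤ v → v ≤ 98286 → fs4 v = true := slots_step fs4 97861 425 98286 s4u300 s4c301 rfl
theorem s4u302 : ∀ v, 1 ≤ v → v ≤ 98789 → fs4 v = true := slots_step fs4 98286 503 98789 s4u301 s4c302 rfl
theorem s4u303 : ∀ v, 1 ≤ v → v ≤ 99085 → fs4 v = true := slots_step fs4 98789 296 99085 s4u302 s4c303 rfl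
theorem s4u304 : ∀ v, 1 ≤ v → v ≤ 99342 → fs4 v = true := slots_step fs4 99085 257 99342 s4u303 s4c304 rfl
theorem s4u305 : ∀ v, 1 ≤ v → v ≤ 99632 → fs4 v = true := slots_step fs4 99342 290 99632 s4u304 s4c305 rfl
theorem s4u306 : ∀ v, 1 ≤ v → v ≤ 99929 → fs4 v = true := slots_step fs4 99632 297 99929 s4u305 s4c306 rfl
theorem s4u307 : ∀ v, 1 ≤ v → v ≤ 100220 → fs4 v = true := slots_step fs4 99929 291 100220 s4u306 s4c307 rfl
theorem s4u308 : ∀ v, 1 ≤ v → v ≤ 100498 → fs4 v = true := slots_step fs4 100220 278 100498 s4u307 s4c308 rfl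
theorem s4u309 : ∀ v, 1 ≤ v → v ≤ 100792 → fs4 v = true := slots_step fs4 100498 294 100792 s4u308 s4c309 rfl
theorem s4u310 : ∀ v, 1 ≤ v → v ≤ 101125 → fs4 v = true := slots_step fs4 100792 333 101125 s4u309 s4c310 rfl
theorem s4u311 : ∀ v, 1 ≤ v → v ≤ 101477 → fs4 v = true := slots_step fs4 101125 352 101477 s4u310 s4c311 rfl
theorem s4u312 : ∀ v, 1 ≤ v → v ≤ 101750 → fs4 v = true := slots_step fs4 101477 273 101750 s4u311 s4c312 rfl
theorem s4u313 : ∀ v, 1 ≤ v → v ≤ 102052 → fs4 v = true := slots_step fs4 101750 302 102052 s4u312 s4c313 rfl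
theorem s4u314 : ∀ v, 1 ≤ v → v ≤ 102367 → fs4 v = true := slots_step fs4 102052 315 102367 s4u313 s4c314 rfl
theorem s4u315 : ∀ v, 1 ≤ v → v ≤ 102665 → fs4 v = true := slots_step fs4 102367 298 102665 s4u314 s4c315 rfl
theorem s4u316 : ∀ v, 1 ≤ v → v ≤ 102973 → fs4 v = true := slots_step fs4 102665 308 102973 s4u315 s4c316 rfl
theorem s4u317 : ∀ v, 1 ≤ v → v ≤ 103298 → fs4 v = true := slots_step fs4 102973 325 103298 s4u316 s4c317 rfl
theorem s4u318 : ∀ v, 1 ≤ v → v ≤ 103716 → fs4 v = true := slots_step fs4 103298 418 103716 s4u317 s4c318 rfl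
theorem s4u319 : ∀ v, 1 ≤ v → v ≤ 104165 → fs4 v = true := slots_step fs4 103716 449 104165 s4u318 s4c319 rfl
theorem s4u320 : ∀ v, 1 ≤ v → v ≤ 104589 → fs4 v = true := slots_step fs4 104165 424 104589 s4u319 s4c320 rfl
theorem s4u321 : ∀ v, 1 ≤ v → v ≤ 105022 → fs4 v = true := slots_step fs4 104589 433 105022 s4u320 s4c321 rfl
theorem s4u322 : ∀ v, 1 ≤ v → v ≤ 105352 → fs4 v = true := slots_step fs4 105022 330 105352 s4u321 s4c322 rfl
theorem s4u323 : ∀ v, 1 ≤ v → v ≤ 105654 → fs4 v = true := slots_step fs4 105352 302 105654 s4u322 s4c323 rfl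
theorem s4u324 : ∀ v, 1 ≤ v → v ≤ 106006 → fs4 v = true := slots_step fs4 105654 352 106006 s4u323 s4c324 rfl
theorem s4u325 : ∀ v, 1 ≤ v → v ≤ 106371 → fs4 v = true := slots_step fs4 106006 365 106371 s4u324 s4c325 rfl
theorem s4u326 : ∀ v, 1 ≤ v → v ≤ 106742 → fs4 v = true := slots_step fs4 106371 371 106742 s4u325 s4c326 rfl
theorem s4u327 : ∀ v, 1 ≤ v → v ≤ 107178 → fs4 v = true := slots_step fs4 106742 436 107178 s4u326 s4c327 rfl
theorem s4u328 : ∀ v, 1 ≤ v → v ≤ 107598 → fs4 v = true := slots_step fs4 107178 420 107598 s4u327 s4c328 rfl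
theorem s4u329 : ∀ v, 1 ≤ v → v ≤ 107877 → fs4 v = true := slots_step fs4 107598 279 107877 s4u328 s4c329 rfl
theorem s4u330 : ∀ v, 1 ≤ v → v ≤ 108186 → fs4 v = true := slots_step fs4 107877 309 108186 s4u329 s4c330 rfl
theorem s4u331 : ∀ v, 1 ≤ v → v ≤ 108480 → fs4 v = true := slots_step fs4 108186 294 108480 s4u330 s4c331 rfl
theorem s4u332 : ∀ v, 1 ≤ v → v ≤ 108751 → fs4 v = true := slots_step fs4 108480 271 108751 s4u331 s4c332 rfl
theorem s4u333 : ∀ v, 1 ≤ v → v ≤ 109035 → fs4 v = true := slots_step fs4 108751 284 109035 s4u332 s4c333 rfl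
theorem s4u334 : ∀ v, 1 ≤ v → v ≤ 109361 → fs4 v = true := slots_step fs4 109035 326 109361 s4u333 s4c334 rfl
theorem s4u335 : ∀ v, 1 ≤ v → v ≤ 109728 → fs4 v = true := slots_step fs4 109361 367 109728 s4u334 s4c335 rfl
theorem s4u336 : ∀ v, 1 ≤ v → v ≤ 110009 → fs4 v = true := slots_step fs4 109728 281 110009 s4u335 s4c336 rfl
theorem s4u337 : ∀ v, 1 ≤ v → v ≤ 110288 → fs4 v = true := slots_step fs4 110009 279 110288 s4u336 s4c337 rfl
theorem s4u338 : ∀ v, 1 ≤ v → v ≤ 110568 → fs4 v = true := slots_step fs4 110288 280 110568 s4u337 s4c338 rfl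
theorem s4u339 : ∀ v, 1 ≤ v → v ≤ 110903 → fs4 v = true := slots_step fs4 110568 335 110903 s4u338 s4c339 rfl
theorem s4u340 : ∀ v, 1 ≤ v → v ≤ 111218 → fs4 v = true := slots_step fs4 110903 315 111218 s4u339 s4c340 rfl
theorem s4u341 : ∀ v, 1 ≤ v → v ≤ 111552 → fs4 v = true := slots_step fs4 111218 334 111552 s4u340 s4c341 rfl
theorem s4u342 : ∀ v, 1 ≤ v → v ≤ 111855 → fs4 v = true := slots_step fs4 111552 303 111855 s4u341 s4c342 rfl
theorem s4u343 : ∀ v, 1 ≤ v → v ≤ 112137 → fs4 v = true := slots_step fs4 111855 282 112137 s4u342 s4c343 rfl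
theorem s4u344 : ∀ v, 1 ≤ v → v ≤ 112437 → fs4 v = true := slots_step fs4 112137 300 112437 s4u343 s4c344 rfl
theorem s4u345 : ∀ v, 1 ≤ v → v ≤ 112720 → fs4 v = true := slots_step fs4 112437 283 112720 s4u344 s4c345 rfl
theorem s4u346 : ∀ v, 1 ≤ v → v ≤ 113035 → fs4 v = true := slots_step fs4 112720 315 113035 s4u345 s4c346 rfl
theorem s4u347 : ∀ v, 1 ≤ v → v ≤ 113349 → fs4 v = true := slots_step fs4 113035 314 113349 s4u346 s4c347 rfl
theorem s4u348 : ∀ v, 1 ≤ v → v ≤ 113672 → fs4 v = true := slots_step fs4 113349 323 113672 s4u347 s4c348 rfl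
theorem s4u349 : ∀ v, 1 ≤ v → v ≤ 114001 → fs4 v = true := slots_step fs4 113672 329 114001 s4u348 s4c349 rfl
theorem s4u350 : ∀ v, 1 ≤ v → v ≤ 114320 → fs4 v = true := slots_step fs4 114001 319 114320 s4u349 s4c350 rfl
theorem s4u351 : ∀ v, 1 ≤ v → v ≤ 114661 → fs4 v = true := slots_step fs4 114320 341 114661 s4u350 s4c351 rfl
theorem s4u352 : ∀ v, 1 ≤ v → v ≤ 115063 → fs4 v = true := slots_step fs4 114661 402 115063 s4u351 s4c352 rfl
theorem s4u353 : ∀ v, 1 ≤ v → v ≤ 115462 → fs4 v = true := slots_step fs4 115063 399 115462 s4u352 s4c353 rfl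
theorem s4u354 : ∀ v, 1 ≤ v → v ≤ 115826 → fs4 v = true := slots_step fs4 115462 364 115826 s4u353 s4c354 rfl
theorem s4u355 : ∀ v, 1 ≤ v → v ≤ 116190 → fs4 v = true := slots_step fs4 115826 364 116190 s4u354 s4c355 rfl
theorem s4u356 : ∀ v, 1 ≤ v → v ≤ 116620 → fs4 v = true := slots_step fs4 116190 430 116620 s4u355 s4c356 rfl
theorem s4u357 : ∀ v, 1 ≤ v → v ≤ 117005 → fs4 v = true := slots_step fs4 116620 385 117005 s4u356 s4c357 rfl
theorem s4u358 : ∀ v, 1 ≤ v → v ≤ 117438 → fs4 v = true := slots_step fs4 117005 433 117438 s4u357 s4c358 rfl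
theorem s4u359 : ∀ v, 1 ≤ v → v ≤ 117775 → fs4 v = true := slots_step fs4 117438 337 117775 s4u358 s4c359 rfl
theorem s4u360 : ∀ v, 1 ≤ v → v ≤ 118124 → fs4 v = true := slots_step fs4 117775 349 118124 s4u359 s4c360 rfl
theorem s4u361 : ∀ v, 1 ≤ v → v ≤ 118499 → fs4 v = true := slots_step fs4 118124 375 118499 s4u360 s4c361 rfl
theorem s4u362 : ∀ v, 1 ≤ v → v ≤ 118816 → fs4 v = true := slots_step fs4 118499 317 118816 s4u361 s4c362 rfl
theorem s4u363 : ∀ v, 1 ≤ v → v ≤ 119182 → fs4 v = true := slots_step fs4 118816 366 119182 s4u362 s4c363 rfl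
theorem s4u364 : ∀ v, 1 ≤ v → v ≤ 119535 → fs4 v = true := slots_step fs4 119182 353 119535 s4u363 s4c364 rfl
theorem s4u365 : ∀ v, 1 ≤ v → v ≤ 119991 → fs4 v = true := slots_step fs4 119535 456 119991 s4u364 s4c365 rfl
theorem s4u366 : ∀ v, 1 ≤ v → v ≤ 120449 → fs4 v = true := slots_step fs4 119991 458 120449 s4u365 s4c366 rfl
theorem s4u367 : ∀ v, 1 ≤ v → v ≤ 120762 → fs4 v = true := slots_step fs4 120449 313 120762 s4u366 s4c367 rfl
theorem s4u368 : ∀ v, 1 ≤ v → v ≤ 121074 → fs4 v = true := slots_step fs4 120762 312 121074 s4u367 s4c368 rfl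
theorem s4u369 : ∀ v, 1 ≤ v → v ≤ 121389 → fs4 v = true := slots_step fs4 121074 315 121389 s4u368 s4c369 rfl
theorem s4u370 : ∀ v, 1 ≤ v → v ≤ 121766 → fs4 v = true := slots_step fs4 121389 377 121766 s4u369 s4c370 rfl
theorem s4u371 : ∀ v, 1 ≤ v → v ≤ 122117 → fs4 v = true := slots_step fs4 121766 351 122117 s4u370 s4c371 rfl
theorem s4u372 : ∀ v, 1 ≤ v → v ≤ 122452 → fs4 v = true := slots_step fs4 122117 335 122452 s4u371 s4c372 rfl
theorem s4u373 : ∀ v, 1 ≤ v → v ≤ 122769 → fs4 v = true := slots_step fs4 122452 317 122769 s4u372 s4c373 rfl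
theorem s4u374 : ∀ v, 1 ≤ v → v ≤ 123131 → fs4 v = true := slots_step fs4 122769 362 123131 s4u373 s4c374 rfl
theorem s4u375 : ∀ v, 1 ≤ v → v ≤ 123649 → fs4 v = true := slots_step fs4 123131 518 123649 s4u374 s4c375 rfl
theorem s4u376 : ∀ v, 1 ≤ v → v ≤ 124018 → fs4 v = true := slots_step fs4 123649 369 124018 s4u375 s4c376 rfl
theorem s4u377 : ∀ v, 1 ≤ v → v ≤ 124448 → fs4 v = true := slots_step fs4 124018 430 124448 s4u376 s4c377 rfl
theorem s4u378 : ∀ v, 1 ≤ v → v ≤ 124833 → fs4 v = true := slots_step fs4 124448 385 124833 s4u377 s4c378 rfl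
theorem s4u379 : ∀ v, 1 ≤ v → v ≤ 125092 → fs4 v = true := slots_step fs4 124833 259 125092 s4u378 s4c379 rfl
theorem s4u380 : ∀ v, 1 ≤ v → v ≤ 125343 → fs4 v = true := slots_step fs4 125092 251 125343 s4u379 s4c380 rfl
theorem s4u381 : ∀ v, 1 ≤ v → v ≤ 125605 → fs4 v = true := slots_step fs4 125343 262 125605 s4u380 s4c381 rfl
theorem s4u382 : ∀ v, 1 ≤ v → v ≤ 125847 → fs4 v = true := slots_step fs4 125605 242 125847 s4u381 s4c382 rfl
theorem s4u383 : ∀ v, 1 ≤ v → v ≤ 126115 → fs4 v = true := slots_step fs4 125847 268 126115 s4u382 s4c383 rfl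
theorem s4u384 : ∀ v, 1 ≤ v → v ≤ 126381 → fs4 v = true := slots_step fs4 126115 266 126381 s4u383 s4c384 rfl
theorem s4u385 : ∀ v, 1 ≤ v → v ≤ 126644 → fs4 v = true := slots_step fs4 126381 263 126644 s4u384 s4c385 rfl
theorem s4u386 : ∀ v, 1 ≤ v → v ≤ 126905 → fs4 v = true := slots_step fs4 126644 261 126905 s4u385 s4c386 rfl
theorem s4u387 : ∀ v, 1 ≤ v → v ≤ 127180 → fs4 v = true := slots_step fs4 126905 275 127180 s4u386 s4c387 rfl
theorem s4u388 : ∀ v, 1 ≤ v → v ≤ 127452 → fs4 v = true := slots_step fs4 127180 272 127452 s4u387 s4c388 rfl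
theorem s4u389 : ∀ v, 1 ≤ v → v ≤ 127721 → fs4 v = true := slots_step fs4 127452 269 127721 s4u388 s4c389 rfl
theorem s4u390 : ∀ v, 1 ≤ v → v ≤ 127998 → fs4 v = true := slots_step fs4 127721 277 127998 s4u389 s4c390 rfl
theorem s4u391 : ∀ v, 1 ≤ v → v ≤ 128265 → fs4 v = true := slots_step fs4 127998 267 128265 s4u390 s4c391 rfl
theorem s4u392 : ∀ v, 1 ≤ v → v ≤ 128536 → fs4 v = true := slots_step fs4 128265 271 128536 s4u391 s4c392 rfl
theorem s4u393 : ∀ v, 1 ≤ v → v ≤ 128796 → fs4 v = true := slots_step fs4 128536 260 128796 s4u392 s4c393 rfl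
theorem s4u394 : ∀ v, 1 ≤ v → v ≤ 129054 → fs4 v = true := slots_step fs4 128796 258 129054 s4u393 s4c394 rfl
theorem s4u395 : ∀ v, 1 ≤ v → v ≤ 129321 → fs4 v = true := slots_step fs4 129054 267 129321 s4u394 s4c395 rfl
theorem s4u396 : ∀ v, 1 ≤ v → v ≤ 129590 → fs4 v = true := slots_step fs4 129321 269 129590 s4u395 s4c396 rfl
theorem s4u397 : ∀ v, 1 ≤ v → v ≤ 129849 → fs4 v = true := slots_step fs4 129590 259 129849 s4u396 s4c397 rfl
theorem s4u398 : ∀ v, 1 ≤ v → v ≤ 130110 → fs4 v = true := slots_step fs4 129849 261 130110 s4u397 s4c398 rfl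
theorem s4u399 : ∀ v, 1 ≤ v → v ≤ 130371 → fs4 v = true := slots_step fs4 130110 261 130371 s4u398 s4c399 rfl
theorem s4u400 : ∀ v, 1 ≤ v → v ≤ 130643 → fs4 v = true := slots_step fs4 130371 272 130643 s4u399 s4c400 rfl
theorem s4u401 : ∀ v, 1 ≤ v → v ≤ 130913 → fs4 v = true := slots_step fs4 130643 270 130913 s4u400 s4c401 rfl
theorem s4u402 : ∀ v, 1 ≤ v → v ≤ 131182 → fs4 v = true := slots_step fs4 130913 269 131182 s4u401 s4c402 rfl
theorem s4u403 : ∀ v, 1 ≤ v → v ≤ 131452 → fs4 v = true := slots_step fs4 131182 270 131452 s4u402 s4c403 rfl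
theorem s4u404 : ∀ v, 1 ≤ v → v ≤ 131727 → fs4 v = true := slots_step fs4 131452 275 131727 s4u403 s4c404 rfl
theorem s4u405 : ∀ v, 1 ≤ v → v ≤ 131986 → fs4 v = true := slots_step fs4 131727 259 131986 s4u404 s4c405 rfl
theorem s4u406 : ∀ v, 1 ≤ v → v ≤ 132250 → fs4 v = true := slots_step fs4 131986 264 132250 s4u405 s4c406 rfl
theorem s4u407 : ∀ v, 1 ≤ v → v ≤ 132519 → fs4 v = true := slots_step fs4 132250 269 132519 s4u406 s4c407 rfl
theorem s4u408 : ∀ v, 1 ≤ v → v ≤ 132795 → fs4 v = true := slots_step fs4 132519 276 132795 s4u407 s4c408 rfl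
theorem s4u409 : ∀ v, 1 ≤ v → v ≤ 133066 → fs4 v = true := slots_step fs4 132795 271 133066 s4u408 s4c409 rfl
theorem s4u410 : ∀ v, 1 ≤ v → v ≤ 133341 → fs4 v = true := slots_step fs4 133066 275 133341 s4u409 s4c410 rfl
theorem s4u411 : ∀ v, 1 ≤ v → v ≤ 133604 → fs4 v = true := slots_step fs4 133341 263 133604 s4u410 s4c411 rfl
theorem s4u412 : ∀ v, 1 ≤ v → v ≤ 133882 → fs4 v = true := slots_step fs4 133604 278 133882 s4u411 s4c412 rfl
theorem s4u413 : ∀ v, 1 ≤ v → v ≤ 134154 → fs4 v = true := slots_step fs4 133882 272 134154 s4u412 s4c413 rfl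
theorem s4u414 : ∀ v, 1 ≤ v → v ≤ 134429 → fs4 v = true := slots_step fs4 134154 275 134429 s4u413 s4c414 rfl
theorem s4u415 : ∀ v, 1 ≤ v → v ≤ 134710 → fs4 v = true := slots_step fs4 134429 281 134710 s4u414 s4c415 rfl
theorem s4u416 : ∀ v, 1 ≤ v → v ≤ 134987 → fs4 v = true := slots_step fs4 134710 277 134987 s4u415 s4c416 rfl
theorem s4u417 : ∀ v, 1 ≤ v → v ≤ 135268 → fs4 v = true := slots_step fs4 134987 281 135268 s4u416 s4c417 rfl
theorem s4u418 : ∀ v, 1 ≤ v → v ≤ 135548 → fs4 v = true := slots_step fs4 135268 280 135548 s4u417 s4c418 rfl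
theorem s4u419 : ∀ v, 1 ≤ v → v ≤ 135835 → fs4 v = true := slots_step fs4 135548 287 135835 s4u418 s4c419 rfl
theorem s4u420 : ∀ v, 1 ≤ v → v ≤ 136117 → fs4 v = true := slots_step fs4 135835 282 136117 s4u419 s4c420 rfl
theorem s4u421 : ∀ v, 1 ≤ v → v ≤ 136405 → fs4 v = true := slots_step fs4 136117 288 136405 s4u420 s4c421 rfl
theorem s4u422 : ∀ v, 1 ≤ v → v ≤ 136681 → fs4 v = true := slots_step fs4 136405 276 136681 s4u421 s4c422 rfl
theorem s4u423 : ∀ v, 1 ≤ v → v ≤ 136937 → fs4 v = true := slots_step fs4 136681 256 136937 s4u422 s4c423 rfl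
theorem s4u424 : ∀ v, 1 ≤ v → v ≤ 137216 → fs4 v = true := slots_step fs4 136937 279 137216 s4u423 s4c424 rfl
theorem s4u425 : ∀ v, 1 ≤ v → v ≤ 137492 → fs4 v = true := slots_step fs4 137216 276 137492 s4u424 s4c425 rfl
theorem s4u426 : ∀ v, 1 ≤ v → v ≤ 137765 → fs4 v = true := slots_step fs4 137492 273 137765 s4u425 s4c426 rfl
theorem s4u427 : ∀ v, 1 ≤ v → v ≤ 138040 → fs4 v = true := slots_step fs4 137765 275 138040 s4u426 s4c427 rfl
theorem s4u428 : ∀ v, 1 ≤ v → v ≤ 138318 → fs4 v = true := slots_step fs4 138040 278 138318 s4u427 s4c428 rfl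
theorem s4u429 : ∀ v, 1 ≤ v → v ≤ 138591 → fs4 v = true := slots_step fs4 138318 273 138591 s4u428 s4c429 rfl
theorem s4u430 : ∀ v, 1 ≤ v → v ≤ 138860 → fs4 v = true := slots_step fs4 138591 269 138860 s4u429 s4c430 rfl
theorem s4u431 : ∀ v, 1 ≤ v → v ≤ 139124 → fs4 v = true := slots_step fs4 138860 264 139124 s4u430 s4c431 rfl
theorem s4u432 : ∀ v, 1 ≤ v → v ≤ 139372 → fs4 v = true := slots_step fs4 139124 248 139372 s4u431 s4c432 rfl
theorem s4u433 : ∀ v, 1 ≤ v → v ≤ 139634 → fs4 v = true := slots_step fs4 139372 262 139634 s4u432 s4c433 rfl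
theorem s4u434 : ∀ v, 1 ≤ v → v ≤ 139897 → fs4 v = true := slots_step fs4 139634 263 139897 s4u433 s4c434 rfl
theorem s4u435 : ∀ v, 1 ≤ v → v ≤ 140161 → fs4 v = true := slots_step fs4 139897 264 140161 s4u434 s4c435 rfl
theorem s4u436 : ∀ v, 1 ≤ v → v ≤ 140430 → fs4 v = true := slots_step fs4 140161 269 140430 s4u435 s4c436 rfl
theorem s4u437 : ∀ v, 1 ≤ v → v ≤ 140693 → fs4 v = true := slots_step fs4 140430 263 140693 s4u436 s4c437 rfl
theorem s4u438 : ∀ v, 1 ≤ v → v ≤ 140934 → fs4 v = true := slots_step fs4 140693 241 140934 s4u437 s4c438 rfl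
theorem s4u439 : ∀ v, 1 ≤ v → v ≤ 141196 → fs4 v = true := slots_step fs4 140934 262 141196 s4u438 s4c439 rfl
theorem s4u440 : ∀ v, 1 ≤ v → v ≤ 141456 → fs4 v = true := slots_step fs4 141196 260 141456 s4u439 s4c440 rfl
theorem s4u441 : ∀ v, 1 ≤ v → v ≤ 141718 → fs4 v = true := slots_step fs4 141456 262 141718 s4u440 s4c441 rfl
theorem s4u442 : ∀ v, 1 ≤ v → v ≤ 141973 → fs4 v = true := slots_step fs4 141718 255 141973 s4u441 s4c442 rfl
theorem s4u443 : ∀ v, 1 ≤ v → v ≤ 142231 → fs4 v = true := slots_step fs4 141973 258 142231 s4u442 s4c443 rfl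
theorem s4u444 : ∀ v, 1 ≤ v → v ≤ 142476 → fs4 v = true := slots_step fs4 142231 245 142476 s4u443 s4c444 rfl
theorem s4u445 : ∀ v, 1 ≤ v → v ≤ 142739 → fs4 v = true := slots_step fs4 142476 263 142739 s4u444 s4c445 rfl
theorem s4u446 : ∀ v, 1 ≤ v → v ≤ 143003 → fs4 v = true := slots_step fs4 142739 264 143003 s4u445 s4c446 rfl
theorem s4u447 : ∀ v, 1 ≤ v → v ≤ 143267 → fs4 v = true := slots_step fs4 143003 264 143267 s4u446 s4c447 rfl
theorem s4u448 : ∀ v, 1 ≤ v → v ≤ 143534 → fs4 v = true := slots_step fs4 143267 267 143534 s4u447 s4c448 rfl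
theorem s4u449 : ∀ v, 1 ≤ v → v ≤ 143800 → fs4 v = true := slots_step fs4 143534 266 143800 s4u448 s4c449 rfl
theorem s4u450 : ∀ v, 1 ≤ v → v ≤ 144072 → fs4 v = true := slots_step fs4 143800 272 144072 s4u449 s4c450 rfl
theorem s4u451 : ∀ v, 1 ≤ v → v ≤ 144333 → fs4 v = true := slots_step fs4 144072 261 144333 s4u450 s4c451 rfl
theorem s4u452 : ∀ v, 1 ≤ v → v ≤ 144605 → fs4 v = true := slots_step fs4 144333 272 144605 s4u451 s4c452 rfl
theorem s4u453 : ∀ v, 1 ≤ v → v ≤ 144876 → fs4 v = true := slots_step fs4 144605 271 144876 s4u452 s4c453 rfl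
theorem s4u454 : ∀ v, 1 ≤ v → v ≤ 145154 → fs4 v = true := slots_step fs4 144876 278 145154 s4u453 s4c454 rfl
theorem s4u455 : ∀ v, 1 ≤ v → v ≤ 145427 → fs4 v = true := slots_step fs4 145154 273 145427 s4u454 s4c455 rfl
theorem s4u456 : ∀ v, 1 ≤ v → v ≤ 145698 → fs4 v = true := slots_step fs4 145427 271 145698 s4u455 s4c456 rfl
theorem s4u457 : ∀ v, 1 ≤ v → v ≤ 145968 → fs4 v = true := slots_step fs4 145698 270 145968 s4u456 s4c457 rfl
theorem s4u458 : ∀ v, 1 ≤ v → v ≤ 146204 → fs4 v = true := slots_step fs4 145968 236 146204 s4u457 s4c458 rfl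
theorem s4u459 : ∀ v, 1 ≤ v → v ≤ 146467 → fs4 v = true := slots_step fs4 146204 263 146467 s4u458 s4c459 rfl
theorem s4u460 : ∀ v, 1 ≤ v → v ≤ 146732 → fs4 v = true := slots_step fs4 146467 265 146732 s4u459 s4c460 rfl
theorem s4u461 : ∀ v, 1 ≤ v → v ≤ 146999 → fs4 v = true := slots_step fs4 146732 267 146999 s4u460 s4c461 rfl
theorem s4u462 : ∀ v, 1 ≤ v → v ≤ 147256 → fs4 v = true := slots_step fs4 146999 257 147256 s4u461 s4c462 rfl
theorem s4u463 : ∀ v, 1 ≤ v → v ≤ 147515 → fs4 v = true := slots_step fs4 147256 259 147515 s4u462 s4c463 rfl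
theorem s4u464 : ∀ v, 1 ≤ v → v ≤ 147776 → fs4 v = true := slots_step fs4 147515 261 147776 s4u463 s4c464 rfl
theorem s4u465 : ∀ v, 1 ≤ v → v ≤ 148054 → fs4 v = true := slots_step fs4 147776 278 148054 s4u464 s4c465 rfl
theorem s4u466 : ∀ v, 1 ≤ v → v ≤ 148319 → fs4 v = true := slots_step fs4 148054 265 148319 s4u465 s4c466 rfl
theorem s4u467 : ∀ v, 1 ≤ v → v ≤ 148593 → fs4 v = true := slots_step fs4 148319 274 148593 s4u466 s4c467 rfl
theorem s4u468 : ∀ v, 1 ≤ v → v ≤ 148869 → fs4 v = true := slots_step fs4 148593 276 148869 s4u467 s4c468 rfl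
theorem s4u469 : ∀ v, 1 ≤ v → v ≤ 149146 → fs4 v = true := slots_step fs4 148869 277 149146 s4u468 s4c469 rfl
theorem s4u470 : ∀ v, 1 ≤ v → v ≤ 149406 → fs4 v = true := slots_step fs4 149146 260 149406 s4u469 s4c470 rfl
theorem s4u471 : ∀ v, 1 ≤ v → v ≤ 149670 → fs4 v = true := slots_step fs4 149406 264 149670 s4u470 s4c471 rfl
theorem s4u472 : ∀ v, 1 ≤ v → v ≤ 149939 → fs4 v = true := slots_step fs4 149670 269 149939 s4u471 s4c472 rfl
theorem s4u473 : ∀ v, 1 ≤ v → v ≤ 150219 → fs4 v = true := slots_step fs4 149939 280 150219 s4u472 s4c473 rfl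
theorem s4u474 : ∀ v, 1 ≤ v → v ≤ 150492 → fs4 v = true := slots_step fs4 150219 273 150492 s4u473 s4c474 rfl
theorem s4u475 : ∀ v, 1 ≤ v → v ≤ 150768 → fs4 v = true := slots_step fs4 150492 276 150768 s4u474 s4c475 rfl
theorem s4u476 : ∀ v, 1 ≤ v → v ≤ 151052 → fs4 v = true := slots_step fs4 150768 284 151052 s4u475 s4c476 rfl
theorem s4u477 : ∀ v, 1 ≤ v → v ≤ 151317 → fs4 v = true := slots_step fs4 151052 265 151317 s4u476 s4c477 rfl
theorem s4u478 : ∀ v, 1 ≤ v → v ≤ 151591 → fs4 v = true := slots_step fs4 151317 274 151591 s4u477 s4c478 rfl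
theorem s4u479 : ∀ v, 1 ≤ v → v ≤ 151868 → fs4 v = true := slots_step fs4 151591 277 151868 s4u478 s4c479 rfl
theorem s4u480 : ∀ v, 1 ≤ v → v ≤ 152137 → fs4 v = true := slots_step fs4 151868 269 152137 s4u479 s4c480 rfl
theorem s4u481 : ∀ v, 1 ≤ v → v ≤ 152414 → fs4 v = true := slots_step fs4 152137 277 152414 s4u480 s4c481 rfl
theorem s4u482 : ∀ v, 1 ≤ v → v ≤ 152691 → fs4 v = true := slots_step fs4 152414 277 152691 s4u481 s4c482 rfl
theorem s4u483 : ∀ v, 1 ≤ v → v ≤ 152972 → fs4 v = true := slots_step fs4 152691 281 152972 s4u482 s4c483 rfl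
theorem s4u484 : ∀ v, 1 ≤ v → v ≤ 153246 → fs4 v = true := slots_step fs4 152972 274 153246 s4u483 s4c484 rfl
theorem s4u485 : ∀ v, 1 ≤ v → v ≤ 153529 → fs4 v = true := slots_step fs4 153246 283 153529 s4u484 s4c485 rfl
theorem s4u486 : ∀ v, 1 ≤ v → v ≤ 153808 → fs4 v = true := slots_step fs4 153529 279 153808 s4u485 s4c486 rfl
theorem s4u487 : ∀ v, 1 ≤ v → v ≤ 154095 → fs4 v = true := slots_step fs4 153808 287 154095 s4u486 s4c487 rfl
theorem s4u488 : ∀ v, 1 ≤ v → v ≤ 154367 → fs4 v = true := slots_step fs4 154095 272 154367 s4u487 s4c488 rfl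
theorem s4u489 : ∀ v, 1 ≤ v → v ≤ 154646 → fs4 v = true := slots_step fs4 154367 279 154646 s4u488 s4c489 rfl
theorem s4u490 : ∀ v, 1 ≤ v → v ≤ 154935 → fs4 v = true := slots_step fs4 154646 289 154935 s4u489 s4c490 rfl
theorem s4u491 : ∀ v, 1 ≤ v → v ≤ 155200 → fs4 v = true := slots_step fs4 154935 265 155200 s4u490 s4c491 rfl
theorem s4u492 : ∀ v, 1 ≤ v → v ≤ 155460 → fs4 v = true := slots_step fs4 155200 260 155460 s4u491 s4c492 rfl
theorem s4u493 : ∀ v, 1 ≤ v → v ≤ 155745 → fs4 v = true := slots_step fs4 155460 285 155745 s4u492 s4c493 rfl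
theorem s4u494 : ∀ v, 1 ≤ v → v ≤ 156021 → fs4 v = true := slots_step fs4 155745 276 156021 s4u493 s4c494 rfl
theorem s4u495 : ∀ v, 1 ≤ v → v ≤ 156296 → fs4 v = true := slots_step fs4 156021 275 156296 s4u494 s4c495 rfl
theorem s4u496 : ∀ v, 1 ≤ v → v ≤ 156567 → fs4 v = true := slots_step fs4 156296 271 156567 s4u495 s4c496 rfl
theorem s4u497 : ∀ v, 1 ≤ v → v ≤ 156833 → fs4 v = true := slots_step fs4 156567 266 156833 s4u496 s4c497 rfl
theorem s4u498 : ∀ v, 1 ≤ v → v ≤ 157096 → fs4 v = true := slots_step fs4 156833 263 157096 s4u497 s4c498 rfl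
theorem s4u499 : ∀ v, 1 ≤ v → v ≤ 157361 → fs4 v = true := slots_step fs4 157096 265 157361 s4u498 s4c499 rfl
theorem s4u500 : ∀ v, 1 ≤ v → v ≤ 157596 → fs4 v = true := slots_step fs4 157361 235 157596 s4u499 s4c500 rfl
theorem s4u501 : ∀ v, 1 ≤ v → v ≤ 157852 → fs4 v = true := slots_step fs4 157596 256 157852 s4u500 s4c501 rfl
theorem s4u502 : ∀ v, 1 ≤ v → v ≤ 158116 → fs4 v = true := slots_step fs4 157852 264 158116 s4u501 s4c502 rfl
theorem s4u503 : ∀ v, 1 ≤ v → v ≤ 158375 → fs4 v = true := slots_step fs4 158116 259 158375 s4u502 s4c503 rfl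
theorem s4u504 : ∀ v, 1 ≤ v → v ≤ 158638 → fs4 v = true := slots_step fs4 158375 263 158638 s4u503 s4c504 rfl
theorem s4u505 : ∀ v, 1 ≤ v → v ≤ 158907 → fs4 v = true := slots_step fs4 158638 269 158907 s4u504 s4c505 rfl
theorem s4u506 : ∀ v, 1 ≤ v → v ≤ 159159 → fs4 v = true := slots_step fs4 158907 252 159159 s4u505 s4c506 rfl
theorem s4u507 : ∀ v, 1 ≤ v → v ≤ 159418 → fs4 v = true := slots_step fs4 159159 259 159418 s4u506 s4c507 rfl
theorem s4u508 : ∀ v, 1 ≤ v → v ≤ 159683 → fs4 v = true := slots_step fs4 159418 265 159683 s4u507 s4c508 rfl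
theorem s4u509 : ∀ v, 1 ≤ v → v ≤ 159950 → fs4 v = true := slots_step fs4 159683 267 159950 s4u508 s4c509 rfl
theorem s4u510 : ∀ v, 1 ≤ v → v ≤ 160211 → fs4 v = true := slots_step fs4 159950 261 160211 s4u509 s4c510 rfl
theorem s4u511 : ∀ v, 1 ≤ v → v ≤ 160464 → fs4 v = true := slots_step fs4 160211 253 160464 s4u510 s4c511 rfl
theorem s4u512 : ∀ v, 1 ≤ v → v ≤ 160720 → fs4 v = true := slots_step fs4 160464 256 160720 s4u511 s4c512 rfl
theorem s4u513 : ∀ v, 1 ≤ v → v ≤ 160972 → fs4 v = true := slots_step fs4 160720 252 160972 s4u512 s4c513 rfl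
theorem s4u514 : ∀ v, 1 ≤ v → v ≤ 161234 → fs4 v = true := slots_step fs4 160972 262 161234 s4u513 s4c514 rfl
theorem s4u515 : ∀ v, 1 ≤ v → v ≤ 161495 → fs4 v = true := slots_step fs4 161234 261 161495 s4u514 s4c515 rfl
theorem s4u516 : ∀ v, 1 ≤ v → v ≤ 161762 → fs4 v = true := slots_step fs4 161495 267 161762 s4u515 s4c516 rfl
theorem s4u517 : ∀ v, 1 ≤ v → v ≤ 162024 → fs4 v = true := slots_step fs4 161762 262 162024 s4u516 s4c517 rfl
theorem s4u518 : ∀ v, 1 ≤ v → v ≤ 162307 → fs4 v = true := slots_step fs4 162024 283 162307 s4u517 s4c518 rfl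
theorem s4u519 : ∀ v, 1 ≤ v → v ≤ 162568 → fs4 v = true := slots_step fs4 162307 261 162568 s4u518 s4c519 rfl
theorem s4u520 : ∀ v, 1 ≤ v → v ≤ 162841 → fs4 v = true := slots_step fs4 162568 273 162841 s4u519 s4c520 rfl
theorem s4u521 : ∀ v, 1 ≤ v → v ≤ 163104 → fs4 v = true := slots_step fs4 162841 263 163104 s4u520 s4c521 rfl
theorem s4u522 : ∀ v, 1 ≤ v → v ≤ 163372 → fs4 v = true := slots_step fs4 163104 268 163372 s4u521 s4c522 rfl
theorem s4u523 : ∀ v, 1 ≤ v → v ≤ 163642 → fs4 v = true := slots_step fs4 163372 270 163642 s4u522 s4c523 rfl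
theorem s4u524 : ∀ v, 1 ≤ v → v ≤ 163918 → fs4 v = true := slots_step fs4 163642 276 163918 s4u523 s4c524 rfl
theorem s4u525 : ∀ v, 1 ≤ v → v ≤ 164190 → fs4 v = true := slots_step fs4 163918 272 164190 s4u524 s4c525 rfl
theorem s4u526 : ∀ v, 1 ≤ v → v ≤ 164462 → fs4 v = true := slots_step fs4 164190 272 164462 s4u525 s4c526 rfl
theorem s4u527 : ∀ v, 1 ≤ v → v ≤ 164732 → fs4 v = true := slots_step fs4 164462 270 164732 s4u526 s4c527 rfl
theorem s4u528 : ∀ v, 1 ≤ v → v ≤ 165005 → fs4 v = true := slots_step fs4 164732 273 165005 s4u527 s4c528 rfl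
theorem s4u529 : ∀ v, 1 ≤ v → v ≤ 165239 → fs4 v = true := slots_step fs4 165005 234 165239 s4u528 s4c529 rfl
theorem s4u530 : ∀ v, 1 ≤ v → v ≤ 165498 → fs4 v = true := slots_step fs4 165239 259 165498 s4u529 s4c530 rfl
theorem s4u531 : ∀ v, 1 ≤ v → v ≤ 165765 → fs4 v = true := slots_step fs4 165498 267 165765 s4u530 s4c531 rfl
theorem s4u532 : ∀ v, 1 ≤ v → v ≤ 166032 → fs4 v = true := slots_step fs4 165765 267 166032 s4u531 s4c532 rfl
theorem s4u533 : ∀ v, 1 ≤ v → v ≤ 166283 → fs4 v = true := slots_step fs4 166032 251 166283 s4u532 s4c533 rfl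
theorem s4u534 : ∀ v, 1 ≤ v → v ≤ 166540 → fs4 v = true := slots_step fs4 166283 257 166540 s4u533 s4c534 rfl
theorem s4u535 : ∀ v, 1 ≤ v → v ≤ 166818 → fs4 v = true := slots_step fs4 166540 278 166818 s4u534 s4c535 rfl
theorem s4u536 : ∀ v, 1 ≤ v → v ≤ 167092 → fs4 v = true := slots_step fs4 166818 274 167092 s4u535 s4c536 rfl
theorem s4u537 : ∀ v, 1 ≤ v → v ≤ 167366 → fs4 v = true := slots_step fs4 167092 274 167366 s4u536 s4c537 rfl
theorem s4u538 : ∀ v, 1 ≤ v → v ≤ 167634 → fs4 v = true := slots_step fs4 167366 268 167634 s4u537 s4c538 rfl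
theorem s4u539 : ∀ v, 1 ≤ v → v ≤ 167914 → fs4 v = true := slots_step fs4 167634 280 167914 s4u538 s4c539 rfl
theorem s4u540 : ∀ v, 1 ≤ v → v ≤ 168191 → fs4 v = true := slots_step fs4 167914 277 168191 s4u539 s4c540 rfl
theorem s4u541 : ∀ v, 1 ≤ v → v ≤ 168451 → fs4 v = true := slots_step fs4 168191 260 168451 s4u540 s4c541 rfl
theorem s4u542 : ∀ v, 1 ≤ v → v ≤ 168716 → fs4 v = true := slots_step fs4 168451 265 168716 s4u541 s4c542 rfl
theorem s4u543 : ∀ v, 1 ≤ v → v ≤ 168971 → fs4 v = true := slots_step fs4 168716 255 168971 s4u542 s4c543 rfl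
theorem s4u544 : ∀ v, 1 ≤ v → v ≤ 169249 → fs4 v = true := slots_step fs4 168971 278 169249 s4u543 s4c544 rfl
theorem s4u545 : ∀ v, 1 ≤ v → v ≤ 169527 → fs4 v = true := slots_step fs4 169249 278 169527 s4u544 s4c545 rfl
theorem s4u546 : ∀ v, 1 ≤ v → v ≤ 169798 → fs4 v = true := slots_step fs4 169527 271 169798 s4u545 s4c546 rfl
theorem s4u547 : ∀ v, 1 ≤ v → v ≤ 170068 → fs4 v = true := slots_step fs4 169798 270 170068 s4u546 s4c547 rfl
theorem s4u548 : ∀ v, 1 ≤ v → v ≤ 170361 → fs4 v = true := slots_step fs4 170068 293 170361 s4u547 s4c548 rfl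
theorem s4u549 : ∀ v, 1 ≤ v → v ≤ 170621 → fs4 v = true := slots_step fs4 170361 260 170621 s4u548 s4c549 rfl
theorem s4u550 : ∀ v, 1 ≤ v → v ≤ 170886 → fs4 v = true := slots_step fs4 170621 265 170886 s4u549 s4c550 rfl
theorem s4u551 : ∀ v, 1 ≤ v → v ≤ 171159 → fs4 v = true := slots_step fs4 170886 273 171159 s4u550 s4c551 rfl
theorem s4u552 : ∀ v, 1 ≤ v → v ≤ 171429 → fs4 v = true := slots_step fs4 171159 270 171429 s4u551 s4c552 rfl
theorem s4u553 : ∀ v, 1 ≤ v → v ≤ 171708 → fs4 v = true := slots_step fs4 171429 279 171708 s4u552 s4c553 rfl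
theorem s4u554 : ∀ v, 1 ≤ v → v ≤ 171982 → fs4 v = true := slots_step fs4 171708 274 171982 s4u553 s4c554 rfl
theorem s4u555 : ∀ v, 1 ≤ v → v ≤ 172257 → fs4 v = true := slots_step fs4 171982 275 172257 s4u554 s4c555 rfl
theorem s4u556 : ∀ v, 1 ≤ v → v ≤ 172541 → fs4 v = true := slots_step fs4 172257 284 172541 s4u555 s4c556 rfl
theorem s4u557 : ∀ v, 1 ≤ v → v ≤ 172813 → fs4 v = true := slots_step fs4 172541 272 172813 s4u556 s4c557 rfl
theorem s4u558 : ∀ v, 1 ≤ v → v ≤ 173091 → fs4 v = true := slots_step fs4 172813 278 173091 s4u557 s4c558 rfl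
theorem s4u559 : ∀ v, 1 ≤ v → v ≤ 173366 → fs4 v = true := slots_step fs4 173091 275 173366 s4u558 s4c559 rfl
theorem s4u560 : ∀ v, 1 ≤ v → v ≤ 173643 → fs4 v = true := slots_step fs4 173366 277 173643 s4u559 s4c560 rfl
theorem s4u561 : ∀ v, 1 ≤ v → v ≤ 173936 → fs4 v = true := slots_step fs4 173643 293 173936 s4u560 s4c561 rfl
theorem s4u562 : ∀ v, 1 ≤ v → v ≤ 174204 → fs4 v = true := slots_step fs4 173936 268 174204 s4u561 s4c562 rfl
theorem s4u563 : ∀ v, 1 ≤ v → v ≤ 174472 → fs4 v = true := slots_step fs4 174204 268 174472 s4u562 s4c563 rfl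
theorem s4u564 : ∀ v, 1 ≤ v → v ≤ 174752 → fs4 v = true := slots_step fs4 174472 280 174752 s4u563 s4c564 rfl
theorem s4u565 : ∀ v, 1 ≤ v → v ≤ 175039 → fs4 v = true := slots_step fs4 174752 287 175039 s4u564 s4c565 rfl
theorem s4u566 : ∀ v, 1 ≤ v → v ≤ 175306 → fs4 v = true := slots_step fs4 175039 267 175306 s4u565 s4c566 rfl
theorem s4u567 : ∀ v, 1 ≤ v → v ≤ 175563 → fs4 v = true := slots_step fs4 175306 257 175563 s4u566 s4c567 rfl
theorem s4u568 : ∀ v, 1 ≤ v → v ≤ 175849 → fs4 v = true := slots_step fs4 175563 286 175849 s4u567 s4c568 rfl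
theorem s4u569 : ∀ v, 1 ≤ v → v ≤ 176125 → fs4 v = true := slots_step fs4 175849 276 176125 s4u568 s4c569 rfl
theorem s4u570 : ∀ v, 1 ≤ v → v ≤ 176401 → fs4 v = true := slots_step fs4 176125 276 176401 s4u569 s4c570 rfl
theorem s4u571 : ∀ v, 1 ≤ v → v ≤ 176663 → fs4 v = true := slots_step fs4 176401 262 176663 s4u570 s4c571 rfl
theorem s4u572 : ∀ v, 1 ≤ v → v ≤ 176929 → fs4 v = true := slots_step fs4 176663 266 176929 s4u571 s4c572 rfl
theorem s4u573 : ∀ v, 1 ≤ v → v ≤ 177198 → fs4 v = true := slots_step fs4 176929 269 177198 s4u572 s4c573 rfl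
theorem s4u574 : ∀ v, 1 ≤ v → v ≤ 177415 → fs4 v = true := slots_step fs4 177198 217 177415 s4u573 s4c574 rfl
theorem s4u575 : ∀ v, 1 ≤ v → v ≤ 177669 → fs4 v = true := slots_step fs4 177415 254 177669 s4u574 s4c575 rfl
theorem s4u576 : ∀ v, 1 ≤ v → v ≤ 177941 → fs4 v = true := slots_step fs4 177669 272 177941 s4u575 s4c576 rfl
theorem s4u577 : ∀ v, 1 ≤ v → v ≤ 178196 → fs4 v = true := slots_step fs4 177941 255 178196 s4u576 s4c577 rfl
theorem s4u578 : ∀ v, 1 ≤ v → v ≤ 178454 → fs4 v = true := slots_step fs4 178196 258 178454 s4u577 s4c578 rfl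
theorem s4u579 : ∀ v, 1 ≤ v → v ≤ 178711 → fs4 v = true := slots_step fs4 178454 257 178711 s4u578 s4c579 rfl
theorem s4u580 : ∀ v, 1 ≤ v → v ≤ 178948 → fs4 v = true := slots_step fs4 178711 237 178948 s4u579 s4c580 rfl
theorem s4u581 : ∀ v, 1 ≤ v → v ≤ 179210 → fs4 v = true := slots_step fs4 178948 262 179210 s4u580 s4c581 rfl
theorem s4u582 : ∀ v, 1 ≤ v → v ≤ 179478 → fs4 v = true := slots_step fs4 179210 268 179478 s4u581 s4c582 rfl
theorem s4u583 : ∀ v, 1 ≤ v → v ≤ 179736 → fs4 v = true := slots_step fs4 179478 258 179736 s4u582 s4c583 rfl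
theorem s4u584 : ∀ v, 1 ≤ v → v ≤ 179999 → fs4 v = true := slots_step fs4 179736 263 179999 s4u583 s4c584 rfl
theorem s4u585 : ∀ v, 1 ≤ v → v ≤ 180261 → fs4 v = true := slots_step fs4 179999 262 180261 s4u584 s4c585 rfl
theorem s4u586 : ∀ v, 1 ≤ v → v ≤ 180511 → fs4 v = true := slots_step fs4 180261 250 180511 s4u585 s4c586 rfl
theorem s4u587 : ∀ v, 1 ≤ v → v ≤ 180764 → fs4 v = true := slots_step fs4 180511 253 180764 s4u586 s4c587 rfl
theorem s4u588 : ∀ v, 1 ≤ v → v ≤ 181017 → fs4 v = true := slots_step fs4 180764 253 181017 s4u587 s4c588 rfl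
theorem s4u589 : ∀ v, 1 ≤ v → v ≤ 181275 → fs4 v = true := slots_step fs4 181017 258 181275 s4u588 s4c589 rfl
theorem s4u590 : ∀ v, 1 ≤ v → v ≤ 181531 → fs4 v = true := slots_step fs4 181275 256 181531 s4u589 s4c590 rfl
theorem s4u591 : ∀ v, 1 ≤ v → v ≤ 181798 → fs4 v = true := slots_step fs4 181531 267 181798 s4u590 s4c591 rfl
theorem s4u592 : ∀ v, 1 ≤ v → v ≤ 182059 → fs4 v = true := slots_step fs4 181798 261 182059 s4u591 s4c592 rfl
theorem s4u593 : ∀ v, 1 ≤ v → v ≤ 182331 → fs4 v = true := slots_step fs4 182059 272 182331 s4u592 s4c593 rfl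
theorem s4u594 : ∀ v, 1 ≤ v → v ≤ 182608 → fs4 v = true := slots_step fs4 182331 277 182608 s4u593 s4c594 rfl
theorem s4u595 : ∀ v, 1 ≤ v → v ≤ 182868 → fs4 v = true := slots_step fs4 182608 260 182868 s4u594 s4c595 rfl
theorem s4u596 : ∀ v, 1 ≤ v → v ≤ 183135 → fs4 v = true := slots_step fs4 182868 267 183135 s4u595 s4c596 rfl
theorem s4u597 : ∀ v, 1 ≤ v → v ≤ 183397 → fs4 v = true := slots_step fs4 183135 262 183397 s4u596 s4c597 rfl
theorem s4u598 : ∀ v, 1 ≤ v → v ≤ 183669 → fs4 v = true := slots_step fs4 183397 272 183669 s4u597 s4c598 rfl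
theorem s4u599 : ∀ v, 1 ≤ v → v ≤ 183937 → fs4 v = true := slots_step fs4 183669 268 183937 s4u598 s4c599 rfl
theorem s4u600 : ∀ v, 1 ≤ v → v ≤ 184203 → fs4 v = true := slots_step fs4 183937 266 184203 s4u599 s4c600 rfl
theorem s4u601 : ∀ v, 1 ≤ v → v ≤ 184466 → fs4 v = true := slots_step fs4 184203 263 184466 s4u600 s4c601 rfl
theorem s4u602 : ∀ v, 1 ≤ v → v ≤ 184748 → fs4 v = true := slots_step fs4 184466 282 184748 s4u601 s4c602 rfl
theorem s4u603 : ∀ v, 1 ≤ v → v ≤ 185015 → fs4 v = true := slots_step fs4 184748 267 185015 s4u602 s4c603 rfl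
theorem s4u604 : ∀ v, 1 ≤ v → v ≤ 185290 → fs4 v = true := slots_step fs4 185015 275 185290 s4u603 s4c604 rfl
theorem s4u605 : ∀ v, 1 ≤ v → v ≤ 185563 → fs4 v = true := slots_step fs4 185290 273 185563 s4u604 s4c605 rfl
theorem s4u606 : ∀ v, 1 ≤ v → v ≤ 185804 → fs4 v = true := slots_step fs4 185563 241 185804 s4u605 s4c606 rfl
theorem s4u607 : ∀ v, 1 ≤ v → v ≤ 186077 → fs4 v = true := slots_step fs4 185804 273 186077 s4u606 s4c607 rfl
theorem s4u608 : ∀ v, 1 ≤ v → v ≤ 186346 → fs4 v = true := slots_step fs4 186077 269 186346 s4u607 s4c608 rfl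
theorem s4u609 : ∀ v, 1 ≤ v → v ≤ 186612 → fs4 v = true := slots_step fs4 186346 266 186612 s4u608 s4c609 rfl
theorem s4u610 : ∀ v, 1 ≤ v → v ≤ 186872 → fs4 v = true := slots_step fs4 186612 260 186872 s4u609 s4c610 rfl
theorem s4u611 : ∀ v, 1 ≤ v → v ≤ 187143 → fs4 v = true := slots_step fs4 186872 271 187143 s4u610 s4c611 rfl
theorem s4u612 : ∀ v, 1 ≤ v → v ≤ 187419 → fs4 v = true := slots_step fs4 187143 276 187419 s4u611 s4c612 rfl
theorem s4u613 : ∀ v, 1 ≤ v → v ≤ 187693 → fs4 v = true := slots_step fs4 187419 274 187693 s4u612 s4c613 rfl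
theorem s4u614 : ∀ v, 1 ≤ v → v ≤ 187964 → fs4 v = true := slots_step fs4 187693 271 187964 s4u613 s4c614 rfl
theorem s4u615 : ∀ v, 1 ≤ v → v ≤ 188241 → fs4 v = true := slots_step fs4 187964 277 188241 s4u614 s4c615 rfl
theorem s4u616 : ∀ v, 1 ≤ v → v ≤ 188519 → fs4 v = true := slots_step fs4 188241 278 188519 s4u615 s4c616 rfl
theorem s4u617 : ∀ v, 1 ≤ v → v ≤ 188793 → fs4 v = true := slots_step fs4 188519 274 188793 s4u616 s4c617 rfl
theorem s4u618 : ∀ v, 1 ≤ v → v ≤ 189060 → fs4 v = true := slots_step fs4 188793 267 189060 s4u617 s4c618 rfl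
theorem s4u619 : ∀ v, 1 ≤ v → v ≤ 189324 → fs4 v = true := slots_step fs4 189060 264 189324 s4u618 s4c619 rfl
theorem s4u620 : ∀ v, 1 ≤ v → v ≤ 189587 → fs4 v = true := slots_step fs4 189324 263 189587 s4u619 s4c620 rfl
theorem s4u621 : ∀ v, 1 ≤ v → v ≤ 189864 → fs4 v = true := slots_step fs4 189587 277 189864 s4u620 s4c621 rfl
theorem s4u622 : ∀ v, 1 ≤ v → v ≤ 190137 → fs4 v = true := slots_step fs4 189864 273 190137 s4u621 s4c622 rfl
theorem s4u623 : ∀ v, 1 ≤ v → v ≤ 190413 → fs4 v = true := slots_step fs4 190137 276 190413 s4u622 s4c623 rfl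
theorem s4u624 : ∀ v, 1 ≤ v → v ≤ 190686 → fs4 v = true := slots_step fs4 190413 273 190686 s4u623 s4c624 rfl
theorem s4u625 : ∀ v, 1 ≤ v → v ≤ 190949 → fs4 v = true := slots_step fs4 190686 263 190949 s4u624 s4c625 rfl
theorem s4u626 : ∀ v, 1 ≤ v → v ≤ 191249 → fs4 v = true := slots_step fs4 190949 300 191249 s4u625 s4c626 rfl
theorem s4u627 : ∀ v, 1 ≤ v → v ≤ 191512 → fs4 v = true := slots_step fs4 191249 263 191512 s4u626 s4c627 rfl
theorem s4u628 : ∀ v, 1 ≤ v → v ≤ 191767 → fs4 v = true := slots_step fs4 191512 255 191767 s4u627 s4c628 rfl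
theorem s4u629 : ∀ v, 1 ≤ v → v ≤ 192043 → fs4 v = true := slots_step fs4 191767 276 192043 s4u628 s4c629 rfl
theorem s4u630 : ∀ v, 1 ≤ v → v ≤ 192318 → fs4 v = true := slots_step fs4 192043 275 192318 s4u629 s4c630 rfl
theorem s4u631 : ∀ v, 1 ≤ v → v ≤ 192588 → fs4 v = true := slots_step fs4 192318 270 192588 s4u630 s4c631 rfl
theorem s4u632 : ∀ v, 1 ≤ v → v ≤ 192853 → fs4 v = true := slots_step fs4 192588 265 192853 s4u631 s4c632 rfl
theorem s4u633 : ∀ v, 1 ≤ v → v ≤ 193118 → fs4 v = true := slots_step fs4 192853 265 193118 s4u632 s4c633 rfl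
theorem s4u634 : ∀ v, 1 ≤ v → v ≤ 193407 → fs4 v = true := slots_step fs4 193118 289 193407 s4u633 s4c634 rfl
theorem s4u635 : ∀ v, 1 ≤ v → v ≤ 193687 → fs4 v = true := slots_step fs4 193407 280 193687 s4u634 s4c635 rfl
theorem s4u636 : ∀ v, 1 ≤ v → v ≤ 193946 → fs4 v = true := slots_step fs4 193687 259 193946 s4u635 s4c636 rfl
theorem s4u637 : ∀ v, 1 ≤ v → v ≤ 194228 → fs4 v = true := slots_step fs4 193946 282 194228 s4u636 s4c637 rfl
theorem s4u638 : ∀ v, 1 ≤ v → v ≤ 194499 → fs4 v = true := slots_step fs4 194228 271 194499 s4u637 s4c638 rfl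
theorem s4u639 : ∀ v, 1 ≤ v → v ≤ 194774 → fs4 v = true := slots_step fs4 194499 275 194774 s4u638 s4c639 rfl
theorem s4u640 : ∀ v, 1 ≤ v → v ≤ 195053 → fs4 v = true := slots_step fs4 194774 279 195053 s4u639 s4c640 rfl
theorem s4u641 : ∀ v, 1 ≤ v → v ≤ 195349 → fs4 v = true := slots_step fs4 195053 296 195349 s4u640 s4c641 rfl
theorem s4u642 : ∀ v, 1 ≤ v → v ≤ 195610 → fs4 v = true := slots_step fs4 195349 261 195610 s4u641 s4c642 rfl
theorem s4u643 : ∀ v, 1 ≤ v → v ≤ 195881 → fs4 v = true := slots_step fs4 195610 271 195881 s4u642 s4c643 rfl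
theorem s4u644 : ∀ v, 1 ≤ v → v ≤ 196144 → fs4 v = true := slots_step fs4 195881 263 196144 s4u643 s4c644 rfl
theorem s4u645 : ∀ v, 1 ≤ v → v ≤ 196446 → fs4 v = true := slots_step fs4 196144 302 196446 s4u644 s4c645 rfl
theorem s4u646 : ∀ v, 1 ≤ v → v ≤ 196715 → fs4 v = true := slots_step fs4 196446 269 196715 s4u645 s4c646 rfl
theorem s4u647 : ∀ v, 1 ≤ v → v ≤ 196987 → fs4 v = true := slots_step fs4 196715 272 196987 s4u646 s4c647 rfl
theorem s4u648 : ∀ v, 1 ≤ v → v ≤ 197276 → fs4 v = true := slots_step fs4 196987 289 197276 s4u647 s4c648 rfl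
theorem s4u649 : ∀ v, 1 ≤ v → v ≤ 197549 → fs4 v = true := slots_step fs4 197276 273 197549 s4u648 s4c649 rfl
theorem s4u650 : ∀ v, 1 ≤ v → v ≤ 197835 → fs4 v = true := slots_step fs4 197549 286 197835 s4u649 s4c650 rfl
theorem s4u651 : ∀ v, 1 ≤ v → v ≤ 198109 → fs4 v = true := slots_step fs4 197835 274 198109 s4u650 s4c651 rfl
theorem s4u652 : ∀ v, 1 ≤ v → v ≤ 198378 → fs4 v = true := slots_step fs4 198109 269 198378 s4u651 s4c652 rfl
theorem s4u653 : ∀ v, 1 ≤ v → v ≤ 198632 → fs4 v = true := slots_step fs4 198378 254 198632 s4u652 s4c653 rfl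
theorem s4u654 : ∀ v, 1 ≤ v → v ≤ 198879 → fs4 v = true := slots_step fs4 198632 247 198879 s4u653 s4c654 rfl
theorem s4u655 : ∀ v, 1 ≤ v → v ≤ 199146 → fs4 v = true := slots_step fs4 198879 267 199146 s4u654 s4c655 rfl
theorem s4u656 : ∀ v, 1 ≤ v → v ≤ 199400 → fs4 v = true := slots_step fs4 199146 254 199400 s4u655 s4c656 rfl
theorem s4u657 : ∀ v, 1 ≤ v → v ≤ 199644 → fs4 v = true := slots_step fs4 199400 244 199644 s4u656 s4c657 rfl
theorem s4u658 : ∀ v, 1 ≤ v → v ≤ 199920 → fs4 v = true := slots_step fs4 199644 276 199920 s4u657 s4c658 rfl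
theorem s4u659 : ∀ v, 1 ≤ v → v ≤ 200173 → fs4 v = true := slots_step fs4 199920 253 200173 s4u658 s4c659 rfl
theorem s4u660 : ∀ v, 1 ≤ v → v ≤ 200431 → fs4 v = true := slots_step fs4 200173 258 200431 s4u659 s4c660 rfl
theorem s4u661 : ∀ v, 1 ≤ v → v ≤ 200702 → fs4 v = true := slots_step fs4 200431 271 200702 s4u660 s4c661 rfl
theorem s4u662 : ∀ v, 1 ≤ v → v ≤ 200962 → fs4 v = true := slots_step fs4 200702 260 200962 s4u661 s4c662 rfl
theorem s4u663 : ∀ v, 1 ≤ v → v ≤ 201226 → fs4 v = true := slots_step fs4 200962 264 201226 s4u662 s4c663 rfl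
theorem s4u664 : ∀ v, 1 ≤ v → v ≤ 201492 → fs4 v = true := slots_step fs4 201226 266 201492 s4u663 s4c664 rfl
theorem s4u665 : ∀ v, 1 ≤ v → v ≤ 201759 → fs4 v = true := slots_step fs4 201492 267 201759 s4u664 s4c665 rfl
theorem s4u666 : ∀ v, 1 ≤ v → v ≤ 202009 → fs4 v = true := slots_step fs4 201759 250 202009 s4u665 s4c666 rfl
theorem s4u667 : ∀ v, 1 ≤ v → v ≤ 202262 → fs4 v = true := slots_step fs4 202009 253 202262 s4u666 s4c667 rfl
theorem s4u668 : ∀ v, 1 ≤ v → v ≤ 202524 → fs4 v = true := slots_step fs4 202262 262 202524 s4u667 s4c668 rfl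
theorem s4u669 : ∀ v, 1 ≤ v → v ≤ 202778 → fs4 v = true := slots_step fs4 202524 254 202778 s4u668 s4c669 rfl
theorem s4u670 : ∀ v, 1 ≤ v → v ≤ 203045 → fs4 v = true := slots_step fs4 202778 267 203045 s4u669 s4c670 rfl
theorem s4u671 : ∀ v, 1 ≤ v → v ≤ 203314 → fs4 v = true := slots_step fs4 203045 269 203314 s4u670 s4c671 rfl
theorem s4u672 : ∀ v, 1 ≤ v → v ≤ 203574 → fs4 v = true := slots_step fs4 203314 260 203574 s4u671 s4c672 rfl
theorem s4u673 : ∀ v, 1 ≤ v → v ≤ 203838 → fs4 v = true := slots_step fs4 203574 264 203838 s4u672 s4c673 rfl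
theorem s4u674 : ∀ v, 1 ≤ v → v ≤ 204120 → fs4 v = true := slots_step fs4 203838 282 204120 s4u673 s4c674 rfl
theorem s4u675 : ∀ v, 1 ≤ v → v ≤ 204384 → fs4 v = true := slots_step fs4 204120 264 204384 s4u674 s4c675 rfl
theorem s4u676 : ∀ v, 1 ≤ v → v ≤ 204638 → fs4 v = true := slots_step fs4 204384 254 204638 s4u675 s4c676 rfl
theorem s4u677 : ∀ v, 1 ≤ v → v ≤ 204904 → fs4 v = true := slots_step fs4 204638 266 204904 s4u676 s4c677 rfl
theorem s4u678 : ∀ v, 1 ≤ v → v ≤ 205169 → fs4 v = true := slots_step fs4 204904 265 205169 s4u677 s4c678 rfl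
theorem s4u679 : ∀ v, 1 ≤ v → v ≤ 205454 → fs4 v = true := slots_step fs4 205169 285 205454 s4u678 s4c679 rfl
theorem s4u680 : ∀ v, 1 ≤ v → v ≤ 205715 → fs4 v = true := slots_step fs4 205454 261 205715 s4u679 s4c680 rfl
theorem s4u681 : ∀ v, 1 ≤ v → v ≤ 205980 → fs4 v = true := slots_step fs4 205715 265 205980 s4u680 s4c681 rfl
theorem s4u682 : ∀ v, 1 ≤ v → v ≤ 206239 → fs4 v = true := slots_step fs4 205980 259 206239 s4u681 s4c682 rfl
theorem s4u683 : ∀ v, 1 ≤ v → v ≤ 206523 → fs4 v = true := slots_step fs4 206239 284 206523 s4u682 s4c683 rfl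
theorem s4u684 : ∀ v, 1 ≤ v → v ≤ 206797 → fs4 v = true := slots_step fs4 206523 274 206797 s4u683 s4c684 rfl
theorem s4u685 : ∀ v, 1 ≤ v → v ≤ 207060 → fs4 v = true := slots_step fs4 206797 263 207060 s4u684 s4c685 rfl
theorem s4u686 : ∀ v, 1 ≤ v → v ≤ 207354 → fs4 v = true := slots_step fs4 207060 294 207354 s4u685 s4c686 rfl
theorem s4u687 : ∀ v, 1 ≤ v → v ≤ 207628 → fs4 v = true := slots_step fs4 207354 274 207628 s4u686 s4c687 rfl
theorem s4u688 : ∀ v, 1 ≤ v → v ≤ 207888 → fs4 v = true := slots_step fs4 207628 260 207888 s4u687 s4c688 rfl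
theorem s4u689 : ∀ v, 1 ≤ v → v ≤ 208167 → fs4 v = true := slots_step fs4 207888 279 208167 s4u688 s4c689 rfl
theorem s4u690 : ∀ v, 1 ≤ v → v ≤ 208443 → fs4 v = true := slots_step fs4 208167 276 208443 s4u689 s4c690 rfl
theorem s4u691 : ∀ v, 1 ≤ v → v ≤ 208711 → fs4 v = true := slots_step fs4 208443 268 208711 s4u690 s4c691 rfl
theorem s4u692 : ∀ v, 1 ≤ v → v ≤ 208988 → fs4 v = true := slots_step fs4 208711 277 208988 s4u691 s4c692 rfl
theorem s4u693 : ∀ v, 1 ≤ v → v ≤ 209266 → fs4 v = true := slots_step fs4 208988 278 209266 s4u692 s4c693 rfl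
theorem s4u694 : ∀ v, 1 ≤ v → v ≤ 209541 → fs4 v = true := slots_step fs4 209266 275 209541 s4u693 s4c694 rfl
theorem s4u695 : ∀ v, 1 ≤ v → v ≤ 209811 → fs4 v = true := slots_step fs4 209541 270 209811 s4u694 s4c695 rfl
theorem s4u696 : ∀ v, 1 ≤ v → v ≤ 210081 → fs4 v = true := slots_step fs4 209811 270 210081 s4u695 s4c696 rfl
theorem s4u697 : ∀ v, 1 ≤ v → v ≤ 210372 → fs4 v = true := slots_step fs4 210081 291 210372 s4u696 s4c697 rfl
theorem s4u698 : ∀ v, 1 ≤ v → v ≤ 210663 → fs4 v = true := slots_step fs4 210372 291 210663 s4u697 s4c698 rfl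
theorem s4u699 : ∀ v, 1 ≤ v → v ≤ 210931 → fs4 v = true := slots_step fs4 210663 268 210931 s4u698 s4c699 rfl
theorem s4u700 : ∀ v, 1 ≤ v → v ≤ 211192 → fs4 v = true := slots_step fs4 210931 261 211192 s4u699 s4c700 rfl
theorem s4u701 : ∀ v, 1 ≤ v → v ≤ 211467 → fs4 v = true := slots_step fs4 211192 275 211467 s4u700 s4c701 rfl
theorem s4u702 : ∀ v, 1 ≤ v → v ≤ 211732 → fs4 v = true := slots_step fs4 211467 265 211732 s4u701 s4c702 rfl
theorem s4u703 : ∀ v, 1 ≤ v → v ≤ 212006 → fs4 v = true := slots_step fs4 211732 274 212006 s4u702 s4c703 rfl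
theorem s4u704 : ∀ v, 1 ≤ v → v ≤ 212270 → fs4 v = true := slots_step fs4 212006 264 212270 s4u703 s4c704 rfl
theorem s4u705 : ∀ v, 1 ≤ v → v ≤ 212556 → fs4 v = true := slots_step fs4 212270 286 212556 s4u704 s4c705 rfl
theorem s4u706 : ∀ v, 1 ≤ v → v ≤ 212818 → fs4 v = true := slots_step fs4 212556 262 212818 s4u705 s4c706 rfl
theorem s4u707 : ∀ v, 1 ≤ v → v ≤ 213086 → fs4 v = true := slots_step fs4 212818 268 213086 s4u706 s4c707 rfl
theorem s4u708 : ∀ v, 1 ≤ v → v ≤ 213311 → fs4 v = true := slots_step fs4 213086 225 213311 s4u707 s4c708 rfl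
theorem s4u709 : ∀ v, 1 ≤ v → v ≤ 213610 → fs4 v = true := slots_step fs4 213311 299 213610 s4u708 s4c709 rfl
theorem s4u710 : ∀ v, 1 ≤ v → v ≤ 213880 → fs4 v = true := slots_step fs4 213610 270 213880 s4u709 s4c710 rfl
theorem s4u711 : ∀ v, 1 ≤ v → v ≤ 214136 → fs4 v = true := slots_step fs4 213880 256 214136 s4u710 s4c711 rfl
theorem s4u712 : ∀ v, 1 ≤ v → v ≤ 214395 → fs4 v = true := slots_step fs4 214136 259 214395 s4u711 s4c712 rfl
theorem s4u713 : ∀ v, 1 ≤ v → v ≤ 214669 → fs4 v = true := slots_step fs4 214395 274 214669 s4u712 s4c713 rfl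
theorem s4u714 : ∀ v, 1 ≤ v → v ≤ 214950 → fs4 v = true := slots_step fs4 214669 281 214950 s4u713 s4c714 rfl
theorem s4u715 : ∀ v, 1 ≤ v → v ≤ 215218 → fs4 v = true := slots_step fs4 214950 268 215218 s4u714 s4c715 rfl
theorem s4u716 : ∀ v, 1 ≤ v → v ≤ 215491 → fs4 v = true := slots_step fs4 215218 273 215491 s4u715 s4c716 rfl
theorem s4u717 : ∀ v, 1 ≤ v → v ≤ 215755 → fs4 v = true := slots_step fs4 215491 264 215755 s4u716 s4c717 rfl
theorem s4u718 : ∀ v, 1 ≤ v → v ≤ 216058 → fs4 v = true := slots_step fs4 215755 303 216058 s4u717 s4c718 rfl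
theorem s4u719 : ∀ v, 1 ≤ v → v ≤ 216325 → fs4 v = true := slots_step fs4 216058 267 216325 s4u718 s4c719 rfl
theorem s4u720 : ∀ v, 1 ≤ v → v ≤ 216580 → fs4 v = true := slots_step fs4 216325 255 216580 s4u719 s4c720 rfl
theorem s4u721 : ∀ v, 1 ≤ v → v ≤ 216854 → fs4 v = true := slots_step fs4 216580 274 216854 s4u720 s4c721 rfl
theorem s4u722 : ∀ v, 1 ≤ v → v ≤ 217124 → fs4 v = true := slots_step fs4 216854 270 217124 s4u721 s4c722 rfl
theorem s4u723 : ∀ v, 1 ≤ v → v ≤ 217390 → fs4 v = true := slots_step fs4 217124 266 217390 s4u722 s4c723 rfl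
theorem s4u724 : ∀ v, 1 ≤ v → v ≤ 217662 → fs4 v = true := slots_step fs4 217390 272 217662 s4u723 s4c724 rfl
theorem s4u725 : ∀ v, 1 ≤ v → v ≤ 217950 → fs4 v = true := slots_step fs4 217662 288 217950 s4u724 s4c725 rfl
theorem s4u726 : ∀ v, 1 ≤ v → v ≤ 218246 → fs4 v = true := slots_step fs4 217950 296 218246 s4u725 s4c726 rfl
theorem s4u727 : ∀ v, 1 ≤ v → v ≤ 218509 → fs4 v = true := slots_step fs4 218246 263 218509 s4u726 s4c727 rfl
theorem s4u728 : ∀ v, 1 ≤ v → v ≤ 218782 → fs4 v = true := slots_step fs4 218509 273 218782 s4u727 s4c728 rfl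
theorem s4u729 : ∀ v, 1 ≤ v → v ≤ 219040 → fs4 v = true := slots_step fs4 218782 258 219040 s4u728 s4c729 rfl
theorem s4u730 : ∀ v, 1 ≤ v → v ≤ 219330 → fs4 v = true := slots_step fs4 219040 290 219330 s4u729 s4c730 rfl
theorem s4u731 : ∀ v, 1 ≤ v → v ≤ 219622 → fs4 v = true := slots_step fs4 219330 292 219622 s4u730 s4c731 rfl
theorem s4u732 : ∀ v, 1 ≤ v → v ≤ 219896 → fs4 v = true := slots_step fs4 219622 274 219896 s4u731 s4c732 rfl
theorem s4u733 : ∀ v, 1 ≤ v → v ≤ 220176 → fs4 v = true := slots_step fs4 219896 280 220176 s4u732 s4c733 rfl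
theorem s4u734 : ∀ v, 1 ≤ v → v ≤ 220449 → fs4 v = true := slots_step fs4 220176 273 220449 s4u733 s4c734 rfl
theorem s4u735 : ∀ v, 1 ≤ v → v ≤ 220740 → fs4 v = true := slots_step fs4 220449 291 220740 s4u734 s4c735 rfl
theorem s4u736 : ∀ v, 1 ≤ v → v ≤ 221016 → fs4 v = true := slots_step fs4 220740 276 221016 s4u735 s4c736 rfl
theorem s4u737 : ∀ v, 1 ≤ v → v ≤ 221294 → fs4 v = true := slots_step fs4 221016 278 221294 s4u736 s4c737 rfl
theorem s4u738 : ∀ v, 1 ≤ v → v ≤ 221558 → fs4 v = true := slots_step fs4 221294 264 221558 s4u737 s4c738 rfl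
theorem s4u739 : ∀ v, 1 ≤ v → v ≤ 221794 → fs4 v = true := slots_step fs4 221558 236 221794 s4u738 s4c739 rfl
theorem s4u740 : ∀ v, 1 ≤ v → v ≤ 222058 → fs4 v = true := slots_step fs4 221794 264 222058 s4u739 s4c740 rfl
theorem s4u741 : ∀ v, 1 ≤ v → v ≤ 222324 → fs4 v = true := slots_step fs4 222058 266 222324 s4u740 s4c741 rfl
theorem s4u742 : ∀ v, 1 ≤ v → v ≤ 222580 → fs4 v = true := slots_step fs4 222324 256 222580 s4u741 s4c742 rfl
theorem s4u743 : ∀ v, 1 ≤ v → v ≤ 222855 → fs4 v = true := slots_step fs4 222580 275 222855 s4u742 s4c743 rfl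
theorem s4u744 : ∀ v, 1 ≤ v → v ≤ 223112 → fs4 v = true := slots_step fs4 222855 257 223112 s4u743 s4c744 rfl
theorem s4u745 : ∀ v, 1 ≤ v → v ≤ 223376 → fs4 v = true := slots_step fs4 223112 264 223376 s4u744 s4c745 rfl
theorem s4u746 : ∀ v, 1 ≤ v → v ≤ 223648 → fs4 v = true := slots_step fs4 223376 272 223648 s4u745 s4c746 rfl
theorem s4u747 : ∀ v, 1 ≤ v → v ≤ 223909 → fs4 v = true := slots_step fs4 223648 261 223909 s4u746 s4c747 rfl
theorem s4u748 : ∀ v, 1 ≤ v → v ≤ 224169 → fs4 v = true := slots_step fs4 223909 260 224169 s4u747 s4c748 rfl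
theorem s4u749 : ∀ v, 1 ≤ v → v ≤ 224438 → fs4 v = true := slots_step fs4 224169 269 224438 s4u748 s4c749 rfl
theorem s4u750 : ∀ v, 1 ≤ v → v ≤ 224705 → fs4 v = true := slots_step fs4 224438 267 224705 s4u749 s4c750 rfl
theorem s4u751 : ∀ v, 1 ≤ v → v ≤ 224965 → fs4 v = true := slots_step fs4 224705 260 224965 s4u750 s4c751 rfl
theorem s4u752 : ∀ v, 1 ≤ v → v ≤ 225224 → fs4 v = true := slots_step fs4 224965 259 225224 s4u751 s4c752 rfl
theorem s4u753 : ∀ v, 1 ≤ v → v ≤ 225484 → fs4 v = true := slots_step fs4 225224 260 225484 s4u752 s4c753 rfl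
theorem s4u754 : ∀ v, 1 ≤ v → v ≤ 225743 → fs4 v = true := slots_step fs4 225484 259 225743 s4u753 s4c754 rfl
theorem s4u755 : ∀ v, 1 ≤ v → v ≤ 226010 → fs4 v = true := slots_step fs4 225743 267 226010 s4u754 s4c755 rfl
theorem s4u756 : ∀ v, 1 ≤ v → v ≤ 226263 → fs4 v = true := slots_step fs4 226010 253 226263 s4u755 s4c756 rfl
theorem s4u757 : ∀ v, 1 ≤ v → v ≤ 226551 → fs4 v = true := slots_step fs4 226263 288 226551 s4u756 s4c757 rfl
theorem s4u758 : ∀ v, 1 ≤ v → v ≤ 226805 → fs4 v = true := slots_step fs4 226551 254 226805 s4u757 s4c758 rfl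
theorem s4u759 : ∀ v, 1 ≤ v → v ≤ 227069 → fs4 v = true := slots_step fs4 226805 264 227069 s4u758 s4c759 rfl
theorem s4u760 : ∀ v, 1 ≤ v → v ≤ 227348 → fs4 v = true := slots_step fs4 227069 279 227348 s4u759 s4c760 rfl
theorem s4u761 : ∀ v, 1 ≤ v → v ≤ 227622 → fs4 v = true := slots_step fs4 227348 274 227622 s4u760 s4c761 rfl
theorem s4u762 : ∀ v, 1 ≤ v → v ≤ 227875 → fs4 v = true := slots_step fs4 227622 253 227875 s4u761 s4c762 rfl
theorem s4u763 : ∀ v, 1 ≤ v → v ≤ 228143 → fs4 v = true := slots_step fs4 227875 268 228143 s4u762 s4c763 rfl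
theorem s4u764 : ∀ v, 1 ≤ v → v ≤ 228411 → fs4 v = true := slots_step fs4 228143 268 228411 s4u763 s4c764 rfl
theorem s4u765 : ∀ v, 1 ≤ v → v ≤ 228699 → fs4 v = true := slots_step fs4 228411 288 228699 s4u764 s4c765 rfl
theorem s4u766 : ∀ v, 1 ≤ v → v ≤ 228957 → fs4 v = true := slots_step fs4 228699 258 228957 s4u765 s4c766 rfl
theorem s4u767 : ∀ v, 1 ≤ v → v ≤ 229230 → fs4 v = true := slots_step fs4 228957 273 229230 s4u766 s4c767 rfl
theorem s4u768 : ∀ v, 1 ≤ v → v ≤ 229500 → fs4 v = true := slots_step fs4 229230 270 229500 s4u767 s4c768 rfl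
theorem s4u769 : ∀ v, 1 ≤ v → v ≤ 229754 → fs4 v = true := slots_step fs4 229500 254 229754 s4u768 s4c769 rfl
theorem s4u770 : ∀ v, 1 ≤ v → v ≤ 230050 → fs4 v = true := slots_step fs4 229754 296 230050 s4u769 s4c770 rfl
theorem s4u771 : ∀ v, 1 ≤ v → v ≤ 230324 → fs4 v = true := slots_step fs4 230050 274 230324 s4u770 s4c771 rfl
theorem s4u772 : ∀ v, 1 ≤ v → v ≤ 230579 → fs4 v = true := slots_step fs4 230324 255 230579 s4u771 s4c772 rfl
theorem s4u773 : ∀ v, 1 ≤ v → v ≤ 230874 → fs4 v = true := slots_step fs4 230579 295 230874 s4u772 s4c773 rfl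
theorem s4u774 : ∀ v, 1 ≤ v → v ≤ 231152 → fs4 v = true := slots_step fs4 230874 278 231152 s4u773 s4c774 rfl
theorem s4u775 : ∀ v, 1 ≤ v → v ≤ 231424 → fs4 v = true := slots_step fs4 231152 272 231424 s4u774 s4c775 rfl
theorem s4u776 : ∀ v, 1 ≤ v → v ≤ 231701 → fs4 v = true := slots_step fs4 231424 277 231701 s4u775 s4c776 rfl
theorem s4u777 : ∀ v, 1 ≤ v → v ≤ 231983 → fs4 v = true := slots_step fs4 231701 282 231983 s4u776 s4c777 rfl
theorem s4u778 : ∀ v, 1 ≤ v → v ≤ 232254 → fs4 v = true := slots_step fs4 231983 271 232254 s4u777 s4c778 rfl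
theorem s4u779 : ∀ v, 1 ≤ v → v ≤ 232537 → fs4 v = true := slots_step fs4 232254 283 232537 s4u778 s4c779 rfl
theorem s4u780 : ∀ v, 1 ≤ v → v ≤ 232811 → fs4 v = true := slots_step fs4 232537 274 232811 s4u779 s4c780 rfl
theorem s4u781 : ∀ v, 1 ≤ v → v ≤ 233089 → fs4 v = true := slots_step fs4 232811 278 233089 s4u780 s4c781 rfl
theorem s4u782 : ∀ v, 1 ≤ v → v ≤ 233362 → fs4 v = true := slots_step fs4 233089 273 233362 s4u781 s4c782 rfl
theorem s4u783 : ∀ v, 1 ≤ v → v ≤ 233637 → fs4 v = true := slots_step fs4 233362 275 233637 s4u782 s4c783 rfl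
theorem s4u784 : ∀ v, 1 ≤ v → v ≤ 233925 → fs4 v = true := slots_step fs4 233637 288 233925 s4u783 s4c784 rfl
theorem s4u785 : ∀ v, 1 ≤ v → v ≤ 234205 → fs4 v = true := slots_step fs4 233925 280 234205 s4u784 s4c785 rfl
theorem s4u786 : ∀ v, 1 ≤ v → v ≤ 234480 → fs4 v = true := slots_step fs4 234205 275 234480 s4u785 s4c786 rfl
theorem s4u787 : ∀ v, 1 ≤ v → v ≤ 234743 → fs4 v = true := slots_step fs4 234480 263 234743 s4u786 s4c787 rfl
theorem s4u788 : ∀ v, 1 ≤ v → v ≤ 235019 → fs4 v = true := slots_step fs4 234743 276 235019 s4u787 s4c788 rfl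
theorem s4u789 : ∀ v, 1 ≤ v → v ≤ 235291 → fs4 v = true := slots_step fs4 235019 272 235291 s4u788 s4c789 rfl
theorem s4u790 : ∀ v, 1 ≤ v → v ≤ 235565 → fs4 v = true := slots_step fs4 235291 274 235565 s4u789 s4c790 rfl
theorem s4u791 : ∀ v, 1 ≤ v → v ≤ 235819 → fs4 v = true := slots_step fs4 235565 254 235819 s4u790 s4c791 rfl
theorem s4u792 : ∀ v, 1 ≤ v → v ≤ 236104 → fs4 v = true := slots_step fs4 235819 285 236104 s4u791 s4c792 rfl
theorem s4u793 : ∀ v, 1 ≤ v → v ≤ 236381 → fs4 v = true := slots_step fs4 236104 277 236381 s4u792 s4c793 rfl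
theorem s4u794 : ∀ v, 1 ≤ v → v ≤ 236642 → fs4 v = true := slots_step fs4 236381 261 236642 s4u793 s4c794 rfl
theorem s4u795 : ∀ v, 1 ≤ v → v ≤ 236909 → fs4 v = true := slots_step fs4 236642 267 236909 s4u794 s4c795 rfl
theorem s4u796 : ∀ v, 1 ≤ v → v ≤ 237172 → fs4 v = true := slots_step fs4 236909 263 237172 s4u795 s4c796 rfl
theorem s4u797 : ∀ v, 1 ≤ v → v ≤ 237456 → fs4 v = true := slots_step fs4 237172 284 237456 s4u796 s4c797 rfl
theorem s4u798 : ∀ v, 1 ≤ v → v ≤ 237744 → fs4 v = true := slots_step fs4 237456 288 237744 s4u797 s4c798 rfl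
theorem s4u799 : ∀ v, 1 ≤ v → v ≤ 237998 → fs4 v = true := slots_step fs4 237744 254 237998 s4u798 s4c799 rfl
theorem s4u800 : ∀ v, 1 ≤ v → v ≤ 238257 → fs4 v = true := slots_step fs4 237998 259 238257 s4u799 s4c800 rfl
theorem s4u801 : ∀ v, 1 ≤ v → v ≤ 238527 → fs4 v = true := slots_step fs4 238257 270 238527 s4u800 s4c801 rfl
theorem s4u802 : ∀ v, 1 ≤ v → v ≤ 238809 → fs4 v = true := slots_step fs4 238527 282 238809 s4u801 s4c802 rfl
theorem s4u803 : ∀ v, 1 ≤ v → v ≤ 239074 → fs4 v = true := slots_step fs4 238809 265 239074 s4u802 s4c803 rfl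
theorem s4u804 : ∀ v, 1 ≤ v → v ≤ 239339 → fs4 v = true := slots_step fs4 239074 265 239339 s4u803 s4c804 rfl
theorem s4u805 : ∀ v, 1 ≤ v → v ≤ 239625 → fs4 v = true := slots_step fs4 239339 286 239625 s4u804 s4c805 rfl
theorem s4u806 : ∀ v, 1 ≤ v → v ≤ 239897 → fs4 v = true := slots_step fs4 239625 272 239897 s4u805 s4c806 rfl
theorem s4u807 : ∀ v, 1 ≤ v → v ≤ 240183 → fs4 v = true := slots_step fs4 239897 286 240183 s4u806 s4c807 rfl
theorem s4u808 : ∀ v, 1 ≤ v → v ≤ 240437 → fs4 v = true := slots_step fs4 240183 254 240437 s4u807 s4c808 rfl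
theorem s4u809 : ∀ v, 1 ≤ v → v ≤ 240706 → fs4 v = true := slots_step fs4 240437 269 240706 s4u808 s4c809 rfl
theorem s4u810 : ∀ v, 1 ≤ v → v ≤ 240966 → fs4 v = true := slots_step fs4 240706 260 240966 s4u809 s4c810 rfl
theorem s4u811 : ∀ v, 1 ≤ v → v ≤ 241256 → fs4 v = true := slots_step fs4 240966 290 241256 s4u810 s4c811 rfl
theorem s4u812 : ∀ v, 1 ≤ v → v ≤ 241518 → fs4 v = true := slots_step fs4 241256 262 241518 s4u811 s4c812 rfl
theorem s4u813 : ∀ v, 1 ≤ v → v ≤ 241794 → fs4 v = true := slots_step fs4 241518 276 241794 s4u812 s4c813 rfl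
theorem s4u814 : ∀ v, 1 ≤ v → v ≤ 242052 → fs4 v = true := slots_step fs4 241794 258 242052 s4u813 s4c814 rfl
theorem s4u815 : ∀ v, 1 ≤ v → v ≤ 242343 → fs4 v = true := slots_step fs4 242052 291 242343 s4u814 s4c815 rfl
theorem s4u816 : ∀ v, 1 ≤ v → v ≤ 242634 → fs4 v = true := slots_step fs4 242343 291 242634 s4u815 s4c816 rfl
theorem s4u817 : ∀ v, 1 ≤ v → v ≤ 242906 → fs4 v = true := slots_step fs4 242634 272 242906 s4u816 s4c817 rfl
theorem s4u818 : ∀ v, 1 ≤ v → v ≤ 243175 → fs4 v = true := slots_step fs4 242906 269 243175 s4u817 s4c818 rfl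
theorem s4u819 : ∀ v, 1 ≤ v → v ≤ 243447 → fs4 v = true := slots_step fs4 243175 272 243447 s4u818 s4c819 rfl
theorem s4u820 : ∀ v, 1 ≤ v → v ≤ 243725 → fs4 v = true := slots_step fs4 243447 278 243725 s4u819 s4c820 rfl
theorem s4u821 : ∀ v, 1 ≤ v → v ≤ 244022 → fs4 v = true := slots_step fs4 243725 297 244022 s4u820 s4c821 rfl
theorem s4u822 : ∀ v, 1 ≤ v → v ≤ 244297 → fs4 v = true := slots_step fs4 244022 275 244297 s4u821 s4c822 rfl
theorem s4u823 : ∀ v, 1 ≤ v → v ≤ 244575 → fs4 v = true := slots_step fs4 244297 278 244575 s4u822 s4c823 rfl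
theorem s4u824 : ∀ v, 1 ≤ v → v ≤ 244841 → fs4 v = true := slots_step fs4 244575 266 244841 s4u823 s4c824 rfl
theorem s4u825 : ∀ v, 1 ≤ v → v ≤ 245132 → fs4 v = true := slots_step fs4 244841 291 245132 s4u824 s4c825 rfl
theorem s4u826 : ∀ v, 1 ≤ v → v ≤ 245407 → fs4 v = true := slots_step fs4 245132 275 245407 s4u825 s4c826 rfl
theorem s4u827 : ∀ v, 1 ≤ v → v ≤ 245685 → fs4 v = true := slots_step fs4 245407 278 245685 s4u826 s4c827 rfl
theorem s4u828 : ∀ v, 1 ≤ v → v ≤ 245944 → fs4 v = true := slots_step fs4 245685 259 245944 s4u827 s4c828 rfl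
theorem s4u829 : ∀ v, 1 ≤ v → v ≤ 246188 → fs4 v = true := slots_step fs4 245944 244 246188 s4u828 s4c829 rfl
theorem s4u830 : ∀ v, 1 ≤ v → v ≤ 246465 → fs4 v = true := slots_step fs4 246188 277 246465 s4u829 s4c830 rfl
theorem s4u831 : ∀ v, 1 ≤ v → v ≤ 246743 → fs4 v = true := slots_step fs4 246465 278 246743 s4u830 s4c831 rfl
theorem s4u832 : ∀ v, 1 ≤ v → v ≤ 247018 → fs4 v = true := slots_step fs4 246743 275 247018 s4u831 s4c832 rfl
theorem s4u833 : ∀ v, 1 ≤ v → v ≤ 247280 → fs4 v = true := slots_step fs4 247018 262 247280 s4u832 s4c833 rfl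
theorem s4u834 : ∀ v, 1 ≤ v → v ≤ 247545 → fs4 v = true := slots_step fs4 247280 265 247545 s4u833 s4c834 rfl
theorem s4u835 : ∀ v, 1 ≤ v → v ≤ 247821 → fs4 v = true := slots_step fs4 247545 276 247821 s4u834 s4c835 rfl
theorem s4u836 : ∀ v, 1 ≤ v → v ≤ 248073 → fs4 v = true := slots_step fs4 247821 252 248073 s4u835 s4c836 rfl
theorem s4u837 : ∀ v, 1 ≤ v → v ≤ 248339 → fs4 v = true := slots_step fs4 248073 266 248339 s4u836 s4c837 rfl
theorem s4u838 : ∀ v, 1 ≤ v → v ≤ 248613 → fs4 v = true := slots_step fs4 248339 274 248613 s4u837 s4c838 rfl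
theorem s4u839 : ∀ v, 1 ≤ v → v ≤ 248877 → fs4 v = true := slots_step fs4 248613 264 248877 s4u838 s4c839 rfl
theorem s4u840 : ∀ v, 1 ≤ v → v ≤ 249146 → fs4 v = true := slots_step fs4 248877 269 249146 s4u839 s4c840 rfl
theorem s4u841 : ∀ v, 1 ≤ v → v ≤ 249408 → fs4 v = true := slots_step fs4 249146 262 249408 s4u840 s4c841 rfl
theorem s4u842 : ∀ v, 1 ≤ v → v ≤ 249670 → fs4 v = true := slots_step fs4 249408 262 249670 s4u841 s4c842 rfl
theorem s4u843 : ∀ v, 1 ≤ v → v ≤ 249939 → fs4 v = true := slots_step fs4 249670 269 249939 s4u842 s4c843 rfl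
theorem s4u844 : ∀ v, 1 ≤ v → v ≤ 250199 → fs4 v = true := slots_step fs4 249939 260 250199 s4u843 s4c844 rfl
theorem s4u845 : ∀ v, 1 ≤ v → v ≤ 250465 → fs4 v = true := slots_step fs4 250199 266 250465 s4u844 s4c845 rfl
theorem s4u846 : ∀ v, 1 ≤ v → v ≤ 250724 → fs4 v = true := slots_step fs4 250465 259 250724 s4u845 s4c846 rfl
theorem s4u847 : ∀ v, 1 ≤ v → v ≤ 251005 → fs4 v = true := slots_step fs4 250724 281 251005 s4u846 s4c847 rfl
theorem s4u848 : ∀ v, 1 ≤ v → v ≤ 251280 → fs4 v = true := slots_step fs4 251005 275 251280 s4u847 s4c848 rfl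
theorem s4u849 : ∀ v, 1 ≤ v → v ≤ 251538 → fs4 v = true := slots_step fs4 251280 258 251538 s4u848 s4c849 rfl
theorem s4u850 : ∀ v, 1 ≤ v → v ≤ 251802 → fs4 v = true := slots_step fs4 251538 264 251802 s4u849 s4c850 rfl
theorem s4u851 : ∀ v, 1 ≤ v → v ≤ 252080 → fs4 v = true := slots_step fs4 251802 278 252080 s4u850 s4c851 rfl
theorem s4u852 : ∀ v, 1 ≤ v → v ≤ 252348 → fs4 v = true := slots_step fs4 252080 268 252348 s4u851 s4c852 rfl
theorem s4u853 : ∀ v, 1 ≤ v → v ≤ 252602 → fs4 v = true := slots_step fs4 252348 254 252602 s4u852 s4c853 rfl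
theorem s4u854 : ∀ v, 1 ≤ v → v ≤ 252881 → fs4 v = true := slots_step fs4 252602 279 252881 s4u853 s4c854 rfl
theorem s4u855 : ∀ v, 1 ≤ v → v ≤ 253150 → fs4 v = true := slots_step fs4 252881 269 253150 s4u854 s4c855 rfl
theorem s4u856 : ∀ v, 1 ≤ v → v ≤ 253435 → fs4 v = true := slots_step fs4 253150 285 253435 s4u855 s4c856 rfl
theorem s4u857 : ∀ v, 1 ≤ v → v ≤ 253692 → fs4 v = true := slots_step fs4 253435 257 253692 s4u856 s4c857 rfl
theorem s4u858 : ∀ v, 1 ≤ v → v ≤ 253969 → fs4 v = true := slots_step fs4 253692 277 253969 s4u857 s4c858 rfl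
theorem s4u859 : ∀ v, 1 ≤ v → v ≤ 254244 → fs4 v = true := slots_step fs4 253969 275 254244 s4u858 s4c859 rfl
theorem s4u860 : ∀ v, 1 ≤ v → v ≤ 254497 → fs4 v = true := slots_step fs4 254244 253 254497 s4u859 s4c860 rfl
theorem s4u861 : ∀ v, 1 ≤ v → v ≤ 254783 → fs4 v = true := slots_step fs4 254497 286 254783 s4u860 s4c861 rfl
theorem s4u862 : ∀ v, 1 ≤ v → v ≤ 255068 → fs4 v = true := slots_step fs4 254783 285 255068 s4u861 s4c862 rfl
theorem s4u863 : ∀ v, 1 ≤ v → v ≤ 255329 → fs4 v = true := slots_step fs4 255068 261 255329 s4u862 s4c863 rfl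
theorem s4u864 : ∀ v, 1 ≤ v → v ≤ 255603 → fs4 v = true := slots_step fs4 255329 274 255603 s4u863 s4c864 rfl
theorem s4u865 : ∀ v, 1 ≤ v → v ≤ 255891 → fs4 v = true := slots_step fs4 255603 288 255891 s4u864 s4c865 rfl
theorem s4u866 : ∀ v, 1 ≤ v → v ≤ 256164 → fs4 v = true := slots_step fs4 255891 273 256164 s4u865 s4c866 rfl
theorem s4u867 : ∀ v, 1 ≤ v → v ≤ 256438 → fs4 v = true := slots_step fs4 256164 274 256438 s4u866 s4c867 rfl
theorem s4u868 : ∀ v, 1 ≤ v → v ≤ 256714 → fs4 v = true := slots_step fs4 256438 276 256714 s4u867 s4c868 rfl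
theorem s4u869 : ∀ v, 1 ≤ v → v ≤ 256979 → fs4 v = true := slots_step fs4 256714 265 256979 s4u868 s4c869 rfl
theorem s4u870 : ∀ v, 1 ≤ v → v ≤ 257255 → fs4 v = true := slots_step fs4 256979 276 257255 s4u869 s4c870 rfl
theorem s4u871 : ∀ v, 1 ≤ v → v ≤ 257537 → fs4 v = true := slots_step fs4 257255 282 257537 s4u870 s4c871 rfl
theorem s4u872 : ∀ v, 1 ≤ v → v ≤ 257809 → fs4 v = true := slots_step fs4 257537 272 257809 s4u871 s4c872 rfl
theorem s4u873 : ∀ v, 1 ≤ v → v ≤ 258079 → fs4 v = true := slots_step fs4 257809 270 258079 s4u872 s4c873 rfl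
theorem s4u874 : ∀ v, 1 ≤ v → v ≤ 258354 → fs4 v = true := slots_step fs4 258079 275 258354 s4u873 s4c874 rfl
theorem s4u875 : ∀ v, 1 ≤ v → v ≤ 258637 → fs4 v = true := slots_step fs4 258354 283 258637 s4u874 s4c875 rfl
theorem s4u876 : ∀ v, 1 ≤ v → v ≤ 258908 → fs4 v = true := slots_step fs4 258637 271 258908 s4u875 s4c876 rfl
theorem s4u877 : ∀ v, 1 ≤ v → v ≤ 259187 → fs4 v = true := slots_step fs4 258908 279 259187 s4u876 s4c877 rfl
theorem s4u878 : ∀ v, 1 ≤ v → v ≤ 259457 → fs4 v = true := slots_step fs4 259187 270 259457 s4u877 s4c878 rfl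
theorem s4u879 : ∀ v, 1 ≤ v → v ≤ 259724 → fs4 v = true := slots_step fs4 259457 267 259724 s4u878 s4c879 rfl
theorem s4u880 : ∀ v, 1 ≤ v → v ≤ 260000 → fs4 v = true := slots_step fs4 259724 276 260000 s4u879 s4c880 rfl
theorem s4u881 : ∀ v, 1 ≤ v → v ≤ 260272 → fs4 v = true := slots_step fs4 260000 272 260272 s4u880 s4c881 rfl
theorem s4u882 : ∀ v, 1 ≤ v → v ≤ 260543 → fs4 v = true := slots_step fs4 260272 271 260543 s4u881 s4c882 rfl
theorem s4u883 : ∀ v, 1 ≤ v → v ≤ 260805 → fs4 v = true := slots_step fs4 260543 262 260805 s4u882 s4c883 rfl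
theorem s4u884 : ∀ v, 1 ≤ v → v ≤ 261072 → fs4 v = true := slots_step fs4 260805 267 261072 s4u883 s4c884 rfl
theorem s4u885 : ∀ v, 1 ≤ v → v ≤ 261356 → fs4 v = true := slots_step fs4 261072 284 261356 s4u884 s4c885 rfl
theorem s4u886 : ∀ v, 1 ≤ v → v ≤ 261628 → fs4 v = true := slots_step fs4 261356 272 261628 s4u885 s4c886 rfl
theorem s4u887 : ∀ v, 1 ≤ v → v ≤ 261890 → fs4 v = true := slots_step fs4 261628 262 261890 s4u886 s4c887 rfl
theorem s4u888 : ∀ v, 1 ≤ v → v ≤ 262155 → fs4 v = true := slots_step fs4 261890 265 262155 s4u887 s4c888 rfl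
theorem s4u889 : ∀ v, 1 ≤ v → v ≤ 262423 → fs4 v = true := slots_step fs4 262155 268 262423 s4u888 s4c889 rfl
theorem s4u890 : ∀ v, 1 ≤ v → v ≤ 262695 → fs4 v = true := slots_step fs4 262423 272 262695 s4u889 s4c890 rfl
theorem s4u891 : ∀ v, 1 ≤ v → v ≤ 262976 → fs4 v = true := slots_step fs4 262695 281 262976 s4u890 s4c891 rfl
theorem s4u892 : ∀ v, 1 ≤ v → v ≤ 263245 → fs4 v = true := slots_step fs4 262976 269 263245 s4u891 s4c892 rfl
theorem s4u893 : ∀ v, 1 ≤ v → v ≤ 263499 → fs4 v = true := slots_step fs4 263245 254 263499 s4u892 s4c893 rfl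
theorem s4u894 : ∀ v, 1 ≤ v → v ≤ 263768 → fs4 v = true := slots_step fs4 263499 269 263768 s4u893 s4c894 rfl
theorem s4u895 : ∀ v, 1 ≤ v → v ≤ 264034 → fs4 v = true := slots_step fs4 263768 266 264034 s4u894 s4c895 rfl
theorem s4u896 : ∀ v, 1 ≤ v → v ≤ 264297 → fs4 v = true := slots_step fs4 264034 263 264297 s4u895 s4c896 rfl
theorem s4u897 : ∀ v, 1 ≤ v → v ≤ 264568 → fs4 v = true := slots_step fs4 264297 271 264568 s4u896 s4c897 rfl
theorem s4u898 : ∀ v, 1 ≤ v → v ≤ 264845 → fs4 v = true := slots_step fs4 264568 277 264845 s4u897 s4c898 rfl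
theorem s4u899 : ∀ v, 1 ≤ v → v ≤ 265111 → fs4 v = true := slots_step fs4 264845 266 265111 s4u898 s4c899 rfl
theorem s4u900 : ∀ v, 1 ≤ v → v ≤ 265381 → fs4 v = true := slots_step fs4 265111 270 265381 s4u899 s4c900 rfl
theorem s4u901 : ∀ v, 1 ≤ v → v ≤ 265647 → fs4 v = true := slots_step fs4 265381 266 265647 s4u900 s4c901 rfl
theorem s4u902 : ∀ v, 1 ≤ v → v ≤ 265891 → fs4 v = true := slots_step fs4 265647 244 265891 s4u901 s4c902 rfl
theorem s4u903 : ∀ v, 1 ≤ v → v ≤ 266168 → fs4 v = true := slots_step fs4 265891 277 266168 s4u902 s4c903 rfl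
theorem s4u904 : ∀ v, 1 ≤ v → v ≤ 266435 → fs4 v = true := slots_step fs4 266168 267 266435 s4u903 s4c904 rfl
theorem s4u905 : ∀ v, 1 ≤ v → v ≤ 266721 → fs4 v = true := slots_step fs4 266435 286 266721 s4u904 s4c905 rfl
theorem s4u906 : ∀ v, 1 ≤ v → v ≤ 266992 → fs4 v = true := slots_step fs4 266721 271 266992 s4u905 s4c906 rfl
theorem s4u907 : ∀ v, 1 ≤ v → v ≤ 267261 → fs4 v = true := slots_step fs4 266992 269 267261 s4u906 s4c907 rfl
theorem s4u908 : ∀ v, 1 ≤ v → v ≤ 267529 → fs4 v = true := slots_step fs4 267261 268 267529 s4u907 s4c908 rfl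
theorem s4u909 : ∀ v, 1 ≤ v → v ≤ 267801 → fs4 v = true := slots_step fs4 267529 272 267801 s4u908 s4c909 rfl
theorem s4u910 : ∀ v, 1 ≤ v → v ≤ 268089 → fs4 v = true := slots_step fs4 267801 288 268089 s4u909 s4c910 rfl
theorem s4u911 : ∀ v, 1 ≤ v → v ≤ 268366 → fs4 v = true := slots_step fs4 268089 277 268366 s4u910 s4c911 rfl
theorem s4u912 : ∀ v, 1 ≤ v → v ≤ 268632 → fs4 v = true := slots_step fs4 268366 266 268632 s4u911 s4c912 rfl
theorem s4u913 : ∀ v, 1 ≤ v → v ≤ 268909 → fs4 v = true := slots_step fs4 268632 277 268909 s4u912 s4c913 rfl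
theorem s4u914 : ∀ v, 1 ≤ v → v ≤ 269169 → fs4 v = true := slots_step fs4 268909 260 269169 s4u913 s4c914 rfl
theorem s4u915 : ∀ v, 1 ≤ v → v ≤ 269461 → fs4 v = true := slots_step fs4 269169 292 269461 s4u914 s4c915 rfl
theorem s4u916 : ∀ v, 1 ≤ v → v ≤ 269739 → fs4 v = true := slots_step fs4 269461 278 269739 s4u915 s4c916 rfl
theorem s4u917 : ∀ v, 1 ≤ v → v ≤ 270009 → fs4 v = true := slots_step fs4 269739 270 270009 s4u916 s4c917 rfl
theorem s4u918 : ∀ v, 1 ≤ v → v ≤ 270282 → fs4 v = true := slots_step fs4 270009 273 270282 s4u917 s4c918 rfl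
theorem s4u919 : ∀ v, 1 ≤ v → v ≤ 270550 → fs4 v = true := slots_step fs4 270282 268 270550 s4u918 s4c919 rfl
theorem s4u920 : ∀ v, 1 ≤ v → v ≤ 270816 → fs4 v = true := slots_step fs4 270550 266 270816 s4u919 s4c920 rfl
theorem s4u921 : ∀ v, 1 ≤ v → v ≤ 271089 → fs4 v = true := slots_step fs4 270816 273 271089 s4u920 s4c921 rfl
theorem s4u922 : ∀ v, 1 ≤ v → v ≤ 271357 → fs4 v = true := slots_step fs4 271089 268 271357 s4u921 s4c922 rfl
theorem s4u923 : ∀ v, 1 ≤ v → v ≤ 271635 → fs4 v = true := slots_step fs4 271357 278 271635 s4u922 s4c923 rfl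
theorem s4u924 : ∀ v, 1 ≤ v → v ≤ 271917 → fs4 v = true := slots_step fs4 271635 282 271917 s4u923 s4c924 rfl
theorem s4u925 : ∀ v, 1 ≤ v → v ≤ 272206 → fs4 v = true := slots_step fs4 271917 289 272206 s4u924 s4c925 rfl
theorem s4u926 : ∀ v, 1 ≤ v → v ≤ 272463 → fs4 v = true := slots_step fs4 272206 257 272463 s4u925 s4c926 rfl
theorem s4u927 : ∀ v, 1 ≤ v → v ≤ 272735 → fs4 v = true := slots_step fs4 272463 272 272735 s4u926 s4c927 rfl
theorem s4u928 : ∀ v, 1 ≤ v → v ≤ 273005 → fs4 v = true := slots_step fs4 272735 270 273005 s4u927 s4c928 rfl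
theorem s4u929 : ∀ v, 1 ≤ v → v ≤ 273272 → fs4 v = true := slots_step fs4 273005 267 273272 s4u928 s4c929 rfl
theorem s4u930 : ∀ v, 1 ≤ v → v ≤ 273528 → fs4 v = true := slots_step fs4 273272 256 273528 s4u929 s4c930 rfl
theorem s4u931 : ∀ v, 1 ≤ v → v ≤ 273787 → fs4 v = true := slots_step fs4 273528 259 273787 s4u930 s4c931 rfl
theorem s4u932 : ∀ v, 1 ≤ v → v ≤ 274055 → fs4 v = true := slots_step fs4 273787 268 274055 s4u931 s4c932 rfl
theorem s4u933 : ∀ v, 1 ≤ v → v ≤ 274326 → fs4 v = true := slots_step fs4 274055 271 274326 s4u932 s4c933 rfl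
theorem s4u934 : ∀ v, 1 ≤ v → v ≤ 274590 → fs4 v = true := slots_step fs4 274326 264 274590 s4u933 s4c934 rfl
theorem s4u935 : ∀ v, 1 ≤ v → v ≤ 274853 → fs4 v = true := slots_step fs4 274590 263 274853 s4u934 s4c935 rfl
theorem s4u936 : ∀ v, 1 ≤ v → v ≤ 275123 → fs4 v = true := slots_step fs4 274853 270 275123 s4u935 s4c936 rfl
theorem s4u937 : ∀ v, 1 ≤ v → v ≤ 275387 → fs4 v = true := slots_step fs4 275123 264 275387 s4u936 s4c937 rfl
theorem s4u938 : ∀ v, 1 ≤ v → v ≤ 275649 → fs4 v = true := slots_step fs4 275387 262 275649 s4u937 s4c938 rfl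
theorem s4u939 : ∀ v, 1 ≤ v → v ≤ 275910 → fs4 v = true := slots_step fs4 275649 261 275910 s4u938 s4c939 rfl
theorem s4u940 : ∀ v, 1 ≤ v → v ≤ 276176 → fs4 v = true := slots_step fs4 275910 266 276176 s4u939 s4c940 rfl
theorem s4u941 : ∀ v, 1 ≤ v → v ≤ 276443 → fs4 v = true := slots_step fs4 276176 267 276443 s4u940 s4c941 rfl
theorem s4u942 : ∀ v, 1 ≤ v → v ≤ 276724 → fs4 v = true := slots_step fs4 276443 281 276724 s4u941 s4c942 rfl
theorem s4u943 : ∀ v, 1 ≤ v → v ≤ 276995 → fs4 v = true := slots_step fs4 276724 271 276995 s4u942 s4c943 rfl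
theorem s4u944 : ∀ v, 1 ≤ v → v ≤ 277259 → fs4 v = true := slots_step fs4 276995 264 277259 s4u943 s4c944 rfl
theorem s4u945 : ∀ v, 1 ≤ v → v ≤ 277524 → fs4 v = true := slots_step fs4 277259 265 277524 s4u944 s4c945 rfl
theorem s4u946 : ∀ v, 1 ≤ v → v ≤ 277801 → fs4 v = true := slots_step fs4 277524 277 277801 s4u945 s4c946 rfl
theorem s4u947 : ∀ v, 1 ≤ v → v ≤ 278065 → fs4 v = true := slots_step fs4 277801 264 278065 s4u946 s4c947 rfl
theorem s4u948 : ∀ v, 1 ≤ v → v ≤ 278323 → fs4 v = true := slots_step fs4 278065 258 278323 s4u947 s4c948 rfl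
theorem s4u949 : ∀ v, 1 ≤ v → v ≤ 278595 → fs4 v = true := slots_step fs4 278323 272 278595 s4u948 s4c949 rfl
theorem s4u950 : ∀ v, 1 ≤ v → v ≤ 278861 → fs4 v = true := slots_step fs4 278595 266 278861 s4u949 s4c950 rfl
theorem s4u951 : ∀ v, 1 ≤ v → v ≤ 279123 → fs4 v = true := slots_step fs4 278861 262 279123 s4u950 s4c951 rfl
theorem s4u952 : ∀ v, 1 ≤ v → v ≤ 279394 → fs4 v = true := slots_step fs4 279123 271 279394 s4u951 s4c952 rfl
theorem s4u953 : ∀ v, 1 ≤ v → v ≤ 279669 → fs4 v = true := slots_step fs4 279394 275 279669 s4u952 s4c953 rfl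
theorem s4u954 : ∀ v, 1 ≤ v → v ≤ 279940 → fs4 v = true := slots_step fs4 279669 271 279940 s4u953 s4c954 rfl
theorem s4u955 : ∀ v, 1 ≤ v → v ≤ 280190 → fs4 v = true := slots_step fs4 279940 250 280190 s4u954 s4c955 rfl
theorem s4u956 : ∀ v, 1 ≤ v → v ≤ 280458 → fs4 v = true := slots_step fs4 280190 268 280458 s4u955 s4c956 rfl
theorem s4u957 : ∀ v, 1 ≤ v → v ≤ 280731 → fs4 v = true := slots_step fs4 280458 273 280731 s4u956 s4c957 rfl
theorem s4u958 : ∀ v, 1 ≤ v → v ≤ 281002 → fs4 v = true := slots_step fs4 280731 271 281002 s4u957 s4c958 rfl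
theorem s4u959 : ∀ v, 1 ≤ v → v ≤ 281269 → fs4 v = true := slots_step fs4 281002 267 281269 s4u958 s4c959 rfl
theorem s4u960 : ∀ v, 1 ≤ v → v ≤ 281544 → fs4 v = true := slots_step fs4 281269 275 281544 s4u959 s4c960 rfl
theorem s4u961 : ∀ v, 1 ≤ v → v ≤ 281818 → fs4 v = true := slots_step fs4 281544 274 281818 s4u960 s4c961 rfl
theorem s4u962 : ∀ v, 1 ≤ v → v ≤ 282083 → fs4 v = true := slots_step fs4 281818 265 282083 s4u961 s4c962 rfl
theorem s4u963 : ∀ v, 1 ≤ v → v ≤ 282348 → fs4 v = true := slots_step fs4 282083 265 282348 s4u962 s4c963 rfl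
theorem s4u964 : ∀ v, 1 ≤ v → v ≤ 282605 → fs4 v = true := slots_step fs4 282348 257 282605 s4u963 s4c964 rfl
theorem s4u965 : ∀ v, 1 ≤ v → v ≤ 282885 → fs4 v = true := slots_step fs4 282605 280 282885 s4u964 s4c965 rfl
theorem s4u966 : ∀ v, 1 ≤ v → v ≤ 283156 → fs4 v = true := slots_step fs4 282885 271 283156 s4u965 s4c966 rfl
theorem s4u967 : ∀ v, 1 ≤ v → v ≤ 283420 → fs4 v = true := slots_step fs4 283156 264 283420 s4u966 s4c967 rfl
theorem s4u968 : ∀ v, 1 ≤ v → v ≤ 283685 → fs4 v = true := slots_step fs4 283420 265 283685 s4u967 s4c968 rfl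
theorem s4u969 : ∀ v, 1 ≤ v → v ≤ 283956 → fs4 v = true := slots_step fs4 283685 271 283956 s4u968 s4c969 rfl
theorem s4u970 : ∀ v, 1 ≤ v → v ≤ 284223 → fs4 v = true := slots_step fs4 283956 267 284223 s4u969 s4c970 rfl
theorem s4u971 : ∀ v, 1 ≤ v → v ≤ 284484 → fs4 v = true := slots_step fs4 284223 261 284484 s4u970 s4c971 rfl
theorem s4u972 : ∀ v, 1 ≤ v → v ≤ 284749 → fs4 v = true := slots_step fs4 284484 265 284749 s4u971 s4c972 rfl
theorem s4u973 : ∀ v, 1 ≤ v → v ≤ 285023 → fs4 v = true := slots_step fs4 284749 274 285023 s4u972 s4c973 rfl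
theorem s4u974 : ∀ v, 1 ≤ v → v ≤ 285279 → fs4 v = true := slots_step fs4 285023 256 285279 s4u973 s4c974 rfl
theorem s4u975 : ∀ v, 1 ≤ v → v ≤ 285537 → fs4 v = true := slots_step fs4 285279 258 285537 s4u974 s4c975 rfl
theorem s4u976 : ∀ v, 1 ≤ v → v ≤ 285804 → fs4 v = true := slots_step fs4 285537 267 285804 s4u975 s4c976 rfl
theorem s4u977 : ∀ v, 1 ≤ v → v ≤ 286072 → fs4 v = true := slots_step fs4 285804 268 286072 s4u976 s4c977 rfl
theorem s4u978 : ∀ v, 1 ≤ v → v ≤ 286336 → fs4 v = true := slots_step fs4 286072 264 286336 s4u977 s4c978 rfl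
theorem s4u979 : ∀ v, 1 ≤ v → v ≤ 286598 → fs4 v = true := slots_step fs4 286336 262 286598 s4u978 s4c979 rfl
theorem s4u980 : ∀ v, 1 ≤ v → v ≤ 286865 → fs4 v = true := slots_step fs4 286598 267 286865 s4u979 s4c980 rfl
theorem s4u981 : ∀ v, 1 ≤ v → v ≤ 287136 → fs4 v = true := slots_step fs4 286865 271 287136 s4u980 s4c981 rfl
theorem s4u982 : ∀ v, 1 ≤ v → v ≤ 287414 → fs4 v = true := slots_step fs4 287136 278 287414 s4u981 s4c982 rfl
theorem s4u983 : ∀ v, 1 ≤ v → v ≤ 287676 → fs4 v = true := slots_step fs4 287414 262 287676 s4u982 s4c983 rfl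
theorem s4u984 : ∀ v, 1 ≤ v → v ≤ 287936 → fs4 v = true := slots_step fs4 287676 260 287936 s4u983 s4c984 rfl
theorem s4u985 : ∀ v, 1 ≤ v → v ≤ 288205 → fs4 v = true := slots_step fs4 287936 269 288205 s4u984 s4c985 rfl
theorem s4u986 : ∀ v, 1 ≤ v → v ≤ 288460 → fs4 v = true := slots_step fs4 288205 255 288460 s4u985 s4c986 rfl
theorem s4u987 : ∀ v, 1 ≤ v → v ≤ 288732 → fs4 v = true := slots_step fs4 288460 272 288732 s4u986 s4c987 rfl
theorem s4u988 : ∀ v, 1 ≤ v → v ≤ 289007 → fs4 v = true := slots_step fs4 288732 275 289007 s4u987 s4c988 rfl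
theorem s4u989 : ∀ v, 1 ≤ v → v ≤ 289258 → fs4 v = true := slots_step fs4 289007 251 289258 s4u988 s4c989 rfl
theorem s4u990 : ∀ v, 1 ≤ v → v ≤ 289516 → fs4 v = true := slots_step fs4 289258 258 289516 s4u989 s4c990 rfl
theorem s4u991 : ∀ v, 1 ≤ v → v ≤ 289774 → fs4 v = true := slots_step fs4 289516 258 289774 s4u990 s4c991 rfl
theorem s4u992 : ∀ v, 1 ≤ v → v ≤ 290027 → fs4 v = true := slots_step fs4 289774 253 290027 s4u991 s4c992 rfl
theorem s4u993 : ∀ v, 1 ≤ v → v ≤ 290299 → fs4 v = true := slots_step fs4 290027 272 290299 s4u992 s4c993 rfl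
theorem s4u994 : ∀ v, 1 ≤ v → v ≤ 290564 → fs4 v = true := slots_step fs4 290299 265 290564 s4u993 s4c994 rfl
theorem s4u995 : ∀ v, 1 ≤ v → v ≤ 290826 → fs4 v = true := slots_step fs4 290564 262 290826 s4u994 s4c995 rfl
theorem s4u996 : ∀ v, 1 ≤ v → v ≤ 291083 → fs4 v = true := slots_step fs4 290826 257 291083 s4u995 s4c996 rfl
theorem s4u997 : ∀ v, 1 ≤ v → v ≤ 291334 → fs4 v = true := slots_step fs4 291083 251 291334 s4u996 s4c997 rfl
theorem s4u998 : ∀ v, 1 ≤ v → v ≤ 291606 → fs4 v = true := slots_step fs4 291334 272 291606 s4u997 s4c998 rfl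
theorem s4u999 : ∀ v, 1 ≤ v → v ≤ 291875 → fs4 v = true := slots_step fs4 291606 269 291875 s4u998 s4c999 rfl
theorem s4u1000 : ∀ v, 1 ≤ v → v ≤ 292152 → fs4 v = true := slots_step fs4 291875 277 292152 s4u999 s4c1000 rfl
theorem s4u1001 : ∀ v, 1 ≤ v → v ≤ 292427 → fs4 v = true := slots_step fs4 292152 275 292427 s4u1000 s4c1001 rfl
theorem s4u1002 : ∀ v, 1 ≤ v → v ≤ 292694 → fs4 v = true := slots_step fs4 292427 267 292694 s4u1001 s4c1002 rfl
theorem s4u1003 : ∀ v, 1 ≤ v → v ≤ 292962 → fs4 v = true := slots_step fs4 292694 268 292962 s4u1002 s4c1003 rfl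
theorem s4u1004 : ∀ v, 1 ≤ v → v ≤ 293227 → fs4 v = true := slots_step fs4 292962 265 293227 s4u1003 s4c1004 rfl
theorem s4u1005 : ∀ v, 1 ≤ v → v ≤ 293492 → fs4 v = true := slots_step fs4 293227 265 293492 s4u1004 s4c1005 rfl
theorem s4u1006 : ∀ v, 1 ≤ v → v ≤ 293762 → fs4 v = true := slots_step fs4 293492 270 293762 s4u1005 s4c1006 rfl
theorem s4u1007 : ∀ v, 1 ≤ v → v ≤ 294027 → fs4 v = true := slots_step fs4 293762 265 294027 s4u1006 s4c1007 rfl
theorem s4u1008 : ∀ v, 1 ≤ v → v ≤ 294288 → fs4 v = true := slots_step fs4 294027 261 294288 s4u1007 s4c1008 rfl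
theorem s4u1009 : ∀ v, 1 ≤ v → v ≤ 294559 → fs4 v = true := slots_step fs4 294288 271 294559 s4u1008 s4c1009 rfl
theorem s4u1010 : ∀ v, 1 ≤ v → v ≤ 294833 → fs4 v = true := slots_step fs4 294559 274 294833 s4u1009 s4c1010 rfl
theorem s4u1011 : ∀ v, 1 ≤ v → v ≤ 295097 → fs4 v = true := slots_step fs4 294833 264 295097 s4u1010 s4c1011 rfl
theorem s4u1012 : ∀ v, 1 ≤ v → v ≤ 295371 → fs4 v = true := slots_step fs4 295097 274 295371 s4u1011 s4c1012 rfl
theorem s4u1013 : ∀ v, 1 ≤ v → v ≤ 295632 → fs4 v = true := slots_step fs4 295371 261 295632 s4u1012 s4c1013 rfl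
theorem s4u1014 : ∀ v, 1 ≤ v → v ≤ 295888 → fs4 v = true := slots_step fs4 295632 256 295888 s4u1013 s4c1014 rfl
theorem s4u1015 : ∀ v, 1 ≤ v → v ≤ 296158 → fs4 v = true := slots_step fs4 295888 270 296158 s4u1014 s4c1015 rfl
theorem s4u1016 : ∀ v, 1 ≤ v → v ≤ 296439 → fs4 v = true := slots_step fs4 296158 281 296439 s4u1015 s4c1016 rfl
theorem s4u1017 : ∀ v, 1 ≤ v → v ≤ 296715 → fs4 v = true := slots_step fs4 296439 276 296715 s4u1016 s4c1017 rfl
theorem s4u1018 : ∀ v, 1 ≤ v → v ≤ 296999 → fs4 v = true := slots_step fs4 296715 284 296999 s4u1017 s4c1018 rfl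
theorem s4u1019 : ∀ v, 1 ≤ v → v ≤ 297270 → fs4 v = true := slots_step fs4 296999 271 297270 s4u1018 s4c1019 rfl
theorem s4u1020 : ∀ v, 1 ≤ v → v ≤ 297528 → fs4 v = true := slots_step fs4 297270 258 297528 s4u1019 s4c1020 rfl
theorem s4u1021 : ∀ v, 1 ≤ v → v ≤ 297793 → fs4 v = true := slots_step fs4 297528 265 297793 s4u1020 s4c1021 rfl
theorem s4u1022 : ∀ v, 1 ≤ v → v ≤ 298055 → fs4 v = true := slots_step fs4 297793 262 298055 s4u1021 s4c1022 rfl
theorem s4u1023 : ∀ v, 1 ≤ v → v ≤ 298313 → fs4 v = true := slots_step fs4 298055 258 298313 s4u1022 s4c1023 rfl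
theorem s4u1024 : ∀ v, 1 ≤ v → v ≤ 298573 → fs4 v = true := slots_step fs4 298313 260 298573 s4u1023 s4c1024 rfl
theorem s4u1025 : ∀ v, 1 ≤ v → v ≤ 298834 → fs4 v = true := slots_step fs4 298573 261 298834 s4u1024 s4c1025 rfl
theorem s4u1026 : ∀ v, 1 ≤ v → v ≤ 299092 → fs4 v = true := slots_step fs4 298834 258 299092 s4u1025 s4c1026 rfl
theorem s4u1027 : ∀ v, 1 ≤ v → v ≤ 299351 → fs4 v = true := slots_step fs4 299092 259 299351 s4u1026 s4c1027 rfl
theorem s4u1028 : ∀ v, 1 ≤ v → v ≤ 299600 → fs4 v = true := slots_step fs4 299351 249 299600 s4u1027 s4c1028 rfl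
theorem s4u1029 : ∀ v, 1 ≤ v → v ≤ 299865 → fs4 v = true := slots_step fs4 299600 265 299865 s4u1028 s4c1029 rfl
theorem s4u1030 : ∀ v, 1 ≤ v → v ≤ 300119 → fs4 v = true := slots_step fs4 299865 254 300119 s4u1029 s4c1030 rfl
theorem s4u1031 : ∀ v, 1 ≤ v → v ≤ 300373 → fs4 v = true := slots_step fs4 300119 254 300373 s4u1030 s4c1031 rfl
theorem s4u1032 : ∀ v, 1 ≤ v → v ≤ 300631 → fs4 v = true := slots_step fs4 300373 258 300631 s4u1031 s4c1032 rfl
theorem s4u1033 : ∀ v, 1 ≤ v → v ≤ 300886 → fs4 v = true := slots_step fs4 300631 255 300886 s4u1032 s4c1033 rfl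
theorem s4u1034 : ∀ v, 1 ≤ v → v ≤ 301157 → fs4 v = true := slots_step fs4 300886 271 301157 s4u1033 s4c1034 rfl
theorem s4u1035 : ∀ v, 1 ≤ v → v ≤ 301415 → fs4 v = true := slots_step fs4 301157 258 301415 s4u1034 s4c1035 rfl
theorem s4u1036 : ∀ v, 1 ≤ v → v ≤ 301678 → fs4 v = true := slots_step fs4 301415 263 301678 s4u1035 s4c1036 rfl
theorem s4u1037 : ∀ v, 1 ≤ v → v ≤ 301947 → fs4 v = true := slots_step fs4 301678 269 301947 s4u1036 s4c1037 rfl
theorem s4u1038 : ∀ v, 1 ≤ v → v ≤ 302213 → fs4 v = true := slots_step fs4 301947 266 302213 s4u1037 s4c1038 rfl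
theorem s4u1039 : ∀ v, 1 ≤ v → v ≤ 302469 → fs4 v = true := slots_step fs4 302213 256 302469 s4u1038 s4c1039 rfl
theorem s4u1040 : ∀ v, 1 ≤ v → v ≤ 302723 → fs4 v = true := slots_step fs4 302469 254 302723 s4u1039 s4c1040 rfl
theorem s4u1041 : ∀ v, 1 ≤ v → v ≤ 303002 → fs4 v = true := slots_step fs4 302723 279 303002 s4u1040 s4c1041 rfl
theorem s4u1042 : ∀ v, 1 ≤ v → v ≤ 303245 → fs4 v = true := slots_step fs4 303002 243 303245 s4u1041 s4c1042 rfl
theorem s4u1043 : ∀ v, 1 ≤ v → v ≤ 303507 → fs4 v = true := slots_step fs4 303245 262 303507 s4u1042 s4c1043 rfl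
theorem s4u1044 : ∀ v, 1 ≤ v → v ≤ 303762 → fs4 v = true := slots_step fs4 303507 255 303762 s4u1043 s4c1044 rfl
theorem s4u1045 : ∀ v, 1 ≤ v → v ≤ 304019 → fs4 v = true := slots_step fs4 303762 257 304019 s4u1044 s4c1045 rfl
theorem s4u1046 : ∀ v, 1 ≤ v → v ≤ 304284 → fs4 v = true := slots_step fs4 304019 265 304284 s4u1045 s4c1046 rfl
theorem s4u1047 : ∀ v, 1 ≤ v → v ≤ 304559 → fs4 v = true := slots_step fs4 304284 275 304559 s4u1046 s4c1047 rfl
theorem s4u1048 : ∀ v, 1 ≤ v → v ≤ 304814 → fs4 v = true := slots_step fs4 304559 255 304814 s4u1047 s4c1048 rfl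
theorem s4u1049 : ∀ v, 1 ≤ v → v ≤ 305054 → fs4 v = true := slots_step fs4 304814 240 305054 s4u1048 s4c1049 rfl
theorem s4u1050 : ∀ v, 1 ≤ v → v ≤ 305306 → fs4 v = true := slots_step fs4 305054 252 305306 s4u1049 s4c1050 rfl
theorem s4u1051 : ∀ v, 1 ≤ v → v ≤ 305566 → fs4 v = true := slots_step fs4 305306 260 305566 s4u1050 s4c1051 rfl
theorem s4u1052 : ∀ v, 1 ≤ v → v ≤ 305824 → fs4 v = true := slots_step fs4 305566 258 305824 s4u1051 s4c1052 rfl
theorem s4u1053 : ∀ v, 1 ≤ v → v ≤ 306090 → fs4 v = true := slots_step fs4 305824 266 306090 s4u1052 s4c1053 rfl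
theorem s4u1054 : ∀ v, 1 ≤ v → v ≤ 306355 → fs4 v = true := slots_step fs4 306090 265 306355 s4u1053 s4c1054 rfl
theorem s4u1055 : ∀ v, 1 ≤ v → v ≤ 306614 → fs4 v = true := slots_step fs4 306355 259 306614 s4u1054 s4c1055 rfl
theorem s4u1056 : ∀ v, 1 ≤ v → v ≤ 306869 → fs4 v = true := slots_step fs4 306614 255 306869 s4u1055 s4c1056 rfl
theorem s4u1057 : ∀ v, 1 ≤ v → v ≤ 307117 → fs4 v = true := slots_step fs4 306869 248 307117 s4u1056 s4c1057 rfl
theorem s4u1058 : ∀ v, 1 ≤ v → v ≤ 307378 → fs4 v = true := slots_step fs4 307117 261 307378 s4u1057 s4c1058 rfl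
theorem s4u1059 : ∀ v, 1 ≤ v → v ≤ 307648 → fs4 v = true := slots_step fs4 307378 270 307648 s4u1058 s4c1059 rfl
theorem s4u1060 : ∀ v, 1 ≤ v → v ≤ 307906 → fs4 v = true := slots_step fs4 307648 258 307906 s4u1059 s4c1060 rfl
theorem s4u1061 : ∀ v, 1 ≤ v → v ≤ 308156 → fs4 v = true := slots_step fs4 307906 250 308156 s4u1060 s4c1061 rfl
theorem s4u1062 : ∀ v, 1 ≤ v → v ≤ 308418 → fs4 v = true := slots_step fs4 308156 262 308418 s4u1061 s4c1062 rfl
theorem s4u1063 : ∀ v, 1 ≤ v → v ≤ 308674 → fs4 v = true := slots_step fs4 308418 256 308674 s4u1062 s4c1063 rfl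
theorem s4u1064 : ∀ v, 1 ≤ v → v ≤ 308924 → fs4 v = true := slots_step fs4 308674 250 308924 s4u1063 s4c1064 rfl
theorem s4u1065 : ∀ v, 1 ≤ v → v ≤ 309188 → fs4 v = true := slots_step fs4 308924 264 309188 s4u1064 s4c1065 rfl
theorem s4u1066 : ∀ v, 1 ≤ v → v ≤ 309439 → fs4 v = true := slots_step fs4 309188 251 309439 s4u1065 s4c1066 rfl
theorem s4u1067 : ∀ v, 1 ≤ v → v ≤ 309682 → fs4 v = true := slots_step fs4 309439 243 309682 s4u1066 s4c1067 rfl
theorem s4u1068 : ∀ v, 1 ≤ v → v ≤ 309941 → fs4 v = true := slots_step fs4 309682 259 309941 s4u1067 s4c1068 rfl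
theorem s4u1069 : ∀ v, 1 ≤ v → v ≤ 310208 → fs4 v = true := slots_step fs4 309941 267 310208 s4u1068 s4c1069 rfl
theorem s4u1070 : ∀ v, 1 ≤ v → v ≤ 310467 → fs4 v = true := slots_step fs4 310208 259 310467 s4u1069 s4c1070 rfl
theorem s4u1071 : ∀ v, 1 ≤ v → v ≤ 310727 → fs4 v = true := slots_step fs4 310467 260 310727 s4u1070 s4c1071 rfl
theorem s4u1072 : ∀ v, 1 ≤ v → v ≤ 310988 → fs4 v = true := slots_step fs4 310727 261 310988 s4u1071 s4c1072 rfl
theorem s4u1073 : ∀ v, 1 ≤ v → v ≤ 311242 → fs4 v = true := slots_step fs4 310988 254 311242 s4u1072 s4c1073 rfl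
theorem s4u1074 : ∀ v, 1 ≤ v → v ≤ 311505 → fs4 v = true := slots_step fs4 311242 263 311505 s4u1073 s4c1074 rfl
theorem s4u1075 : ∀ v, 1 ≤ v → v ≤ 311766 → fs4 v = true := slots_step fs4 311505 261 311766 s4u1074 s4c1075 rfl
theorem s4u1076 : ∀ v, 1 ≤ v → v ≤ 312021 → fs4 v = true := slots_step fs4 311766 255 312021 s4u1075 s4c1076 rfl
theorem s4u1077 : ∀ v, 1 ≤ v → v ≤ 312284 → fs4 v = true := slots_step fs4 312021 263 312284 s4u1076 s4c1077 rfl
theorem s4u1078 : ∀ v, 1 ≤ v → v ≤ 312527 → fs4 v = true := slots_step fs4 312284 243 312527 s4u1077 s4c1078 rfl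
theorem s4u1079 : ∀ v, 1 ≤ v → v ≤ 312789 → fs4 v = true := slots_step fs4 312527 262 312789 s4u1078 s4c1079 rfl
theorem s4u1080 : ∀ v, 1 ≤ v → v ≤ 313045 → fs4 v = true := slots_step fs4 312789 256 313045 s4u1079 s4c1080 rfl
theorem s4u1081 : ∀ v, 1 ≤ v → v ≤ 313294 → fs4 v = true := slots_step fs4 313045 249 313294 s4u1080 s4c1081 rfl
theorem s4u1082 : ∀ v, 1 ≤ v → v ≤ 313541 → fs4 v = true := slots_step fs4 313294 247 313541 s4u1081 s4c1082 rfl
theorem s4u1083 : ∀ v, 1 ≤ v → v ≤ 313796 → fs4 v = true := slots_step fs4 313541 255 313796 s4u1082 s4c1083 rfl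
theorem s4u1084 : ∀ v, 1 ≤ v → v ≤ 314051 → fs4 v = true := slots_step fs4 313796 255 314051 s4u1083 s4c1084 rfl
theorem s4u1085 : ∀ v, 1 ≤ v → v ≤ 314301 → fs4 v = true := slots_step fs4 314051 250 314301 s4u1084 s4c1085 rfl
theorem s4u1086 : ∀ v, 1 ≤ v → v ≤ 314554 → fs4 v = true := slots_step fs4 314301 253 314554 s4u1085 s4c1086 rfl
theorem s4u1087 : ∀ v, 1 ≤ v → v ≤ 314830 → fs4 v = true := slots_step fs4 314554 276 314830 s4u1086 s4c1087 rfl
theorem s4u1088 : ∀ v, 1 ≤ v → v ≤ 315092 → fs4 v = true := slots_step fs4 314830 262 315092 s4u1087 s4c1088 rfl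
theorem s4u1089 : ∀ v, 1 ≤ v → v ≤ 315361 → fs4 v = true := slots_step fs4 315092 269 315361 s4u1088 s4c1089 rfl
theorem s4u1090 : ∀ v, 1 ≤ v → v ≤ 315621 → fs4 v = true := slots_step fs4 315361 260 315621 s4u1089 s4c1090 rfl
theorem s4u1091 : ∀ v, 1 ≤ v → v ≤ 315885 → fs4 v = true := slots_step fs4 315621 264 315885 s4u1090 s4c1091 rfl
theorem s4u1092 : ∀ v, 1 ≤ v → v ≤ 316150 → fs4 v = true := slots_step fs4 315885 265 316150 s4u1091 s4c1092 rfl
theorem s4u1093 : ∀ v, 1 ≤ v → v ≤ 316398 → fs4 v = true := slots_step fs4 316150 248 316398 s4u1092 s4c1093 rfl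
theorem s4u1094 : ∀ v, 1 ≤ v → v ≤ 316658 → fs4 v = true := slots_step fs4 316398 260 316658 s4u1093 s4c1094 rfl
theorem s4u1095 : ∀ v, 1 ≤ v → v ≤ 316922 → fs4 v = true := slots_step fs4 316658 264 316922 s4u1094 s4c1095 rfl
theorem s4u1096 : ∀ v, 1 ≤ v → v ≤ 317175 → fs4 v = true := slots_step fs4 316922 253 317175 s4u1095 s4c1096 rfl
theorem s4u1097 : ∀ v, 1 ≤ v → v ≤ 317445 → fs4 v = true := slots_step fs4 317175 270 317445 s4u1096 s4c1097 rfl
theorem s4u1098 : ∀ v, 1 ≤ v → v ≤ 317712 → fs4 v = true := slots_step fs4 317445 267 317712 s4u1097 s4c1098 rfl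
theorem s4u1099 : ∀ v, 1 ≤ v → v ≤ 317973 → fs4 v = true := slots_step fs4 317712 261 317973 s4u1098 s4c1099 rfl
theorem s4u1100 : ∀ v, 1 ≤ v → v ≤ 318227 → fs4 v = true := slots_step fs4 317973 254 318227 s4u1099 s4c1100 rfl
theorem s4u1101 : ∀ v, 1 ≤ v → v ≤ 318487 → fs4 v = true := slots_step fs4 318227 260 318487 s4u1100 s4c1101 rfl
theorem s4u1102 : ∀ v, 1 ≤ v → v ≤ 318761 → fs4 v = true := slots_step fs4 318487 274 318761 s4u1101 s4c1102 rfl
theorem s4u1103 : ∀ v, 1 ≤ v → v ≤ 319025 → fs4 v = true := slots_step fs4 318761 264 319025 s4u1102 s4c1103 rfl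
theorem s4u1104 : ∀ v, 1 ≤ v → v ≤ 319291 → fs4 v = true := slots_step fs4 319025 266 319291 s4u1103 s4c1104 rfl
theorem s4u1105 : ∀ v, 1 ≤ v → v ≤ 319548 → fs4 v = true := slots_step fs4 319291 257 319548 s4u1104 s4c1105 rfl
theorem s4u1106 : ∀ v, 1 ≤ v → v ≤ 319798 → fs4 v = true := slots_step fs4 319548 250 319798 s4u1105 s4c1106 rfl
theorem s4u1107 : ∀ v, 1 ≤ v → v ≤ 320050 → fs4 v = true := slots_step fs4 319798 252 320050 s4u1106 s4c1107 rfl
theorem s4u1108 : ∀ v, 1 ≤ v → v ≤ 320300 → fs4 v = true := slots_step fs4 320050 250 320300 s4u1107 s4c1108 rfl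
theorem s4u1109 : ∀ v, 1 ≤ v → v ≤ 320545 → fs4 v = true := slots_step fs4 320300 245 320545 s4u1108 s4c1109 rfl
theorem s4u1110 : ∀ v, 1 ≤ v → v ≤ 320803 → fs4 v = true := slots_step fs4 320545 258 320803 s4u1109 s4c1110 rfl
theorem s4u1111 : ∀ v, 1 ≤ v → v ≤ 321053 → fs4 v = true := slots_step fs4 320803 250 321053 s4u1110 s4c1111 rfl
theorem s4u1112 : ∀ v, 1 ≤ v → v ≤ 321297 → fs4 v = true := slots_step fs4 321053 244 321297 s4u1111 s4c1112 rfl
theorem s4u1113 : ∀ v, 1 ≤ v → v ≤ 321532 → fs4 v = true := slots_step fs4 321297 235 321532 s4u1112 s4c1113 rfl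
theorem s4u1114 : ∀ v, 1 ≤ v → v ≤ 321779 → fs4 v = true := slots_step fs4 321532 247 321779 s4u1113 s4c1114 rfl
theorem s4u1115 : ∀ v, 1 ≤ v → v ≤ 322018 → fs4 v = true := slots_step fs4 321779 239 322018 s4u1114 s4c1115 rfl
theorem s4u1116 : ∀ v, 1 ≤ v → v ≤ 322260 → fs4 v = true := slots_step fs4 322018 242 322260 s4u1115 s4c1116 rfl
theorem s4u1117 : ∀ v, 1 ≤ v → v ≤ 322508 → fs4 v = true := slots_step fs4 322260 248 322508 s4u1116 s4c1117 rfl
theorem s4u1118 : ∀ v, 1 ≤ v → v ≤ 322751 → fs4 v = true := slots_step fs4 322508 243 322751 s4u1117 s4c1118 rfl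
theorem s4u1119 : ∀ v, 1 ≤ v → v ≤ 323006 → fs4 v = true := slots_step fs4 322751 255 323006 s4u1118 s4c1119 rfl
theorem s4u1120 : ∀ v, 1 ≤ v → v ≤ 323261 → fs4 v = true := slots_step fs4 323006 255 323261 s4u1119 s4c1120 rfl
theorem s4u1121 : ∀ v, 1 ≤ v → v ≤ 323512 → fs4 v = true := slots_step fs4 323261 251 323512 s4u1120 s4c1121 rfl
theorem s4u1122 : ∀ v, 1 ≤ v → v ≤ 323766 → fs4 v = true := slots_step fs4 323512 254 323766 s4u1121 s4c1122 rfl
theorem s4u1123 : ∀ v, 1 ≤ v → v ≤ 324012 → fs4 v = true := slots_step fs4 323766 246 324012 s4u1122 s4c1123 rfl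
theorem s4u1124 : ∀ v, 1 ≤ v → v ≤ 324268 → fs4 v = true := slots_step fs4 324012 256 324268 s4u1123 s4c1124 rfl
theorem s4u1125 : ∀ v, 1 ≤ v → v ≤ 324513 → fs4 v = true := slots_step fs4 324268 245 324513 s4u1124 s4c1125 rfl
theorem s4u1126 : ∀ v, 1 ≤ v → v ≤ 324761 → fs4 v = true := slots_step fs4 324513 248 324761 s4u1125 s4c1126 rfl
theorem s4u1127 : ∀ v, 1 ≤ v → v ≤ 325008 → fs4 v = true := slots_step fs4 324761 247 325008 s4u1126 s4c1127 rfl
theorem s4u1128 : ∀ v, 1 ≤ v → v ≤ 325256 → fs4 v = true := slots_step fs4 325008 248 325256 s4u1127 s4c1128 rfl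
theorem s4u1129 : ∀ v, 1 ≤ v → v ≤ 325506 → fs4 v = true := slots_step fs4 325256 250 325506 s4u1128 s4c1129 rfl
theorem s4u1130 : ∀ v, 1 ≤ v → v ≤ 325761 → fs4 v = true := slots_step fs4 325506 255 325761 s4u1129 s4c1130 rfl
theorem s4u1131 : ∀ v, 1 ≤ v → v ≤ 325998 → fs4 v = true := slots_step fs4 325761 237 325998 s4u1130 s4c1131 rfl
theorem s4u1132 : ∀ v, 1 ≤ v → v ≤ 326237 → fs4 v = true := slots_step fs4 325998 239 326237 s4u1131 s4c1132 rfl
theorem s4u1133 : ∀ v, 1 ≤ v → v ≤ 326499 → fs4 v = true := slots_step fs4 326237 262 326499 s4u1132 s4c1133 rfl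
theorem s4u1134 : ∀ v, 1 ≤ v → v ≤ 326747 → fs4 v = true := slots_step fs4 326499 248 326747 s4u1133 s4c1134 rfl
theorem s4u1135 : ∀ v, 1 ≤ v → v ≤ 326997 → fs4 v = true := slots_step fs4 326747 250 326997 s4u1134 s4c1135 rfl
theorem s4u1136 : ∀ v, 1 ≤ v → v ≤ 327248 → fs4 v = true := slots_step fs4 326997 251 327248 s4u1135 s4c1136 rfl
theorem s4u1137 : ∀ v, 1 ≤ v → v ≤ 327507 → fs4 v = true := slots_step fs4 327248 259 327507 s4u1136 s4c1137 rfl
theorem s4u1138 : ∀ v, 1 ≤ v → v ≤ 327736 → fs4 v = true := slots_step fs4 327507 229 327736 s4u1137 s4c1138 rfl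
theorem s4u1139 : ∀ v, 1 ≤ v → v ≤ 327999 → fs4 v = true := slots_step fs4 327736 263 327999 s4u1138 s4c1139 rfl
theorem s4u1140 : ∀ v, 1 ≤ v → v ≤ 328251 → fs4 v = true := slots_step fs4 327999 252 328251 s4u1139 s4c1140 rfl
theorem s4u1141 : ∀ v, 1 ≤ v → v ≤ 328504 → fs4 v = true := slots_step fs4 328251 253 328504 s4u1140 s4c1141 rfl
theorem s4u1142 : ∀ v, 1 ≤ v → v ≤ 328759 → fs4 v = true := slots_step fs4 328504 255 328759 s4u1141 s4c1142 rfl
theorem s4u1143 : ∀ v, 1 ≤ v → v ≤ 328997 → fs4 v = true := slots_step fs4 328759 238 328997 s4u1142 s4c1143 rfl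
theorem s4u1144 : ∀ v, 1 ≤ v → v ≤ 329245 → fs4 v = true := slots_step fs4 328997 248 329245 s4u1143 s4c1144 rfl
theorem s4u1145 : ∀ v, 1 ≤ v → v ≤ 329482 → fs4 v = true := slots_step fs4 329245 237 329482 s4u1144 s4c1145 rfl
theorem s4u1146 : ∀ v, 1 ≤ v → v ≤ 329737 → fs4 v = true := slots_step fs4 329482 255 329737 s4u1145 s4c1146 rfl
theorem s4u1147 : ∀ v, 1 ≤ v → v ≤ 329999 → fs4 v = true := slots_step fs4 329737 262 329999 s4u1146 s4c1147 rfl
theorem s4u1148 : ∀ v, 1 ≤ v → v ≤ 330248 → fs4 v = true := slots_step fs4 329999 249 330248 s4u1147 s4c1148 rfl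
theorem s4u1149 : ∀ v, 1 ≤ v → v ≤ 330503 → fs4 v = true := slots_step fs4 330248 255 330503 s4u1148 s4c1149 rfl
theorem s4u1150 : ∀ v, 1 ≤ v → v ≤ 330745 → fs4 v = true := slots_step fs4 330503 242 330745 s4u1149 s4c1150 rfl
theorem s4u1151 : ∀ v, 1 ≤ v → v ≤ 330996 → fs4 v = true := slots_step fs4 330745 251 330996 s4u1150 s4c1151 rfl
theorem s4u1152 : ∀ v, 1 ≤ v → v ≤ 331249 → fs4 v = true := slots_step fs4 330996 253 331249 s4u1151 s4c1152 rfl
theorem s4u1153 : ∀ v, 1 ≤ v → v ≤ 331494 → fs4 v = true := slots_step fs4 331249 245 331494 s4u1152 s4c1153 rfl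
theorem s4u1154 : ∀ v, 1 ≤ v → v ≤ 331735 → fs4 v = true := slots_step fs4 331494 241 331735 s4u1153 s4c1154 rfl
theorem s4u1155 : ∀ v, 1 ≤ v → v ≤ 331986 → fs4 v = true := slots_step fs4 331735 251 331986 s4u1154 s4c1155 rfl
theorem s4u1156 : ∀ v, 1 ≤ v → v ≤ 332228 → fs4 v = true := slots_step fs4 331986 242 332228 s4u1155 s4c1156 rfl
theorem s4u1157 : ∀ v, 1 ≤ v → v ≤ 332476 → fs4 v = true := slots_step fs4 332228 248 332476 s4u1156 s4c1157 rfl
theorem s4u1158 : ∀ v, 1 ≤ v → v ≤ 332729 → fs4 v = true := slots_step fs4 332476 253 332729 s4u1157 s4c1158 rfl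
theorem s4u1159 : ∀ v, 1 ≤ v → v ≤ 332982 → fs4 v = true := slots_step fs4 332729 253 332982 s4u1158 s4c1159 rfl
theorem s4u1160 : ∀ v, 1 ≤ v → v ≤ 333232 → fs4 v = true := slots_step fs4 332982 250 333232 s4u1159 s4c1160 rfl
theorem s4u1161 : ∀ v, 1 ≤ v → v ≤ 333492 → fs4 v = true := slots_step fs4 333232 260 333492 s4u1160 s4c1161 rfl
theorem s4u1162 : ∀ v, 1 ≤ v → v ≤ 333740 → fs4 v = true := slots_step fs4 333492 248 333740 s4u1161 s4c1162 rfl
theorem s4u1163 : ∀ v, 1 ≤ v → v ≤ 333994 → fs4 v = true := slots_step fs4 333740 254 333994 s4u1162 s4c1163 rfl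
theorem s4u1164 : ∀ v, 1 ≤ v → v ≤ 334248 → fs4 v = true := slots_step fs4 333994 254 334248 s4u1163 s4c1164 rfl
theorem s4u1165 : ∀ v, 1 ≤ v → v ≤ 334510 → fs4 v = true := slots_step fs4 334248 262 334510 s4u1164 s4c1165 rfl
theorem s4u1166 : ∀ v, 1 ≤ v → v ≤ 334764 → fs4 v = true := slots_step fs4 334510 254 334764 s4u1165 s4c1166 rfl
theorem s4u1167 : ∀ v, 1 ≤ v → v ≤ 335036 → fs4 v = true := slots_step fs4 334764 272 335036 s4u1166 s4c1167 rfl
theorem s4u1168 : ∀ v, 1 ≤ v → v ≤ 335289 → fs4 v = true := slots_step fs4 335036 253 335289 s4u1167 s4c1168 rfl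
theorem s4u1169 : ∀ v, 1 ≤ v → v ≤ 335550 → fs4 v = true := slots_step fs4 335289 261 335550 s4u1168 s4c1169 rfl
theorem s4u1170 : ∀ v, 1 ≤ v → v ≤ 335799 → fs4 v = true := slots_step fs4 335550 249 335799 s4u1169 s4c1170 rfl
theorem s4u1171 : ∀ v, 1 ≤ v → v ≤ 336046 → fs4 v = true := slots_step fs4 335799 247 336046 s4u1170 s4c1171 rfl
theorem s4u1172 : ∀ v, 1 ≤ v → v ≤ 336295 → fs4 v = true := slots_step fs4 336046 249 336295 s4u1171 s4c1172 rfl
theorem s4u1173 : ∀ v, 1 ≤ v → v ≤ 336537 → fs4 v = true := slots_step fs4 336295 242 336537 s4u1172 s4c1173 rfl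
theorem s4u1174 : ∀ v, 1 ≤ v → v ≤ 336773 → fs4 v = true := slots_step fs4 336537 236 336773 s4u1173 s4c1174 rfl
theorem s4u1175 : ∀ v, 1 ≤ v → v ≤ 337006 → fs4 v = true := slots_step fs4 336773 233 337006 s4u1174 s4c1175 rfl
theorem s4u1176 : ∀ v, 1 ≤ v → v ≤ 337247 → fs4 v = true := slots_step fs4 337006 241 337247 s4u1175 s4c1176 rfl
theorem s4u1177 : ∀ v, 1 ≤ v → v ≤ 337493 → fs4 v = true := slots_step fs4 337247 246 337493 s4u1176 s4c1177 rfl
theorem s4u1178 : ∀ v, 1 ≤ v → v ≤ 337731 → fs4 v = true := slots_step fs4 337493 238 337731 s4u1177 s4c1178 rfl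
theorem s4u1179 : ∀ v, 1 ≤ v → v ≤ 337967 → fs4 v = true := slots_step fs4 337731 236 337967 s4u1178 s4c1179 rfl
theorem s4u1180 : ∀ v, 1 ≤ v → v ≤ 338197 → fs4 v = true := slots_step fs4 337967 230 338197 s4u1179 s4c1180 rfl
theorem s4u1181 : ∀ v, 1 ≤ v → v ≤ 338435 → fs4 v = true := slots_step fs4 338197 238 338435 s4u1180 s4c1181 rfl
theorem s4u1182 : ∀ v, 1 ≤ v → v ≤ 338670 → fs4 v = true := slots_step fs4 338435 235 338670 s4u1181 s4c1182 rfl
theorem s4u1183 : ∀ v, 1 ≤ v → v ≤ 338915 → fs4 v = true := slots_step fs4 338670 245 338915 s4u1182 s4c1183 rfl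
theorem s4u1184 : ∀ v, 1 ≤ v → v ≤ 339159 → fs4 v = true := slots_step fs4 338915 244 339159 s4u1183 s4c1184 rfl
theorem s4u1185 : ∀ v, 1 ≤ v → v ≤ 339403 → fs4 v = true := slots_step fs4 339159 244 339403 s4u1184 s4c1185 rfl
theorem s4u1186 : ∀ v, 1 ≤ v → v ≤ 339642 → fs4 v = true := slots_step fs4 339403 239 339642 s4u1185 s4c1186 rfl
theorem s4u1187 : ∀ v, 1 ≤ v → v ≤ 339886 → fs4 v = true := slots_step fs4 339642 244 339886 s4u1186 s4c1187 rfl
theorem s4u1188 : ∀ v, 1 ≤ v → v ≤ 340117 → fs4 v = true := slots_step fs4 339886 231 340117 s4u1187 s4c1188 rfl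
theorem s4u1189 : ∀ v, 1 ≤ v → v ≤ 340360 → fs4 v = true := slots_step fs4 340117 243 340360 s4u1188 s4c1189 rfl
theorem s4u1190 : ∀ v, 1 ≤ v → v ≤ 340606 → fs4 v = true := slots_step fs4 340360 246 340606 s4u1189 s4c1190 rfl
theorem s4u1191 : ∀ v, 1 ≤ v → v ≤ 340849 → fs4 v = true := slots_step fs4 340606 243 340849 s4u1190 s4c1191 rfl
theorem s4u1192 : ∀ v, 1 ≤ v → v ≤ 341090 → fs4 v = true := slots_step fs4 340849 241 341090 s4u1191 s4c1192 rfl
theorem s4u1193 : ∀ v, 1 ≤ v → v ≤ 341334 → fs4 v = true := slots_step fs4 341090 244 341334 s4u1192 s4c1193 rfl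
theorem s4u1194 : ∀ v, 1 ≤ v → v ≤ 341589 → fs4 v = true := slots_step fs4 341334 255 341589 s4u1193 s4c1194 rfl
theorem s4u1195 : ∀ v, 1 ≤ v → v ≤ 341818 → fs4 v = true := slots_step fs4 341589 229 341818 s4u1194 s4c1195 rfl
theorem s4u1196 : ∀ v, 1 ≤ v → v ≤ 342069 → fs4 v = true := slots_step fs4 341818 251 342069 s4u1195 s4c1196 rfl
theorem s4u1197 : ∀ v, 1 ≤ v → v ≤ 342332 → fs4 v = true := slots_step fs4 342069 263 342332 s4u1196 s4c1197 rfl
theorem s4u1198 : ∀ v, 1 ≤ v → v ≤ 342590 → fs4 v = true := slots_step fs4 342332 258 342590 s4u1197 s4c1198 rfl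
theorem s4u1199 : ∀ v, 1 ≤ v → v ≤ 342831 → fs4 v = true := slots_step fs4 342590 241 342831 s4u1198 s4c1199 rfl
theorem s4u1200 : ∀ v, 1 ≤ v → v ≤ 343064 → fs4 v = true := slots_step fs4 342831 233 343064 s4u1199 s4c1200 rfl
theorem s4u1201 : ∀ v, 1 ≤ v → v ≤ 343310 → fs4 v = true := slots_step fs4 343064 246 343310 s4u1200 s4c1201 rfl
theorem s4u1202 : ∀ v, 1 ≤ v → v ≤ 343563 → fs4 v = true := slots_step fs4 343310 253 343563 s4u1201 s4c1202 rfl
theorem s4u1203 : ∀ v, 1 ≤ v → v ≤ 343821 → fs4 v = true := slots_step fs4 343563 258 343821 s4u1202 s4c1203 rfl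
theorem s4u1204 : ∀ v, 1 ≤ v → v ≤ 344059 → fs4 v = true := slots_step fs4 343821 238 344059 s4u1203 s4c1204 rfl
theorem s4u1205 : ∀ v, 1 ≤ v → v ≤ 344311 → fs4 v = true := slots_step fs4 344059 252 344311 s4u1204 s4c1205 rfl
theorem s4u1206 : ∀ v, 1 ≤ v → v ≤ 344552 → fs4 v = true := slots_step fs4 344311 241 344552 s4u1205 s4c1206 rfl
theorem s4u1207 : ∀ v, 1 ≤ v → v ≤ 344798 → fs4 v = true := slots_step fs4 344552 246 344798 s4u1206 s4c1207 rfl
theorem s4u1208 : ∀ v, 1 ≤ v → v ≤ 345041 → fs4 v = true := slots_step fs4 344798 243 345041 s4u1207 s4c1208 rfl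
theorem s4u1209 : ∀ v, 1 ≤ v → v ≤ 345291 → fs4 v = true := slots_step fs4 345041 250 345291 s4u1208 s4c1209 rfl
theorem s4u1210 : ∀ v, 1 ≤ v → v ≤ 345545 → fs4 v = true := slots_step fs4 345291 254 345545 s4u1209 s4c1210 rfl
theorem s4u1211 : ∀ v, 1 ≤ v → v ≤ 345800 → fs4 v = true := slots_step fs4 345545 255 345800 s4u1210 s4c1211 rfl
theorem s4u1212 : ∀ v, 1 ≤ v → v ≤ 346051 → fs4 v = true := slots_step fs4 345800 251 346051 s4u1211 s4c1212 rfl
theorem s4u1213 : ∀ v, 1 ≤ v → v ≤ 346310 → fs4 v = true := slots_step fs4 346051 259 346310 s4u1212 s4c1213 rfl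
theorem s4u1214 : ∀ v, 1 ≤ v → v ≤ 346565 → fs4 v = true := slots_step fs4 346310 255 346565 s4u1213 s4c1214 rfl
theorem s4u1215 : ∀ v, 1 ≤ v → v ≤ 346797 → fs4 v = true := slots_step fs4 346565 232 346797 s4u1214 s4c1215 rfl
theorem s4u1216 : ∀ v, 1 ≤ v → v ≤ 347047 → fs4 v = true := slots_step fs4 346797 250 347047 s4u1215 s4c1216 rfl
theorem s4u1217 : ∀ v, 1 ≤ v → v ≤ 347298 → fs4 v = true := slots_step fs4 347047 251 347298 s4u1216 s4c1217 rfl
theorem s4u1218 : ∀ v, 1 ≤ v → v ≤ 347514 → fs4 v = true := slots_step fs4 347298 216 347514 s4u1217 s4c1218 rfl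
theorem s4u1219 : ∀ v, 1 ≤ v → v ≤ 347752 → fs4 v = true := slots_step fs4 347514 238 347752 s4u1218 s4c1219 rfl
theorem s4u1220 : ∀ v, 1 ≤ v → v ≤ 347983 → fs4 v = true := slots_step fs4 347752 231 347983 s4u1219 s4c1220 rfl
theorem s4u1221 : ∀ v, 1 ≤ v → v ≤ 348216 → fs4 v = true := slots_step fs4 347983 233 348216 s4u1220 s4c1221 rfl
theorem s4u1222 : ∀ v, 1 ≤ v → v ≤ 348447 → fs4 v = true := slots_step fs4 348216 231 348447 s4u1221 s4c1222 rfl
theorem s4u1223 : ∀ v, 1 ≤ v → v ≤ 348676 → fs4 v = true := slots_step fs4 348447 229 348676 s4u1222 s4c1223 rfl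
theorem s4u1224 : ∀ v, 1 ≤ v → v ≤ 348915 → fs4 v = true := slots_step fs4 348676 239 348915 s4u1223 s4c1224 rfl
theorem s4u1225 : ∀ v, 1 ≤ v → v ≤ 349156 → fs4 v = true := slots_step fs4 348915 241 349156 s4u1224 s4c1225 rfl
theorem s4u1226 : ∀ v, 1 ≤ v → v ≤ 349396 → fs4 v = true := slots_step fs4 349156 240 349396 s4u1225 s4c1226 rfl
theorem s4u1227 : ∀ v, 1 ≤ v → v ≤ 349641 → fs4 v = true := slots_step fs4 349396 245 349641 s4u1226 s4c1227 rfl
theorem s4u1228 : ∀ v, 1 ≤ v → v ≤ 349875 → fs4 v = true := slots_step fs4 349641 234 349875 s4u1227 s4c1228 rfl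
theorem s4u1229 : ∀ v, 1 ≤ v → v ≤ 350121 → fs4 v = true := slots_step fs4 349875 246 350121 s4u1228 s4c1229 rfl
theorem s4u1230 : ∀ v, 1 ≤ v → v ≤ 350365 → fs4 v = true := slots_step fs4 350121 244 350365 s4u1229 s4c1230 rfl
theorem s4u1231 : ∀ v, 1 ≤ v → v ≤ 350631 → fs4 v = true := slots_step fs4 350365 266 350631 s4u1230 s4c1231 rfl
theorem s4u1232 : ∀ v, 1 ≤ v → v ≤ 350888 → fs4 v = true := slots_step fs4 350631 257 350888 s4u1231 s4c1232 rfl
theorem s4u1233 : ∀ v, 1 ≤ v → v ≤ 351127 → fs4 v = true := slots_step fs4 350888 239 351127 s4u1232 s4c1233 rfl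
theorem s4u1234 : ∀ v, 1 ≤ v → v ≤ 351378 → fs4 v = true := slots_step fs4 351127 251 351378 s4u1233 s4c1234 rfl
theorem s4u1235 : ∀ v, 1 ≤ v → v ≤ 351627 → fs4 v = true := slots_step fs4 351378 249 351627 s4u1234 s4c1235 rfl
theorem s4u1236 : ∀ v, 1 ≤ v → v ≤ 351877 → fs4 v = true := slots_step fs4 351627 250 351877 s4u1235 s4c1236 rfl
theorem s4u1237 : ∀ v, 1 ≤ v → v ≤ 352118 → fs4 v = true := slots_step fs4 351877 241 352118 s4u1236 s4c1237 rfl
theorem s4u1238 : ∀ v, 1 ≤ v → v ≤ 352374 → fs4 v = true := slots_step fs4 352118 256 352374 s4u1237 s4c1238 rfl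
theorem s4u1239 : ∀ v, 1 ≤ v → v ≤ 352640 → fs4 v = true := slots_step fs4 352374 266 352640 s4u1238 s4c1239 rfl
theorem s4u1240 : ∀ v, 1 ≤ v → v ≤ 352878 → fs4 v = true := slots_step fs4 352640 238 352878 s4u1239 s4c1240 rfl
theorem s4u1241 : ∀ v, 1 ≤ v → v ≤ 353164 → fs4 v = true := slots_step fs4 352878 286 353164 s4u1240 s4c1241 rfl
theorem s4u1242 : ∀ v, 1 ≤ v → v ≤ 353391 → fs4 v = true := slots_step fs4 353164 227 353391 s4u1241 s4c1242 rfl
theorem s4u1243 : ∀ v, 1 ≤ v → v ≤ 353586 → fs4 v = true := slots_step fs4 353391 195 353586 s4u1242 s4c1243 rfl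
theorem s4u1244 : ∀ v, 1 ≤ v → v ≤ 353815 → fs4 v = true := slots_step fs4 353586 229 353815 s4u1243 s4c1244 rfl
theorem s4u1245 : ∀ v, 1 ≤ v → v ≤ 354055 → fs4 v = true := slots_step fs4 353815 240 354055 s4u1244 s4c1245 rfl
theorem s4u1246 : ∀ v, 1 ≤ v → v ≤ 354305 → fs4 v = true := slots_step fs4 354055 250 354305 s4u1245 s4c1246 rfl
theorem s4u1247 : ∀ v, 1 ≤ v → v ≤ 354525 → fs4 v = true := slots_step fs4 354305 220 354525 s4u1246 s4c1247 rfl
theorem s4u1248 : ∀ v, 1 ≤ v → v ≤ 354766 → fs4 v = true := slots_step fs4 354525 241 354766 s4u1247 s4c1248 rfl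
theorem s4u1249 : ∀ v, 1 ≤ v → v ≤ 355024 → fs4 v = true := slots_step fs4 354766 258 355024 s4u1248 s4c1249 rfl
theorem s4u1250 : ∀ v, 1 ≤ v → v ≤ 355274 → fs4 v = true := slots_step fs4 355024 250 355274 s4u1249 s4c1250 rfl
theorem s4u1251 : ∀ v, 1 ≤ v → v ≤ 355518 → fs4 v = true := slots_step fs4 355274 244 355518 s4u1250 s4c1251 rfl
theorem s4u1252 : ∀ v, 1 ≤ v → v ≤ 355789 → fs4 v = true := slots_step fs4 355518 271 355789 s4u1251 s4c1252 rfl
theorem s4u1253 : ∀ v, 1 ≤ v → v ≤ 356059 → fs4 v = true := slots_step fs4 355789 270 356059 s4u1252 s4c1253 rfl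
theorem s4u1254 : ∀ v, 1 ≤ v → v ≤ 356287 → fs4 v = true := slots_step fs4 356059 228 356287 s4u1253 s4c1254 rfl
theorem s4u1255 : ∀ v, 1 ≤ v → v ≤ 356523 → fs4 v = true := slots_step fs4 356287 236 356523 s4u1254 s4c1255 rfl
theorem s4u1256 : ∀ v, 1 ≤ v → v ≤ 356786 → fs4 v = true := slots_step fs4 356523 263 356786 s4u1255 s4c1256 rfl
theorem s4u1257 : ∀ v, 1 ≤ v → v ≤ 357048 → fs4 v = true := slots_step fs4 356786 262 357048 s4u1256 s4c1257 rfl
theorem s4u1258 : ∀ v, 1 ≤ v → v ≤ 357291 → fs4 v = true := slots_step fs4 357048 243 357291 s4u1257 s4c1258 rfl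
theorem s4u1259 : ∀ v, 1 ≤ v → v ≤ 357465 → fs4 v = true := slots_step fs4 357291 174 357465 s4u1258 s4c1259 rfl
theorem s5u0 : ∀ v, 1 ≤ v → v ≤ 260 → fs5 v = true := slots_step fs5 0 260 260 (slots_zero fs5) s5c0 rfl
theorem s5u1 : ∀ v, 1 ≤ v → v ≤ 550 → fs5 v = true := slots_step fs5 260 290 550 s5u0 s5c1 rfl
theorem s5u2 : ∀ v, 1 ≤ v → v ≤ 822 → fs5 v = true := slots_step fs5 550 272 822 s5u1 s5c2 rfl
theorem s5u3 : ∀ v, 1 ≤ v → v ≤ 1093 → fs5 v = true := slots_step fs5 822 271 1093 s5u2 s5c3 rfl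
theorem s5u4 : ∀ v, 1 ≤ v → v ≤ 1360 → fs5 v = true := slots_step fs5 1093 267 1360 s5u3 s5c4 rfl
theorem s5u5 : ∀ v, 1 ≤ v → v ≤ 1627 → fs5 v = true := slots_step fs5 1360 267 1627 s5u4 s5c5 rfl
theorem s5u6 : ∀ v, 1 ≤ v → v ≤ 1900 → fs5 v = true := slots_step fs5 1627 273 1900 s5u5 s5c6 rfl
theorem s5u7 : ∀ v, 1 ≤ v → v ≤ 2165 → fs5 v = true := slots_step fs5 1900 265 2165 s5u6 s5c7 rfl
theorem s5u8 : ∀ v, 1 ≤ v → v ≤ 2438 → fs5 v = true := slots_step fs5 2165 273 2438 s5u7 s5c8 rfl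
theorem s5u9 : ∀ v, 1 ≤ v → v ≤ 2722 → fs5 v = true := slots_step fs5 2438 284 2722 s5u8 s5c9 rfl
theorem s5u10 : ∀ v, 1 ≤ v → v ≤ 2990 → fs5 v = true := slots_step fs5 2722 268 2990 s5u9 s5c10 rfl
theorem s5u11 : ∀ v, 1 ≤ v → v ≤ 3276 → fs5 v = true := slots_step fs5 2990 286 3276 s5u10 s5c11 rfl
theorem s5u12 : ∀ v, 1 ≤ v → v ≤ 3571 → fs5 v = true := slots_step fs5 3276 295 3571 s5u11 s5c12 rfl
theorem s5u13 : ∀ v, 1 ≤ v → v ≤ 3842 → fs5 v = true := slots_step fs5 3571 271 3842 s5u12 s5c13 rfl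
theorem s5u14 : ∀ v, 1 ≤ v → v ≤ 4118 → fs5 v = true := slots_step fs5 3842 276 4118 s5u13 s5c14 rfl
theorem s5u15 : ∀ v, 1 ≤ v → v ≤ 4420 → fs5 v = true := slots_step fs5 4118 302 4420 s5u14 s5c15 rfl
theorem s5u16 : ∀ v, 1 ≤ v → v ≤ 4709 → fs5 v = true := slots_step fs5 4420 289 4709 s5u15 s5c16 rfl
theorem s5u17 : ∀ v, 1 ≤ v → v ≤ 5010 → fs5 v = true := slots_step fs5 4709 301 5010 s5u16 s5c17 rfl
theorem s5u18 : ∀ v, 1 ≤ v → v ≤ 5287 → fs5 v = true := slots_step fs5 5010 277 5287 s5u17 s5c18 rfl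
theorem s5u19 : ∀ v, 1 ≤ v → v ≤ 5579 → fs5 v = true := slots_step fs5 5287 292 5579 s5u18 s5c19 rfl
theorem s5u20 : ∀ v, 1 ≤ v → v ≤ 5859 → fs5 v = true := slots_step fs5 5579 280 5859 s5u19 s5c20 rfl
theorem s5u21 : ∀ v, 1 ≤ v → v ≤ 6169 → fs5 v = true := slots_step fs5 5859 310 6169 s5u20 s5c21 rfl
theorem s5u22 : ∀ v, 1 ≤ v → v ≤ 6455 → fs5 v = true := slots_step fs5 6169 286 6455 s5u21 s5c22 rfl
theorem s5u23 : ∀ v, 1 ≤ v → v ≤ 6738 → fs5 v = true := slots_step fs5 6455 283 6738 s5u22 s5c23 rfl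
theorem s5u24 : ∀ v, 1 ≤ v → v ≤ 7059 → fs5 v = true := slots_step fs5 6738 321 7059 s5u23 s5c24 rfl
theorem s5u25 : ∀ v, 1 ≤ v → v ≤ 7348 → fs5 v = true := slots_step fs5 7059 289 7348 s5u24 s5c25 rfl
theorem s5u26 : ∀ v, 1 ≤ v → v ≤ 7652 → fs5 v = true := slots_step fs5 7348 304 7652 s5u25 s5c26 rfl
theorem s5u27 : ∀ v, 1 ≤ v → v ≤ 7932 → fs5 v = true := slots_step fs5 7652 280 7932 s5u26 s5c27 rfl
theorem s5u28 : ∀ v, 1 ≤ v → v ≤ 8219 → fs5 v = true := slots_step fs5 7932 287 8219 s5u27 s5c28 rfl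
theorem s5u29 : ∀ v, 1 ≤ v → v ≤ 8549 → fs5 v = true := slots_step fs5 8219 330 8549 s5u28 s5c29 rfl
theorem s5u30 : ∀ v, 1 ≤ v → v ≤ 8820 → fs5 v = true := slots_step fs5 8549 271 8820 s5u29 s5c30 rfl
theorem s5u31 : ∀ v, 1 ≤ v → v ≤ 9115 → fs5 v = true := slots_step fs5 8820 295 9115 s5u30 s5c31 rfl
theorem s5u32 : ∀ v, 1 ≤ v → v ≤ 9408 → fs5 v = true := slots_step fs5 9115 293 9408 s5u31 s5c32 rfl
theorem s5u33 : ∀ v, 1 ≤ v → v ≤ 9771 → fs5 v = true := slots_step fs5 9408 363 9771 s5u32 s5c33 rfl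
theorem s5u34 : ∀ v, 1 ≤ v → v ≤ 10061 → fs5 v = true := slots_step fs5 9771 290 10061 s5u33 s5c34 rfl
theorem s5u35 : ∀ v, 1 ≤ v → v ≤ 10360 → fs5 v = true := slots_step fs5 10061 299 10360 s5u34 s5c35 rfl
theorem s5u36 : ∀ v, 1 ≤ v → v ≤ 10630 → fs5 v = true := slots_step fs5 10360 270 10630 s5u35 s5c36 rfl
theorem s5u37 : ∀ v, 1 ≤ v → v ≤ 10902 → fs5 v = true := slots_step fs5 10630 272 10902 s5u36 s5c37 rfl
theorem s5u38 : ∀ v, 1 ≤ v → v ≤ 11166 → fs5 v = true := slots_step fs5 10902 264 11166 s5u37 s5c38 rfl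
theorem s5u39 : ∀ v, 1 ≤ v → v ≤ 11440 → fs5 v = true := slots_step fs5 11166 274 11440 s5u38 s5c39 rfl
theorem s5u40 : ∀ v, 1 ≤ v → v ≤ 11708 → fs5 v = true := slots_step fs5 11440 268 11708 s5u39 s5c40 rfl
theorem s5u41 : ∀ v, 1 ≤ v → v ≤ 11982 → fs5 v = true := slots_step fs5 11708 274 11982 s5u40 s5c41 rfl
theorem s5u42 : ∀ v, 1 ≤ v → v ≤ 12235 → fs5 v = true := slots_step fs5 11982 253 12235 s5u41 s5c42 rfl
theorem s5u43 : ∀ v, 1 ≤ v → v ≤ 12534 → fs5 v = true := slots_step fs5 12235 299 12534 s5u42 s5c43 rfl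
theorem s5u44 : ∀ v, 1 ≤ v → v ≤ 12825 → fs5 v = true := slots_step fs5 12534 291 12825 s5u43 s5c44 rfl
theorem s5u45 : ∀ v, 1 ≤ v → v ≤ 13110 → fs5 v = true := slots_step fs5 12825 285 13110 s5u44 s5c45 rfl
theorem s5u46 : ∀ v, 1 ≤ v → v ≤ 13387 → fs5 v = true := slots_step fs5 13110 277 13387 s5u45 s5c46 rfl
theorem s5u47 : ∀ v, 1 ≤ v → v ≤ 13645 → fs5 v = true := slots_step fs5 13387 258 13645 s5u46 s5c47 rfl
theorem s5u48 : ∀ v, 1 ≤ v → v ≤ 13914 → fs5 v = true := slots_step fs5 13645 269 13914 s5u47 s5c48 rfl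
theorem s5u49 : ∀ v, 1 ≤ v → v ≤ 14194 → fs5 v = true := slots_step fs5 13914 280 14194 s5u48 s5c49 rfl
theorem s5u50 : ∀ v, 1 ≤ v → v ≤ 14482 → fs5 v = true := slots_step fs5 14194 288 14482 s5u49 s5c50 rfl
theorem s5u51 : ∀ v, 1 ≤ v → v ≤ 14752 → fs5 v = true := slots_step fs5 14482 270 14752 s5u50 s5c51 rfl
theorem s5u52 : ∀ v, 1 ≤ v → v ≤ 15009 → fs5 v = true := slots_step fs5 14752 257 15009 s5u51 s5c52 rfl
theorem s5u53 : ∀ v, 1 ≤ v → v ≤ 15290 → fs5 v = true := slots_step fs5 15009 281 15290 s5u52 s5c53 rfl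
theorem s5u54 : ∀ v, 1 ≤ v → v ≤ 15583 → fs5 v = true := slots_step fs5 15290 293 15583 s5u53 s5c54 rfl
theorem s5u55 : ∀ v, 1 ≤ v → v ≤ 15841 → fs5 v = true := slots_step fs5 15583 258 15841 s5u54 s5c55 rfl
theorem s5u56 : ∀ v, 1 ≤ v → v ≤ 16146 → fs5 v = true := slots_step fs5 15841 305 16146 s5u55 s5c56 rfl
theorem s5u57 : ∀ v, 1 ≤ v → v ≤ 16472 → fs5 v = true := slots_step fs5 16146 326 16472 s5u56 s5c57 rfl
theorem s5u58 : ∀ v, 1 ≤ v → v ≤ 16751 → fs5 v = true := slots_step fs5 16472 279 16751 s5u57 s5c58 rfl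
theorem s5u59 : ∀ v, 1 ≤ v → v ≤ 17039 → fs5 v = true := slots_step fs5 16751 288 17039 s5u58 s5c59 rfl
theorem s5u60 : ∀ v, 1 ≤ v → v ≤ 17326 → fs5 v = true := slots_step fs5 17039 287 17326 s5u59 s5c60 rfl
theorem s5u61 : ∀ v, 1 ≤ v → v ≤ 17624 → fs5 v = true := slots_step fs5 17326 298 17624 s5u60 s5c61 rfl
theorem s5u62 : ∀ v, 1 ≤ v → v ≤ 17877 → fs5 v = true := slots_step fs5 17624 253 17877 s5u61 s5c62 rfl
theorem s5u63 : ∀ v, 1 ≤ v → v ≤ 18163 → fs5 v = true := slots_step fs5 17877 286 18163 s5u62 s5c63 rfl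
theorem s5u64 : ∀ v, 1 ≤ v → v ≤ 18464 → fs5 v = true := slots_step fs5 18163 301 18464 s5u63 s5c64 rfl
theorem s5u65 : ∀ v, 1 ≤ v → v ≤ 18726 → fs5 v = true := slots_step fs5 18464 262 18726 s5u64 s5c65 rfl
theorem s5u66 : ∀ v, 1 ≤ v → v ≤ 19048 → fs5 v = true := slots_step fs5 18726 322 19048 s5u65 s5c66 rfl
theorem s5u67 : ∀ v, 1 ≤ v → v ≤ 19313 → fs5 v = true := slots_step fs5 19048 265 19313 s5u66 s5c67 rfl
theorem s5u68 : ∀ v, 1 ≤ v → v ≤ 19573 → fs5 v = true := slots_step fs5 19313 260 19573 s5u67 s5c68 rfl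
theorem s5u69 : ∀ v, 1 ≤ v → v ≤ 19844 → fs5 v = true := slots_step fs5 19573 271 19844 s5u68 s5c69 rfl
theorem s5u70 : ∀ v, 1 ≤ v → v ≤ 20137 → fs5 v = true := slots_step fs5 19844 293 20137 s5u69 s5c70 rfl
theorem s5u71 : ∀ v, 1 ≤ v → v ≤ 20437 → fs5 v = true := slots_step fs5 20137 300 20437 s5u70 s5c71 rfl
theorem s5u72 : ∀ v, 1 ≤ v → v ≤ 20730 → fs5 v = true := slots_step fs5 20437 293 20730 s5u71 s5c72 rfl
theorem s5u73 : ∀ v, 1 ≤ v → v ≤ 21003 → fs5 v = true := slots_step fs5 20730 273 21003 s5u72 s5c73 rfl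
theorem s5u74 : ∀ v, 1 ≤ v → v ≤ 21333 → fs5 v = true := slots_step fs5 21003 330 21333 s5u73 s5c74 rfl
theorem s5u75 : ∀ v, 1 ≤ v → v ≤ 21668 → fs5 v = true := slots_step fs5 21333 335 21668 s5u74 s5c75 rfl
theorem s5u76 : ∀ v, 1 ≤ v → v ≤ 21991 → fs5 v = true := slots_step fs5 21668 323 21991 s5u75 s5c76 rfl
theorem s5u77 : ∀ v, 1 ≤ v → v ≤ 22256 → fs5 v = true := slots_step fs5 21991 265 22256 s5u76 s5c77 rfl
theorem s5u78 : ∀ v, 1 ≤ v → v ≤ 22584 → fs5 v = true := slots_step fs5 22256 328 22584 s5u77 s5c78 rfl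
theorem s5u79 : ∀ v, 1 ≤ v → v ≤ 22862 → fs5 v = true := slots_step fs5 22584 278 22862 s5u78 s5c79 rfl
theorem s5u80 : ∀ v, 1 ≤ v → v ≤ 23183 → fs5 v = true := slots_step fs5 22862 321 23183 s5u79 s5c80 rfl
theorem s5u81 : ∀ v, 1 ≤ v → v ≤ 23456 → fs5 v = true := slots_step fs5 23183 273 23456 s5u80 s5c81 rfl
theorem s5u82 : ∀ v, 1 ≤ v → v ≤ 23715 → fs5 v = true := slots_step fs5 23456 259 23715 s5u81 s5c82 rfl
theorem s5u83 : ∀ v, 1 ≤ v → v ≤ 24017 → fs5 v = true := slots_step fs5 23715 302 24017 s5u82 s5c83 rfl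
theorem s5u84 : ∀ v, 1 ≤ v → v ≤ 24326 → fs5 v = true := slots_step fs5 24017 309 24326 s5u83 s5c84 rfl
theorem s5u85 : ∀ v, 1 ≤ v → v ≤ 24625 → fs5 v = true := slots_step fs5 24326 299 24625 s5u84 s5c85 rfl
theorem s5u86 : ∀ v, 1 ≤ v → v ≤ 24896 → fs5 v = true := slots_step fs5 24625 271 24896 s5u85 s5c86 rfl
theorem s5u87 : ∀ v, 1 ≤ v → v ≤ 25252 → fs5 v = true := slots_step fs5 24896 356 25252 s5u86 s5c87 rfl
theorem s5u88 : ∀ v, 1 ≤ v → v ≤ 25516 → fs5 v = true := slots_step fs5 25252 264 25516 s5u87 s5c88 rfl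
theorem s5u89 : ∀ v, 1 ≤ v → v ≤ 25793 → fs5 v = true := slots_step fs5 25516 277 25793 s5u88 s5c89 rfl
theorem s5u90 : ∀ v, 1 ≤ v → v ≤ 26055 → fs5 v = true := slots_step fs5 25793 262 26055 s5u89 s5c90 rfl
theorem s5u91 : ∀ v, 1 ≤ v → v ≤ 26336 → fs5 v = true := slots_step fs5 26055 281 26336 s5u90 s5c91 rfl
theorem s5u92 : ∀ v, 1 ≤ v → v ≤ 26624 → fs5 v = true := slots_step fs5 26336 288 26624 s5u91 s5c92 rfl
theorem s5u93 : ∀ v, 1 ≤ v → v ≤ 26941 → fs5 v = true := slots_step fs5 26624 317 26941 s5u92 s5c93 rfl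
theorem s5u94 : ∀ v, 1 ≤ v → v ≤ 27252 → fs5 v = true := slots_step fs5 26941 311 27252 s5u93 s5c94 rfl
theorem s5u95 : ∀ v, 1 ≤ v → v ≤ 27576 → fs5 v = true := slots_step fs5 27252 324 27576 s5u94 s5c95 rfl
theorem s5u96 : ∀ v, 1 ≤ v → v ≤ 27857 → fs5 v = true := slots_step fs5 27576 281 27857 s5u95 s5c96 rfl
theorem s5u97 : ∀ v, 1 ≤ v → v ≤ 28156 → fs5 v = true := slots_step fs5 27857 299 28156 s5u96 s5c97 rfl
theorem s5u98 : ∀ v, 1 ≤ v → v ≤ 28488 → fs5 v = true := slots_step fs5 28156 332 28488 s5u97 s5c98 rfl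
theorem s5u99 : ∀ v, 1 ≤ v → v ≤ 28828 → fs5 v = true := slots_step fs5 28488 340 28828 s5u98 s5c99 rfl
theorem s5u100 : ∀ v, 1 ≤ v → v ≤ 29212 → fs5 v = true := slots_step fs5 28828 384 29212 s5u99 s5c100 rfl
theorem s5u101 : ∀ v, 1 ≤ v → v ≤ 29475 → fs5 v = true := slots_step fs5 29212 263 29475 s5u100 s5c101 rfl
theorem s5u102 : ∀ v, 1 ≤ v → v ≤ 29753 → fs5 v = true := slots_step fs5 29475 278 29753 s5u101 s5c102 rfl
theorem s5u103 : ∀ v, 1 ≤ v → v ≤ 30107 → fs5 v = true := slots_step fs5 29753 354 30107 s5u102 s5c103 rfl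
theorem s5u104 : ∀ v, 1 ≤ v → v ≤ 30435 → fs5 v = true := slots_step fs5 30107 328 30435 s5u103 s5c104 rfl
theorem s5u105 : ∀ v, 1 ≤ v → v ≤ 30772 → fs5 v = true := slots_step fs5 30435 337 30772 s5u104 s5c105 rfl
theorem s5u106 : ∀ v, 1 ≤ v → v ≤ 31067 → fs5 v = true := slots_step fs5 30772 295 31067 s5u105 s5c106 rfl
theorem s5u107 : ∀ v, 1 ≤ v → v ≤ 31338 → fs5 v = true := slots_step fs5 31067 271 31338 s5u106 s5c107 rfl
theorem s5u108 : ∀ v, 1 ≤ v → v ≤ 31604 → fs5 v = true := slots_step fs5 31338 266 31604 s5u107 s5c108 rfl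
theorem s5u109 : ∀ v, 1 ≤ v → v ≤ 31885 → fs5 v = true := slots_step fs5 31604 281 31885 s5u108 s5c109 rfl
theorem s5u110 : ∀ v, 1 ≤ v → v ≤ 32211 → fs5 v = true := slots_step fs5 31885 326 32211 s5u109 s5c110 rfl
theorem s5u111 : ∀ v, 1 ≤ v → v ≤ 32542 → fs5 v = true := slots_step fs5 32211 331 32542 s5u110 s5c111 rfl
theorem s5u112 : ∀ v, 1 ≤ v → v ≤ 32875 → fs5 v = true := slots_step fs5 32542 333 32875 s5u111 s5c112 rfl
theorem s5u113 : ∀ v, 1 ≤ v → v ≤ 33159 → fs5 v = true := slots_step fs5 32875 284 33159 s5u112 s5c113 rfl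
theorem s5u114 : ∀ v, 1 ≤ v → v ≤ 33455 → fs5 v = true := slots_step fs5 33159 296 33455 s5u113 s5c114 rfl
theorem s5u115 : ∀ v, 1 ≤ v → v ≤ 33811 → fs5 v = true := slots_step fs5 33455 356 33811 s5u114 s5c115 rfl
theorem s5u116 : ∀ v, 1 ≤ v → v ≤ 34117 → fs5 v = true := slots_step fs5 33811 306 34117 s5u115 s5c116 rfl
theorem s5u117 : ∀ v, 1 ≤ v → v ≤ 34401 → fs5 v = true := slots_step fs5 34117 284 34401 s5u116 s5c117 rfl
theorem s5u118 : ∀ v, 1 ≤ v → v ≤ 34688 → fs5 v = true := slots_step fs5 34401 287 34688 s5u117 s5c118 rfl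
theorem s5u119 : ∀ v, 1 ≤ v → v ≤ 34961 → fs5 v = true := slots_step fs5 34688 273 34961 s5u118 s5c119 rfl
theorem s5u120 : ∀ v, 1 ≤ v → v ≤ 35240 → fs5 v = true := slots_step fs5 34961 279 35240 s5u119 s5c120 rfl
theorem s5u121 : ∀ v, 1 ≤ v → v ≤ 35528 → fs5 v = true := slots_step fs5 35240 288 35528 s5u120 s5c121 rfl
theorem s5u122 : ∀ v, 1 ≤ v → v ≤ 35824 → fs5 v = true := slots_step fs5 35528 296 35824 s5u121 s5c122 rfl
theorem s5u123 : ∀ v, 1 ≤ v → v ≤ 36165 → fs5 v = true := slots_step fs5 35824 341 36165 s5u122 s5c123 rfl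
theorem s5u124 : ∀ v, 1 ≤ v → v ≤ 36485 → fs5 v = true := slots_step fs5 36165 320 36485 s5u123 s5c124 rfl
theorem s5u125 : ∀ v, 1 ≤ v → v ≤ 36798 → fs5 v = true := slots_step fs5 36485 313 36798 s5u124 s5c125 rfl
theorem s5u126 : ∀ v, 1 ≤ v → v ≤ 37143 → fs5 v = true := slots_step fs5 36798 345 37143 s5u125 s5c126 rfl
theorem s5u127 : ∀ v, 1 ≤ v → v ≤ 37436 → fs5 v = true := slots_step fs5 37143 293 37436 s5u126 s5c127 rfl
theorem s5u128 : ∀ v, 1 ≤ v → v ≤ 37732 → fs5 v = true := slots_step fs5 37436 296 37732 s5u127 s5c128 rfl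
theorem s5u129 : ∀ v, 1 ≤ v → v ≤ 38056 → fs5 v = true := slots_step fs5 37732 324 38056 s5u128 s5c129 rfl
theorem s5u130 : ∀ v, 1 ≤ v → v ≤ 38391 → fs5 v = true := slots_step fs5 38056 335 38391 s5u129 s5c130 rfl
theorem s5u131 : ∀ v, 1 ≤ v → v ≤ 38737 → fs5 v = true := slots_step fs5 38391 346 38737 s5u130 s5c131 rfl
theorem s5u132 : ∀ v, 1 ≤ v → v ≤ 39155 → fs5 v = true := slots_step fs5 38737 418 39155 s5u131 s5c132 rfl
theorem s5u133 : ∀ v, 1 ≤ v → v ≤ 39463 → fs5 v = true := slots_step fs5 39155 308 39463 s5u132 s5c133 rfl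
theorem s5u134 : ∀ v, 1 ≤ v → v ≤ 39739 → fs5 v = true := slots_step fs5 39463 276 39739 s5u133 s5c134 rfl
theorem s5u135 : ∀ v, 1 ≤ v → v ≤ 40029 → fs5 v = true := slots_step fs5 39739 290 40029 s5u134 s5c135 rfl
theorem s5u136 : ∀ v, 1 ≤ v → v ≤ 40389 → fs5 v = true := slots_step fs5 40029 360 40389 s5u135 s5c136 rfl
theorem s5u137 : ∀ v, 1 ≤ v → v ≤ 40770 → fs5 v = true := slots_step fs5 40389 381 40770 s5u136 s5c137 rfl
theorem s5u138 : ∀ v, 1 ≤ v → v ≤ 41088 → fs5 v = true := slots_step fs5 40770 318 41088 s5u137 s5c138 rfl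
theorem s5u139 : ∀ v, 1 ≤ v → v ≤ 41436 → fs5 v = true := slots_step fs5 41088 348 41436 s5u138 s5c139 rfl
theorem s5u140 : ∀ v, 1 ≤ v → v ≤ 41773 → fs5 v = true := slots_step fs5 41436 337 41773 s5u139 s5c140 rfl
theorem s5u141 : ∀ v, 1 ≤ v → v ≤ 42048 → fs5 v = true := slots_step fs5 41773 275 42048 s5u140 s5c141 rfl
theorem s5u142 : ∀ v, 1 ≤ v → v ≤ 42321 → fs5 v = true := slots_step fs5 42048 273 42321 s5u141 s5c142 rfl
theorem s5u143 : ∀ v, 1 ≤ v → v ≤ 42612 → fs5 v = true := slots_step fs5 42321 291 42612 s5u142 s5c143 rfl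
theorem s5u144 : ∀ v, 1 ≤ v → v ≤ 42893 → fs5 v = true := slots_step fs5 42612 281 42893 s5u143 s5c144 rfl
theorem s5u145 : ∀ v, 1 ≤ v → v ≤ 43183 → fs5 v = true := slots_step fs5 42893 290 43183 s5u144 s5c145 rfl
theorem s5u146 : ∀ v, 1 ≤ v → v ≤ 43534 → fs5 v = true := slots_step fs5 43183 351 43534 s5u145 s5c146 rfl
theorem s5u147 : ∀ v, 1 ≤ v → v ≤ 43880 → fs5 v = true := slots_step fs5 43534 346 43880 s5u146 s5c147 rfl
theorem s5u148 : ∀ v, 1 ≤ v → v ≤ 44228 → fs5 v = true := slots_step fs5 43880 348 44228 s5u147 s5c148 rfl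
theorem s5u149 : ∀ v, 1 ≤ v → v ≤ 44555 → fs5 v = true := slots_step fs5 44228 327 44555 s5u148 s5c149 rfl
theorem s5u150 : ∀ v, 1 ≤ v → v ≤ 44851 → fs5 v = true := slots_step fs5 44555 296 44851 s5u149 s5c150 rfl
theorem s5u151 : ∀ v, 1 ≤ v → v ≤ 45145 → fs5 v = true := slots_step fs5 44851 294 45145 s5u150 s5c151 rfl
theorem s5u152 : ∀ v, 1 ≤ v → v ≤ 45492 → fs5 v = true := slots_step fs5 45145 347 45492 s5u151 s5c152 rfl
theorem s5u153 : ∀ v, 1 ≤ v → v ≤ 45870 → fs5 v = true := slots_step fs5 45492 378 45870 s5u152 s5c153 rfl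
theorem s5u154 : ∀ v, 1 ≤ v → v ≤ 46170 → fs5 v = true := slots_step fs5 45870 300 46170 s5u153 s5c154 rfl
theorem s5u155 : ∀ v, 1 ≤ v → v ≤ 46467 → fs5 v = true := slots_step fs5 46170 297 46467 s5u154 s5c155 rfl
theorem s5u156 : ∀ v, 1 ≤ v → v ≤ 46771 → fs5 v = true := slots_step fs5 46467 304 46771 s5u155 s5c156 rfl
theorem s5u157 : ∀ v, 1 ≤ v → v ≤ 47049 → fs5 v = true := slots_step fs5 46771 278 47049 s5u156 s5c157 rfl
theorem s5u158 : ∀ v, 1 ≤ v → v ≤ 47348 → fs5 v = true := slots_step fs5 47049 299 47348 s5u157 s5c158 rfl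
theorem s5u159 : ∀ v, 1 ≤ v → v ≤ 47634 → fs5 v = true := slots_step fs5 47348 286 47634 s5u158 s5c159 rfl
theorem s5u160 : ∀ v, 1 ≤ v → v ≤ 47926 → fs5 v = true := slots_step fs5 47634 292 47926 s5u159 s5c160 rfl
theorem s5u161 : ∀ v, 1 ≤ v → v ≤ 48214 → fs5 v = true := slots_step fs5 47926 288 48214 s5u160 s5c161 rfl
theorem s5u162 : ∀ v, 1 ≤ v → v ≤ 48521 → fs5 v = true := slots_step fs5 48214 307 48521 s5u161 s5c162 rfl
theorem s5u163 : ∀ v, 1 ≤ v → v ≤ 48876 → fs5 v = true := slots_step fs5 48521 355 48876 s5u162 s5c163 rfl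
theorem s5u164 : ∀ v, 1 ≤ v → v ≤ 49209 → fs5 v = true := slots_step fs5 48876 333 49209 s5u163 s5c164 rfl
theorem s5u165 : ∀ v, 1 ≤ v → v ≤ 49530 → fs5 v = true := slots_step fs5 49209 321 49530 s5u164 s5c165 rfl
theorem s5u166 : ∀ v, 1 ≤ v → v ≤ 49851 → fs5 v = true := slots_step fs5 49530 321 49851 s5u165 s5c166 rfl
theorem s5u167 : ∀ v, 1 ≤ v → v ≤ 50232 → fs5 v = true := slots_step fs5 49851 381 50232 s5u166 s5c167 rfl
theorem s5u168 : ∀ v, 1 ≤ v → v ≤ 50528 → fs5 v = true := slots_step fs5 50232 296 50528 s5u167 s5c168 rfl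
theorem s5u169 : ∀ v, 1 ≤ v → v ≤ 50827 → fs5 v = true := slots_step fs5 50528 299 50827 s5u168 s5c169 rfl
theorem s5u170 : ∀ v, 1 ≤ v → v ≤ 51126 → fs5 v = true := slots_step fs5 50827 299 51126 s5u169 s5c170 rfl
theorem s5u171 : ∀ v, 1 ≤ v → v ≤ 51434 → fs5 v = true := slots_step fs5 51126 308 51434 s5u170 s5c171 rfl
theorem s5u172 : ∀ v, 1 ≤ v → v ≤ 51803 → fs5 v = true := slots_step fs5 51434 369 51803 s5u171 s5c172 rfl
theorem s5u173 : ∀ v, 1 ≤ v → v ≤ 52141 → fs5 v = true := slots_step fs5 51803 338 52141 s5u172 s5c173 rfl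
theorem s5u174 : ∀ v, 1 ≤ v → v ≤ 52520 → fs5 v = true := slots_step fs5 52141 379 52520 s5u173 s5c174 rfl
theorem s5u175 : ∀ v, 1 ≤ v → v ≤ 52967 → fs5 v = true := slots_step fs5 52520 447 52967 s5u174 s5c175 rfl
theorem s5u176 : ∀ v, 1 ≤ v → v ≤ 53285 → fs5 v = true := slots_step fs5 52967 318 53285 s5u175 s5c176 rfl
theorem s5u177 : ∀ v, 1 ≤ v → v ≤ 53570 → fs5 v = true := slots_step fs5 53285 285 53570 s5u176 s5c177 rfl
theorem s5u178 : ∀ v, 1 ≤ v → v ≤ 53867 → fs5 v = true := slots_step fs5 53570 297 53867 s5u177 s5c178 rfl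
theorem s5u179 : ∀ v, 1 ≤ v → v ≤ 54176 → fs5 v = true := slots_step fs5 53867 309 54176 s5u178 s5c179 rfl
theorem s5u180 : ∀ v, 1 ≤ v → v ≤ 54548 → fs5 v = true := slots_step fs5 54176 372 54548 s5u179 s5c180 rfl
theorem s5u181 : ∀ v, 1 ≤ v → v ≤ 54937 → fs5 v = true := slots_step fs5 54548 389 54937 s5u180 s5c181 rfl
theorem s5u182 : ∀ v, 1 ≤ v → v ≤ 55317 → fs5 v = true := slots_step fs5 54937 380 55317 s5u181 s5c182 rfl
theorem s5u183 : ∀ v, 1 ≤ v → v ≤ 55631 → fs5 v = true := slots_step fs5 55317 314 55631 s5u182 s5c183 rfl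
theorem s5u184 : ∀ v, 1 ≤ v → v ≤ 56001 → fs5 v = true := slots_step fs5 55631 370 56001 s5u183 s5c184 rfl
theorem s5u185 : ∀ v, 1 ≤ v → v ≤ 56371 → fs5 v = true := slots_step fs5 56001 370 56371 s5u184 s5c185 rfl
theorem s5u186 : ∀ v, 1 ≤ v → v ≤ 56641 → fs5 v = true := slots_step fs5 56371 270 56641 s5u185 s5c186 rfl
theorem s5u187 : ∀ v, 1 ≤ v → v ≤ 56935 → fs5 v = true := slots_step fs5 56641 294 56935 s5u186 s5c187 rfl
theorem s5u188 : ∀ v, 1 ≤ v → v ≤ 57213 → fs5 v = true := slots_step fs5 56935 278 57213 s5u187 s5c188 rfl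
theorem s5u189 : ∀ v, 1 ≤ v → v ≤ 57523 → fs5 v = true := slots_step fs5 57213 310 57523 s5u188 s5c189 rfl
theorem s5u190 : ∀ v, 1 ≤ v → v ≤ 57812 → fs5 v = true := slots_step fs5 57523 289 57812 s5u189 s5c190 rfl
theorem s5u191 : ∀ v, 1 ≤ v → v ≤ 58100 → fs5 v = true := slots_step fs5 57812 288 58100 s5u190 s5c191 rfl
theorem s5u192 : ∀ v, 1 ≤ v → v ≤ 58396 → fs5 v = true := slots_step fs5 58100 296 58396 s5u191 s5c192 rfl
theorem s5u193 : ∀ v, 1 ≤ v → v ≤ 58741 → fs5 v = true := slots_step fs5 58396 345 58741 s5u192 s5c193 rfl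
theorem s5u194 : ∀ v, 1 ≤ v → v ≤ 59107 → fs5 v = true := slots_step fs5 58741 366 59107 s5u193 s5c194 rfl
theorem s5u195 : ∀ v, 1 ≤ v → v ≤ 59443 → fs5 v = true := slots_step fs5 59107 336 59443 s5u194 s5c195 rfl
theorem s5u196 : ∀ v, 1 ≤ v → v ≤ 59803 → fs5 v = true := slots_step fs5 59443 360 59803 s5u195 s5c196 rfl
theorem s5u197 : ∀ v, 1 ≤ v → v ≤ 60173 → fs5 v = true := slots_step fs5 59803 370 60173 s5u196 s5c197 rfl
theorem s5u198 : ∀ v, 1 ≤ v → v ≤ 60447 → fs5 v = true := slots_step fs5 60173 274 60447 s5u197 s5c198 rfl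
theorem s5u199 : ∀ v, 1 ≤ v → v ≤ 60764 → fs5 v = true := slots_step fs5 60447 317 60764 s5u198 s5c199 rfl
theorem s5u200 : ∀ v, 1 ≤ v → v ≤ 61057 → fs5 v = true := slots_step fs5 60764 293 61057 s5u199 s5c200 rfl
theorem s5u201 : ∀ v, 1 ≤ v → v ≤ 61417 → fs5 v = true := slots_step fs5 61057 360 61417 s5u200 s5c201 rfl
theorem s5u202 : ∀ v, 1 ≤ v → v ≤ 61813 → fs5 v = true := slots_step fs5 61417 396 61813 s5u201 s5c202 rfl
theorem s5u203 : ∀ v, 1 ≤ v → v ≤ 62163 → fs5 v = true := slots_step fs5 61813 350 62163 s5u202 s5c203 rfl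
theorem s5u204 : ∀ v, 1 ≤ v → v ≤ 62479 → fs5 v = true := slots_step fs5 62163 316 62479 s5u203 s5c204 rfl
theorem s5u205 : ∀ v, 1 ≤ v → v ≤ 62766 → fs5 v = true := slots_step fs5 62479 287 62766 s5u204 s5c205 rfl
theorem s5u206 : ∀ v, 1 ≤ v → v ≤ 63066 → fs5 v = true := slots_step fs5 62766 300 63066 s5u205 s5c206 rfl
theorem s5u207 : ∀ v, 1 ≤ v → v ≤ 63368 → fs5 v = true := slots_step fs5 63066 302 63368 s5u206 s5c207 rfl
theorem s5u208 : ∀ v, 1 ≤ v → v ≤ 63653 → fs5 v = true := slots_step fs5 63368 285 63653 s5u207 s5c208 rfl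
theorem s5u209 : ∀ v, 1 ≤ v → v ≤ 63960 → fs5 v = true := slots_step fs5 63653 307 63960 s5u208 s5c209 rfl
theorem s5u210 : ∀ v, 1 ≤ v → v ≤ 64270 → fs5 v = true := slots_step fs5 63960 310 64270 s5u209 s5c210 rfl
theorem s5u211 : ∀ v, 1 ≤ v → v ≤ 64560 → fs5 v = true := slots_step fs5 64270 290 64560 s5u210 s5c211 rfl
theorem s5u212 : ∀ v, 1 ≤ v → v ≤ 64851 → fs5 v = true := slots_step fs5 64560 291 64851 s5u211 s5c212 rfl
theorem s5u213 : ∀ v, 1 ≤ v → v ≤ 65139 → fs5 v = true := slots_step fs5 64851 288 65139 s5u212 s5c213 rfl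
theorem s5u214 : ∀ v, 1 ≤ v → v ≤ 65437 → fs5 v = true := slots_step fs5 65139 298 65437 s5u213 s5c214 rfl
theorem s5u215 : ∀ v, 1 ≤ v → v ≤ 65756 → fs5 v = true := slots_step fs5 65437 319 65756 s5u214 s5c215 rfl
theorem s5u216 : ∀ v, 1 ≤ v → v ≤ 66106 → fs5 v = true := slots_step fs5 65756 350 66106 s5u215 s5c216 rfl
theorem s5u217 : ∀ v, 1 ≤ v → v ≤ 66472 → fs5 v = true := slots_step fs5 66106 366 66472 s5u216 s5c217 rfl
theorem s5u218 : ∀ v, 1 ≤ v → v ≤ 66791 → fs5 v = true := slots_step fs5 66472 319 66791 s5u217 s5c218 rfl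
theorem s5u219 : ∀ v, 1 ≤ v → v ≤ 67128 → fs5 v = true := slots_step fs5 66791 337 67128 s5u218 s5c219 rfl
theorem s5u220 : ∀ v, 1 ≤ v → v ≤ 67474 → fs5 v = true := slots_step fs5 67128 346 67474 s5u219 s5c220 rfl
theorem s5u221 : ∀ v, 1 ≤ v → v ≤ 67872 → fs5 v = true := slots_step fs5 67474 398 67872 s5u220 s5c221 rfl
theorem s5u222 : ∀ v, 1 ≤ v → v ≤ 68207 → fs5 v = true := slots_step fs5 67872 335 68207 s5u221 s5c222 rfl
theorem s5u223 : ∀ v, 1 ≤ v → v ≤ 68508 → fs5 v = true := slots_step fs5 68207 301 68508 s5u222 s5c223 rfl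
theorem s5u224 : ∀ v, 1 ≤ v → v ≤ 68818 → fs5 v = true := slots_step fs5 68508 310 68818 s5u223 s5c224 rfl
theorem s5u225 : ∀ v, 1 ≤ v → v ≤ 69114 → fs5 v = true := slots_step fs5 68818 296 69114 s5u224 s5c225 rfl
theorem s5u226 : ∀ v, 1 ≤ v → v ≤ 69410 → fs5 v = true := slots_step fs5 69114 296 69410 s5u225 s5c226 rfl
theorem s5u227 : ∀ v, 1 ≤ v → v ≤ 69768 → fs5 v = true := slots_step fs5 69410 358 69768 s5u226 s5c227 rfl
theorem s5u228 : ∀ v, 1 ≤ v → v ≤ 70135 → fs5 v = true := slots_step fs5 69768 367 70135 s5u227 s5c228 rfl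
theorem s5u229 : ∀ v, 1 ≤ v → v ≤ 70514 → fs5 v = true := slots_step fs5 70135 379 70514 s5u228 s5c229 rfl
theorem s5u230 : ∀ v, 1 ≤ v → v ≤ 70928 → fs5 v = true := slots_step fs5 70514 414 70928 s5u229 s5c230 rfl
theorem s5u231 : ∀ v, 1 ≤ v → v ≤ 71343 → fs5 v = true := slots_step fs5 70928 415 71343 s5u230 s5c231 rfl
theorem s5u232 : ∀ v, 1 ≤ v → v ≤ 71643 → fs5 v = true := slots_step fs5 71343 300 71643 s5u231 s5c232 rfl
theorem s5u233 : ∀ v, 1 ≤ v → v ≤ 71934 → fs5 v = true := slots_step fs5 71643 291 71934 s5u232 s5c233 rfl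
theorem s5u234 : ∀ v, 1 ≤ v → v ≤ 72251 → fs5 v = true := slots_step fs5 71934 317 72251 s5u233 s5c234 rfl
theorem s5u235 : ∀ v, 1 ≤ v → v ≤ 72559 → fs5 v = true := slots_step fs5 72251 308 72559 s5u234 s5c235 rfl
theorem s5u236 : ∀ v, 1 ≤ v → v ≤ 72875 → fs5 v = true := slots_step fs5 72559 316 72875 s5u235 s5c236 rfl
theorem s5u237 : ∀ v, 1 ≤ v → v ≤ 73262 → fs5 v = true := slots_step fs5 72875 387 73262 s5u236 s5c237 rfl
theorem s5u238 : ∀ v, 1 ≤ v → v ≤ 73662 → fs5 v = true := slots_step fs5 73262 400 73662 s5u237 s5c238 rfl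
theorem s5u239 : ∀ v, 1 ≤ v → v ≤ 74092 → fs5 v = true := slots_step fs5 73662 430 74092 s5u238 s5c239 rfl
theorem s5u240 : ∀ v, 1 ≤ v → v ≤ 74415 → fs5 v = true := slots_step fs5 74092 323 74415 s5u239 s5c240 rfl
theorem s5u241 : ∀ v, 1 ≤ v → v ≤ 74756 → fs5 v = true := slots_step fs5 74415 341 74756 s5u240 s5c241 rfl
theorem s5u242 : ∀ v, 1 ≤ v → v ≤ 75154 → fs5 v = true := slots_step fs5 74756 398 75154 s5u241 s5c242 rfl
theorem s5u243 : ∀ v, 1 ≤ v → v ≤ 75517 → fs5 v = true := slots_step fs5 75154 363 75517 s5u242 s5c243 rfl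
theorem s5u244 : ∀ v, 1 ≤ v → v ≤ 75793 → fs5 v = true := slots_step fs5 75517 276 75793 s5u243 s5c244 rfl
theorem s5u245 : ∀ v, 1 ≤ v → v ≤ 76074 → fs5 v = true := slots_step fs5 75793 281 76074 s5u244 s5c245 rfl
theorem s5u246 : ∀ v, 1 ≤ v → v ≤ 76375 → fs5 v = true := slots_step fs5 76074 301 76375 s5u245 s5c246 rfl
theorem s5u247 : ∀ v, 1 ≤ v → v ≤ 76649 → fs5 v = true := slots_step fs5 76375 274 76649 s5u246 s5c247 rfl
theorem s5u248 : ∀ v, 1 ≤ v → v ≤ 76971 → fs5 v = true := slots_step fs5 76649 322 76971 s5u247 s5c248 rfl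
theorem s5u249 : ∀ v, 1 ≤ v → v ≤ 77284 → fs5 v = true := slots_step fs5 76971 313 77284 s5u248 s5c249 rfl
theorem s5u250 : ∀ v, 1 ≤ v → v ≤ 77576 → fs5 v = true := slots_step fs5 77284 292 77576 s5u249 s5c250 rfl
theorem s5u251 : ∀ v, 1 ≤ v → v ≤ 77876 → fs5 v = true := slots_step fs5 77576 300 77876 s5u250 s5c251 rfl
theorem s5u252 : ∀ v, 1 ≤ v → v ≤ 78176 → fs5 v = true := slots_step fs5 77876 300 78176 s5u251 s5c252 rfl
theorem s5u253 : ∀ v, 1 ≤ v → v ≤ 78475 → fs5 v = true := slots_step fs5 78176 299 78475 s5u252 s5c253 rfl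
theorem s5u254 : ∀ v, 1 ≤ v → v ≤ 78838 → fs5 v = true := slots_step fs5 78475 363 78838 s5u253 s5c254 rfl
theorem s5u255 : ∀ v, 1 ≤ v → v ≤ 79228 → fs5 v = true := slots_step fs5 78838 390 79228 s5u254 s5c255 rfl
theorem s5u256 : ∀ v, 1 ≤ v → v ≤ 79575 → fs5 v = true := slots_step fs5 79228 347 79575 s5u255 s5c256 rfl
theorem s5u257 : ∀ v, 1 ≤ v → v ≤ 79939 → fs5 v = true := slots_step fs5 79575 364 79939 s5u256 s5c257 rfl
theorem s5u258 : ∀ v, 1 ≤ v → v ≤ 80352 → fs5 v = true := slots_step fs5 79939 413 80352 s5u257 s5c258 rfl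
theorem s5u259 : ∀ v, 1 ≤ v → v ≤ 80650 → fs5 v = true := slots_step fs5 80352 298 80650 s5u258 s5c259 rfl
theorem s5u260 : ∀ v, 1 ≤ v → v ≤ 80932 → fs5 v = true := slots_step fs5 80650 282 80932 s5u259 s5c260 rfl
theorem s5u261 : ∀ v, 1 ≤ v → v ≤ 81261 → fs5 v = true := slots_step fs5 80932 329 81261 s5u260 s5c261 rfl
theorem s5u262 : ∀ v, 1 ≤ v → v ≤ 81561 → fs5 v = true := slots_step fs5 81261 300 81561 s5u261 s5c262 rfl
theorem s5u263 : ∀ v, 1 ≤ v → v ≤ 81870 → fs5 v = true := slots_step fs5 81561 309 81870 s5u262 s5c263 rfl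
theorem s5u264 : ∀ v, 1 ≤ v → v ≤ 82266 → fs5 v = true := slots_step fs5 81870 396 82266 s5u263 s5c264 rfl
theorem s5u265 : ∀ v, 1 ≤ v → v ≤ 82683 → fs5 v = true := slots_step fs5 82266 417 82683 s5u264 s5c265 rfl
theorem s5u266 : ∀ v, 1 ≤ v → v ≤ 83014 → fs5 v = true := slots_step fs5 82683 331 83014 s5u265 s5c266 rfl
theorem s5u267 : ∀ v, 1 ≤ v → v ≤ 83327 → fs5 v = true := slots_step fs5 83014 313 83327 s5u266 s5c267 rfl
theorem s5u268 : ∀ v, 1 ≤ v → v ≤ 83622 → fs5 v = true := slots_step fs5 83327 295 83622 s5u267 s5c268 rfl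
theorem s5u269 : ∀ v, 1 ≤ v → v ≤ 83894 → fs5 v = true := slots_step fs5 83622 272 83894 s5u268 s5c269 rfl
theorem s5u270 : ∀ v, 1 ≤ v → v ≤ 84211 → fs5 v = true := slots_step fs5 83894 317 84211 s5u269 s5c270 rfl
theorem s5u271 : ∀ v, 1 ≤ v → v ≤ 84522 → fs5 v = true := slots_step fs5 84211 311 84522 s5u270 s5c271 rfl
theorem s5u272 : ∀ v, 1 ≤ v → v ≤ 84808 → fs5 v = true := slots_step fs5 84522 286 84808 s5u271 s5c272 rfl
theorem s5u273 : ∀ v, 1 ≤ v → v ≤ 85108 → fs5 v = true := slots_step fs5 84808 300 85108 s5u272 s5c273 rfl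
theorem s5u274 : ∀ v, 1 ≤ v → v ≤ 85422 → fs5 v = true := slots_step fs5 85108 314 85422 s5u273 s5c274 rfl
theorem s5u275 : ∀ v, 1 ≤ v → v ≤ 85739 → fs5 v = true := slots_step fs5 85422 317 85739 s5u274 s5c275 rfl
theorem s5u276 : ∀ v, 1 ≤ v → v ≤ 86028 → fs5 v = true := slots_step fs5 85739 289 86028 s5u275 s5c276 rfl
theorem s5u277 : ∀ v, 1 ≤ v → v ≤ 86321 → fs5 v = true := slots_step fs5 86028 293 86321 s5u276 s5c277 rfl
theorem s5u278 : ∀ v, 1 ≤ v → v ≤ 86612 → fs5 v = true := slots_step fs5 86321 291 86612 s5u277 s5c278 rfl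
theorem s5u279 : ∀ v, 1 ≤ v → v ≤ 86912 → fs5 v = true := slots_step fs5 86612 300 86912 s5u278 s5c279 rfl
theorem s5u280 : ∀ v, 1 ≤ v → v ≤ 87205 → fs5 v = true := slots_step fs5 86912 293 87205 s5u279 s5c280 rfl
theorem s5u281 : ∀ v, 1 ≤ v → v ≤ 87504 → fs5 v = true := slots_step fs5 87205 299 87504 s5u280 s5c281 rfl
theorem s5u282 : ∀ v, 1 ≤ v → v ≤ 87826 → fs5 v = true := slots_step fs5 87504 322 87826 s5u281 s5c282 rfl
theorem s5u283 : ∀ v, 1 ≤ v → v ≤ 88205 → fs5 v = true := slots_step fs5 87826 379 88205 s5u282 s5c283 rfl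
theorem s5u284 : ∀ v, 1 ≤ v → v ≤ 88530 → fs5 v = true := slots_step fs5 88205 325 88530 s5u283 s5c284 rfl
theorem s5u285 : ∀ v, 1 ≤ v → v ≤ 88908 → fs5 v = true := slots_step fs5 88530 378 88908 s5u284 s5c285 rfl
theorem s5u286 : ∀ v, 1 ≤ v → v ≤ 89243 → fs5 v = true := slots_step fs5 88908 335 89243 s5u285 s5c286 rfl
theorem s5u287 : ∀ v, 1 ≤ v → v ≤ 89571 → fs5 v = true := slots_step fs5 89243 328 89571 s5u286 s5c287 rfl
theorem s5u288 : ∀ v, 1 ≤ v → v ≤ 89939 → fs5 v = true := slots_step fs5 89571 368 89939 s5u287 s5c288 rfl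
theorem s5u289 : ∀ v, 1 ≤ v → v ≤ 90303 → fs5 v = true := slots_step fs5 89939 364 90303 s5u288 s5c289 rfl
theorem s5u290 : ∀ v, 1 ≤ v → v ≤ 90726 → fs5 v = true := slots_step fs5 90303 423 90726 s5u289 s5c290 rfl
theorem s5u291 : ∀ v, 1 ≤ v → v ≤ 91064 → fs5 v = true := slots_step fs5 90726 338 91064 s5u290 s5c291 rfl
theorem s5u292 : ∀ v, 1 ≤ v → v ≤ 91385 → fs5 v = true := slots_step fs5 91064 321 91385 s5u291 s5c292 rfl
theorem s5u293 : ∀ v, 1 ≤ v → v ≤ 91703 → fs5 v = true := slots_step fs5 91385 318 91703 s5u292 s5c293 rfl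
theorem s5u294 : ∀ v, 1 ≤ v → v ≤ 92017 → fs5 v = true := slots_step fs5 91703 314 92017 s5u293 s5c294 rfl
theorem s5u295 : ∀ v, 1 ≤ v → v ≤ 92344 → fs5 v = true := slots_step fs5 92017 327 92344 s5u294 s5c295 rfl
theorem s5u296 : ∀ v, 1 ≤ v → v ≤ 92668 → fs5 v = true := slots_step fs5 92344 324 92668 s5u295 s5c296 rfl
theorem s5u297 : ∀ v, 1 ≤ v → v ≤ 93058 → fs5 v = true := slots_step fs5 92668 390 93058 s5u296 s5c297 rfl
theorem s5u298 : ∀ v, 1 ≤ v → v ≤ 93473 → fs5 v = true := slots_step fs5 93058 415 93473 s5u297 s5c298 rfl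
theorem s5u299 : ∀ v, 1 ≤ v → v ≤ 93911 → fs5 v = true := slots_step fs5 93473 438 93911 s5u298 s5c299 rfl
theorem s5u300 : ∀ v, 1 ≤ v → v ≤ 94330 → fs5 v = true := slots_step fs5 93911 419 94330 s5u299 s5c300 rfl
theorem s5u301 : ∀ v, 1 ≤ v → v ≤ 94644 → fs5 v = true := slots_step fs5 94330 314 94644 s5u300 s5c301 rfl
theorem s5u302 : ∀ v, 1 ≤ v → v ≤ 94933 → fs5 v = true := slots_step fs5 94644 289 94933 s5u301 s5c302 rfl
theorem s5u303 : ∀ v, 1 ≤ v → v ≤ 95263 → fs5 v = true := slots_step fs5 94933 330 95263 s5u302 s5c303 rfl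
theorem s5u304 : ∀ v, 1 ≤ v → v ≤ 95580 → fs5 v = true := slots_step fs5 95263 317 95580 s5u303 s5c304 rfl
theorem s5u305 : ∀ v, 1 ≤ v → v ≤ 95897 → fs5 v = true := slots_step fs5 95580 317 95897 s5u304 s5c305 rfl
theorem s5u306 : ∀ v, 1 ≤ v → v ≤ 96199 → fs5 v = true := slots_step fs5 95897 302 96199 s5u305 s5c306 rfl
theorem s5u307 : ∀ v, 1 ≤ v → v ≤ 96592 → fs5 v = true := slots_step fs5 96199 393 96592 s5u306 s5c307 rfl
theorem s5u308 : ∀ v, 1 ≤ v → v ≤ 97008 → fs5 v = true := slots_step fs5 96592 416 97008 s5u307 s5c308 rfl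
theorem s5u309 : ∀ v, 1 ≤ v → v ≤ 97425 → fs5 v = true := slots_step fs5 97008 417 97425 s5u308 s5c309 rfl
theorem s5u310 : ∀ v, 1 ≤ v → v ≤ 97770 → fs5 v = true := slots_step fs5 97425 345 97770 s5u309 s5c310 rfl
theorem s5u311 : ∀ v, 1 ≤ v → v ≤ 98112 → fs5 v = true := slots_step fs5 97770 342 98112 s5u310 s5c311 rfl
theorem s5u312 : ∀ v, 1 ≤ v → v ≤ 98498 → fs5 v = true := slots_step fs5 98112 386 98498 s5u311 s5c312 rfl
theorem s5u313 : ∀ v, 1 ≤ v → v ≤ 98903 → fs5 v = true := slots_step fs5 98498 405 98903 s5u312 s5c313 rfl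
theorem s5u314 : ∀ v, 1 ≤ v → v ≤ 99181 → fs5 v = true := slots_step fs5 98903 278 99181 s5u313 s5c314 rfl
theorem s5u315 : ∀ v, 1 ≤ v → v ≤ 99461 → fs5 v = true := slots_step fs5 99181 280 99461 s5u314 s5c315 rfl
theorem s5u316 : ∀ v, 1 ≤ v → v ≤ 99753 → fs5 v = true := slots_step fs5 99461 292 99753 s5u315 s5c316 rfl
theorem s5u317 : ∀ v, 1 ≤ v → v ≤ 100066 → fs5 v = true := slots_step fs5 99753 313 100066 s5u316 s5c317 rfl
theorem s5u318 : ∀ v, 1 ≤ v → v ≤ 100338 → fs5 v = true := slots_step fs5 100066 272 100338 s5u317 s5c318 rfl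
theorem s5u319 : ∀ v, 1 ≤ v → v ≤ 100612 → fs5 v = true := slots_step fs5 100338 274 100612 s5u318 s5c319 rfl
theorem s5u320 : ∀ v, 1 ≤ v → v ≤ 100936 → fs5 v = true := slots_step fs5 100612 324 100936 s5u319 s5c320 rfl
theorem s5u321 : ∀ v, 1 ≤ v → v ≤ 101258 → fs5 v = true := slots_step fs5 100936 322 101258 s5u320 s5c321 rfl
theorem s5u322 : ∀ v, 1 ≤ v → v ≤ 101569 → fs5 v = true := slots_step fs5 101258 311 101569 s5u321 s5c322 rfl
theorem s5u323 : ∀ v, 1 ≤ v → v ≤ 101870 → fs5 v = true := slots_step fs5 101569 301 101870 s5u322 s5c323 rfl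
theorem s5u324 : ∀ v, 1 ≤ v → v ≤ 102151 → fs5 v = true := slots_step fs5 101870 281 102151 s5u323 s5c324 rfl
theorem s5u325 : ∀ v, 1 ≤ v → v ≤ 102452 → fs5 v = true := slots_step fs5 102151 301 102452 s5u324 s5c325 rfl
theorem s5u326 : ∀ v, 1 ≤ v → v ≤ 102767 → fs5 v = true := slots_step fs5 102452 315 102767 s5u325 s5c326 rfl
theorem s5u327 : ∀ v, 1 ≤ v → v ≤ 103075 → fs5 v = true := slots_step fs5 102767 308 103075 s5u326 s5c327 rfl
theorem s5u328 : ∀ v, 1 ≤ v → v ≤ 103430 → fs5 v = true := slots_step fs5 103075 355 103430 s5u327 s5c328 rfl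
theorem s5u329 : ∀ v, 1 ≤ v → v ≤ 103816 → fs5 v = true := slots_step fs5 103430 386 103816 s5u328 s5c329 rfl
theorem s5u330 : ∀ v, 1 ≤ v → v ≤ 104198 → fs5 v = true := slots_step fs5 103816 382 104198 s5u329 s5c330 rfl
theorem s5u331 : ∀ v, 1 ≤ v → v ≤ 104586 → fs5 v = true := slots_step fs5 104198 388 104586 s5u330 s5c331 rfl
theorem s5u332 : ∀ v, 1 ≤ v → v ≤ 105013 → fs5 v = true := slots_step fs5 104586 427 105013 s5u331 s5c332 rfl
theorem s5u333 : ∀ v, 1 ≤ v → v ≤ 105335 → fs5 v = true := slots_step fs5 105013 322 105335 s5u332 s5c333 rfl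
theorem s5u334 : ∀ v, 1 ≤ v → v ≤ 105625 → fs5 v = true := slots_step fs5 105335 290 105625 s5u333 s5c334 rfl
theorem s5u335 : ∀ v, 1 ≤ v → v ≤ 105928 → fs5 v = true := slots_step fs5 105625 303 105928 s5u334 s5c335 rfl
theorem s5u336 : ∀ v, 1 ≤ v → v ≤ 106278 → fs5 v = true := slots_step fs5 105928 350 106278 s5u335 s5c336 rfl
theorem s5u337 : ∀ v, 1 ≤ v → v ≤ 106603 → fs5 v = true := slots_step fs5 106278 325 106603 s5u336 s5c337 rfl
theorem s5u338 : ∀ v, 1 ≤ v → v ≤ 106963 → fs5 v = true := slots_step fs5 106603 360 106963 s5u337 s5c338 rfl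
theorem s5u339 : ∀ v, 1 ≤ v → v ≤ 107388 → fs5 v = true := slots_step fs5 106963 425 107388 s5u338 s5c339 rfl
theorem s5u340 : ∀ v, 1 ≤ v → v ≤ 107713 → fs5 v = true := slots_step fs5 107388 325 107713 s5u339 s5c340 rfl
theorem s5u341 : ∀ v, 1 ≤ v → v ≤ 107984 → fs5 v = true := slots_step fs5 107713 271 107984 s5u340 s5c341 rfl
theorem s5u342 : ∀ v, 1 ≤ v → v ≤ 108325 → fs5 v = true := slots_step fs5 107984 341 108325 s5u341 s5c342 rfl
theorem s5u343 : ∀ v, 1 ≤ v → v ≤ 108608 → fs5 v = true := slots_step fs5 108325 283 108608 s5u342 s5c343 rfl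
theorem s5u344 : ∀ v, 1 ≤ v → v ≤ 108887 → fs5 v = true := slots_step fs5 108608 279 108887 s5u343 s5c344 rfl
theorem s5u345 : ∀ v, 1 ≤ v → v ≤ 109182 → fs5 v = true := slots_step fs5 108887 295 109182 s5u344 s5c345 rfl
theorem s5u346 : ∀ v, 1 ≤ v → v ≤ 109523 → fs5 v = true := slots_step fs5 109182 341 109523 s5u345 s5c346 rfl
theorem s5u347 : ∀ v, 1 ≤ v → v ≤ 109833 → fs5 v = true := slots_step fs5 109523 310 109833 s5u346 s5c347 rfl
theorem s5u348 : ∀ v, 1 ≤ v → v ≤ 110112 → fs5 v = true := slots_step fs5 109833 279 110112 s5u347 s5c348 rfl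
theorem s5u349 : ∀ v, 1 ≤ v → v ≤ 110391 → fs5 v = true := slots_step fs5 110112 279 110391 s5u348 s5c349 rfl
theorem s5u350 : ∀ v, 1 ≤ v → v ≤ 110718 → fs5 v = true := slots_step fs5 110391 327 110718 s5u349 s5c350 rfl
theorem s5u351 : ∀ v, 1 ≤ v → v ≤ 111032 → fs5 v = true := slots_step fs5 110718 314 111032 s5u350 s5c351 rfl
theorem s5u352 : ∀ v, 1 ≤ v → v ≤ 111318 → fs5 v = true := slots_step fs5 111032 286 111318 s5u351 s5c352 rfl
theorem s5u353 : ∀ v, 1 ≤ v → v ≤ 111648 → fs5 v = true := slots_step fs5 111318 330 111648 s5u352 s5c353 rfl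
theorem s5u354 : ∀ v, 1 ≤ v → v ≤ 111944 → fs5 v = true := slots_step fs5 111648 296 111944 s5u353 s5c354 rfl
theorem s5u355 : ∀ v, 1 ≤ v → v ≤ 112233 → fs5 v = true := slots_step fs5 111944 289 112233 s5u354 s5c355 rfl
theorem s5u356 : ∀ v, 1 ≤ v → v ≤ 112533 → fs5 v = true := slots_step fs5 112233 300 112533 s5u355 s5c356 rfl
theorem s5u357 : ∀ v, 1 ≤ v → v ≤ 112814 → fs5 v = true := slots_step fs5 112533 281 112814 s5u356 s5c357 rfl
theorem s5u358 : ∀ v, 1 ≤ v → v ≤ 113121 → fs5 v = true := slots_step fs5 112814 307 113121 s5u357 s5c358 rfl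
theorem s5u359 : ∀ v, 1 ≤ v → v ≤ 113403 → fs5 v = true := slots_step fs5 113121 282 113403 s5u358 s5c359 rfl
theorem s5u360 : ∀ v, 1 ≤ v → v ≤ 113714 → fs5 v = true := slots_step fs5 113403 311 113714 s5u359 s5c360 rfl
theorem s5u361 : ∀ v, 1 ≤ v → v ≤ 114017 → fs5 v = true := slots_step fs5 113714 303 114017 s5u360 s5c361 rfl
theorem s5u362 : ∀ v, 1 ≤ v → v ≤ 114360 → fs5 v = true := slots_step fs5 114017 343 114360 s5u361 s5c362 rfl
theorem s5u363 : ∀ v, 1 ≤ v → v ≤ 114719 → fs5 v = true := slots_step fs5 114360 359 114719 s5u362 s5c363 rfl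
theorem s5u364 : ∀ v, 1 ≤ v → v ≤ 115077 → fs5 v = true := slots_step fs5 114719 358 115077 s5u363 s5c364 rfl
theorem s5u365 : ∀ v, 1 ≤ v → v ≤ 115459 → fs5 v = true := slots_step fs5 115077 382 115459 s5u364 s5c365 rfl
theorem s5u366 : ∀ v, 1 ≤ v → v ≤ 115801 → fs5 v = true := slots_step fs5 115459 342 115801 s5u365 s5c366 rfl
theorem s5u367 : ∀ v, 1 ≤ v → v ≤ 116134 → fs5 v = true := slots_step fs5 115801 333 116134 s5u366 s5c367 rfl
theorem s5u368 : ∀ v, 1 ≤ v → v ≤ 116518 → fs5 v = true := slots_step fs5 116134 384 116518 s5u367 s5c368 rfl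
theorem s5u369 : ∀ v, 1 ≤ v → v ≤ 116869 → fs5 v = true := slots_step fs5 116518 351 116869 s5u368 s5c369 rfl
theorem s5u370 : ∀ v, 1 ≤ v → v ≤ 117296 → fs5 v = true := slots_step fs5 116869 427 117296 s5u369 s5c370 rfl
theorem s5u371 : ∀ v, 1 ≤ v → v ≤ 117644 → fs5 v = true := slots_step fs5 117296 348 117644 s5u370 s5c371 rfl
theorem s5u372 : ∀ v, 1 ≤ v → v ≤ 117999 → fs5 v = true := slots_step fs5 117644 355 117999 s5u371 s5c372 rfl
theorem s5u373 : ∀ v, 1 ≤ v → v ≤ 118298 → fs5 v = true := slots_step fs5 117999 299 118298 s5u372 s5c373 rfl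
theorem s5u374 : ∀ v, 1 ≤ v → v ≤ 118650 → fs5 v = true := slots_step fs5 118298 352 118650 s5u373 s5c374 rfl
theorem s5u375 : ∀ v, 1 ≤ v → v ≤ 118953 → fs5 v = true := slots_step fs5 118650 303 118953 s5u374 s5c375 rfl
theorem s5u376 : ∀ v, 1 ≤ v → v ≤ 119281 → fs5 v = true := slots_step fs5 118953 328 119281 s5u375 s5c376 rfl
theorem s5u377 : ∀ v, 1 ≤ v → v ≤ 119650 → fs5 v = true := slots_step fs5 119281 369 119650 s5u376 s5c377 rfl
theorem s5u378 : ∀ v, 1 ≤ v → v ≤ 120078 → fs5 v = true := slots_step fs5 119650 428 120078 s5u377 s5c378 rfl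
theorem s5u379 : ∀ v, 1 ≤ v → v ≤ 120493 → fs5 v = true := slots_step fs5 120078 415 120493 s5u378 s5c379 rfl
theorem s5u380 : ∀ v, 1 ≤ v → v ≤ 120804 → fs5 v = true := slots_step fs5 120493 311 120804 s5u379 s5c380 rfl
theorem s5u381 : ∀ v, 1 ≤ v → v ≤ 121096 → fs5 v = true := slots_step fs5 120804 292 121096 s5u380 s5c381 rfl
theorem s5u382 : ∀ v, 1 ≤ v → v ≤ 121417 → fs5 v = true := slots_step fs5 121096 321 121417 s5u381 s5c382 rfl
theorem s5u383 : ∀ v, 1 ≤ v → v ≤ 121747 → fs5 v = true := slots_step fs5 121417 330 121747 s5u382 s5c383 rfl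
theorem s5u384 : ∀ v, 1 ≤ v → v ≤ 122047 → fs5 v = true := slots_step fs5 121747 300 122047 s5u383 s5c384 rfl
theorem s5u385 : ∀ v, 1 ≤ v → v ≤ 122355 → fs5 v = true := slots_step fs5 122047 308 122355 s5u384 s5c385 rfl
theorem s5u386 : ∀ v, 1 ≤ v → v ≤ 122678 → fs5 v = true := slots_step fs5 122355 323 122678 s5u385 s5c386 rfl
theorem s5u387 : ∀ v, 1 ≤ v → v ≤ 122997 → fs5 v = true := slots_step fs5 122678 319 122997 s5u386 s5c387 rfl
theorem s5u388 : ∀ v, 1 ≤ v → v ≤ 123429 → fs5 v = true := slots_step fs5 122997 432 123429 s5u387 s5c388 rfl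
theorem s5u389 : ∀ v, 1 ≤ v → v ≤ 123854 → fs5 v = true := slots_step fs5 123429 425 123854 s5u388 s5c389 rfl
theorem s5u390 : ∀ v, 1 ≤ v → v ≤ 124187 → fs5 v = true := slots_step fs5 123854 333 124187 s5u389 s5c390 rfl
theorem s5u391 : ∀ v, 1 ≤ v → v ≤ 124558 → fs5 v = true := slots_step fs5 124187 371 124558 s5u390 s5c391 rfl
theorem s5u392 : ∀ v, 1 ≤ v → v ≤ 124877 → fs5 v = true := slots_step fs5 124558 319 124877 s5u391 s5c392 rfl
theorem s5u393 : ∀ v, 1 ≤ v → v ≤ 125136 → fs5 v = true := slots_step fs5 124877 259 125136 s5u392 s5c393 rfl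
theorem s5u394 : ∀ v, 1 ≤ v → v ≤ 125401 → fs5 v = true := slots_step fs5 125136 265 125401 s5u393 s5c394 rfl
theorem s5u395 : ∀ v, 1 ≤ v → v ≤ 125668 → fs5 v = true := slots_step fs5 125401 267 125668 s5u394 s5c395 rfl
theorem s5u396 : ∀ v, 1 ≤ v → v ≤ 125925 → fs5 v = true := slots_step fs5 125668 257 125925 s5u395 s5c396 rfl
theorem s5u397 : ∀ v, 1 ≤ v → v ≤ 126191 → fs5 v = true := slots_step fs5 125925 266 126191 s5u396 s5c397 rfl
theorem s5u398 : ∀ v, 1 ≤ v → v ≤ 126458 → fs5 v = true := slots_step fs5 126191 267 126458 s5u397 s5c398 rfl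
theorem s5u399 : ∀ v, 1 ≤ v → v ≤ 126722 → fs5 v = true := slots_step fs5 126458 264 126722 s5u398 s5c399 rfl
theorem s5u400 : ∀ v, 1 ≤ v → v ≤ 126984 → fs5 v = true := slots_step fs5 126722 262 126984 s5u399 s5c400 rfl
theorem s5u401 : ∀ v, 1 ≤ v → v ≤ 127254 → fs5 v = true := slots_step fs5 126984 270 127254 s5u400 s5c401 rfl
theorem s5u402 : ∀ v, 1 ≤ v → v ≤ 127524 → fs5 v = true := slots_step fs5 127254 270 127524 s5u401 s5c402 rfl
theorem s5u403 : ∀ v, 1 ≤ v → v ≤ 127799 → fs5 v = true := slots_step fs5 127524 275 127799 s5u402 s5c403 rfl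
theorem s5u404 : ∀ v, 1 ≤ v → v ≤ 128076 → fs5 v = true := slots_step fs5 127799 277 128076 s5u403 s5c404 rfl
theorem s5u405 : ∀ v, 1 ≤ v → v ≤ 128333 → fs5 v = true := slots_step fs5 128076 257 128333 s5u404 s5c405 rfl
theorem s5u406 : ∀ v, 1 ≤ v → v ≤ 128604 → fs5 v = true := slots_step fs5 128333 271 128604 s5u405 s5c406 rfl
theorem s5u407 : ∀ v, 1 ≤ v → v ≤ 128862 → fs5 v = true := slots_step fs5 128604 258 128862 s5u406 s5c407 rfl
theorem s5u408 : ∀ v, 1 ≤ v → v ≤ 129142 → fs5 v = true := slots_step fs5 128862 280 129142 s5u407 s5c408 rfl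
theorem s5u409 : ∀ v, 1 ≤ v → v ≤ 129395 → fs5 v = true := slots_step fs5 129142 253 129395 s5u408 s5c409 rfl
theorem s5u410 : ∀ v, 1 ≤ v → v ≤ 129666 → fs5 v = true := slots_step fs5 129395 271 129666 s5u409 s5c410 rfl
theorem s5u411 : ∀ v, 1 ≤ v → v ≤ 129917 → fs5 v = true := slots_step fs5 129666 251 129917 s5u410 s5c411 rfl
theorem s5u412 : ∀ v, 1 ≤ v → v ≤ 130170 → fs5 v = true := slots_step fs5 129917 253 130170 s5u411 s5c412 rfl
theorem s5u413 : ∀ v, 1 ≤ v → v ≤ 130434 → fs5 v = true := slots_step fs5 130170 264 130434 s5u412 s5c413 rfl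
theorem s5u414 : ∀ v, 1 ≤ v → v ≤ 130705 → fs5 v = true := slots_step fs5 130434 271 130705 s5u413 s5c414 rfl
theorem s5u415 : ∀ v, 1 ≤ v → v ≤ 130969 → fs5 v = true := slots_step fs5 130705 264 130969 s5u414 s5c415 rfl
theorem s5u416 : ∀ v, 1 ≤ v → v ≤ 131243 → fs5 v = true := slots_step fs5 130969 274 131243 s5u415 s5c416 rfl
theorem s5u417 : ∀ v, 1 ≤ v → v ≤ 131514 → fs5 v = true := slots_step fs5 131243 271 131514 s5u416 s5c417 rfl
theorem s5u418 : ∀ v, 1 ≤ v → v ≤ 131781 → fs5 v = true := slots_step fs5 131514 267 131781 s5u417 s5c418 rfl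
theorem s5u419 : ∀ v, 1 ≤ v → v ≤ 132050 → fs5 v = true := slots_step fs5 131781 269 132050 s5u418 s5c419 rfl
theorem s5u420 : ∀ v, 1 ≤ v → v ≤ 132310 → fs5 v = true := slots_step fs5 132050 260 132310 s5u419 s5c420 rfl
theorem s5u421 : ∀ v, 1 ≤ v → v ≤ 132578 → fs5 v = true := slots_step fs5 132310 268 132578 s5u420 s5c421 rfl
theorem s5u422 : ∀ v, 1 ≤ v → v ≤ 132851 → fs5 v = true := slots_step fs5 132578 273 132851 s5u421 s5c422 rfl
theorem s5u423 : ∀ v, 1 ≤ v → v ≤ 133129 → fs5 v = true := slots_step fs5 132851 278 133129 s5u422 s5c423 rfl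
theorem s5u424 : ∀ v, 1 ≤ v → v ≤ 133396 → fs5 v = true := slots_step fs5 133129 267 133396 s5u423 s5c424 rfl
theorem s5u425 : ∀ v, 1 ≤ v → v ≤ 133658 → fs5 v = true := slots_step fs5 133396 262 133658 s5u424 s5c425 rfl
theorem s5u426 : ∀ v, 1 ≤ v → v ≤ 133931 → fs5 v = true := slots_step fs5 133658 273 133931 s5u425 s5c426 rfl
theorem s5u427 : ∀ v, 1 ≤ v → v ≤ 134201 → fs5 v = true := slots_step fs5 133931 270 134201 s5u426 s5c427 rfl
theorem s5u428 : ∀ v, 1 ≤ v → v ≤ 134479 → fs5 v = true := slots_step fs5 134201 278 134479 s5u427 s5c428 rfl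
theorem s5u429 : ∀ v, 1 ≤ v → v ≤ 134756 → fs5 v = true := slots_step fs5 134479 277 134756 s5u428 s5c429 rfl
theorem s5u430 : ∀ v, 1 ≤ v → v ≤ 135033 → fs5 v = true := slots_step fs5 134756 277 135033 s5u429 s5c430 rfl
theorem s5u431 : ∀ v, 1 ≤ v → v ≤ 135313 → fs5 v = true := slots_step fs5 135033 280 135313 s5u430 s5c431 rfl
theorem s5u432 : ∀ v, 1 ≤ v → v ≤ 135586 → fs5 v = true := slots_step fs5 135313 273 135586 s5u431 s5c432 rfl
theorem s5u433 : ∀ v, 1 ≤ v → v ≤ 135863 → fs5 v = true := slots_step fs5 135586 277 135863 s5u432 s5c433 rfl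
theorem s5u434 : ∀ v, 1 ≤ v → v ≤ 136134 → fs5 v = true := slots_step fs5 135863 271 136134 s5u433 s5c434 rfl
theorem s5u435 : ∀ v, 1 ≤ v → v ≤ 136410 → fs5 v = true := slots_step fs5 136134 276 136410 s5u434 s5c435 rfl
theorem s5u436 : ∀ v, 1 ≤ v → v ≤ 136680 → fs5 v = true := slots_step fs5 136410 270 136680 s5u435 s5c436 rfl
theorem s5u437 : ∀ v, 1 ≤ v → v ≤ 136972 → fs5 v = true := slots_step fs5 136680 292 136972 s5u436 s5c437 rfl
theorem s5u438 : ∀ v, 1 ≤ v → v ≤ 137257 → fs5 v = true := slots_step fs5 136972 285 137257 s5u437 s5c438 rfl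
theorem s5u439 : ∀ v, 1 ≤ v → v ≤ 137522 → fs5 v = true := slots_step fs5 137257 265 137522 s5u438 s5c439 rfl
theorem s5u440 : ∀ v, 1 ≤ v → v ≤ 137797 → fs5 v = true := slots_step fs5 137522 275 137797 s5u439 s5c440 rfl
theorem s5u441 : ∀ v, 1 ≤ v → v ≤ 138080 → fs5 v = true := slots_step fs5 137797 283 138080 s5u440 s5c441 rfl
theorem s5u442 : ∀ v, 1 ≤ v → v ≤ 138356 → fs5 v = true := slots_step fs5 138080 276 138356 s5u441 s5c442 rfl
theorem s5u443 : ∀ v, 1 ≤ v → v ≤ 138629 → fs5 v = true := slots_step fs5 138356 273 138629 s5u442 s5c443 rfl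
theorem s5u444 : ∀ v, 1 ≤ v → v ≤ 138905 → fs5 v = true := slots_step fs5 138629 276 138905 s5u443 s5c444 rfl
theorem s5u445 : ∀ v, 1 ≤ v → v ≤ 139190 → fs5 v = true := slots_step fs5 138905 285 139190 s5u444 s5c445 rfl
theorem s5u446 : ∀ v, 1 ≤ v → v ≤ 139431 → fs5 v = true := slots_step fs5 139190 241 139431 s5u445 s5c446 rfl
theorem s5u447 : ∀ v, 1 ≤ v → v ≤ 139694 → fs5 v = true := slots_step fs5 139431 263 139694 s5u446 s5c447 rfl
theorem s5u448 : ∀ v, 1 ≤ v → v ≤ 139953 → fs5 v = true := slots_step fs5 139694 259 139953 s5u447 s5c448 rfl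
theorem s5u449 : ∀ v, 1 ≤ v → v ≤ 140206 → fs5 v = true := slots_step fs5 139953 253 140206 s5u448 s5c449 rfl
theorem s5u450 : ∀ v, 1 ≤ v → v ≤ 140468 → fs5 v = true := slots_step fs5 140206 262 140468 s5u449 s5c450 rfl
theorem s5u451 : ∀ v, 1 ≤ v → v ≤ 140728 → fs5 v = true := slots_step fs5 140468 260 140728 s5u450 s5c451 rfl
theorem s5u452 : ∀ v, 1 ≤ v → v ≤ 140987 → fs5 v = true := slots_step fs5 140728 259 140987 s5u451 s5c452 rfl
theorem s5u453 : ∀ v, 1 ≤ v → v ≤ 141239 → fs5 v = true := slots_step fs5 140987 252 141239 s5u452 s5c453 rfl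
theorem s5u454 : ∀ v, 1 ≤ v → v ≤ 141503 → fs5 v = true := slots_step fs5 141239 264 141503 s5u453 s5c454 rfl
theorem s5u455 : ∀ v, 1 ≤ v → v ≤ 141762 → fs5 v = true := slots_step fs5 141503 259 141762 s5u454 s5c455 rfl
theorem s5u456 : ∀ v, 1 ≤ v → v ≤ 142020 → fs5 v = true := slots_step fs5 141762 258 142020 s5u455 s5c456 rfl
theorem s5u457 : ∀ v, 1 ≤ v → v ≤ 142295 → fs5 v = true := slots_step fs5 142020 275 142295 s5u456 s5c457 rfl
theorem s5u458 : ∀ v, 1 ≤ v → v ≤ 142545 → fs5 v = true := slots_step fs5 142295 250 142545 s5u457 s5c458 rfl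
theorem s5u459 : ∀ v, 1 ≤ v → v ≤ 142802 → fs5 v = true := slots_step fs5 142545 257 142802 s5u458 s5c459 rfl
theorem s5u460 : ∀ v, 1 ≤ v → v ≤ 143067 → fs5 v = true := slots_step fs5 142802 265 143067 s5u459 s5c460 rfl
theorem s5u461 : ∀ v, 1 ≤ v → v ≤ 143327 → fs5 v = true := slots_step fs5 143067 260 143327 s5u460 s5c461 rfl
theorem s5u462 : ∀ v, 1 ≤ v → v ≤ 143588 → fs5 v = true := slots_step fs5 143327 261 143588 s5u461 s5c462 rfl
theorem s5u463 : ∀ v, 1 ≤ v → v ≤ 143847 → fs5 v = true := slots_step fs5 143588 259 143847 s5u462 s5c463 rfl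
theorem s5u464 : ∀ v, 1 ≤ v → v ≤ 144114 → fs5 v = true := slots_step fs5 143847 267 144114 s5u463 s5c464 rfl
theorem s5u465 : ∀ v, 1 ≤ v → v ≤ 144379 → fs5 v = true := slots_step fs5 144114 265 144379 s5u464 s5c465 rfl
theorem s5u466 : ∀ v, 1 ≤ v → v ≤ 144639 → fs5 v = true := slots_step fs5 144379 260 144639 s5u465 s5c466 rfl
theorem s5u467 : ∀ v, 1 ≤ v → v ≤ 144902 → fs5 v = true := slots_step fs5 144639 263 144902 s5u466 s5c467 rfl
theorem s5u468 : ∀ v, 1 ≤ v → v ≤ 145164 → fs5 v = true := slots_step fs5 144902 262 145164 s5u467 s5c468 rfl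
theorem s5u469 : ∀ v, 1 ≤ v → v ≤ 145408 → fs5 v = true := slots_step fs5 145164 244 145408 s5u468 s5c469 rfl
theorem s5u470 : ∀ v, 1 ≤ v → v ≤ 145675 → fs5 v = true := slots_step fs5 145408 267 145675 s5u469 s5c470 rfl
theorem s5u471 : ∀ v, 1 ≤ v → v ≤ 145948 → fs5 v = true := slots_step fs5 145675 273 145948 s5u470 s5c471 rfl
theorem s5u472 : ∀ v, 1 ≤ v → v ≤ 146196 → fs5 v = true := slots_step fs5 145948 248 146196 s5u471 s5c472 rfl
theorem s5u473 : ∀ v, 1 ≤ v → v ≤ 146475 → fs5 v = true := slots_step fs5 146196 279 146475 s5u472 s5c473 rfl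
theorem s5u474 : ∀ v, 1 ≤ v → v ≤ 146743 → fs5 v = true := slots_step fs5 146475 268 146743 s5u473 s5c474 rfl
theorem s5u475 : ∀ v, 1 ≤ v → v ≤ 147012 → fs5 v = true := slots_step fs5 146743 269 147012 s5u474 s5c475 rfl
theorem s5u476 : ∀ v, 1 ≤ v → v ≤ 147271 → fs5 v = true := slots_step fs5 147012 259 147271 s5u475 s5c476 rfl
theorem s5u477 : ∀ v, 1 ≤ v → v ≤ 147526 → fs5 v = true := slots_step fs5 147271 255 147526 s5u476 s5c477 rfl
theorem s5u478 : ∀ v, 1 ≤ v → v ≤ 147801 → fs5 v = true := slots_step fs5 147526 275 147801 s5u477 s5c478 rfl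
theorem s5u479 : ∀ v, 1 ≤ v → v ≤ 148069 → fs5 v = true := slots_step fs5 147801 268 148069 s5u478 s5c479 rfl
theorem s5u480 : ∀ v, 1 ≤ v → v ≤ 148342 → fs5 v = true := slots_step fs5 148069 273 148342 s5u479 s5c480 rfl
theorem s5u481 : ∀ v, 1 ≤ v → v ≤ 148615 → fs5 v = true := slots_step fs5 148342 273 148615 s5u480 s5c481 rfl
theorem s5u482 : ∀ v, 1 ≤ v → v ≤ 148886 → fs5 v = true := slots_step fs5 148615 271 148886 s5u481 s5c482 rfl
theorem s5u483 : ∀ v, 1 ≤ v → v ≤ 149163 → fs5 v = true := slots_step fs5 148886 277 149163 s5u482 s5c483 rfl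
theorem s5u484 : ∀ v, 1 ≤ v → v ≤ 149439 → fs5 v = true := slots_step fs5 149163 276 149439 s5u483 s5c484 rfl
theorem s5u485 : ∀ v, 1 ≤ v → v ≤ 149703 → fs5 v = true := slots_step fs5 149439 264 149703 s5u484 s5c485 rfl
theorem s5u486 : ∀ v, 1 ≤ v → v ≤ 149973 → fs5 v = true := slots_step fs5 149703 270 149973 s5u485 s5c486 rfl
theorem s5u487 : ∀ v, 1 ≤ v → v ≤ 150243 → fs5 v = true := slots_step fs5 149973 270 150243 s5u486 s5c487 rfl
theorem s5u488 : ∀ v, 1 ≤ v → v ≤ 150516 → fs5 v = true := slots_step fs5 150243 273 150516 s5u487 s5c488 rfl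
theorem s5u489 : ∀ v, 1 ≤ v → v ≤ 150791 → fs5 v = true := slots_step fs5 150516 275 150791 s5u488 s5c489 rfl
theorem s5u490 : ∀ v, 1 ≤ v → v ≤ 151066 → fs5 v = true := slots_step fs5 150791 275 151066 s5u489 s5c490 rfl
theorem s5u491 : ∀ v, 1 ≤ v → v ≤ 151327 → fs5 v = true := slots_step fs5 151066 261 151327 s5u490 s5c491 rfl
theorem s5u492 : ∀ v, 1 ≤ v → v ≤ 151598 → fs5 v = true := slots_step fs5 151327 271 151598 s5u491 s5c492 rfl
theorem s5u493 : ∀ v, 1 ≤ v → v ≤ 151867 → fs5 v = true := slots_step fs5 151598 269 151867 s5u492 s5c493 rfl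
theorem s5u494 : ∀ v, 1 ≤ v → v ≤ 152148 → fs5 v = true := slots_step fs5 151867 281 152148 s5u493 s5c494 rfl
theorem s5u495 : ∀ v, 1 ≤ v → v ≤ 152424 → fs5 v = true := slots_step fs5 152148 276 152424 s5u494 s5c495 rfl
theorem s5u496 : ∀ v, 1 ≤ v → v ≤ 152695 → fs5 v = true := slots_step fs5 152424 271 152695 s5u495 s5c496 rfl
theorem s5u497 : ∀ v, 1 ≤ v → v ≤ 152972 → fs5 v = true := slots_step fs5 152695 277 152972 s5u496 s5c497 rfl
theorem s5u498 : ∀ v, 1 ≤ v → v ≤ 153239 → fs5 v = true := slots_step fs5 152972 267 153239 s5u497 s5c498 rfl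
theorem s5u499 : ∀ v, 1 ≤ v → v ≤ 153521 → fs5 v = true := slots_step fs5 153239 282 153521 s5u498 s5c499 rfl
theorem s5u500 : ∀ v, 1 ≤ v → v ≤ 153799 → fs5 v = true := slots_step fs5 153521 278 153799 s5u499 s5c500 rfl
theorem s5u501 : ∀ v, 1 ≤ v → v ≤ 154070 → fs5 v = true := slots_step fs5 153799 271 154070 s5u500 s5c501 rfl
theorem s5u502 : ∀ v, 1 ≤ v → v ≤ 154349 → fs5 v = true := slots_step fs5 154070 279 154349 s5u501 s5c502 rfl
theorem s5u503 : ∀ v, 1 ≤ v → v ≤ 154632 → fs5 v = true := slots_step fs5 154349 283 154632 s5u502 s5c503 rfl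
theorem s5u504 : ∀ v, 1 ≤ v → v ≤ 154914 → fs5 v = true := slots_step fs5 154632 282 154914 s5u503 s5c504 rfl
theorem s5u505 : ∀ v, 1 ≤ v → v ≤ 155197 → fs5 v = true := slots_step fs5 154914 283 155197 s5u504 s5c505 rfl
theorem s5u506 : ∀ v, 1 ≤ v → v ≤ 155483 → fs5 v = true := slots_step fs5 155197 286 155483 s5u505 s5c506 rfl
theorem s5u507 : ∀ v, 1 ≤ v → v ≤ 155761 → fs5 v = true := slots_step fs5 155483 278 155761 s5u506 s5c507 rfl
theorem s5u508 : ∀ v, 1 ≤ v → v ≤ 156046 → fs5 v = true := slots_step fs5 155761 285 156046 s5u507 s5c508 rfl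
theorem s5u509 : ∀ v, 1 ≤ v → v ≤ 156325 → fs5 v = true := slots_step fs5 156046 279 156325 s5u508 s5c509 rfl
theorem s5u510 : ∀ v, 1 ≤ v → v ≤ 156607 → fs5 v = true := slots_step fs5 156325 282 156607 s5u509 s5c510 rfl
theorem s5u511 : ∀ v, 1 ≤ v → v ≤ 156880 → fs5 v = true := slots_step fs5 156607 273 156880 s5u510 s5c511 rfl
theorem s5u512 : ∀ v, 1 ≤ v → v ≤ 157177 → fs5 v = true := slots_step fs5 156880 297 157177 s5u511 s5c512 rfl
theorem s5u513 : ∀ v, 1 ≤ v → v ≤ 157444 → fs5 v = true := slots_step fs5 157177 267 157444 s5u512 s5c513 rfl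
theorem s5u514 : ∀ v, 1 ≤ v → v ≤ 157695 → fs5 v = true := slots_step fs5 157444 251 157695 s5u513 s5c514 rfl
theorem s5u515 : ∀ v, 1 ≤ v → v ≤ 157942 → fs5 v = true := slots_step fs5 157695 247 157942 s5u514 s5c515 rfl
theorem s5u516 : ∀ v, 1 ≤ v → v ≤ 158194 → fs5 v = true := slots_step fs5 157942 252 158194 s5u515 s5c516 rfl
theorem s5u517 : ∀ v, 1 ≤ v → v ≤ 158460 → fs5 v = true := slots_step fs5 158194 266 158460 s5u516 s5c517 rfl
theorem s5u518 : ∀ v, 1 ≤ v → v ≤ 158722 → fs5 v = true := slots_step fs5 158460 262 158722 s5u517 s5c518 rfl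
theorem s5u519 : ∀ v, 1 ≤ v → v ≤ 158980 → fs5 v = true := slots_step fs5 158722 258 158980 s5u518 s5c519 rfl
theorem s5u520 : ∀ v, 1 ≤ v → v ≤ 159245 → fs5 v = true := slots_step fs5 158980 265 159245 s5u519 s5c520 rfl
theorem s5u521 : ∀ v, 1 ≤ v → v ≤ 159494 → fs5 v = true := slots_step fs5 159245 249 159494 s5u520 s5c521 rfl
theorem s5u522 : ∀ v, 1 ≤ v → v ≤ 159758 → fs5 v = true := slots_step fs5 159494 264 159758 s5u521 s5c522 rfl
theorem s5u523 : ∀ v, 1 ≤ v → v ≤ 160007 → fs5 v = true := slots_step fs5 159758 249 160007 s5u522 s5c523 rfl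
theorem s5u524 : ∀ v, 1 ≤ v → v ≤ 160271 → fs5 v = true := slots_step fs5 160007 264 160271 s5u523 s5c524 rfl
theorem s5u525 : ∀ v, 1 ≤ v → v ≤ 160520 → fs5 v = true := slots_step fs5 160271 249 160520 s5u524 s5c525 rfl
theorem s5u526 : ∀ v, 1 ≤ v → v ≤ 160787 → fs5 v = true := slots_step fs5 160520 267 160787 s5u525 s5c526 rfl
theorem s5u527 : ∀ v, 1 ≤ v → v ≤ 161041 → fs5 v = true := slots_step fs5 160787 254 161041 s5u526 s5c527 rfl
theorem s5u528 : ∀ v, 1 ≤ v → v ≤ 161291 → fs5 v = true := slots_step fs5 161041 250 161291 s5u527 s5c528 rfl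
theorem s5u529 : ∀ v, 1 ≤ v → v ≤ 161554 → fs5 v = true := slots_step fs5 161291 263 161554 s5u528 s5c529 rfl
theorem s5u530 : ∀ v, 1 ≤ v → v ≤ 161810 → fs5 v = true := slots_step fs5 161554 256 161810 s5u529 s5c530 rfl
theorem s5u531 : ∀ v, 1 ≤ v → v ≤ 162073 → fs5 v = true := slots_step fs5 161810 263 162073 s5u530 s5c531 rfl
theorem s5u532 : ∀ v, 1 ≤ v → v ≤ 162340 → fs5 v = true := slots_step fs5 162073 267 162340 s5u531 s5c532 rfl
theorem s5u533 : ∀ v, 1 ≤ v → v ≤ 162596 → fs5 v = true := slots_step fs5 162340 256 162596 s5u532 s5c533 rfl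
theorem s5u534 : ∀ v, 1 ≤ v → v ≤ 162848 → fs5 v = true := slots_step fs5 162596 252 162848 s5u533 s5c534 rfl
theorem s5u535 : ∀ v, 1 ≤ v → v ≤ 163115 → fs5 v = true := slots_step fs5 162848 267 163115 s5u534 s5c535 rfl
theorem s5u536 : ∀ v, 1 ≤ v → v ≤ 163369 → fs5 v = true := slots_step fs5 163115 254 163369 s5u535 s5c536 rfl
theorem s5u537 : ∀ v, 1 ≤ v → v ≤ 163633 → fs5 v = true := slots_step fs5 163369 264 163633 s5u536 s5c537 rfl
theorem s5u538 : ∀ v, 1 ≤ v → v ≤ 163900 → fs5 v = true := slots_step fs5 163633 267 163900 s5u537 s5c538 rfl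
theorem s5u539 : ∀ v, 1 ≤ v → v ≤ 164160 → fs5 v = true := slots_step fs5 163900 260 164160 s5u538 s5c539 rfl
theorem s5u540 : ∀ v, 1 ≤ v → v ≤ 164417 → fs5 v = true := slots_step fs5 164160 257 164417 s5u539 s5c540 rfl
theorem s5u541 : ∀ v, 1 ≤ v → v ≤ 164697 → fs5 v = true := slots_step fs5 164417 280 164697 s5u540 s5c541 rfl
theorem s5u542 : ∀ v, 1 ≤ v → v ≤ 164975 → fs5 v = true := slots_step fs5 164697 278 164975 s5u541 s5c542 rfl
theorem s5u543 : ∀ v, 1 ≤ v → v ≤ 165236 → fs5 v = true := slots_step fs5 164975 261 165236 s5u542 s5c543 rfl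
theorem s5u544 : ∀ v, 1 ≤ v → v ≤ 165508 → fs5 v = true := slots_step fs5 165236 272 165508 s5u543 s5c544 rfl
theorem s5u545 : ∀ v, 1 ≤ v → v ≤ 165783 → fs5 v = true := slots_step fs5 165508 275 165783 s5u544 s5c545 rfl
theorem s5u546 : ∀ v, 1 ≤ v → v ≤ 166051 → fs5 v = true := slots_step fs5 165783 268 166051 s5u545 s5c546 rfl
theorem s5u547 : ∀ v, 1 ≤ v → v ≤ 166313 → fs5 v = true := slots_step fs5 166051 262 166313 s5u546 s5c547 rfl
theorem s5u548 : ∀ v, 1 ≤ v → v ≤ 166591 → fs5 v = true := slots_step fs5 166313 278 166591 s5u547 s5c548 rfl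
theorem s5u549 : ∀ v, 1 ≤ v → v ≤ 166863 → fs5 v = true := slots_step fs5 166591 272 166863 s5u548 s5c549 rfl
theorem s5u550 : ∀ v, 1 ≤ v → v ≤ 167143 → fs5 v = true := slots_step fs5 166863 280 167143 s5u549 s5c550 rfl
theorem s5u551 : ∀ v, 1 ≤ v → v ≤ 167420 → fs5 v = true := slots_step fs5 167143 277 167420 s5u550 s5c551 rfl
theorem s5u552 : ∀ v, 1 ≤ v → v ≤ 167697 → fs5 v = true := slots_step fs5 167420 277 167697 s5u551 s5c552 rfl
theorem s5u553 : ∀ v, 1 ≤ v → v ≤ 167974 → fs5 v = true := slots_step fs5 167697 277 167974 s5u552 s5c553 rfl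
theorem s5u554 : ∀ v, 1 ≤ v → v ≤ 168255 → fs5 v = true := slots_step fs5 167974 281 168255 s5u553 s5c554 rfl
theorem s5u555 : ∀ v, 1 ≤ v → v ≤ 168529 → fs5 v = true := slots_step fs5 168255 274 168529 s5u554 s5c555 rfl
theorem s5u556 : ∀ v, 1 ≤ v → v ≤ 168795 → fs5 v = true := slots_step fs5 168529 266 168795 s5u555 s5c556 rfl
theorem s5u557 : ∀ v, 1 ≤ v → v ≤ 169062 → fs5 v = true := slots_step fs5 168795 267 169062 s5u556 s5c557 rfl
theorem s5u558 : ∀ v, 1 ≤ v → v ≤ 169342 → fs5 v = true := slots_step fs5 169062 280 169342 s5u557 s5c558 rfl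
theorem s5u559 : ∀ v, 1 ≤ v → v ≤ 169614 → fs5 v = true := slots_step fs5 169342 272 169614 s5u558 s5c559 rfl
theorem s5u560 : ∀ v, 1 ≤ v → v ≤ 169890 → fs5 v = true := slots_step fs5 169614 276 169890 s5u559 s5c560 rfl
theorem s5u561 : ∀ v, 1 ≤ v → v ≤ 170173 → fs5 v = true := slots_step fs5 169890 283 170173 s5u560 s5c561 rfl
theorem s5u562 : ∀ v, 1 ≤ v → v ≤ 170446 → fs5 v = true := slots_step fs5 170173 273 170446 s5u561 s5c562 rfl
theorem s5u563 : ∀ v, 1 ≤ v → v ≤ 170711 → fs5 v = true := slots_step fs5 170446 265 170711 s5u562 s5c563 rfl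
theorem s5u564 : ∀ v, 1 ≤ v → v ≤ 170974 → fs5 v = true := slots_step fs5 170711 263 170974 s5u563 s5c564 rfl
theorem s5u565 : ∀ v, 1 ≤ v → v ≤ 171253 → fs5 v = true := slots_step fs5 170974 279 171253 s5u564 s5c565 rfl
theorem s5u566 : ∀ v, 1 ≤ v → v ≤ 171530 → fs5 v = true := slots_step fs5 171253 277 171530 s5u565 s5c566 rfl
theorem s5u567 : ∀ v, 1 ≤ v → v ≤ 171795 → fs5 v = true := slots_step fs5 171530 265 171795 s5u566 s5c567 rfl
theorem s5u568 : ∀ v, 1 ≤ v → v ≤ 172069 → fs5 v = true := slots_step fs5 171795 274 172069 s5u567 s5c568 rfl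
theorem s5u569 : ∀ v, 1 ≤ v → v ≤ 172354 → fs5 v = true := slots_step fs5 172069 285 172354 s5u568 s5c569 rfl
theorem s5u570 : ∀ v, 1 ≤ v → v ≤ 172624 → fs5 v = true := slots_step fs5 172354 270 172624 s5u569 s5c570 rfl
theorem s5u571 : ∀ v, 1 ≤ v → v ≤ 172897 → fs5 v = true := slots_step fs5 172624 273 172897 s5u570 s5c571 rfl
theorem s5u572 : ∀ v, 1 ≤ v → v ≤ 173175 → fs5 v = true := slots_step fs5 172897 278 173175 s5u571 s5c572 rfl
theorem s5u573 : ∀ v, 1 ≤ v → v ≤ 173456 → fs5 v = true := slots_step fs5 173175 281 173456 s5u572 s5c573 rfl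
theorem s5u574 : ∀ v, 1 ≤ v → v ≤ 173739 → fs5 v = true := slots_step fs5 173456 283 173739 s5u573 s5c574 rfl
theorem s5u575 : ∀ v, 1 ≤ v → v ≤ 174015 → fs5 v = true := slots_step fs5 173739 276 174015 s5u574 s5c575 rfl
theorem s5u576 : ∀ v, 1 ≤ v → v ≤ 174307 → fs5 v = true := slots_step fs5 174015 292 174307 s5u575 s5c576 rfl
theorem s5u577 : ∀ v, 1 ≤ v → v ≤ 174597 → fs5 v = true := slots_step fs5 174307 290 174597 s5u576 s5c577 rfl
theorem s5u578 : ∀ v, 1 ≤ v → v ≤ 174883 → fs5 v = true := slots_step fs5 174597 286 174883 s5u577 s5c578 rfl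
theorem s5u579 : ∀ v, 1 ≤ v → v ≤ 175176 → fs5 v = true := slots_step fs5 174883 293 175176 s5u578 s5c579 rfl
theorem s5u580 : ∀ v, 1 ≤ v → v ≤ 175463 → fs5 v = true := slots_step fs5 175176 287 175463 s5u579 s5c580 rfl
theorem s5u581 : ∀ v, 1 ≤ v → v ≤ 175739 → fs5 v = true := slots_step fs5 175463 276 175739 s5u580 s5c581 rfl
theorem s5u582 : ∀ v, 1 ≤ v → v ≤ 176023 → fs5 v = true := slots_step fs5 175739 284 176023 s5u581 s5c582 rfl
theorem s5u583 : ∀ v, 1 ≤ v → v ≤ 176300 → fs5 v = true := slots_step fs5 176023 277 176300 s5u582 s5c583 rfl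
theorem s5u584 : ∀ v, 1 ≤ v → v ≤ 176581 → fs5 v = true := slots_step fs5 176300 281 176581 s5u583 s5c584 rfl
theorem s5u585 : ∀ v, 1 ≤ v → v ≤ 176864 → fs5 v = true := slots_step fs5 176581 283 176864 s5u584 s5c585 rfl
theorem s5u586 : ∀ v, 1 ≤ v → v ≤ 177170 → fs5 v = true := slots_step fs5 176864 306 177170 s5u585 s5c586 rfl
theorem s5u587 : ∀ v, 1 ≤ v → v ≤ 177423 → fs5 v = true := slots_step fs5 177170 253 177423 s5u586 s5c587 rfl
theorem s5u588 : ∀ v, 1 ≤ v → v ≤ 177685 → fs5 v = true := slots_step fs5 177423 262 177685 s5u587 s5c588 rfl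
theorem s5u589 : ∀ v, 1 ≤ v → v ≤ 177933 → fs5 v = true := slots_step fs5 177685 248 177933 s5u588 s5c589 rfl
theorem s5u590 : ∀ v, 1 ≤ v → v ≤ 178205 → fs5 v = true := slots_step fs5 177933 272 178205 s5u589 s5c590 rfl
theorem s5u591 : ∀ v, 1 ≤ v → v ≤ 178472 → fs5 v = true := slots_step fs5 178205 267 178472 s5u590 s5c591 rfl
theorem s5u592 : ∀ v, 1 ≤ v → v ≤ 178727 → fs5 v = true := slots_step fs5 178472 255 178727 s5u591 s5c592 rfl
theorem s5u593 : ∀ v, 1 ≤ v → v ≤ 178980 → fs5 v = true := slots_step fs5 178727 253 178980 s5u592 s5c593 rfl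
theorem s5u594 : ∀ v, 1 ≤ v → v ≤ 179235 → fs5 v = true := slots_step fs5 178980 255 179235 s5u593 s5c594 rfl
theorem s5u595 : ∀ v, 1 ≤ v → v ≤ 179505 → fs5 v = true := slots_step fs5 179235 270 179505 s5u594 s5c595 rfl
theorem s5u596 : ∀ v, 1 ≤ v → v ≤ 179766 → fs5 v = true := slots_step fs5 179505 261 179766 s5u595 s5c596 rfl
theorem s5u597 : ∀ v, 1 ≤ v → v ≤ 180018 → fs5 v = true := slots_step fs5 179766 252 180018 s5u596 s5c597 rfl
theorem s5u598 : ∀ v, 1 ≤ v → v ≤ 180288 → fs5 v = true := slots_step fs5 180018 270 180288 s5u597 s5c598 rfl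
theorem s5u599 : ∀ v, 1 ≤ v → v ≤ 180558 → fs5 v = true := slots_step fs5 180288 270 180558 s5u598 s5c599 rfl
theorem s5u600 : ∀ v, 1 ≤ v → v ≤ 180805 → fs5 v = true := slots_step fs5 180558 247 180805 s5u599 s5c600 rfl
theorem s5u601 : ∀ v, 1 ≤ v → v ≤ 181045 → fs5 v = true := slots_step fs5 180805 240 181045 s5u600 s5c601 rfl
theorem s5u602 : ∀ v, 1 ≤ v → v ≤ 181310 → fs5 v = true := slots_step fs5 181045 265 181310 s5u601 s5c602 rfl
theorem s5u603 : ∀ v, 1 ≤ v → v ≤ 181549 → fs5 v = true := slots_step fs5 181310 239 181549 s5u602 s5c603 rfl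
theorem s5u604 : ∀ v, 1 ≤ v → v ≤ 181816 → fs5 v = true := slots_step fs5 181549 267 181816 s5u603 s5c604 rfl
theorem s5u605 : ∀ v, 1 ≤ v → v ≤ 182086 → fs5 v = true := slots_step fs5 181816 270 182086 s5u604 s5c605 rfl
theorem s5u606 : ∀ v, 1 ≤ v → v ≤ 182366 → fs5 v = true := slots_step fs5 182086 280 182366 s5u605 s5c606 rfl
theorem s5u607 : ∀ v, 1 ≤ v → v ≤ 182632 → fs5 v = true := slots_step fs5 182366 266 182632 s5u606 s5c607 rfl
theorem s5u608 : ∀ v, 1 ≤ v → v ≤ 182886 → fs5 v = true := slots_step fs5 182632 254 182886 s5u607 s5c608 rfl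
theorem s5u609 : ∀ v, 1 ≤ v → v ≤ 183153 → fs5 v = true := slots_step fs5 182886 267 183153 s5u608 s5c609 rfl
theorem s5u610 : ∀ v, 1 ≤ v → v ≤ 183426 → fs5 v = true := slots_step fs5 183153 273 183426 s5u609 s5c610 rfl
theorem s5u611 : ∀ v, 1 ≤ v → v ≤ 183700 → fs5 v = true := slots_step fs5 183426 274 183700 s5u610 s5c611 rfl
theorem s5u612 : ∀ v, 1 ≤ v → v ≤ 183962 → fs5 v = true := slots_step fs5 183700 262 183962 s5u611 s5c612 rfl
theorem s5u613 : ∀ v, 1 ≤ v → v ≤ 184229 → fs5 v = true := slots_step fs5 183962 267 184229 s5u612 s5c613 rfl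
theorem s5u614 : ∀ v, 1 ≤ v → v ≤ 184481 → fs5 v = true := slots_step fs5 184229 252 184481 s5u613 s5c614 rfl
theorem s5u615 : ∀ v, 1 ≤ v → v ≤ 184756 → fs5 v = true := slots_step fs5 184481 275 184756 s5u614 s5c615 rfl
theorem s5u616 : ∀ v, 1 ≤ v → v ≤ 185041 → fs5 v = true := slots_step fs5 184756 285 185041 s5u615 s5c616 rfl
theorem s5u617 : ∀ v, 1 ≤ v → v ≤ 185332 → fs5 v = true := slots_step fs5 185041 291 185332 s5u616 s5c617 rfl
theorem s5u618 : ∀ v, 1 ≤ v → v ≤ 185609 → fs5 v = true := slots_step fs5 185332 277 185609 s5u617 s5c618 rfl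
theorem s5u619 : ∀ v, 1 ≤ v → v ≤ 185881 → fs5 v = true := slots_step fs5 185609 272 185881 s5u618 s5c619 rfl
theorem s5u620 : ∀ v, 1 ≤ v → v ≤ 186150 → fs5 v = true := slots_step fs5 185881 269 186150 s5u619 s5c620 rfl
theorem s5u621 : ∀ v, 1 ≤ v → v ≤ 186424 → fs5 v = true := slots_step fs5 186150 274 186424 s5u620 s5c621 rfl
theorem s5u622 : ∀ v, 1 ≤ v → v ≤ 186700 → fs5 v = true := slots_step fs5 186424 276 186700 s5u621 s5c622 rfl
theorem s5u623 : ∀ v, 1 ≤ v → v ≤ 186980 → fs5 v = true := slots_step fs5 186700 280 186980 s5u622 s5c623 rfl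
theorem s5u624 : ∀ v, 1 ≤ v → v ≤ 187262 → fs5 v = true := slots_step fs5 186980 282 187262 s5u623 s5c624 rfl
theorem s5u625 : ∀ v, 1 ≤ v → v ≤ 187544 → fs5 v = true := slots_step fs5 187262 282 187544 s5u624 s5c625 rfl
theorem s5u626 : ∀ v, 1 ≤ v → v ≤ 187817 → fs5 v = true := slots_step fs5 187544 273 187817 s5u625 s5c626 rfl
theorem s5u627 : ∀ v, 1 ≤ v → v ≤ 188101 → fs5 v = true := slots_step fs5 187817 284 188101 s5u626 s5c627 rfl
theorem s5u628 : ∀ v, 1 ≤ v → v ≤ 188385 → fs5 v = true := slots_step fs5 188101 284 188385 s5u627 s5c628 rfl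
theorem s5u629 : ∀ v, 1 ≤ v → v ≤ 188677 → fs5 v = true := slots_step fs5 188385 292 188677 s5u628 s5c629 rfl
theorem s5u630 : ∀ v, 1 ≤ v → v ≤ 188952 → fs5 v = true := slots_step fs5 188677 275 188952 s5u629 s5c630 rfl
theorem s5u631 : ∀ v, 1 ≤ v → v ≤ 189221 → fs5 v = true := slots_step fs5 188952 269 189221 s5u630 s5c631 rfl
theorem s5u632 : ∀ v, 1 ≤ v → v ≤ 189495 → fs5 v = true := slots_step fs5 189221 274 189495 s5u631 s5c632 rfl
theorem s5u633 : ∀ v, 1 ≤ v → v ≤ 189756 → fs5 v = true := slots_step fs5 189495 261 189756 s5u632 s5c633 rfl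
theorem s5u634 : ∀ v, 1 ≤ v → v ≤ 190038 → fs5 v = true := slots_step fs5 189756 282 190038 s5u633 s5c634 rfl
theorem s5u635 : ∀ v, 1 ≤ v → v ≤ 190316 → fs5 v = true := slots_step fs5 190038 278 190316 s5u634 s5c635 rfl
theorem s5u636 : ∀ v, 1 ≤ v → v ≤ 190595 → fs5 v = true := slots_step fs5 190316 279 190595 s5u635 s5c636 rfl
theorem s5u637 : ∀ v, 1 ≤ v → v ≤ 190882 → fs5 v = true := slots_step fs5 190595 287 190882 s5u636 s5c637 rfl
theorem s5u638 : ∀ v, 1 ≤ v → v ≤ 191161 → fs5 v = true := slots_step fs5 190882 279 191161 s5u637 s5c638 rfl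
theorem s5u639 : ∀ v, 1 ≤ v → v ≤ 191439 → fs5 v = true := slots_step fs5 191161 278 191439 s5u638 s5c639 rfl
theorem s5u640 : ∀ v, 1 ≤ v → v ≤ 191696 → fs5 v = true := slots_step fs5 191439 257 191696 s5u639 s5c640 rfl
theorem s5u641 : ∀ v, 1 ≤ v → v ≤ 191964 → fs5 v = true := slots_step fs5 191696 268 191964 s5u640 s5c641 rfl
theorem s5u642 : ∀ v, 1 ≤ v → v ≤ 192245 → fs5 v = true := slots_step fs5 191964 281 192245 s5u641 s5c642 rfl
theorem s5u643 : ∀ v, 1 ≤ v → v ≤ 192528 → fs5 v = true := slots_step fs5 192245 283 192528 s5u642 s5c643 rfl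
theorem s5u644 : ∀ v, 1 ≤ v → v ≤ 192805 → fs5 v = true := slots_step fs5 192528 277 192805 s5u643 s5c644 rfl
theorem s5u645 : ∀ v, 1 ≤ v → v ≤ 193095 → fs5 v = true := slots_step fs5 192805 290 193095 s5u644 s5c645 rfl
theorem s5u646 : ∀ v, 1 ≤ v → v ≤ 193390 → fs5 v = true := slots_step fs5 193095 295 193390 s5u645 s5c646 rfl
theorem s5u647 : ∀ v, 1 ≤ v → v ≤ 193667 → fs5 v = true := slots_step fs5 193390 277 193667 s5u646 s5c647 rfl
theorem s5u648 : ∀ v, 1 ≤ v → v ≤ 193940 → fs5 v = true := slots_step fs5 193667 273 193940 s5u647 s5c648 rfl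
theorem s5u649 : ∀ v, 1 ≤ v → v ≤ 194226 → fs5 v = true := slots_step fs5 193940 286 194226 s5u648 s5c649 rfl
theorem s5u650 : ∀ v, 1 ≤ v → v ≤ 194507 → fs5 v = true := slots_step fs5 194226 281 194507 s5u649 s5c650 rfl
theorem s5u651 : ∀ v, 1 ≤ v → v ≤ 194794 → fs5 v = true := slots_step fs5 194507 287 194794 s5u650 s5c651 rfl
theorem s5u652 : ∀ v, 1 ≤ v → v ≤ 195088 → fs5 v = true := slots_step fs5 194794 294 195088 s5u651 s5c652 rfl
theorem s5u653 : ∀ v, 1 ≤ v → v ≤ 195369 → fs5 v = true := slots_step fs5 195088 281 195369 s5u652 s5c653 rfl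
theorem s5u654 : ∀ v, 1 ≤ v → v ≤ 195671 → fs5 v = true := slots_step fs5 195369 302 195671 s5u653 s5c654 rfl
theorem s5u655 : ∀ v, 1 ≤ v → v ≤ 195967 → fs5 v = true := slots_step fs5 195671 296 195967 s5u654 s5c655 rfl
theorem s5u656 : ∀ v, 1 ≤ v → v ≤ 196265 → fs5 v = true := slots_step fs5 195967 298 196265 s5u655 s5c656 rfl
theorem s5u657 : ∀ v, 1 ≤ v → v ≤ 196569 → fs5 v = true := slots_step fs5 196265 304 196569 s5u656 s5c657 rfl
theorem s5u658 : ∀ v, 1 ≤ v → v ≤ 196852 → fs5 v = true := slots_step fs5 196569 283 196852 s5u657 s5c658 rfl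
theorem s5u659 : ∀ v, 1 ≤ v → v ≤ 197126 → fs5 v = true := slots_step fs5 196852 274 197126 s5u658 s5c659 rfl
theorem s5u660 : ∀ v, 1 ≤ v → v ≤ 197406 → fs5 v = true := slots_step fs5 197126 280 197406 s5u659 s5c660 rfl
theorem s5u661 : ∀ v, 1 ≤ v → v ≤ 197684 → fs5 v = true := slots_step fs5 197406 278 197684 s5u660 s5c661 rfl
theorem s5u662 : ∀ v, 1 ≤ v → v ≤ 197959 → fs5 v = true := slots_step fs5 197684 275 197959 s5u661 s5c662 rfl
theorem s5u663 : ∀ v, 1 ≤ v → v ≤ 198257 → fs5 v = true := slots_step fs5 197959 298 198257 s5u662 s5c663 rfl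
theorem s5u664 : ∀ v, 1 ≤ v → v ≤ 198545 → fs5 v = true := slots_step fs5 198257 288 198545 s5u663 s5c664 rfl
theorem s5u665 : ∀ v, 1 ≤ v → v ≤ 198798 → fs5 v = true := slots_step fs5 198545 253 198798 s5u664 s5c665 rfl
theorem s5u666 : ∀ v, 1 ≤ v → v ≤ 199068 → fs5 v = true := slots_step fs5 198798 270 199068 s5u665 s5c666 rfl
theorem s5u667 : ∀ v, 1 ≤ v → v ≤ 199321 → fs5 v = true := slots_step fs5 199068 253 199321 s5u666 s5c667 rfl
theorem s5u668 : ∀ v, 1 ≤ v → v ≤ 199605 → fs5 v = true := slots_step fs5 199321 284 199605 s5u667 s5c668 rfl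
theorem s5u669 : ∀ v, 1 ≤ v → v ≤ 199878 → fs5 v = true := slots_step fs5 199605 273 199878 s5u668 s5c669 rfl
theorem s5u670 : ∀ v, 1 ≤ v → v ≤ 200142 → fs5 v = true := slots_step fs5 199878 264 200142 s5u669 s5c670 rfl
theorem s5u671 : ∀ v, 1 ≤ v → v ≤ 200404 → fs5 v = true := slots_step fs5 200142 262 200404 s5u670 s5c671 rfl
theorem s5u672 : ∀ v, 1 ≤ v → v ≤ 200681 → fs5 v = true := slots_step fs5 200404 277 200681 s5u671 s5c672 rfl
theorem s5u673 : ∀ v, 1 ≤ v → v ≤ 200923 → fs5 v = true := slots_step fs5 200681 242 200923 s5u672 s5c673 rfl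
theorem s5u674 : ∀ v, 1 ≤ v → v ≤ 201185 → fs5 v = true := slots_step fs5 200923 262 201185 s5u673 s5c674 rfl
theorem s5u675 : ∀ v, 1 ≤ v → v ≤ 201432 → fs5 v = true := slots_step fs5 201185 247 201432 s5u674 s5c675 rfl
theorem s5u676 : ∀ v, 1 ≤ v → v ≤ 201710 → fs5 v = true := slots_step fs5 201432 278 201710 s5u675 s5c676 rfl
theorem s5u677 : ∀ v, 1 ≤ v → v ≤ 201971 → fs5 v = true := slots_step fs5 201710 261 201971 s5u676 s5c677 rfl
theorem s5u678 : ∀ v, 1 ≤ v → v ≤ 202230 → fs5 v = true := slots_step fs5 201971 259 202230 s5u677 s5c678 rfl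
theorem s5u679 : ∀ v, 1 ≤ v → v ≤ 202492 → fs5 v = true := slots_step fs5 202230 262 202492 s5u678 s5c679 rfl
theorem s5u680 : ∀ v, 1 ≤ v → v ≤ 202758 → fs5 v = true := slots_step fs5 202492 266 202758 s5u679 s5c680 rfl
theorem s5u681 : ∀ v, 1 ≤ v → v ≤ 203013 → fs5 v = true := slots_step fs5 202758 255 203013 s5u680 s5c681 rfl
theorem s5u682 : ∀ v, 1 ≤ v → v ≤ 203282 → fs5 v = true := slots_step fs5 203013 269 203282 s5u681 s5c682 rfl
theorem s5u683 : ∀ v, 1 ≤ v → v ≤ 203557 → fs5 v = true := slots_step fs5 203282 275 203557 s5u682 s5c683 rfl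
theorem s5u684 : ∀ v, 1 ≤ v → v ≤ 203835 → fs5 v = true := slots_step fs5 203557 278 203835 s5u683 s5c684 rfl
theorem s5u685 : ∀ v, 1 ≤ v → v ≤ 204119 → fs5 v = true := slots_step fs5 203835 284 204119 s5u684 s5c685 rfl
theorem s5u686 : ∀ v, 1 ≤ v → v ≤ 204382 → fs5 v = true := slots_step fs5 204119 263 204382 s5u685 s5c686 rfl
theorem s5u687 : ∀ v, 1 ≤ v → v ≤ 204639 → fs5 v = true := slots_step fs5 204382 257 204639 s5u686 s5c687 rfl
theorem s5u688 : ∀ v, 1 ≤ v → v ≤ 204913 → fs5 v = true := slots_step fs5 204639 274 204913 s5u687 s5c688 rfl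
theorem s5u689 : ∀ v, 1 ≤ v → v ≤ 205200 → fs5 v = true := slots_step fs5 204913 287 205200 s5u688 s5c689 rfl
theorem s5u690 : ∀ v, 1 ≤ v → v ≤ 205487 → fs5 v = true := slots_step fs5 205200 287 205487 s5u689 s5c690 rfl
theorem s5u691 : ∀ v, 1 ≤ v → v ≤ 205761 → fs5 v = true := slots_step fs5 205487 274 205761 s5u690 s5c691 rfl
theorem s5u692 : ∀ v, 1 ≤ v → v ≤ 206036 → fs5 v = true := slots_step fs5 205761 275 206036 s5u691 s5c692 rfl
theorem s5u693 : ∀ v, 1 ≤ v → v ≤ 206306 → fs5 v = true := slots_step fs5 206036 270 206306 s5u692 s5c693 rfl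
theorem s5u694 : ∀ v, 1 ≤ v → v ≤ 206568 → fs5 v = true := slots_step fs5 206306 262 206568 s5u693 s5c694 rfl
theorem s5u695 : ∀ v, 1 ≤ v → v ≤ 206852 → fs5 v = true := slots_step fs5 206568 284 206852 s5u694 s5c695 rfl
theorem s5u696 : ∀ v, 1 ≤ v → v ≤ 207142 → fs5 v = true := slots_step fs5 206852 290 207142 s5u695 s5c696 rfl
theorem s5u697 : ∀ v, 1 ≤ v → v ≤ 207435 → fs5 v = true := slots_step fs5 207142 293 207435 s5u696 s5c697 rfl
theorem s5u698 : ∀ v, 1 ≤ v → v ≤ 207701 → fs5 v = true := slots_step fs5 207435 266 207701 s5u697 s5c698 rfl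
theorem s5u699 : ∀ v, 1 ≤ v → v ≤ 207973 → fs5 v = true := slots_step fs5 207701 272 207973 s5u698 s5c699 rfl
theorem s5u700 : ∀ v, 1 ≤ v → v ≤ 208245 → fs5 v = true := slots_step fs5 207973 272 208245 s5u699 s5c700 rfl
theorem s5u701 : ∀ v, 1 ≤ v → v ≤ 208515 → fs5 v = true := slots_step fs5 208245 270 208515 s5u700 s5c701 rfl
theorem s5u702 : ∀ v, 1 ≤ v → v ≤ 208792 → fs5 v = true := slots_step fs5 208515 277 208792 s5u701 s5c702 rfl
theorem s5u703 : ∀ v, 1 ≤ v → v ≤ 209077 → fs5 v = true := slots_step fs5 208792 285 209077 s5u702 s5c703 rfl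
theorem s5u704 : ∀ v, 1 ≤ v → v ≤ 209369 → fs5 v = true := slots_step fs5 209077 292 209369 s5u703 s5c704 rfl
theorem s5u705 : ∀ v, 1 ≤ v → v ≤ 209649 → fs5 v = true := slots_step fs5 209369 280 209649 s5u704 s5c705 rfl
theorem s5u706 : ∀ v, 1 ≤ v → v ≤ 209937 → fs5 v = true := slots_step fs5 209649 288 209937 s5u705 s5c706 rfl
theorem s5u707 : ∀ v, 1 ≤ v → v ≤ 210224 → fs5 v = true := slots_step fs5 209937 287 210224 s5u706 s5c707 rfl
theorem s5u708 : ∀ v, 1 ≤ v → v ≤ 210516 → fs5 v = true := slots_step fs5 210224 292 210516 s5u707 s5c708 rfl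
theorem s5u709 : ∀ v, 1 ≤ v → v ≤ 210799 → fs5 v = true := slots_step fs5 210516 283 210799 s5u708 s5c709 rfl
theorem s5u710 : ∀ v, 1 ≤ v → v ≤ 211073 → fs5 v = true := slots_step fs5 210799 274 211073 s5u709 s5c710 rfl
theorem s5u711 : ∀ v, 1 ≤ v → v ≤ 211353 → fs5 v = true := slots_step fs5 211073 280 211353 s5u710 s5c711 rfl
theorem s5u712 : ∀ v, 1 ≤ v → v ≤ 211625 → fs5 v = true := slots_step fs5 211353 272 211625 s5u711 s5c712 rfl
theorem s5u713 : ∀ v, 1 ≤ v → v ≤ 211913 → fs5 v = true := slots_step fs5 211625 288 211913 s5u712 s5c713 rfl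
theorem s5u714 : ∀ v, 1 ≤ v → v ≤ 212199 → fs5 v = true := slots_step fs5 211913 286 212199 s5u713 s5c714 rfl
theorem s5u715 : ∀ v, 1 ≤ v → v ≤ 212483 → fs5 v = true := slots_step fs5 212199 284 212483 s5u714 s5c715 rfl
theorem s5u716 : ∀ v, 1 ≤ v → v ≤ 212752 → fs5 v = true := slots_step fs5 212483 269 212752 s5u715 s5c716 rfl
theorem s5u717 : ∀ v, 1 ≤ v → v ≤ 213042 → fs5 v = true := slots_step fs5 212752 290 213042 s5u716 s5c717 rfl
theorem s5u718 : ∀ v, 1 ≤ v → v ≤ 213330 → fs5 v = true := slots_step fs5 213042 288 213330 s5u717 s5c718 rfl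
theorem s5u719 : ∀ v, 1 ≤ v → v ≤ 213613 → fs5 v = true := slots_step fs5 213330 283 213613 s5u718 s5c719 rfl
theorem s5u720 : ∀ v, 1 ≤ v → v ≤ 213890 → fs5 v = true := slots_step fs5 213613 277 213890 s5u719 s5c720 rfl
theorem s5u721 : ∀ v, 1 ≤ v → v ≤ 214152 → fs5 v = true := slots_step fs5 213890 262 214152 s5u720 s5c721 rfl
theorem s5u722 : ∀ v, 1 ≤ v → v ≤ 214418 → fs5 v = true := slots_step fs5 214152 266 214418 s5u721 s5c722 rfl
theorem s5u723 : ∀ v, 1 ≤ v → v ≤ 214706 → fs5 v = true := slots_step fs5 214418 288 214706 s5u722 s5c723 rfl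
theorem s5u724 : ∀ v, 1 ≤ v → v ≤ 214991 → fs5 v = true := slots_step fs5 214706 285 214991 s5u723 s5c724 rfl
theorem s5u725 : ∀ v, 1 ≤ v → v ≤ 215278 → fs5 v = true := slots_step fs5 214991 287 215278 s5u724 s5c725 rfl
theorem s5u726 : ∀ v, 1 ≤ v → v ≤ 215577 → fs5 v = true := slots_step fs5 215278 299 215577 s5u725 s5c726 rfl
theorem s5u727 : ∀ v, 1 ≤ v → v ≤ 215871 → fs5 v = true := slots_step fs5 215577 294 215871 s5u726 s5c727 rfl
theorem s5u728 : ∀ v, 1 ≤ v → v ≤ 216152 → fs5 v = true := slots_step fs5 215871 281 216152 s5u727 s5c728 rfl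
theorem s5u729 : ∀ v, 1 ≤ v → v ≤ 216430 → fs5 v = true := slots_step fs5 216152 278 216430 s5u728 s5c729 rfl
theorem s5u730 : ∀ v, 1 ≤ v → v ≤ 216721 → fs5 v = true := slots_step fs5 216430 291 216721 s5u729 s5c730 rfl
theorem s5u731 : ∀ v, 1 ≤ v → v ≤ 217008 → fs5 v = true := slots_step fs5 216721 287 217008 s5u730 s5c731 rfl
theorem s5u732 : ∀ v, 1 ≤ v → v ≤ 217293 → fs5 v = true := slots_step fs5 217008 285 217293 s5u731 s5c732 rfl
theorem s5u733 : ∀ v, 1 ≤ v → v ≤ 217586 → fs5 v = true := slots_step fs5 217293 293 217586 s5u732 s5c733 rfl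
theorem s5u734 : ∀ v, 1 ≤ v → v ≤ 217881 → fs5 v = true := slots_step fs5 217586 295 217881 s5u733 s5c734 rfl
theorem s5u735 : ∀ v, 1 ≤ v → v ≤ 218174 → fs5 v = true := slots_step fs5 217881 293 218174 s5u734 s5c735 rfl
theorem s5u736 : ∀ v, 1 ≤ v → v ≤ 218470 → fs5 v = true := slots_step fs5 218174 296 218470 s5u735 s5c736 rfl
theorem s5u737 : ∀ v, 1 ≤ v → v ≤ 218768 → fs5 v = true := slots_step fs5 218470 298 218768 s5u736 s5c737 rfl
theorem s5u738 : ∀ v, 1 ≤ v → v ≤ 219054 → fs5 v = true := slots_step fs5 218768 286 219054 s5u737 s5c738 rfl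
theorem s5u739 : ∀ v, 1 ≤ v → v ≤ 219355 → fs5 v = true := slots_step fs5 219054 301 219355 s5u738 s5c739 rfl
theorem s5u740 : ∀ v, 1 ≤ v → v ≤ 219649 → fs5 v = true := slots_step fs5 219355 294 219649 s5u739 s5c740 rfl
theorem s5u741 : ∀ v, 1 ≤ v → v ≤ 219930 → fs5 v = true := slots_step fs5 219649 281 219930 s5u740 s5c741 rfl
theorem s5u742 : ∀ v, 1 ≤ v → v ≤ 220213 → fs5 v = true := slots_step fs5 219930 283 220213 s5u741 s5c742 rfl
theorem s5u743 : ∀ v, 1 ≤ v → v ≤ 220496 → fs5 v = true := slots_step fs5 220213 283 220496 s5u742 s5c743 rfl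
theorem s5u744 : ∀ v, 1 ≤ v → v ≤ 220770 → fs5 v = true := slots_step fs5 220496 274 220770 s5u743 s5c744 rfl
theorem s5u745 : ∀ v, 1 ≤ v → v ≤ 221041 → fs5 v = true := slots_step fs5 220770 271 221041 s5u744 s5c745 rfl
theorem s5u746 : ∀ v, 1 ≤ v → v ≤ 221314 → fs5 v = true := slots_step fs5 221041 273 221314 s5u745 s5c746 rfl
theorem s5u747 : ∀ v, 1 ≤ v → v ≤ 221582 → fs5 v = true := slots_step fs5 221314 268 221582 s5u746 s5c747 rfl
theorem s5u748 : ∀ v, 1 ≤ v → v ≤ 221847 → fs5 v = true := slots_step fs5 221582 265 221847 s5u747 s5c748 rfl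
theorem s5u749 : ∀ v, 1 ≤ v → v ≤ 222116 → fs5 v = true := slots_step fs5 221847 269 222116 s5u748 s5c749 rfl
theorem s5u750 : ∀ v, 1 ≤ v → v ≤ 222391 → fs5 v = true := slots_step fs5 222116 275 222391 s5u749 s5c750 rfl
theorem s5u751 : ∀ v, 1 ≤ v → v ≤ 222660 → fs5 v = true := slots_step fs5 222391 269 222660 s5u750 s5c751 rfl
theorem s5u752 : ∀ v, 1 ≤ v → v ≤ 222912 → fs5 v = true := slots_step fs5 222660 252 222912 s5u751 s5c752 rfl
theorem s5u753 : ∀ v, 1 ≤ v → v ≤ 223179 → fs5 v = true := slots_step fs5 222912 267 223179 s5u752 s5c753 rfl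
theorem s5u754 : ∀ v, 1 ≤ v → v ≤ 223460 → fs5 v = true := slots_step fs5 223179 281 223460 s5u753 s5c754 rfl
theorem s5u755 : ∀ v, 1 ≤ v → v ≤ 223720 → fs5 v = true := slots_step fs5 223460 260 223720 s5u754 s5c755 rfl
theorem s5u756 : ∀ v, 1 ≤ v → v ≤ 223985 → fs5 v = true := slots_step fs5 223720 265 223985 s5u755 s5c756 rfl
theorem s5u757 : ∀ v, 1 ≤ v → v ≤ 224255 → fs5 v = true := slots_step fs5 223985 270 224255 s5u756 s5c757 rfl
theorem s5u758 : ∀ v, 1 ≤ v → v ≤ 224524 → fs5 v = true := slots_step fs5 224255 269 224524 s5u757 s5c758 rfl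
theorem s5u759 : ∀ v, 1 ≤ v → v ≤ 224797 → fs5 v = true := slots_step fs5 224524 273 224797 s5u758 s5c759 rfl
theorem s5u760 : ∀ v, 1 ≤ v → v ≤ 225053 → fs5 v = true := slots_step fs5 224797 256 225053 s5u759 s5c760 rfl
theorem s5u761 : ∀ v, 1 ≤ v → v ≤ 225315 → fs5 v = true := slots_step fs5 225053 262 225315 s5u760 s5c761 rfl
theorem s5u762 : ∀ v, 1 ≤ v → v ≤ 225597 → fs5 v = true := slots_step fs5 225315 282 225597 s5u761 s5c762 rfl
theorem s5u763 : ∀ v, 1 ≤ v → v ≤ 225860 → fs5 v = true := slots_step fs5 225597 263 225860 s5u762 s5c763 rfl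
theorem s5u764 : ∀ v, 1 ≤ v → v ≤ 226128 → fs5 v = true := slots_step fs5 225860 268 226128 s5u763 s5c764 rfl
theorem s5u765 : ∀ v, 1 ≤ v → v ≤ 226406 → fs5 v = true := slots_step fs5 226128 278 226406 s5u764 s5c765 rfl
theorem s5u766 : ∀ v, 1 ≤ v → v ≤ 226682 → fs5 v = true := slots_step fs5 226406 276 226682 s5u765 s5c766 rfl
theorem s5u767 : ∀ v, 1 ≤ v → v ≤ 226962 → fs5 v = true := slots_step fs5 226682 280 226962 s5u766 s5c767 rfl
theorem s5u768 : ∀ v, 1 ≤ v → v ≤ 227245 → fs5 v = true := slots_step fs5 226962 283 227245 s5u767 s5c768 rfl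
theorem s5u769 : ∀ v, 1 ≤ v → v ≤ 227516 → fs5 v = true := slots_step fs5 227245 271 227516 s5u768 s5c769 rfl
theorem s5u770 : ∀ v, 1 ≤ v → v ≤ 227763 → fs5 v = true := slots_step fs5 227516 247 227763 s5u769 s5c770 rfl
theorem s5u771 : ∀ v, 1 ≤ v → v ≤ 228042 → fs5 v = true := slots_step fs5 227763 279 228042 s5u770 s5c771 rfl
theorem s5u772 : ∀ v, 1 ≤ v → v ≤ 228329 → fs5 v = true := slots_step fs5 228042 287 228329 s5u771 s5c772 rfl
theorem s5u773 : ∀ v, 1 ≤ v → v ≤ 228617 → fs5 v = true := slots_step fs5 228329 288 228617 s5u772 s5c773 rfl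
theorem s5u774 : ∀ v, 1 ≤ v → v ≤ 228890 → fs5 v = true := slots_step fs5 228617 273 228890 s5u773 s5c774 rfl
theorem s5u775 : ∀ v, 1 ≤ v → v ≤ 229172 → fs5 v = true := slots_step fs5 228890 282 229172 s5u774 s5c775 rfl
theorem s5u776 : ∀ v, 1 ≤ v → v ≤ 229455 → fs5 v = true := slots_step fs5 229172 283 229455 s5u775 s5c776 rfl
theorem s5u777 : ∀ v, 1 ≤ v → v ≤ 229727 → fs5 v = true := slots_step fs5 229455 272 229727 s5u776 s5c777 rfl
theorem s5u778 : ∀ v, 1 ≤ v → v ≤ 230008 → fs5 v = true := slots_step fs5 229727 281 230008 s5u777 s5c778 rfl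
theorem s5u779 : ∀ v, 1 ≤ v → v ≤ 230273 → fs5 v = true := slots_step fs5 230008 265 230273 s5u778 s5c779 rfl
theorem s5u780 : ∀ v, 1 ≤ v → v ≤ 230551 → fs5 v = true := slots_step fs5 230273 278 230551 s5u779 s5c780 rfl
theorem s5u781 : ∀ v, 1 ≤ v → v ≤ 230842 → fs5 v = true := slots_step fs5 230551 291 230842 s5u780 s5c781 rfl
theorem s5u782 : ∀ v, 1 ≤ v → v ≤ 231115 → fs5 v = true := slots_step fs5 230842 273 231115 s5u781 s5c782 rfl
theorem s5u783 : ∀ v, 1 ≤ v → v ≤ 231378 → fs5 v = true := slots_step fs5 231115 263 231378 s5u782 s5c783 rfl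
theorem s5u784 : ∀ v, 1 ≤ v → v ≤ 231648 → fs5 v = true := slots_step fs5 231378 270 231648 s5u783 s5c784 rfl
theorem s5u785 : ∀ v, 1 ≤ v → v ≤ 231921 → fs5 v = true := slots_step fs5 231648 273 231921 s5u784 s5c785 rfl
theorem s5u786 : ∀ v, 1 ≤ v → v ≤ 232167 → fs5 v = true := slots_step fs5 231921 246 232167 s5u785 s5c786 rfl
theorem s5u787 : ∀ v, 1 ≤ v → v ≤ 232441 → fs5 v = true := slots_step fs5 232167 274 232441 s5u786 s5c787 rfl
theorem s5u788 : ∀ v, 1 ≤ v → v ≤ 232735 → fs5 v = true := slots_step fs5 232441 294 232735 s5u787 s5c788 rfl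
theorem s5u789 : ∀ v, 1 ≤ v → v ≤ 233023 → fs5 v = true := slots_step fs5 232735 288 233023 s5u788 s5c789 rfl
theorem s5u790 : ∀ v, 1 ≤ v → v ≤ 233307 → fs5 v = true := slots_step fs5 233023 284 233307 s5u789 s5c790 rfl
theorem s5u791 : ∀ v, 1 ≤ v → v ≤ 233591 → fs5 v = true := slots_step fs5 233307 284 233591 s5u790 s5c791 rfl
theorem s5u792 : ∀ v, 1 ≤ v → v ≤ 233883 → fs5 v = true := slots_step fs5 233591 292 233883 s5u791 s5c792 rfl
theorem s5u793 : ∀ v, 1 ≤ v → v ≤ 234165 → fs5 v = true := slots_step fs5 233883 282 234165 s5u792 s5c793 rfl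
theorem s5u794 : ∀ v, 1 ≤ v → v ≤ 234430 → fs5 v = true := slots_step fs5 234165 265 234430 s5u793 s5c794 rfl
theorem s5u795 : ∀ v, 1 ≤ v → v ≤ 234713 → fs5 v = true := slots_step fs5 234430 283 234713 s5u794 s5c795 rfl
theorem s5u796 : ∀ v, 1 ≤ v → v ≤ 235000 → fs5 v = true := slots_step fs5 234713 287 235000 s5u795 s5c796 rfl
theorem s5u797 : ∀ v, 1 ≤ v → v ≤ 235278 → fs5 v = true := slots_step fs5 235000 278 235278 s5u796 s5c797 rfl
theorem s5u798 : ∀ v, 1 ≤ v → v ≤ 235573 → fs5 v = true := slots_step fs5 235278 295 235573 s5u797 s5c798 rfl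
theorem s5u799 : ∀ v, 1 ≤ v → v ≤ 235861 → fs5 v = true := slots_step fs5 235573 288 235861 s5u798 s5c799 rfl
theorem s5u800 : ∀ v, 1 ≤ v → v ≤ 236142 → fs5 v = true := slots_step fs5 235861 281 236142 s5u799 s5c800 rfl
theorem s5u801 : ∀ v, 1 ≤ v → v ≤ 236421 → fs5 v = true := slots_step fs5 236142 279 236421 s5u800 s5c801 rfl
theorem s5u802 : ∀ v, 1 ≤ v → v ≤ 236705 → fs5 v = true := slots_step fs5 236421 284 236705 s5u801 s5c802 rfl
theorem s5u803 : ∀ v, 1 ≤ v → v ≤ 236980 → fs5 v = true := slots_step fs5 236705 275 236980 s5u802 s5c803 rfl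
theorem s5u804 : ∀ v, 1 ≤ v → v ≤ 237265 → fs5 v = true := slots_step fs5 236980 285 237265 s5u803 s5c804 rfl
theorem s5u805 : ∀ v, 1 ≤ v → v ≤ 237550 → fs5 v = true := slots_step fs5 237265 285 237550 s5u804 s5c805 rfl
theorem s5u806 : ∀ v, 1 ≤ v → v ≤ 237825 → fs5 v = true := slots_step fs5 237550 275 237825 s5u805 s5c806 rfl
theorem s5u807 : ∀ v, 1 ≤ v → v ≤ 238098 → fs5 v = true := slots_step fs5 237825 273 238098 s5u806 s5c807 rfl
theorem s5u808 : ∀ v, 1 ≤ v → v ≤ 238372 → fs5 v = true := slots_step fs5 238098 274 238372 s5u807 s5c808 rfl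
theorem s5u809 : ∀ v, 1 ≤ v → v ≤ 238659 → fs5 v = true := slots_step fs5 238372 287 238659 s5u808 s5c809 rfl
theorem s5u810 : ∀ v, 1 ≤ v → v ≤ 238942 → fs5 v = true := slots_step fs5 238659 283 238942 s5u809 s5c810 rfl
theorem s5u811 : ∀ v, 1 ≤ v → v ≤ 239236 → fs5 v = true := slots_step fs5 238942 294 239236 s5u810 s5c811 rfl
theorem s5u812 : ∀ v, 1 ≤ v → v ≤ 239534 → fs5 v = true := slots_step fs5 239236 298 239534 s5u811 s5c812 rfl
theorem s5u813 : ∀ v, 1 ≤ v → v ≤ 239814 → fs5 v = true := slots_step fs5 239534 280 239814 s5u812 s5c813 rfl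
theorem s5u814 : ∀ v, 1 ≤ v → v ≤ 240099 → fs5 v = true := slots_step fs5 239814 285 240099 s5u813 s5c814 rfl
theorem s5u815 : ∀ v, 1 ≤ v → v ≤ 240371 → fs5 v = true := slots_step fs5 240099 272 240371 s5u814 s5c815 rfl
theorem s5u816 : ∀ v, 1 ≤ v → v ≤ 240666 → fs5 v = true := slots_step fs5 240371 295 240666 s5u815 s5c816 rfl
theorem s5u817 : ∀ v, 1 ≤ v → v ≤ 240960 → fs5 v = true := slots_step fs5 240666 294 240960 s5u816 s5c817 rfl
theorem s5u818 : ∀ v, 1 ≤ v → v ≤ 241248 → fs5 v = true := slots_step fs5 240960 288 241248 s5u817 s5c818 rfl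
theorem s5u819 : ∀ v, 1 ≤ v → v ≤ 241542 → fs5 v = true := slots_step fs5 241248 294 241542 s5u818 s5c819 rfl
theorem s5u820 : ∀ v, 1 ≤ v → v ≤ 241835 → fs5 v = true := slots_step fs5 241542 293 241835 s5u819 s5c820 rfl
theorem s5u821 : ∀ v, 1 ≤ v → v ≤ 242118 → fs5 v = true := slots_step fs5 241835 283 242118 s5u820 s5c821 rfl
theorem s5u822 : ∀ v, 1 ≤ v → v ≤ 242410 → fs5 v = true := slots_step fs5 242118 292 242410 s5u821 s5c822 rfl
theorem s5u823 : ∀ v, 1 ≤ v → v ≤ 242693 → fs5 v = true := slots_step fs5 242410 283 242693 s5u822 s5c823 rfl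
theorem s5u824 : ∀ v, 1 ≤ v → v ≤ 242973 → fs5 v = true := slots_step fs5 242693 280 242973 s5u823 s5c824 rfl
theorem s5u825 : ∀ v, 1 ≤ v → v ≤ 243255 → fs5 v = true := slots_step fs5 242973 282 243255 s5u824 s5c825 rfl
theorem s5u826 : ∀ v, 1 ≤ v → v ≤ 243530 → fs5 v = true := slots_step fs5 243255 275 243530 s5u825 s5c826 rfl
theorem s5u827 : ∀ v, 1 ≤ v → v ≤ 243827 → fs5 v = true := slots_step fs5 243530 297 243827 s5u826 s5c827 rfl
theorem s5u828 : ∀ v, 1 ≤ v → v ≤ 244114 → fs5 v = true := slots_step fs5 243827 287 244114 s5u827 s5c828 rfl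
theorem s5u829 : ∀ v, 1 ≤ v → v ≤ 244396 → fs5 v = true := slots_step fs5 244114 282 244396 s5u828 s5c829 rfl
theorem s5u830 : ∀ v, 1 ≤ v → v ≤ 244691 → fs5 v = true := slots_step fs5 244396 295 244691 s5u829 s5c830 rfl
theorem s5u831 : ∀ v, 1 ≤ v → v ≤ 244988 → fs5 v = true := slots_step fs5 244691 297 244988 s5u830 s5c831 rfl
theorem s5u832 : ∀ v, 1 ≤ v → v ≤ 245242 → fs5 v = true := slots_step fs5 244988 254 245242 s5u831 s5c832 rfl
theorem s5u833 : ∀ v, 1 ≤ v → v ≤ 245489 → fs5 v = true := slots_step fs5 245242 247 245489 s5u832 s5c833 rfl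
theorem s5u834 : ∀ v, 1 ≤ v → v ≤ 245760 → fs5 v = true := slots_step fs5 245489 271 245760 s5u833 s5c834 rfl
theorem s5u835 : ∀ v, 1 ≤ v → v ≤ 246013 → fs5 v = true := slots_step fs5 245760 253 246013 s5u834 s5c835 rfl
theorem s5u836 : ∀ v, 1 ≤ v → v ≤ 246283 → fs5 v = true := slots_step fs5 246013 270 246283 s5u835 s5c836 rfl
theorem s5u837 : ∀ v, 1 ≤ v → v ≤ 246564 → fs5 v = true := slots_step fs5 246283 281 246564 s5u836 s5c837 rfl
theorem s5u838 : ∀ v, 1 ≤ v → v ≤ 246843 → fs5 v = true := slots_step fs5 246564 279 246843 s5u837 s5c838 rfl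
theorem s5u839 : ∀ v, 1 ≤ v → v ≤ 247115 → fs5 v = true := slots_step fs5 246843 272 247115 s5u838 s5c839 rfl
theorem s5u840 : ∀ v, 1 ≤ v → v ≤ 247390 → fs5 v = true := slots_step fs5 247115 275 247390 s5u839 s5c840 rfl
theorem s5u841 : ∀ v, 1 ≤ v → v ≤ 247663 → fs5 v = true := slots_step fs5 247390 273 247663 s5u840 s5c841 rfl
theorem s5u842 : ∀ v, 1 ≤ v → v ≤ 247934 → fs5 v = true := slots_step fs5 247663 271 247934 s5u841 s5c842 rfl
theorem s5u843 : ∀ v, 1 ≤ v → v ≤ 248203 → fs5 v = true := slots_step fs5 247934 269 248203 s5u842 s5c843 rfl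
theorem s5u844 : ∀ v, 1 ≤ v → v ≤ 248476 → fs5 v = true := slots_step fs5 248203 273 248476 s5u843 s5c844 rfl
theorem s5u845 : ∀ v, 1 ≤ v → v ≤ 248742 → fs5 v = true := slots_step fs5 248476 266 248742 s5u844 s5c845 rfl
theorem s5u846 : ∀ v, 1 ≤ v → v ≤ 249011 → fs5 v = true := slots_step fs5 248742 269 249011 s5u845 s5c846 rfl
theorem s5u847 : ∀ v, 1 ≤ v → v ≤ 249271 → fs5 v = true := slots_step fs5 249011 260 249271 s5u846 s5c847 rfl
theorem s5u848 : ∀ v, 1 ≤ v → v ≤ 249537 → fs5 v = true := slots_step fs5 249271 266 249537 s5u847 s5c848 rfl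
theorem s5u849 : ∀ v, 1 ≤ v → v ≤ 249820 → fs5 v = true := slots_step fs5 249537 283 249820 s5u848 s5c849 rfl
theorem s5u850 : ∀ v, 1 ≤ v → v ≤ 250100 → fs5 v = true := slots_step fs5 249820 280 250100 s5u849 s5c850 rfl
theorem s5u851 : ∀ v, 1 ≤ v → v ≤ 250373 → fs5 v = true := slots_step fs5 250100 273 250373 s5u850 s5c851 rfl
theorem s5u852 : ∀ v, 1 ≤ v → v ≤ 250643 → fs5 v = true := slots_step fs5 250373 270 250643 s5u851 s5c852 rfl
theorem s5u853 : ∀ v, 1 ≤ v → v ≤ 250920 → fs5 v = true := slots_step fs5 250643 277 250920 s5u852 s5c853 rfl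
theorem s5u854 : ∀ v, 1 ≤ v → v ≤ 251197 → fs5 v = true := slots_step fs5 250920 277 251197 s5u853 s5c854 rfl
theorem s5u855 : ∀ v, 1 ≤ v → v ≤ 251462 → fs5 v = true := slots_step fs5 251197 265 251462 s5u854 s5c855 rfl
theorem s5u856 : ∀ v, 1 ≤ v → v ≤ 251734 → fs5 v = true := slots_step fs5 251462 272 251734 s5u855 s5c856 rfl
theorem s5u857 : ∀ v, 1 ≤ v → v ≤ 252012 → fs5 v = true := slots_step fs5 251734 278 252012 s5u856 s5c857 rfl
theorem s5u858 : ∀ v, 1 ≤ v → v ≤ 252280 → fs5 v = true := slots_step fs5 252012 268 252280 s5u857 s5c858 rfl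
theorem s5u859 : ∀ v, 1 ≤ v → v ≤ 252553 → fs5 v = true := slots_step fs5 252280 273 252553 s5u858 s5c859 rfl
theorem s5u860 : ∀ v, 1 ≤ v → v ≤ 252834 → fs5 v = true := slots_step fs5 252553 281 252834 s5u859 s5c860 rfl
theorem s5u861 : ∀ v, 1 ≤ v → v ≤ 253102 → fs5 v = true := slots_step fs5 252834 268 253102 s5u860 s5c861 rfl
theorem s5u862 : ∀ v, 1 ≤ v → v ≤ 253378 → fs5 v = true := slots_step fs5 253102 276 253378 s5u861 s5c862 rfl
theorem s5u863 : ∀ v, 1 ≤ v → v ≤ 253654 → fs5 v = true := slots_step fs5 253378 276 253654 s5u862 s5c863 rfl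
theorem s5u864 : ∀ v, 1 ≤ v → v ≤ 253935 → fs5 v = true := slots_step fs5 253654 281 253935 s5u863 s5c864 rfl
theorem s5u865 : ∀ v, 1 ≤ v → v ≤ 254215 → fs5 v = true := slots_step fs5 253935 280 254215 s5u864 s5c865 rfl
theorem s5u866 : ∀ v, 1 ≤ v → v ≤ 254492 → fs5 v = true := slots_step fs5 254215 277 254492 s5u865 s5c866 rfl
theorem s5u867 : ∀ v, 1 ≤ v → v ≤ 254770 → fs5 v = true := slots_step fs5 254492 278 254770 s5u866 s5c867 rfl
theorem s5u868 : ∀ v, 1 ≤ v → v ≤ 255038 → fs5 v = true := slots_step fs5 254770 268 255038 s5u867 s5c868 rfl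
theorem s5u869 : ∀ v, 1 ≤ v → v ≤ 255311 → fs5 v = true := slots_step fs5 255038 273 255311 s5u868 s5c869 rfl
theorem s5u870 : ∀ v, 1 ≤ v → v ≤ 255587 → fs5 v = true := slots_step fs5 255311 276 255587 s5u869 s5c870 rfl
theorem s5u871 : ∀ v, 1 ≤ v → v ≤ 255869 → fs5 v = true := slots_step fs5 255587 282 255869 s5u870 s5c871 rfl
theorem s5u872 : ∀ v, 1 ≤ v → v ≤ 256134 → fs5 v = true := slots_step fs5 255869 265 256134 s5u871 s5c872 rfl
theorem s5u873 : ∀ v, 1 ≤ v → v ≤ 256409 → fs5 v = true := slots_step fs5 256134 275 256409 s5u872 s5c873 rfl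
theorem s5u874 : ∀ v, 1 ≤ v → v ≤ 256678 → fs5 v = true := slots_step fs5 256409 269 256678 s5u873 s5c874 rfl
theorem s5u875 : ∀ v, 1 ≤ v → v ≤ 256905 → fs5 v = true := slots_step fs5 256678 227 256905 s5u874 s5c875 rfl
theorem s5u876 : ∀ v, 1 ≤ v → v ≤ 257151 → fs5 v = true := slots_step fs5 256905 246 257151 s5u875 s5c876 rfl
theorem s5u877 : ∀ v, 1 ≤ v → v ≤ 257435 → fs5 v = true := slots_step fs5 257151 284 257435 s5u876 s5c877 rfl
theorem s5u878 : ∀ v, 1 ≤ v → v ≤ 257711 → fs5 v = true := slots_step fs5 257435 276 257711 s5u877 s5c878 rfl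
theorem s5u879 : ∀ v, 1 ≤ v → v ≤ 257998 → fs5 v = true := slots_step fs5 257711 287 257998 s5u878 s5c879 rfl
theorem s5u880 : ∀ v, 1 ≤ v → v ≤ 258279 → fs5 v = true := slots_step fs5 257998 281 258279 s5u879 s5c880 rfl
theorem s5u881 : ∀ v, 1 ≤ v → v ≤ 258558 → fs5 v = true := slots_step fs5 258279 279 258558 s5u880 s5c881 rfl
theorem s5u882 : ∀ v, 1 ≤ v → v ≤ 258828 → fs5 v = true := slots_step fs5 258558 270 258828 s5u881 s5c882 rfl
theorem s5u883 : ∀ v, 1 ≤ v → v ≤ 259100 → fs5 v = true := slots_step fs5 258828 272 259100 s5u882 s5c883 rfl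
theorem s5u884 : ∀ v, 1 ≤ v → v ≤ 259370 → fs5 v = true := slots_step fs5 259100 270 259370 s5u883 s5c884 rfl
theorem s5u885 : ∀ v, 1 ≤ v → v ≤ 259648 → fs5 v = true := slots_step fs5 259370 278 259648 s5u884 s5c885 rfl
theorem s5u886 : ∀ v, 1 ≤ v → v ≤ 259925 → fs5 v = true := slots_step fs5 259648 277 259925 s5u885 s5c886 rfl
theorem s5u887 : ∀ v, 1 ≤ v → v ≤ 260197 → fs5 v = true := slots_step fs5 259925 272 260197 s5u886 s5c887 rfl
theorem s5u888 : ∀ v, 1 ≤ v → v ≤ 260485 → fs5 v = true := slots_step fs5 260197 288 260485 s5u887 s5c888 rfl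
theorem s5u889 : ∀ v, 1 ≤ v → v ≤ 260767 → fs5 v = true := slots_step fs5 260485 282 260767 s5u888 s5c889 rfl
theorem s5u890 : ∀ v, 1 ≤ v → v ≤ 261043 → fs5 v = true := slots_step fs5 260767 276 261043 s5u889 s5c890 rfl
theorem s5u891 : ∀ v, 1 ≤ v → v ≤ 261324 → fs5 v = true := slots_step fs5 261043 281 261324 s5u890 s5c891 rfl
theorem s5u892 : ∀ v, 1 ≤ v → v ≤ 261597 → fs5 v = true := slots_step fs5 261324 273 261597 s5u891 s5c892 rfl
theorem s5u893 : ∀ v, 1 ≤ v → v ≤ 261869 → fs5 v = true := slots_step fs5 261597 272 261869 s5u892 s5c893 rfl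
theorem s5u894 : ∀ v, 1 ≤ v → v ≤ 262139 → fs5 v = true := slots_step fs5 261869 270 262139 s5u893 s5c894 rfl
theorem s5u895 : ∀ v, 1 ≤ v → v ≤ 262396 → fs5 v = true := slots_step fs5 262139 257 262396 s5u894 s5c895 rfl
theorem s5u896 : ∀ v, 1 ≤ v → v ≤ 262685 → fs5 v = true := slots_step fs5 262396 289 262685 s5u895 s5c896 rfl
theorem s5u897 : ∀ v, 1 ≤ v → v ≤ 262970 → fs5 v = true := slots_step fs5 262685 285 262970 s5u896 s5c897 rfl
theorem s5u898 : ∀ v, 1 ≤ v → v ≤ 263234 → fs5 v = true := slots_step fs5 262970 264 263234 s5u897 s5c898 rfl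
theorem s5u899 : ∀ v, 1 ≤ v → v ≤ 263517 → fs5 v = true := slots_step fs5 263234 283 263517 s5u898 s5c899 rfl
theorem s5u900 : ∀ v, 1 ≤ v → v ≤ 263796 → fs5 v = true := slots_step fs5 263517 279 263796 s5u899 s5c900 rfl
theorem s5u901 : ∀ v, 1 ≤ v → v ≤ 264073 → fs5 v = true := slots_step fs5 263796 277 264073 s5u900 s5c901 rfl
theorem s5u902 : ∀ v, 1 ≤ v → v ≤ 264344 → fs5 v = true := slots_step fs5 264073 271 264344 s5u901 s5c902 rfl
theorem s5u903 : ∀ v, 1 ≤ v → v ≤ 264625 → fs5 v = true := slots_step fs5 264344 281 264625 s5u902 s5c903 rfl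
theorem s5u904 : ∀ v, 1 ≤ v → v ≤ 264905 → fs5 v = true := slots_step fs5 264625 280 264905 s5u903 s5c904 rfl
theorem s5u905 : ∀ v, 1 ≤ v → v ≤ 265165 → fs5 v = true := slots_step fs5 264905 260 265165 s5u904 s5c905 rfl
theorem s5u906 : ∀ v, 1 ≤ v → v ≤ 265439 → fs5 v = true := slots_step fs5 265165 274 265439 s5u905 s5c906 rfl
theorem s5u907 : ∀ v, 1 ≤ v → v ≤ 265719 → fs5 v = true := slots_step fs5 265439 280 265719 s5u906 s5c907 rfl
theorem s5u908 : ∀ v, 1 ≤ v → v ≤ 266011 → fs5 v = true := slots_step fs5 265719 292 266011 s5u907 s5c908 rfl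
theorem s5u909 : ∀ v, 1 ≤ v → v ≤ 266300 → fs5 v = true := slots_step fs5 266011 289 266300 s5u908 s5c909 rfl
theorem s5u910 : ∀ v, 1 ≤ v → v ≤ 266584 → fs5 v = true := slots_step fs5 266300 284 266584 s5u909 s5c910 rfl
theorem s5u911 : ∀ v, 1 ≤ v → v ≤ 266869 → fs5 v = true := slots_step fs5 266584 285 266869 s5u910 s5c911 rfl
theorem s5u912 : ∀ v, 1 ≤ v → v ≤ 267155 → fs5 v = true := slots_step fs5 266869 286 267155 s5u911 s5c912 rfl
theorem s5u913 : ∀ v, 1 ≤ v → v ≤ 267437 → fs5 v = true := slots_step fs5 267155 282 267437 s5u912 s5c913 rfl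
theorem s5u914 : ∀ v, 1 ≤ v → v ≤ 267704 → fs5 v = true := slots_step fs5 267437 267 267704 s5u913 s5c914 rfl
theorem s5u915 : ∀ v, 1 ≤ v → v ≤ 267984 → fs5 v = true := slots_step fs5 267704 280 267984 s5u914 s5c915 rfl
theorem s5u916 : ∀ v, 1 ≤ v → v ≤ 268250 → fs5 v = true := slots_step fs5 267984 266 268250 s5u915 s5c916 rfl
theorem s5u917 : ∀ v, 1 ≤ v → v ≤ 268508 → fs5 v = true := slots_step fs5 268250 258 268508 s5u916 s5c917 rfl
theorem s5u918 : ∀ v, 1 ≤ v → v ≤ 268776 → fs5 v = true := slots_step fs5 268508 268 268776 s5u917 s5c918 rfl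
theorem s5u919 : ∀ v, 1 ≤ v → v ≤ 269039 → fs5 v = true := slots_step fs5 268776 263 269039 s5u918 s5c919 rfl
theorem s5u920 : ∀ v, 1 ≤ v → v ≤ 269324 → fs5 v = true := slots_step fs5 269039 285 269324 s5u919 s5c920 rfl
theorem s5u921 : ∀ v, 1 ≤ v → v ≤ 269620 → fs5 v = true := slots_step fs5 269324 296 269620 s5u920 s5c921 rfl
theorem s5u922 : ∀ v, 1 ≤ v → v ≤ 269912 → fs5 v = true := slots_step fs5 269620 292 269912 s5u921 s5c922 rfl
theorem s5u923 : ∀ v, 1 ≤ v → v ≤ 270218 → fs5 v = true := slots_step fs5 269912 306 270218 s5u922 s5c923 rfl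
theorem s5u924 : ∀ v, 1 ≤ v → v ≤ 270496 → fs5 v = true := slots_step fs5 270218 278 270496 s5u923 s5c924 rfl
theorem s5u925 : ∀ v, 1 ≤ v → v ≤ 270747 → fs5 v = true := slots_step fs5 270496 251 270747 s5u924 s5c925 rfl
theorem s5u926 : ∀ v, 1 ≤ v → v ≤ 271027 → fs5 v = true := slots_step fs5 270747 280 271027 s5u925 s5c926 rfl
theorem s5u927 : ∀ v, 1 ≤ v → v ≤ 271301 → fs5 v = true := slots_step fs5 271027 274 271301 s5u926 s5c927 rfl
theorem s5u928 : ∀ v, 1 ≤ v → v ≤ 271576 → fs5 v = true := slots_step fs5 271301 275 271576 s5u927 s5c928 rfl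
theorem s5u929 : ∀ v, 1 ≤ v → v ≤ 271848 → fs5 v = true := slots_step fs5 271576 272 271848 s5u928 s5c929 rfl
theorem s5u930 : ∀ v, 1 ≤ v → v ≤ 272120 → fs5 v = true := slots_step fs5 271848 272 272120 s5u929 s5c930 rfl
theorem s5u931 : ∀ v, 1 ≤ v → v ≤ 272395 → fs5 v = true := slots_step fs5 272120 275 272395 s5u930 s5c931 rfl
theorem s5u932 : ∀ v, 1 ≤ v → v ≤ 272665 → fs5 v = true := slots_step fs5 272395 270 272665 s5u931 s5c932 rfl
theorem s5u933 : ∀ v, 1 ≤ v → v ≤ 272930 → fs5 v = true := slots_step fs5 272665 265 272930 s5u932 s5c933 rfl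
theorem s5u934 : ∀ v, 1 ≤ v → v ≤ 273200 → fs5 v = true := slots_step fs5 272930 270 273200 s5u933 s5c934 rfl
theorem s5u935 : ∀ v, 1 ≤ v → v ≤ 273475 → fs5 v = true := slots_step fs5 273200 275 273475 s5u934 s5c935 rfl
theorem s5u936 : ∀ v, 1 ≤ v → v ≤ 273744 → fs5 v = true := slots_step fs5 273475 269 273744 s5u935 s5c936 rfl
theorem s5u937 : ∀ v, 1 ≤ v → v ≤ 274012 → fs5 v = true := slots_step fs5 273744 268 274012 s5u936 s5c937 rfl
theorem s5u938 : ∀ v, 1 ≤ v → v ≤ 274267 → fs5 v = true := slots_step fs5 274012 255 274267 s5u937 s5c938 rfl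
theorem s5u939 : ∀ v, 1 ≤ v → v ≤ 274527 → fs5 v = true := slots_step fs5 274267 260 274527 s5u938 s5c939 rfl
theorem s5u940 : ∀ v, 1 ≤ v → v ≤ 274785 → fs5 v = true := slots_step fs5 274527 258 274785 s5u939 s5c940 rfl
theorem s5u941 : ∀ v, 1 ≤ v → v ≤ 275055 → fs5 v = true := slots_step fs5 274785 270 275055 s5u940 s5c941 rfl
theorem s5u942 : ∀ v, 1 ≤ v → v ≤ 275317 → fs5 v = true := slots_step fs5 275055 262 275317 s5u941 s5c942 rfl
theorem s5u943 : ∀ v, 1 ≤ v → v ≤ 275581 → fs5 v = true := slots_step fs5 275317 264 275581 s5u942 s5c943 rfl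
theorem s5u944 : ∀ v, 1 ≤ v → v ≤ 275858 → fs5 v = true := slots_step fs5 275581 277 275858 s5u943 s5c944 rfl
theorem s5u945 : ∀ v, 1 ≤ v → v ≤ 276133 → fs5 v = true := slots_step fs5 275858 275 276133 s5u944 s5c945 rfl
theorem s5u946 : ∀ v, 1 ≤ v → v ≤ 276398 → fs5 v = true := slots_step fs5 276133 265 276398 s5u945 s5c946 rfl
theorem s5u947 : ∀ v, 1 ≤ v → v ≤ 276674 → fs5 v = true := slots_step fs5 276398 276 276674 s5u946 s5c947 rfl
theorem s5u948 : ∀ v, 1 ≤ v → v ≤ 276943 → fs5 v = true := slots_step fs5 276674 269 276943 s5u947 s5c948 rfl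
theorem s5u949 : ∀ v, 1 ≤ v → v ≤ 277195 → fs5 v = true := slots_step fs5 276943 252 277195 s5u948 s5c949 rfl
theorem s5u950 : ∀ v, 1 ≤ v → v ≤ 277440 → fs5 v = true := slots_step fs5 277195 245 277440 s5u949 s5c950 rfl
theorem s5u951 : ∀ v, 1 ≤ v → v ≤ 277725 → fs5 v = true := slots_step fs5 277440 285 277725 s5u950 s5c951 rfl
theorem s5u952 : ∀ v, 1 ≤ v → v ≤ 277993 → fs5 v = true := slots_step fs5 277725 268 277993 s5u951 s5c952 rfl
theorem s5u953 : ∀ v, 1 ≤ v → v ≤ 278260 → fs5 v = true := slots_step fs5 277993 267 278260 s5u952 s5c953 rfl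
theorem s5u954 : ∀ v, 1 ≤ v → v ≤ 278524 → fs5 v = true := slots_step fs5 278260 264 278524 s5u953 s5c954 rfl
theorem s5u955 : ∀ v, 1 ≤ v → v ≤ 278779 → fs5 v = true := slots_step fs5 278524 255 278779 s5u954 s5c955 rfl
theorem s5u956 : ∀ v, 1 ≤ v → v ≤ 279048 → fs5 v = true := slots_step fs5 278779 269 279048 s5u955 s5c956 rfl
theorem s5u957 : ∀ v, 1 ≤ v → v ≤ 279323 → fs5 v = true := slots_step fs5 279048 275 279323 s5u956 s5c957 rfl
theorem s5u958 : ∀ v, 1 ≤ v → v ≤ 279597 → fs5 v = true := slots_step fs5 279323 274 279597 s5u957 s5c958 rfl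
theorem s5u959 : ∀ v, 1 ≤ v → v ≤ 279875 → fs5 v = true := slots_step fs5 279597 278 279875 s5u958 s5c959 rfl
theorem s5u960 : ∀ v, 1 ≤ v → v ≤ 280132 → fs5 v = true := slots_step fs5 279875 257 280132 s5u959 s5c960 rfl
theorem s5u961 : ∀ v, 1 ≤ v → v ≤ 280404 → fs5 v = true := slots_step fs5 280132 272 280404 s5u960 s5c961 rfl
theorem s5u962 : ∀ v, 1 ≤ v → v ≤ 280670 → fs5 v = true := slots_step fs5 280404 266 280670 s5u961 s5c962 rfl
theorem s5u963 : ∀ v, 1 ≤ v → v ≤ 280927 → fs5 v = true := slots_step fs5 280670 257 280927 s5u962 s5c963 rfl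
theorem s5u964 : ∀ v, 1 ≤ v → v ≤ 281188 → fs5 v = true := slots_step fs5 280927 261 281188 s5u963 s5c964 rfl
theorem s5u965 : ∀ v, 1 ≤ v → v ≤ 281467 → fs5 v = true := slots_step fs5 281188 279 281467 s5u964 s5c965 rfl
theorem s5u966 : ∀ v, 1 ≤ v → v ≤ 281752 → fs5 v = true := slots_step fs5 281467 285 281752 s5u965 s5c966 rfl
theorem s5u967 : ∀ v, 1 ≤ v → v ≤ 282028 → fs5 v = true := slots_step fs5 281752 276 282028 s5u966 s5c967 rfl
theorem s5u968 : ∀ v, 1 ≤ v → v ≤ 282311 → fs5 v = true := slots_step fs5 282028 283 282311 s5u967 s5c968 rfl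
theorem s5u969 : ∀ v, 1 ≤ v → v ≤ 282539 → fs5 v = true := slots_step fs5 282311 228 282539 s5u968 s5c969 rfl
theorem s5u970 : ∀ v, 1 ≤ v → v ≤ 282793 → fs5 v = true := slots_step fs5 282539 254 282793 s5u969 s5c970 rfl
theorem s5u971 : ∀ v, 1 ≤ v → v ≤ 283056 → fs5 v = true := slots_step fs5 282793 263 283056 s5u970 s5c971 rfl
theorem s5u972 : ∀ v, 1 ≤ v → v ≤ 283320 → fs5 v = true := slots_step fs5 283056 264 283320 s5u971 s5c972 rfl
theorem s5u973 : ∀ v, 1 ≤ v → v ≤ 283595 → fs5 v = true := slots_step fs5 283320 275 283595 s5u972 s5c973 rfl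
theorem s5u974 : ∀ v, 1 ≤ v → v ≤ 283855 → fs5 v = true := slots_step fs5 283595 260 283855 s5u973 s5c974 rfl
theorem s5u975 : ∀ v, 1 ≤ v → v ≤ 284113 → fs5 v = true := slots_step fs5 283855 258 284113 s5u974 s5c975 rfl
theorem s5u976 : ∀ v, 1 ≤ v → v ≤ 284367 → fs5 v = true := slots_step fs5 284113 254 284367 s5u975 s5c976 rfl
theorem s5u977 : ∀ v, 1 ≤ v → v ≤ 284623 → fs5 v = true := slots_step fs5 284367 256 284623 s5u976 s5c977 rfl
theorem s5u978 : ∀ v, 1 ≤ v → v ≤ 284894 → fs5 v = true := slots_step fs5 284623 271 284894 s5u977 s5c978 rfl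
theorem s5u979 : ∀ v, 1 ≤ v → v ≤ 285153 → fs5 v = true := slots_step fs5 284894 259 285153 s5u978 s5c979 rfl
theorem s5u980 : ∀ v, 1 ≤ v → v ≤ 285399 → fs5 v = true := slots_step fs5 285153 246 285399 s5u979 s5c980 rfl
theorem s5u981 : ∀ v, 1 ≤ v → v ≤ 285652 → fs5 v = true := slots_step fs5 285399 253 285652 s5u980 s5c981 rfl
theorem s5u982 : ∀ v, 1 ≤ v → v ≤ 285931 → fs5 v = true := slots_step fs5 285652 279 285931 s5u981 s5c982 rfl
theorem s5u983 : ∀ v, 1 ≤ v → v ≤ 286206 → fs5 v = true := slots_step fs5 285931 275 286206 s5u982 s5c983 rfl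
theorem s5u984 : ∀ v, 1 ≤ v → v ≤ 286476 → fs5 v = true := slots_step fs5 286206 270 286476 s5u983 s5c984 rfl
theorem s5u985 : ∀ v, 1 ≤ v → v ≤ 286732 → fs5 v = true := slots_step fs5 286476 256 286732 s5u984 s5c985 rfl
theorem s5u986 : ∀ v, 1 ≤ v → v ≤ 287010 → fs5 v = true := slots_step fs5 286732 278 287010 s5u985 s5c986 rfl
theorem s5u987 : ∀ v, 1 ≤ v → v ≤ 287283 → fs5 v = true := slots_step fs5 287010 273 287283 s5u986 s5c987 rfl
theorem s5u988 : ∀ v, 1 ≤ v → v ≤ 287539 → fs5 v = true := slots_step fs5 287283 256 287539 s5u987 s5c988 rfl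
theorem s5u989 : ∀ v, 1 ≤ v → v ≤ 287797 → fs5 v = true := slots_step fs5 287539 258 287797 s5u988 s5c989 rfl
theorem s5u990 : ∀ v, 1 ≤ v → v ≤ 288040 → fs5 v = true := slots_step fs5 287797 243 288040 s5u989 s5c990 rfl
theorem s5u991 : ∀ v, 1 ≤ v → v ≤ 288295 → fs5 v = true := slots_step fs5 288040 255 288295 s5u990 s5c991 rfl
theorem s5u992 : ∀ v, 1 ≤ v → v ≤ 288568 → fs5 v = true := slots_step fs5 288295 273 288568 s5u991 s5c992 rfl
theorem s5u993 : ∀ v, 1 ≤ v → v ≤ 288841 → fs5 v = true := slots_step fs5 288568 273 288841 s5u992 s5c993 rfl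
theorem s5u994 : ∀ v, 1 ≤ v → v ≤ 289116 → fs5 v = true := slots_step fs5 288841 275 289116 s5u993 s5c994 rfl
theorem s5u995 : ∀ v, 1 ≤ v → v ≤ 289388 → fs5 v = true := slots_step fs5 289116 272 289388 s5u994 s5c995 rfl
theorem s5u996 : ∀ v, 1 ≤ v → v ≤ 289649 → fs5 v = true := slots_step fs5 289388 261 289649 s5u995 s5c996 rfl
theorem s5u997 : ∀ v, 1 ≤ v → v ≤ 289913 → fs5 v = true := slots_step fs5 289649 264 289913 s5u996 s5c997 rfl
theorem s5u998 : ∀ v, 1 ≤ v → v ≤ 290167 → fs5 v = true := slots_step fs5 289913 254 290167 s5u997 s5c998 rfl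
theorem s5u999 : ∀ v, 1 ≤ v → v ≤ 290421 → fs5 v = true := slots_step fs5 290167 254 290421 s5u998 s5c999 rfl
theorem s5u1000 : ∀ v, 1 ≤ v → v ≤ 290689 → fs5 v = true := slots_step fs5 290421 268 290689 s5u999 s5c1000 rfl
theorem s5u1001 : ∀ v, 1 ≤ v → v ≤ 290936 → fs5 v = true := slots_step fs5 290689 247 290936 s5u1000 s5c1001 rfl
theorem s5u1002 : ∀ v, 1 ≤ v → v ≤ 291219 → fs5 v = true := slots_step fs5 290936 283 291219 s5u1001 s5c1002 rfl
theorem s5u1003 : ∀ v, 1 ≤ v → v ≤ 291495 → fs5 v = true := slots_step fs5 291219 276 291495 s5u1002 s5c1003 rfl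
theorem s5u1004 : ∀ v, 1 ≤ v → v ≤ 291785 → fs5 v = true := slots_step fs5 291495 290 291785 s5u1003 s5c1004 rfl
theorem s5u1005 : ∀ v, 1 ≤ v → v ≤ 292054 → fs5 v = true := slots_step fs5 291785 269 292054 s5u1004 s5c1005 rfl
theorem s5u1006 : ∀ v, 1 ≤ v → v ≤ 292326 → fs5 v = true := slots_step fs5 292054 272 292326 s5u1005 s5c1006 rfl
theorem s5u1007 : ∀ v, 1 ≤ v → v ≤ 292595 → fs5 v = true := slots_step fs5 292326 269 292595 s5u1006 s5c1007 rfl
theorem s5u1008 : ∀ v, 1 ≤ v → v ≤ 292854 → fs5 v = true := slots_step fs5 292595 259 292854 s5u1007 s5c1008 rfl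
theorem s5u1009 : ∀ v, 1 ≤ v → v ≤ 293109 → fs5 v = true := slots_step fs5 292854 255 293109 s5u1008 s5c1009 rfl
theorem s5u1010 : ∀ v, 1 ≤ v → v ≤ 293368 → fs5 v = true := slots_step fs5 293109 259 293368 s5u1009 s5c1010 rfl
theorem s5u1011 : ∀ v, 1 ≤ v → v ≤ 293637 → fs5 v = true := slots_step fs5 293368 269 293637 s5u1010 s5c1011 rfl
theorem s5u1012 : ∀ v, 1 ≤ v → v ≤ 293894 → fs5 v = true := slots_step fs5 293637 257 293894 s5u1011 s5c1012 rfl
theorem s5u1013 : ∀ v, 1 ≤ v → v ≤ 294148 → fs5 v = true := slots_step fs5 293894 254 294148 s5u1012 s5c1013 rfl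
theorem s5u1014 : ∀ v, 1 ≤ v → v ≤ 294402 → fs5 v = true := slots_step fs5 294148 254 294402 s5u1013 s5c1014 rfl
theorem s5u1015 : ∀ v, 1 ≤ v → v ≤ 294694 → fs5 v = true := slots_step fs5 294402 292 294694 s5u1014 s5c1015 rfl
theorem s5u1016 : ∀ v, 1 ≤ v → v ≤ 294977 → fs5 v = true := slots_step fs5 294694 283 294977 s5u1015 s5c1016 rfl
theorem s5u1017 : ∀ v, 1 ≤ v → v ≤ 295272 → fs5 v = true := slots_step fs5 294977 295 295272 s5u1016 s5c1017 rfl
theorem s5u1018 : ∀ v, 1 ≤ v → v ≤ 295560 → fs5 v = true := slots_step fs5 295272 288 295560 s5u1017 s5c1018 rfl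
theorem s5u1019 : ∀ v, 1 ≤ v → v ≤ 295830 → fs5 v = true := slots_step fs5 295560 270 295830 s5u1018 s5c1019 rfl
theorem s5u1020 : ∀ v, 1 ≤ v → v ≤ 296120 → fs5 v = true := slots_step fs5 295830 290 296120 s5u1019 s5c1020 rfl
theorem s5u1021 : ∀ v, 1 ≤ v → v ≤ 296383 → fs5 v = true := slots_step fs5 296120 263 296383 s5u1020 s5c1021 rfl
theorem s5u1022 : ∀ v, 1 ≤ v → v ≤ 296645 → fs5 v = true := slots_step fs5 296383 262 296645 s5u1021 s5c1022 rfl
theorem s5u1023 : ∀ v, 1 ≤ v → v ≤ 296900 → fs5 v = true := slots_step fs5 296645 255 296900 s5u1022 s5c1023 rfl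
theorem s5u1024 : ∀ v, 1 ≤ v → v ≤ 297161 → fs5 v = true := slots_step fs5 296900 261 297161 s5u1023 s5c1024 rfl
theorem s5u1025 : ∀ v, 1 ≤ v → v ≤ 297426 → fs5 v = true := slots_step fs5 297161 265 297426 s5u1024 s5c1025 rfl
theorem s5u1026 : ∀ v, 1 ≤ v → v ≤ 297685 → fs5 v = true := slots_step fs5 297426 259 297685 s5u1025 s5c1026 rfl
theorem s5u1027 : ∀ v, 1 ≤ v → v ≤ 297950 → fs5 v = true := slots_step fs5 297685 265 297950 s5u1026 s5c1027 rfl
theorem s5u1028 : ∀ v, 1 ≤ v → v ≤ 298201 → fs5 v = true := slots_step fs5 297950 251 298201 s5u1027 s5c1028 rfl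
theorem s5u1029 : ∀ v, 1 ≤ v → v ≤ 298474 → fs5 v = true := slots_step fs5 298201 273 298474 s5u1028 s5c1029 rfl
theorem s5u1030 : ∀ v, 1 ≤ v → v ≤ 298737 → fs5 v = true := slots_step fs5 298474 263 298737 s5u1029 s5c1030 rfl
theorem s5u1031 : ∀ v, 1 ≤ v → v ≤ 298982 → fs5 v = true := slots_step fs5 298737 245 298982 s5u1030 s5c1031 rfl
theorem s5u1032 : ∀ v, 1 ≤ v → v ≤ 299241 → fs5 v = true := slots_step fs5 298982 259 299241 s5u1031 s5c1032 rfl
theorem s5u1033 : ∀ v, 1 ≤ v → v ≤ 299474 → fs5 v = true := slots_step fs5 299241 233 299474 s5u1032 s5c1033 rfl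
theorem s5u1034 : ∀ v, 1 ≤ v → v ≤ 299724 → fs5 v = true := slots_step fs5 299474 250 299724 s5u1033 s5c1034 rfl
theorem s5u1035 : ∀ v, 1 ≤ v → v ≤ 299973 → fs5 v = true := slots_step fs5 299724 249 299973 s5u1034 s5c1035 rfl
theorem s5u1036 : ∀ v, 1 ≤ v → v ≤ 300213 → fs5 v = true := slots_step fs5 299973 240 300213 s5u1035 s5c1036 rfl
theorem s5u1037 : ∀ v, 1 ≤ v → v ≤ 300456 → fs5 v = true := slots_step fs5 300213 243 300456 s5u1036 s5c1037 rfl
theorem s5u1038 : ∀ v, 1 ≤ v → v ≤ 300719 → fs5 v = true := slots_step fs5 300456 263 300719 s5u1037 s5c1038 rfl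
theorem s5u1039 : ∀ v, 1 ≤ v → v ≤ 300987 → fs5 v = true := slots_step fs5 300719 268 300987 s5u1038 s5c1039 rfl
theorem s5u1040 : ∀ v, 1 ≤ v → v ≤ 301256 → fs5 v = true := slots_step fs5 300987 269 301256 s5u1039 s5c1040 rfl
theorem s5u1041 : ∀ v, 1 ≤ v → v ≤ 301500 → fs5 v = true := slots_step fs5 301256 244 301500 s5u1040 s5c1041 rfl
theorem s5u1042 : ∀ v, 1 ≤ v → v ≤ 301770 → fs5 v = true := slots_step fs5 301500 270 301770 s5u1041 s5c1042 rfl
theorem s5u1043 : ∀ v, 1 ≤ v → v ≤ 302030 → fs5 v = true := slots_step fs5 301770 260 302030 s5u1042 s5c1043 rfl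
theorem s5u1044 : ∀ v, 1 ≤ v → v ≤ 302275 → fs5 v = true := slots_step fs5 302030 245 302275 s5u1043 s5c1044 rfl
theorem s5u1045 : ∀ v, 1 ≤ v → v ≤ 302509 → fs5 v = true := slots_step fs5 302275 234 302509 s5u1044 s5c1045 rfl
theorem s5u1046 : ∀ v, 1 ≤ v → v ≤ 302775 → fs5 v = true := slots_step fs5 302509 266 302775 s5u1045 s5c1046 rfl
theorem s5u1047 : ∀ v, 1 ≤ v → v ≤ 303043 → fs5 v = true := slots_step fs5 302775 268 303043 s5u1046 s5c1047 rfl
theorem s5u1048 : ∀ v, 1 ≤ v → v ≤ 303296 → fs5 v = true := slots_step fs5 303043 253 303296 s5u1047 s5c1048 rfl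
theorem s5u1049 : ∀ v, 1 ≤ v → v ≤ 303502 → fs5 v = true := slots_step fs5 303296 206 303502 s5u1048 s5c1049 rfl
theorem s5u1050 : ∀ v, 1 ≤ v → v ≤ 303749 → fs5 v = true := slots_step fs5 303502 247 303749 s5u1049 s5c1050 rfl
theorem s5u1051 : ∀ v, 1 ≤ v → v ≤ 304016 → fs5 v = true := slots_step fs5 303749 267 304016 s5u1050 s5c1051 rfl
theorem s5u1052 : ∀ v, 1 ≤ v → v ≤ 304271 → fs5 v = true := slots_step fs5 304016 255 304271 s5u1051 s5c1052 rfl
theorem s5u1053 : ∀ v, 1 ≤ v → v ≤ 304533 → fs5 v = true := slots_step fs5 304271 262 304533 s5u1052 s5c1053 rfl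
theorem s5u1054 : ∀ v, 1 ≤ v → v ≤ 304783 → fs5 v = true := slots_step fs5 304533 250 304783 s5u1053 s5c1054 rfl
theorem s5u1055 : ∀ v, 1 ≤ v → v ≤ 305023 → fs5 v = true := slots_step fs5 304783 240 305023 s5u1054 s5c1055 rfl
theorem s5u1056 : ∀ v, 1 ≤ v → v ≤ 305270 → fs5 v = true := slots_step fs5 305023 247 305270 s5u1055 s5c1056 rfl
theorem s5u1057 : ∀ v, 1 ≤ v → v ≤ 305516 → fs5 v = true := slots_step fs5 305270 246 305516 s5u1056 s5c1057 rfl
theorem s5u1058 : ∀ v, 1 ≤ v → v ≤ 305760 → fs5 v = true := slots_step fs5 305516 244 305760 s5u1057 s5c1058 rfl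
theorem s5u1059 : ∀ v, 1 ≤ v → v ≤ 306021 → fs5 v = true := slots_step fs5 305760 261 306021 s5u1058 s5c1059 rfl
theorem s5u1060 : ∀ v, 1 ≤ v → v ≤ 306298 → fs5 v = true := slots_step fs5 306021 277 306298 s5u1059 s5c1060 rfl
theorem s5u1061 : ∀ v, 1 ≤ v → v ≤ 306569 → fs5 v = true := slots_step fs5 306298 271 306569 s5u1060 s5c1061 rfl
theorem s5u1062 : ∀ v, 1 ≤ v → v ≤ 306850 → fs5 v = true := slots_step fs5 306569 281 306850 s5u1061 s5c1062 rfl
theorem s5u1063 : ∀ v, 1 ≤ v → v ≤ 307107 → fs5 v = true := slots_step fs5 306850 257 307107 s5u1062 s5c1063 rfl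
theorem s5u1064 : ∀ v, 1 ≤ v → v ≤ 307367 → fs5 v = true := slots_step fs5 307107 260 307367 s5u1063 s5c1064 rfl
theorem s5u1065 : ∀ v, 1 ≤ v → v ≤ 307630 → fs5 v = true := slots_step fs5 307367 263 307630 s5u1064 s5c1065 rfl
theorem s5u1066 : ∀ v, 1 ≤ v → v ≤ 307885 → fs5 v = true := slots_step fs5 307630 255 307885 s5u1065 s5c1066 rfl
theorem s5u1067 : ∀ v, 1 ≤ v → v ≤ 308139 → fs5 v = true := slots_step fs5 307885 254 308139 s5u1066 s5c1067 rfl
theorem s5u1068 : ∀ v, 1 ≤ v → v ≤ 308378 → fs5 v = true := slots_step fs5 308139 239 308378 s5u1067 s5c1068 rfl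
theorem s5u1069 : ∀ v, 1 ≤ v → v ≤ 308624 → fs5 v = true := slots_step fs5 308378 246 308624 s5u1068 s5c1069 rfl
theorem s5u1070 : ∀ v, 1 ≤ v → v ≤ 308875 → fs5 v = true := slots_step fs5 308624 251 308875 s5u1069 s5c1070 rfl
theorem s5u1071 : ∀ v, 1 ≤ v → v ≤ 309136 → fs5 v = true := slots_step fs5 308875 261 309136 s5u1070 s5c1071 rfl
theorem s5u1072 : ∀ v, 1 ≤ v → v ≤ 309389 → fs5 v = true := slots_step fs5 309136 253 309389 s5u1071 s5c1072 rfl
theorem s5u1073 : ∀ v, 1 ≤ v → v ≤ 309621 → fs5 v = true := slots_step fs5 309389 232 309621 s5u1072 s5c1073 rfl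
theorem s5u1074 : ∀ v, 1 ≤ v → v ≤ 309865 → fs5 v = true := slots_step fs5 309621 244 309865 s5u1073 s5c1074 rfl
theorem s5u1075 : ∀ v, 1 ≤ v → v ≤ 310124 → fs5 v = true := slots_step fs5 309865 259 310124 s5u1074 s5c1075 rfl
theorem s5u1076 : ∀ v, 1 ≤ v → v ≤ 310385 → fs5 v = true := slots_step fs5 310124 261 310385 s5u1075 s5c1076 rfl
theorem s5u1077 : ∀ v, 1 ≤ v → v ≤ 310640 → fs5 v = true := slots_step fs5 310385 255 310640 s5u1076 s5c1077 rfl
theorem s5u1078 : ∀ v, 1 ≤ v → v ≤ 310883 → fs5 v = true := slots_step fs5 310640 243 310883 s5u1077 s5c1078 rfl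
theorem s5u1079 : ∀ v, 1 ≤ v → v ≤ 311150 → fs5 v = true := slots_step fs5 310883 267 311150 s5u1078 s5c1079 rfl
theorem s5u1080 : ∀ v, 1 ≤ v → v ≤ 311402 → fs5 v = true := slots_step fs5 311150 252 311402 s5u1079 s5c1080 rfl
theorem s5u1081 : ∀ v, 1 ≤ v → v ≤ 311650 → fs5 v = true := slots_step fs5 311402 248 311650 s5u1080 s5c1081 rfl
theorem s5u1082 : ∀ v, 1 ≤ v → v ≤ 311900 → fs5 v = true := slots_step fs5 311650 250 311900 s5u1081 s5c1082 rfl
theorem s5u1083 : ∀ v, 1 ≤ v → v ≤ 312146 → fs5 v = true := slots_step fs5 311900 246 312146 s5u1082 s5c1083 rfl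
theorem s5u1084 : ∀ v, 1 ≤ v → v ≤ 312396 → fs5 v = true := slots_step fs5 312146 250 312396 s5u1083 s5c1084 rfl
theorem s5u1085 : ∀ v, 1 ≤ v → v ≤ 312646 → fs5 v = true := slots_step fs5 312396 250 312646 s5u1084 s5c1085 rfl
theorem s5u1086 : ∀ v, 1 ≤ v → v ≤ 312923 → fs5 v = true := slots_step fs5 312646 277 312923 s5u1085 s5c1086 rfl
theorem s5u1087 : ∀ v, 1 ≤ v → v ≤ 313177 → fs5 v = true := slots_step fs5 312923 254 313177 s5u1086 s5c1087 rfl
theorem s5u1088 : ∀ v, 1 ≤ v → v ≤ 313423 → fs5 v = true := slots_step fs5 313177 246 313423 s5u1087 s5c1088 rfl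
theorem s5u1089 : ∀ v, 1 ≤ v → v ≤ 313674 → fs5 v = true := slots_step fs5 313423 251 313674 s5u1088 s5c1089 rfl
theorem s5u1090 : ∀ v, 1 ≤ v → v ≤ 313929 → fs5 v = true := slots_step fs5 313674 255 313929 s5u1089 s5c1090 rfl
theorem s5u1091 : ∀ v, 1 ≤ v → v ≤ 314189 → fs5 v = true := slots_step fs5 313929 260 314189 s5u1090 s5c1091 rfl
theorem s5u1092 : ∀ v, 1 ≤ v → v ≤ 314447 → fs5 v = true := slots_step fs5 314189 258 314447 s5u1091 s5c1092 rfl
theorem s5u1093 : ∀ v, 1 ≤ v → v ≤ 314713 → fs5 v = true := slots_step fs5 314447 266 314713 s5u1092 s5c1093 rfl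
theorem s5u1094 : ∀ v, 1 ≤ v → v ≤ 314980 → fs5 v = true := slots_step fs5 314713 267 314980 s5u1093 s5c1094 rfl
theorem s5u1095 : ∀ v, 1 ≤ v → v ≤ 315240 → fs5 v = true := slots_step fs5 314980 260 315240 s5u1094 s5c1095 rfl
theorem s5u1096 : ∀ v, 1 ≤ v → v ≤ 315492 → fs5 v = true := slots_step fs5 315240 252 315492 s5u1095 s5c1096 rfl
theorem s5u1097 : ∀ v, 1 ≤ v → v ≤ 315750 → fs5 v = true := slots_step fs5 315492 258 315750 s5u1096 s5c1097 rfl
theorem s5u1098 : ∀ v, 1 ≤ v → v ≤ 315991 → fs5 v = true := slots_step fs5 315750 241 315991 s5u1097 s5c1098 rfl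
theorem s5u1099 : ∀ v, 1 ≤ v → v ≤ 316246 → fs5 v = true := slots_step fs5 315991 255 316246 s5u1098 s5c1099 rfl
theorem s5u1100 : ∀ v, 1 ≤ v → v ≤ 316507 → fs5 v = true := slots_step fs5 316246 261 316507 s5u1099 s5c1100 rfl
theorem s5u1101 : ∀ v, 1 ≤ v → v ≤ 316756 → fs5 v = true := slots_step fs5 316507 249 316756 s5u1100 s5c1101 rfl
theorem s5u1102 : ∀ v, 1 ≤ v → v ≤ 317002 → fs5 v = true := slots_step fs5 316756 246 317002 s5u1101 s5c1102 rfl
theorem s5u1103 : ∀ v, 1 ≤ v → v ≤ 317282 → fs5 v = true := slots_step fs5 317002 280 317282 s5u1102 s5c1103 rfl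
theorem s5u1104 : ∀ v, 1 ≤ v → v ≤ 317548 → fs5 v = true := slots_step fs5 317282 266 317548 s5u1103 s5c1104 rfl
theorem s5u1105 : ∀ v, 1 ≤ v → v ≤ 317818 → fs5 v = true := slots_step fs5 317548 270 317818 s5u1104 s5c1105 rfl
theorem s5u1106 : ∀ v, 1 ≤ v → v ≤ 318088 → fs5 v = true := slots_step fs5 317818 270 318088 s5u1105 s5c1106 rfl
theorem s5u1107 : ∀ v, 1 ≤ v → v ≤ 318361 → fs5 v = true := slots_step fs5 318088 273 318361 s5u1106 s5c1107 rfl
theorem s5u1108 : ∀ v, 1 ≤ v → v ≤ 318602 → fs5 v = true := slots_step fs5 318361 241 318602 s5u1107 s5c1108 rfl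
theorem s5u1109 : ∀ v, 1 ≤ v → v ≤ 318846 → fs5 v = true := slots_step fs5 318602 244 318846 s5u1108 s5c1109 rfl
theorem s5u1110 : ∀ v, 1 ≤ v → v ≤ 319105 → fs5 v = true := slots_step fs5 318846 259 319105 s5u1109 s5c1110 rfl
theorem s5u1111 : ∀ v, 1 ≤ v → v ≤ 319355 → fs5 v = true := slots_step fs5 319105 250 319355 s5u1110 s5c1111 rfl
theorem s5u1112 : ∀ v, 1 ≤ v → v ≤ 319616 → fs5 v = true := slots_step fs5 319355 261 319616 s5u1111 s5c1112 rfl
theorem s5u1113 : ∀ v, 1 ≤ v → v ≤ 319855 → fs5 v = true := slots_step fs5 319616 239 319855 s5u1112 s5c1113 rfl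
theorem s5u1114 : ∀ v, 1 ≤ v → v ≤ 320101 → fs5 v = true := slots_step fs5 319855 246 320101 s5u1113 s5c1114 rfl
theorem s5u1115 : ∀ v, 1 ≤ v → v ≤ 320346 → fs5 v = true := slots_step fs5 320101 245 320346 s5u1114 s5c1115 rfl
theorem s5u1116 : ∀ v, 1 ≤ v → v ≤ 320589 → fs5 v = true := slots_step fs5 320346 243 320589 s5u1115 s5c1116 rfl
theorem s5u1117 : ∀ v, 1 ≤ v → v ≤ 320830 → fs5 v = true := slots_step fs5 320589 241 320830 s5u1116 s5c1117 rfl
theorem s5u1118 : ∀ v, 1 ≤ v → v ≤ 321074 → fs5 v = true := slots_step fs5 320830 244 321074 s5u1117 s5c1118 rfl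
theorem s5u1119 : ∀ v, 1 ≤ v → v ≤ 321300 → fs5 v = true := slots_step fs5 321074 226 321300 s5u1118 s5c1119 rfl
theorem s5u1120 : ∀ v, 1 ≤ v → v ≤ 321527 → fs5 v = true := slots_step fs5 321300 227 321527 s5u1119 s5c1120 rfl
theorem s5u1121 : ∀ v, 1 ≤ v → v ≤ 321778 → fs5 v = true := slots_step fs5 321527 251 321778 s5u1120 s5c1121 rfl
theorem s5u1122 : ∀ v, 1 ≤ v → v ≤ 322011 → fs5 v = true := slots_step fs5 321778 233 322011 s5u1121 s5c1122 rfl
theorem s5u1123 : ∀ v, 1 ≤ v → v ≤ 322236 → fs5 v = true := slots_step fs5 322011 225 322236 s5u1122 s5c1123 rfl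
theorem s5u1124 : ∀ v, 1 ≤ v → v ≤ 322478 → fs5 v = true := slots_step fs5 322236 242 322478 s5u1123 s5c1124 rfl
theorem s5u1125 : ∀ v, 1 ≤ v → v ≤ 322716 → fs5 v = true := slots_step fs5 322478 238 322716 s5u1124 s5c1125 rfl
theorem s5u1126 : ∀ v, 1 ≤ v → v ≤ 322983 → fs5 v = true := slots_step fs5 322716 267 322983 s5u1125 s5c1126 rfl
theorem s5u1127 : ∀ v, 1 ≤ v → v ≤ 323219 → fs5 v = true := slots_step fs5 322983 236 323219 s5u1126 s5c1127 rfl
theorem s5u1128 : ∀ v, 1 ≤ v → v ≤ 323468 → fs5 v = true := slots_step fs5 323219 249 323468 s5u1127 s5c1128 rfl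
theorem s5u1129 : ∀ v, 1 ≤ v → v ≤ 323715 → fs5 v = true := slots_step fs5 323468 247 323715 s5u1128 s5c1129 rfl
theorem s5u1130 : ∀ v, 1 ≤ v → v ≤ 323953 → fs5 v = true := slots_step fs5 323715 238 323953 s5u1129 s5c1130 rfl
theorem s5u1131 : ∀ v, 1 ≤ v → v ≤ 324194 → fs5 v = true := slots_step fs5 323953 241 324194 s5u1130 s5c1131 rfl
theorem s5u1132 : ∀ v, 1 ≤ v → v ≤ 324438 → fs5 v = true := slots_step fs5 324194 244 324438 s5u1131 s5c1132 rfl
theorem s5u1133 : ∀ v, 1 ≤ v → v ≤ 324692 → fs5 v = true := slots_step fs5 324438 254 324692 s5u1132 s5c1133 rfl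
theorem s5u1134 : ∀ v, 1 ≤ v → v ≤ 324922 → fs5 v = true := slots_step fs5 324692 230 324922 s5u1133 s5c1134 rfl
theorem s5u1135 : ∀ v, 1 ≤ v → v ≤ 325174 → fs5 v = true := slots_step fs5 324922 252 325174 s5u1134 s5c1135 rfl
theorem s5u1136 : ∀ v, 1 ≤ v → v ≤ 325409 → fs5 v = true := slots_step fs5 325174 235 325409 s5u1135 s5c1136 rfl
theorem s5u1137 : ∀ v, 1 ≤ v → v ≤ 325651 → fs5 v = true := slots_step fs5 325409 242 325651 s5u1136 s5c1137 rfl
theorem s5u1138 : ∀ v, 1 ≤ v → v ≤ 325890 → fs5 v = true := slots_step fs5 325651 239 325890 s5u1137 s5c1138 rfl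
theorem s5u1139 : ∀ v, 1 ≤ v → v ≤ 326124 → fs5 v = true := slots_step fs5 325890 234 326124 s5u1138 s5c1139 rfl
theorem s5u1140 : ∀ v, 1 ≤ v → v ≤ 326355 → fs5 v = true := slots_step fs5 326124 231 326355 s5u1139 s5c1140 rfl
theorem s5u1141 : ∀ v, 1 ≤ v → v ≤ 326588 → fs5 v = true := slots_step fs5 326355 233 326588 s5u1140 s5c1141 rfl
theorem s5u1142 : ∀ v, 1 ≤ v → v ≤ 326859 → fs5 v = true := slots_step fs5 326588 271 326859 s5u1141 s5c1142 rfl
theorem s5u1143 : ∀ v, 1 ≤ v → v ≤ 327099 → fs5 v = true := slots_step fs5 326859 240 327099 s5u1142 s5c1143 rfl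
theorem s5u1144 : ∀ v, 1 ≤ v → v ≤ 327367 → fs5 v = true := slots_step fs5 327099 268 327367 s5u1143 s5c1144 rfl
theorem s5u1145 : ∀ v, 1 ≤ v → v ≤ 327631 → fs5 v = true := slots_step fs5 327367 264 327631 s5u1144 s5c1145 rfl
theorem s5u1146 : ∀ v, 1 ≤ v → v ≤ 327891 → fs5 v = true := slots_step fs5 327631 260 327891 s5u1145 s5c1146 rfl
theorem s5u1147 : ∀ v, 1 ≤ v → v ≤ 328163 → fs5 v = true := slots_step fs5 327891 272 328163 s5u1146 s5c1147 rfl
theorem s5u1148 : ∀ v, 1 ≤ v → v ≤ 328418 → fs5 v = true := slots_step fs5 328163 255 328418 s5u1147 s5c1148 rfl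
theorem s5u1149 : ∀ v, 1 ≤ v → v ≤ 328665 → fs5 v = true := slots_step fs5 328418 247 328665 s5u1148 s5c1149 rfl
theorem s5u1150 : ∀ v, 1 ≤ v → v ≤ 328912 → fs5 v = true := slots_step fs5 328665 247 328912 s5u1149 s5c1150 rfl
theorem s5u1151 : ∀ v, 1 ≤ v → v ≤ 329162 → fs5 v = true := slots_step fs5 328912 250 329162 s5u1150 s5c1151 rfl
theorem s5u1152 : ∀ v, 1 ≤ v → v ≤ 329407 → fs5 v = true := slots_step fs5 329162 245 329407 s5u1151 s5c1152 rfl
theorem s5u1153 : ∀ v, 1 ≤ v → v ≤ 329656 → fs5 v = true := slots_step fs5 329407 249 329656 s5u1152 s5c1153 rfl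
theorem s5u1154 : ∀ v, 1 ≤ v → v ≤ 329893 → fs5 v = true := slots_step fs5 329656 237 329893 s5u1153 s5c1154 rfl
theorem s5u1155 : ∀ v, 1 ≤ v → v ≤ 330142 → fs5 v = true := slots_step fs5 329893 249 330142 s5u1154 s5c1155 rfl
theorem s5u1156 : ∀ v, 1 ≤ v → v ≤ 330386 → fs5 v = true := slots_step fs5 330142 244 330386 s5u1155 s5c1156 rfl
theorem s5u1157 : ∀ v, 1 ≤ v → v ≤ 330630 → fs5 v = true := slots_step fs5 330386 244 330630 s5u1156 s5c1157 rfl
theorem s5u1158 : ∀ v, 1 ≤ v → v ≤ 330829 → fs5 v = true := slots_step fs5 330630 199 330829 s5u1157 s5c1158 rfl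
theorem s5u1159 : ∀ v, 1 ≤ v → v ≤ 331085 → fs5 v = true := slots_step fs5 330829 256 331085 s5u1158 s5c1159 rfl
theorem s5u1160 : ∀ v, 1 ≤ v → v ≤ 331334 → fs5 v = true := slots_step fs5 331085 249 331334 s5u1159 s5c1160 rfl
theorem s5u1161 : ∀ v, 1 ≤ v → v ≤ 331588 → fs5 v = true := slots_step fs5 331334 254 331588 s5u1160 s5c1161 rfl
theorem s5u1162 : ∀ v, 1 ≤ v → v ≤ 331826 → fs5 v = true := slots_step fs5 331588 238 331826 s5u1161 s5c1162 rfl
theorem s5u1163 : ∀ v, 1 ≤ v → v ≤ 332087 → fs5 v = true := slots_step fs5 331826 261 332087 s5u1162 s5c1163 rfl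
theorem s5u1164 : ∀ v, 1 ≤ v → v ≤ 332328 → fs5 v = true := slots_step fs5 332087 241 332328 s5u1163 s5c1164 rfl
theorem s5u1165 : ∀ v, 1 ≤ v → v ≤ 332575 → fs5 v = true := slots_step fs5 332328 247 332575 s5u1164 s5c1165 rfl
theorem s5u1166 : ∀ v, 1 ≤ v → v ≤ 332817 → fs5 v = true := slots_step fs5 332575 242 332817 s5u1165 s5c1166 rfl
theorem s5u1167 : ∀ v, 1 ≤ v → v ≤ 333069 → fs5 v = true := slots_step fs5 332817 252 333069 s5u1166 s5c1167 rfl
theorem s5u1168 : ∀ v, 1 ≤ v → v ≤ 333318 → fs5 v = true := slots_step fs5 333069 249 333318 s5u1167 s5c1168 rfl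
theorem s5u1169 : ∀ v, 1 ≤ v → v ≤ 333563 → fs5 v = true := slots_step fs5 333318 245 333563 s5u1168 s5c1169 rfl
theorem s5u1170 : ∀ v, 1 ≤ v → v ≤ 333806 → fs5 v = true := slots_step fs5 333563 243 333806 s5u1169 s5c1170 rfl
theorem s5u1171 : ∀ v, 1 ≤ v → v ≤ 334054 → fs5 v = true := slots_step fs5 333806 248 334054 s5u1170 s5c1171 rfl
theorem s5u1172 : ∀ v, 1 ≤ v → v ≤ 334303 → fs5 v = true := slots_step fs5 334054 249 334303 s5u1171 s5c1172 rfl
theorem s5u1173 : ∀ v, 1 ≤ v → v ≤ 334563 → fs5 v = true := slots_step fs5 334303 260 334563 s5u1172 s5c1173 rfl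
theorem s5u1174 : ∀ v, 1 ≤ v → v ≤ 334813 → fs5 v = true := slots_step fs5 334563 250 334813 s5u1173 s5c1174 rfl
theorem s5u1175 : ∀ v, 1 ≤ v → v ≤ 335063 → fs5 v = true := slots_step fs5 334813 250 335063 s5u1174 s5c1175 rfl
theorem s5u1176 : ∀ v, 1 ≤ v → v ≤ 335322 → fs5 v = true := slots_step fs5 335063 259 335322 s5u1175 s5c1176 rfl
theorem s5u1177 : ∀ v, 1 ≤ v → v ≤ 335577 → fs5 v = true := slots_step fs5 335322 255 335577 s5u1176 s5c1177 rfl
theorem s5u1178 : ∀ v, 1 ≤ v → v ≤ 335816 → fs5 v = true := slots_step fs5 335577 239 335816 s5u1177 s5c1178 rfl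
theorem s5u1179 : ∀ v, 1 ≤ v → v ≤ 336076 → fs5 v = true := slots_step fs5 335816 260 336076 s5u1178 s5c1179 rfl
theorem s5u1180 : ∀ v, 1 ≤ v → v ≤ 336352 → fs5 v = true := slots_step fs5 336076 276 336352 s5u1179 s5c1180 rfl
theorem s5u1181 : ∀ v, 1 ≤ v → v ≤ 336596 → fs5 v = true := slots_step fs5 336352 244 336596 s5u1180 s5c1181 rfl
theorem s5u1182 : ∀ v, 1 ≤ v → v ≤ 336833 → fs5 v = true := slots_step fs5 336596 237 336833 s5u1181 s5c1182 rfl
theorem s5u1183 : ∀ v, 1 ≤ v → v ≤ 337085 → fs5 v = true := slots_step fs5 336833 252 337085 s5u1182 s5c1183 rfl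
theorem s5u1184 : ∀ v, 1 ≤ v → v ≤ 337321 → fs5 v = true := slots_step fs5 337085 236 337321 s5u1183 s5c1184 rfl
theorem s5u1185 : ∀ v, 1 ≤ v → v ≤ 337541 → fs5 v = true := slots_step fs5 337321 220 337541 s5u1184 s5c1185 rfl
theorem s5u1186 : ∀ v, 1 ≤ v → v ≤ 337778 → fs5 v = true := slots_step fs5 337541 237 337778 s5u1185 s5c1186 rfl
theorem s5u1187 : ∀ v, 1 ≤ v → v ≤ 338019 → fs5 v = true := slots_step fs5 337778 241 338019 s5u1186 s5c1187 rfl
theorem s5u1188 : ∀ v, 1 ≤ v → v ≤ 338259 → fs5 v = true := slots_step fs5 338019 240 338259 s5u1187 s5c1188 rfl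
theorem s5u1189 : ∀ v, 1 ≤ v → v ≤ 338491 → fs5 v = true := slots_step fs5 338259 232 338491 s5u1188 s5c1189 rfl
theorem s5u1190 : ∀ v, 1 ≤ v → v ≤ 338712 → fs5 v = true := slots_step fs5 338491 221 338712 s5u1189 s5c1190 rfl
theorem s5u1191 : ∀ v, 1 ≤ v → v ≤ 338947 → fs5 v = true := slots_step fs5 338712 235 338947 s5u1190 s5c1191 rfl
theorem s5u1192 : ∀ v, 1 ≤ v → v ≤ 339184 → fs5 v = true := slots_step fs5 338947 237 339184 s5u1191 s5c1192 rfl
theorem s5u1193 : ∀ v, 1 ≤ v → v ≤ 339419 → fs5 v = true := slots_step fs5 339184 235 339419 s5u1192 s5c1193 rfl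
theorem s5u1194 : ∀ v, 1 ≤ v → v ≤ 339671 → fs5 v = true := slots_step fs5 339419 252 339671 s5u1193 s5c1194 rfl
theorem s5u1195 : ∀ v, 1 ≤ v → v ≤ 339912 → fs5 v = true := slots_step fs5 339671 241 339912 s5u1194 s5c1195 rfl
theorem s5u1196 : ∀ v, 1 ≤ v → v ≤ 340126 → fs5 v = true := slots_step fs5 339912 214 340126 s5u1195 s5c1196 rfl
theorem s5u1197 : ∀ v, 1 ≤ v → v ≤ 340370 → fs5 v = true := slots_step fs5 340126 244 340370 s5u1196 s5c1197 rfl
theorem s5u1198 : ∀ v, 1 ≤ v → v ≤ 340615 → fs5 v = true := slots_step fs5 340370 245 340615 s5u1197 s5c1198 rfl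
theorem s5u1199 : ∀ v, 1 ≤ v → v ≤ 340858 → fs5 v = true := slots_step fs5 340615 243 340858 s5u1198 s5c1199 rfl
theorem s5u1200 : ∀ v, 1 ≤ v → v ≤ 341110 → fs5 v = true := slots_step fs5 340858 252 341110 s5u1199 s5c1200 rfl
theorem s5u1201 : ∀ v, 1 ≤ v → v ≤ 341356 → fs5 v = true := slots_step fs5 341110 246 341356 s5u1200 s5c1201 rfl
theorem s5u1202 : ∀ v, 1 ≤ v → v ≤ 341597 → fs5 v = true := slots_step fs5 341356 241 341597 s5u1201 s5c1202 rfl
theorem s5u1203 : ∀ v, 1 ≤ v → v ≤ 341845 → fs5 v = true := slots_step fs5 341597 248 341845 s5u1202 s5c1203 rfl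
theorem s5u1204 : ∀ v, 1 ≤ v → v ≤ 342101 → fs5 v = true := slots_step fs5 341845 256 342101 s5u1203 s5c1204 rfl
theorem s5u1205 : ∀ v, 1 ≤ v → v ≤ 342363 → fs5 v = true := slots_step fs5 342101 262 342363 s5u1204 s5c1205 rfl
theorem s5u1206 : ∀ v, 1 ≤ v → v ≤ 342614 → fs5 v = true := slots_step fs5 342363 251 342614 s5u1205 s5c1206 rfl
theorem s5u1207 : ∀ v, 1 ≤ v → v ≤ 342853 → fs5 v = true := slots_step fs5 342614 239 342853 s5u1206 s5c1207 rfl
theorem s5u1208 : ∀ v, 1 ≤ v → v ≤ 343094 → fs5 v = true := slots_step fs5 342853 241 343094 s5u1207 s5c1208 rfl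
theorem s5u1209 : ∀ v, 1 ≤ v → v ≤ 343336 → fs5 v = true := slots_step fs5 343094 242 343336 s5u1208 s5c1209 rfl
theorem s5u1210 : ∀ v, 1 ≤ v → v ≤ 343571 → fs5 v = true := slots_step fs5 343336 235 343571 s5u1209 s5c1210 rfl
theorem s5u1211 : ∀ v, 1 ≤ v → v ≤ 343819 → fs5 v = true := slots_step fs5 343571 248 343819 s5u1210 s5c1211 rfl
theorem s5u1212 : ∀ v, 1 ≤ v → v ≤ 344064 → fs5 v = true := slots_step fs5 343819 245 344064 s5u1211 s5c1212 rfl
theorem s5u1213 : ∀ v, 1 ≤ v → v ≤ 344305 → fs5 v = true := slots_step fs5 344064 241 344305 s5u1212 s5c1213 rfl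
theorem s5u1214 : ∀ v, 1 ≤ v → v ≤ 344545 → fs5 v = true := slots_step fs5 344305 240 344545 s5u1213 s5c1214 rfl
theorem s5u1215 : ∀ v, 1 ≤ v → v ≤ 344793 → fs5 v = true := slots_step fs5 344545 248 344793 s5u1214 s5c1215 rfl
theorem s5u1216 : ∀ v, 1 ≤ v → v ≤ 345029 → fs5 v = true := slots_step fs5 344793 236 345029 s5u1215 s5c1216 rfl
theorem s5u1217 : ∀ v, 1 ≤ v → v ≤ 345240 → fs5 v = true := slots_step fs5 345029 211 345240 s5u1216 s5c1217 rfl
theorem s5u1218 : ∀ v, 1 ≤ v → v ≤ 345477 → fs5 v = true := slots_step fs5 345240 237 345477 s5u1217 s5c1218 rfl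
theorem s5u1219 : ∀ v, 1 ≤ v → v ≤ 345728 → fs5 v = true := slots_step fs5 345477 251 345728 s5u1218 s5c1219 rfl
theorem s5u1220 : ∀ v, 1 ≤ v → v ≤ 345977 → fs5 v = true := slots_step fs5 345728 249 345977 s5u1219 s5c1220 rfl
theorem s5u1221 : ∀ v, 1 ≤ v → v ≤ 346218 → fs5 v = true := slots_step fs5 345977 241 346218 s5u1220 s5c1221 rfl
theorem s5u1222 : ∀ v, 1 ≤ v → v ≤ 346471 → fs5 v = true := slots_step fs5 346218 253 346471 s5u1221 s5c1222 rfl
theorem s5u1223 : ∀ v, 1 ≤ v → v ≤ 346731 → fs5 v = true := slots_step fs5 346471 260 346731 s5u1222 s5c1223 rfl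
theorem s5u1224 : ∀ v, 1 ≤ v → v ≤ 347004 → fs5 v = true := slots_step fs5 346731 273 347004 s5u1223 s5c1224 rfl
theorem s5u1225 : ∀ v, 1 ≤ v → v ≤ 347270 → fs5 v = true := slots_step fs5 347004 266 347270 s5u1224 s5c1225 rfl
theorem s5u1226 : ∀ v, 1 ≤ v → v ≤ 347501 → fs5 v = true := slots_step fs5 347270 231 347501 s5u1225 s5c1226 rfl
theorem s5u1227 : ∀ v, 1 ≤ v → v ≤ 347739 → fs5 v = true := slots_step fs5 347501 238 347739 s5u1226 s5c1227 rfl
theorem s5u1228 : ∀ v, 1 ≤ v → v ≤ 347936 → fs5 v = true := slots_step fs5 347739 197 347936 s5u1227 s5c1228 rfl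
theorem s5u1229 : ∀ v, 1 ≤ v → v ≤ 348173 → fs5 v = true := slots_step fs5 347936 237 348173 s5u1228 s5c1229 rfl
theorem s5u1230 : ∀ v, 1 ≤ v → v ≤ 348420 → fs5 v = true := slots_step fs5 348173 247 348420 s5u1229 s5c1230 rfl
theorem s5u1231 : ∀ v, 1 ≤ v → v ≤ 348653 → fs5 v = true := slots_step fs5 348420 233 348653 s5u1230 s5c1231 rfl
theorem s5u1232 : ∀ v, 1 ≤ v → v ≤ 348892 → fs5 v = true := slots_step fs5 348653 239 348892 s5u1231 s5c1232 rfl
theorem s5u1233 : ∀ v, 1 ≤ v → v ≤ 349142 → fs5 v = true := slots_step fs5 348892 250 349142 s5u1232 s5c1233 rfl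
theorem s5u1234 : ∀ v, 1 ≤ v → v ≤ 349387 → fs5 v = true := slots_step fs5 349142 245 349387 s5u1233 s5c1234 rfl
theorem s5u1235 : ∀ v, 1 ≤ v → v ≤ 349632 → fs5 v = true := slots_step fs5 349387 245 349632 s5u1234 s5c1235 rfl
theorem s5u1236 : ∀ v, 1 ≤ v → v ≤ 349883 → fs5 v = true := slots_step fs5 349632 251 349883 s5u1235 s5c1236 rfl
theorem s5u1237 : ∀ v, 1 ≤ v → v ≤ 350115 → fs5 v = true := slots_step fs5 349883 232 350115 s5u1236 s5c1237 rfl
theorem s5u1238 : ∀ v, 1 ≤ v → v ≤ 350343 → fs5 v = true := slots_step fs5 350115 228 350343 s5u1237 s5c1238 rfl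
theorem s5u1239 : ∀ v, 1 ≤ v → v ≤ 350595 → fs5 v = true := slots_step fs5 350343 252 350595 s5u1238 s5c1239 rfl
theorem s5u1240 : ∀ v, 1 ≤ v → v ≤ 350840 → fs5 v = true := slots_step fs5 350595 245 350840 s5u1239 s5c1240 rfl
theorem s5u1241 : ∀ v, 1 ≤ v → v ≤ 351073 → fs5 v = true := slots_step fs5 350840 233 351073 s5u1240 s5c1241 rfl
theorem s5u1242 : ∀ v, 1 ≤ v → v ≤ 351316 → fs5 v = true := slots_step fs5 351073 243 351316 s5u1241 s5c1242 rfl
theorem s5u1243 : ∀ v, 1 ≤ v → v ≤ 351562 → fs5 v = true := slots_step fs5 351316 246 351562 s5u1242 s5c1243 rfl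
theorem s5u1244 : ∀ v, 1 ≤ v → v ≤ 351796 → fs5 v = true := slots_step fs5 351562 234 351796 s5u1243 s5c1244 rfl
theorem s5u1245 : ∀ v, 1 ≤ v → v ≤ 352036 → fs5 v = true := slots_step fs5 351796 240 352036 s5u1244 s5c1245 rfl
theorem s5u1246 : ∀ v, 1 ≤ v → v ≤ 352280 → fs5 v = true := slots_step fs5 352036 244 352280 s5u1245 s5c1246 rfl
theorem s5u1247 : ∀ v, 1 ≤ v → v ≤ 352522 → fs5 v = true := slots_step fs5 352280 242 352522 s5u1246 s5c1247 rfl
theorem s5u1248 : ∀ v, 1 ≤ v → v ≤ 352741 → fs5 v = true := slots_step fs5 352522 219 352741 s5u1247 s5c1248 rfl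
theorem s5u1249 : ∀ v, 1 ≤ v → v ≤ 353009 → fs5 v = true := slots_step fs5 352741 268 353009 s5u1248 s5c1249 rfl
theorem s5u1250 : ∀ v, 1 ≤ v → v ≤ 353260 → fs5 v = true := slots_step fs5 353009 251 353260 s5u1249 s5c1250 rfl
theorem s5u1251 : ∀ v, 1 ≤ v → v ≤ 353450 → fs5 v = true := slots_step fs5 353260 190 353450 s5u1250 s5c1251 rfl
theorem s5u1252 : ∀ v, 1 ≤ v → v ≤ 353644 → fs5 v = true := slots_step fs5 353450 194 353644 s5u1251 s5c1252 rfl
theorem s5u1253 : ∀ v, 1 ≤ v → v ≤ 353874 → fs5 v = true := slots_step fs5 353644 230 353874 s5u1252 s5c1253 rfl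
theorem s5u1254 : ∀ v, 1 ≤ v → v ≤ 354098 → fs5 v = true := slots_step fs5 353874 224 354098 s5u1253 s5c1254 rfl
theorem s5u1255 : ∀ v, 1 ≤ v → v ≤ 354325 → fs5 v = true := slots_step fs5 354098 227 354325 s5u1254 s5c1255 rfl
theorem s5u1256 : ∀ v, 1 ≤ v → v ≤ 354554 → fs5 v = true := slots_step fs5 354325 229 354554 s5u1255 s5c1256 rfl
theorem s5u1257 : ∀ v, 1 ≤ v → v ≤ 354775 → fs5 v = true := slots_step fs5 354554 221 354775 s5u1256 s5c1257 rfl
theorem s5u1258 : ∀ v, 1 ≤ v → v ≤ 355028 → fs5 v = true := slots_step fs5 354775 253 355028 s5u1257 s5c1258 rfl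
theorem s5u1259 : ∀ v, 1 ≤ v → v ≤ 355269 → fs5 v = true := slots_step fs5 355028 241 355269 s5u1258 s5c1259 rfl
theorem s5u1260 : ∀ v, 1 ≤ v → v ≤ 355495 → fs5 v = true := slots_step fs5 355269 226 355495 s5u1259 s5c1260 rfl
theorem s5u1261 : ∀ v, 1 ≤ v → v ≤ 355747 → fs5 v = true := slots_step fs5 355495 252 355747 s5u1260 s5c1261 rfl
theorem s5u1262 : ∀ v, 1 ≤ v → v ≤ 355998 → fs5 v = true := slots_step fs5 355747 251 355998 s5u1261 s5c1262 rfl
theorem s5u1263 : ∀ v, 1 ≤ v → v ≤ 356183 → fs5 v = true := slots_step fs5 355998 185 356183 s5u1262 s5c1263 rfl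
theorem s5u1264 : ∀ v, 1 ≤ v → v ≤ 356400 → fs5 v = true := slots_step fs5 356183 217 356400 s5u1263 s5c1264 rfl
theorem s5u1265 : ∀ v, 1 ≤ v → v ≤ 356629 → fs5 v = true := slots_step fs5 356400 229 356629 s5u1264 s5c1265 rfl
theorem s5u1266 : ∀ v, 1 ≤ v → v ≤ 356825 → fs5 v = true := slots_step fs5 356629 196 356825 s5u1265 s5c1266 rfl
theorem s5u1267 : ∀ v, 1 ≤ v → v ≤ 357048 → fs5 v = true := slots_step fs5 356825 223 357048 s5u1266 s5c1267 rfl
theorem s5u1268 : ∀ v, 1 ≤ v → v ≤ 357244 → fs5 v = true := slots_step fs5 357048 196 357244 s5u1267 s5c1268 rfl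
theorem s5u1269 : ∀ v, 1 ≤ v → v ≤ 357441 → fs5 v = true := slots_step fs5 357244 197 357441 s5u1268 s5c1269 rfl
theorem s5u1270 : ∀ v, 1 ≤ v → v ≤ 357465 → fs5 v = true := slots_step fs5 357441 24 357465 s5u1269 s5c1270 rfl
theorem s6u0 : ∀ v, 1 ≤ v → v ≤ 269 → fs6 v = true := slots_step fs6 0 269 269 (slots_zero fs6) s6c0 rfl
theorem s6u1 : ∀ v, 1 ≤ v → v ≤ 548 → fs6 v = true := slots_step fs6 269 279 548 s6u0 s6c1 rfl
theorem s6u2 : ∀ v, 1 ≤ v → v ≤ 811 → fs6 v = true := slots_step fs6 548 263 811 s6u1 s6c2 rfl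
theorem s6u3 : ∀ v, 1 ≤ v → v ≤ 1091 → fs6 v = true := slots_step fs6 811 280 1091 s6u2 s6c3 rfl
theorem s6u4 : ∀ v, 1 ≤ v → v ≤ 1381 → fs6 v = true := slots_step fs6 1091 290 1381 s6u3 s6c4 rfl
theorem s6u5 : ∀ v, 1 ≤ v → v ≤ 1668 → fs6 v = true := slots_step fs6 1381 287 1668 s6u4 s6c5 rfl
theorem s6u6 : ∀ v, 1 ≤ v → v ≤ 1961 → fs6 v = true := slots_step fs6 1668 293 1961 s6u5 s6c6 rfl
theorem s6u7 : ∀ v, 1 ≤ v → v ≤ 2248 → fs6 v = true := slots_step fs6 1961 287 2248 s6u6 s6c7 rfl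
theorem s6u8 : ∀ v, 1 ≤ v → v ≤ 2545 → fs6 v = true := slots_step fs6 2248 297 2545 s6u7 s6c8 rfl
theorem s6u9 : ∀ v, 1 ≤ v → v ≤ 2844 → fs6 v = true := slots_step fs6 2545 299 2844 s6u8 s6c9 rfl
theorem s6u10 : ∀ v, 1 ≤ v → v ≤ 3139 → fs6 v = true := slots_step fs6 2844 295 3139 s6u9 s6c10 rfl
theorem s6u11 : ∀ v, 1 ≤ v → v ≤ 3445 → fs6 v = true := slots_step fs6 3139 306 3445 s6u10 s6c11 rfl
theorem s6u12 : ∀ v, 1 ≤ v → v ≤ 3745 → fs6 v = true := slots_step fs6 3445 300 3745 s6u11 s6c12 rfl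
theorem s6u13 : ∀ v, 1 ≤ v → v ≤ 4041 → fs6 v = true := slots_step fs6 3745 296 4041 s6u12 s6c13 rfl
theorem s6u14 : ∀ v, 1 ≤ v → v ≤ 4334 → fs6 v = true := slots_step fs6 4041 293 4334 s6u13 s6c14 rfl
theorem s6u15 : ∀ v, 1 ≤ v → v ≤ 4638 → fs6 v = true := slots_step fs6 4334 304 4638 s6u14 s6c15 rfl
theorem s6u16 : ∀ v, 1 ≤ v → v ≤ 4946 → fs6 v = true := slots_step fs6 4638 308 4946 s6u15 s6c16 rfl
theorem s6u17 : ∀ v, 1 ≤ v → v ≤ 5248 → fs6 v = true := slots_step fs6 4946 302 5248 s6u16 s6c17 rfl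
theorem s6u18 : ∀ v, 1 ≤ v → v ≤ 5550 → fs6 v = true := slots_step fs6 5248 302 5550 s6u17 s6c18 rfl
theorem s6u19 : ∀ v, 1 ≤ v → v ≤ 5833 → fs6 v = true := slots_step fs6 5550 283 5833 s6u18 s6c19 rfl
theorem s6u20 : ∀ v, 1 ≤ v → v ≤ 6151 → fs6 v = true := slots_step fs6 5833 318 6151 s6u19 s6c20 rfl
theorem s6u21 : ∀ v, 1 ≤ v → v ≤ 6429 → fs6 v = true := slots_step fs6 6151 278 6429 s6u20 s6c21 rfl
theorem s6u22 : ∀ v, 1 ≤ v → v ≤ 6726 → fs6 v = true := slots_step fs6 6429 297 6726 s6u21 s6c22 rfl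
theorem s6u23 : ∀ v, 1 ≤ v → v ≤ 7065 → fs6 v = true := slots_step fs6 6726 339 7065 s6u22 s6c23 rfl
theorem s6u24 : ∀ v, 1 ≤ v → v ≤ 7362 → fs6 v = true := slots_step fs6 7065 297 7362 s6u23 s6c24 rfl
theorem s6u25 : ∀ v, 1 ≤ v → v ≤ 7672 → fs6 v = true := slots_step fs6 7362 310 7672 s6u24 s6c25 rfl
theorem s6u26 : ∀ v, 1 ≤ v → v ≤ 7952 → fs6 v = true := slots_step fs6 7672 280 7952 s6u25 s6c26 rfl
theorem s6u27 : ∀ v, 1 ≤ v → v ≤ 8240 → fs6 v = true := slots_step fs6 7952 288 8240 s6u26 s6c27 rfl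
theorem s6u28 : ∀ v, 1 ≤ v → v ≤ 8568 → fs6 v = true := slots_step fs6 8240 328 8568 s6u27 s6c28 rfl
theorem s6u29 : ∀ v, 1 ≤ v → v ≤ 8842 → fs6 v = true := slots_step fs6 8568 274 8842 s6u28 s6c29 rfl
theorem s6u30 : ∀ v, 1 ≤ v → v ≤ 9152 → fs6 v = true := slots_step fs6 8842 310 9152 s6u29 s6c30 rfl
theorem s6u31 : ∀ v, 1 ≤ v → v ≤ 9457 → fs6 v = true := slots_step fs6 9152 305 9457 s6u30 s6c31 rfl
theorem s6u32 : ∀ v, 1 ≤ v → v ≤ 9813 → fs6 v = true := slots_step fs6 9457 356 9813 s6u31 s6c32 rfl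
theorem s6u33 : ∀ v, 1 ≤ v → v ≤ 10093 → fs6 v = true := slots_step fs6 9813 280 10093 s6u32 s6c33 rfl
theorem s6u34 : ∀ v, 1 ≤ v → v ≤ 10388 → fs6 v = true := slots_step fs6 10093 295 10388 s6u33 s6c34 rfl
theorem s6u35 : ∀ v, 1 ≤ v → v ≤ 10659 → fs6 v = true := slots_step fs6 10388 271 10659 s6u34 s6c35 rfl
theorem s6u36 : ∀ v, 1 ≤ v → v ≤ 10924 → fs6 v = true := slots_step fs6 10659 265 10924 s6u35 s6c36 rfl
theorem s6u37 : ∀ v, 1 ≤ v → v ≤ 11199 → fs6 v = true := slots_step fs6 10924 275 11199 s6u36 s6c37 rfl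
theorem s6u38 : ∀ v, 1 ≤ v → v ≤ 11479 → fs6 v = true := slots_step fs6 11199 280 11479 s6u37 s6c38 rfl
theorem s6u39 : ∀ v, 1 ≤ v → v ≤ 11755 → fs6 v = true := slots_step fs6 11479 276 11755 s6u38 s6c39 rfl
theorem s6u40 : ∀ v, 1 ≤ v → v ≤ 12032 → fs6 v = true := slots_step fs6 11755 277 12032 s6u39 s6c40 rfl
theorem s6u41 : ∀ v, 1 ≤ v → v ≤ 12310 → fs6 v = true := slots_step fs6 12032 278 12310 s6u40 s6c41 rfl
theorem s6u42 : ∀ v, 1 ≤ v → v ≤ 12600 → fs6 v = true := slots_step fs6 12310 290 12600 s6u41 s6c42 rfl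
theorem s6u43 : ∀ v, 1 ≤ v → v ≤ 12901 → fs6 v = true := slots_step fs6 12600 301 12901 s6u42 s6c43 rfl
theorem s6u44 : ∀ v, 1 ≤ v → v ≤ 13180 → fs6 v = true := slots_step fs6 12901 279 13180 s6u43 s6c44 rfl
theorem s6u45 : ∀ v, 1 ≤ v → v ≤ 13470 → fs6 v = true := slots_step fs6 13180 290 13470 s6u44 s6c45 rfl
theorem s6u46 : ∀ v, 1 ≤ v → v ≤ 13741 → fs6 v = true := slots_step fs6 13470 271 13741 s6u45 s6c46 rfl
theorem s6u47 : ∀ v, 1 ≤ v → v ≤ 14020 → fs6 v = true := slots_step fs6 13741 279 14020 s6u46 s6c47 rfl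
theorem s6u48 : ∀ v, 1 ≤ v → v ≤ 14287 → fs6 v = true := slots_step fs6 14020 267 14287 s6u47 s6c48 rfl
theorem s6u49 : ∀ v, 1 ≤ v → v ≤ 14596 → fs6 v = true := slots_step fs6 14287 309 14596 s6u48 s6c49 rfl
theorem s6u50 : ∀ v, 1 ≤ v → v ≤ 14870 → fs6 v = true := slots_step fs6 14596 274 14870 s6u49 s6c50 rfl
theorem s6u51 : ∀ v, 1 ≤ v → v ≤ 15150 → fs6 v = true := slots_step fs6 14870 280 15150 s6u50 s6c51 rfl
theorem s6u52 : ∀ v, 1 ≤ v → v ≤ 15427 → fs6 v = true := slots_step fs6 15150 277 15427 s6u51 s6c52 rfl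
theorem s6u53 : ∀ v, 1 ≤ v → v ≤ 15715 → fs6 v = true := slots_step fs6 15427 288 15715 s6u52 s6c53 rfl
theorem s6u54 : ∀ v, 1 ≤ v → v ≤ 15996 → fs6 v = true := slots_step fs6 15715 281 15996 s6u53 s6c54 rfl
theorem s6u55 : ∀ v, 1 ≤ v → v ≤ 16323 → fs6 v = true := slots_step fs6 15996 327 16323 s6u54 s6c55 rfl
theorem s6u56 : ∀ v, 1 ≤ v → v ≤ 16660 → fs6 v = true := slots_step fs6 16323 337 16660 s6u55 s6c56 rfl
theorem s6u57 : ∀ v, 1 ≤ v → v ≤ 16947 → fs6 v = true := slots_step fs6 16660 287 16947 s6u56 s6c57 rfl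
theorem s6u58 : ∀ v, 1 ≤ v → v ≤ 17249 → fs6 v = true := slots_step fs6 16947 302 17249 s6u57 s6c58 rfl
theorem s6u59 : ∀ v, 1 ≤ v → v ≤ 17570 → fs6 v = true := slots_step fs6 17249 321 17570 s6u58 s6c59 rfl
theorem s6u60 : ∀ v, 1 ≤ v → v ≤ 17843 → fs6 v = true := slots_step fs6 17570 273 17843 s6u59 s6c60 rfl
theorem s6u61 : ∀ v, 1 ≤ v → v ≤ 18129 → fs6 v = true := slots_step fs6 17843 286 18129 s6u60 s6c61 rfl
theorem s6u62 : ∀ v, 1 ≤ v → v ≤ 18426 → fs6 v = true := slots_step fs6 18129 297 18426 s6u61 s6c62 rfl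
theorem s6u63 : ∀ v, 1 ≤ v → v ≤ 18696 → fs6 v = true := slots_step fs6 18426 270 18696 s6u62 s6c63 rfl
theorem s6u64 : ∀ v, 1 ≤ v → v ≤ 19033 → fs6 v = true := slots_step fs6 18696 337 19033 s6u63 s6c64 rfl
theorem s6u65 : ∀ v, 1 ≤ v → v ≤ 19313 → fs6 v = true := slots_step fs6 19033 280 19313 s6u64 s6c65 rfl
theorem s6u66 : ∀ v, 1 ≤ v → v ≤ 19591 → fs6 v = true := slots_step fs6 19313 278 19591 s6u65 s6c66 rfl
theorem s6u67 : ∀ v, 1 ≤ v → v ≤ 19865 → fs6 v = true := slots_step fs6 19591 274 19865 s6u66 s6c67 rfl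
theorem s6u68 : ∀ v, 1 ≤ v → v ≤ 20156 → fs6 v = true := slots_step fs6 19865 291 20156 s6u67 s6c68 rfl
theorem s6u69 : ∀ v, 1 ≤ v → v ≤ 20461 → fs6 v = true := slots_step fs6 20156 305 20461 s6u68 s6c69 rfl
theorem s6u70 : ∀ v, 1 ≤ v → v ≤ 20755 → fs6 v = true := slots_step fs6 20461 294 20755 s6u69 s6c70 rfl
theorem s6u71 : ∀ v, 1 ≤ v → v ≤ 21031 → fs6 v = true := slots_step fs6 20755 276 21031 s6u70 s6c71 rfl
theorem s6u72 : ∀ v, 1 ≤ v → v ≤ 21393 → fs6 v = true := slots_step fs6 21031 362 21393 s6u71 s6c72 rfl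
theorem s6u73 : ∀ v, 1 ≤ v → v ≤ 21781 → fs6 v = true := slots_step fs6 21393 388 21781 s6u72 s6c73 rfl
theorem s6u74 : ∀ v, 1 ≤ v → v ≤ 22079 → fs6 v = true := slots_step fs6 21781 298 22079 s6u73 s6c74 rfl
theorem s6u75 : ∀ v, 1 ≤ v → v ≤ 22378 → fs6 v = true := slots_step fs6 22079 299 22378 s6u74 s6c75 rfl
theorem s6u76 : ∀ v, 1 ≤ v → v ≤ 22707 → fs6 v = true := slots_step fs6 22378 329 22707 s6u75 s6c76 rfl
theorem s6u77 : ∀ v, 1 ≤ v → v ≤ 23044 → fs6 v = true := slots_step fs6 22707 337 23044 s6u76 s6c77 rfl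
theorem s6u78 : ∀ v, 1 ≤ v → v ≤ 23324 → fs6 v = true := slots_step fs6 23044 280 23324 s6u77 s6c78 rfl
theorem s6u79 : ∀ v, 1 ≤ v → v ≤ 23605 → fs6 v = true := slots_step fs6 23324 281 23605 s6u78 s6c79 rfl
theorem s6u80 : ∀ v, 1 ≤ v → v ≤ 23875 → fs6 v = true := slots_step fs6 23605 270 23875 s6u79 s6c80 rfl
theorem s6u81 : ∀ v, 1 ≤ v → v ≤ 24200 → fs6 v = true := slots_step fs6 23875 325 24200 s6u80 s6c81 rfl
theorem s6u82 : ∀ v, 1 ≤ v → v ≤ 24512 → fs6 v = true := slots_step fs6 24200 312 24512 s6u81 s6c82 rfl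
theorem s6u83 : ∀ v, 1 ≤ v → v ≤ 24792 → fs6 v = true := slots_step fs6 24512 280 24792 s6u82 s6c83 rfl
theorem s6u84 : ∀ v, 1 ≤ v → v ≤ 25135 → fs6 v = true := slots_step fs6 24792 343 25135 s6u83 s6c84 rfl
theorem s6u85 : ∀ v, 1 ≤ v → v ≤ 25460 → fs6 v = true := slots_step fs6 25135 325 25460 s6u84 s6c85 rfl
theorem s6u86 : ∀ v, 1 ≤ v → v ≤ 25736 → fs6 v = true := slots_step fs6 25460 276 25736 s6u85 s6c86 rfl
theorem s6u87 : ∀ v, 1 ≤ v → v ≤ 26018 → fs6 v = true := slots_step fs6 25736 282 26018 s6u86 s6c87 rfl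
theorem s6u88 : ∀ v, 1 ≤ v → v ≤ 26280 → fs6 v = true := slots_step fs6 26018 262 26280 s6u87 s6c88 rfl
theorem s6u89 : ∀ v, 1 ≤ v → v ≤ 26584 → fs6 v = true := slots_step fs6 26280 304 26584 s6u88 s6c89 rfl
theorem s6u90 : ∀ v, 1 ≤ v → v ≤ 26894 → fs6 v = true := slots_step fs6 26584 310 26894 s6u89 s6c90 rfl
theorem s6u91 : ∀ v, 1 ≤ v → v ≤ 27213 → fs6 v = true := slots_step fs6 26894 319 27213 s6u90 s6c91 rfl
theorem s6u92 : ∀ v, 1 ≤ v → v ≤ 27552 → fs6 v = true := slots_step fs6 27213 339 27552 s6u91 s6c92 rfl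
theorem s6u93 : ∀ v, 1 ≤ v → v ≤ 27830 → fs6 v = true := slots_step fs6 27552 278 27830 s6u92 s6c93 rfl
theorem s6u94 : ∀ v, 1 ≤ v → v ≤ 28116 → fs6 v = true := slots_step fs6 27830 286 28116 s6u93 s6c94 rfl
theorem s6u95 : ∀ v, 1 ≤ v → v ≤ 28489 → fs6 v = true := slots_step fs6 28116 373 28489 s6u94 s6c95 rfl
theorem s6u96 : ∀ v, 1 ≤ v → v ≤ 28873 → fs6 v = true := slots_step fs6 28489 384 28873 s6u95 s6c96 rfl
theorem s6u97 : ∀ v, 1 ≤ v → v ≤ 29240 → fs6 v = true := slots_step fs6 28873 367 29240 s6u96 s6c97 rfl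
theorem s6u98 : ∀ v, 1 ≤ v → v ≤ 29523 → fs6 v = true := slots_step fs6 29240 283 29523 s6u97 s6c98 rfl
theorem s6u99 : ∀ v, 1 ≤ v → v ≤ 29814 → fs6 v = true := slots_step fs6 29523 291 29814 s6u98 s6c99 rfl
theorem s6u100 : ∀ v, 1 ≤ v → v ≤ 30190 → fs6 v = true := slots_step fs6 29814 376 30190 s6u99 s6c100 rfl
theorem s6u101 : ∀ v, 1 ≤ v → v ≤ 30495 → fs6 v = true := slots_step fs6 30190 305 30495 s6u100 s6c101 rfl
theorem s6u102 : ∀ v, 1 ≤ v → v ≤ 30871 → fs6 v = true := slots_step fs6 30495 376 30871 s6u101 s6c102 rfl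
theorem s6u103 : ∀ v, 1 ≤ v → v ≤ 31141 → fs6 v = true := slots_step fs6 30871 270 31141 s6u102 s6c103 rfl
theorem s6u104 : ∀ v, 1 ≤ v → v ≤ 31417 → fs6 v = true := slots_step fs6 31141 276 31417 s6u103 s6c104 rfl
theorem s6u105 : ∀ v, 1 ≤ v → v ≤ 31696 → fs6 v = true := slots_step fs6 31417 279 31696 s6u104 s6c105 rfl
theorem s6u106 : ∀ v, 1 ≤ v → v ≤ 31971 → fs6 v = true := slots_step fs6 31696 275 31971 s6u105 s6c106 rfl
theorem s6u107 : ∀ v, 1 ≤ v → v ≤ 32313 → fs6 v = true := slots_step fs6 31971 342 32313 s6u106 s6c107 rfl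
theorem s6u108 : ∀ v, 1 ≤ v → v ≤ 32641 → fs6 v = true := slots_step fs6 32313 328 32641 s6u107 s6c108 rfl
theorem s6u109 : ∀ v, 1 ≤ v → v ≤ 32967 → fs6 v = true := slots_step fs6 32641 326 32967 s6u108 s6c109 rfl
theorem s6u110 : ∀ v, 1 ≤ v → v ≤ 33250 → fs6 v = true := slots_step fs6 32967 283 33250 s6u109 s6c110 rfl
theorem s6u111 : ∀ v, 1 ≤ v → v ≤ 33576 → fs6 v = true := slots_step fs6 33250 326 33576 s6u110 s6c111 rfl
theorem s6u112 : ∀ v, 1 ≤ v → v ≤ 33958 → fs6 v = true := slots_step fs6 33576 382 33958 s6u111 s6c112 rfl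
theorem s6u113 : ∀ v, 1 ≤ v → v ≤ 34248 → fs6 v = true := slots_step fs6 33958 290 34248 s6u112 s6c113 rfl
theorem s6u114 : ∀ v, 1 ≤ v → v ≤ 34539 → fs6 v = true := slots_step fs6 34248 291 34539 s6u113 s6c114 rfl
theorem s6u115 : ∀ v, 1 ≤ v → v ≤ 34815 → fs6 v = true := slots_step fs6 34539 276 34815 s6u114 s6c115 rfl
theorem s6u116 : ∀ v, 1 ≤ v → v ≤ 35102 → fs6 v = true := slots_step fs6 34815 287 35102 s6u115 s6c116 rfl
theorem s6u117 : ∀ v, 1 ≤ v → v ≤ 35369 → fs6 v = true := slots_step fs6 35102 267 35369 s6u116 s6c117 rfl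
theorem s6u118 : ∀ v, 1 ≤ v → v ≤ 35649 → fs6 v = true := slots_step fs6 35369 280 35649 s6u117 s6c118 rfl
theorem s6u119 : ∀ v, 1 ≤ v → v ≤ 35991 → fs6 v = true := slots_step fs6 35649 342 35991 s6u118 s6c119 rfl
theorem s6u120 : ∀ v, 1 ≤ v → v ≤ 36308 → fs6 v = true := slots_step fs6 35991 317 36308 s6u119 s6c120 rfl
theorem s6u121 : ∀ v, 1 ≤ v → v ≤ 36649 → fs6 v = true := slots_step fs6 36308 341 36649 s6u120 s6c121 rfl
theorem s6u122 : ∀ v, 1 ≤ v → v ≤ 37000 → fs6 v = true := slots_step fs6 36649 351 37000 s6u121 s6c122 rfl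
theorem s6u123 : ∀ v, 1 ≤ v → v ≤ 37302 → fs6 v = true := slots_step fs6 37000 302 37302 s6u122 s6c123 rfl
theorem s6u124 : ∀ v, 1 ≤ v → v ≤ 37587 → fs6 v = true := slots_step fs6 37302 285 37587 s6u123 s6c124 rfl
theorem s6u125 : ∀ v, 1 ≤ v → v ≤ 37871 → fs6 v = true := slots_step fs6 37587 284 37871 s6u124 s6c125 rfl
theorem s6u126 : ∀ v, 1 ≤ v → v ≤ 38233 → fs6 v = true := slots_step fs6 37871 362 38233 s6u125 s6c126 rfl
theorem s6u127 : ∀ v, 1 ≤ v → v ≤ 38592 → fs6 v = true := slots_step fs6 38233 359 38592 s6u126 s6c127 rfl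
theorem s6u128 : ∀ v, 1 ≤ v → v ≤ 38984 → fs6 v = true := slots_step fs6 38592 392 38984 s6u127 s6c128 rfl
theorem s6u129 : ∀ v, 1 ≤ v → v ≤ 39352 → fs6 v = true := slots_step fs6 38984 368 39352 s6u128 s6c129 rfl
theorem s6u130 : ∀ v, 1 ≤ v → v ≤ 39631 → fs6 v = true := slots_step fs6 39352 279 39631 s6u129 s6c130 rfl
theorem s6u131 : ∀ v, 1 ≤ v → v ≤ 39902 → fs6 v = true := slots_step fs6 39631 271 39902 s6u130 s6c131 rfl
theorem s6u132 : ∀ v, 1 ≤ v → v ≤ 40236 → fs6 v = true := slots_step fs6 39902 334 40236 s6u131 s6c132 rfl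
theorem s6u133 : ∀ v, 1 ≤ v → v ≤ 40609 → fs6 v = true := slots_step fs6 40236 373 40609 s6u132 s6c133 rfl
theorem s6u134 : ∀ v, 1 ≤ v → v ≤ 40969 → fs6 v = true := slots_step fs6 40609 360 40969 s6u133 s6c134 rfl
theorem s6u135 : ∀ v, 1 ≤ v → v ≤ 41283 → fs6 v = true := slots_step fs6 40969 314 41283 s6u134 s6c135 rfl
theorem s6u136 : ∀ v, 1 ≤ v → v ≤ 41672 → fs6 v = true := slots_step fs6 41283 389 41672 s6u135 s6c136 rfl
theorem s6u137 : ∀ v, 1 ≤ v → v ≤ 41948 → fs6 v = true := slots_step fs6 41672 276 41948 s6u136 s6c137 rfl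
theorem s6u138 : ∀ v, 1 ≤ v → v ≤ 42221 → fs6 v = true := slots_step fs6 41948 273 42221 s6u137 s6c138 rfl
theorem s6u139 : ∀ v, 1 ≤ v → v ≤ 42521 → fs6 v = true := slots_step fs6 42221 300 42521 s6u138 s6c139 rfl
theorem s6u140 : ∀ v, 1 ≤ v → v ≤ 42790 → fs6 v = true := slots_step fs6 42521 269 42790 s6u139 s6c140 rfl
theorem s6u141 : ∀ v, 1 ≤ v → v ≤ 43061 → fs6 v = true := slots_step fs6 42790 271 43061 s6u140 s6c141 rfl
theorem s6u142 : ∀ v, 1 ≤ v → v ≤ 43394 → fs6 v = true := slots_step fs6 43061 333 43394 s6u141 s6c142 rfl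
theorem s6u143 : ∀ v, 1 ≤ v → v ≤ 43750 → fs6 v = true := slots_step fs6 43394 356 43750 s6u142 s6c143 rfl
theorem s6u144 : ∀ v, 1 ≤ v → v ≤ 44085 → fs6 v = true := slots_step fs6 43750 335 44085 s6u143 s6c144 rfl
theorem s6u145 : ∀ v, 1 ≤ v → v ≤ 44452 → fs6 v = true := slots_step fs6 44085 367 44452 s6u144 s6c145 rfl
theorem s6u146 : ∀ v, 1 ≤ v → v ≤ 44740 → fs6 v = true := slots_step fs6 44452 288 44740 s6u145 s6c146 rfl
theorem s6u147 : ∀ v, 1 ≤ v → v ≤ 45035 → fs6 v = true := slots_step fs6 44740 295 45035 s6u146 s6c147 rfl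
theorem s6u148 : ∀ v, 1 ≤ v → v ≤ 45383 → fs6 v = true := slots_step fs6 45035 348 45383 s6u147 s6c148 rfl
theorem s6u149 : ∀ v, 1 ≤ v → v ≤ 45763 → fs6 v = true := slots_step fs6 45383 380 45763 s6u148 s6c149 rfl
theorem s6u150 : ∀ v, 1 ≤ v → v ≤ 46087 → fs6 v = true := slots_step fs6 45763 324 46087 s6u149 s6c150 rfl
theorem s6u151 : ∀ v, 1 ≤ v → v ≤ 46379 → fs6 v = true := slots_step fs6 46087 292 46379 s6u150 s6c151 rfl
theorem s6u152 : ∀ v, 1 ≤ v → v ≤ 46676 → fs6 v = true := slots_step fs6 46379 297 46676 s6u151 s6c152 rfl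
theorem s6u153 : ∀ v, 1 ≤ v → v ≤ 46950 → fs6 v = true := slots_step fs6 46676 274 46950 s6u152 s6c153 rfl
theorem s6u154 : ∀ v, 1 ≤ v → v ≤ 47244 → fs6 v = true := slots_step fs6 46950 294 47244 s6u153 s6c154 rfl
theorem s6u155 : ∀ v, 1 ≤ v → v ≤ 47535 → fs6 v = true := slots_step fs6 47244 291 47535 s6u154 s6c155 rfl
theorem s6u156 : ∀ v, 1 ≤ v → v ≤ 47803 → fs6 v = true := slots_step fs6 47535 268 47803 s6u155 s6c156 rfl
theorem s6u157 : ∀ v, 1 ≤ v → v ≤ 48074 → fs6 v = true := slots_step fs6 47803 271 48074 s6u156 s6c157 rfl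
theorem s6u158 : ∀ v, 1 ≤ v → v ≤ 48382 → fs6 v = true := slots_step fs6 48074 308 48382 s6u157 s6c158 rfl
theorem s6u159 : ∀ v, 1 ≤ v → v ≤ 48716 → fs6 v = true := slots_step fs6 48382 334 48716 s6u158 s6c159 rfl
theorem s6u160 : ∀ v, 1 ≤ v → v ≤ 49084 → fs6 v = true := slots_step fs6 48716 368 49084 s6u159 s6c160 rfl
theorem s6u161 : ∀ v, 1 ≤ v → v ≤ 49393 → fs6 v = true := slots_step fs6 49084 309 49393 s6u160 s6c161 rfl
theorem s6u162 : ∀ v, 1 ≤ v → v ≤ 49732 → fs6 v = true := slots_step fs6 49393 339 49732 s6u161 s6c162 rfl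
theorem s6u163 : ∀ v, 1 ≤ v → v ≤ 50088 → fs6 v = true := slots_step fs6 49732 356 50088 s6u162 s6c163 rfl
theorem s6u164 : ∀ v, 1 ≤ v → v ≤ 50436 → fs6 v = true := slots_step fs6 50088 348 50436 s6u163 s6c164 rfl
theorem s6u165 : ∀ v, 1 ≤ v → v ≤ 50727 → fs6 v = true := slots_step fs6 50436 291 50727 s6u164 s6c165 rfl
theorem s6u166 : ∀ v, 1 ≤ v → v ≤ 51024 → fs6 v = true := slots_step fs6 50727 297 51024 s6u165 s6c166 rfl
theorem s6u167 : ∀ v, 1 ≤ v → v ≤ 51313 → fs6 v = true := slots_step fs6 51024 289 51313 s6u166 s6c167 rfl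
theorem s6u168 : ∀ v, 1 ≤ v → v ≤ 51639 → fs6 v = true := slots_step fs6 51313 326 51639 s6u167 s6c168 rfl
theorem s6u169 : ∀ v, 1 ≤ v → v ≤ 52019 → fs6 v = true := slots_step fs6 51639 380 52019 s6u168 s6c169 rfl
theorem s6u170 : ∀ v, 1 ≤ v → v ≤ 52385 → fs6 v = true := slots_step fs6 52019 366 52385 s6u169 s6c170 rfl
theorem s6u171 : ∀ v, 1 ≤ v → v ≤ 52786 → fs6 v = true := slots_step fs6 52385 401 52786 s6u170 s6c171 rfl
theorem s6u172 : ∀ v, 1 ≤ v → v ≤ 53181 → fs6 v = true := slots_step fs6 52786 395 53181 s6u171 s6c172 rfl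
theorem s6u173 : ∀ v, 1 ≤ v → v ≤ 53456 → fs6 v = true := slots_step fs6 53181 275 53456 s6u172 s6c173 rfl
theorem s6u174 : ∀ v, 1 ≤ v → v ≤ 53751 → fs6 v = true := slots_step fs6 53456 295 53751 s6u173 s6c174 rfl
theorem s6u175 : ∀ v, 1 ≤ v → v ≤ 54037 → fs6 v = true := slots_step fs6 53751 286 54037 s6u174 s6c175 rfl
theorem s6u176 : ∀ v, 1 ≤ v → v ≤ 54384 → fs6 v = true := slots_step fs6 54037 347 54384 s6u175 s6c176 rfl
theorem s6u177 : ∀ v, 1 ≤ v → v ≤ 54770 → fs6 v = true := slots_step fs6 54384 386 54770 s6u176 s6c177 rfl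
theorem s6u178 : ∀ v, 1 ≤ v → v ≤ 55195 → fs6 v = true := slots_step fs6 54770 425 55195 s6u177 s6c178 rfl
theorem s6u179 : ∀ v, 1 ≤ v → v ≤ 55500 → fs6 v = true := slots_step fs6 55195 305 55500 s6u178 s6c179 rfl
theorem s6u180 : ∀ v, 1 ≤ v → v ≤ 55858 → fs6 v = true := slots_step fs6 55500 358 55858 s6u179 s6c180 rfl
theorem s6u181 : ∀ v, 1 ≤ v → v ≤ 56260 → fs6 v = true := slots_step fs6 55858 402 56260 s6u180 s6c181 rfl
theorem s6u182 : ∀ v, 1 ≤ v → v ≤ 56530 → fs6 v = true := slots_step fs6 56260 270 56530 s6u181 s6c182 rfl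
theorem s6u183 : ∀ v, 1 ≤ v → v ≤ 56833 → fs6 v = true := slots_step fs6 56530 303 56833 s6u182 s6c183 rfl
theorem s6u184 : ∀ v, 1 ≤ v → v ≤ 57106 → fs6 v = true := slots_step fs6 56833 273 57106 s6u183 s6c184 rfl
theorem s6u185 : ∀ v, 1 ≤ v → v ≤ 57395 → fs6 v = true := slots_step fs6 57106 289 57395 s6u184 s6c185 rfl
theorem s6u186 : ∀ v, 1 ≤ v → v ≤ 57687 → fs6 v = true := slots_step fs6 57395 292 57687 s6u185 s6c186 rfl
theorem s6u187 : ∀ v, 1 ≤ v → v ≤ 57965 → fs6 v = true := slots_step fs6 57687 278 57965 s6u186 s6c187 rfl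
theorem s6u188 : ∀ v, 1 ≤ v → v ≤ 58245 → fs6 v = true := slots_step fs6 57965 280 58245 s6u187 s6c188 rfl
theorem s6u189 : ∀ v, 1 ≤ v → v ≤ 58574 → fs6 v = true := slots_step fs6 58245 329 58574 s6u188 s6c189 rfl
theorem s6u190 : ∀ v, 1 ≤ v → v ≤ 58939 → fs6 v = true := slots_step fs6 58574 365 58939 s6u189 s6c190 rfl
theorem s6u191 : ∀ v, 1 ≤ v → v ≤ 59307 → fs6 v = true := slots_step fs6 58939 368 59307 s6u190 s6c191 rfl
theorem s6u192 : ∀ v, 1 ≤ v → v ≤ 59663 → fs6 v = true := slots_step fs6 59307 356 59663 s6u191 s6c192 rfl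
theorem s6u193 : ∀ v, 1 ≤ v → v ≤ 60068 → fs6 v = true := slots_step fs6 59663 405 60068 s6u192 s6c193 rfl
theorem s6u194 : ∀ v, 1 ≤ v → v ≤ 60352 → fs6 v = true := slots_step fs6 60068 284 60352 s6u193 s6c194 rfl
theorem s6u195 : ∀ v, 1 ≤ v → v ≤ 60667 → fs6 v = true := slots_step fs6 60352 315 60667 s6u194 s6c195 rfl
theorem s6u196 : ∀ v, 1 ≤ v → v ≤ 60973 → fs6 v = true := slots_step fs6 60667 306 60973 s6u195 s6c196 rfl
theorem s6u197 : ∀ v, 1 ≤ v → v ≤ 61335 → fs6 v = true := slots_step fs6 60973 362 61335 s6u196 s6c197 rfl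
theorem s6u198 : ∀ v, 1 ≤ v → v ≤ 61735 → fs6 v = true := slots_step fs6 61335 400 61735 s6u197 s6c198 rfl
theorem s6u199 : ∀ v, 1 ≤ v → v ≤ 62088 → fs6 v = true := slots_step fs6 61735 353 62088 s6u198 s6c199 rfl
theorem s6u200 : ∀ v, 1 ≤ v → v ≤ 62389 → fs6 v = true := slots_step fs6 62088 301 62389 s6u199 s6c200 rfl
theorem s6u201 : ∀ v, 1 ≤ v → v ≤ 62681 → fs6 v = true := slots_step fs6 62389 292 62681 s6u200 s6c201 rfl
theorem s6u202 : ∀ v, 1 ≤ v → v ≤ 62981 → fs6 v = true := slots_step fs6 62681 300 62981 s6u201 s6c202 rfl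
theorem s6u203 : ∀ v, 1 ≤ v → v ≤ 63273 → fs6 v = true := slots_step fs6 62981 292 63273 s6u202 s6c203 rfl
theorem s6u204 : ∀ v, 1 ≤ v → v ≤ 63544 → fs6 v = true := slots_step fs6 63273 271 63544 s6u203 s6c204 rfl
theorem s6u205 : ∀ v, 1 ≤ v → v ≤ 63846 → fs6 v = true := slots_step fs6 63544 302 63846 s6u204 s6c205 rfl
theorem s6u206 : ∀ v, 1 ≤ v → v ≤ 64148 → fs6 v = true := slots_step fs6 63846 302 64148 s6u205 s6c206 rfl
theorem s6u207 : ∀ v, 1 ≤ v → v ≤ 64428 → fs6 v = true := slots_step fs6 64148 280 64428 s6u206 s6c207 rfl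
theorem s6u208 : ∀ v, 1 ≤ v → v ≤ 64698 → fs6 v = true := slots_step fs6 64428 270 64698 s6u207 s6c208 rfl
theorem s6u209 : ∀ v, 1 ≤ v → v ≤ 64991 → fs6 v = true := slots_step fs6 64698 293 64991 s6u208 s6c209 rfl
theorem s6u210 : ∀ v, 1 ≤ v → v ≤ 65280 → fs6 v = true := slots_step fs6 64991 289 65280 s6u209 s6c210 rfl
theorem s6u211 : ∀ v, 1 ≤ v → v ≤ 65605 → fs6 v = true := slots_step fs6 65280 325 65605 s6u210 s6c211 rfl
theorem s6u212 : ∀ v, 1 ≤ v → v ≤ 65958 → fs6 v = true := slots_step fs6 65605 353 65958 s6u211 s6c212 rfl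
theorem s6u213 : ∀ v, 1 ≤ v → v ≤ 66334 → fs6 v = true := slots_step fs6 65958 376 66334 s6u212 s6c213 rfl
theorem s6u214 : ∀ v, 1 ≤ v → v ≤ 66675 → fs6 v = true := slots_step fs6 66334 341 66675 s6u213 s6c214 rfl
theorem s6u215 : ∀ v, 1 ≤ v → v ≤ 67007 → fs6 v = true := slots_step fs6 66675 332 67007 s6u214 s6c215 rfl
theorem s6u216 : ∀ v, 1 ≤ v → v ≤ 67357 → fs6 v = true := slots_step fs6 67007 350 67357 s6u215 s6c216 rfl
theorem s6u217 : ∀ v, 1 ≤ v → v ≤ 67721 → fs6 v = true := slots_step fs6 67357 364 67721 s6u216 s6c217 rfl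
theorem s6u218 : ∀ v, 1 ≤ v → v ≤ 68091 → fs6 v = true := slots_step fs6 67721 370 68091 s6u217 s6c218 rfl
theorem s6u219 : ∀ v, 1 ≤ v → v ≤ 68391 → fs6 v = true := slots_step fs6 68091 300 68391 s6u218 s6c219 rfl
theorem s6u220 : ∀ v, 1 ≤ v → v ≤ 68693 → fs6 v = true := slots_step fs6 68391 302 68693 s6u219 s6c220 rfl
theorem s6u221 : ∀ v, 1 ≤ v → v ≤ 69004 → fs6 v = true := slots_step fs6 68693 311 69004 s6u220 s6c221 rfl
theorem s6u222 : ∀ v, 1 ≤ v → v ≤ 69313 → fs6 v = true := slots_step fs6 69004 309 69313 s6u221 s6c222 rfl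
theorem s6u223 : ∀ v, 1 ≤ v → v ≤ 69640 → fs6 v = true := slots_step fs6 69313 327 69640 s6u222 s6c223 rfl
theorem s6u224 : ∀ v, 1 ≤ v → v ≤ 70036 → fs6 v = true := slots_step fs6 69640 396 70036 s6u223 s6c224 rfl
theorem s6u225 : ∀ v, 1 ≤ v → v ≤ 70400 → fs6 v = true := slots_step fs6 70036 364 70400 s6u224 s6c225 rfl
theorem s6u226 : ∀ v, 1 ≤ v → v ≤ 70801 → fs6 v = true := slots_step fs6 70400 401 70801 s6u225 s6c226 rfl
theorem s6u227 : ∀ v, 1 ≤ v → v ≤ 71252 → fs6 v = true := slots_step fs6 70801 451 71252 s6u226 s6c227 rfl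
theorem s6u228 : ∀ v, 1 ≤ v → v ≤ 71578 → fs6 v = true := slots_step fs6 71252 326 71578 s6u227 s6c228 rfl
theorem s6u229 : ∀ v, 1 ≤ v → v ≤ 71864 → fs6 v = true := slots_step fs6 71578 286 71864 s6u228 s6c229 rfl
theorem s6u230 : ∀ v, 1 ≤ v → v ≤ 72175 → fs6 v = true := slots_step fs6 71864 311 72175 s6u229 s6c230 rfl
theorem s6u231 : ∀ v, 1 ≤ v → v ≤ 72459 → fs6 v = true := slots_step fs6 72175 284 72459 s6u230 s6c231 rfl
theorem s6u232 : ∀ v, 1 ≤ v → v ≤ 72777 → fs6 v = true := slots_step fs6 72459 318 72777 s6u231 s6c232 rfl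
theorem s6u233 : ∀ v, 1 ≤ v → v ≤ 73135 → fs6 v = true := slots_step fs6 72777 358 73135 s6u232 s6c233 rfl
theorem s6u234 : ∀ v, 1 ≤ v → v ≤ 73566 → fs6 v = true := slots_step fs6 73135 431 73566 s6u233 s6c234 rfl
theorem s6u235 : ∀ v, 1 ≤ v → v ≤ 74008 → fs6 v = true := slots_step fs6 73566 442 74008 s6u234 s6c235 rfl
theorem s6u236 : ∀ v, 1 ≤ v → v ≤ 74341 → fs6 v = true := slots_step fs6 74008 333 74341 s6u235 s6c236 rfl
theorem s6u237 : ∀ v, 1 ≤ v → v ≤ 74715 → fs6 v = true := slots_step fs6 74341 374 74715 s6u236 s6c237 rfl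
theorem s6u238 : ∀ v, 1 ≤ v → v ≤ 75126 → fs6 v = true := slots_step fs6 74715 411 75126 s6u237 s6c238 rfl
theorem s6u239 : ∀ v, 1 ≤ v → v ≤ 75496 → fs6 v = true := slots_step fs6 75126 370 75496 s6u238 s6c239 rfl
theorem s6u240 : ∀ v, 1 ≤ v → v ≤ 75772 → fs6 v = true := slots_step fs6 75496 276 75772 s6u239 s6c240 rfl
theorem s6u241 : ∀ v, 1 ≤ v → v ≤ 76074 → fs6 v = true := slots_step fs6 75772 302 76074 s6u240 s6c241 rfl
theorem s6u242 : ∀ v, 1 ≤ v → v ≤ 76362 → fs6 v = true := slots_step fs6 76074 288 76362 s6u241 s6c242 rfl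
theorem s6u243 : ∀ v, 1 ≤ v → v ≤ 76636 → fs6 v = true := slots_step fs6 76362 274 76636 s6u242 s6c243 rfl
theorem s6u244 : ∀ v, 1 ≤ v → v ≤ 76939 → fs6 v = true := slots_step fs6 76636 303 76939 s6u243 s6c244 rfl
theorem s6u245 : ∀ v, 1 ≤ v → v ≤ 77250 → fs6 v = true := slots_step fs6 76939 311 77250 s6u244 s6c245 rfl
theorem s6u246 : ∀ v, 1 ≤ v → v ≤ 77528 → fs6 v = true := slots_step fs6 77250 278 77528 s6u245 s6c246 rfl
theorem s6u247 : ∀ v, 1 ≤ v → v ≤ 77825 → fs6 v = true := slots_step fs6 77528 297 77825 s6u246 s6c247 rfl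
theorem s6u248 : ∀ v, 1 ≤ v → v ≤ 78120 → fs6 v = true := slots_step fs6 77825 295 78120 s6u247 s6c248 rfl
theorem s6u249 : ∀ v, 1 ≤ v → v ≤ 78452 → fs6 v = true := slots_step fs6 78120 332 78452 s6u248 s6c249 rfl
theorem s6u250 : ∀ v, 1 ≤ v → v ≤ 78797 → fs6 v = true := slots_step fs6 78452 345 78797 s6u249 s6c250 rfl
theorem s6u251 : ∀ v, 1 ≤ v → v ≤ 79193 → fs6 v = true := slots_step fs6 78797 396 79193 s6u250 s6c251 rfl
theorem s6u252 : ∀ v, 1 ≤ v → v ≤ 79563 → fs6 v = true := slots_step fs6 79193 370 79563 s6u251 s6c252 rfl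
theorem s6u253 : ∀ v, 1 ≤ v → v ≤ 79932 → fs6 v = true := slots_step fs6 79563 369 79932 s6u252 s6c253 rfl
theorem s6u254 : ∀ v, 1 ≤ v → v ≤ 80342 → fs6 v = true := slots_step fs6 79932 410 80342 s6u253 s6c254 rfl
theorem s6u255 : ∀ v, 1 ≤ v → v ≤ 80657 → fs6 v = true := slots_step fs6 80342 315 80657 s6u254 s6c255 rfl
theorem s6u256 : ∀ v, 1 ≤ v → v ≤ 80946 → fs6 v = true := slots_step fs6 80657 289 80946 s6u255 s6c256 rfl
theorem s6u257 : ∀ v, 1 ≤ v → v ≤ 81292 → fs6 v = true := slots_step fs6 80946 346 81292 s6u256 s6c257 rfl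
theorem s6u258 : ∀ v, 1 ≤ v → v ≤ 81627 → fs6 v = true := slots_step fs6 81292 335 81627 s6u257 s6c258 rfl
theorem s6u259 : ∀ v, 1 ≤ v → v ≤ 82019 → fs6 v = true := slots_step fs6 81627 392 82019 s6u258 s6c259 rfl
theorem s6u260 : ∀ v, 1 ≤ v → v ≤ 82429 → fs6 v = true := slots_step fs6 82019 410 82429 s6u259 s6c260 rfl
theorem s6u261 : ∀ v, 1 ≤ v → v ≤ 82828 → fs6 v = true := slots_step fs6 82429 399 82828 s6u260 s6c261 rfl
theorem s6u262 : ∀ v, 1 ≤ v → v ≤ 83116 → fs6 v = true := slots_step fs6 82828 288 83116 s6u261 s6c262 rfl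
theorem s6u263 : ∀ v, 1 ≤ v → v ≤ 83441 → fs6 v = true := slots_step fs6 83116 325 83441 s6u262 s6c263 rfl
theorem s6u264 : ∀ v, 1 ≤ v → v ≤ 83721 → fs6 v = true := slots_step fs6 83441 280 83721 s6u263 s6c264 rfl
theorem s6u265 : ∀ v, 1 ≤ v → v ≤ 84019 → fs6 v = true := slots_step fs6 83721 298 84019 s6u264 s6c265 rfl
theorem s6u266 : ∀ v, 1 ≤ v → v ≤ 84320 → fs6 v = true := slots_step fs6 84019 301 84320 s6u265 s6c266 rfl
theorem s6u267 : ∀ v, 1 ≤ v → v ≤ 84626 → fs6 v = true := slots_step fs6 84320 306 84626 s6u266 s6c267 rfl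
theorem s6u268 : ∀ v, 1 ≤ v → v ≤ 84909 → fs6 v = true := slots_step fs6 84626 283 84909 s6u267 s6c268 rfl
theorem s6u269 : ∀ v, 1 ≤ v → v ≤ 85206 → fs6 v = true := slots_step fs6 84909 297 85206 s6u268 s6c269 rfl
theorem s6u270 : ∀ v, 1 ≤ v → v ≤ 85499 → fs6 v = true := slots_step fs6 85206 293 85499 s6u269 s6c270 rfl
theorem s6u271 : ∀ v, 1 ≤ v → v ≤ 85817 → fs6 v = true := slots_step fs6 85499 318 85817 s6u270 s6c271 rfl
theorem s6u272 : ∀ v, 1 ≤ v → v ≤ 86104 → fs6 v = true := slots_step fs6 85817 287 86104 s6u271 s6c272 rfl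
theorem s6u273 : ∀ v, 1 ≤ v → v ≤ 86374 → fs6 v = true := slots_step fs6 86104 270 86374 s6u272 s6c273 rfl
theorem s6u274 : ∀ v, 1 ≤ v → v ≤ 86666 → fs6 v = true := slots_step fs6 86374 292 86666 s6u273 s6c274 rfl
theorem s6u275 : ∀ v, 1 ≤ v → v ≤ 86979 → fs6 v = true := slots_step fs6 86666 313 86979 s6u274 s6c275 rfl
theorem s6u276 : ∀ v, 1 ≤ v → v ≤ 87280 → fs6 v = true := slots_step fs6 86979 301 87280 s6u275 s6c276 rfl
theorem s6u277 : ∀ v, 1 ≤ v → v ≤ 87585 → fs6 v = true := slots_step fs6 87280 305 87585 s6u276 s6c277 rfl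
theorem s6u278 : ∀ v, 1 ≤ v → v ≤ 87929 → fs6 v = true := slots_step fs6 87585 344 87929 s6u277 s6c278 rfl
theorem s6u279 : ∀ v, 1 ≤ v → v ≤ 88303 → fs6 v = true := slots_step fs6 87929 374 88303 s6u278 s6c279 rfl
theorem s6u280 : ∀ v, 1 ≤ v → v ≤ 88684 → fs6 v = true := slots_step fs6 88303 381 88684 s6u279 s6c280 rfl
theorem s6u281 : ∀ v, 1 ≤ v → v ≤ 89052 → fs6 v = true := slots_step fs6 88684 368 89052 s6u280 s6c281 rfl
theorem s6u282 : ∀ v, 1 ≤ v → v ≤ 89382 → fs6 v = true := slots_step fs6 89052 330 89382 s6u281 s6c282 rfl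
theorem s6u283 : ∀ v, 1 ≤ v → v ≤ 89761 → fs6 v = true := slots_step fs6 89382 379 89761 s6u282 s6c283 rfl
theorem s6u284 : ∀ v, 1 ≤ v → v ≤ 90103 → fs6 v = true := slots_step fs6 89761 342 90103 s6u283 s6c284 rfl
theorem s6u285 : ∀ v, 1 ≤ v → v ≤ 90478 → fs6 v = true := slots_step fs6 90103 375 90478 s6u284 s6c285 rfl
theorem s6u286 : ∀ v, 1 ≤ v → v ≤ 90873 → fs6 v = true := slots_step fs6 90478 395 90873 s6u285 s6c286 rfl
theorem s6u287 : ∀ v, 1 ≤ v → v ≤ 91175 → fs6 v = true := slots_step fs6 90873 302 91175 s6u286 s6c287 rfl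
theorem s6u288 : ∀ v, 1 ≤ v → v ≤ 91495 → fs6 v = true := slots_step fs6 91175 320 91495 s6u287 s6c288 rfl
theorem s6u289 : ∀ v, 1 ≤ v → v ≤ 91844 → fs6 v = true := slots_step fs6 91495 349 91844 s6u288 s6c289 rfl
theorem s6u290 : ∀ v, 1 ≤ v → v ≤ 92150 → fs6 v = true := slots_step fs6 91844 306 92150 s6u289 s6c290 rfl
theorem s6u291 : ∀ v, 1 ≤ v → v ≤ 92480 → fs6 v = true := slots_step fs6 92150 330 92480 s6u290 s6c291 rfl
theorem s6u292 : ∀ v, 1 ≤ v → v ≤ 92856 → fs6 v = true := slots_step fs6 92480 376 92856 s6u291 s6c292 rfl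
theorem s6u293 : ∀ v, 1 ≤ v → v ≤ 93293 → fs6 v = true := slots_step fs6 92856 437 93293 s6u292 s6c293 rfl
theorem s6u294 : ∀ v, 1 ≤ v → v ≤ 93753 → fs6 v = true := slots_step fs6 93293 460 93753 s6u293 s6c294 rfl
theorem s6u295 : ∀ v, 1 ≤ v → v ≤ 94223 → fs6 v = true := slots_step fs6 93753 470 94223 s6u294 s6c295 rfl
theorem s6u296 : ∀ v, 1 ≤ v → v ≤ 94545 → fs6 v = true := slots_step fs6 94223 322 94545 s6u295 s6c296 rfl
theorem s6u297 : ∀ v, 1 ≤ v → v ≤ 94846 → fs6 v = true := slots_step fs6 94545 301 94846 s6u296 s6c297 rfl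
theorem s6u298 : ∀ v, 1 ≤ v → v ≤ 95152 → fs6 v = true := slots_step fs6 94846 306 95152 s6u297 s6c298 rfl
theorem s6u299 : ∀ v, 1 ≤ v → v ≤ 95485 → fs6 v = true := slots_step fs6 95152 333 95485 s6u298 s6c299 rfl
theorem s6u300 : ∀ v, 1 ≤ v → v ≤ 95778 → fs6 v = true := slots_step fs6 95485 293 95778 s6u299 s6c300 rfl
theorem s6u301 : ∀ v, 1 ≤ v → v ≤ 96118 → fs6 v = true := slots_step fs6 95778 340 96118 s6u300 s6c301 rfl
theorem s6u302 : ∀ v, 1 ≤ v → v ≤ 96475 → fs6 v = true := slots_step fs6 96118 357 96475 s6u301 s6c302 rfl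
theorem s6u303 : ∀ v, 1 ≤ v → v ≤ 96912 → fs6 v = true := slots_step fs6 96475 437 96912 s6u302 s6c303 rfl
theorem s6u304 : ∀ v, 1 ≤ v → v ≤ 97359 → fs6 v = true := slots_step fs6 96912 447 97359 s6u303 s6c304 rfl
theorem s6u305 : ∀ v, 1 ≤ v → v ≤ 97729 → fs6 v = true := slots_step fs6 97359 370 97729 s6u304 s6c305 rfl
theorem s6u306 : ∀ v, 1 ≤ v → v ≤ 98122 → fs6 v = true := slots_step fs6 97729 393 98122 s6u305 s6c306 rfl
theorem s6u307 : ∀ v, 1 ≤ v → v ≤ 98557 → fs6 v = true := slots_step fs6 98122 435 98557 s6u306 s6c307 rfl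
theorem s6u308 : ∀ v, 1 ≤ v → v ≤ 98940 → fs6 v = true := slots_step fs6 98557 383 98940 s6u307 s6c308 rfl
theorem s6u309 : ∀ v, 1 ≤ v → v ≤ 99224 → fs6 v = true := slots_step fs6 98940 284 99224 s6u308 s6c309 rfl
theorem s6u310 : ∀ v, 1 ≤ v → v ≤ 99519 → fs6 v = true := slots_step fs6 99224 295 99519 s6u309 s6c310 rfl
theorem s6u311 : ∀ v, 1 ≤ v → v ≤ 99820 → fs6 v = true := slots_step fs6 99519 301 99820 s6u310 s6c311 rfl
theorem s6u312 : ∀ v, 1 ≤ v → v ≤ 100125 → fs6 v = true := slots_step fs6 99820 305 100125 s6u311 s6c312 rfl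
theorem s6u313 : ∀ v, 1 ≤ v → v ≤ 100407 → fs6 v = true := slots_step fs6 100125 282 100407 s6u312 s6c313 rfl
theorem s6u314 : ∀ v, 1 ≤ v → v ≤ 100695 → fs6 v = true := slots_step fs6 100407 288 100695 s6u313 s6c314 rfl
theorem s6u315 : ∀ v, 1 ≤ v → v ≤ 101015 → fs6 v = true := slots_step fs6 100695 320 101015 s6u314 s6c315 rfl
theorem s6u316 : ∀ v, 1 ≤ v → v ≤ 101320 → fs6 v = true := slots_step fs6 101015 305 101320 s6u315 s6c316 rfl
theorem s6u317 : ∀ v, 1 ≤ v → v ≤ 101634 → fs6 v = true := slots_step fs6 101320 314 101634 s6u316 s6c317 rfl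
theorem s6u318 : ∀ v, 1 ≤ v → v ≤ 101922 → fs6 v = true := slots_step fs6 101634 288 101922 s6u317 s6c318 rfl
theorem s6u319 : ∀ v, 1 ≤ v → v ≤ 102220 → fs6 v = true := slots_step fs6 101922 298 102220 s6u318 s6c319 rfl
theorem s6u320 : ∀ v, 1 ≤ v → v ≤ 102541 → fs6 v = true := slots_step fs6 102220 321 102541 s6u319 s6c320 rfl
theorem s6u321 : ∀ v, 1 ≤ v → v ≤ 102853 → fs6 v = true := slots_step fs6 102541 312 102853 s6u320 s6c321 rfl
theorem s6u322 : ∀ v, 1 ≤ v → v ≤ 103182 → fs6 v = true := slots_step fs6 102853 329 103182 s6u321 s6c322 rfl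
theorem s6u323 : ∀ v, 1 ≤ v → v ≤ 103576 → fs6 v = true := slots_step fs6 103182 394 103576 s6u322 s6c323 rfl
theorem s6u324 : ∀ v, 1 ≤ v → v ≤ 104006 → fs6 v = true := slots_step fs6 103576 430 104006 s6u323 s6c324 rfl
theorem s6u325 : ∀ v, 1 ≤ v → v ≤ 104371 → fs6 v = true := slots_step fs6 104006 365 104371 s6u324 s6c325 rfl
theorem s6u326 : ∀ v, 1 ≤ v → v ≤ 104790 → fs6 v = true := slots_step fs6 104371 419 104790 s6u325 s6c326 rfl
theorem s6u327 : ∀ v, 1 ≤ v → v ≤ 105209 → fs6 v = true := slots_step fs6 104790 419 105209 s6u326 s6c327 rfl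
theorem s6u328 : ∀ v, 1 ≤ v → v ≤ 105517 → fs6 v = true := slots_step fs6 105209 308 105517 s6u327 s6c328 rfl
theorem s6u329 : ∀ v, 1 ≤ v → v ≤ 105808 → fs6 v = true := slots_step fs6 105517 291 105808 s6u328 s6c329 rfl
theorem s6u330 : ∀ v, 1 ≤ v → v ≤ 106188 → fs6 v = true := slots_step fs6 105808 380 106188 s6u329 s6c330 rfl
theorem s6u331 : ∀ v, 1 ≤ v → v ≤ 106525 → fs6 v = true := slots_step fs6 106188 337 106525 s6u330 s6c331 rfl
theorem s6u332 : ∀ v, 1 ≤ v → v ≤ 106942 → fs6 v = true := slots_step fs6 106525 417 106942 s6u331 s6c332 rfl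
theorem s6u333 : ∀ v, 1 ≤ v → v ≤ 107419 → fs6 v = true := slots_step fs6 106942 477 107419 s6u332 s6c333 rfl
theorem s6u334 : ∀ v, 1 ≤ v → v ≤ 107739 → fs6 v = true := slots_step fs6 107419 320 107739 s6u333 s6c334 rfl
theorem s6u335 : ∀ v, 1 ≤ v → v ≤ 108039 → fs6 v = true := slots_step fs6 107739 300 108039 s6u334 s6c335 rfl
theorem s6u336 : ∀ v, 1 ≤ v → v ≤ 108392 → fs6 v = true := slots_step fs6 108039 353 108392 s6u335 s6c336 rfl
theorem s6u337 : ∀ v, 1 ≤ v → v ≤ 108672 → fs6 v = true := slots_step fs6 108392 280 108672 s6u336 s6c337 rfl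
theorem s6u338 : ∀ v, 1 ≤ v → v ≤ 108968 → fs6 v = true := slots_step fs6 108672 296 108968 s6u337 s6c338 rfl
theorem s6u339 : ∀ v, 1 ≤ v → v ≤ 109269 → fs6 v = true := slots_step fs6 108968 301 109269 s6u338 s6c339 rfl
theorem s6u340 : ∀ v, 1 ≤ v → v ≤ 109593 → fs6 v = true := slots_step fs6 109269 324 109593 s6u339 s6c340 rfl
theorem s6u341 : ∀ v, 1 ≤ v → v ≤ 109927 → fs6 v = true := slots_step fs6 109593 334 109927 s6u340 s6c341 rfl
theorem s6u342 : ∀ v, 1 ≤ v → v ≤ 110206 → fs6 v = true := slots_step fs6 109927 279 110206 s6u341 s6c342 rfl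
theorem s6u343 : ∀ v, 1 ≤ v → v ≤ 110495 → fs6 v = true := slots_step fs6 110206 289 110495 s6u342 s6c343 rfl
theorem s6u344 : ∀ v, 1 ≤ v → v ≤ 110810 → fs6 v = true := slots_step fs6 110495 315 110810 s6u343 s6c344 rfl
theorem s6u345 : ∀ v, 1 ≤ v → v ≤ 111104 → fs6 v = true := slots_step fs6 110810 294 111104 s6u344 s6c345 rfl
theorem s6u346 : ∀ v, 1 ≤ v → v ≤ 111393 → fs6 v = true := slots_step fs6 111104 289 111393 s6u345 s6c346 rfl
theorem s6u347 : ∀ v, 1 ≤ v → v ≤ 111724 → fs6 v = true := slots_step fs6 111393 331 111724 s6u346 s6c347 rfl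
theorem s6u348 : ∀ v, 1 ≤ v → v ≤ 112028 → fs6 v = true := slots_step fs6 111724 304 112028 s6u347 s6c348 rfl
theorem s6u349 : ∀ v, 1 ≤ v → v ≤ 112307 → fs6 v = true := slots_step fs6 112028 279 112307 s6u348 s6c349 rfl
theorem s6u350 : ∀ v, 1 ≤ v → v ≤ 112601 → fs6 v = true := slots_step fs6 112307 294 112601 s6u349 s6c350 rfl
theorem s6u351 : ∀ v, 1 ≤ v → v ≤ 112904 → fs6 v = true := slots_step fs6 112601 303 112904 s6u350 s6c351 rfl
theorem s6u352 : ∀ v, 1 ≤ v → v ≤ 113224 → fs6 v = true := slots_step fs6 112904 320 113224 s6u351 s6c352 rfl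
theorem s6u353 : ∀ v, 1 ≤ v → v ≤ 113538 → fs6 v = true := slots_step fs6 113224 314 113538 s6u352 s6c353 rfl
theorem s6u354 : ∀ v, 1 ≤ v → v ≤ 113876 → fs6 v = true := slots_step fs6 113538 338 113876 s6u353 s6c354 rfl
theorem s6u355 : ∀ v, 1 ≤ v → v ≤ 114186 → fs6 v = true := slots_step fs6 113876 310 114186 s6u354 s6c355 rfl
theorem s6u356 : ∀ v, 1 ≤ v → v ≤ 114530 → fs6 v = true := slots_step fs6 114186 344 114530 s6u355 s6c356 rfl
theorem s6u357 : ∀ v, 1 ≤ v → v ≤ 114926 → fs6 v = true := slots_step fs6 114530 396 114926 s6u356 s6c357 rfl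
theorem s6u358 : ∀ v, 1 ≤ v → v ≤ 115324 → fs6 v = true := slots_step fs6 114926 398 115324 s6u357 s6c358 rfl
theorem s6u359 : ∀ v, 1 ≤ v → v ≤ 115715 → fs6 v = true := slots_step fs6 115324 391 115715 s6u358 s6c359 rfl
theorem s6u360 : ∀ v, 1 ≤ v → v ≤ 116053 → fs6 v = true := slots_step fs6 115715 338 116053 s6u359 s6c360 rfl
theorem s6u361 : ∀ v, 1 ≤ v → v ≤ 116449 → fs6 v = true := slots_step fs6 116053 396 116449 s6u360 s6c361 rfl
theorem s6u362 : ∀ v, 1 ≤ v → v ≤ 116808 → fs6 v = true := slots_step fs6 116449 359 116808 s6u361 s6c362 rfl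
theorem s6u363 : ∀ v, 1 ≤ v → v ≤ 117222 → fs6 v = true := slots_step fs6 116808 414 117222 s6u362 s6c363 rfl
theorem s6u364 : ∀ v, 1 ≤ v → v ≤ 117602 → fs6 v = true := slots_step fs6 117222 380 117602 s6u363 s6c364 rfl
theorem s6u365 : ∀ v, 1 ≤ v → v ≤ 117954 → fs6 v = true := slots_step fs6 117602 352 117954 s6u364 s6c365 rfl
theorem s6u366 : ∀ v, 1 ≤ v → v ≤ 118248 → fs6 v = true := slots_step fs6 117954 294 118248 s6u365 s6c366 rfl
theorem s6u367 : ∀ v, 1 ≤ v → v ≤ 118598 → fs6 v = true := slots_step fs6 118248 350 118598 s6u366 s6c367 rfl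
theorem s6u368 : ∀ v, 1 ≤ v → v ≤ 118922 → fs6 v = true := slots_step fs6 118598 324 118922 s6u367 s6c368 rfl
theorem s6u369 : ∀ v, 1 ≤ v → v ≤ 119266 → fs6 v = true := slots_step fs6 118922 344 119266 s6u368 s6c369 rfl
theorem s6u370 : ∀ v, 1 ≤ v → v ≤ 119668 → fs6 v = true := slots_step fs6 119266 402 119668 s6u369 s6c370 rfl
theorem s6u371 : ∀ v, 1 ≤ v → v ≤ 120119 → fs6 v = true := slots_step fs6 119668 451 120119 s6u370 s6c371 rfl
theorem s6u372 : ∀ v, 1 ≤ v → v ≤ 120560 → fs6 v = true := slots_step fs6 120119 441 120560 s6u371 s6c372 rfl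
theorem s6u373 : ∀ v, 1 ≤ v → v ≤ 120867 → fs6 v = true := slots_step fs6 120560 307 120867 s6u372 s6c373 rfl
theorem s6u374 : ∀ v, 1 ≤ v → v ≤ 121156 → fs6 v = true := slots_step fs6 120867 289 121156 s6u373 s6c374 rfl
theorem s6u375 : ∀ v, 1 ≤ v → v ≤ 121471 → fs6 v = true := slots_step fs6 121156 315 121471 s6u374 s6c375 rfl
theorem s6u376 : ∀ v, 1 ≤ v → v ≤ 121825 → fs6 v = true := slots_step fs6 121471 354 121825 s6u375 s6c376 rfl
theorem s6u377 : ∀ v, 1 ≤ v → v ≤ 122137 → fs6 v = true := slots_step fs6 121825 312 122137 s6u376 s6c377 rfl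
theorem s6u378 : ∀ v, 1 ≤ v → v ≤ 122461 → fs6 v = true := slots_step fs6 122137 324 122461 s6u377 s6c378 rfl
theorem s6u379 : ∀ v, 1 ≤ v → v ≤ 122794 → fs6 v = true := slots_step fs6 122461 333 122794 s6u378 s6c379 rfl
theorem s6u380 : ∀ v, 1 ≤ v → v ≤ 123189 → fs6 v = true := slots_step fs6 122794 395 123189 s6u379 s6c380 rfl
theorem s6u381 : ∀ v, 1 ≤ v → v ≤ 123654 → fs6 v = true := slots_step fs6 123189 465 123654 s6u380 s6c381 rfl
theorem s6u382 : ∀ v, 1 ≤ v → v ≤ 124023 → fs6 v = true := slots_step fs6 123654 369 124023 s6u381 s6c382 rfl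
theorem s6u383 : ∀ v, 1 ≤ v → v ≤ 124430 → fs6 v = true := slots_step fs6 124023 407 124430 s6u382 s6c383 rfl
theorem s6u384 : ∀ v, 1 ≤ v → v ≤ 124801 → fs6 v = true := slots_step fs6 124430 371 124801 s6u383 s6c384 rfl
theorem s6u385 : ∀ v, 1 ≤ v → v ≤ 125071 → fs6 v = true := slots_step fs6 124801 270 125071 s6u384 s6c385 rfl
theorem s6u386 : ∀ v, 1 ≤ v → v ≤ 125343 → fs6 v = true := slots_step fs6 125071 272 125343 s6u385 s6c386 rfl
theorem s6u387 : ∀ v, 1 ≤ v → v ≤ 125612 → fs6 v = true := slots_step fs6 125343 269 125612 s6u386 s6c387 rfl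
theorem s6u388 : ∀ v, 1 ≤ v → v ≤ 125872 → fs6 v = true := slots_step fs6 125612 260 125872 s6u387 s6c388 rfl
theorem s6u389 : ∀ v, 1 ≤ v → v ≤ 126153 → fs6 v = true := slots_step fs6 125872 281 126153 s6u388 s6c389 rfl
theorem s6u390 : ∀ v, 1 ≤ v → v ≤ 126419 → fs6 v = true := slots_step fs6 126153 266 126419 s6u389 s6c390 rfl
theorem s6u391 : ∀ v, 1 ≤ v → v ≤ 126702 → fs6 v = true := slots_step fs6 126419 283 126702 s6u390 s6c391 rfl
theorem s6u392 : ∀ v, 1 ≤ v → v ≤ 126945 → fs6 v = true := slots_step fs6 126702 243 126945 s6u391 s6c392 rfl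
theorem s6u393 : ∀ v, 1 ≤ v → v ≤ 127220 → fs6 v = true := slots_step fs6 126945 275 127220 s6u392 s6c393 rfl
theorem s6u394 : ∀ v, 1 ≤ v → v ≤ 127501 → fs6 v = true := slots_step fs6 127220 281 127501 s6u393 s6c394 rfl
theorem s6u395 : ∀ v, 1 ≤ v → v ≤ 127768 → fs6 v = true := slots_step fs6 127501 267 127768 s6u394 s6c395 rfl
theorem s6u396 : ∀ v, 1 ≤ v → v ≤ 128041 → fs6 v = true := slots_step fs6 127768 273 128041 s6u395 s6c396 rfl
theorem s6u397 : ∀ v, 1 ≤ v → v ≤ 128323 → fs6 v = true := slots_step fs6 128041 282 128323 s6u396 s6c397 rfl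
theorem s6u398 : ∀ v, 1 ≤ v → v ≤ 128607 → fs6 v = true := slots_step fs6 128323 284 128607 s6u397 s6c398 rfl
theorem s6u399 : ∀ v, 1 ≤ v → v ≤ 128888 → fs6 v = true := slots_step fs6 128607 281 128888 s6u398 s6c399 rfl
theorem s6u400 : ∀ v, 1 ≤ v → v ≤ 129161 → fs6 v = true := slots_step fs6 128888 273 129161 s6u399 s6c400 rfl
theorem s6u401 : ∀ v, 1 ≤ v → v ≤ 129444 → fs6 v = true := slots_step fs6 129161 283 129444 s6u400 s6c401 rfl
theorem s6u402 : ∀ v, 1 ≤ v → v ≤ 129701 → fs6 v = true := slots_step fs6 129444 257 129701 s6u401 s6c402 rfl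
theorem s6u403 : ∀ v, 1 ≤ v → v ≤ 129942 → fs6 v = true := slots_step fs6 129701 241 129942 s6u402 s6c403 rfl
theorem s6u404 : ∀ v, 1 ≤ v → v ≤ 130179 → fs6 v = true := slots_step fs6 129942 237 130179 s6u403 s6c404 rfl
theorem s6u405 : ∀ v, 1 ≤ v → v ≤ 130455 → fs6 v = true := slots_step fs6 130179 276 130455 s6u404 s6c405 rfl
theorem s6u406 : ∀ v, 1 ≤ v → v ≤ 130729 → fs6 v = true := slots_step fs6 130455 274 130729 s6u405 s6c406 rfl
theorem s6u407 : ∀ v, 1 ≤ v → v ≤ 130998 → fs6 v = true := slots_step fs6 130729 269 130998 s6u406 s6c407 rfl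
theorem s6u408 : ∀ v, 1 ≤ v → v ≤ 131278 → fs6 v = true := slots_step fs6 130998 280 131278 s6u407 s6c408 rfl
theorem s6u409 : ∀ v, 1 ≤ v → v ≤ 131559 → fs6 v = true := slots_step fs6 131278 281 131559 s6u408 s6c409 rfl
theorem s6u410 : ∀ v, 1 ≤ v → v ≤ 131835 → fs6 v = true := slots_step fs6 131559 276 131835 s6u409 s6c410 rfl
theorem s6u411 : ∀ v, 1 ≤ v → v ≤ 132104 → fs6 v = true := slots_step fs6 131835 269 132104 s6u410 s6c411 rfl
theorem s6u412 : ∀ v, 1 ≤ v → v ≤ 132369 → fs6 v = true := slots_step fs6 132104 265 132369 s6u411 s6c412 rfl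
theorem s6u413 : ∀ v, 1 ≤ v → v ≤ 132650 → fs6 v = true := slots_step fs6 132369 281 132650 s6u412 s6c413 rfl
theorem s6u414 : ∀ v, 1 ≤ v → v ≤ 132924 → fs6 v = true := slots_step fs6 132650 274 132924 s6u413 s6c414 rfl
theorem s6u415 : ∀ v, 1 ≤ v → v ≤ 133211 → fs6 v = true := slots_step fs6 132924 287 133211 s6u414 s6c415 rfl
theorem s6u416 : ∀ v, 1 ≤ v → v ≤ 133483 → fs6 v = true := slots_step fs6 133211 272 133483 s6u415 s6c416 rfl
theorem s6u417 : ∀ v, 1 ≤ v → v ≤ 133735 → fs6 v = true := slots_step fs6 133483 252 133735 s6u416 s6c417 rfl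
theorem s6u418 : ∀ v, 1 ≤ v → v ≤ 134016 → fs6 v = true := slots_step fs6 133735 281 134016 s6u417 s6c418 rfl
theorem s6u419 : ∀ v, 1 ≤ v → v ≤ 134286 → fs6 v = true := slots_step fs6 134016 270 134286 s6u418 s6c419 rfl
theorem s6u420 : ∀ v, 1 ≤ v → v ≤ 134570 → fs6 v = true := slots_step fs6 134286 284 134570 s6u419 s6c420 rfl
theorem s6u421 : ∀ v, 1 ≤ v → v ≤ 134853 → fs6 v = true := slots_step fs6 134570 283 134853 s6u420 s6c421 rfl
theorem s6u422 : ∀ v, 1 ≤ v → v ≤ 135134 → fs6 v = true := slots_step fs6 134853 281 135134 s6u421 s6c422 rfl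
theorem s6u423 : ∀ v, 1 ≤ v → v ≤ 135409 → fs6 v = true := slots_step fs6 135134 275 135409 s6u422 s6c423 rfl
theorem s6u424 : ∀ v, 1 ≤ v → v ≤ 135693 → fs6 v = true := slots_step fs6 135409 284 135693 s6u423 s6c424 rfl
theorem s6u425 : ∀ v, 1 ≤ v → v ≤ 135981 → fs6 v = true := slots_step fs6 135693 288 135981 s6u424 s6c425 rfl
theorem s6u426 : ∀ v, 1 ≤ v → v ≤ 136280 → fs6 v = true := slots_step fs6 135981 299 136280 s6u425 s6c426 rfl
theorem s6u427 : ∀ v, 1 ≤ v → v ≤ 136570 → fs6 v = true := slots_step fs6 136280 290 136570 s6u426 s6c427 rfl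
theorem s6u428 : ∀ v, 1 ≤ v → v ≤ 136849 → fs6 v = true := slots_step fs6 136570 279 136849 s6u427 s6c428 rfl
theorem s6u429 : ∀ v, 1 ≤ v → v ≤ 137127 → fs6 v = true := slots_step fs6 136849 278 137127 s6u428 s6c429 rfl
theorem s6u430 : ∀ v, 1 ≤ v → v ≤ 137393 → fs6 v = true := slots_step fs6 137127 266 137393 s6u429 s6c430 rfl
theorem s6u431 : ∀ v, 1 ≤ v → v ≤ 137664 → fs6 v = true := slots_step fs6 137393 271 137664 s6u430 s6c431 rfl
theorem s6u432 : ∀ v, 1 ≤ v → v ≤ 137936 → fs6 v = true := slots_step fs6 137664 272 137936 s6u431 s6c432 rfl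
theorem s6u433 : ∀ v, 1 ≤ v → v ≤ 138209 → fs6 v = true := slots_step fs6 137936 273 138209 s6u432 s6c433 rfl
theorem s6u434 : ∀ v, 1 ≤ v → v ≤ 138474 → fs6 v = true := slots_step fs6 138209 265 138474 s6u433 s6c434 rfl
theorem s6u435 : ∀ v, 1 ≤ v → v ≤ 138736 → fs6 v = true := slots_step fs6 138474 262 138736 s6u434 s6c435 rfl
theorem s6u436 : ∀ v, 1 ≤ v → v ≤ 139025 → fs6 v = true := slots_step fs6 138736 289 139025 s6u435 s6c436 rfl
theorem s6u437 : ∀ v, 1 ≤ v → v ≤ 139296 → fs6 v = true := slots_step fs6 139025 271 139296 s6u436 s6c437 rfl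
theorem s6u438 : ∀ v, 1 ≤ v → v ≤ 139563 → fs6 v = true := slots_step fs6 139296 267 139563 s6u437 s6c438 rfl
theorem s6u439 : ∀ v, 1 ≤ v → v ≤ 139829 → fs6 v = true := slots_step fs6 139563 266 139829 s6u438 s6c439 rfl
theorem s6u440 : ∀ v, 1 ≤ v → v ≤ 140079 → fs6 v = true := slots_step fs6 139829 250 140079 s6u439 s6c440 rfl
theorem s6u441 : ∀ v, 1 ≤ v → v ≤ 140339 → fs6 v = true := slots_step fs6 140079 260 140339 s6u440 s6c441 rfl
theorem s6u442 : ∀ v, 1 ≤ v → v ≤ 140619 → fs6 v = true := slots_step fs6 140339 280 140619 s6u441 s6c442 rfl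
theorem s6u443 : ∀ v, 1 ≤ v → v ≤ 140896 → fs6 v = true := slots_step fs6 140619 277 140896 s6u442 s6c443 rfl
theorem s6u444 : ∀ v, 1 ≤ v → v ≤ 141149 → fs6 v = true := slots_step fs6 140896 253 141149 s6u443 s6c444 rfl
theorem s6u445 : ∀ v, 1 ≤ v → v ≤ 141425 → fs6 v = true := slots_step fs6 141149 276 141425 s6u444 s6c445 rfl
theorem s6u446 : ∀ v, 1 ≤ v → v ≤ 141691 → fs6 v = true := slots_step fs6 141425 266 141691 s6u445 s6c446 rfl
theorem s6u447 : ∀ v, 1 ≤ v → v ≤ 141954 → fs6 v = true := slots_step fs6 141691 263 141954 s6u446 s6c447 rfl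
theorem s6u448 : ∀ v, 1 ≤ v → v ≤ 142208 → fs6 v = true := slots_step fs6 141954 254 142208 s6u447 s6c448 rfl
theorem s6u449 : ∀ v, 1 ≤ v → v ≤ 142470 → fs6 v = true := slots_step fs6 142208 262 142470 s6u448 s6c449 rfl
theorem s6u450 : ∀ v, 1 ≤ v → v ≤ 142731 → fs6 v = true := slots_step fs6 142470 261 142731 s6u449 s6c450 rfl
theorem s6u451 : ∀ v, 1 ≤ v → v ≤ 143000 → fs6 v = true := slots_step fs6 142731 269 143000 s6u450 s6c451 rfl
theorem s6u452 : ∀ v, 1 ≤ v → v ≤ 143268 → fs6 v = true := slots_step fs6 143000 268 143268 s6u451 s6c452 rfl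
theorem s6u453 : ∀ v, 1 ≤ v → v ≤ 143538 → fs6 v = true := slots_step fs6 143268 270 143538 s6u452 s6c453 rfl
theorem s6u454 : ∀ v, 1 ≤ v → v ≤ 143802 → fs6 v = true := slots_step fs6 143538 264 143802 s6u453 s6c454 rfl
theorem s6u455 : ∀ v, 1 ≤ v → v ≤ 144057 → fs6 v = true := slots_step fs6 143802 255 144057 s6u454 s6c455 rfl
theorem s6u456 : ∀ v, 1 ≤ v → v ≤ 144329 → fs6 v = true := slots_step fs6 144057 272 144329 s6u455 s6c456 rfl
theorem s6u457 : ∀ v, 1 ≤ v → v ≤ 144613 → fs6 v = true := slots_step fs6 144329 284 144613 s6u456 s6c457 rfl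
theorem s6u458 : ∀ v, 1 ≤ v → v ≤ 144884 → fs6 v = true := slots_step fs6 144613 271 144884 s6u457 s6c458 rfl
theorem s6u459 : ∀ v, 1 ≤ v → v ≤ 145161 → fs6 v = true := slots_step fs6 144884 277 145161 s6u458 s6c459 rfl
theorem s6u460 : ∀ v, 1 ≤ v → v ≤ 145441 → fs6 v = true := slots_step fs6 145161 280 145441 s6u459 s6c460 rfl
theorem s6u461 : ∀ v, 1 ≤ v → v ≤ 145728 → fs6 v = true := slots_step fs6 145441 287 145728 s6u460 s6c461 rfl
theorem s6u462 : ∀ v, 1 ≤ v → v ≤ 146014 → fs6 v = true := slots_step fs6 145728 286 146014 s6u461 s6c462 rfl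
theorem s6u463 : ∀ v, 1 ≤ v → v ≤ 146286 → fs6 v = true := slots_step fs6 146014 272 146286 s6u462 s6c463 rfl
theorem s6u464 : ∀ v, 1 ≤ v → v ≤ 146557 → fs6 v = true := slots_step fs6 146286 271 146557 s6u463 s6c464 rfl
theorem s6u465 : ∀ v, 1 ≤ v → v ≤ 146833 → fs6 v = true := slots_step fs6 146557 276 146833 s6u464 s6c465 rfl
theorem s6u466 : ∀ v, 1 ≤ v → v ≤ 147089 → fs6 v = true := slots_step fs6 146833 256 147089 s6u465 s6c466 rfl
theorem s6u467 : ∀ v, 1 ≤ v → v ≤ 147315 → fs6 v = true := slots_step fs6 147089 226 147315 s6u466 s6c467 rfl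
theorem s6u468 : ∀ v, 1 ≤ v → v ≤ 147574 → fs6 v = true := slots_step fs6 147315 259 147574 s6u467 s6c468 rfl
theorem s6u469 : ∀ v, 1 ≤ v → v ≤ 147849 → fs6 v = true := slots_step fs6 147574 275 147849 s6u468 s6c469 rfl
theorem s6u470 : ∀ v, 1 ≤ v → v ≤ 148123 → fs6 v = true := slots_step fs6 147849 274 148123 s6u469 s6c470 rfl
theorem s6u471 : ∀ v, 1 ≤ v → v ≤ 148404 → fs6 v = true := slots_step fs6 148123 281 148404 s6u470 s6c471 rfl
theorem s6u472 : ∀ v, 1 ≤ v → v ≤ 148683 → fs6 v = true := slots_step fs6 148404 279 148683 s6u471 s6c472 rfl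
theorem s6u473 : ∀ v, 1 ≤ v → v ≤ 148952 → fs6 v = true := slots_step fs6 148683 269 148952 s6u472 s6c473 rfl
theorem s6u474 : ∀ v, 1 ≤ v → v ≤ 149221 → fs6 v = true := slots_step fs6 148952 269 149221 s6u473 s6c474 rfl
theorem s6u475 : ∀ v, 1 ≤ v → v ≤ 149489 → fs6 v = true := slots_step fs6 149221 268 149489 s6u474 s6c475 rfl
theorem s6u476 : ∀ v, 1 ≤ v → v ≤ 149762 → fs6 v = true := slots_step fs6 149489 273 149762 s6u475 s6c476 rfl
theorem s6u477 : ∀ v, 1 ≤ v → v ≤ 150039 → fs6 v = true := slots_step fs6 149762 277 150039 s6u476 s6c477 rfl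
theorem s6u478 : ∀ v, 1 ≤ v → v ≤ 150317 → fs6 v = true := slots_step fs6 150039 278 150317 s6u477 s6c478 rfl
theorem s6u479 : ∀ v, 1 ≤ v → v ≤ 150591 → fs6 v = true := slots_step fs6 150317 274 150591 s6u478 s6c479 rfl
theorem s6u480 : ∀ v, 1 ≤ v → v ≤ 150872 → fs6 v = true := slots_step fs6 150591 281 150872 s6u479 s6c480 rfl
theorem s6u481 : ∀ v, 1 ≤ v → v ≤ 151146 → fs6 v = true := slots_step fs6 150872 274 151146 s6u480 s6c481 rfl
theorem s6u482 : ∀ v, 1 ≤ v → v ≤ 151411 → fs6 v = true := slots_step fs6 151146 265 151411 s6u481 s6c482 rfl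
theorem s6u483 : ∀ v, 1 ≤ v → v ≤ 151689 → fs6 v = true := slots_step fs6 151411 278 151689 s6u482 s6c483 rfl
theorem s6u484 : ∀ v, 1 ≤ v → v ≤ 151969 → fs6 v = true := slots_step fs6 151689 280 151969 s6u483 s6c484 rfl
theorem s6u485 : ∀ v, 1 ≤ v → v ≤ 152247 → fs6 v = true := slots_step fs6 151969 278 152247 s6u484 s6c485 rfl
theorem s6u486 : ∀ v, 1 ≤ v → v ≤ 152539 → fs6 v = true := slots_step fs6 152247 292 152539 s6u485 s6c486 rfl
theorem s6u487 : ∀ v, 1 ≤ v → v ≤ 152811 → fs6 v = true := slots_step fs6 152539 272 152811 s6u486 s6c487 rfl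
theorem s6u488 : ∀ v, 1 ≤ v → v ≤ 153097 → fs6 v = true := slots_step fs6 152811 286 153097 s6u487 s6c488 rfl
theorem s6u489 : ∀ v, 1 ≤ v → v ≤ 153380 → fs6 v = true := slots_step fs6 153097 283 153380 s6u488 s6c489 rfl
theorem s6u490 : ∀ v, 1 ≤ v → v ≤ 153665 → fs6 v = true := slots_step fs6 153380 285 153665 s6u489 s6c490 rfl
theorem s6u491 : ∀ v, 1 ≤ v → v ≤ 153949 → fs6 v = true := slots_step fs6 153665 284 153949 s6u490 s6c491 rfl
theorem s6u492 : ∀ v, 1 ≤ v → v ≤ 154238 → fs6 v = true := slots_step fs6 153949 289 154238 s6u491 s6c492 rfl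
theorem s6u493 : ∀ v, 1 ≤ v → v ≤ 154534 → fs6 v = true := slots_step fs6 154238 296 154534 s6u492 s6c493 rfl
theorem s6u494 : ∀ v, 1 ≤ v → v ≤ 154812 → fs6 v = true := slots_step fs6 154534 278 154812 s6u493 s6c494 rfl
theorem s6u495 : ∀ v, 1 ≤ v → v ≤ 155104 → fs6 v = true := slots_step fs6 154812 292 155104 s6u494 s6c495 rfl
theorem s6u496 : ∀ v, 1 ≤ v → v ≤ 155382 → fs6 v = true := slots_step fs6 155104 278 155382 s6u495 s6c496 rfl
theorem s6u497 : ∀ v, 1 ≤ v → v ≤ 155659 → fs6 v = true := slots_step fs6 155382 277 155659 s6u496 s6c497 rfl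
theorem s6u498 : ∀ v, 1 ≤ v → v ≤ 155920 → fs6 v = true := slots_step fs6 155659 261 155920 s6u497 s6c498 rfl
theorem s6u499 : ∀ v, 1 ≤ v → v ≤ 156189 → fs6 v = true := slots_step fs6 155920 269 156189 s6u498 s6c499 rfl
theorem s6u500 : ∀ v, 1 ≤ v → v ≤ 156463 → fs6 v = true := slots_step fs6 156189 274 156463 s6u499 s6c500 rfl
theorem s6u501 : ∀ v, 1 ≤ v → v ≤ 156728 → fs6 v = true := slots_step fs6 156463 265 156728 s6u500 s6c501 rfl
theorem s6u502 : ∀ v, 1 ≤ v → v ≤ 156999 → fs6 v = true := slots_step fs6 156728 271 156999 s6u501 s6c502 rfl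
theorem s6u503 : ∀ v, 1 ≤ v → v ≤ 157300 → fs6 v = true := slots_step fs6 156999 301 157300 s6u502 s6c503 rfl
theorem s6u504 : ∀ v, 1 ≤ v → v ≤ 157565 → fs6 v = true := slots_step fs6 157300 265 157565 s6u503 s6c504 rfl
theorem s6u505 : ∀ v, 1 ≤ v → v ≤ 157825 → fs6 v = true := slots_step fs6 157565 260 157825 s6u504 s6c505 rfl
theorem s6u506 : ∀ v, 1 ≤ v → v ≤ 158084 → fs6 v = true := slots_step fs6 157825 259 158084 s6u505 s6c506 rfl
theorem s6u507 : ∀ v, 1 ≤ v → v ≤ 158353 → fs6 v = true := slots_step fs6 158084 269 158353 s6u506 s6c507 rfl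
theorem s6u508 : ∀ v, 1 ≤ v → v ≤ 158631 → fs6 v = true := slots_step fs6 158353 278 158631 s6u507 s6c508 rfl
theorem s6u509 : ∀ v, 1 ≤ v → v ≤ 158893 → fs6 v = true := slots_step fs6 158631 262 158893 s6u508 s6c509 rfl
theorem s6u510 : ∀ v, 1 ≤ v → v ≤ 159160 → fs6 v = true := slots_step fs6 158893 267 159160 s6u509 s6c510 rfl
theorem s6u511 : ∀ v, 1 ≤ v → v ≤ 159403 → fs6 v = true := slots_step fs6 159160 243 159403 s6u510 s6c511 rfl
theorem s6u512 : ∀ v, 1 ≤ v → v ≤ 159671 → fs6 v = true := slots_step fs6 159403 268 159671 s6u511 s6c512 rfl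
theorem s6u513 : ∀ v, 1 ≤ v → v ≤ 159939 → fs6 v = true := slots_step fs6 159671 268 159939 s6u512 s6c513 rfl
theorem s6u514 : ∀ v, 1 ≤ v → v ≤ 160198 → fs6 v = true := slots_step fs6 159939 259 160198 s6u513 s6c514 rfl
theorem s6u515 : ∀ v, 1 ≤ v → v ≤ 160452 → fs6 v = true := slots_step fs6 160198 254 160452 s6u514 s6c515 rfl
theorem s6u516 : ∀ v, 1 ≤ v → v ≤ 160704 → fs6 v = true := slots_step fs6 160452 252 160704 s6u515 s6c516 rfl
theorem s6u517 : ∀ v, 1 ≤ v → v ≤ 160968 → fs6 v = true := slots_step fs6 160704 264 160968 s6u516 s6c517 rfl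
theorem s6u518 : ∀ v, 1 ≤ v → v ≤ 161240 → fs6 v = true := slots_step fs6 160968 272 161240 s6u517 s6c518 rfl
theorem s6u519 : ∀ v, 1 ≤ v → v ≤ 161507 → fs6 v = true := slots_step fs6 161240 267 161507 s6u518 s6c519 rfl
theorem s6u520 : ∀ v, 1 ≤ v → v ≤ 161774 → fs6 v = true := slots_step fs6 161507 267 161774 s6u519 s6c520 rfl
theorem s6u521 : ∀ v, 1 ≤ v → v ≤ 162046 → fs6 v = true := slots_step fs6 161774 272 162046 s6u520 s6c521 rfl
theorem s6u522 : ∀ v, 1 ≤ v → v ≤ 162312 → fs6 v = true := slots_step fs6 162046 266 162312 s6u521 s6c522 rfl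
theorem s6u523 : ∀ v, 1 ≤ v → v ≤ 162577 → fs6 v = true := slots_step fs6 162312 265 162577 s6u522 s6c523 rfl
theorem s6u524 : ∀ v, 1 ≤ v → v ≤ 162850 → fs6 v = true := slots_step fs6 162577 273 162850 s6u523 s6c524 rfl
theorem s6u525 : ∀ v, 1 ≤ v → v ≤ 163122 → fs6 v = true := slots_step fs6 162850 272 163122 s6u524 s6c525 rfl
theorem s6u526 : ∀ v, 1 ≤ v → v ≤ 163404 → fs6 v = true := slots_step fs6 163122 282 163404 s6u525 s6c526 rfl
theorem s6u527 : ∀ v, 1 ≤ v → v ≤ 163680 → fs6 v = true := slots_step fs6 163404 276 163680 s6u526 s6c527 rfl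
theorem s6u528 : ∀ v, 1 ≤ v → v ≤ 163964 → fs6 v = true := slots_step fs6 163680 284 163964 s6u527 s6c528 rfl
theorem s6u529 : ∀ v, 1 ≤ v → v ≤ 164243 → fs6 v = true := slots_step fs6 163964 279 164243 s6u528 s6c529 rfl
theorem s6u530 : ∀ v, 1 ≤ v → v ≤ 164522 → fs6 v = true := slots_step fs6 164243 279 164522 s6u529 s6c530 rfl
theorem s6u531 : ∀ v, 1 ≤ v → v ≤ 164793 → fs6 v = true := slots_step fs6 164522 271 164793 s6u530 s6c531 rfl
theorem s6u532 : ∀ v, 1 ≤ v → v ≤ 165068 → fs6 v = true := slots_step fs6 164793 275 165068 s6u531 s6c532 rfl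
theorem s6u533 : ∀ v, 1 ≤ v → v ≤ 165337 → fs6 v = true := slots_step fs6 165068 269 165337 s6u532 s6c533 rfl
theorem s6u534 : ∀ v, 1 ≤ v → v ≤ 165603 → fs6 v = true := slots_step fs6 165337 266 165603 s6u533 s6c534 rfl
theorem s6u535 : ∀ v, 1 ≤ v → v ≤ 165876 → fs6 v = true := slots_step fs6 165603 273 165876 s6u534 s6c535 rfl
theorem s6u536 : ∀ v, 1 ≤ v → v ≤ 166123 → fs6 v = true := slots_step fs6 165876 247 166123 s6u535 s6c536 rfl
theorem s6u537 : ∀ v, 1 ≤ v → v ≤ 166363 → fs6 v = true := slots_step fs6 166123 240 166363 s6u536 s6c537 rfl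
theorem s6u538 : ∀ v, 1 ≤ v → v ≤ 166641 → fs6 v = true := slots_step fs6 166363 278 166641 s6u537 s6c538 rfl
theorem s6u539 : ∀ v, 1 ≤ v → v ≤ 166923 → fs6 v = true := slots_step fs6 166641 282 166923 s6u538 s6c539 rfl
theorem s6u540 : ∀ v, 1 ≤ v → v ≤ 167204 → fs6 v = true := slots_step fs6 166923 281 167204 s6u539 s6c540 rfl
theorem s6u541 : ∀ v, 1 ≤ v → v ≤ 167474 → fs6 v = true := slots_step fs6 167204 270 167474 s6u540 s6c541 rfl
theorem s6u542 : ∀ v, 1 ≤ v → v ≤ 167757 → fs6 v = true := slots_step fs6 167474 283 167757 s6u541 s6c542 rfl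
theorem s6u543 : ∀ v, 1 ≤ v → v ≤ 168034 → fs6 v = true := slots_step fs6 167757 277 168034 s6u542 s6c543 rfl
theorem s6u544 : ∀ v, 1 ≤ v → v ≤ 168303 → fs6 v = true := slots_step fs6 168034 269 168303 s6u543 s6c544 rfl
theorem s6u545 : ∀ v, 1 ≤ v → v ≤ 168575 → fs6 v = true := slots_step fs6 168303 272 168575 s6u544 s6c545 rfl
theorem s6u546 : ∀ v, 1 ≤ v → v ≤ 168851 → fs6 v = true := slots_step fs6 168575 276 168851 s6u545 s6c546 rfl
theorem s6u547 : ∀ v, 1 ≤ v → v ≤ 169113 → fs6 v = true := slots_step fs6 168851 262 169113 s6u546 s6c547 rfl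
theorem s6u548 : ∀ v, 1 ≤ v → v ≤ 169391 → fs6 v = true := slots_step fs6 169113 278 169391 s6u547 s6c548 rfl
theorem s6u549 : ∀ v, 1 ≤ v → v ≤ 169661 → fs6 v = true := slots_step fs6 169391 270 169661 s6u548 s6c549 rfl
theorem s6u550 : ∀ v, 1 ≤ v → v ≤ 169938 → fs6 v = true := slots_step fs6 169661 277 169938 s6u549 s6c550 rfl
theorem s6u551 : ∀ v, 1 ≤ v → v ≤ 170217 → fs6 v = true := slots_step fs6 169938 279 170217 s6u550 s6c551 rfl
theorem s6u552 : ∀ v, 1 ≤ v → v ≤ 170488 → fs6 v = true := slots_step fs6 170217 271 170488 s6u551 s6c552 rfl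
theorem s6u553 : ∀ v, 1 ≤ v → v ≤ 170759 → fs6 v = true := slots_step fs6 170488 271 170759 s6u552 s6c553 rfl
theorem s6u554 : ∀ v, 1 ≤ v → v ≤ 171039 → fs6 v = true := slots_step fs6 170759 280 171039 s6u553 s6c554 rfl
theorem s6u555 : ∀ v, 1 ≤ v → v ≤ 171320 → fs6 v = true := slots_step fs6 171039 281 171320 s6u554 s6c555 rfl
theorem s6u556 : ∀ v, 1 ≤ v → v ≤ 171596 → fs6 v = true := slots_step fs6 171320 276 171596 s6u555 s6c556 rfl
theorem s6u557 : ∀ v, 1 ≤ v → v ≤ 171882 → fs6 v = true := slots_step fs6 171596 286 171882 s6u556 s6c557 rfl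
theorem s6u558 : ∀ v, 1 ≤ v → v ≤ 172172 → fs6 v = true := slots_step fs6 171882 290 172172 s6u557 s6c558 rfl
theorem s6u559 : ∀ v, 1 ≤ v → v ≤ 172443 → fs6 v = true := slots_step fs6 172172 271 172443 s6u558 s6c559 rfl
theorem s6u560 : ∀ v, 1 ≤ v → v ≤ 172734 → fs6 v = true := slots_step fs6 172443 291 172734 s6u559 s6c560 rfl
theorem s6u561 : ∀ v, 1 ≤ v → v ≤ 173022 → fs6 v = true := slots_step fs6 172734 288 173022 s6u560 s6c561 rfl
theorem s6u562 : ∀ v, 1 ≤ v → v ≤ 173311 → fs6 v = true := slots_step fs6 173022 289 173311 s6u561 s6c562 rfl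
theorem s6u563 : ∀ v, 1 ≤ v → v ≤ 173595 → fs6 v = true := slots_step fs6 173311 284 173595 s6u562 s6c563 rfl
theorem s6u564 : ∀ v, 1 ≤ v → v ≤ 173881 → fs6 v = true := slots_step fs6 173595 286 173881 s6u563 s6c564 rfl
theorem s6u565 : ∀ v, 1 ≤ v → v ≤ 174169 → fs6 v = true := slots_step fs6 173881 288 174169 s6u564 s6c565 rfl
theorem s6u566 : ∀ v, 1 ≤ v → v ≤ 174457 → fs6 v = true := slots_step fs6 174169 288 174457 s6u565 s6c566 rfl
theorem s6u567 : ∀ v, 1 ≤ v → v ≤ 174742 → fs6 v = true := slots_step fs6 174457 285 174742 s6u566 s6c567 rfl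
theorem s6u568 : ∀ v, 1 ≤ v → v ≤ 175023 → fs6 v = true := slots_step fs6 174742 281 175023 s6u567 s6c568 rfl
theorem s6u569 : ∀ v, 1 ≤ v → v ≤ 175307 → fs6 v = true := slots_step fs6 175023 284 175307 s6u568 s6c569 rfl
theorem s6u570 : ∀ v, 1 ≤ v → v ≤ 175584 → fs6 v = true := slots_step fs6 175307 277 175584 s6u569 s6c570 rfl
theorem s6u571 : ∀ v, 1 ≤ v → v ≤ 175856 → fs6 v = true := slots_step fs6 175584 272 175856 s6u570 s6c571 rfl
theorem s6u572 : ∀ v, 1 ≤ v → v ≤ 176132 → fs6 v = true := slots_step fs6 175856 276 176132 s6u571 s6c572 rfl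
theorem s6u573 : ∀ v, 1 ≤ v → v ≤ 176413 → fs6 v = true := slots_step fs6 176132 281 176413 s6u572 s6c573 rfl
theorem s6u574 : ∀ v, 1 ≤ v → v ≤ 176684 → fs6 v = true := slots_step fs6 176413 271 176684 s6u573 s6c574 rfl
theorem s6u575 : ∀ v, 1 ≤ v → v ≤ 176976 → fs6 v = true := slots_step fs6 176684 292 176976 s6u574 s6c575 rfl
theorem s6u576 : ∀ v, 1 ≤ v → v ≤ 177265 → fs6 v = true := slots_step fs6 176976 289 177265 s6u575 s6c576 rfl
theorem s6u577 : ∀ v, 1 ≤ v → v ≤ 177515 → fs6 v = true := slots_step fs6 177265 250 177515 s6u576 s6c577 rfl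
theorem s6u578 : ∀ v, 1 ≤ v → v ≤ 177773 → fs6 v = true := slots_step fs6 177515 258 177773 s6u577 s6c578 rfl
theorem s6u579 : ∀ v, 1 ≤ v → v ≤ 178040 → fs6 v = true := slots_step fs6 177773 267 178040 s6u578 s6c579 rfl
theorem s6u580 : ∀ v, 1 ≤ v → v ≤ 178310 → fs6 v = true := slots_step fs6 178040 270 178310 s6u579 s6c580 rfl
theorem s6u581 : ∀ v, 1 ≤ v → v ≤ 178568 → fs6 v = true := slots_step fs6 178310 258 178568 s6u580 s6c581 rfl
theorem s6u582 : ∀ v, 1 ≤ v → v ≤ 178817 → fs6 v = true := slots_step fs6 178568 249 178817 s6u581 s6c582 rfl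
theorem s6u583 : ∀ v, 1 ≤ v → v ≤ 179087 → fs6 v = true := slots_step fs6 178817 270 179087 s6u582 s6c583 rfl
theorem s6u584 : ∀ v, 1 ≤ v → v ≤ 179354 → fs6 v = true := slots_step fs6 179087 267 179354 s6u583 s6c584 rfl
theorem s6u585 : ∀ v, 1 ≤ v → v ≤ 179622 → fs6 v = true := slots_step fs6 179354 268 179622 s6u584 s6c585 rfl
theorem s6u586 : ∀ v, 1 ≤ v → v ≤ 179881 → fs6 v = true := slots_step fs6 179622 259 179881 s6u585 s6c586 rfl
theorem s6u587 : ∀ v, 1 ≤ v → v ≤ 180137 → fs6 v = true := slots_step fs6 179881 256 180137 s6u586 s6c587 rfl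
theorem s6u588 : ∀ v, 1 ≤ v → v ≤ 180390 → fs6 v = true := slots_step fs6 180137 253 180390 s6u587 s6c588 rfl
theorem s6u589 : ∀ v, 1 ≤ v → v ≤ 180643 → fs6 v = true := slots_step fs6 180390 253 180643 s6u588 s6c589 rfl
theorem s6u590 : ∀ v, 1 ≤ v → v ≤ 180901 → fs6 v = true := slots_step fs6 180643 258 180901 s6u589 s6c590 rfl
theorem s6u591 : ∀ v, 1 ≤ v → v ≤ 181170 → fs6 v = true := slots_step fs6 180901 269 181170 s6u590 s6c591 rfl
theorem s6u592 : ∀ v, 1 ≤ v → v ≤ 181436 → fs6 v = true := slots_step fs6 181170 266 181436 s6u591 s6c592 rfl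
theorem s6u593 : ∀ v, 1 ≤ v → v ≤ 181707 → fs6 v = true := slots_step fs6 181436 271 181707 s6u592 s6c593 rfl
theorem s6u594 : ∀ v, 1 ≤ v → v ≤ 181974 → fs6 v = true := slots_step fs6 181707 267 181974 s6u593 s6c594 rfl
theorem s6u595 : ∀ v, 1 ≤ v → v ≤ 182235 → fs6 v = true := slots_step fs6 181974 261 182235 s6u594 s6c595 rfl
theorem s6u596 : ∀ v, 1 ≤ v → v ≤ 182495 → fs6 v = true := slots_step fs6 182235 260 182495 s6u595 s6c596 rfl
theorem s6u597 : ∀ v, 1 ≤ v → v ≤ 182767 → fs6 v = true := slots_step fs6 182495 272 182767 s6u596 s6c597 rfl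
theorem s6u598 : ∀ v, 1 ≤ v → v ≤ 183042 → fs6 v = true := slots_step fs6 182767 275 183042 s6u597 s6c598 rfl
theorem s6u599 : ∀ v, 1 ≤ v → v ≤ 183310 → fs6 v = true := slots_step fs6 183042 268 183310 s6u598 s6c599 rfl
theorem s6u600 : ∀ v, 1 ≤ v → v ≤ 183594 → fs6 v = true := slots_step fs6 183310 284 183594 s6u599 s6c600 rfl
theorem s6u601 : ∀ v, 1 ≤ v → v ≤ 183869 → fs6 v = true := slots_step fs6 183594 275 183869 s6u600 s6c601 rfl
theorem s6u602 : ∀ v, 1 ≤ v → v ≤ 184145 → fs6 v = true := slots_step fs6 183869 276 184145 s6u601 s6c602 rfl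
theorem s6u603 : ∀ v, 1 ≤ v → v ≤ 184440 → fs6 v = true := slots_step fs6 184145 295 184440 s6u602 s6c603 rfl
theorem s6u604 : ∀ v, 1 ≤ v → v ≤ 184713 → fs6 v = true := slots_step fs6 184440 273 184713 s6u603 s6c604 rfl
theorem s6u605 : ∀ v, 1 ≤ v → v ≤ 184989 → fs6 v = true := slots_step fs6 184713 276 184989 s6u604 s6c605 rfl
theorem s6u606 : ∀ v, 1 ≤ v → v ≤ 185265 → fs6 v = true := slots_step fs6 184989 276 185265 s6u605 s6c606 rfl
theorem s6u607 : ∀ v, 1 ≤ v → v ≤ 185536 → fs6 v = true := slots_step fs6 185265 271 185536 s6u606 s6c607 rfl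
theorem s6u608 : ∀ v, 1 ≤ v → v ≤ 185801 → fs6 v = true := slots_step fs6 185536 265 185801 s6u607 s6c608 rfl
theorem s6u609 : ∀ v, 1 ≤ v → v ≤ 186071 → fs6 v = true := slots_step fs6 185801 270 186071 s6u608 s6c609 rfl
theorem s6u610 : ∀ v, 1 ≤ v → v ≤ 186341 → fs6 v = true := slots_step fs6 186071 270 186341 s6u609 s6c610 rfl
theorem s6u611 : ∀ v, 1 ≤ v → v ≤ 186598 → fs6 v = true := slots_step fs6 186341 257 186598 s6u610 s6c611 rfl
theorem s6u612 : ∀ v, 1 ≤ v → v ≤ 186858 → fs6 v = true := slots_step fs6 186598 260 186858 s6u611 s6c612 rfl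
theorem s6u613 : ∀ v, 1 ≤ v → v ≤ 187137 → fs6 v = true := slots_step fs6 186858 279 187137 s6u612 s6c613 rfl
theorem s6u614 : ∀ v, 1 ≤ v → v ≤ 187419 → fs6 v = true := slots_step fs6 187137 282 187419 s6u613 s6c614 rfl
theorem s6u615 : ∀ v, 1 ≤ v → v ≤ 187701 → fs6 v = true := slots_step fs6 187419 282 187701 s6u614 s6c615 rfl
theorem s6u616 : ∀ v, 1 ≤ v → v ≤ 187980 → fs6 v = true := slots_step fs6 187701 279 187980 s6u615 s6c616 rfl
theorem s6u617 : ∀ v, 1 ≤ v → v ≤ 188252 → fs6 v = true := slots_step fs6 187980 272 188252 s6u616 s6c617 rfl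
theorem s6u618 : ∀ v, 1 ≤ v → v ≤ 188529 → fs6 v = true := slots_step fs6 188252 277 188529 s6u617 s6c618 rfl
theorem s6u619 : ∀ v, 1 ≤ v → v ≤ 188812 → fs6 v = true := slots_step fs6 188529 283 188812 s6u618 s6c619 rfl
theorem s6u620 : ∀ v, 1 ≤ v → v ≤ 189084 → fs6 v = true := slots_step fs6 188812 272 189084 s6u619 s6c620 rfl
theorem s6u621 : ∀ v, 1 ≤ v → v ≤ 189355 → fs6 v = true := slots_step fs6 189084 271 189355 s6u620 s6c621 rfl
theorem s6u622 : ∀ v, 1 ≤ v → v ≤ 189605 → fs6 v = true := slots_step fs6 189355 250 189605 s6u621 s6c622 rfl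
theorem s6u623 : ∀ v, 1 ≤ v → v ≤ 189890 → fs6 v = true := slots_step fs6 189605 285 189890 s6u622 s6c623 rfl
theorem s6u624 : ∀ v, 1 ≤ v → v ≤ 190164 → fs6 v = true := slots_step fs6 189890 274 190164 s6u623 s6c624 rfl
theorem s6u625 : ∀ v, 1 ≤ v → v ≤ 190439 → fs6 v = true := slots_step fs6 190164 275 190439 s6u624 s6c625 rfl
theorem s6u626 : ∀ v, 1 ≤ v → v ≤ 190712 → fs6 v = true := slots_step fs6 190439 273 190712 s6u625 s6c626 rfl
theorem s6u627 : ∀ v, 1 ≤ v → v ≤ 190983 → fs6 v = true := slots_step fs6 190712 271 190983 s6u626 s6c627 rfl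
theorem s6u628 : ∀ v, 1 ≤ v → v ≤ 191251 → fs6 v = true := slots_step fs6 190983 268 191251 s6u627 s6c628 rfl
theorem s6u629 : ∀ v, 1 ≤ v → v ≤ 191531 → fs6 v = true := slots_step fs6 191251 280 191531 s6u628 s6c629 rfl
theorem s6u630 : ∀ v, 1 ≤ v → v ≤ 191808 → fs6 v = true := slots_step fs6 191531 277 191808 s6u629 s6c630 rfl
theorem s6u631 : ∀ v, 1 ≤ v → v ≤ 192093 → fs6 v = true := slots_step fs6 191808 285 192093 s6u630 s6c631 rfl
theorem s6u632 : ∀ v, 1 ≤ v → v ≤ 192372 → fs6 v = true := slots_step fs6 192093 279 192372 s6u631 s6c632 rfl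
theorem s6u633 : ∀ v, 1 ≤ v → v ≤ 192656 → fs6 v = true := slots_step fs6 192372 284 192656 s6u632 s6c633 rfl
theorem s6u634 : ∀ v, 1 ≤ v → v ≤ 192944 → fs6 v = true := slots_step fs6 192656 288 192944 s6u633 s6c634 rfl
theorem s6u635 : ∀ v, 1 ≤ v → v ≤ 193237 → fs6 v = true := slots_step fs6 192944 293 193237 s6u634 s6c635 rfl
theorem s6u636 : ∀ v, 1 ≤ v → v ≤ 193504 → fs6 v = true := slots_step fs6 193237 267 193504 s6u635 s6c636 rfl
theorem s6u637 : ∀ v, 1 ≤ v → v ≤ 193797 → fs6 v = true := slots_step fs6 193504 293 193797 s6u636 s6c637 rfl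
theorem s6u638 : ∀ v, 1 ≤ v → v ≤ 194092 → fs6 v = true := slots_step fs6 193797 295 194092 s6u637 s6c638 rfl
theorem s6u639 : ∀ v, 1 ≤ v → v ≤ 194377 → fs6 v = true := slots_step fs6 194092 285 194377 s6u638 s6c639 rfl
theorem s6u640 : ∀ v, 1 ≤ v → v ≤ 194660 → fs6 v = true := slots_step fs6 194377 283 194660 s6u639 s6c640 rfl
theorem s6u641 : ∀ v, 1 ≤ v → v ≤ 194951 → fs6 v = true := slots_step fs6 194660 291 194951 s6u640 s6c641 rfl
theorem s6u642 : ∀ v, 1 ≤ v → v ≤ 195231 → fs6 v = true := slots_step fs6 194951 280 195231 s6u641 s6c642 rfl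
theorem s6u643 : ∀ v, 1 ≤ v → v ≤ 195523 → fs6 v = true := slots_step fs6 195231 292 195523 s6u642 s6c643 rfl
theorem s6u644 : ∀ v, 1 ≤ v → v ≤ 195811 → fs6 v = true := slots_step fs6 195523 288 195811 s6u643 s6c644 rfl
theorem s6u645 : ∀ v, 1 ≤ v → v ≤ 196097 → fs6 v = true := slots_step fs6 195811 286 196097 s6u644 s6c645 rfl
theorem s6u646 : ∀ v, 1 ≤ v → v ≤ 196369 → fs6 v = true := slots_step fs6 196097 272 196369 s6u645 s6c646 rfl
theorem s6u647 : ∀ v, 1 ≤ v → v ≤ 196656 → fs6 v = true := slots_step fs6 196369 287 196656 s6u646 s6c647 rfl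
theorem s6u648 : ∀ v, 1 ≤ v → v ≤ 196936 → fs6 v = true := slots_step fs6 196656 280 196936 s6u647 s6c648 rfl
theorem s6u649 : ∀ v, 1 ≤ v → v ≤ 197226 → fs6 v = true := slots_step fs6 196936 290 197226 s6u648 s6c649 rfl
theorem s6u650 : ∀ v, 1 ≤ v → v ≤ 197517 → fs6 v = true := slots_step fs6 197226 291 197517 s6u649 s6c650 rfl
theorem s6u651 : ∀ v, 1 ≤ v → v ≤ 197809 → fs6 v = true := slots_step fs6 197517 292 197809 s6u650 s6c651 rfl
theorem s6u652 : ∀ v, 1 ≤ v → v ≤ 198097 → fs6 v = true := slots_step fs6 197809 288 198097 s6u651 s6c652 rfl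
theorem s6u653 : ∀ v, 1 ≤ v → v ≤ 198417 → fs6 v = true := slots_step fs6 198097 320 198417 s6u652 s6c653 rfl
theorem s6u654 : ∀ v, 1 ≤ v → v ≤ 198690 → fs6 v = true := slots_step fs6 198417 273 198690 s6u653 s6c654 rfl
theorem s6u655 : ∀ v, 1 ≤ v → v ≤ 198943 → fs6 v = true := slots_step fs6 198690 253 198943 s6u654 s6c655 rfl
theorem s6u656 : ∀ v, 1 ≤ v → v ≤ 199207 → fs6 v = true := slots_step fs6 198943 264 199207 s6u655 s6c656 rfl
theorem s6u657 : ∀ v, 1 ≤ v → v ≤ 199468 → fs6 v = true := slots_step fs6 199207 261 199468 s6u656 s6c657 rfl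
theorem s6u658 : ∀ v, 1 ≤ v → v ≤ 199732 → fs6 v = true := slots_step fs6 199468 264 199732 s6u657 s6c658 rfl
theorem s6u659 : ∀ v, 1 ≤ v → v ≤ 199996 → fs6 v = true := slots_step fs6 199732 264 199996 s6u658 s6c659 rfl
theorem s6u660 : ∀ v, 1 ≤ v → v ≤ 200264 → fs6 v = true := slots_step fs6 199996 268 200264 s6u659 s6c660 rfl
theorem s6u661 : ∀ v, 1 ≤ v → v ≤ 200524 → fs6 v = true := slots_step fs6 200264 260 200524 s6u660 s6c661 rfl
theorem s6u662 : ∀ v, 1 ≤ v → v ≤ 200791 → fs6 v = true := slots_step fs6 200524 267 200791 s6u661 s6c662 rfl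
theorem s6u663 : ∀ v, 1 ≤ v → v ≤ 201055 → fs6 v = true := slots_step fs6 200791 264 201055 s6u662 s6c663 rfl
theorem s6u664 : ∀ v, 1 ≤ v → v ≤ 201305 → fs6 v = true := slots_step fs6 201055 250 201305 s6u663 s6c664 rfl
theorem s6u665 : ∀ v, 1 ≤ v → v ≤ 201561 → fs6 v = true := slots_step fs6 201305 256 201561 s6u664 s6c665 rfl
theorem s6u666 : ∀ v, 1 ≤ v → v ≤ 201826 → fs6 v = true := slots_step fs6 201561 265 201826 s6u665 s6c666 rfl
theorem s6u667 : ∀ v, 1 ≤ v → v ≤ 202079 → fs6 v = true := slots_step fs6 201826 253 202079 s6u666 s6c667 rfl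
theorem s6u668 : ∀ v, 1 ≤ v → v ≤ 202337 → fs6 v = true := slots_step fs6 202079 258 202337 s6u667 s6c668 rfl
theorem s6u669 : ∀ v, 1 ≤ v → v ≤ 202603 → fs6 v = true := slots_step fs6 202337 266 202603 s6u668 s6c669 rfl
theorem s6u670 : ∀ v, 1 ≤ v → v ≤ 202874 → fs6 v = true := slots_step fs6 202603 271 202874 s6u669 s6c670 rfl
theorem s6u671 : ∀ v, 1 ≤ v → v ≤ 203141 → fs6 v = true := slots_step fs6 202874 267 203141 s6u670 s6c671 rfl
theorem s6u672 : ∀ v, 1 ≤ v → v ≤ 203405 → fs6 v = true := slots_step fs6 203141 264 203405 s6u671 s6c672 rfl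
theorem s6u673 : ∀ v, 1 ≤ v → v ≤ 203674 → fs6 v = true := slots_step fs6 203405 269 203674 s6u672 s6c673 rfl
theorem s6u674 : ∀ v, 1 ≤ v → v ≤ 203932 → fs6 v = true := slots_step fs6 203674 258 203932 s6u673 s6c674 rfl
theorem s6u675 : ∀ v, 1 ≤ v → v ≤ 204190 → fs6 v = true := slots_step fs6 203932 258 204190 s6u674 s6c675 rfl
theorem s6u676 : ∀ v, 1 ≤ v → v ≤ 204470 → fs6 v = true := slots_step fs6 204190 280 204470 s6u675 s6c676 rfl
theorem s6u677 : ∀ v, 1 ≤ v → v ≤ 204746 → fs6 v = true := slots_step fs6 204470 276 204746 s6u676 s6c677 rfl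
theorem s6u678 : ∀ v, 1 ≤ v → v ≤ 205016 → fs6 v = true := slots_step fs6 204746 270 205016 s6u677 s6c678 rfl
theorem s6u679 : ∀ v, 1 ≤ v → v ≤ 205291 → fs6 v = true := slots_step fs6 205016 275 205291 s6u678 s6c679 rfl
theorem s6u680 : ∀ v, 1 ≤ v → v ≤ 205571 → fs6 v = true := slots_step fs6 205291 280 205571 s6u679 s6c680 rfl
theorem s6u681 : ∀ v, 1 ≤ v → v ≤ 205847 → fs6 v = true := slots_step fs6 205571 276 205847 s6u680 s6c681 rfl
theorem s6u682 : ∀ v, 1 ≤ v → v ≤ 206132 → fs6 v = true := slots_step fs6 205847 285 206132 s6u681 s6c682 rfl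
theorem s6u683 : ∀ v, 1 ≤ v → v ≤ 206406 → fs6 v = true := slots_step fs6 206132 274 206406 s6u682 s6c683 rfl
theorem s6u684 : ∀ v, 1 ≤ v → v ≤ 206687 → fs6 v = true := slots_step fs6 206406 281 206687 s6u683 s6c684 rfl
theorem s6u685 : ∀ v, 1 ≤ v → v ≤ 206954 → fs6 v = true := slots_step fs6 206687 267 206954 s6u684 s6c685 rfl
theorem s6u686 : ∀ v, 1 ≤ v → v ≤ 207231 → fs6 v = true := slots_step fs6 206954 277 207231 s6u685 s6c686 rfl
theorem s6u687 : ∀ v, 1 ≤ v → v ≤ 207500 → fs6 v = true := slots_step fs6 207231 269 207500 s6u686 s6c687 rfl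
theorem s6u688 : ∀ v, 1 ≤ v → v ≤ 207763 → fs6 v = true := slots_step fs6 207500 263 207763 s6u687 s6c688 rfl
theorem s6u689 : ∀ v, 1 ≤ v → v ≤ 208037 → fs6 v = true := slots_step fs6 207763 274 208037 s6u688 s6c689 rfl
theorem s6u690 : ∀ v, 1 ≤ v → v ≤ 208314 → fs6 v = true := slots_step fs6 208037 277 208314 s6u689 s6c690 rfl
theorem s6u691 : ∀ v, 1 ≤ v → v ≤ 208586 → fs6 v = true := slots_step fs6 208314 272 208586 s6u690 s6c691 rfl
theorem s6u692 : ∀ v, 1 ≤ v → v ≤ 208878 → fs6 v = true := slots_step fs6 208586 292 208878 s6u691 s6c692 rfl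
theorem s6u693 : ∀ v, 1 ≤ v → v ≤ 209151 → fs6 v = true := slots_step fs6 208878 273 209151 s6u692 s6c693 rfl
theorem s6u694 : ∀ v, 1 ≤ v → v ≤ 209423 → fs6 v = true := slots_step fs6 209151 272 209423 s6u693 s6c694 rfl
theorem s6u695 : ∀ v, 1 ≤ v → v ≤ 209708 → fs6 v = true := slots_step fs6 209423 285 209708 s6u694 s6c695 rfl
theorem s6u696 : ∀ v, 1 ≤ v → v ≤ 209990 → fs6 v = true := slots_step fs6 209708 282 209990 s6u695 s6c696 rfl
theorem s6u697 : ∀ v, 1 ≤ v → v ≤ 210281 → fs6 v = true := slots_step fs6 209990 291 210281 s6u696 s6c697 rfl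
theorem s6u698 : ∀ v, 1 ≤ v → v ≤ 210562 → fs6 v = true := slots_step fs6 210281 281 210562 s6u697 s6c698 rfl
theorem s6u699 : ∀ v, 1 ≤ v → v ≤ 210850 → fs6 v = true := slots_step fs6 210562 288 210850 s6u698 s6c699 rfl
theorem s6u700 : ∀ v, 1 ≤ v → v ≤ 211122 → fs6 v = true := slots_step fs6 210850 272 211122 s6u699 s6c700 rfl
theorem s6u701 : ∀ v, 1 ≤ v → v ≤ 211392 → fs6 v = true := slots_step fs6 211122 270 211392 s6u700 s6c701 rfl
theorem s6u702 : ∀ v, 1 ≤ v → v ≤ 211669 → fs6 v = true := slots_step fs6 211392 277 211669 s6u701 s6c702 rfl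
theorem s6u703 : ∀ v, 1 ≤ v → v ≤ 211950 → fs6 v = true := slots_step fs6 211669 281 211950 s6u702 s6c703 rfl
theorem s6u704 : ∀ v, 1 ≤ v → v ≤ 212232 → fs6 v = true := slots_step fs6 211950 282 212232 s6u703 s6c704 rfl
theorem s6u705 : ∀ v, 1 ≤ v → v ≤ 212504 → fs6 v = true := slots_step fs6 212232 272 212504 s6u704 s6c705 rfl
theorem s6u706 : ∀ v, 1 ≤ v → v ≤ 212776 → fs6 v = true := slots_step fs6 212504 272 212776 s6u705 s6c706 rfl
theorem s6u707 : ∀ v, 1 ≤ v → v ≤ 213049 → fs6 v = true := slots_step fs6 212776 273 213049 s6u706 s6c707 rfl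
theorem s6u708 : ∀ v, 1 ≤ v → v ≤ 213330 → fs6 v = true := slots_step fs6 213049 281 213330 s6u707 s6c708 rfl
theorem s6u709 : ∀ v, 1 ≤ v → v ≤ 213596 → fs6 v = true := slots_step fs6 213330 266 213596 s6u708 s6c709 rfl
theorem s6u710 : ∀ v, 1 ≤ v → v ≤ 213872 → fs6 v = true := slots_step fs6 213596 276 213872 s6u709 s6c710 rfl
theorem s6u711 : ∀ v, 1 ≤ v → v ≤ 214151 → fs6 v = true := slots_step fs6 213872 279 214151 s6u710 s6c711 rfl
theorem s6u712 : ∀ v, 1 ≤ v → v ≤ 214435 → fs6 v = true := slots_step fs6 214151 284 214435 s6u711 s6c712 rfl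
theorem s6u713 : ∀ v, 1 ≤ v → v ≤ 214723 → fs6 v = true := slots_step fs6 214435 288 214723 s6u712 s6c713 rfl
theorem s6u714 : ∀ v, 1 ≤ v → v ≤ 215006 → fs6 v = true := slots_step fs6 214723 283 215006 s6u713 s6c714 rfl
theorem s6u715 : ∀ v, 1 ≤ v → v ≤ 215295 → fs6 v = true := slots_step fs6 215006 289 215295 s6u714 s6c715 rfl
theorem s6u716 : ∀ v, 1 ≤ v → v ≤ 215583 → fs6 v = true := slots_step fs6 215295 288 215583 s6u715 s6c716 rfl
theorem s6u717 : ∀ v, 1 ≤ v → v ≤ 215865 → fs6 v = true := slots_step fs6 215583 282 215865 s6u716 s6c717 rfl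
theorem s6u718 : ∀ v, 1 ≤ v → v ≤ 216145 → fs6 v = true := slots_step fs6 215865 280 216145 s6u717 s6c718 rfl
theorem s6u719 : ∀ v, 1 ≤ v → v ≤ 216440 → fs6 v = true := slots_step fs6 216145 295 216440 s6u718 s6c719 rfl
theorem s6u720 : ∀ v, 1 ≤ v → v ≤ 216732 → fs6 v = true := slots_step fs6 216440 292 216732 s6u719 s6c720 rfl
theorem s6u721 : ∀ v, 1 ≤ v → v ≤ 217011 → fs6 v = true := slots_step fs6 216732 279 217011 s6u720 s6c721 rfl
theorem s6u722 : ∀ v, 1 ≤ v → v ≤ 217302 → fs6 v = true := slots_step fs6 217011 291 217302 s6u721 s6c722 rfl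
theorem s6u723 : ∀ v, 1 ≤ v → v ≤ 217585 → fs6 v = true := slots_step fs6 217302 283 217585 s6u722 s6c723 rfl
theorem s6u724 : ∀ v, 1 ≤ v → v ≤ 217866 → fs6 v = true := slots_step fs6 217585 281 217866 s6u723 s6c724 rfl
theorem s6u725 : ∀ v, 1 ≤ v → v ≤ 218147 → fs6 v = true := slots_step fs6 217866 281 218147 s6u724 s6c725 rfl
theorem s6u726 : ∀ v, 1 ≤ v → v ≤ 218433 → fs6 v = true := slots_step fs6 218147 286 218433 s6u725 s6c726 rfl
theorem s6u727 : ∀ v, 1 ≤ v → v ≤ 218723 → fs6 v = true := slots_step fs6 218433 290 218723 s6u726 s6c727 rfl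
theorem s6u728 : ∀ v, 1 ≤ v → v ≤ 219002 → fs6 v = true := slots_step fs6 218723 279 219002 s6u727 s6c728 rfl
theorem s6u729 : ∀ v, 1 ≤ v → v ≤ 219274 → fs6 v = true := slots_step fs6 219002 272 219274 s6u728 s6c729 rfl
theorem s6u730 : ∀ v, 1 ≤ v → v ≤ 219555 → fs6 v = true := slots_step fs6 219274 281 219555 s6u729 s6c730 rfl
theorem s6u731 : ∀ v, 1 ≤ v → v ≤ 219847 → fs6 v = true := slots_step fs6 219555 292 219847 s6u730 s6c731 rfl
theorem s6u732 : ∀ v, 1 ≤ v → v ≤ 220145 → fs6 v = true := slots_step fs6 219847 298 220145 s6u731 s6c732 rfl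
theorem s6u733 : ∀ v, 1 ≤ v → v ≤ 220445 → fs6 v = true := slots_step fs6 220145 300 220445 s6u732 s6c733 rfl
theorem s6u734 : ∀ v, 1 ≤ v → v ≤ 220751 → fs6 v = true := slots_step fs6 220445 306 220751 s6u733 s6c734 rfl
theorem s6u735 : ∀ v, 1 ≤ v → v ≤ 221059 → fs6 v = true := slots_step fs6 220751 308 221059 s6u734 s6c735 rfl
theorem s6u736 : ∀ v, 1 ≤ v → v ≤ 221387 → fs6 v = true := slots_step fs6 221059 328 221387 s6u735 s6c736 rfl
theorem s6u737 : ∀ v, 1 ≤ v → v ≤ 221652 → fs6 v = true := slots_step fs6 221387 265 221652 s6u736 s6c737 rfl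
theorem s6u738 : ∀ v, 1 ≤ v → v ≤ 221915 → fs6 v = true := slots_step fs6 221652 263 221915 s6u737 s6c738 rfl
theorem s6u739 : ∀ v, 1 ≤ v → v ≤ 222176 → fs6 v = true := slots_step fs6 221915 261 222176 s6u738 s6c739 rfl
theorem s6u740 : ∀ v, 1 ≤ v → v ≤ 222443 → fs6 v = true := slots_step fs6 222176 267 222443 s6u739 s6c740 rfl
theorem s6u741 : ∀ v, 1 ≤ v → v ≤ 222714 → fs6 v = true := slots_step fs6 222443 271 222714 s6u740 s6c741 rfl
theorem s6u742 : ∀ v, 1 ≤ v → v ≤ 222977 → fs6 v = true := slots_step fs6 222714 263 222977 s6u741 s6c742 rfl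
theorem s6u743 : ∀ v, 1 ≤ v → v ≤ 223229 → fs6 v = true := slots_step fs6 222977 252 223229 s6u742 s6c743 rfl
theorem s6u744 : ∀ v, 1 ≤ v → v ≤ 223495 → fs6 v = true := slots_step fs6 223229 266 223495 s6u743 s6c744 rfl
theorem s6u745 : ∀ v, 1 ≤ v → v ≤ 223768 → fs6 v = true := slots_step fs6 223495 273 223768 s6u744 s6c745 rfl
theorem s6u746 : ∀ v, 1 ≤ v → v ≤ 224024 → fs6 v = true := slots_step fs6 223768 256 224024 s6u745 s6c746 rfl
theorem s6u747 : ∀ v, 1 ≤ v → v ≤ 224291 → fs6 v = true := slots_step fs6 224024 267 224291 s6u746 s6c747 rfl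
theorem s6u748 : ∀ v, 1 ≤ v → v ≤ 224554 → fs6 v = true := slots_step fs6 224291 263 224554 s6u747 s6c748 rfl
theorem s6u749 : ∀ v, 1 ≤ v → v ≤ 224827 → fs6 v = true := slots_step fs6 224554 273 224827 s6u748 s6c749 rfl
theorem s6u750 : ∀ v, 1 ≤ v → v ≤ 225093 → fs6 v = true := slots_step fs6 224827 266 225093 s6u749 s6c750 rfl
theorem s6u751 : ∀ v, 1 ≤ v → v ≤ 225351 → fs6 v = true := slots_step fs6 225093 258 225351 s6u750 s6c751 rfl
theorem s6u752 : ∀ v, 1 ≤ v → v ≤ 225616 → fs6 v = true := slots_step fs6 225351 265 225616 s6u751 s6c752 rfl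
theorem s6u753 : ∀ v, 1 ≤ v → v ≤ 225891 → fs6 v = true := slots_step fs6 225616 275 225891 s6u752 s6c753 rfl
theorem s6u754 : ∀ v, 1 ≤ v → v ≤ 226162 → fs6 v = true := slots_step fs6 225891 271 226162 s6u753 s6c754 rfl
theorem s6u755 : ∀ v, 1 ≤ v → v ≤ 226419 → fs6 v = true := slots_step fs6 226162 257 226419 s6u754 s6c755 rfl
theorem s6u756 : ∀ v, 1 ≤ v → v ≤ 226689 → fs6 v = true := slots_step fs6 226419 270 226689 s6u755 s6c756 rfl
theorem s6u757 : ∀ v, 1 ≤ v → v ≤ 226956 → fs6 v = true := slots_step fs6 226689 267 226956 s6u756 s6c757 rfl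
theorem s6u758 : ∀ v, 1 ≤ v → v ≤ 227227 → fs6 v = true := slots_step fs6 226956 271 227227 s6u757 s6c758 rfl
theorem s6u759 : ∀ v, 1 ≤ v → v ≤ 227496 → fs6 v = true := slots_step fs6 227227 269 227496 s6u758 s6c759 rfl
theorem s6u760 : ∀ v, 1 ≤ v → v ≤ 227770 → fs6 v = true := slots_step fs6 227496 274 227770 s6u759 s6c760 rfl
theorem s6u761 : ∀ v, 1 ≤ v → v ≤ 228046 → fs6 v = true := slots_step fs6 227770 276 228046 s6u760 s6c761 rfl
theorem s6u762 : ∀ v, 1 ≤ v → v ≤ 228313 → fs6 v = true := slots_step fs6 228046 267 228313 s6u761 s6c762 rfl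
theorem s6u763 : ∀ v, 1 ≤ v → v ≤ 228590 → fs6 v = true := slots_step fs6 228313 277 228590 s6u762 s6c763 rfl
theorem s6u764 : ∀ v, 1 ≤ v → v ≤ 228873 → fs6 v = true := slots_step fs6 228590 283 228873 s6u763 s6c764 rfl
theorem s6u765 : ∀ v, 1 ≤ v → v ≤ 229145 → fs6 v = true := slots_step fs6 228873 272 229145 s6u764 s6c765 rfl
theorem s6u766 : ∀ v, 1 ≤ v → v ≤ 229421 → fs6 v = true := slots_step fs6 229145 276 229421 s6u765 s6c766 rfl
theorem s6u767 : ∀ v, 1 ≤ v → v ≤ 229699 → fs6 v = true := slots_step fs6 229421 278 229699 s6u766 s6c767 rfl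
theorem s6u768 : ∀ v, 1 ≤ v → v ≤ 229977 → fs6 v = true := slots_step fs6 229699 278 229977 s6u767 s6c768 rfl
theorem s6u769 : ∀ v, 1 ≤ v → v ≤ 230248 → fs6 v = true := slots_step fs6 229977 271 230248 s6u768 s6c769 rfl
theorem s6u770 : ∀ v, 1 ≤ v → v ≤ 230519 → fs6 v = true := slots_step fs6 230248 271 230519 s6u769 s6c770 rfl
theorem s6u771 : ∀ v, 1 ≤ v → v ≤ 230785 → fs6 v = true := slots_step fs6 230519 266 230785 s6u770 s6c771 rfl
theorem s6u772 : ∀ v, 1 ≤ v → v ≤ 231061 → fs6 v = true := slots_step fs6 230785 276 231061 s6u771 s6c772 rfl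
theorem s6u773 : ∀ v, 1 ≤ v → v ≤ 231328 → fs6 v = true := slots_step fs6 231061 267 231328 s6u772 s6c773 rfl
theorem s6u774 : ∀ v, 1 ≤ v → v ≤ 231613 → fs6 v = true := slots_step fs6 231328 285 231613 s6u773 s6c774 rfl
theorem s6u775 : ∀ v, 1 ≤ v → v ≤ 231903 → fs6 v = true := slots_step fs6 231613 290 231903 s6u774 s6c775 rfl
theorem s6u776 : ∀ v, 1 ≤ v → v ≤ 232198 → fs6 v = true := slots_step fs6 231903 295 232198 s6u775 s6c776 rfl
theorem s6u777 : ∀ v, 1 ≤ v → v ≤ 232484 → fs6 v = true := slots_step fs6 232198 286 232484 s6u776 s6c777 rfl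
theorem s6u778 : ∀ v, 1 ≤ v → v ≤ 232764 → fs6 v = true := slots_step fs6 232484 280 232764 s6u777 s6c778 rfl
theorem s6u779 : ∀ v, 1 ≤ v → v ≤ 233054 → fs6 v = true := slots_step fs6 232764 290 233054 s6u778 s6c779 rfl
theorem s6u780 : ∀ v, 1 ≤ v → v ≤ 233335 → fs6 v = true := slots_step fs6 233054 281 233335 s6u779 s6c780 rfl
theorem s6u781 : ∀ v, 1 ≤ v → v ≤ 233625 → fs6 v = true := slots_step fs6 233335 290 233625 s6u780 s6c781 rfl
theorem s6u782 : ∀ v, 1 ≤ v → v ≤ 233912 → fs6 v = true := slots_step fs6 233625 287 233912 s6u781 s6c782 rfl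
theorem s6u783 : ∀ v, 1 ≤ v → v ≤ 234203 → fs6 v = true := slots_step fs6 233912 291 234203 s6u782 s6c783 rfl
theorem s6u784 : ∀ v, 1 ≤ v → v ≤ 234485 → fs6 v = true := slots_step fs6 234203 282 234485 s6u783 s6c784 rfl
theorem s6u785 : ∀ v, 1 ≤ v → v ≤ 234754 → fs6 v = true := slots_step fs6 234485 269 234754 s6u784 s6c785 rfl
theorem s6u786 : ∀ v, 1 ≤ v → v ≤ 235025 → fs6 v = true := slots_step fs6 234754 271 235025 s6u785 s6c786 rfl
theorem s6u787 : ∀ v, 1 ≤ v → v ≤ 235301 → fs6 v = true := slots_step fs6 235025 276 235301 s6u786 s6c787 rfl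
theorem s6u788 : ∀ v, 1 ≤ v → v ≤ 235583 → fs6 v = true := slots_step fs6 235301 282 235583 s6u787 s6c788 rfl
theorem s6u789 : ∀ v, 1 ≤ v → v ≤ 235864 → fs6 v = true := slots_step fs6 235583 281 235864 s6u788 s6c789 rfl
theorem s6u790 : ∀ v, 1 ≤ v → v ≤ 236132 → fs6 v = true := slots_step fs6 235864 268 236132 s6u789 s6c790 rfl
theorem s6u791 : ∀ v, 1 ≤ v → v ≤ 236419 → fs6 v = true := slots_step fs6 236132 287 236419 s6u790 s6c791 rfl
theorem s6u792 : ∀ v, 1 ≤ v → v ≤ 236695 → fs6 v = true := slots_step fs6 236419 276 236695 s6u791 s6c792 rfl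
theorem s6u793 : ∀ v, 1 ≤ v → v ≤ 236971 → fs6 v = true := slots_step fs6 236695 276 236971 s6u792 s6c793 rfl
theorem s6u794 : ∀ v, 1 ≤ v → v ≤ 237253 → fs6 v = true := slots_step fs6 236971 282 237253 s6u793 s6c794 rfl
theorem s6u795 : ∀ v, 1 ≤ v → v ≤ 237524 → fs6 v = true := slots_step fs6 237253 271 237524 s6u794 s6c795 rfl
theorem s6u796 : ∀ v, 1 ≤ v → v ≤ 237801 → fs6 v = true := slots_step fs6 237524 277 237801 s6u795 s6c796 rfl
theorem s6u797 : ∀ v, 1 ≤ v → v ≤ 238078 → fs6 v = true := slots_step fs6 237801 277 238078 s6u796 s6c797 rfl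
theorem s6u798 : ∀ v, 1 ≤ v → v ≤ 238362 → fs6 v = true := slots_step fs6 238078 284 238362 s6u797 s6c798 rfl
theorem s6u799 : ∀ v, 1 ≤ v → v ≤ 238651 → fs6 v = true := slots_step fs6 238362 289 238651 s6u798 s6c799 rfl
theorem s6u800 : ∀ v, 1 ≤ v → v ≤ 238935 → fs6 v = true := slots_step fs6 238651 284 238935 s6u799 s6c800 rfl
theorem s6u801 : ∀ v, 1 ≤ v → v ≤ 239218 → fs6 v = true := slots_step fs6 238935 283 239218 s6u800 s6c801 rfl
theorem s6u802 : ∀ v, 1 ≤ v → v ≤ 239501 → fs6 v = true := slots_step fs6 239218 283 239501 s6u801 s6c802 rfl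
theorem s6u803 : ∀ v, 1 ≤ v → v ≤ 239789 → fs6 v = true := slots_step fs6 239501 288 239789 s6u802 s6c803 rfl
theorem s6u804 : ∀ v, 1 ≤ v → v ≤ 240071 → fs6 v = true := slots_step fs6 239789 282 240071 s6u803 s6c804 rfl
theorem s6u805 : ∀ v, 1 ≤ v → v ≤ 240365 → fs6 v = true := slots_step fs6 240071 294 240365 s6u804 s6c805 rfl
theorem s6u806 : ∀ v, 1 ≤ v → v ≤ 240657 → fs6 v = true := slots_step fs6 240365 292 240657 s6u805 s6c806 rfl
theorem s6u807 : ∀ v, 1 ≤ v → v ≤ 240941 → fs6 v = true := slots_step fs6 240657 284 240941 s6u806 s6c807 rfl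
theorem s6u808 : ∀ v, 1 ≤ v → v ≤ 241219 → fs6 v = true := slots_step fs6 240941 278 241219 s6u807 s6c808 rfl
theorem s6u809 : ∀ v, 1 ≤ v → v ≤ 241506 → fs6 v = true := slots_step fs6 241219 287 241506 s6u808 s6c809 rfl
theorem s6u810 : ∀ v, 1 ≤ v → v ≤ 241782 → fs6 v = true := slots_step fs6 241506 276 241782 s6u809 s6c810 rfl
theorem s6u811 : ∀ v, 1 ≤ v → v ≤ 242064 → fs6 v = true := slots_step fs6 241782 282 242064 s6u810 s6c811 rfl
theorem s6u812 : ∀ v, 1 ≤ v → v ≤ 242351 → fs6 v = true := slots_step fs6 242064 287 242351 s6u811 s6c812 rfl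
theorem s6u813 : ∀ v, 1 ≤ v → v ≤ 242633 → fs6 v = true := slots_step fs6 242351 282 242633 s6u812 s6c813 rfl
theorem s6u814 : ∀ v, 1 ≤ v → v ≤ 242914 → fs6 v = true := slots_step fs6 242633 281 242914 s6u813 s6c814 rfl
theorem s6u815 : ∀ v, 1 ≤ v → v ≤ 243188 → fs6 v = true := slots_step fs6 242914 274 243188 s6u814 s6c815 rfl
theorem s6u816 : ∀ v, 1 ≤ v → v ≤ 243476 → fs6 v = true := slots_step fs6 243188 288 243476 s6u815 s6c816 rfl
theorem s6u817 : ∀ v, 1 ≤ v → v ≤ 243741 → fs6 v = true := slots_step fs6 243476 265 243741 s6u816 s6c817 rfl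
theorem s6u818 : ∀ v, 1 ≤ v → v ≤ 244031 → fs6 v = true := slots_step fs6 243741 290 244031 s6u817 s6c818 rfl
theorem s6u819 : ∀ v, 1 ≤ v → v ≤ 244328 → fs6 v = true := slots_step fs6 244031 297 244328 s6u818 s6c819 rfl
theorem s6u820 : ∀ v, 1 ≤ v → v ≤ 244633 → fs6 v = true := slots_step fs6 244328 305 244633 s6u819 s6c820 rfl
theorem s6u821 : ∀ v, 1 ≤ v → v ≤ 244930 → fs6 v = true := slots_step fs6 244633 297 244930 s6u820 s6c821 rfl
theorem s6u822 : ∀ v, 1 ≤ v → v ≤ 245241 → fs6 v = true := slots_step fs6 244930 311 245241 s6u821 s6c822 rfl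
theorem s6u823 : ∀ v, 1 ≤ v → v ≤ 245555 → fs6 v = true := slots_step fs6 245241 314 245555 s6u822 s6c823 rfl
theorem s6u824 : ∀ v, 1 ≤ v → v ≤ 245840 → fs6 v = true := slots_step fs6 245555 285 245840 s6u823 s6c824 rfl
theorem s6u825 : ∀ v, 1 ≤ v → v ≤ 246103 → fs6 v = true := slots_step fs6 245840 263 246103 s6u824 s6c825 rfl
theorem s6u826 : ∀ v, 1 ≤ v → v ≤ 246370 → fs6 v = true := slots_step fs6 246103 267 246370 s6u825 s6c826 rfl
theorem s6u827 : ∀ v, 1 ≤ v → v ≤ 246645 → fs6 v = true := slots_step fs6 246370 275 246645 s6u826 s6c827 rfl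
theorem s6u828 : ∀ v, 1 ≤ v → v ≤ 246927 → fs6 v = true := slots_step fs6 246645 282 246927 s6u827 s6c828 rfl
theorem s6u829 : ∀ v, 1 ≤ v → v ≤ 247185 → fs6 v = true := slots_step fs6 246927 258 247185 s6u828 s6c829 rfl
theorem s6u830 : ∀ v, 1 ≤ v → v ≤ 247441 → fs6 v = true := slots_step fs6 247185 256 247441 s6u829 s6c830 rfl
theorem s6u831 : ∀ v, 1 ≤ v → v ≤ 247716 → fs6 v = true := slots_step fs6 247441 275 247716 s6u830 s6c831 rfl
theorem s6u832 : ∀ v, 1 ≤ v → v ≤ 247991 → fs6 v = true := slots_step fs6 247716 275 247991 s6u831 s6c832 rfl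
theorem s6u833 : ∀ v, 1 ≤ v → v ≤ 248252 → fs6 v = true := slots_step fs6 247991 261 248252 s6u832 s6c833 rfl
theorem s6u834 : ∀ v, 1 ≤ v → v ≤ 248521 → fs6 v = true := slots_step fs6 248252 269 248521 s6u833 s6c834 rfl
theorem s6u835 : ∀ v, 1 ≤ v → v ≤ 248795 → fs6 v = true := slots_step fs6 248521 274 248795 s6u834 s6c835 rfl
theorem s6u836 : ∀ v, 1 ≤ v → v ≤ 249075 → fs6 v = true := slots_step fs6 248795 280 249075 s6u835 s6c836 rfl
theorem s6u837 : ∀ v, 1 ≤ v → v ≤ 249349 → fs6 v = true := slots_step fs6 249075 274 249349 s6u836 s6c837 rfl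
theorem s6u838 : ∀ v, 1 ≤ v → v ≤ 249608 → fs6 v = true := slots_step fs6 249349 259 249608 s6u837 s6c838 rfl
theorem s6u839 : ∀ v, 1 ≤ v → v ≤ 249873 → fs6 v = true := slots_step fs6 249608 265 249873 s6u838 s6c839 rfl
theorem s6u840 : ∀ v, 1 ≤ v → v ≤ 250151 → fs6 v = true := slots_step fs6 249873 278 250151 s6u839 s6c840 rfl
theorem s6u841 : ∀ v, 1 ≤ v → v ≤ 250414 → fs6 v = true := slots_step fs6 250151 263 250414 s6u840 s6c841 rfl
theorem s6u842 : ∀ v, 1 ≤ v → v ≤ 250689 → fs6 v = true := slots_step fs6 250414 275 250689 s6u841 s6c842 rfl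
theorem s6u843 : ∀ v, 1 ≤ v → v ≤ 250960 → fs6 v = true := slots_step fs6 250689 271 250960 s6u842 s6c843 rfl
theorem s6u844 : ∀ v, 1 ≤ v → v ≤ 251236 → fs6 v = true := slots_step fs6 250960 276 251236 s6u843 s6c844 rfl
theorem s6u845 : ∀ v, 1 ≤ v → v ≤ 251501 → fs6 v = true := slots_step fs6 251236 265 251501 s6u844 s6c845 rfl
theorem s6u846 : ∀ v, 1 ≤ v → v ≤ 251776 → fs6 v = true := slots_step fs6 251501 275 251776 s6u845 s6c846 rfl
theorem s6u847 : ∀ v, 1 ≤ v → v ≤ 252055 → fs6 v = true := slots_step fs6 251776 279 252055 s6u846 s6c847 rfl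
theorem s6u848 : ∀ v, 1 ≤ v → v ≤ 252328 → fs6 v = true := slots_step fs6 252055 273 252328 s6u847 s6c848 rfl
theorem s6u849 : ∀ v, 1 ≤ v → v ≤ 252594 → fs6 v = true := slots_step fs6 252328 266 252594 s6u848 s6c849 rfl
theorem s6u850 : ∀ v, 1 ≤ v → v ≤ 252873 → fs6 v = true := slots_step fs6 252594 279 252873 s6u849 s6c850 rfl
theorem s6u851 : ∀ v, 1 ≤ v → v ≤ 253139 → fs6 v = true := slots_step fs6 252873 266 253139 s6u850 s6c851 rfl
theorem s6u852 : ∀ v, 1 ≤ v → v ≤ 253427 → fs6 v = true := slots_step fs6 253139 288 253427 s6u851 s6c852 rfl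
theorem s6u853 : ∀ v, 1 ≤ v → v ≤ 253703 → fs6 v = true := slots_step fs6 253427 276 253703 s6u852 s6c853 rfl
theorem s6u854 : ∀ v, 1 ≤ v → v ≤ 253976 → fs6 v = true := slots_step fs6 253703 273 253976 s6u853 s6c854 rfl
theorem s6u855 : ∀ v, 1 ≤ v → v ≤ 254249 → fs6 v = true := slots_step fs6 253976 273 254249 s6u854 s6c855 rfl
theorem s6u856 : ∀ v, 1 ≤ v → v ≤ 254523 → fs6 v = true := slots_step fs6 254249 274 254523 s6u855 s6c856 rfl
theorem s6u857 : ∀ v, 1 ≤ v → v ≤ 254799 → fs6 v = true := slots_step fs6 254523 276 254799 s6u856 s6c857 rfl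
theorem s6u858 : ∀ v, 1 ≤ v → v ≤ 255078 → fs6 v = true := slots_step fs6 254799 279 255078 s6u857 s6c858 rfl
theorem s6u859 : ∀ v, 1 ≤ v → v ≤ 255352 → fs6 v = true := slots_step fs6 255078 274 255352 s6u858 s6c859 rfl
theorem s6u860 : ∀ v, 1 ≤ v → v ≤ 255620 → fs6 v = true := slots_step fs6 255352 268 255620 s6u859 s6c860 rfl
theorem s6u861 : ∀ v, 1 ≤ v → v ≤ 255899 → fs6 v = true := slots_step fs6 255620 279 255899 s6u860 s6c861 rfl
theorem s6u862 : ∀ v, 1 ≤ v → v ≤ 256175 → fs6 v = true := slots_step fs6 255899 276 256175 s6u861 s6c862 rfl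
theorem s6u863 : ∀ v, 1 ≤ v → v ≤ 256467 → fs6 v = true := slots_step fs6 256175 292 256467 s6u862 s6c863 rfl
theorem s6u864 : ∀ v, 1 ≤ v → v ≤ 256757 → fs6 v = true := slots_step fs6 256467 290 256757 s6u863 s6c864 rfl
theorem s6u865 : ∀ v, 1 ≤ v → v ≤ 257048 → fs6 v = true := slots_step fs6 256757 291 257048 s6u864 s6c865 rfl
theorem s6u866 : ∀ v, 1 ≤ v → v ≤ 257342 → fs6 v = true := slots_step fs6 257048 294 257342 s6u865 s6c866 rfl
theorem s6u867 : ∀ v, 1 ≤ v → v ≤ 257619 → fs6 v = true := slots_step fs6 257342 277 257619 s6u866 s6c867 rfl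
theorem s6u868 : ∀ v, 1 ≤ v → v ≤ 257911 → fs6 v = true := slots_step fs6 257619 292 257911 s6u867 s6c868 rfl
theorem s6u869 : ∀ v, 1 ≤ v → v ≤ 258194 → fs6 v = true := slots_step fs6 257911 283 258194 s6u868 s6c869 rfl
theorem s6u870 : ∀ v, 1 ≤ v → v ≤ 258487 → fs6 v = true := slots_step fs6 258194 293 258487 s6u869 s6c870 rfl
theorem s6u871 : ∀ v, 1 ≤ v → v ≤ 258777 → fs6 v = true := slots_step fs6 258487 290 258777 s6u870 s6c871 rfl
theorem s6u872 : ∀ v, 1 ≤ v → v ≤ 259064 → fs6 v = true := slots_step fs6 258777 287 259064 s6u871 s6c872 rfl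
theorem s6u873 : ∀ v, 1 ≤ v → v ≤ 259343 → fs6 v = true := slots_step fs6 259064 279 259343 s6u872 s6c873 rfl
theorem s6u874 : ∀ v, 1 ≤ v → v ≤ 259611 → fs6 v = true := slots_step fs6 259343 268 259611 s6u873 s6c874 rfl
theorem s6u875 : ∀ v, 1 ≤ v → v ≤ 259883 → fs6 v = true := slots_step fs6 259611 272 259883 s6u874 s6c875 rfl
theorem s6u876 : ∀ v, 1 ≤ v → v ≤ 260158 → fs6 v = true := slots_step fs6 259883 275 260158 s6u875 s6c876 rfl
theorem s6u877 : ∀ v, 1 ≤ v → v ≤ 260438 → fs6 v = true := slots_step fs6 260158 280 260438 s6u876 s6c877 rfl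
theorem s6u878 : ∀ v, 1 ≤ v → v ≤ 260720 → fs6 v = true := slots_step fs6 260438 282 260720 s6u877 s6c878 rfl
theorem s6u879 : ∀ v, 1 ≤ v → v ≤ 261004 → fs6 v = true := slots_step fs6 260720 284 261004 s6u878 s6c879 rfl
theorem s6u880 : ∀ v, 1 ≤ v → v ≤ 261277 → fs6 v = true := slots_step fs6 261004 273 261277 s6u879 s6c880 rfl
theorem s6u881 : ∀ v, 1 ≤ v → v ≤ 261568 → fs6 v = true := slots_step fs6 261277 291 261568 s6u880 s6c881 rfl
theorem s6u882 : ∀ v, 1 ≤ v → v ≤ 261843 → fs6 v = true := slots_step fs6 261568 275 261843 s6u881 s6c882 rfl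
theorem s6u883 : ∀ v, 1 ≤ v → v ≤ 262121 → fs6 v = true := slots_step fs6 261843 278 262121 s6u882 s6c883 rfl
theorem s6u884 : ∀ v, 1 ≤ v → v ≤ 262410 → fs6 v = true := slots_step fs6 262121 289 262410 s6u883 s6c884 rfl
theorem s6u885 : ∀ v, 1 ≤ v → v ≤ 262682 → fs6 v = true := slots_step fs6 262410 272 262682 s6u884 s6c885 rfl
theorem s6u886 : ∀ v, 1 ≤ v → v ≤ 262950 → fs6 v = true := slots_step fs6 262682 268 262950 s6u885 s6c886 rfl
theorem s6u887 : ∀ v, 1 ≤ v → v ≤ 263231 → fs6 v = true := slots_step fs6 262950 281 263231 s6u886 s6c887 rfl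
theorem s6u888 : ∀ v, 1 ≤ v → v ≤ 263495 → fs6 v = true := slots_step fs6 263231 264 263495 s6u887 s6c888 rfl
theorem s6u889 : ∀ v, 1 ≤ v → v ≤ 263775 → fs6 v = true := slots_step fs6 263495 280 263775 s6u888 s6c889 rfl
theorem s6u890 : ∀ v, 1 ≤ v → v ≤ 264057 → fs6 v = true := slots_step fs6 263775 282 264057 s6u889 s6c890 rfl
theorem s6u891 : ∀ v, 1 ≤ v → v ≤ 264343 → fs6 v = true := slots_step fs6 264057 286 264343 s6u890 s6c891 rfl
theorem s6u892 : ∀ v, 1 ≤ v → v ≤ 264615 → fs6 v = true := slots_step fs6 264343 272 264615 s6u891 s6c892 rfl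
theorem s6u893 : ∀ v, 1 ≤ v → v ≤ 264902 → fs6 v = true := slots_step fs6 264615 287 264902 s6u892 s6c893 rfl
theorem s6u894 : ∀ v, 1 ≤ v → v ≤ 265176 → fs6 v = true := slots_step fs6 264902 274 265176 s6u893 s6c894 rfl
theorem s6u895 : ∀ v, 1 ≤ v → v ≤ 265454 → fs6 v = true := slots_step fs6 265176 278 265454 s6u894 s6c895 rfl
theorem s6u896 : ∀ v, 1 ≤ v → v ≤ 265747 → fs6 v = true := slots_step fs6 265454 293 265747 s6u895 s6c896 rfl
theorem s6u897 : ∀ v, 1 ≤ v → v ≤ 266027 → fs6 v = true := slots_step fs6 265747 280 266027 s6u896 s6c897 rfl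
theorem s6u898 : ∀ v, 1 ≤ v → v ≤ 266312 → fs6 v = true := slots_step fs6 266027 285 266312 s6u897 s6c898 rfl
theorem s6u899 : ∀ v, 1 ≤ v → v ≤ 266594 → fs6 v = true := slots_step fs6 266312 282 266594 s6u898 s6c899 rfl
theorem s6u900 : ∀ v, 1 ≤ v → v ≤ 266878 → fs6 v = true := slots_step fs6 266594 284 266878 s6u899 s6c900 rfl
theorem s6u901 : ∀ v, 1 ≤ v → v ≤ 267153 → fs6 v = true := slots_step fs6 266878 275 267153 s6u900 s6c901 rfl
theorem s6u902 : ∀ v, 1 ≤ v → v ≤ 267426 → fs6 v = true := slots_step fs6 267153 273 267426 s6u901 s6c902 rfl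
theorem s6u903 : ∀ v, 1 ≤ v → v ≤ 267703 → fs6 v = true := slots_step fs6 267426 277 267703 s6u902 s6c903 rfl
theorem s6u904 : ∀ v, 1 ≤ v → v ≤ 267988 → fs6 v = true := slots_step fs6 267703 285 267988 s6u903 s6c904 rfl
theorem s6u905 : ∀ v, 1 ≤ v → v ≤ 268273 → fs6 v = true := slots_step fs6 267988 285 268273 s6u904 s6c905 rfl
theorem s6u906 : ∀ v, 1 ≤ v → v ≤ 268546 → fs6 v = true := slots_step fs6 268273 273 268546 s6u905 s6c906 rfl
theorem s6u907 : ∀ v, 1 ≤ v → v ≤ 268822 → fs6 v = true := slots_step fs6 268546 276 268822 s6u906 s6c907 rfl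
theorem s6u908 : ∀ v, 1 ≤ v → v ≤ 269095 → fs6 v = true := slots_step fs6 268822 273 269095 s6u907 s6c908 rfl
theorem s6u909 : ∀ v, 1 ≤ v → v ≤ 269382 → fs6 v = true := slots_step fs6 269095 287 269382 s6u908 s6c909 rfl
theorem s6u910 : ∀ v, 1 ≤ v → v ≤ 269677 → fs6 v = true := slots_step fs6 269382 295 269677 s6u909 s6c910 rfl
theorem s6u911 : ∀ v, 1 ≤ v → v ≤ 269985 → fs6 v = true := slots_step fs6 269677 308 269985 s6u910 s6c911 rfl
theorem s6u912 : ∀ v, 1 ≤ v → v ≤ 270290 → fs6 v = true := slots_step fs6 269985 305 270290 s6u911 s6c912 rfl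
theorem s6u913 : ∀ v, 1 ≤ v → v ≤ 270581 → fs6 v = true := slots_step fs6 270290 291 270581 s6u912 s6c913 rfl
theorem s6u914 : ∀ v, 1 ≤ v → v ≤ 270857 → fs6 v = true := slots_step fs6 270581 276 270857 s6u913 s6c914 rfl
theorem s6u915 : ∀ v, 1 ≤ v → v ≤ 271132 → fs6 v = true := slots_step fs6 270857 275 271132 s6u914 s6c915 rfl
theorem s6u916 : ∀ v, 1 ≤ v → v ≤ 271397 → fs6 v = true := slots_step fs6 271132 265 271397 s6u915 s6c916 rfl
theorem s6u917 : ∀ v, 1 ≤ v → v ≤ 271673 → fs6 v = true := slots_step fs6 271397 276 271673 s6u916 s6c917 rfl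
theorem s6u918 : ∀ v, 1 ≤ v → v ≤ 271967 → fs6 v = true := slots_step fs6 271673 294 271967 s6u917 s6c918 rfl
theorem s6u919 : ∀ v, 1 ≤ v → v ≤ 272250 → fs6 v = true := slots_step fs6 271967 283 272250 s6u918 s6c919 rfl
theorem s6u920 : ∀ v, 1 ≤ v → v ≤ 272509 → fs6 v = true := slots_step fs6 272250 259 272509 s6u919 s6c920 rfl
theorem s6u921 : ∀ v, 1 ≤ v → v ≤ 272778 → fs6 v = true := slots_step fs6 272509 269 272778 s6u920 s6c921 rfl
theorem s6u922 : ∀ v, 1 ≤ v → v ≤ 273057 → fs6 v = true := slots_step fs6 272778 279 273057 s6u921 s6c922 rfl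
theorem s6u923 : ∀ v, 1 ≤ v → v ≤ 273331 → fs6 v = true := slots_step fs6 273057 274 273331 s6u922 s6c923 rfl
theorem s6u924 : ∀ v, 1 ≤ v → v ≤ 273600 → fs6 v = true := slots_step fs6 273331 269 273600 s6u923 s6c924 rfl
theorem s6u925 : ∀ v, 1 ≤ v → v ≤ 273878 → fs6 v = true := slots_step fs6 273600 278 273878 s6u924 s6c925 rfl
theorem s6u926 : ∀ v, 1 ≤ v → v ≤ 274162 → fs6 v = true := slots_step fs6 273878 284 274162 s6u925 s6c926 rfl
theorem s6u927 : ∀ v, 1 ≤ v → v ≤ 274432 → fs6 v = true := slots_step fs6 274162 270 274432 s6u926 s6c927 rfl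
theorem s6u928 : ∀ v, 1 ≤ v → v ≤ 274709 → fs6 v = true := slots_step fs6 274432 277 274709 s6u927 s6c928 rfl
theorem s6u929 : ∀ v, 1 ≤ v → v ≤ 274968 → fs6 v = true := slots_step fs6 274709 259 274968 s6u928 s6c929 rfl
theorem s6u930 : ∀ v, 1 ≤ v → v ≤ 275226 → fs6 v = true := slots_step fs6 274968 258 275226 s6u929 s6c930 rfl
theorem s6u931 : ∀ v, 1 ≤ v → v ≤ 275500 → fs6 v = true := slots_step fs6 275226 274 275500 s6u930 s6c931 rfl
theorem s6u932 : ∀ v, 1 ≤ v → v ≤ 275766 → fs6 v = true := slots_step fs6 275500 266 275766 s6u931 s6c932 rfl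
theorem s6u933 : ∀ v, 1 ≤ v → v ≤ 276045 → fs6 v = true := slots_step fs6 275766 279 276045 s6u932 s6c933 rfl
theorem s6u934 : ∀ v, 1 ≤ v → v ≤ 276308 → fs6 v = true := slots_step fs6 276045 263 276308 s6u933 s6c934 rfl
theorem s6u935 : ∀ v, 1 ≤ v → v ≤ 276592 → fs6 v = true := slots_step fs6 276308 284 276592 s6u934 s6c935 rfl
theorem s6u936 : ∀ v, 1 ≤ v → v ≤ 276876 → fs6 v = true := slots_step fs6 276592 284 276876 s6u935 s6c936 rfl
theorem s6u937 : ∀ v, 1 ≤ v → v ≤ 277149 → fs6 v = true := slots_step fs6 276876 273 277149 s6u936 s6c937 rfl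
theorem s6u938 : ∀ v, 1 ≤ v → v ≤ 277425 → fs6 v = true := slots_step fs6 277149 276 277425 s6u937 s6c938 rfl
theorem s6u939 : ∀ v, 1 ≤ v → v ≤ 277704 → fs6 v = true := slots_step fs6 277425 279 277704 s6u938 s6c939 rfl
theorem s6u940 : ∀ v, 1 ≤ v → v ≤ 277975 → fs6 v = true := slots_step fs6 277704 271 277975 s6u939 s6c940 rfl
theorem s6u941 : ∀ v, 1 ≤ v → v ≤ 278222 → fs6 v = true := slots_step fs6 277975 247 278222 s6u940 s6c941 rfl
theorem s6u942 : ∀ v, 1 ≤ v → v ≤ 278506 → fs6 v = true := slots_step fs6 278222 284 278506 s6u941 s6c942 rfl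
theorem s6u943 : ∀ v, 1 ≤ v → v ≤ 278772 → fs6 v = true := slots_step fs6 278506 266 278772 s6u942 s6c943 rfl
theorem s6u944 : ∀ v, 1 ≤ v → v ≤ 279062 → fs6 v = true := slots_step fs6 278772 290 279062 s6u943 s6c944 rfl
theorem s6u945 : ∀ v, 1 ≤ v → v ≤ 279330 → fs6 v = true := slots_step fs6 279062 268 279330 s6u944 s6c945 rfl
theorem s6u946 : ∀ v, 1 ≤ v → v ≤ 279608 → fs6 v = true := slots_step fs6 279330 278 279608 s6u945 s6c946 rfl
theorem s6u947 : ∀ v, 1 ≤ v → v ≤ 279879 → fs6 v = true := slots_step fs6 279608 271 279879 s6u946 s6c947 rfl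
theorem s6u948 : ∀ v, 1 ≤ v → v ≤ 280149 → fs6 v = true := slots_step fs6 279879 270 280149 s6u947 s6c948 rfl
theorem s6u949 : ∀ v, 1 ≤ v → v ≤ 280420 → fs6 v = true := slots_step fs6 280149 271 280420 s6u948 s6c949 rfl
theorem s6u950 : ∀ v, 1 ≤ v → v ≤ 280699 → fs6 v = true := slots_step fs6 280420 279 280699 s6u949 s6c950 rfl
theorem s6u951 : ∀ v, 1 ≤ v → v ≤ 280971 → fs6 v = true := slots_step fs6 280699 272 280971 s6u950 s6c951 rfl
theorem s6u952 : ∀ v, 1 ≤ v → v ≤ 281245 → fs6 v = true := slots_step fs6 280971 274 281245 s6u951 s6c952 rfl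
theorem s6u953 : ∀ v, 1 ≤ v → v ≤ 281521 → fs6 v = true := slots_step fs6 281245 276 281521 s6u952 s6c953 rfl
theorem s6u954 : ∀ v, 1 ≤ v → v ≤ 281797 → fs6 v = true := slots_step fs6 281521 276 281797 s6u953 s6c954 rfl
theorem s6u955 : ∀ v, 1 ≤ v → v ≤ 282094 → fs6 v = true := slots_step fs6 281797 297 282094 s6u954 s6c955 rfl
theorem s6u956 : ∀ v, 1 ≤ v → v ≤ 282372 → fs6 v = true := slots_step fs6 282094 278 282372 s6u955 s6c956 rfl
theorem s6u957 : ∀ v, 1 ≤ v → v ≤ 282625 → fs6 v = true := slots_step fs6 282372 253 282625 s6u956 s6c957 rfl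
theorem s6u958 : ∀ v, 1 ≤ v → v ≤ 282922 → fs6 v = true := slots_step fs6 282625 297 282922 s6u957 s6c958 rfl
theorem s6u959 : ∀ v, 1 ≤ v → v ≤ 283201 → fs6 v = true := slots_step fs6 282922 279 283201 s6u958 s6c959 rfl
theorem s6u960 : ∀ v, 1 ≤ v → v ≤ 283489 → fs6 v = true := slots_step fs6 283201 288 283489 s6u959 s6c960 rfl
theorem s6u961 : ∀ v, 1 ≤ v → v ≤ 283768 → fs6 v = true := slots_step fs6 283489 279 283768 s6u960 s6c961 rfl
theorem s6u962 : ∀ v, 1 ≤ v → v ≤ 284046 → fs6 v = true := slots_step fs6 283768 278 284046 s6u961 s6c962 rfl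
theorem s6u963 : ∀ v, 1 ≤ v → v ≤ 284335 → fs6 v = true := slots_step fs6 284046 289 284335 s6u962 s6c963 rfl
theorem s6u964 : ∀ v, 1 ≤ v → v ≤ 284607 → fs6 v = true := slots_step fs6 284335 272 284607 s6u963 s6c964 rfl
theorem s6u965 : ∀ v, 1 ≤ v → v ≤ 284881 → fs6 v = true := slots_step fs6 284607 274 284881 s6u964 s6c965 rfl
theorem s6u966 : ∀ v, 1 ≤ v → v ≤ 285144 → fs6 v = true := slots_step fs6 284881 263 285144 s6u965 s6c966 rfl
theorem s6u967 : ∀ v, 1 ≤ v → v ≤ 285414 → fs6 v = true := slots_step fs6 285144 270 285414 s6u966 s6c967 rfl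
theorem s6u968 : ∀ v, 1 ≤ v → v ≤ 285677 → fs6 v = true := slots_step fs6 285414 263 285677 s6u967 s6c968 rfl
theorem s6u969 : ∀ v, 1 ≤ v → v ≤ 285955 → fs6 v = true := slots_step fs6 285677 278 285955 s6u968 s6c969 rfl
theorem s6u970 : ∀ v, 1 ≤ v → v ≤ 286245 → fs6 v = true := slots_step fs6 285955 290 286245 s6u969 s6c970 rfl
theorem s6u971 : ∀ v, 1 ≤ v → v ≤ 286512 → fs6 v = true := slots_step fs6 286245 267 286512 s6u970 s6c971 rfl
theorem s6u972 : ∀ v, 1 ≤ v → v ≤ 286797 → fs6 v = true := slots_step fs6 286512 285 286797 s6u971 s6c972 rfl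
theorem s6u973 : ∀ v, 1 ≤ v → v ≤ 287080 → fs6 v = true := slots_step fs6 286797 283 287080 s6u972 s6c973 rfl
theorem s6u974 : ∀ v, 1 ≤ v → v ≤ 287367 → fs6 v = true := slots_step fs6 287080 287 287367 s6u973 s6c974 rfl
theorem s6u975 : ∀ v, 1 ≤ v → v ≤ 287636 → fs6 v = true := slots_step fs6 287367 269 287636 s6u974 s6c975 rfl
theorem s6u976 : ∀ v, 1 ≤ v → v ≤ 287911 → fs6 v = true := slots_step fs6 287636 275 287911 s6u975 s6c976 rfl
theorem s6u977 : ∀ v, 1 ≤ v → v ≤ 288185 → fs6 v = true := slots_step fs6 287911 274 288185 s6u976 s6c977 rfl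
theorem s6u978 : ∀ v, 1 ≤ v → v ≤ 288453 → fs6 v = true := slots_step fs6 288185 268 288453 s6u977 s6c978 rfl
theorem s6u979 : ∀ v, 1 ≤ v → v ≤ 288723 → fs6 v = true := slots_step fs6 288453 270 288723 s6u978 s6c979 rfl
theorem s6u980 : ∀ v, 1 ≤ v → v ≤ 289003 → fs6 v = true := slots_step fs6 288723 280 289003 s6u979 s6c980 rfl
theorem s6u981 : ∀ v, 1 ≤ v → v ≤ 289255 → fs6 v = true := slots_step fs6 289003 252 289255 s6u980 s6c981 rfl
theorem s6u982 : ∀ v, 1 ≤ v → v ≤ 289523 → fs6 v = true := slots_step fs6 289255 268 289523 s6u981 s6c982 rfl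
theorem s6u983 : ∀ v, 1 ≤ v → v ≤ 289803 → fs6 v = true := slots_step fs6 289523 280 289803 s6u982 s6c983 rfl
theorem s6u984 : ∀ v, 1 ≤ v → v ≤ 290063 → fs6 v = true := slots_step fs6 289803 260 290063 s6u983 s6c984 rfl
theorem s6u985 : ∀ v, 1 ≤ v → v ≤ 290333 → fs6 v = true := slots_step fs6 290063 270 290333 s6u984 s6c985 rfl
theorem s6u986 : ∀ v, 1 ≤ v → v ≤ 290611 → fs6 v = true := slots_step fs6 290333 278 290611 s6u985 s6c986 rfl
theorem s6u987 : ∀ v, 1 ≤ v → v ≤ 290883 → fs6 v = true := slots_step fs6 290611 272 290883 s6u986 s6c987 rfl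
theorem s6u988 : ∀ v, 1 ≤ v → v ≤ 291161 → fs6 v = true := slots_step fs6 290883 278 291161 s6u987 s6c988 rfl
theorem s6u989 : ∀ v, 1 ≤ v → v ≤ 291439 → fs6 v = true := slots_step fs6 291161 278 291439 s6u988 s6c989 rfl
theorem s6u990 : ∀ v, 1 ≤ v → v ≤ 291722 → fs6 v = true := slots_step fs6 291439 283 291722 s6u989 s6c990 rfl
theorem s6u991 : ∀ v, 1 ≤ v → v ≤ 292001 → fs6 v = true := slots_step fs6 291722 279 292001 s6u990 s6c991 rfl
theorem s6u992 : ∀ v, 1 ≤ v → v ≤ 292280 → fs6 v = true := slots_step fs6 292001 279 292280 s6u991 s6c992 rfl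
theorem s6u993 : ∀ v, 1 ≤ v → v ≤ 292563 → fs6 v = true := slots_step fs6 292280 283 292563 s6u992 s6c993 rfl
theorem s6u994 : ∀ v, 1 ≤ v → v ≤ 292836 → fs6 v = true := slots_step fs6 292563 273 292836 s6u993 s6c994 rfl
theorem s6u995 : ∀ v, 1 ≤ v → v ≤ 293104 → fs6 v = true := slots_step fs6 292836 268 293104 s6u994 s6c995 rfl
theorem s6u996 : ∀ v, 1 ≤ v → v ≤ 293381 → fs6 v = true := slots_step fs6 293104 277 293381 s6u995 s6c996 rfl
theorem s6u997 : ∀ v, 1 ≤ v → v ≤ 293664 → fs6 v = true := slots_step fs6 293381 283 293664 s6u996 s6c997 rfl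
theorem s6u998 : ∀ v, 1 ≤ v → v ≤ 293933 → fs6 v = true := slots_step fs6 293664 269 293933 s6u997 s6c998 rfl
theorem s6u999 : ∀ v, 1 ≤ v → v ≤ 294204 → fs6 v = true := slots_step fs6 293933 271 294204 s6u998 s6c999 rfl
theorem s6u1000 : ∀ v, 1 ≤ v → v ≤ 294491 → fs6 v = true := slots_step fs6 294204 287 294491 s6u999 s6c1000 rfl
theorem s6u1001 : ∀ v, 1 ≤ v → v ≤ 294778 → fs6 v = true := slots_step fs6 294491 287 294778 s6u1000 s6c1001 rfl
theorem s6u1002 : ∀ v, 1 ≤ v → v ≤ 295069 → fs6 v = true := slots_step fs6 294778 291 295069 s6u1001 s6c1002 rfl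
theorem s6u1003 : ∀ v, 1 ≤ v → v ≤ 295372 → fs6 v = true := slots_step fs6 295069 303 295372 s6u1002 s6c1003 rfl
theorem s6u1004 : ∀ v, 1 ≤ v → v ≤ 295653 → fs6 v = true := slots_step fs6 295372 281 295653 s6u1003 s6c1004 rfl
theorem s6u1005 : ∀ v, 1 ≤ v → v ≤ 295904 → fs6 v = true := slots_step fs6 295653 251 295904 s6u1004 s6c1005 rfl
theorem s6u1006 : ∀ v, 1 ≤ v → v ≤ 296166 → fs6 v = true := slots_step fs6 295904 262 296166 s6u1005 s6c1006 rfl
theorem s6u1007 : ∀ v, 1 ≤ v → v ≤ 296447 → fs6 v = true := slots_step fs6 296166 281 296447 s6u1006 s6c1007 rfl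
theorem s6u1008 : ∀ v, 1 ≤ v → v ≤ 296731 → fs6 v = true := slots_step fs6 296447 284 296731 s6u1007 s6c1008 rfl
theorem s6u1009 : ∀ v, 1 ≤ v → v ≤ 297030 → fs6 v = true := slots_step fs6 296731 299 297030 s6u1008 s6c1009 rfl
theorem s6u1010 : ∀ v, 1 ≤ v → v ≤ 297307 → fs6 v = true := slots_step fs6 297030 277 297307 s6u1009 s6c1010 rfl
theorem s6u1011 : ∀ v, 1 ≤ v → v ≤ 297571 → fs6 v = true := slots_step fs6 297307 264 297571 s6u1010 s6c1011 rfl
theorem s6u1012 : ∀ v, 1 ≤ v → v ≤ 297825 → fs6 v = true := slots_step fs6 297571 254 297825 s6u1011 s6c1012 rfl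
theorem s6u1013 : ∀ v, 1 ≤ v → v ≤ 298100 → fs6 v = true := slots_step fs6 297825 275 298100 s6u1012 s6c1013 rfl
theorem s6u1014 : ∀ v, 1 ≤ v → v ≤ 298369 → fs6 v = true := slots_step fs6 298100 269 298369 s6u1013 s6c1014 rfl
theorem s6u1015 : ∀ v, 1 ≤ v → v ≤ 298638 → fs6 v = true := slots_step fs6 298369 269 298638 s6u1014 s6c1015 rfl
theorem s6u1016 : ∀ v, 1 ≤ v → v ≤ 298912 → fs6 v = true := slots_step fs6 298638 274 298912 s6u1015 s6c1016 rfl
theorem s6u1017 : ∀ v, 1 ≤ v → v ≤ 299188 → fs6 v = true := slots_step fs6 298912 276 299188 s6u1016 s6c1017 rfl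
theorem s6u1018 : ∀ v, 1 ≤ v → v ≤ 299453 → fs6 v = true := slots_step fs6 299188 265 299453 s6u1017 s6c1018 rfl
theorem s6u1019 : ∀ v, 1 ≤ v → v ≤ 299715 → fs6 v = true := slots_step fs6 299453 262 299715 s6u1018 s6c1019 rfl
theorem s6u1020 : ∀ v, 1 ≤ v → v ≤ 299968 → fs6 v = true := slots_step fs6 299715 253 299968 s6u1019 s6c1020 rfl
theorem s6u1021 : ∀ v, 1 ≤ v → v ≤ 300221 → fs6 v = true := slots_step fs6 299968 253 300221 s6u1020 s6c1021 rfl
theorem s6u1022 : ∀ v, 1 ≤ v → v ≤ 300490 → fs6 v = true := slots_step fs6 300221 269 300490 s6u1021 s6c1022 rfl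
theorem s6u1023 : ∀ v, 1 ≤ v → v ≤ 300750 → fs6 v = true := slots_step fs6 300490 260 300750 s6u1022 s6c1023 rfl
theorem s6u1024 : ∀ v, 1 ≤ v → v ≤ 301025 → fs6 v = true := slots_step fs6 300750 275 301025 s6u1023 s6c1024 rfl
theorem s6u1025 : ∀ v, 1 ≤ v → v ≤ 301291 → fs6 v = true := slots_step fs6 301025 266 301291 s6u1024 s6c1025 rfl
theorem s6u1026 : ∀ v, 1 ≤ v → v ≤ 301562 → fs6 v = true := slots_step fs6 301291 271 301562 s6u1025 s6c1026 rfl
theorem s6u1027 : ∀ v, 1 ≤ v → v ≤ 301851 → fs6 v = true := slots_step fs6 301562 289 301851 s6u1026 s6c1027 rfl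
theorem s6u1028 : ∀ v, 1 ≤ v → v ≤ 302125 → fs6 v = true := slots_step fs6 301851 274 302125 s6u1027 s6c1028 rfl
theorem s6u1029 : ∀ v, 1 ≤ v → v ≤ 302391 → fs6 v = true := slots_step fs6 302125 266 302391 s6u1028 s6c1029 rfl
theorem s6u1030 : ∀ v, 1 ≤ v → v ≤ 302657 → fs6 v = true := slots_step fs6 302391 266 302657 s6u1029 s6c1030 rfl
theorem s6u1031 : ∀ v, 1 ≤ v → v ≤ 302933 → fs6 v = true := slots_step fs6 302657 276 302933 s6u1030 s6c1031 rfl
theorem s6u1032 : ∀ v, 1 ≤ v → v ≤ 303174 → fs6 v = true := slots_step fs6 302933 241 303174 s6u1031 s6c1032 rfl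
theorem s6u1033 : ∀ v, 1 ≤ v → v ≤ 303444 → fs6 v = true := slots_step fs6 303174 270 303444 s6u1032 s6c1033 rfl
theorem s6u1034 : ∀ v, 1 ≤ v → v ≤ 303705 → fs6 v = true := slots_step fs6 303444 261 303705 s6u1033 s6c1034 rfl
theorem s6u1035 : ∀ v, 1 ≤ v → v ≤ 303969 → fs6 v = true := slots_step fs6 303705 264 303969 s6u1034 s6c1035 rfl
theorem s6u1036 : ∀ v, 1 ≤ v → v ≤ 304243 → fs6 v = true := slots_step fs6 303969 274 304243 s6u1035 s6c1036 rfl
theorem s6u1037 : ∀ v, 1 ≤ v → v ≤ 304515 → fs6 v = true := slots_step fs6 304243 272 304515 s6u1036 s6c1037 rfl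
theorem s6u1038 : ∀ v, 1 ≤ v → v ≤ 304783 → fs6 v = true := slots_step fs6 304515 268 304783 s6u1037 s6c1038 rfl
theorem s6u1039 : ∀ v, 1 ≤ v → v ≤ 305033 → fs6 v = true := slots_step fs6 304783 250 305033 s6u1038 s6c1039 rfl
theorem s6u1040 : ∀ v, 1 ≤ v → v ≤ 305300 → fs6 v = true := slots_step fs6 305033 267 305300 s6u1039 s6c1040 rfl
theorem s6u1041 : ∀ v, 1 ≤ v → v ≤ 305563 → fs6 v = true := slots_step fs6 305300 263 305563 s6u1040 s6c1041 rfl
theorem s6u1042 : ∀ v, 1 ≤ v → v ≤ 305835 → fs6 v = true := slots_step fs6 305563 272 305835 s6u1041 s6c1042 rfl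
theorem s6u1043 : ∀ v, 1 ≤ v → v ≤ 306118 → fs6 v = true := slots_step fs6 305835 283 306118 s6u1042 s6c1043 rfl
theorem s6u1044 : ∀ v, 1 ≤ v → v ≤ 306387 → fs6 v = true := slots_step fs6 306118 269 306387 s6u1043 s6c1044 rfl
theorem s6u1045 : ∀ v, 1 ≤ v → v ≤ 306671 → fs6 v = true := slots_step fs6 306387 284 306671 s6u1044 s6c1045 rfl
theorem s6u1046 : ∀ v, 1 ≤ v → v ≤ 306942 → fs6 v = true := slots_step fs6 306671 271 306942 s6u1045 s6c1046 rfl
theorem s6u1047 : ∀ v, 1 ≤ v → v ≤ 307174 → fs6 v = true := slots_step fs6 306942 232 307174 s6u1046 s6c1047 rfl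
theorem s6u1048 : ∀ v, 1 ≤ v → v ≤ 307441 → fs6 v = true := slots_step fs6 307174 267 307441 s6u1047 s6c1048 rfl
theorem s6u1049 : ∀ v, 1 ≤ v → v ≤ 307731 → fs6 v = true := slots_step fs6 307441 290 307731 s6u1048 s6c1049 rfl
theorem s6u1050 : ∀ v, 1 ≤ v → v ≤ 308004 → fs6 v = true := slots_step fs6 307731 273 308004 s6u1049 s6c1050 rfl
theorem s6u1051 : ∀ v, 1 ≤ v → v ≤ 308265 → fs6 v = true := slots_step fs6 308004 261 308265 s6u1050 s6c1051 rfl
theorem s6u1052 : ∀ v, 1 ≤ v → v ≤ 308530 → fs6 v = true := slots_step fs6 308265 265 308530 s6u1051 s6c1052 rfl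
theorem s6u1053 : ∀ v, 1 ≤ v → v ≤ 308805 → fs6 v = true := slots_step fs6 308530 275 308805 s6u1052 s6c1053 rfl
theorem s6u1054 : ∀ v, 1 ≤ v → v ≤ 309071 → fs6 v = true := slots_step fs6 308805 266 309071 s6u1053 s6c1054 rfl
theorem s6u1055 : ∀ v, 1 ≤ v → v ≤ 309321 → fs6 v = true := slots_step fs6 309071 250 309321 s6u1054 s6c1055 rfl
theorem s6u1056 : ∀ v, 1 ≤ v → v ≤ 309582 → fs6 v = true := slots_step fs6 309321 261 309582 s6u1055 s6c1056 rfl
theorem s6u1057 : ∀ v, 1 ≤ v → v ≤ 309835 → fs6 v = true := slots_step fs6 309582 253 309835 s6u1056 s6c1057 rfl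
theorem s6u1058 : ∀ v, 1 ≤ v → v ≤ 310113 → fs6 v = true := slots_step fs6 309835 278 310113 s6u1057 s6c1058 rfl
theorem s6u1059 : ∀ v, 1 ≤ v → v ≤ 310396 → fs6 v = true := slots_step fs6 310113 283 310396 s6u1058 s6c1059 rfl
theorem s6u1060 : ∀ v, 1 ≤ v → v ≤ 310661 → fs6 v = true := slots_step fs6 310396 265 310661 s6u1059 s6c1060 rfl
theorem s6u1061 : ∀ v, 1 ≤ v → v ≤ 310931 → fs6 v = true := slots_step fs6 310661 270 310931 s6u1060 s6c1061 rfl
theorem s6u1062 : ∀ v, 1 ≤ v → v ≤ 311206 → fs6 v = true := slots_step fs6 310931 275 311206 s6u1061 s6c1062 rfl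
theorem s6u1063 : ∀ v, 1 ≤ v → v ≤ 311476 → fs6 v = true := slots_step fs6 311206 270 311476 s6u1062 s6c1063 rfl
theorem s6u1064 : ∀ v, 1 ≤ v → v ≤ 311746 → fs6 v = true := slots_step fs6 311476 270 311746 s6u1063 s6c1064 rfl
theorem s6u1065 : ∀ v, 1 ≤ v → v ≤ 312014 → fs6 v = true := slots_step fs6 311746 268 312014 s6u1064 s6c1065 rfl
theorem s6u1066 : ∀ v, 1 ≤ v → v ≤ 312272 → fs6 v = true := slots_step fs6 312014 258 312272 s6u1065 s6c1066 rfl
theorem s6u1067 : ∀ v, 1 ≤ v → v ≤ 312538 → fs6 v = true := slots_step fs6 312272 266 312538 s6u1066 s6c1067 rfl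
theorem s6u1068 : ∀ v, 1 ≤ v → v ≤ 312811 → fs6 v = true := slots_step fs6 312538 273 312811 s6u1067 s6c1068 rfl
theorem s6u1069 : ∀ v, 1 ≤ v → v ≤ 313066 → fs6 v = true := slots_step fs6 312811 255 313066 s6u1068 s6c1069 rfl
theorem s6u1070 : ∀ v, 1 ≤ v → v ≤ 313315 → fs6 v = true := slots_step fs6 313066 249 313315 s6u1069 s6c1070 rfl
theorem s6u1071 : ∀ v, 1 ≤ v → v ≤ 313586 → fs6 v = true := slots_step fs6 313315 271 313586 s6u1070 s6c1071 rfl
theorem s6u1072 : ∀ v, 1 ≤ v → v ≤ 313844 → fs6 v = true := slots_step fs6 313586 258 313844 s6u1071 s6c1072 rfl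
theorem s6u1073 : ∀ v, 1 ≤ v → v ≤ 314113 → fs6 v = true := slots_step fs6 313844 269 314113 s6u1072 s6c1073 rfl
theorem s6u1074 : ∀ v, 1 ≤ v → v ≤ 314378 → fs6 v = true := slots_step fs6 314113 265 314378 s6u1073 s6c1074 rfl
theorem s6u1075 : ∀ v, 1 ≤ v → v ≤ 314644 → fs6 v = true := slots_step fs6 314378 266 314644 s6u1074 s6c1075 rfl
theorem s6u1076 : ∀ v, 1 ≤ v → v ≤ 314933 → fs6 v = true := slots_step fs6 314644 289 314933 s6u1075 s6c1076 rfl
theorem s6u1077 : ∀ v, 1 ≤ v → v ≤ 315200 → fs6 v = true := slots_step fs6 314933 267 315200 s6u1076 s6c1077 rfl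
theorem s6u1078 : ∀ v, 1 ≤ v → v ≤ 315475 → fs6 v = true := slots_step fs6 315200 275 315475 s6u1077 s6c1078 rfl
theorem s6u1079 : ∀ v, 1 ≤ v → v ≤ 315750 → fs6 v = true := slots_step fs6 315475 275 315750 s6u1078 s6c1079 rfl
theorem s6u1080 : ∀ v, 1 ≤ v → v ≤ 316016 → fs6 v = true := slots_step fs6 315750 266 316016 s6u1079 s6c1080 rfl
theorem s6u1081 : ∀ v, 1 ≤ v → v ≤ 316283 → fs6 v = true := slots_step fs6 316016 267 316283 s6u1080 s6c1081 rfl
theorem s6u1082 : ∀ v, 1 ≤ v → v ≤ 316551 → fs6 v = true := slots_step fs6 316283 268 316551 s6u1081 s6c1082 rfl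
theorem s6u1083 : ∀ v, 1 ≤ v → v ≤ 316819 → fs6 v = true := slots_step fs6 316551 268 316819 s6u1082 s6c1083 rfl
theorem s6u1084 : ∀ v, 1 ≤ v → v ≤ 317107 → fs6 v = true := slots_step fs6 316819 288 317107 s6u1083 s6c1084 rfl
theorem s6u1085 : ∀ v, 1 ≤ v → v ≤ 317379 → fs6 v = true := slots_step fs6 317107 272 317379 s6u1084 s6c1085 rfl
theorem s6u1086 : ∀ v, 1 ≤ v → v ≤ 317660 → fs6 v = true := slots_step fs6 317379 281 317660 s6u1085 s6c1086 rfl
theorem s6u1087 : ∀ v, 1 ≤ v → v ≤ 317937 → fs6 v = true := slots_step fs6 317660 277 317937 s6u1086 s6c1087 rfl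
theorem s6u1088 : ∀ v, 1 ≤ v → v ≤ 318202 → fs6 v = true := slots_step fs6 317937 265 318202 s6u1087 s6c1088 rfl
theorem s6u1089 : ∀ v, 1 ≤ v → v ≤ 318469 → fs6 v = true := slots_step fs6 318202 267 318469 s6u1088 s6c1089 rfl
theorem s6u1090 : ∀ v, 1 ≤ v → v ≤ 318756 → fs6 v = true := slots_step fs6 318469 287 318756 s6u1089 s6c1090 rfl
theorem s6u1091 : ∀ v, 1 ≤ v → v ≤ 319047 → fs6 v = true := slots_step fs6 318756 291 319047 s6u1090 s6c1091 rfl
theorem s6u1092 : ∀ v, 1 ≤ v → v ≤ 319347 → fs6 v = true := slots_step fs6 319047 300 319347 s6u1091 s6c1092 rfl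
theorem s6u1093 : ∀ v, 1 ≤ v → v ≤ 319616 → fs6 v = true := slots_step fs6 319347 269 319616 s6u1092 s6c1093 rfl
theorem s6u1094 : ∀ v, 1 ≤ v → v ≤ 319862 → fs6 v = true := slots_step fs6 319616 246 319862 s6u1093 s6c1094 rfl
theorem s6u1095 : ∀ v, 1 ≤ v → v ≤ 320125 → fs6 v = true := slots_step fs6 319862 263 320125 s6u1094 s6c1095 rfl
theorem s6u1096 : ∀ v, 1 ≤ v → v ≤ 320383 → fs6 v = true := slots_step fs6 320125 258 320383 s6u1095 s6c1096 rfl
theorem s6u1097 : ∀ v, 1 ≤ v → v ≤ 320631 → fs6 v = true := slots_step fs6 320383 248 320631 s6u1096 s6c1097 rfl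
theorem s6u1098 : ∀ v, 1 ≤ v → v ≤ 320891 → fs6 v = true := slots_step fs6 320631 260 320891 s6u1097 s6c1098 rfl
theorem s6u1099 : ∀ v, 1 ≤ v → v ≤ 321142 → fs6 v = true := slots_step fs6 320891 251 321142 s6u1098 s6c1099 rfl
theorem s6u1100 : ∀ v, 1 ≤ v → v ≤ 321391 → fs6 v = true := slots_step fs6 321142 249 321391 s6u1099 s6c1100 rfl
theorem s6u1101 : ∀ v, 1 ≤ v → v ≤ 321639 → fs6 v = true := slots_step fs6 321391 248 321639 s6u1100 s6c1101 rfl
theorem s6u1102 : ∀ v, 1 ≤ v → v ≤ 321888 → fs6 v = true := slots_step fs6 321639 249 321888 s6u1101 s6c1102 rfl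
theorem s6u1103 : ∀ v, 1 ≤ v → v ≤ 322142 → fs6 v = true := slots_step fs6 321888 254 322142 s6u1102 s6c1103 rfl
theorem s6u1104 : ∀ v, 1 ≤ v → v ≤ 322396 → fs6 v = true := slots_step fs6 322142 254 322396 s6u1103 s6c1104 rfl
theorem s6u1105 : ∀ v, 1 ≤ v → v ≤ 322653 → fs6 v = true := slots_step fs6 322396 257 322653 s6u1104 s6c1105 rfl
theorem s6u1106 : ∀ v, 1 ≤ v → v ≤ 322924 → fs6 v = true := slots_step fs6 322653 271 322924 s6u1105 s6c1106 rfl
theorem s6u1107 : ∀ v, 1 ≤ v → v ≤ 323180 → fs6 v = true := slots_step fs6 322924 256 323180 s6u1106 s6c1107 rfl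
theorem s6u1108 : ∀ v, 1 ≤ v → v ≤ 323445 → fs6 v = true := slots_step fs6 323180 265 323445 s6u1107 s6c1108 rfl
theorem s6u1109 : ∀ v, 1 ≤ v → v ≤ 323707 → fs6 v = true := slots_step fs6 323445 262 323707 s6u1108 s6c1109 rfl
theorem s6u1110 : ∀ v, 1 ≤ v → v ≤ 323975 → fs6 v = true := slots_step fs6 323707 268 323975 s6u1109 s6c1110 rfl
theorem s6u1111 : ∀ v, 1 ≤ v → v ≤ 324225 → fs6 v = true := slots_step fs6 323975 250 324225 s6u1110 s6c1111 rfl
theorem s6u1112 : ∀ v, 1 ≤ v → v ≤ 324476 → fs6 v = true := slots_step fs6 324225 251 324476 s6u1111 s6c1112 rfl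
theorem s6u1113 : ∀ v, 1 ≤ v → v ≤ 324728 → fs6 v = true := slots_step fs6 324476 252 324728 s6u1112 s6c1113 rfl
theorem s6u1114 : ∀ v, 1 ≤ v → v ≤ 324987 → fs6 v = true := slots_step fs6 324728 259 324987 s6u1113 s6c1114 rfl
theorem s6u1115 : ∀ v, 1 ≤ v → v ≤ 325230 → fs6 v = true := slots_step fs6 324987 243 325230 s6u1114 s6c1115 rfl
theorem s6u1116 : ∀ v, 1 ≤ v → v ≤ 325500 → fs6 v = true := slots_step fs6 325230 270 325500 s6u1115 s6c1116 rfl
theorem s6u1117 : ∀ v, 1 ≤ v → v ≤ 325771 → fs6 v = true := slots_step fs6 325500 271 325771 s6u1116 s6c1117 rfl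
theorem s6u1118 : ∀ v, 1 ≤ v → v ≤ 326014 → fs6 v = true := slots_step fs6 325771 243 326014 s6u1117 s6c1118 rfl
theorem s6u1119 : ∀ v, 1 ≤ v → v ≤ 326250 → fs6 v = true := slots_step fs6 326014 236 326250 s6u1118 s6c1119 rfl
theorem s6u1120 : ∀ v, 1 ≤ v → v ≤ 326508 → fs6 v = true := slots_step fs6 326250 258 326508 s6u1119 s6c1120 rfl
theorem s6u1121 : ∀ v, 1 ≤ v → v ≤ 326786 → fs6 v = true := slots_step fs6 326508 278 326786 s6u1120 s6c1121 rfl
theorem s6u1122 : ∀ v, 1 ≤ v → v ≤ 327038 → fs6 v = true := slots_step fs6 326786 252 327038 s6u1121 s6c1122 rfl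
theorem s6u1123 : ∀ v, 1 ≤ v → v ≤ 327303 → fs6 v = true := slots_step fs6 327038 265 327303 s6u1122 s6c1123 rfl
theorem s6u1124 : ∀ v, 1 ≤ v → v ≤ 327562 → fs6 v = true := slots_step fs6 327303 259 327562 s6u1123 s6c1124 rfl
theorem s6u1125 : ∀ v, 1 ≤ v → v ≤ 327799 → fs6 v = true := slots_step fs6 327562 237 327799 s6u1124 s6c1125 rfl
theorem s6u1126 : ∀ v, 1 ≤ v → v ≤ 328085 → fs6 v = true := slots_step fs6 327799 286 328085 s6u1125 s6c1126 rfl
theorem s6u1127 : ∀ v, 1 ≤ v → v ≤ 328348 → fs6 v = true := slots_step fs6 328085 263 328348 s6u1126 s6c1127 rfl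
theorem s6u1128 : ∀ v, 1 ≤ v → v ≤ 328609 → fs6 v = true := slots_step fs6 328348 261 328609 s6u1127 s6c1128 rfl
theorem s6u1129 : ∀ v, 1 ≤ v → v ≤ 328865 → fs6 v = true := slots_step fs6 328609 256 328865 s6u1128 s6c1129 rfl
theorem s6u1130 : ∀ v, 1 ≤ v → v ≤ 329121 → fs6 v = true := slots_step fs6 328865 256 329121 s6u1129 s6c1130 rfl
theorem s6u1131 : ∀ v, 1 ≤ v → v ≤ 329373 → fs6 v = true := slots_step fs6 329121 252 329373 s6u1130 s6c1131 rfl
theorem s6u1132 : ∀ v, 1 ≤ v → v ≤ 329625 → fs6 v = true := slots_step fs6 329373 252 329625 s6u1131 s6c1132 rfl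
theorem s6u1133 : ∀ v, 1 ≤ v → v ≤ 329896 → fs6 v = true := slots_step fs6 329625 271 329896 s6u1132 s6c1133 rfl
theorem s6u1134 : ∀ v, 1 ≤ v → v ≤ 330159 → fs6 v = true := slots_step fs6 329896 263 330159 s6u1133 s6c1134 rfl
theorem s6u1135 : ∀ v, 1 ≤ v → v ≤ 330421 → fs6 v = true := slots_step fs6 330159 262 330421 s6u1134 s6c1135 rfl
theorem s6u1136 : ∀ v, 1 ≤ v → v ≤ 330691 → fs6 v = true := slots_step fs6 330421 270 330691 s6u1135 s6c1136 rfl
theorem s6u1137 : ∀ v, 1 ≤ v → v ≤ 330946 → fs6 v = true := slots_step fs6 330691 255 330946 s6u1136 s6c1137 rfl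
theorem s6u1138 : ∀ v, 1 ≤ v → v ≤ 331215 → fs6 v = true := slots_step fs6 330946 269 331215 s6u1137 s6c1138 rfl
theorem s6u1139 : ∀ v, 1 ≤ v → v ≤ 331465 → fs6 v = true := slots_step fs6 331215 250 331465 s6u1138 s6c1139 rfl
theorem s6u1140 : ∀ v, 1 ≤ v → v ≤ 331720 → fs6 v = true := slots_step fs6 331465 255 331720 s6u1139 s6c1140 rfl
theorem s6u1141 : ∀ v, 1 ≤ v → v ≤ 331996 → fs6 v = true := slots_step fs6 331720 276 331996 s6u1140 s6c1141 rfl
theorem s6u1142 : ∀ v, 1 ≤ v → v ≤ 332242 → fs6 v = true := slots_step fs6 331996 246 332242 s6u1141 s6c1142 rfl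
theorem s6u1143 : ∀ v, 1 ≤ v → v ≤ 332500 → fs6 v = true := slots_step fs6 332242 258 332500 s6u1142 s6c1143 rfl
theorem s6u1144 : ∀ v, 1 ≤ v → v ≤ 332757 → fs6 v = true := slots_step fs6 332500 257 332757 s6u1143 s6c1144 rfl
theorem s6u1145 : ∀ v, 1 ≤ v → v ≤ 333015 → fs6 v = true := slots_step fs6 332757 258 333015 s6u1144 s6c1145 rfl
theorem s6u1146 : ∀ v, 1 ≤ v → v ≤ 333290 → fs6 v = true := slots_step fs6 333015 275 333290 s6u1145 s6c1146 rfl
theorem s6u1147 : ∀ v, 1 ≤ v → v ≤ 333549 → fs6 v = true := slots_step fs6 333290 259 333549 s6u1146 s6c1147 rfl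
theorem s6u1148 : ∀ v, 1 ≤ v → v ≤ 333810 → fs6 v = true := slots_step fs6 333549 261 333810 s6u1147 s6c1148 rfl
theorem s6u1149 : ∀ v, 1 ≤ v → v ≤ 334065 → fs6 v = true := slots_step fs6 333810 255 334065 s6u1148 s6c1149 rfl
theorem s6u1150 : ∀ v, 1 ≤ v → v ≤ 334331 → fs6 v = true := slots_step fs6 334065 266 334331 s6u1149 s6c1150 rfl
theorem s6u1151 : ∀ v, 1 ≤ v → v ≤ 334604 → fs6 v = true := slots_step fs6 334331 273 334604 s6u1150 s6c1151 rfl
theorem s6u1152 : ∀ v, 1 ≤ v → v ≤ 334864 → fs6 v = true := slots_step fs6 334604 260 334864 s6u1151 s6c1152 rfl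
theorem s6u1153 : ∀ v, 1 ≤ v → v ≤ 335133 → fs6 v = true := slots_step fs6 334864 269 335133 s6u1152 s6c1153 rfl
theorem s6u1154 : ∀ v, 1 ≤ v → v ≤ 335409 → fs6 v = true := slots_step fs6 335133 276 335409 s6u1153 s6c1154 rfl
theorem s6u1155 : ∀ v, 1 ≤ v → v ≤ 335690 → fs6 v = true := slots_step fs6 335409 281 335690 s6u1154 s6c1155 rfl
theorem s6u1156 : ∀ v, 1 ≤ v → v ≤ 335976 → fs6 v = true := slots_step fs6 335690 286 335976 s6u1155 s6c1156 rfl
theorem s6u1157 : ∀ v, 1 ≤ v → v ≤ 336257 → fs6 v = true := slots_step fs6 335976 281 336257 s6u1156 s6c1157 rfl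
theorem s6u1158 : ∀ v, 1 ≤ v → v ≤ 336521 → fs6 v = true := slots_step fs6 336257 264 336521 s6u1157 s6c1158 rfl
theorem s6u1159 : ∀ v, 1 ≤ v → v ≤ 336752 → fs6 v = true := slots_step fs6 336521 231 336752 s6u1158 s6c1159 rfl
theorem s6u1160 : ∀ v, 1 ≤ v → v ≤ 337002 → fs6 v = true := slots_step fs6 336752 250 337002 s6u1159 s6c1160 rfl
theorem s6u1161 : ∀ v, 1 ≤ v → v ≤ 337240 → fs6 v = true := slots_step fs6 337002 238 337240 s6u1160 s6c1161 rfl
theorem s6u1162 : ∀ v, 1 ≤ v → v ≤ 337488 → fs6 v = true := slots_step fs6 337240 248 337488 s6u1161 s6c1162 rfl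
theorem s6u1163 : ∀ v, 1 ≤ v → v ≤ 337730 → fs6 v = true := slots_step fs6 337488 242 337730 s6u1162 s6c1163 rfl
theorem s6u1164 : ∀ v, 1 ≤ v → v ≤ 337966 → fs6 v = true := slots_step fs6 337730 236 337966 s6u1163 s6c1164 rfl
theorem s6u1165 : ∀ v, 1 ≤ v → v ≤ 338218 → fs6 v = true := slots_step fs6 337966 252 338218 s6u1164 s6c1165 rfl
theorem s6u1166 : ∀ v, 1 ≤ v → v ≤ 338460 → fs6 v = true := slots_step fs6 338218 242 338460 s6u1165 s6c1166 rfl
theorem s6u1167 : ∀ v, 1 ≤ v → v ≤ 338713 → fs6 v = true := slots_step fs6 338460 253 338713 s6u1166 s6c1167 rfl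
theorem s6u1168 : ∀ v, 1 ≤ v → v ≤ 338967 → fs6 v = true := slots_step fs6 338713 254 338967 s6u1167 s6c1168 rfl
theorem s6u1169 : ∀ v, 1 ≤ v → v ≤ 339208 → fs6 v = true := slots_step fs6 338967 241 339208 s6u1168 s6c1169 rfl
theorem s6u1170 : ∀ v, 1 ≤ v → v ≤ 339457 → fs6 v = true := slots_step fs6 339208 249 339457 s6u1169 s6c1170 rfl
theorem s6u1171 : ∀ v, 1 ≤ v → v ≤ 339702 → fs6 v = true := slots_step fs6 339457 245 339702 s6u1170 s6c1171 rfl
theorem s6u1172 : ∀ v, 1 ≤ v → v ≤ 339954 → fs6 v = true := slots_step fs6 339702 252 339954 s6u1171 s6c1172 rfl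
theorem s6u1173 : ∀ v, 1 ≤ v → v ≤ 340209 → fs6 v = true := slots_step fs6 339954 255 340209 s6u1172 s6c1173 rfl
theorem s6u1174 : ∀ v, 1 ≤ v → v ≤ 340449 → fs6 v = true := slots_step fs6 340209 240 340449 s6u1173 s6c1174 rfl
theorem s6u1175 : ∀ v, 1 ≤ v → v ≤ 340694 → fs6 v = true := slots_step fs6 340449 245 340694 s6u1174 s6c1175 rfl
theorem s6u1176 : ∀ v, 1 ≤ v → v ≤ 340921 → fs6 v = true := slots_step fs6 340694 227 340921 s6u1175 s6c1176 rfl
theorem s6u1177 : ∀ v, 1 ≤ v → v ≤ 341171 → fs6 v = true := slots_step fs6 340921 250 341171 s6u1176 s6c1177 rfl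
theorem s6u1178 : ∀ v, 1 ≤ v → v ≤ 341419 → fs6 v = true := slots_step fs6 341171 248 341419 s6u1177 s6c1178 rfl
theorem s6u1179 : ∀ v, 1 ≤ v → v ≤ 341677 → fs6 v = true := slots_step fs6 341419 258 341677 s6u1178 s6c1179 rfl
theorem s6u1180 : ∀ v, 1 ≤ v → v ≤ 341916 → fs6 v = true := slots_step fs6 341677 239 341916 s6u1179 s6c1180 rfl
theorem s6u1181 : ∀ v, 1 ≤ v → v ≤ 342196 → fs6 v = true := slots_step fs6 341916 280 342196 s6u1180 s6c1181 rfl
theorem s6u1182 : ∀ v, 1 ≤ v → v ≤ 342447 → fs6 v = true := slots_step fs6 342196 251 342447 s6u1181 s6c1182 rfl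
theorem s6u1183 : ∀ v, 1 ≤ v → v ≤ 342698 → fs6 v = true := slots_step fs6 342447 251 342698 s6u1182 s6c1183 rfl
theorem s6u1184 : ∀ v, 1 ≤ v → v ≤ 342949 → fs6 v = true := slots_step fs6 342698 251 342949 s6u1183 s6c1184 rfl
theorem s6u1185 : ∀ v, 1 ≤ v → v ≤ 343170 → fs6 v = true := slots_step fs6 342949 221 343170 s6u1184 s6c1185 rfl
theorem s6u1186 : ∀ v, 1 ≤ v → v ≤ 343436 → fs6 v = true := slots_step fs6 343170 266 343436 s6u1185 s6c1186 rfl
theorem s6u1187 : ∀ v, 1 ≤ v → v ≤ 343687 → fs6 v = true := slots_step fs6 343436 251 343687 s6u1186 s6c1187 rfl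
theorem s6u1188 : ∀ v, 1 ≤ v → v ≤ 343938 → fs6 v = true := slots_step fs6 343687 251 343938 s6u1187 s6c1188 rfl
theorem s6u1189 : ∀ v, 1 ≤ v → v ≤ 344187 → fs6 v = true := slots_step fs6 343938 249 344187 s6u1188 s6c1189 rfl
theorem s6u1190 : ∀ v, 1 ≤ v → v ≤ 344438 → fs6 v = true := slots_step fs6 344187 251 344438 s6u1189 s6c1190 rfl
theorem s6u1191 : ∀ v, 1 ≤ v → v ≤ 344698 → fs6 v = true := slots_step fs6 344438 260 344698 s6u1190 s6c1191 rfl
theorem s6u1192 : ∀ v, 1 ≤ v → v ≤ 344946 → fs6 v = true := slots_step fs6 344698 248 344946 s6u1191 s6c1192 rfl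
theorem s6u1193 : ∀ v, 1 ≤ v → v ≤ 345206 → fs6 v = true := slots_step fs6 344946 260 345206 s6u1192 s6c1193 rfl
theorem s6u1194 : ∀ v, 1 ≤ v → v ≤ 345458 → fs6 v = true := slots_step fs6 345206 252 345458 s6u1193 s6c1194 rfl
theorem s6u1195 : ∀ v, 1 ≤ v → v ≤ 345715 → fs6 v = true := slots_step fs6 345458 257 345715 s6u1194 s6c1195 rfl
theorem s6u1196 : ∀ v, 1 ≤ v → v ≤ 345975 → fs6 v = true := slots_step fs6 345715 260 345975 s6u1195 s6c1196 rfl
theorem s6u1197 : ∀ v, 1 ≤ v → v ≤ 346223 → fs6 v = true := slots_step fs6 345975 248 346223 s6u1196 s6c1197 rfl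
theorem s6u1198 : ∀ v, 1 ≤ v → v ≤ 346498 → fs6 v = true := slots_step fs6 346223 275 346498 s6u1197 s6c1198 rfl
theorem s6u1199 : ∀ v, 1 ≤ v → v ≤ 346765 → fs6 v = true := slots_step fs6 346498 267 346765 s6u1198 s6c1199 rfl
theorem s6u1200 : ∀ v, 1 ≤ v → v ≤ 347036 → fs6 v = true := slots_step fs6 346765 271 347036 s6u1199 s6c1200 rfl
theorem s6u1201 : ∀ v, 1 ≤ v → v ≤ 347293 → fs6 v = true := slots_step fs6 347036 257 347293 s6u1200 s6c1201 rfl
theorem s6u1202 : ∀ v, 1 ≤ v → v ≤ 347524 → fs6 v = true := slots_step fs6 347293 231 347524 s6u1201 s6c1202 rfl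
theorem s6u1203 : ∀ v, 1 ≤ v → v ≤ 347752 → fs6 v = true := slots_step fs6 347524 228 347752 s6u1202 s6c1203 rfl
theorem s6u1204 : ∀ v, 1 ≤ v → v ≤ 347991 → fs6 v = true := slots_step fs6 347752 239 347991 s6u1203 s6c1204 rfl
theorem s6u1205 : ∀ v, 1 ≤ v → v ≤ 348214 → fs6 v = true := slots_step fs6 347991 223 348214 s6u1204 s6c1205 rfl
theorem s6u1206 : ∀ v, 1 ≤ v → v ≤ 348432 → fs6 v = true := slots_step fs6 348214 218 348432 s6u1205 s6c1206 rfl
theorem s6u1207 : ∀ v, 1 ≤ v → v ≤ 348677 → fs6 v = true := slots_step fs6 348432 245 348677 s6u1206 s6c1207 rfl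
theorem s6u1208 : ∀ v, 1 ≤ v → v ≤ 348905 → fs6 v = true := slots_step fs6 348677 228 348905 s6u1207 s6c1208 rfl
theorem s6u1209 : ∀ v, 1 ≤ v → v ≤ 349143 → fs6 v = true := slots_step fs6 348905 238 349143 s6u1208 s6c1209 rfl
theorem s6u1210 : ∀ v, 1 ≤ v → v ≤ 349390 → fs6 v = true := slots_step fs6 349143 247 349390 s6u1209 s6c1210 rfl
theorem s6u1211 : ∀ v, 1 ≤ v → v ≤ 349583 → fs6 v = true := slots_step fs6 349390 193 349583 s6u1210 s6c1211 rfl
theorem s6u1212 : ∀ v, 1 ≤ v → v ≤ 349808 → fs6 v = true := slots_step fs6 349583 225 349808 s6u1211 s6c1212 rfl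
theorem s6u1213 : ∀ v, 1 ≤ v → v ≤ 350043 → fs6 v = true := slots_step fs6 349808 235 350043 s6u1212 s6c1213 rfl
theorem s6u1214 : ∀ v, 1 ≤ v → v ≤ 350292 → fs6 v = true := slots_step fs6 350043 249 350292 s6u1213 s6c1214 rfl
theorem s6u1215 : ∀ v, 1 ≤ v → v ≤ 350560 → fs6 v = true := slots_step fs6 350292 268 350560 s6u1214 s6c1215 rfl
theorem s6u1216 : ∀ v, 1 ≤ v → v ≤ 350816 → fs6 v = true := slots_step fs6 350560 256 350816 s6u1215 s6c1216 rfl
theorem s6u1217 : ∀ v, 1 ≤ v → v ≤ 351065 → fs6 v = true := slots_step fs6 350816 249 351065 s6u1216 s6c1217 rfl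
theorem s6u1218 : ∀ v, 1 ≤ v → v ≤ 351302 → fs6 v = true := slots_step fs6 351065 237 351302 s6u1217 s6c1218 rfl
theorem s6u1219 : ∀ v, 1 ≤ v → v ≤ 351543 → fs6 v = true := slots_step fs6 351302 241 351543 s6u1218 s6c1219 rfl
theorem s6u1220 : ∀ v, 1 ≤ v → v ≤ 351793 → fs6 v = true := slots_step fs6 351543 250 351793 s6u1219 s6c1220 rfl
theorem s6u1221 : ∀ v, 1 ≤ v → v ≤ 352046 → fs6 v = true := slots_step fs6 351793 253 352046 s6u1220 s6c1221 rfl
theorem s6u1222 : ∀ v, 1 ≤ v → v ≤ 352297 → fs6 v = true := slots_step fs6 352046 251 352297 s6u1221 s6c1222 rfl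
theorem s6u1223 : ∀ v, 1 ≤ v → v ≤ 352544 → fs6 v = true := slots_step fs6 352297 247 352544 s6u1222 s6c1223 rfl
theorem s6u1224 : ∀ v, 1 ≤ v → v ≤ 352792 → fs6 v = true := slots_step fs6 352544 248 352792 s6u1223 s6c1224 rfl
theorem s6u1225 : ∀ v, 1 ≤ v → v ≤ 353049 → fs6 v = true := slots_step fs6 352792 257 353049 s6u1224 s6c1225 rfl
theorem s6u1226 : ∀ v, 1 ≤ v → v ≤ 353273 → fs6 v = true := slots_step fs6 353049 224 353273 s6u1225 s6c1226 rfl
theorem s6u1227 : ∀ v, 1 ≤ v → v ≤ 353495 → fs6 v = true := slots_step fs6 353273 222 353495 s6u1226 s6c1227 rfl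
theorem s6u1228 : ∀ v, 1 ≤ v → v ≤ 353687 → fs6 v = true := slots_step fs6 353495 192 353687 s6u1227 s6c1228 rfl
theorem s6u1229 : ∀ v, 1 ≤ v → v ≤ 353911 → fs6 v = true := slots_step fs6 353687 224 353911 s6u1228 s6c1229 rfl
theorem s6u1230 : ∀ v, 1 ≤ v → v ≤ 354092 → fs6 v = true := slots_step fs6 353911 181 354092 s6u1229 s6c1230 rfl
theorem s6u1231 : ∀ v, 1 ≤ v → v ≤ 354326 → fs6 v = true := slots_step fs6 354092 234 354326 s6u1230 s6c1231 rfl
theorem s6u1232 : ∀ v, 1 ≤ v → v ≤ 354546 → fs6 v = true := slots_step fs6 354326 220 354546 s6u1231 s6c1232 rfl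
theorem s6u1233 : ∀ v, 1 ≤ v → v ≤ 354786 → fs6 v = true := slots_step fs6 354546 240 354786 s6u1232 s6c1233 rfl
theorem s6u1234 : ∀ v, 1 ≤ v → v ≤ 355044 → fs6 v = true := slots_step fs6 354786 258 355044 s6u1233 s6c1234 rfl
theorem s6u1235 : ∀ v, 1 ≤ v → v ≤ 355268 → fs6 v = true := slots_step fs6 355044 224 355268 s6u1234 s6c1235 rfl
theorem s6u1236 : ∀ v, 1 ≤ v → v ≤ 355509 → fs6 v = true := slots_step fs6 355268 241 355509 s6u1235 s6c1236 rfl
theorem s6u1237 : ∀ v, 1 ≤ v → v ≤ 355675 → fs6 v = true := slots_step fs6 355509 166 355675 s6u1236 s6c1237 rfl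
theorem s6u1238 : ∀ v, 1 ≤ v → v ≤ 355885 → fs6 v = true := slots_step fs6 355675 210 355885 s6u1237 s6c1238 rfl
theorem s6u1239 : ∀ v, 1 ≤ v → v ≤ 356082 → fs6 v = true := slots_step fs6 355885 197 356082 s6u1238 s6c1239 rfl
theorem s6u1240 : ∀ v, 1 ≤ v → v ≤ 356272 → fs6 v = true := slots_step fs6 356082 190 356272 s6u1239 s6c1240 rfl
theorem s6u1241 : ∀ v, 1 ≤ v → v ≤ 356489 → fs6 v = true := slots_step fs6 356272 217 356489 s6u1240 s6c1241 rfl
theorem s6u1242 : ∀ v, 1 ≤ v → v ≤ 356727 → fs6 v = true := slots_step fs6 356489 238 356727 s6u1241 s6c1242 rfl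
theorem s6u1243 : ∀ v, 1 ≤ v → v ≤ 356843 → fs6 v = true := slots_step fs6 356727 116 356843 s6u1242 s6c1243 rfl
theorem s6u1244 : ∀ v, 1 ≤ v → v ≤ 357004 → fs6 v = true := slots_step fs6 356843 161 357004 s6u1243 s6c1244 rfl
theorem s6u1245 : ∀ v, 1 ≤ v → v ≤ 357199 → fs6 v = true := slots_step fs6 357004 195 357199 s6u1244 s6c1245 rfl
theorem s6u1246 : ∀ v, 1 ≤ v → v ≤ 357353 → fs6 v = true := slots_step fs6 357199 154 357353 s6u1245 s6c1246 rfl
theorem s6u1247 : ∀ v, 1 ≤ v → v ≤ 357465 → fs6 v = true := slots_step fs6 357353 112 357465 s6u1246 s6c1247 rfl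
theorem s7u0 : ∀ v, 1 ≤ v → v ≤ 257 → fs7 v = true := slots_step fs7 0 257 257 (slots_zero fs7) s7c0 rfl
theorem s7u1 : ∀ v, 1 ≤ v → v ≤ 541 → fs7 v = true := slots_step fs7 257 284 541 s7u0 s7c1 rfl
theorem s7u2 : ∀ v, 1 ≤ v → v ≤ 810 → fs7 v = true := slots_step fs7 541 269 810 s7u1 s7c2 rfl
theorem s7u3 : ∀ v, 1 ≤ v → v ≤ 1077 → fs7 v = true := slots_step fs7 810 267 1077 s7u2 s7c3 rfl
theorem s7u4 : ∀ v, 1 ≤ v → v ≤ 1343 → fs7 v = true := slots_step fs7 1077 266 1343 s7u3 s7c4 rfl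
theorem s7u5 : ∀ v, 1 ≤ v → v ≤ 1620 → fs7 v = true := slots_step fs7 1343 277 1620 s7u4 s7c5 rfl
theorem s7u6 : ∀ v, 1 ≤ v → v ≤ 1917 → fs7 v = true := slots_step fs7 1620 297 1917 s7u5 s7c6 rfl
theorem s7u7 : ∀ v, 1 ≤ v → v ≤ 2195 → fs7 v = true := slots_step fs7 1917 278 2195 s7u6 s7c7 rfl
theorem s7u8 : ∀ v, 1 ≤ v → v ≤ 2493 → fs7 v = true := slots_step fs7 2195 298 2493 s7u7 s7c8 rfl
theorem s7u9 : ∀ v, 1 ≤ v → v ≤ 2783 → fs7 v = true := slots_step fs7 2493 290 2783 s7u8 s7c9 rfl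
theorem s7u10 : ∀ v, 1 ≤ v → v ≤ 3073 → fs7 v = true := slots_step fs7 2783 290 3073 s7u9 s7c10 rfl
theorem s7u11 : ∀ v, 1 ≤ v → v ≤ 3379 → fs7 v = true := slots_step fs7 3073 306 3379 s7u10 s7c11 rfl
theorem s7u12 : ∀ v, 1 ≤ v → v ≤ 3682 → fs7 v = true := slots_step fs7 3379 303 3682 s7u11 s7c12 rfl
theorem s7u13 : ∀ v, 1 ≤ v → v ≤ 3972 → fs7 v = true := slots_step fs7 3682 290 3972 s7u12 s7c13 rfl
theorem s7u14 : ∀ v, 1 ≤ v → v ≤ 4258 → fs7 v = true := slots_step fs7 3972 286 4258 s7u13 s7c14 rfl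
theorem s7u15 : ∀ v, 1 ≤ v → v ≤ 4572 → fs7 v = true := slots_step fs7 4258 314 4572 s7u14 s7c15 rfl
theorem s7u16 : ∀ v, 1 ≤ v → v ≤ 4863 → fs7 v = true := slots_step fs7 4572 291 4863 s7u15 s7c16 rfl
theorem s7u17 : ∀ v, 1 ≤ v → v ≤ 5191 → fs7 v = true := slots_step fs7 4863 328 5191 s7u16 s7c17 rfl
theorem s7u18 : ∀ v, 1 ≤ v → v ≤ 5488 → fs7 v = true := slots_step fs7 5191 297 5488 s7u17 s7c18 rfl
theorem s7u19 : ∀ v, 1 ≤ v → v ≤ 5784 → fs7 v = true := slots_step fs7 5488 296 5784 s7u18 s7c19 rfl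
theorem s7u20 : ∀ v, 1 ≤ v → v ≤ 6097 → fs7 v = true := slots_step fs7 5784 313 6097 s7u19 s7c20 rfl
theorem s7u21 : ∀ v, 1 ≤ v → v ≤ 6394 → fs7 v = true := slots_step fs7 6097 297 6394 s7u20 s7c21 rfl
theorem s7u22 : ∀ v, 1 ≤ v → v ≤ 6695 → fs7 v = true := slots_step fs7 6394 301 6695 s7u21 s7c22 rfl
theorem s7u23 : ∀ v, 1 ≤ v → v ≤ 7026 → fs7 v = true := slots_step fs7 6695 331 7026 s7u22 s7c23 rfl
theorem s7u24 : ∀ v, 1 ≤ v → v ≤ 7327 → fs7 v = true := slots_step fs7 7026 301 7327 s7u23 s7c24 rfl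
theorem s7u25 : ∀ v, 1 ≤ v → v ≤ 7641 → fs7 v = true := slots_step fs7 7327 314 7641 s7u24 s7c25 rfl
theorem s7u26 : ∀ v, 1 ≤ v → v ≤ 7940 → fs7 v = true := slots_step fs7 7641 299 7940 s7u25 s7c26 rfl
theorem s7u27 : ∀ v, 1 ≤ v → v ≤ 8219 → fs7 v = true := slots_step fs7 7940 279 8219 s7u26 s7c27 rfl
theorem s7u28 : ∀ v, 1 ≤ v → v ≤ 8565 → fs7 v = true := slots_step fs7 8219 346 8565 s7u27 s7c28 rfl
theorem s7u29 : ∀ v, 1 ≤ v → v ≤ 8850 → fs7 v = true := slots_step fs7 8565 285 8850 s7u28 s7c29 rfl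
theorem s7u30 : ∀ v, 1 ≤ v → v ≤ 9162 → fs7 v = true := slots_step fs7 8850 312 9162 s7u29 s7c30 rfl
theorem s7u31 : ∀ v, 1 ≤ v → v ≤ 9467 → fs7 v = true := slots_step fs7 9162 305 9467 s7u30 s7c31 rfl
theorem s7u32 : ∀ v, 1 ≤ v → v ≤ 9829 → fs7 v = true := slots_step fs7 9467 362 9829 s7u31 s7c32 rfl
theorem s7u33 : ∀ v, 1 ≤ v → v ≤ 10131 → fs7 v = true := slots_step fs7 9829 302 10131 s7u32 s7c33 rfl
theorem s7u34 : ∀ v, 1 ≤ v → v ≤ 10434 → fs7 v = true := slots_step fs7 10131 303 10434 s7u33 s7c34 rfl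
theorem s7u35 : ∀ v, 1 ≤ v → v ≤ 10725 → fs7 v = true := slots_step fs7 10434 291 10725 s7u34 s7c35 rfl
theorem s7u36 : ∀ v, 1 ≤ v → v ≤ 11006 → fs7 v = true := slots_step fs7 10725 281 11006 s7u35 s7c36 rfl
theorem s7u37 : ∀ v, 1 ≤ v → v ≤ 11290 → fs7 v = true := slots_step fs7 11006 284 11290 s7u36 s7c37 rfl
theorem s7u38 : ∀ v, 1 ≤ v → v ≤ 11580 → fs7 v = true := slots_step fs7 11290 290 11580 s7u37 s7c38 rfl
theorem s7u39 : ∀ v, 1 ≤ v → v ≤ 11859 → fs7 v = true := slots_step fs7 11580 279 11859 s7u38 s7c39 rfl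
theorem s7u40 : ∀ v, 1 ≤ v → v ≤ 12155 → fs7 v = true := slots_step fs7 11859 296 12155 s7u39 s7c40 rfl
theorem s7u41 : ∀ v, 1 ≤ v → v ≤ 12437 → fs7 v = true := slots_step fs7 12155 282 12437 s7u40 s7c41 rfl
theorem s7u42 : ∀ v, 1 ≤ v → v ≤ 12754 → fs7 v = true := slots_step fs7 12437 317 12754 s7u41 s7c42 rfl
theorem s7u43 : ∀ v, 1 ≤ v → v ≤ 13042 → fs7 v = true := slots_step fs7 12754 288 13042 s7u42 s7c43 rfl
theorem s7u44 : ∀ v, 1 ≤ v → v ≤ 13328 → fs7 v = true := slots_step fs7 13042 286 13328 s7u43 s7c44 rfl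
theorem s7u45 : ∀ v, 1 ≤ v → v ≤ 13632 → fs7 v = true := slots_step fs7 13328 304 13632 s7u44 s7c45 rfl
theorem s7u46 : ∀ v, 1 ≤ v → v ≤ 13917 → fs7 v = true := slots_step fs7 13632 285 13917 s7u45 s7c46 rfl
theorem s7u47 : ∀ v, 1 ≤ v → v ≤ 14201 → fs7 v = true := slots_step fs7 13917 284 14201 s7u46 s7c47 rfl
theorem s7u48 : ∀ v, 1 ≤ v → v ≤ 14501 → fs7 v = true := slots_step fs7 14201 300 14501 s7u47 s7c48 rfl
theorem s7u49 : ∀ v, 1 ≤ v → v ≤ 14791 → fs7 v = true := slots_step fs7 14501 290 14791 s7u48 s7c49 rfl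
theorem s7u50 : ∀ v, 1 ≤ v → v ≤ 15077 → fs7 v = true := slots_step fs7 14791 286 15077 s7u49 s7c50 rfl
theorem s7u51 : ∀ v, 1 ≤ v → v ≤ 15367 → fs7 v = true := slots_step fs7 15077 290 15367 s7u50 s7c51 rfl
theorem s7u52 : ∀ v, 1 ≤ v → v ≤ 15663 → fs7 v = true := slots_step fs7 15367 296 15663 s7u51 s7c52 rfl
theorem s7u53 : ∀ v, 1 ≤ v → v ≤ 15930 → fs7 v = true := slots_step fs7 15663 267 15930 s7u52 s7c53 rfl
theorem s7u54 : ∀ v, 1 ≤ v → v ≤ 16248 → fs7 v = true := slots_step fs7 15930 318 16248 s7u53 s7c54 rfl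
theorem s7u55 : ∀ v, 1 ≤ v → v ≤ 16601 → fs7 v = true := slots_step fs7 16248 353 16601 s7u54 s7c55 rfl
theorem s7u56 : ∀ v, 1 ≤ v → v ≤ 16886 → fs7 v = true := slots_step fs7 16601 285 16886 s7u55 s7c56 rfl
theorem s7u57 : ∀ v, 1 ≤ v → v ≤ 17189 → fs7 v = true := slots_step fs7 16886 303 17189 s7u56 s7c57 rfl
theorem s7u58 : ∀ v, 1 ≤ v → v ≤ 17507 → fs7 v = true := slots_step fs7 17189 318 17507 s7u57 s7c58 rfl
theorem s7u59 : ∀ v, 1 ≤ v → v ≤ 17793 → fs7 v = true := slots_step fs7 17507 286 17793 s7u58 s7c59 rfl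
theorem s7u60 : ∀ v, 1 ≤ v → v ≤ 18068 → fs7 v = true := slots_step fs7 17793 275 18068 s7u59 s7c60 rfl
theorem s7u61 : ∀ v, 1 ≤ v → v ≤ 18371 → fs7 v = true := slots_step fs7 18068 303 18371 s7u60 s7c61 rfl
theorem s7u62 : ∀ v, 1 ≤ v → v ≤ 18654 → fs7 v = true := slots_step fs7 18371 283 18654 s7u61 s7c62 rfl
theorem s7u63 : ∀ v, 1 ≤ v → v ≤ 18972 → fs7 v = true := slots_step fs7 18654 318 18972 s7u62 s7c63 rfl
theorem s7u64 : ∀ v, 1 ≤ v → v ≤ 19272 → fs7 v = true := slots_step fs7 18972 300 19272 s7u63 s7c64 rfl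
theorem s7u65 : ∀ v, 1 ≤ v → v ≤ 19555 → fs7 v = true := slots_step fs7 19272 283 19555 s7u64 s7c65 rfl
theorem s7u66 : ∀ v, 1 ≤ v → v ≤ 19834 → fs7 v = true := slots_step fs7 19555 279 19834 s7u65 s7c66 rfl
theorem s7u67 : ∀ v, 1 ≤ v → v ≤ 20125 → fs7 v = true := slots_step fs7 19834 291 20125 s7u66 s7c67 rfl
theorem s7u68 : ∀ v, 1 ≤ v → v ≤ 20408 → fs7 v = true := slots_step fs7 20125 283 20408 s7u67 s7c68 rfl
theorem s7u69 : ∀ v, 1 ≤ v → v ≤ 20711 → fs7 v = true := slots_step fs7 20408 303 20711 s7u68 s7c69 rfl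
theorem s7u70 : ∀ v, 1 ≤ v → v ≤ 20988 → fs7 v = true := slots_step fs7 20711 277 20988 s7u69 s7c70 rfl
theorem s7u71 : ∀ v, 1 ≤ v → v ≤ 21328 → fs7 v = true := slots_step fs7 20988 340 21328 s7u70 s7c71 rfl
theorem s7u72 : ∀ v, 1 ≤ v → v ≤ 21669 → fs7 v = true := slots_step fs7 21328 341 21669 s7u71 s7c72 rfl
theorem s7u73 : ∀ v, 1 ≤ v → v ≤ 22019 → fs7 v = true := slots_step fs7 21669 350 22019 s7u72 s7c73 rfl
theorem s7u74 : ∀ v, 1 ≤ v → v ≤ 22297 → fs7 v = true := slots_step fs7 22019 278 22297 s7u73 s7c74 rfl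
theorem s7u75 : ∀ v, 1 ≤ v → v ≤ 22628 → fs7 v = true := slots_step fs7 22297 331 22628 s7u74 s7c75 rfl
theorem s7u76 : ∀ v, 1 ≤ v → v ≤ 22907 → fs7 v = true := slots_step fs7 22628 279 22907 s7u75 s7c76 rfl
theorem s7u77 : ∀ v, 1 ≤ v → v ≤ 23254 → fs7 v = true := slots_step fs7 22907 347 23254 s7u76 s7c77 rfl
theorem s7u78 : ∀ v, 1 ≤ v → v ≤ 23537 → fs7 v = true := slots_step fs7 23254 283 23537 s7u77 s7c78 rfl
theorem s7u79 : ∀ v, 1 ≤ v → v ≤ 23813 → fs7 v = true := slots_step fs7 23537 276 23813 s7u78 s7c79 rfl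
theorem s7u80 : ∀ v, 1 ≤ v → v ≤ 24114 → fs7 v = true := slots_step fs7 23813 301 24114 s7u79 s7c80 rfl
theorem s7u81 : ∀ v, 1 ≤ v → v ≤ 24419 → fs7 v = true := slots_step fs7 24114 305 24419 s7u80 s7c81 rfl
theorem s7u82 : ∀ v, 1 ≤ v → v ≤ 24700 → fs7 v = true := slots_step fs7 24419 281 24700 s7u81 s7c82 rfl
theorem s7u83 : ∀ v, 1 ≤ v → v ≤ 25011 → fs7 v = true := slots_step fs7 24700 311 25011 s7u82 s7c83 rfl
theorem s7u84 : ∀ v, 1 ≤ v → v ≤ 25359 → fs7 v = true := slots_step fs7 25011 348 25359 s7u83 s7c84 rfl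
theorem s7u85 : ∀ v, 1 ≤ v → v ≤ 25644 → fs7 v = true := slots_step fs7 25359 285 25644 s7u84 s7c85 rfl
theorem s7u86 : ∀ v, 1 ≤ v → v ≤ 25918 → fs7 v = true := slots_step fs7 25644 274 25918 s7u85 s7c86 rfl
theorem s7u87 : ∀ v, 1 ≤ v → v ≤ 26213 → fs7 v = true := slots_step fs7 25918 295 26213 s7u86 s7c87 rfl
theorem s7u88 : ∀ v, 1 ≤ v → v ≤ 26485 → fs7 v = true := slots_step fs7 26213 272 26485 s7u87 s7c88 rfl
theorem s7u89 : ∀ v, 1 ≤ v → v ≤ 26803 → fs7 v = true := slots_step fs7 26485 318 26803 s7u88 s7c89 rfl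
theorem s7u90 : ∀ v, 1 ≤ v → v ≤ 27100 → fs7 v = true := slots_step fs7 26803 297 27100 s7u89 s7c90 rfl
theorem s7u91 : ∀ v, 1 ≤ v → v ≤ 27417 → fs7 v = true := slots_step fs7 27100 317 27417 s7u90 s7c91 rfl
theorem s7u92 : ∀ v, 1 ≤ v → v ≤ 27707 → fs7 v = true := slots_step fs7 27417 290 27707 s7u91 s7c92 rfl
theorem s7u93 : ∀ v, 1 ≤ v → v ≤ 27993 → fs7 v = true := slots_step fs7 27707 286 27993 s7u92 s7c93 rfl
theorem s7u94 : ∀ v, 1 ≤ v → v ≤ 28332 → fs7 v = true := slots_step fs7 27993 339 28332 s7u93 s7c94 rfl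
theorem s7u95 : ∀ v, 1 ≤ v → v ≤ 28703 → fs7 v = true := slots_step fs7 28332 371 28703 s7u94 s7c95 rfl
theorem s7u96 : ∀ v, 1 ≤ v → v ≤ 29085 → fs7 v = true := slots_step fs7 28703 382 29085 s7u95 s7c96 rfl
theorem s7u97 : ∀ v, 1 ≤ v → v ≤ 29398 → fs7 v = true := slots_step fs7 29085 313 29398 s7u96 s7c97 rfl
theorem s7u98 : ∀ v, 1 ≤ v → v ≤ 29685 → fs7 v = true := slots_step fs7 29398 287 29685 s7u97 s7c98 rfl
theorem s7u99 : ∀ v, 1 ≤ v → v ≤ 29998 → fs7 v = true := slots_step fs7 29685 313 29998 s7u98 s7c99 rfl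
theorem s7u100 : ∀ v, 1 ≤ v → v ≤ 30328 → fs7 v = true := slots_step fs7 29998 330 30328 s7u99 s7c100 rfl
theorem s7u101 : ∀ v, 1 ≤ v → v ≤ 30644 → fs7 v = true := slots_step fs7 30328 316 30644 s7u100 s7c101 rfl
theorem s7u102 : ∀ v, 1 ≤ v → v ≤ 31008 → fs7 v = true := slots_step fs7 30644 364 31008 s7u101 s7c102 rfl
theorem s7u103 : ∀ v, 1 ≤ v → v ≤ 31279 → fs7 v = true := slots_step fs7 31008 271 31279 s7u102 s7c103 rfl
theorem s7u104 : ∀ v, 1 ≤ v → v ≤ 31567 → fs7 v = true := slots_step fs7 31279 288 31567 s7u103 s7c104 rfl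
theorem s7u105 : ∀ v, 1 ≤ v → v ≤ 31847 → fs7 v = true := slots_step fs7 31567 280 31847 s7u104 s7c105 rfl
theorem s7u106 : ∀ v, 1 ≤ v → v ≤ 32141 → fs7 v = true := slots_step fs7 31847 294 32141 s7u105 s7c106 rfl
theorem s7u107 : ∀ v, 1 ≤ v → v ≤ 32472 → fs7 v = true := slots_step fs7 32141 331 32472 s7u106 s7c107 rfl
theorem s7u108 : ∀ v, 1 ≤ v → v ≤ 32791 → fs7 v = true := slots_step fs7 32472 319 32791 s7u107 s7c108 rfl
theorem s7u109 : ∀ v, 1 ≤ v → v ≤ 33072 → fs7 v = true := slots_step fs7 32791 281 33072 s7u108 s7c109 rfl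
theorem s7u110 : ∀ v, 1 ≤ v → v ≤ 33364 → fs7 v = true := slots_step fs7 33072 292 33364 s7u109 s7c110 rfl
theorem s7u111 : ∀ v, 1 ≤ v → v ≤ 33756 → fs7 v = true := slots_step fs7 33364 392 33756 s7u110 s7c111 rfl
theorem s7u112 : ∀ v, 1 ≤ v → v ≤ 34091 → fs7 v = true := slots_step fs7 33756 335 34091 s7u111 s7c112 rfl
theorem s7u113 : ∀ v, 1 ≤ v → v ≤ 34386 → fs7 v = true := slots_step fs7 34091 295 34386 s7u112 s7c113 rfl
theorem s7u114 : ∀ v, 1 ≤ v → v ≤ 34662 → fs7 v = true := slots_step fs7 34386 276 34662 s7u113 s7c114 rfl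
theorem s7u115 : ∀ v, 1 ≤ v → v ≤ 34953 → fs7 v = true := slots_step fs7 34662 291 34953 s7u114 s7c115 rfl
theorem s7u116 : ∀ v, 1 ≤ v → v ≤ 35244 → fs7 v = true := slots_step fs7 34953 291 35244 s7u115 s7c116 rfl
theorem s7u117 : ∀ v, 1 ≤ v → v ≤ 35523 → fs7 v = true := slots_step fs7 35244 279 35523 s7u116 s7c117 rfl
theorem s7u118 : ∀ v, 1 ≤ v → v ≤ 35830 → fs7 v = true := slots_step fs7 35523 307 35830 s7u117 s7c118 rfl
theorem s7u119 : ∀ v, 1 ≤ v → v ≤ 36158 → fs7 v = true := slots_step fs7 35830 328 36158 s7u118 s7c119 rfl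
theorem s7u120 : ∀ v, 1 ≤ v → v ≤ 36464 → fs7 v = true := slots_step fs7 36158 306 36464 s7u119 s7c120 rfl
theorem s7u121 : ∀ v, 1 ≤ v → v ≤ 36740 → fs7 v = true := slots_step fs7 36464 276 36740 s7u120 s7c121 rfl
theorem s7u122 : ∀ v, 1 ≤ v → v ≤ 37113 → fs7 v = true := slots_step fs7 36740 373 37113 s7u121 s7c122 rfl
theorem s7u123 : ∀ v, 1 ≤ v → v ≤ 37404 → fs7 v = true := slots_step fs7 37113 291 37404 s7u122 s7c123 rfl
theorem s7u124 : ∀ v, 1 ≤ v → v ≤ 37703 → fs7 v = true := slots_step fs7 37404 299 37703 s7u123 s7c124 rfl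
theorem s7u125 : ∀ v, 1 ≤ v → v ≤ 38020 → fs7 v = true := slots_step fs7 37703 317 38020 s7u124 s7c125 rfl
theorem s7u126 : ∀ v, 1 ≤ v → v ≤ 38405 → fs7 v = true := slots_step fs7 38020 385 38405 s7u125 s7c126 rfl
theorem s7u127 : ∀ v, 1 ≤ v → v ≤ 38789 → fs7 v = true := slots_step fs7 38405 384 38789 s7u126 s7c127 rfl
theorem s7u128 : ∀ v, 1 ≤ v → v ≤ 39205 → fs7 v = true := slots_step fs7 38789 416 39205 s7u127 s7c128 rfl
theorem s7u129 : ∀ v, 1 ≤ v → v ≤ 39510 → fs7 v = true := slots_step fs7 39205 305 39510 s7u128 s7c129 rfl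
theorem s7u130 : ∀ v, 1 ≤ v → v ≤ 39812 → fs7 v = true := slots_step fs7 39510 302 39812 s7u129 s7c130 rfl
theorem s7u131 : ∀ v, 1 ≤ v → v ≤ 40113 → fs7 v = true := slots_step fs7 39812 301 40113 s7u130 s7c131 rfl
theorem s7u132 : ∀ v, 1 ≤ v → v ≤ 40464 → fs7 v = true := slots_step fs7 40113 351 40464 s7u131 s7c132 rfl
theorem s7u133 : ∀ v, 1 ≤ v → v ≤ 40832 → fs7 v = true := slots_step fs7 40464 368 40832 s7u132 s7c133 rfl
theorem s7u134 : ∀ v, 1 ≤ v → v ≤ 41142 → fs7 v = true := slots_step fs7 40832 310 41142 s7u133 s7c134 rfl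
theorem s7u135 : ∀ v, 1 ≤ v → v ≤ 41546 → fs7 v = true := slots_step fs7 41142 404 41546 s7u134 s7c135 rfl
theorem s7u136 : ∀ v, 1 ≤ v → v ≤ 41857 → fs7 v = true := slots_step fs7 41546 311 41857 s7u135 s7c136 rfl
theorem s7u137 : ∀ v, 1 ≤ v → v ≤ 42134 → fs7 v = true := slots_step fs7 41857 277 42134 s7u136 s7c137 rfl
theorem s7u138 : ∀ v, 1 ≤ v → v ≤ 42413 → fs7 v = true := slots_step fs7 42134 279 42413 s7u137 s7c138 rfl
theorem s7u139 : ∀ v, 1 ≤ v → v ≤ 42710 → fs7 v = true := slots_step fs7 42413 297 42710 s7u138 s7c139 rfl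
theorem s7u140 : ∀ v, 1 ≤ v → v ≤ 42996 → fs7 v = true := slots_step fs7 42710 286 42996 s7u139 s7c140 rfl
theorem s7u141 : ∀ v, 1 ≤ v → v ≤ 43303 → fs7 v = true := slots_step fs7 42996 307 43303 s7u140 s7c141 rfl
theorem s7u142 : ∀ v, 1 ≤ v → v ≤ 43653 → fs7 v = true := slots_step fs7 43303 350 43653 s7u141 s7c142 rfl
theorem s7u143 : ∀ v, 1 ≤ v → v ≤ 43975 → fs7 v = true := slots_step fs7 43653 322 43975 s7u142 s7c143 rfl
theorem s7u144 : ∀ v, 1 ≤ v → v ≤ 44299 → fs7 v = true := slots_step fs7 43975 324 44299 s7u143 s7c144 rfl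
theorem s7u145 : ∀ v, 1 ≤ v → v ≤ 44606 → fs7 v = true := slots_step fs7 44299 307 44606 s7u144 s7c145 rfl
theorem s7u146 : ∀ v, 1 ≤ v → v ≤ 44912 → fs7 v = true := slots_step fs7 44606 306 44912 s7u145 s7c146 rfl
theorem s7u147 : ∀ v, 1 ≤ v → v ≤ 45230 → fs7 v = true := slots_step fs7 44912 318 45230 s7u146 s7c147 rfl
theorem s7u148 : ∀ v, 1 ≤ v → v ≤ 45668 → fs7 v = true := slots_step fs7 45230 438 45668 s7u147 s7c148 rfl
theorem s7u149 : ∀ v, 1 ≤ v → v ≤ 46030 → fs7 v = true := slots_step fs7 45668 362 46030 s7u148 s7c149 rfl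
theorem s7u150 : ∀ v, 1 ≤ v → v ≤ 46335 → fs7 v = true := slots_step fs7 46030 305 46335 s7u149 s7c150 rfl
theorem s7u151 : ∀ v, 1 ≤ v → v ≤ 46622 → fs7 v = true := slots_step fs7 46335 287 46622 s7u150 s7c151 rfl
theorem s7u152 : ∀ v, 1 ≤ v → v ≤ 46897 → fs7 v = true := slots_step fs7 46622 275 46897 s7u151 s7c152 rfl
theorem s7u153 : ∀ v, 1 ≤ v → v ≤ 47181 → fs7 v = true := slots_step fs7 46897 284 47181 s7u152 s7c153 rfl
theorem s7u154 : ∀ v, 1 ≤ v → v ≤ 47490 → fs7 v = true := slots_step fs7 47181 309 47490 s7u153 s7c154 rfl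
theorem s7u155 : ∀ v, 1 ≤ v → v ≤ 47776 → fs7 v = true := slots_step fs7 47490 286 47776 s7u154 s7c155 rfl
theorem s7u156 : ∀ v, 1 ≤ v → v ≤ 48063 → fs7 v = true := slots_step fs7 47776 287 48063 s7u155 s7c156 rfl
theorem s7u157 : ∀ v, 1 ≤ v → v ≤ 48354 → fs7 v = true := slots_step fs7 48063 291 48354 s7u156 s7c157 rfl
theorem s7u158 : ∀ v, 1 ≤ v → v ≤ 48678 → fs7 v = true := slots_step fs7 48354 324 48678 s7u157 s7c158 rfl
theorem s7u159 : ∀ v, 1 ≤ v → v ≤ 49019 → fs7 v = true := slots_step fs7 48678 341 49019 s7u158 s7c159 rfl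
theorem s7u160 : ∀ v, 1 ≤ v → v ≤ 49322 → fs7 v = true := slots_step fs7 49019 303 49322 s7u159 s7c160 rfl
theorem s7u161 : ∀ v, 1 ≤ v → v ≤ 49654 → fs7 v = true := slots_step fs7 49322 332 49654 s7u160 s7c161 rfl
theorem s7u162 : ∀ v, 1 ≤ v → v ≤ 49965 → fs7 v = true := slots_step fs7 49654 311 49965 s7u161 s7c162 rfl
theorem s7u163 : ∀ v, 1 ≤ v → v ≤ 50353 → fs7 v = true := slots_step fs7 49965 388 50353 s7u162 s7c163 rfl
theorem s7u164 : ∀ v, 1 ≤ v → v ≤ 50650 → fs7 v = true := slots_step fs7 50353 297 50650 s7u163 s7c164 rfl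
theorem s7u165 : ∀ v, 1 ≤ v → v ≤ 50964 → fs7 v = true := slots_step fs7 50650 314 50964 s7u164 s7c165 rfl
theorem s7u166 : ∀ v, 1 ≤ v → v ≤ 51270 → fs7 v = true := slots_step fs7 50964 306 51270 s7u165 s7c166 rfl
theorem s7u167 : ∀ v, 1 ≤ v → v ≤ 51613 → fs7 v = true := slots_step fs7 51270 343 51613 s7u166 s7c167 rfl
theorem s7u168 : ∀ v, 1 ≤ v → v ≤ 52030 → fs7 v = true := slots_step fs7 51613 417 52030 s7u167 s7c168 rfl
theorem s7u169 : ∀ v, 1 ≤ v → v ≤ 52436 → fs7 v = true := slots_step fs7 52030 406 52436 s7u168 s7c169 rfl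
theorem s7u170 : ∀ v, 1 ≤ v → v ≤ 52842 → fs7 v = true := slots_step fs7 52436 406 52842 s7u169 s7c170 rfl
theorem s7u171 : ∀ v, 1 ≤ v → v ≤ 53233 → fs7 v = true := slots_step fs7 52842 391 53233 s7u170 s7c171 rfl
theorem s7u172 : ∀ v, 1 ≤ v → v ≤ 53516 → fs7 v = true := slots_step fs7 53233 283 53516 s7u171 s7c172 rfl
theorem s7u173 : ∀ v, 1 ≤ v → v ≤ 53828 → fs7 v = true := slots_step fs7 53516 312 53828 s7u172 s7c173 rfl
theorem s7u174 : ∀ v, 1 ≤ v → v ≤ 54138 → fs7 v = true := slots_step fs7 53828 310 54138 s7u173 s7c174 rfl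
theorem s7u175 : ∀ v, 1 ≤ v → v ≤ 54461 → fs7 v = true := slots_step fs7 54138 323 54461 s7u174 s7c175 rfl
theorem s7u176 : ∀ v, 1 ≤ v → v ≤ 54857 → fs7 v = true := slots_step fs7 54461 396 54857 s7u175 s7c176 rfl
theorem s7u177 : ∀ v, 1 ≤ v → v ≤ 55244 → fs7 v = true := slots_step fs7 54857 387 55244 s7u176 s7c177 rfl
theorem s7u178 : ∀ v, 1 ≤ v → v ≤ 55575 → fs7 v = true := slots_step fs7 55244 331 55575 s7u177 s7c178 rfl
theorem s7u179 : ∀ v, 1 ≤ v → v ≤ 56010 → fs7 v = true := slots_step fs7 55575 435 56010 s7u178 s7c179 rfl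
theorem s7u180 : ∀ v, 1 ≤ v → v ≤ 56376 → fs7 v = true := slots_step fs7 56010 366 56376 s7u179 s7c180 rfl
theorem s7u181 : ∀ v, 1 ≤ v → v ≤ 56648 → fs7 v = true := slots_step fs7 56376 272 56648 s7u180 s7c181 rfl
theorem s7u182 : ∀ v, 1 ≤ v → v ≤ 56929 → fs7 v = true := slots_step fs7 56648 281 56929 s7u181 s7c182 rfl
theorem s7u183 : ∀ v, 1 ≤ v → v ≤ 57202 → fs7 v = true := slots_step fs7 56929 273 57202 s7u182 s7c183 rfl
theorem s7u184 : ∀ v, 1 ≤ v → v ≤ 57516 → fs7 v = true := slots_step fs7 57202 314 57516 s7u183 s7c184 rfl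
theorem s7u185 : ∀ v, 1 ≤ v → v ≤ 57800 → fs7 v = true := slots_step fs7 57516 284 57800 s7u184 s7c185 rfl
theorem s7u186 : ∀ v, 1 ≤ v → v ≤ 58097 → fs7 v = true := slots_step fs7 57800 297 58097 s7u185 s7c186 rfl
theorem s7u187 : ∀ v, 1 ≤ v → v ≤ 58392 → fs7 v = true := slots_step fs7 58097 295 58392 s7u186 s7c187 rfl
theorem s7u188 : ∀ v, 1 ≤ v → v ≤ 58717 → fs7 v = true := slots_step fs7 58392 325 58717 s7u187 s7c188 rfl
theorem s7u189 : ∀ v, 1 ≤ v → v ≤ 59091 → fs7 v = true := slots_step fs7 58717 374 59091 s7u188 s7c189 rfl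
theorem s7u190 : ∀ v, 1 ≤ v → v ≤ 59425 → fs7 v = true := slots_step fs7 59091 334 59425 s7u189 s7c190 rfl
theorem s7u191 : ∀ v, 1 ≤ v → v ≤ 59771 → fs7 v = true := slots_step fs7 59425 346 59771 s7u190 s7c191 rfl
theorem s7u192 : ∀ v, 1 ≤ v → v ≤ 60134 → fs7 v = true := slots_step fs7 59771 363 60134 s7u191 s7c192 rfl
theorem s7u193 : ∀ v, 1 ≤ v → v ≤ 60414 → fs7 v = true := slots_step fs7 60134 280 60414 s7u192 s7c193 rfl
theorem s7u194 : ∀ v, 1 ≤ v → v ≤ 60756 → fs7 v = true := slots_step fs7 60414 342 60756 s7u193 s7c194 rfl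
theorem s7u195 : ∀ v, 1 ≤ v → v ≤ 61105 → fs7 v = true := slots_step fs7 60756 349 61105 s7u194 s7c195 rfl
theorem s7u196 : ∀ v, 1 ≤ v → v ≤ 61554 → fs7 v = true := slots_step fs7 61105 449 61554 s7u195 s7c196 rfl
theorem s7u197 : ∀ v, 1 ≤ v → v ≤ 61982 → fs7 v = true := slots_step fs7 61554 428 61982 s7u196 s7c197 rfl
theorem s7u198 : ∀ v, 1 ≤ v → v ≤ 62278 → fs7 v = true := slots_step fs7 61982 296 62278 s7u197 s7c198 rfl
theorem s7u199 : ∀ v, 1 ≤ v → v ≤ 62598 → fs7 v = true := slots_step fs7 62278 320 62598 s7u198 s7c199 rfl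
theorem s7u200 : ∀ v, 1 ≤ v → v ≤ 62881 → fs7 v = true := slots_step fs7 62598 283 62881 s7u199 s7c200 rfl
theorem s7u201 : ∀ v, 1 ≤ v → v ≤ 63189 → fs7 v = true := slots_step fs7 62881 308 63189 s7u200 s7c201 rfl
theorem s7u202 : ∀ v, 1 ≤ v → v ≤ 63456 → fs7 v = true := slots_step fs7 63189 267 63456 s7u201 s7c202 rfl
theorem s7u203 : ∀ v, 1 ≤ v → v ≤ 63750 → fs7 v = true := slots_step fs7 63456 294 63750 s7u202 s7c203 rfl
theorem s7u204 : ∀ v, 1 ≤ v → v ≤ 64064 → fs7 v = true := slots_step fs7 63750 314 64064 s7u203 s7c204 rfl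
theorem s7u205 : ∀ v, 1 ≤ v → v ≤ 64362 → fs7 v = true := slots_step fs7 64064 298 64362 s7u204 s7c205 rfl
theorem s7u206 : ∀ v, 1 ≤ v → v ≤ 64645 → fs7 v = true := slots_step fs7 64362 283 64645 s7u205 s7c206 rfl
theorem s7u207 : ∀ v, 1 ≤ v → v ≤ 64948 → fs7 v = true := slots_step fs7 64645 303 64948 s7u206 s7c207 rfl
theorem s7u208 : ∀ v, 1 ≤ v → v ≤ 65232 → fs7 v = true := slots_step fs7 64948 284 65232 s7u207 s7c208 rfl
theorem s7u209 : ∀ v, 1 ≤ v → v ≤ 65542 → fs7 v = true := slots_step fs7 65232 310 65542 s7u208 s7c209 rfl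
theorem s7u210 : ∀ v, 1 ≤ v → v ≤ 65891 → fs7 v = true := slots_step fs7 65542 349 65891 s7u209 s7c210 rfl
theorem s7u211 : ∀ v, 1 ≤ v → v ≤ 66239 → fs7 v = true := slots_step fs7 65891 348 66239 s7u210 s7c211 rfl
theorem s7u212 : ∀ v, 1 ≤ v → v ≤ 66591 → fs7 v = true := slots_step fs7 66239 352 66591 s7u211 s7c212 rfl
theorem s7u213 : ∀ v, 1 ≤ v → v ≤ 66913 → fs7 v = true := slots_step fs7 66591 322 66913 s7u212 s7c213 rfl
theorem s7u214 : ∀ v, 1 ≤ v → v ≤ 67273 → fs7 v = true := slots_step fs7 66913 360 67273 s7u213 s7c214 rfl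
theorem s7u215 : ∀ v, 1 ≤ v → v ≤ 67619 → fs7 v = true := slots_step fs7 67273 346 67619 s7u214 s7c215 rfl
theorem s7u216 : ∀ v, 1 ≤ v → v ≤ 68029 → fs7 v = true := slots_step fs7 67619 410 68029 s7u215 s7c216 rfl
theorem s7u217 : ∀ v, 1 ≤ v → v ≤ 68345 → fs7 v = true := slots_step fs7 68029 316 68345 s7u216 s7c217 rfl
theorem s7u218 : ∀ v, 1 ≤ v → v ≤ 68626 → fs7 v = true := slots_step fs7 68345 281 68626 s7u217 s7c218 rfl
theorem s7u219 : ∀ v, 1 ≤ v → v ≤ 68971 → fs7 v = true := slots_step fs7 68626 345 68971 s7u218 s7c219 rfl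
theorem s7u220 : ∀ v, 1 ≤ v → v ≤ 69296 → fs7 v = true := slots_step fs7 68971 325 69296 s7u219 s7c220 rfl
theorem s7u221 : ∀ v, 1 ≤ v → v ≤ 69655 → fs7 v = true := slots_step fs7 69296 359 69655 s7u220 s7c221 rfl
theorem s7u222 : ∀ v, 1 ≤ v → v ≤ 70099 → fs7 v = true := slots_step fs7 69655 444 70099 s7u221 s7c222 rfl
theorem s7u223 : ∀ v, 1 ≤ v → v ≤ 70501 → fs7 v = true := slots_step fs7 70099 402 70501 s7u222 s7c223 rfl
theorem s7u224 : ∀ v, 1 ≤ v → v ≤ 70931 → fs7 v = true := slots_step fs7 70501 430 70931 s7u223 s7c224 rfl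
theorem s7u225 : ∀ v, 1 ≤ v → v ≤ 71407 → fs7 v = true := slots_step fs7 70931 476 71407 s7u224 s7c225 rfl
theorem s7u226 : ∀ v, 1 ≤ v → v ≤ 71677 → fs7 v = true := slots_step fs7 71407 270 71677 s7u225 s7c226 rfl
theorem s7u227 : ∀ v, 1 ≤ v → v ≤ 71980 → fs7 v = true := slots_step fs7 71677 303 71980 s7u226 s7c227 rfl
theorem s7u228 : ∀ v, 1 ≤ v → v ≤ 72303 → fs7 v = true := slots_step fs7 71980 323 72303 s7u227 s7c228 rfl
theorem s7u229 : ∀ v, 1 ≤ v → v ≤ 72616 → fs7 v = true := slots_step fs7 72303 313 72616 s7u228 s7c229 rfl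
theorem s7u230 : ∀ v, 1 ≤ v → v ≤ 72940 → fs7 v = true := slots_step fs7 72616 324 72940 s7u229 s7c230 rfl
theorem s7u231 : ∀ v, 1 ≤ v → v ≤ 73322 → fs7 v = true := slots_step fs7 72940 382 73322 s7u230 s7c231 rfl
theorem s7u232 : ∀ v, 1 ≤ v → v ≤ 73750 → fs7 v = true := slots_step fs7 73322 428 73750 s7u231 s7c232 rfl
theorem s7u233 : ∀ v, 1 ≤ v → v ≤ 74153 → fs7 v = true := slots_step fs7 73750 403 74153 s7u232 s7c233 rfl
theorem s7u234 : ∀ v, 1 ≤ v → v ≤ 74524 → fs7 v = true := slots_step fs7 74153 371 74524 s7u233 s7c234 rfl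
theorem s7u235 : ∀ v, 1 ≤ v → v ≤ 74951 → fs7 v = true := slots_step fs7 74524 427 74951 s7u234 s7c235 rfl
theorem s7u236 : ∀ v, 1 ≤ v → v ≤ 75382 → fs7 v = true := slots_step fs7 74951 431 75382 s7u235 s7c236 rfl
theorem s7u237 : ∀ v, 1 ≤ v → v ≤ 75653 → fs7 v = true := slots_step fs7 75382 271 75653 s7u236 s7c237 rfl
theorem s7u238 : ∀ v, 1 ≤ v → v ≤ 75930 → fs7 v = true := slots_step fs7 75653 277 75930 s7u237 s7c238 rfl
theorem s7u239 : ∀ v, 1 ≤ v → v ≤ 76227 → fs7 v = true := slots_step fs7 75930 297 76227 s7u238 s7c239 rfl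
theorem s7u240 : ∀ v, 1 ≤ v → v ≤ 76501 → fs7 v = true := slots_step fs7 76227 274 76501 s7u239 s7c240 rfl
theorem s7u241 : ∀ v, 1 ≤ v → v ≤ 76804 → fs7 v = true := slots_step fs7 76501 303 76804 s7u240 s7c241 rfl
theorem s7u242 : ∀ v, 1 ≤ v → v ≤ 77113 → fs7 v = true := slots_step fs7 76804 309 77113 s7u241 s7c242 rfl
theorem s7u243 : ∀ v, 1 ≤ v → v ≤ 77409 → fs7 v = true := slots_step fs7 77113 296 77409 s7u242 s7c243 rfl
theorem s7u244 : ∀ v, 1 ≤ v → v ≤ 77700 → fs7 v = true := slots_step fs7 77409 291 77700 s7u243 s7c244 rfl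
theorem s7u245 : ∀ v, 1 ≤ v → v ≤ 78004 → fs7 v = true := slots_step fs7 77700 304 78004 s7u244 s7c245 rfl
theorem s7u246 : ∀ v, 1 ≤ v → v ≤ 78293 → fs7 v = true := slots_step fs7 78004 289 78293 s7u245 s7c246 rfl
theorem s7u247 : ∀ v, 1 ≤ v → v ≤ 78626 → fs7 v = true := slots_step fs7 78293 333 78626 s7u246 s7c247 rfl
theorem s7u248 : ∀ v, 1 ≤ v → v ≤ 78971 → fs7 v = true := slots_step fs7 78626 345 78971 s7u247 s7c248 rfl
theorem s7u249 : ∀ v, 1 ≤ v → v ≤ 79382 → fs7 v = true := slots_step fs7 78971 411 79382 s7u248 s7c249 rfl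
theorem s7u250 : ∀ v, 1 ≤ v → v ≤ 79749 → fs7 v = true := slots_step fs7 79382 367 79749 s7u249 s7c250 rfl
theorem s7u251 : ∀ v, 1 ≤ v → v ≤ 80134 → fs7 v = true := slots_step fs7 79749 385 80134 s7u250 s7c251 rfl
theorem s7u252 : ∀ v, 1 ≤ v → v ≤ 80506 → fs7 v = true := slots_step fs7 80134 372 80506 s7u251 s7c252 rfl
theorem s7u253 : ∀ v, 1 ≤ v → v ≤ 80795 → fs7 v = true := slots_step fs7 80506 289 80795 s7u252 s7c253 rfl
theorem s7u254 : ∀ v, 1 ≤ v → v ≤ 81113 → fs7 v = true := slots_step fs7 80795 318 81113 s7u253 s7c254 rfl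
theorem s7u255 : ∀ v, 1 ≤ v → v ≤ 81482 → fs7 v = true := slots_step fs7 81113 369 81482 s7u254 s7c255 rfl
theorem s7u256 : ∀ v, 1 ≤ v → v ≤ 81860 → fs7 v = true := slots_step fs7 81482 378 81860 s7u255 s7c256 rfl
theorem s7u257 : ∀ v, 1 ≤ v → v ≤ 82317 → fs7 v = true := slots_step fs7 81860 457 82317 s7u256 s7c257 rfl
theorem s7u258 : ∀ v, 1 ≤ v → v ≤ 82766 → fs7 v = true := slots_step fs7 82317 449 82766 s7u257 s7c258 rfl
theorem s7u259 : ∀ v, 1 ≤ v → v ≤ 83062 → fs7 v = true := slots_step fs7 82766 296 83062 s7u258 s7c259 rfl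
theorem s7u260 : ∀ v, 1 ≤ v → v ≤ 83393 → fs7 v = true := slots_step fs7 83062 331 83393 s7u259 s7c260 rfl
theorem s7u261 : ∀ v, 1 ≤ v → v ≤ 83683 → fs7 v = true := slots_step fs7 83393 290 83683 s7u260 s7c261 rfl
theorem s7u262 : ∀ v, 1 ≤ v → v ≤ 83973 → fs7 v = true := slots_step fs7 83683 290 83973 s7u261 s7c262 rfl
theorem s7u263 : ∀ v, 1 ≤ v → v ≤ 84292 → fs7 v = true := slots_step fs7 83973 319 84292 s7u262 s7c263 rfl
theorem s7u264 : ∀ v, 1 ≤ v → v ≤ 84569 → fs7 v = true := slots_step fs7 84292 277 84569 s7u263 s7c264 rfl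
theorem s7u265 : ∀ v, 1 ≤ v → v ≤ 84838 → fs7 v = true := slots_step fs7 84569 269 84838 s7u264 s7c265 rfl
theorem s7u266 : ∀ v, 1 ≤ v → v ≤ 85133 → fs7 v = true := slots_step fs7 84838 295 85133 s7u265 s7c266 rfl
theorem s7u267 : ∀ v, 1 ≤ v → v ≤ 85450 → fs7 v = true := slots_step fs7 85133 317 85450 s7u266 s7c267 rfl
theorem s7u268 : ∀ v, 1 ≤ v → v ≤ 85766 → fs7 v = true := slots_step fs7 85450 316 85766 s7u267 s7c268 rfl
theorem s7u269 : ∀ v, 1 ≤ v → v ≤ 86063 → fs7 v = true := slots_step fs7 85766 297 86063 s7u268 s7c269 rfl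
theorem s7u270 : ∀ v, 1 ≤ v → v ≤ 86349 → fs7 v = true := slots_step fs7 86063 286 86349 s7u269 s7c270 rfl
theorem s7u271 : ∀ v, 1 ≤ v → v ≤ 86639 → fs7 v = true := slots_step fs7 86349 290 86639 s7u270 s7c271 rfl
theorem s7u272 : ∀ v, 1 ≤ v → v ≤ 86950 → fs7 v = true := slots_step fs7 86639 311 86950 s7u271 s7c272 rfl
theorem s7u273 : ∀ v, 1 ≤ v → v ≤ 87234 → fs7 v = true := slots_step fs7 86950 284 87234 s7u272 s7c273 rfl
theorem s7u274 : ∀ v, 1 ≤ v → v ≤ 87544 → fs7 v = true := slots_step fs7 87234 310 87544 s7u273 s7c274 rfl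
theorem s7u275 : ∀ v, 1 ≤ v → v ≤ 87870 → fs7 v = true := slots_step fs7 87544 326 87870 s7u274 s7c275 rfl
theorem s7u276 : ∀ v, 1 ≤ v → v ≤ 88250 → fs7 v = true := slots_step fs7 87870 380 88250 s7u275 s7c276 rfl
theorem s7u277 : ∀ v, 1 ≤ v → v ≤ 88597 → fs7 v = true := slots_step fs7 88250 347 88597 s7u276 s7c277 rfl
theorem s7u278 : ∀ v, 1 ≤ v → v ≤ 88969 → fs7 v = true := slots_step fs7 88597 372 88969 s7u277 s7c278 rfl
theorem s7u279 : ∀ v, 1 ≤ v → v ≤ 89307 → fs7 v = true := slots_step fs7 88969 338 89307 s7u278 s7c279 rfl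
theorem s7u280 : ∀ v, 1 ≤ v → v ≤ 89657 → fs7 v = true := slots_step fs7 89307 350 89657 s7u279 s7c280 rfl
theorem s7u281 : ∀ v, 1 ≤ v → v ≤ 90006 → fs7 v = true := slots_step fs7 89657 349 90006 s7u280 s7c281 rfl
theorem s7u282 : ∀ v, 1 ≤ v → v ≤ 90409 → fs7 v = true := slots_step fs7 90006 403 90409 s7u281 s7c282 rfl
theorem s7u283 : ∀ v, 1 ≤ v → v ≤ 90812 → fs7 v = true := slots_step fs7 90409 403 90812 s7u282 s7c283 rfl
theorem s7u284 : ∀ v, 1 ≤ v → v ≤ 91134 → fs7 v = true := slots_step fs7 90812 322 91134 s7u283 s7c284 rfl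
theorem s7u285 : ∀ v, 1 ≤ v → v ≤ 91438 → fs7 v = true := slots_step fs7 91134 304 91438 s7u284 s7c285 rfl
theorem s7u286 : ∀ v, 1 ≤ v → v ≤ 91807 → fs7 v = true := slots_step fs7 91438 369 91807 s7u285 s7c286 rfl
theorem s7u287 : ∀ v, 1 ≤ v → v ≤ 92139 → fs7 v = true := slots_step fs7 91807 332 92139 s7u286 s7c287 rfl
theorem s7u288 : ∀ v, 1 ≤ v → v ≤ 92499 → fs7 v = true := slots_step fs7 92139 360 92499 s7u287 s7c288 rfl
theorem s7u289 : ∀ v, 1 ≤ v → v ≤ 92917 → fs7 v = true := slots_step fs7 92499 418 92917 s7u288 s7c289 rfl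
theorem s7u290 : ∀ v, 1 ≤ v → v ≤ 93367 → fs7 v = true := slots_step fs7 92917 450 93367 s7u289 s7c290 rfl
theorem s7u291 : ∀ v, 1 ≤ v → v ≤ 93811 → fs7 v = true := slots_step fs7 93367 444 93811 s7u290 s7c291 rfl
theorem s7u292 : ∀ v, 1 ≤ v → v ≤ 94317 → fs7 v = true := slots_step fs7 93811 506 94317 s7u291 s7c292 rfl
theorem s7u293 : ∀ v, 1 ≤ v → v ≤ 94616 → fs7 v = true := slots_step fs7 94317 299 94616 s7u292 s7c293 rfl
theorem s7u294 : ∀ v, 1 ≤ v → v ≤ 94894 → fs7 v = true := slots_step fs7 94616 278 94894 s7u293 s7c294 rfl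
theorem s7u295 : ∀ v, 1 ≤ v → v ≤ 95220 → fs7 v = true := slots_step fs7 94894 326 95220 s7u294 s7c295 rfl
theorem s7u296 : ∀ v, 1 ≤ v → v ≤ 95559 → fs7 v = true := slots_step fs7 95220 339 95559 s7u295 s7c296 rfl
theorem s7u297 : ∀ v, 1 ≤ v → v ≤ 95886 → fs7 v = true := slots_step fs7 95559 327 95886 s7u296 s7c297 rfl
theorem s7u298 : ∀ v, 1 ≤ v → v ≤ 96194 → fs7 v = true := slots_step fs7 95886 308 96194 s7u297 s7c298 rfl
theorem s7u299 : ∀ v, 1 ≤ v → v ≤ 96584 → fs7 v = true := slots_step fs7 96194 390 96584 s7u298 s7c299 rfl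
theorem s7u300 : ∀ v, 1 ≤ v → v ≤ 97009 → fs7 v = true := slots_step fs7 96584 425 97009 s7u299 s7c300 rfl
theorem s7u301 : ∀ v, 1 ≤ v → v ≤ 97471 → fs7 v = true := slots_step fs7 97009 462 97471 s7u300 s7c301 rfl
theorem s7u302 : ∀ v, 1 ≤ v → v ≤ 97822 → fs7 v = true := slots_step fs7 97471 351 97822 s7u301 s7c302 rfl
theorem s7u303 : ∀ v, 1 ≤ v → v ≤ 98245 → fs7 v = true := slots_step fs7 97822 423 98245 s7u302 s7c303 rfl
theorem s7u304 : ∀ v, 1 ≤ v → v ≤ 98725 → fs7 v = true := slots_step fs7 98245 480 98725 s7u303 s7c304 rfl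
theorem s7u305 : ∀ v, 1 ≤ v → v ≤ 99047 → fs7 v = true := slots_step fs7 98725 322 99047 s7u304 s7c305 rfl
theorem s7u306 : ∀ v, 1 ≤ v → v ≤ 99329 → fs7 v = true := slots_step fs7 99047 282 99329 s7u305 s7c306 rfl
theorem s7u307 : ∀ v, 1 ≤ v → v ≤ 99619 → fs7 v = true := slots_step fs7 99329 290 99619 s7u306 s7c307 rfl
theorem s7u308 : ∀ v, 1 ≤ v → v ≤ 99940 → fs7 v = true := slots_step fs7 99619 321 99940 s7u307 s7c308 rfl
theorem s7u309 : ∀ v, 1 ≤ v → v ≤ 100226 → fs7 v = true := slots_step fs7 99940 286 100226 s7u308 s7c309 rfl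
theorem s7u310 : ∀ v, 1 ≤ v → v ≤ 100508 → fs7 v = true := slots_step fs7 100226 282 100508 s7u309 s7c310 rfl
theorem s7u311 : ∀ v, 1 ≤ v → v ≤ 100808 → fs7 v = true := slots_step fs7 100508 300 100808 s7u310 s7c311 rfl
theorem s7u312 : ∀ v, 1 ≤ v → v ≤ 101119 → fs7 v = true := slots_step fs7 100808 311 101119 s7u311 s7c312 rfl
theorem s7u313 : ∀ v, 1 ≤ v → v ≤ 101471 → fs7 v = true := slots_step fs7 101119 352 101471 s7u312 s7c313 rfl
theorem s7u314 : ∀ v, 1 ≤ v → v ≤ 101751 → fs7 v = true := slots_step fs7 101471 280 101751 s7u313 s7c314 rfl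
theorem s7u315 : ∀ v, 1 ≤ v → v ≤ 102050 → fs7 v = true := slots_step fs7 101751 299 102050 s7u314 s7c315 rfl
theorem s7u316 : ∀ v, 1 ≤ v → v ≤ 102378 → fs7 v = true := slots_step fs7 102050 328 102378 s7u315 s7c316 rfl
theorem s7u317 : ∀ v, 1 ≤ v → v ≤ 102672 → fs7 v = true := slots_step fs7 102378 294 102672 s7u316 s7c317 rfl
theorem s7u318 : ∀ v, 1 ≤ v → v ≤ 102974 → fs7 v = true := slots_step fs7 102672 302 102974 s7u317 s7c318 rfl
theorem s7u319 : ∀ v, 1 ≤ v → v ≤ 103326 → fs7 v = true := slots_step fs7 102974 352 103326 s7u318 s7c319 rfl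
theorem s7u320 : ∀ v, 1 ≤ v → v ≤ 103690 → fs7 v = true := slots_step fs7 103326 364 103690 s7u319 s7c320 rfl
theorem s7u321 : ∀ v, 1 ≤ v → v ≤ 104125 → fs7 v = true := slots_step fs7 103690 435 104125 s7u320 s7c321 rfl
theorem s7u322 : ∀ v, 1 ≤ v → v ≤ 104517 → fs7 v = true := slots_step fs7 104125 392 104517 s7u321 s7c322 rfl
theorem s7u323 : ∀ v, 1 ≤ v → v ≤ 104945 → fs7 v = true := slots_step fs7 104517 428 104945 s7u322 s7c323 rfl
theorem s7u324 : ∀ v, 1 ≤ v → v ≤ 105304 → fs7 v = true := slots_step fs7 104945 359 105304 s7u323 s7c324 rfl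
theorem s7u325 : ∀ v, 1 ≤ v → v ≤ 105611 → fs7 v = true := slots_step fs7 105304 307 105611 s7u324 s7c325 rfl
theorem s7u326 : ∀ v, 1 ≤ v → v ≤ 105925 → fs7 v = true := slots_step fs7 105611 314 105925 s7u325 s7c326 rfl
theorem s7u327 : ∀ v, 1 ≤ v → v ≤ 106330 → fs7 v = true := slots_step fs7 105925 405 106330 s7u326 s7c327 rfl
theorem s7u328 : ∀ v, 1 ≤ v → v ≤ 106733 → fs7 v = true := slots_step fs7 106330 403 106733 s7u327 s7c328 rfl
theorem s7u329 : ∀ v, 1 ≤ v → v ≤ 107169 → fs7 v = true := slots_step fs7 106733 436 107169 s7u328 s7c329 rfl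
theorem s7u330 : ∀ v, 1 ≤ v → v ≤ 107593 → fs7 v = true := slots_step fs7 107169 424 107593 s7u329 s7c330 rfl
theorem s7u331 : ∀ v, 1 ≤ v → v ≤ 107904 → fs7 v = true := slots_step fs7 107593 311 107904 s7u330 s7c331 rfl
theorem s7u332 : ∀ v, 1 ≤ v → v ≤ 108228 → fs7 v = true := slots_step fs7 107904 324 108228 s7u331 s7c332 rfl
theorem s7u333 : ∀ v, 1 ≤ v → v ≤ 108548 → fs7 v = true := slots_step fs7 108228 320 108548 s7u332 s7c333 rfl
theorem s7u334 : ∀ v, 1 ≤ v → v ≤ 108841 → fs7 v = true := slots_step fs7 108548 293 108841 s7u333 s7c334 rfl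
theorem s7u335 : ∀ v, 1 ≤ v → v ≤ 109139 → fs7 v = true := slots_step fs7 108841 298 109139 s7u334 s7c335 rfl
theorem s7u336 : ∀ v, 1 ≤ v → v ≤ 109472 → fs7 v = true := slots_step fs7 109139 333 109472 s7u335 s7c336 rfl
theorem s7u337 : ∀ v, 1 ≤ v → v ≤ 109766 → fs7 v = true := slots_step fs7 109472 294 109766 s7u336 s7c337 rfl
theorem s7u338 : ∀ v, 1 ≤ v → v ≤ 110036 → fs7 v = true := slots_step fs7 109766 270 110036 s7u337 s7c338 rfl
theorem s7u339 : ∀ v, 1 ≤ v → v ≤ 110311 → fs7 v = true := slots_step fs7 110036 275 110311 s7u338 s7c339 rfl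
theorem s7u340 : ∀ v, 1 ≤ v → v ≤ 110583 → fs7 v = true := slots_step fs7 110311 272 110583 s7u339 s7c340 rfl
theorem s7u341 : ∀ v, 1 ≤ v → v ≤ 110942 → fs7 v = true := slots_step fs7 110583 359 110942 s7u340 s7c341 rfl
theorem s7u342 : ∀ v, 1 ≤ v → v ≤ 111237 → fs7 v = true := slots_step fs7 110942 295 111237 s7u341 s7c342 rfl
theorem s7u343 : ∀ v, 1 ≤ v → v ≤ 111572 → fs7 v = true := slots_step fs7 111237 335 111572 s7u342 s7c343 rfl
theorem s7u344 : ∀ v, 1 ≤ v → v ≤ 111878 → fs7 v = true := slots_step fs7 111572 306 111878 s7u343 s7c344 rfl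
theorem s7u345 : ∀ v, 1 ≤ v → v ≤ 112165 → fs7 v = true := slots_step fs7 111878 287 112165 s7u344 s7c345 rfl
theorem s7u346 : ∀ v, 1 ≤ v → v ≤ 112460 → fs7 v = true := slots_step fs7 112165 295 112460 s7u345 s7c346 rfl
theorem s7u347 : ∀ v, 1 ≤ v → v ≤ 112745 → fs7 v = true := slots_step fs7 112460 285 112745 s7u346 s7c347 rfl
theorem s7u348 : ∀ v, 1 ≤ v → v ≤ 113068 → fs7 v = true := slots_step fs7 112745 323 113068 s7u347 s7c348 rfl
theorem s7u349 : ∀ v, 1 ≤ v → v ≤ 113379 → fs7 v = true := slots_step fs7 113068 311 113379 s7u348 s7c349 rfl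
theorem s7u350 : ∀ v, 1 ≤ v → v ≤ 113675 → fs7 v = true := slots_step fs7 113379 296 113675 s7u349 s7c350 rfl
theorem s7u351 : ∀ v, 1 ≤ v → v ≤ 114004 → fs7 v = true := slots_step fs7 113675 329 114004 s7u350 s7c351 rfl
theorem s7u352 : ∀ v, 1 ≤ v → v ≤ 114344 → fs7 v = true := slots_step fs7 114004 340 114344 s7u351 s7c352 rfl
theorem s7u353 : ∀ v, 1 ≤ v → v ≤ 114704 → fs7 v = true := slots_step fs7 114344 360 114704 s7u352 s7c353 rfl
theorem s7u354 : ∀ v, 1 ≤ v → v ≤ 115068 → fs7 v = true := slots_step fs7 114704 364 115068 s7u353 s7c354 rfl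
theorem s7u355 : ∀ v, 1 ≤ v → v ≤ 115471 → fs7 v = true := slots_step fs7 115068 403 115471 s7u354 s7c355 rfl
theorem s7u356 : ∀ v, 1 ≤ v → v ≤ 115818 → fs7 v = true := slots_step fs7 115471 347 115818 s7u355 s7c356 rfl
theorem s7u357 : ∀ v, 1 ≤ v → v ≤ 116175 → fs7 v = true := slots_step fs7 115818 357 116175 s7u356 s7c357 rfl
theorem s7u358 : ∀ v, 1 ≤ v → v ≤ 116592 → fs7 v = true := slots_step fs7 116175 417 116592 s7u357 s7c358 rfl
theorem s7u359 : ∀ v, 1 ≤ v → v ≤ 116963 → fs7 v = true := slots_step fs7 116592 371 116963 s7u358 s7c359 rfl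
theorem s7u360 : ∀ v, 1 ≤ v → v ≤ 117371 → fs7 v = true := slots_step fs7 116963 408 117371 s7u359 s7c360 rfl
theorem s7u361 : ∀ v, 1 ≤ v → v ≤ 117732 → fs7 v = true := slots_step fs7 117371 361 117732 s7u360 s7c361 rfl
theorem s7u362 : ∀ v, 1 ≤ v → v ≤ 118057 → fs7 v = true := slots_step fs7 117732 325 118057 s7u361 s7c362 rfl
theorem s7u363 : ∀ v, 1 ≤ v → v ≤ 118385 → fs7 v = true := slots_step fs7 118057 328 118385 s7u362 s7c363 rfl
theorem s7u364 : ∀ v, 1 ≤ v → v ≤ 118729 → fs7 v = true := slots_step fs7 118385 344 118729 s7u363 s7c364 rfl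
theorem s7u365 : ∀ v, 1 ≤ v → v ≤ 119114 → fs7 v = true := slots_step fs7 118729 385 119114 s7u364 s7c365 rfl
theorem s7u366 : ∀ v, 1 ≤ v → v ≤ 119497 → fs7 v = true := slots_step fs7 119114 383 119497 s7u365 s7c366 rfl
theorem s7u367 : ∀ v, 1 ≤ v → v ≤ 119949 → fs7 v = true := slots_step fs7 119497 452 119949 s7u366 s7c367 rfl
theorem s7u368 : ∀ v, 1 ≤ v → v ≤ 120463 → fs7 v = true := slots_step fs7 119949 514 120463 s7u367 s7c368 rfl
theorem s7u369 : ∀ v, 1 ≤ v → v ≤ 120778 → fs7 v = true := slots_step fs7 120463 315 120778 s7u368 s7c369 rfl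
theorem s7u370 : ∀ v, 1 ≤ v → v ≤ 121059 → fs7 v = true := slots_step fs7 120778 281 121059 s7u369 s7c370 rfl
theorem s7u371 : ∀ v, 1 ≤ v → v ≤ 121373 → fs7 v = true := slots_step fs7 121059 314 121373 s7u370 s7c371 rfl
theorem s7u372 : ∀ v, 1 ≤ v → v ≤ 121730 → fs7 v = true := slots_step fs7 121373 357 121730 s7u371 s7c372 rfl
theorem s7u373 : ∀ v, 1 ≤ v → v ≤ 122056 → fs7 v = true := slots_step fs7 121730 326 122056 s7u372 s7c373 rfl
theorem s7u374 : ∀ v, 1 ≤ v → v ≤ 122387 → fs7 v = true := slots_step fs7 122056 331 122387 s7u373 s7c374 rfl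
theorem s7u375 : ∀ v, 1 ≤ v → v ≤ 122707 → fs7 v = true := slots_step fs7 122387 320 122707 s7u374 s7c375 rfl
theorem s7u376 : ∀ v, 1 ≤ v → v ≤ 123066 → fs7 v = true := slots_step fs7 122707 359 123066 s7u375 s7c376 rfl
theorem s7u377 : ∀ v, 1 ≤ v → v ≤ 123531 → fs7 v = true := slots_step fs7 123066 465 123531 s7u376 s7c377 rfl
theorem s7u378 : ∀ v, 1 ≤ v → v ≤ 123955 → fs7 v = true := slots_step fs7 123531 424 123955 s7u377 s7c378 rfl
theorem s7u379 : ∀ v, 1 ≤ v → v ≤ 124343 → fs7 v = true := slots_step fs7 123955 388 124343 s7u378 s7c379 rfl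
theorem s7u380 : ∀ v, 1 ≤ v → v ≤ 124754 → fs7 v = true := slots_step fs7 124343 411 124754 s7u379 s7c380 rfl
theorem s7u381 : ∀ v, 1 ≤ v → v ≤ 125016 → fs7 v = true := slots_step fs7 124754 262 125016 s7u380 s7c381 rfl
theorem s7u382 : ∀ v, 1 ≤ v → v ≤ 125287 → fs7 v = true := slots_step fs7 125016 271 125287 s7u381 s7c382 rfl
theorem s7u383 : ∀ v, 1 ≤ v → v ≤ 125550 → fs7 v = true := slots_step fs7 125287 263 125550 s7u382 s7c383 rfl
theorem s7u384 : ∀ v, 1 ≤ v → v ≤ 125810 → fs7 v = true := slots_step fs7 125550 260 125810 s7u383 s7c384 rfl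
theorem s7u385 : ∀ v, 1 ≤ v → v ≤ 126077 → fs7 v = true := slots_step fs7 125810 267 126077 s7u384 s7c385 rfl
theorem s7u386 : ∀ v, 1 ≤ v → v ≤ 126343 → fs7 v = true := slots_step fs7 126077 266 126343 s7u385 s7c386 rfl
theorem s7u387 : ∀ v, 1 ≤ v → v ≤ 126605 → fs7 v = true := slots_step fs7 126343 262 126605 s7u386 s7c387 rfl
theorem s7u388 : ∀ v, 1 ≤ v → v ≤ 126852 → fs7 v = true := slots_step fs7 126605 247 126852 s7u387 s7c388 rfl
theorem s7u389 : ∀ v, 1 ≤ v → v ≤ 127113 → fs7 v = true := slots_step fs7 126852 261 127113 s7u388 s7c389 rfl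
theorem s7u390 : ∀ v, 1 ≤ v → v ≤ 127378 → fs7 v = true := slots_step fs7 127113 265 127378 s7u389 s7c390 rfl
theorem s7u391 : ∀ v, 1 ≤ v → v ≤ 127645 → fs7 v = true := slots_step fs7 127378 267 127645 s7u390 s7c391 rfl
theorem s7u392 : ∀ v, 1 ≤ v → v ≤ 127922 → fs7 v = true := slots_step fs7 127645 277 127922 s7u391 s7c392 rfl
theorem s7u393 : ∀ v, 1 ≤ v → v ≤ 128197 → fs7 v = true := slots_step fs7 127922 275 128197 s7u392 s7c393 rfl
theorem s7u394 : ∀ v, 1 ≤ v → v ≤ 128478 → fs7 v = true := slots_step fs7 128197 281 128478 s7u393 s7c394 rfl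
theorem s7u395 : ∀ v, 1 ≤ v → v ≤ 128730 → fs7 v = true := slots_step fs7 128478 252 128730 s7u394 s7c395 rfl
theorem s7u396 : ∀ v, 1 ≤ v → v ≤ 128988 → fs7 v = true := slots_step fs7 128730 258 128988 s7u395 s7c396 rfl
theorem s7u397 : ∀ v, 1 ≤ v → v ≤ 129265 → fs7 v = true := slots_step fs7 128988 277 129265 s7u396 s7c397 rfl
theorem s7u398 : ∀ v, 1 ≤ v → v ≤ 129540 → fs7 v = true := slots_step fs7 129265 275 129540 s7u397 s7c398 rfl
theorem s7u399 : ∀ v, 1 ≤ v → v ≤ 129793 → fs7 v = true := slots_step fs7 129540 253 129793 s7u398 s7c399 rfl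
theorem s7u400 : ∀ v, 1 ≤ v → v ≤ 130025 → fs7 v = true := slots_step fs7 129793 232 130025 s7u399 s7c400 rfl
theorem s7u401 : ∀ v, 1 ≤ v → v ≤ 130287 → fs7 v = true := slots_step fs7 130025 262 130287 s7u400 s7c401 rfl
theorem s7u402 : ∀ v, 1 ≤ v → v ≤ 130559 → fs7 v = true := slots_step fs7 130287 272 130559 s7u401 s7c402 rfl
theorem s7u403 : ∀ v, 1 ≤ v → v ≤ 130835 → fs7 v = true := slots_step fs7 130559 276 130835 s7u402 s7c403 rfl
theorem s7u404 : ∀ v, 1 ≤ v → v ≤ 131110 → fs7 v = true := slots_step fs7 130835 275 131110 s7u403 s7c404 rfl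
theorem s7u405 : ∀ v, 1 ≤ v → v ≤ 131394 → fs7 v = true := slots_step fs7 131110 284 131394 s7u404 s7c405 rfl
theorem s7u406 : ∀ v, 1 ≤ v → v ≤ 131677 → fs7 v = true := slots_step fs7 131394 283 131677 s7u405 s7c406 rfl
theorem s7u407 : ∀ v, 1 ≤ v → v ≤ 131945 → fs7 v = true := slots_step fs7 131677 268 131945 s7u406 s7c407 rfl
theorem s7u408 : ∀ v, 1 ≤ v → v ≤ 132207 → fs7 v = true := slots_step fs7 131945 262 132207 s7u407 s7c408 rfl
theorem s7u409 : ∀ v, 1 ≤ v → v ≤ 132473 → fs7 v = true := slots_step fs7 132207 266 132473 s7u408 s7c409 rfl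
theorem s7u410 : ∀ v, 1 ≤ v → v ≤ 132737 → fs7 v = true := slots_step fs7 132473 264 132737 s7u409 s7c410 rfl
theorem s7u411 : ∀ v, 1 ≤ v → v ≤ 132999 → fs7 v = true := slots_step fs7 132737 262 132999 s7u410 s7c411 rfl
theorem s7u412 : ∀ v, 1 ≤ v → v ≤ 133276 → fs7 v = true := slots_step fs7 132999 277 133276 s7u411 s7c412 rfl
theorem s7u413 : ∀ v, 1 ≤ v → v ≤ 133529 → fs7 v = true := slots_step fs7 133276 253 133529 s7u412 s7c413 rfl
theorem s7u414 : ∀ v, 1 ≤ v → v ≤ 133797 → fs7 v = true := slots_step fs7 133529 268 133797 s7u413 s7c414 rfl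
theorem s7u415 : ∀ v, 1 ≤ v → v ≤ 134067 → fs7 v = true := slots_step fs7 133797 270 134067 s7u414 s7c415 rfl
theorem s7u416 : ∀ v, 1 ≤ v → v ≤ 134334 → fs7 v = true := slots_step fs7 134067 267 134334 s7u415 s7c416 rfl
theorem s7u417 : ∀ v, 1 ≤ v → v ≤ 134613 → fs7 v = true := slots_step fs7 134334 279 134613 s7u416 s7c417 rfl
theorem s7u418 : ∀ v, 1 ≤ v → v ≤ 134883 → fs7 v = true := slots_step fs7 134613 270 134883 s7u417 s7c418 rfl
theorem s7u419 : ∀ v, 1 ≤ v → v ≤ 135166 → fs7 v = true := slots_step fs7 134883 283 135166 s7u418 s7c419 rfl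
theorem s7u420 : ∀ v, 1 ≤ v → v ≤ 135448 → fs7 v = true := slots_step fs7 135166 282 135448 s7u419 s7c420 rfl
theorem s7u421 : ∀ v, 1 ≤ v → v ≤ 135729 → fs7 v = true := slots_step fs7 135448 281 135729 s7u420 s7c421 rfl
theorem s7u422 : ∀ v, 1 ≤ v → v ≤ 136011 → fs7 v = true := slots_step fs7 135729 282 136011 s7u421 s7c422 rfl
theorem s7u423 : ∀ v, 1 ≤ v → v ≤ 136298 → fs7 v = true := slots_step fs7 136011 287 136298 s7u422 s7c423 rfl
theorem s7u424 : ∀ v, 1 ≤ v → v ≤ 136557 → fs7 v = true := slots_step fs7 136298 259 136557 s7u423 s7c424 rfl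
theorem s7u425 : ∀ v, 1 ≤ v → v ≤ 136831 → fs7 v = true := slots_step fs7 136557 274 136831 s7u424 s7c425 rfl
theorem s7u426 : ∀ v, 1 ≤ v → v ≤ 137110 → fs7 v = true := slots_step fs7 136831 279 137110 s7u425 s7c426 rfl
theorem s7u427 : ∀ v, 1 ≤ v → v ≤ 137388 → fs7 v = true := slots_step fs7 137110 278 137388 s7u426 s7c427 rfl
theorem s7u428 : ∀ v, 1 ≤ v → v ≤ 137663 → fs7 v = true := slots_step fs7 137388 275 137663 s7u427 s7c428 rfl
theorem s7u429 : ∀ v, 1 ≤ v → v ≤ 137940 → fs7 v = true := slots_step fs7 137663 277 137940 s7u428 s7c429 rfl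
theorem s7u430 : ∀ v, 1 ≤ v → v ≤ 138214 → fs7 v = true := slots_step fs7 137940 274 138214 s7u429 s7c430 rfl
theorem s7u431 : ∀ v, 1 ≤ v → v ≤ 138451 → fs7 v = true := slots_step fs7 138214 237 138451 s7u430 s7c431 rfl
theorem s7u432 : ∀ v, 1 ≤ v → v ≤ 138721 → fs7 v = true := slots_step fs7 138451 270 138721 s7u431 s7c432 rfl
theorem s7u433 : ∀ v, 1 ≤ v → v ≤ 139016 → fs7 v = true := slots_step fs7 138721 295 139016 s7u432 s7c433 rfl
theorem s7u434 : ∀ v, 1 ≤ v → v ≤ 139278 → fs7 v = true := slots_step fs7 139016 262 139278 s7u433 s7c434 rfl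
theorem s7u435 : ∀ v, 1 ≤ v → v ≤ 139527 → fs7 v = true := slots_step fs7 139278 249 139527 s7u434 s7c435 rfl
theorem s7u436 : ∀ v, 1 ≤ v → v ≤ 139785 → fs7 v = true := slots_step fs7 139527 258 139785 s7u435 s7c436 rfl
theorem s7u437 : ∀ v, 1 ≤ v → v ≤ 140036 → fs7 v = true := slots_step fs7 139785 251 140036 s7u436 s7c437 rfl
theorem s7u438 : ∀ v, 1 ≤ v → v ≤ 140292 → fs7 v = true := slots_step fs7 140036 256 140292 s7u437 s7c438 rfl
theorem s7u439 : ∀ v, 1 ≤ v → v ≤ 140565 → fs7 v = true := slots_step fs7 140292 273 140565 s7u438 s7c439 rfl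
theorem s7u440 : ∀ v, 1 ≤ v → v ≤ 140827 → fs7 v = true := slots_step fs7 140565 262 140827 s7u439 s7c440 rfl
theorem s7u441 : ∀ v, 1 ≤ v → v ≤ 141094 → fs7 v = true := slots_step fs7 140827 267 141094 s7u440 s7c441 rfl
theorem s7u442 : ∀ v, 1 ≤ v → v ≤ 141349 → fs7 v = true := slots_step fs7 141094 255 141349 s7u441 s7c442 rfl
theorem s7u443 : ∀ v, 1 ≤ v → v ≤ 141616 → fs7 v = true := slots_step fs7 141349 267 141616 s7u442 s7c443 rfl
theorem s7u444 : ∀ v, 1 ≤ v → v ≤ 141890 → fs7 v = true := slots_step fs7 141616 274 141890 s7u443 s7c444 rfl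
theorem s7u445 : ∀ v, 1 ≤ v → v ≤ 142151 → fs7 v = true := slots_step fs7 141890 261 142151 s7u444 s7c445 rfl
theorem s7u446 : ∀ v, 1 ≤ v → v ≤ 142405 → fs7 v = true := slots_step fs7 142151 254 142405 s7u445 s7c446 rfl
theorem s7u447 : ∀ v, 1 ≤ v → v ≤ 142661 → fs7 v = true := slots_step fs7 142405 256 142661 s7u446 s7c447 rfl
theorem s7u448 : ∀ v, 1 ≤ v → v ≤ 142926 → fs7 v = true := slots_step fs7 142661 265 142926 s7u447 s7c448 rfl
theorem s7u449 : ∀ v, 1 ≤ v → v ≤ 143189 → fs7 v = true := slots_step fs7 142926 263 143189 s7u448 s7c449 rfl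
theorem s7u450 : ∀ v, 1 ≤ v → v ≤ 143450 → fs7 v = true := slots_step fs7 143189 261 143450 s7u449 s7c450 rfl
theorem s7u451 : ∀ v, 1 ≤ v → v ≤ 143699 → fs7 v = true := slots_step fs7 143450 249 143699 s7u450 s7c451 rfl
theorem s7u452 : ∀ v, 1 ≤ v → v ≤ 143951 → fs7 v = true := slots_step fs7 143699 252 143951 s7u451 s7c452 rfl
theorem s7u453 : ∀ v, 1 ≤ v → v ≤ 144215 → fs7 v = true := slots_step fs7 143951 264 144215 s7u452 s7c453 rfl
theorem s7u454 : ∀ v, 1 ≤ v → v ≤ 144479 → fs7 v = true := slots_step fs7 144215 264 144479 s7u453 s7c454 rfl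
theorem s7u455 : ∀ v, 1 ≤ v → v ≤ 144740 → fs7 v = true := slots_step fs7 144479 261 144740 s7u454 s7c455 rfl
theorem s7u456 : ∀ v, 1 ≤ v → v ≤ 145015 → fs7 v = true := slots_step fs7 144740 275 145015 s7u455 s7c456 rfl
theorem s7u457 : ∀ v, 1 ≤ v → v ≤ 145295 → fs7 v = true := slots_step fs7 145015 280 145295 s7u456 s7c457 rfl
theorem s7u458 : ∀ v, 1 ≤ v → v ≤ 145568 → fs7 v = true := slots_step fs7 145295 273 145568 s7u457 s7c458 rfl
theorem s7u459 : ∀ v, 1 ≤ v → v ≤ 145836 → fs7 v = true := slots_step fs7 145568 268 145836 s7u458 s7c459 rfl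
theorem s7u460 : ∀ v, 1 ≤ v → v ≤ 146090 → fs7 v = true := slots_step fs7 145836 254 146090 s7u459 s7c460 rfl
theorem s7u461 : ∀ v, 1 ≤ v → v ≤ 146363 → fs7 v = true := slots_step fs7 146090 273 146363 s7u460 s7c461 rfl
theorem s7u462 : ∀ v, 1 ≤ v → v ≤ 146621 → fs7 v = true := slots_step fs7 146363 258 146621 s7u461 s7c462 rfl
theorem s7u463 : ∀ v, 1 ≤ v → v ≤ 146887 → fs7 v = true := slots_step fs7 146621 266 146887 s7u462 s7c463 rfl
theorem s7u464 : ∀ v, 1 ≤ v → v ≤ 147137 → fs7 v = true := slots_step fs7 146887 250 147137 s7u463 s7c464 rfl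
theorem s7u465 : ∀ v, 1 ≤ v → v ≤ 147371 → fs7 v = true := slots_step fs7 147137 234 147371 s7u464 s7c465 rfl
theorem s7u466 : ∀ v, 1 ≤ v → v ≤ 147644 → fs7 v = true := slots_step fs7 147371 273 147644 s7u465 s7c466 rfl
theorem s7u467 : ∀ v, 1 ≤ v → v ≤ 147911 → fs7 v = true := slots_step fs7 147644 267 147911 s7u466 s7c467 rfl
theorem s7u468 : ∀ v, 1 ≤ v → v ≤ 148172 → fs7 v = true := slots_step fs7 147911 261 148172 s7u467 s7c468 rfl
theorem s7u469 : ∀ v, 1 ≤ v → v ≤ 148449 → fs7 v = true := slots_step fs7 148172 277 148449 s7u468 s7c469 rfl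
theorem s7u470 : ∀ v, 1 ≤ v → v ≤ 148733 → fs7 v = true := slots_step fs7 148449 284 148733 s7u469 s7c470 rfl
theorem s7u471 : ∀ v, 1 ≤ v → v ≤ 149015 → fs7 v = true := slots_step fs7 148733 282 149015 s7u470 s7c471 rfl
theorem s7u472 : ∀ v, 1 ≤ v → v ≤ 149286 → fs7 v = true := slots_step fs7 149015 271 149286 s7u471 s7c472 rfl
theorem s7u473 : ∀ v, 1 ≤ v → v ≤ 149551 → fs7 v = true := slots_step fs7 149286 265 149551 s7u472 s7c473 rfl
theorem s7u474 : ∀ v, 1 ≤ v → v ≤ 149808 → fs7 v = true := slots_step fs7 149551 257 149808 s7u473 s7c474 rfl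
theorem s7u475 : ∀ v, 1 ≤ v → v ≤ 150061 → fs7 v = true := slots_step fs7 149808 253 150061 s7u474 s7c475 rfl
theorem s7u476 : ∀ v, 1 ≤ v → v ≤ 150330 → fs7 v = true := slots_step fs7 150061 269 150330 s7u475 s7c476 rfl
theorem s7u477 : ∀ v, 1 ≤ v → v ≤ 150596 → fs7 v = true := slots_step fs7 150330 266 150596 s7u476 s7c477 rfl
theorem s7u478 : ∀ v, 1 ≤ v → v ≤ 150871 → fs7 v = true := slots_step fs7 150596 275 150871 s7u477 s7c478 rfl
theorem s7u479 : ∀ v, 1 ≤ v → v ≤ 151124 → fs7 v = true := slots_step fs7 150871 253 151124 s7u478 s7c479 rfl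
theorem s7u480 : ∀ v, 1 ≤ v → v ≤ 151380 → fs7 v = true := slots_step fs7 151124 256 151380 s7u479 s7c480 rfl
theorem s7u481 : ∀ v, 1 ≤ v → v ≤ 151651 → fs7 v = true := slots_step fs7 151380 271 151651 s7u480 s7c481 rfl
theorem s7u482 : ∀ v, 1 ≤ v → v ≤ 151922 → fs7 v = true := slots_step fs7 151651 271 151922 s7u481 s7c482 rfl
theorem s7u483 : ∀ v, 1 ≤ v → v ≤ 152181 → fs7 v = true := slots_step fs7 151922 259 152181 s7u482 s7c483 rfl
theorem s7u484 : ∀ v, 1 ≤ v → v ≤ 152458 → fs7 v = true := slots_step fs7 152181 277 152458 s7u483 s7c484 rfl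
theorem s7u485 : ∀ v, 1 ≤ v → v ≤ 152733 → fs7 v = true := slots_step fs7 152458 275 152733 s7u484 s7c485 rfl
theorem s7u486 : ∀ v, 1 ≤ v → v ≤ 153010 → fs7 v = true := slots_step fs7 152733 277 153010 s7u485 s7c486 rfl
theorem s7u487 : ∀ v, 1 ≤ v → v ≤ 153295 → fs7 v = true := slots_step fs7 153010 285 153295 s7u486 s7c487 rfl
theorem s7u488 : ∀ v, 1 ≤ v → v ≤ 153577 → fs7 v = true := slots_step fs7 153295 282 153577 s7u487 s7c488 rfl
theorem s7u489 : ∀ v, 1 ≤ v → v ≤ 153859 → fs7 v = true := slots_step fs7 153577 282 153859 s7u488 s7c489 rfl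
theorem s7u490 : ∀ v, 1 ≤ v → v ≤ 154135 → fs7 v = true := slots_step fs7 153859 276 154135 s7u489 s7c490 rfl
theorem s7u491 : ∀ v, 1 ≤ v → v ≤ 154413 → fs7 v = true := slots_step fs7 154135 278 154413 s7u490 s7c491 rfl
theorem s7u492 : ∀ v, 1 ≤ v → v ≤ 154695 → fs7 v = true := slots_step fs7 154413 282 154695 s7u491 s7c492 rfl
theorem s7u493 : ∀ v, 1 ≤ v → v ≤ 154950 → fs7 v = true := slots_step fs7 154695 255 154950 s7u492 s7c493 rfl
theorem s7u494 : ∀ v, 1 ≤ v → v ≤ 155222 → fs7 v = true := slots_step fs7 154950 272 155222 s7u493 s7c494 rfl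
theorem s7u495 : ∀ v, 1 ≤ v → v ≤ 155504 → fs7 v = true := slots_step fs7 155222 282 155504 s7u494 s7c495 rfl
theorem s7u496 : ∀ v, 1 ≤ v → v ≤ 155779 → fs7 v = true := slots_step fs7 155504 275 155779 s7u495 s7c496 rfl
theorem s7u497 : ∀ v, 1 ≤ v → v ≤ 156061 → fs7 v = true := slots_step fs7 155779 282 156061 s7u496 s7c497 rfl
theorem s7u498 : ∀ v, 1 ≤ v → v ≤ 156345 → fs7 v = true := slots_step fs7 156061 284 156345 s7u497 s7c498 rfl
theorem s7u499 : ∀ v, 1 ≤ v → v ≤ 156589 → fs7 v = true := slots_step fs7 156345 244 156589 s7u498 s7c499 rfl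
theorem s7u500 : ∀ v, 1 ≤ v → v ≤ 156852 → fs7 v = true := slots_step fs7 156589 263 156852 s7u499 s7c500 rfl
theorem s7u501 : ∀ v, 1 ≤ v → v ≤ 157124 → fs7 v = true := slots_step fs7 156852 272 157124 s7u500 s7c501 rfl
theorem s7u502 : ∀ v, 1 ≤ v → v ≤ 157398 → fs7 v = true := slots_step fs7 157124 274 157398 s7u501 s7c502 rfl
theorem s7u503 : ∀ v, 1 ≤ v → v ≤ 157641 → fs7 v = true := slots_step fs7 157398 243 157641 s7u502 s7c503 rfl
theorem s7u504 : ∀ v, 1 ≤ v → v ≤ 157898 → fs7 v = true := slots_step fs7 157641 257 157898 s7u503 s7c504 rfl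
theorem s7u505 : ∀ v, 1 ≤ v → v ≤ 158147 → fs7 v = true := slots_step fs7 157898 249 158147 s7u504 s7c505 rfl
theorem s7u506 : ∀ v, 1 ≤ v → v ≤ 158402 → fs7 v = true := slots_step fs7 158147 255 158402 s7u505 s7c506 rfl
theorem s7u507 : ∀ v, 1 ≤ v → v ≤ 158673 → fs7 v = true := slots_step fs7 158402 271 158673 s7u506 s7c507 rfl
theorem s7u508 : ∀ v, 1 ≤ v → v ≤ 158928 → fs7 v = true := slots_step fs7 158673 255 158928 s7u507 s7c508 rfl
theorem s7u509 : ∀ v, 1 ≤ v → v ≤ 159187 → fs7 v = true := slots_step fs7 158928 259 159187 s7u508 s7c509 rfl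
theorem s7u510 : ∀ v, 1 ≤ v → v ≤ 159446 → fs7 v = true := slots_step fs7 159187 259 159446 s7u509 s7c510 rfl
theorem s7u511 : ∀ v, 1 ≤ v → v ≤ 159705 → fs7 v = true := slots_step fs7 159446 259 159705 s7u510 s7c511 rfl
theorem s7u512 : ∀ v, 1 ≤ v → v ≤ 159972 → fs7 v = true := slots_step fs7 159705 267 159972 s7u511 s7c512 rfl
theorem s7u513 : ∀ v, 1 ≤ v → v ≤ 160234 → fs7 v = true := slots_step fs7 159972 262 160234 s7u512 s7c513 rfl
theorem s7u514 : ∀ v, 1 ≤ v → v ≤ 160485 → fs7 v = true := slots_step fs7 160234 251 160485 s7u513 s7c514 rfl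
theorem s7u515 : ∀ v, 1 ≤ v → v ≤ 160736 → fs7 v = true := slots_step fs7 160485 251 160736 s7u514 s7c515 rfl
theorem s7u516 : ∀ v, 1 ≤ v → v ≤ 160977 → fs7 v = true := slots_step fs7 160736 241 160977 s7u515 s7c516 rfl
theorem s7u517 : ∀ v, 1 ≤ v → v ≤ 161217 → fs7 v = true := slots_step fs7 160977 240 161217 s7u516 s7c517 rfl
theorem s7u518 : ∀ v, 1 ≤ v → v ≤ 161474 → fs7 v = true := slots_step fs7 161217 257 161474 s7u517 s7c518 rfl
theorem s7u519 : ∀ v, 1 ≤ v → v ≤ 161743 → fs7 v = true := slots_step fs7 161474 269 161743 s7u518 s7c519 rfl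
theorem s7u520 : ∀ v, 1 ≤ v → v ≤ 162004 → fs7 v = true := slots_step fs7 161743 261 162004 s7u519 s7c520 rfl
theorem s7u521 : ∀ v, 1 ≤ v → v ≤ 162260 → fs7 v = true := slots_step fs7 162004 256 162260 s7u520 s7c521 rfl
theorem s7u522 : ∀ v, 1 ≤ v → v ≤ 162494 → fs7 v = true := slots_step fs7 162260 234 162494 s7u521 s7c522 rfl
theorem s7u523 : ∀ v, 1 ≤ v → v ≤ 162760 → fs7 v = true := slots_step fs7 162494 266 162760 s7u522 s7c523 rfl
theorem s7u524 : ∀ v, 1 ≤ v → v ≤ 163013 → fs7 v = true := slots_step fs7 162760 253 163013 s7u523 s7c524 rfl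
theorem s7u525 : ∀ v, 1 ≤ v → v ≤ 163286 → fs7 v = true := slots_step fs7 163013 273 163286 s7u524 s7c525 rfl
theorem s7u526 : ∀ v, 1 ≤ v → v ≤ 163544 → fs7 v = true := slots_step fs7 163286 258 163544 s7u525 s7c526 rfl
theorem s7u527 : ∀ v, 1 ≤ v → v ≤ 163817 → fs7 v = true := slots_step fs7 163544 273 163817 s7u526 s7c527 rfl
theorem s7u528 : ∀ v, 1 ≤ v → v ≤ 164097 → fs7 v = true := slots_step fs7 163817 280 164097 s7u527 s7c528 rfl
theorem s7u529 : ∀ v, 1 ≤ v → v ≤ 164372 → fs7 v = true := slots_step fs7 164097 275 164372 s7u528 s7c529 rfl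
theorem s7u530 : ∀ v, 1 ≤ v → v ≤ 164646 → fs7 v = true := slots_step fs7 164372 274 164646 s7u529 s7c530 rfl
theorem s7u531 : ∀ v, 1 ≤ v → v ≤ 164909 → fs7 v = true := slots_step fs7 164646 263 164909 s7u530 s7c531 rfl
theorem s7u532 : ∀ v, 1 ≤ v → v ≤ 165165 → fs7 v = true := slots_step fs7 164909 256 165165 s7u531 s7c532 rfl
theorem s7u533 : ∀ v, 1 ≤ v → v ≤ 165441 → fs7 v = true := slots_step fs7 165165 276 165441 s7u532 s7c533 rfl
theorem s7u534 : ∀ v, 1 ≤ v → v ≤ 165711 → fs7 v = true := slots_step fs7 165441 270 165711 s7u533 s7c534 rfl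
theorem s7u535 : ∀ v, 1 ≤ v → v ≤ 165970 → fs7 v = true := slots_step fs7 165711 259 165970 s7u534 s7c535 rfl
theorem s7u536 : ∀ v, 1 ≤ v → v ≤ 166207 → fs7 v = true := slots_step fs7 165970 237 166207 s7u535 s7c536 rfl
theorem s7u537 : ∀ v, 1 ≤ v → v ≤ 166456 → fs7 v = true := slots_step fs7 166207 249 166456 s7u536 s7c537 rfl
theorem s7u538 : ∀ v, 1 ≤ v → v ≤ 166719 → fs7 v = true := slots_step fs7 166456 263 166719 s7u537 s7c538 rfl
theorem s7u539 : ∀ v, 1 ≤ v → v ≤ 166985 → fs7 v = true := slots_step fs7 166719 266 166985 s7u538 s7c539 rfl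
theorem s7u540 : ∀ v, 1 ≤ v → v ≤ 167265 → fs7 v = true := slots_step fs7 166985 280 167265 s7u539 s7c540 rfl
theorem s7u541 : ∀ v, 1 ≤ v → v ≤ 167548 → fs7 v = true := slots_step fs7 167265 283 167548 s7u540 s7c541 rfl
theorem s7u542 : ∀ v, 1 ≤ v → v ≤ 167828 → fs7 v = true := slots_step fs7 167548 280 167828 s7u541 s7c542 rfl
theorem s7u543 : ∀ v, 1 ≤ v → v ≤ 168104 → fs7 v = true := slots_step fs7 167828 276 168104 s7u542 s7c543 rfl
theorem s7u544 : ∀ v, 1 ≤ v → v ≤ 168368 → fs7 v = true := slots_step fs7 168104 264 168368 s7u543 s7c544 rfl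
theorem s7u545 : ∀ v, 1 ≤ v → v ≤ 168628 → fs7 v = true := slots_step fs7 168368 260 168628 s7u544 s7c545 rfl
theorem s7u546 : ∀ v, 1 ≤ v → v ≤ 168875 → fs7 v = true := slots_step fs7 168628 247 168875 s7u545 s7c546 rfl
theorem s7u547 : ∀ v, 1 ≤ v → v ≤ 169140 → fs7 v = true := slots_step fs7 168875 265 169140 s7u546 s7c547 rfl
theorem s7u548 : ∀ v, 1 ≤ v → v ≤ 169411 → fs7 v = true := slots_step fs7 169140 271 169411 s7u547 s7c548 rfl
theorem s7u549 : ∀ v, 1 ≤ v → v ≤ 169672 → fs7 v = true := slots_step fs7 169411 261 169672 s7u548 s7c549 rfl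
theorem s7u550 : ∀ v, 1 ≤ v → v ≤ 169945 → fs7 v = true := slots_step fs7 169672 273 169945 s7u549 s7c550 rfl
theorem s7u551 : ∀ v, 1 ≤ v → v ≤ 170214 → fs7 v = true := slots_step fs7 169945 269 170214 s7u550 s7c551 rfl
theorem s7u552 : ∀ v, 1 ≤ v → v ≤ 170465 → fs7 v = true := slots_step fs7 170214 251 170465 s7u551 s7c552 rfl
theorem s7u553 : ∀ v, 1 ≤ v → v ≤ 170715 → fs7 v = true := slots_step fs7 170465 250 170715 s7u552 s7c553 rfl
theorem s7u554 : ∀ v, 1 ≤ v → v ≤ 170983 → fs7 v = true := slots_step fs7 170715 268 170983 s7u553 s7c554 rfl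
theorem s7u555 : ∀ v, 1 ≤ v → v ≤ 171255 → fs7 v = true := slots_step fs7 170983 272 171255 s7u554 s7c555 rfl
theorem s7u556 : ∀ v, 1 ≤ v → v ≤ 171514 → fs7 v = true := slots_step fs7 171255 259 171514 s7u555 s7c556 rfl
theorem s7u557 : ∀ v, 1 ≤ v → v ≤ 171774 → fs7 v = true := slots_step fs7 171514 260 171774 s7u556 s7c557 rfl
theorem s7u558 : ∀ v, 1 ≤ v → v ≤ 172041 → fs7 v = true := slots_step fs7 171774 267 172041 s7u557 s7c558 rfl
theorem s7u559 : ∀ v, 1 ≤ v → v ≤ 172312 → fs7 v = true := slots_step fs7 172041 271 172312 s7u558 s7c559 rfl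
theorem s7u560 : ∀ v, 1 ≤ v → v ≤ 172588 → fs7 v = true := slots_step fs7 172312 276 172588 s7u559 s7c560 rfl
theorem s7u561 : ∀ v, 1 ≤ v → v ≤ 172875 → fs7 v = true := slots_step fs7 172588 287 172875 s7u560 s7c561 rfl
theorem s7u562 : ∀ v, 1 ≤ v → v ≤ 173158 → fs7 v = true := slots_step fs7 172875 283 173158 s7u561 s7c562 rfl
theorem s7u563 : ∀ v, 1 ≤ v → v ≤ 173438 → fs7 v = true := slots_step fs7 173158 280 173438 s7u562 s7c563 rfl
theorem s7u564 : ∀ v, 1 ≤ v → v ≤ 173719 → fs7 v = true := slots_step fs7 173438 281 173719 s7u563 s7c564 rfl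
theorem s7u565 : ∀ v, 1 ≤ v → v ≤ 173997 → fs7 v = true := slots_step fs7 173719 278 173997 s7u564 s7c565 rfl
theorem s7u566 : ∀ v, 1 ≤ v → v ≤ 174277 → fs7 v = true := slots_step fs7 173997 280 174277 s7u565 s7c566 rfl
theorem s7u567 : ∀ v, 1 ≤ v → v ≤ 174554 → fs7 v = true := slots_step fs7 174277 277 174554 s7u566 s7c567 rfl
theorem s7u568 : ∀ v, 1 ≤ v → v ≤ 174834 → fs7 v = true := slots_step fs7 174554 280 174834 s7u567 s7c568 rfl
theorem s7u569 : ∀ v, 1 ≤ v → v ≤ 175084 → fs7 v = true := slots_step fs7 174834 250 175084 s7u568 s7c569 rfl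
theorem s7u570 : ∀ v, 1 ≤ v → v ≤ 175358 → fs7 v = true := slots_step fs7 175084 274 175358 s7u569 s7c570 rfl
theorem s7u571 : ∀ v, 1 ≤ v → v ≤ 175636 → fs7 v = true := slots_step fs7 175358 278 175636 s7u570 s7c571 rfl
theorem s7u572 : ∀ v, 1 ≤ v → v ≤ 175907 → fs7 v = true := slots_step fs7 175636 271 175907 s7u571 s7c572 rfl
theorem s7u573 : ∀ v, 1 ≤ v → v ≤ 176193 → fs7 v = true := slots_step fs7 175907 286 176193 s7u572 s7c573 rfl
theorem s7u574 : ∀ v, 1 ≤ v → v ≤ 176476 → fs7 v = true := slots_step fs7 176193 283 176476 s7u573 s7c574 rfl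
theorem s7u575 : ∀ v, 1 ≤ v → v ≤ 176725 → fs7 v = true := slots_step fs7 176476 249 176725 s7u574 s7c575 rfl
theorem s7u576 : ∀ v, 1 ≤ v → v ≤ 177008 → fs7 v = true := slots_step fs7 176725 283 177008 s7u575 s7c576 rfl
theorem s7u577 : ∀ v, 1 ≤ v → v ≤ 177274 → fs7 v = true := slots_step fs7 177008 266 177274 s7u576 s7c577 rfl
theorem s7u578 : ∀ v, 1 ≤ v → v ≤ 177526 → fs7 v = true := slots_step fs7 177274 252 177526 s7u577 s7c578 rfl
theorem s7u579 : ∀ v, 1 ≤ v → v ≤ 177784 → fs7 v = true := slots_step fs7 177526 258 177784 s7u578 s7c579 rfl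
theorem s7u580 : ∀ v, 1 ≤ v → v ≤ 178022 → fs7 v = true := slots_step fs7 177784 238 178022 s7u579 s7c580 rfl
theorem s7u581 : ∀ v, 1 ≤ v → v ≤ 178282 → fs7 v = true := slots_step fs7 178022 260 178282 s7u580 s7c581 rfl
theorem s7u582 : ∀ v, 1 ≤ v → v ≤ 178550 → fs7 v = true := slots_step fs7 178282 268 178550 s7u581 s7c582 rfl
theorem s7u583 : ∀ v, 1 ≤ v → v ≤ 178812 → fs7 v = true := slots_step fs7 178550 262 178812 s7u582 s7c583 rfl
theorem s7u584 : ∀ v, 1 ≤ v → v ≤ 179074 → fs7 v = true := slots_step fs7 178812 262 179074 s7u583 s7c584 rfl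
theorem s7u585 : ∀ v, 1 ≤ v → v ≤ 179333 → fs7 v = true := slots_step fs7 179074 259 179333 s7u584 s7c585 rfl
theorem s7u586 : ∀ v, 1 ≤ v → v ≤ 179595 → fs7 v = true := slots_step fs7 179333 262 179595 s7u585 s7c586 rfl
theorem s7u587 : ∀ v, 1 ≤ v → v ≤ 179856 → fs7 v = true := slots_step fs7 179595 261 179856 s7u586 s7c587 rfl
theorem s7u588 : ∀ v, 1 ≤ v → v ≤ 180123 → fs7 v = true := slots_step fs7 179856 267 180123 s7u587 s7c588 rfl
theorem s7u589 : ∀ v, 1 ≤ v → v ≤ 180382 → fs7 v = true := slots_step fs7 180123 259 180382 s7u588 s7c589 rfl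
theorem s7u590 : ∀ v, 1 ≤ v → v ≤ 180637 → fs7 v = true := slots_step fs7 180382 255 180637 s7u589 s7c590 rfl
theorem s7u591 : ∀ v, 1 ≤ v → v ≤ 180873 → fs7 v = true := slots_step fs7 180637 236 180873 s7u590 s7c591 rfl
theorem s7u592 : ∀ v, 1 ≤ v → v ≤ 181122 → fs7 v = true := slots_step fs7 180873 249 181122 s7u591 s7c592 rfl
theorem s7u593 : ∀ v, 1 ≤ v → v ≤ 181368 → fs7 v = true := slots_step fs7 181122 246 181368 s7u592 s7c593 rfl
theorem s7u594 : ∀ v, 1 ≤ v → v ≤ 181634 → fs7 v = true := slots_step fs7 181368 266 181634 s7u593 s7c594 rfl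
theorem s7u595 : ∀ v, 1 ≤ v → v ≤ 181897 → fs7 v = true := slots_step fs7 181634 263 181897 s7u594 s7c595 rfl
theorem s7u596 : ∀ v, 1 ≤ v → v ≤ 182158 → fs7 v = true := slots_step fs7 181897 261 182158 s7u595 s7c596 rfl
theorem s7u597 : ∀ v, 1 ≤ v → v ≤ 182424 → fs7 v = true := slots_step fs7 182158 266 182424 s7u596 s7c597 rfl
theorem s7u598 : ∀ v, 1 ≤ v → v ≤ 182668 → fs7 v = true := slots_step fs7 182424 244 182668 s7u597 s7c598 rfl
theorem s7u599 : ∀ v, 1 ≤ v → v ≤ 182925 → fs7 v = true := slots_step fs7 182668 257 182925 s7u598 s7c599 rfl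
theorem s7u600 : ∀ v, 1 ≤ v → v ≤ 183186 → fs7 v = true := slots_step fs7 182925 261 183186 s7u599 s7c600 rfl
theorem s7u601 : ∀ v, 1 ≤ v → v ≤ 183446 → fs7 v = true := slots_step fs7 183186 260 183446 s7u600 s7c601 rfl
theorem s7u602 : ∀ v, 1 ≤ v → v ≤ 183716 → fs7 v = true := slots_step fs7 183446 270 183716 s7u601 s7c602 rfl
theorem s7u603 : ∀ v, 1 ≤ v → v ≤ 183981 → fs7 v = true := slots_step fs7 183716 265 183981 s7u602 s7c603 rfl
theorem s7u604 : ∀ v, 1 ≤ v → v ≤ 184257 → fs7 v = true := slots_step fs7 183981 276 184257 s7u603 s7c604 rfl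
theorem s7u605 : ∀ v, 1 ≤ v → v ≤ 184538 → fs7 v = true := slots_step fs7 184257 281 184538 s7u604 s7c605 rfl
theorem s7u606 : ∀ v, 1 ≤ v → v ≤ 184810 → fs7 v = true := slots_step fs7 184538 272 184810 s7u605 s7c606 rfl
theorem s7u607 : ∀ v, 1 ≤ v → v ≤ 185083 → fs7 v = true := slots_step fs7 184810 273 185083 s7u606 s7c607 rfl
theorem s7u608 : ∀ v, 1 ≤ v → v ≤ 185358 → fs7 v = true := slots_step fs7 185083 275 185358 s7u607 s7c608 rfl
theorem s7u609 : ∀ v, 1 ≤ v → v ≤ 185606 → fs7 v = true := slots_step fs7 185358 248 185606 s7u608 s7c609 rfl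
theorem s7u610 : ∀ v, 1 ≤ v → v ≤ 185878 → fs7 v = true := slots_step fs7 185606 272 185878 s7u609 s7c610 rfl
theorem s7u611 : ∀ v, 1 ≤ v → v ≤ 186138 → fs7 v = true := slots_step fs7 185878 260 186138 s7u610 s7c611 rfl
theorem s7u612 : ∀ v, 1 ≤ v → v ≤ 186414 → fs7 v = true := slots_step fs7 186138 276 186414 s7u611 s7c612 rfl
theorem s7u613 : ∀ v, 1 ≤ v → v ≤ 186645 → fs7 v = true := slots_step fs7 186414 231 186645 s7u612 s7c613 rfl
theorem s7u614 : ∀ v, 1 ≤ v → v ≤ 186897 → fs7 v = true := slots_step fs7 186645 252 186897 s7u613 s7c614 rfl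
theorem s7u615 : ∀ v, 1 ≤ v → v ≤ 187167 → fs7 v = true := slots_step fs7 186897 270 187167 s7u614 s7c615 rfl
theorem s7u616 : ∀ v, 1 ≤ v → v ≤ 187437 → fs7 v = true := slots_step fs7 187167 270 187437 s7u615 s7c616 rfl
theorem s7u617 : ∀ v, 1 ≤ v → v ≤ 187712 → fs7 v = true := slots_step fs7 187437 275 187712 s7u616 s7c617 rfl
theorem s7u618 : ∀ v, 1 ≤ v → v ≤ 187996 → fs7 v = true := slots_step fs7 187712 284 187996 s7u617 s7c618 rfl
theorem s7u619 : ∀ v, 1 ≤ v → v ≤ 188275 → fs7 v = true := slots_step fs7 187996 279 188275 s7u618 s7c619 rfl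
theorem s7u620 : ∀ v, 1 ≤ v → v ≤ 188548 → fs7 v = true := slots_step fs7 188275 273 188548 s7u619 s7c620 rfl
theorem s7u621 : ∀ v, 1 ≤ v → v ≤ 188812 → fs7 v = true := slots_step fs7 188548 264 188812 s7u620 s7c621 rfl
theorem s7u622 : ∀ v, 1 ≤ v → v ≤ 189070 → fs7 v = true := slots_step fs7 188812 258 189070 s7u621 s7c622 rfl
theorem s7u623 : ∀ v, 1 ≤ v → v ≤ 189326 → fs7 v = true := slots_step fs7 189070 256 189326 s7u622 s7c623 rfl
theorem s7u624 : ∀ v, 1 ≤ v → v ≤ 189587 → fs7 v = true := slots_step fs7 189326 261 189587 s7u623 s7c624 rfl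
theorem s7u625 : ∀ v, 1 ≤ v → v ≤ 189860 → fs7 v = true := slots_step fs7 189587 273 189860 s7u624 s7c625 rfl
theorem s7u626 : ∀ v, 1 ≤ v → v ≤ 190133 → fs7 v = true := slots_step fs7 189860 273 190133 s7u625 s7c626 rfl
theorem s7u627 : ∀ v, 1 ≤ v → v ≤ 190394 → fs7 v = true := slots_step fs7 190133 261 190394 s7u626 s7c627 rfl
theorem s7u628 : ∀ v, 1 ≤ v → v ≤ 190658 → fs7 v = true := slots_step fs7 190394 264 190658 s7u627 s7c628 rfl
theorem s7u629 : ∀ v, 1 ≤ v → v ≤ 190932 → fs7 v = true := slots_step fs7 190658 274 190932 s7u628 s7c629 rfl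
theorem s7u630 : ∀ v, 1 ≤ v → v ≤ 191196 → fs7 v = true := slots_step fs7 190932 264 191196 s7u629 s7c630 rfl
theorem s7u631 : ∀ v, 1 ≤ v → v ≤ 191444 → fs7 v = true := slots_step fs7 191196 248 191444 s7u630 s7c631 rfl
theorem s7u632 : ∀ v, 1 ≤ v → v ≤ 191694 → fs7 v = true := slots_step fs7 191444 250 191694 s7u631 s7c632 rfl
theorem s7u633 : ∀ v, 1 ≤ v → v ≤ 191963 → fs7 v = true := slots_step fs7 191694 269 191963 s7u632 s7c633 rfl
theorem s7u634 : ∀ v, 1 ≤ v → v ≤ 192233 → fs7 v = true := slots_step fs7 191963 270 192233 s7u633 s7c634 rfl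
theorem s7u635 : ∀ v, 1 ≤ v → v ≤ 192490 → fs7 v = true := slots_step fs7 192233 257 192490 s7u634 s7c635 rfl
theorem s7u636 : ∀ v, 1 ≤ v → v ≤ 192750 → fs7 v = true := slots_step fs7 192490 260 192750 s7u635 s7c636 rfl
theorem s7u637 : ∀ v, 1 ≤ v → v ≤ 193023 → fs7 v = true := slots_step fs7 192750 273 193023 s7u636 s7c637 rfl
theorem s7u638 : ∀ v, 1 ≤ v → v ≤ 193299 → fs7 v = true := slots_step fs7 193023 276 193299 s7u637 s7c638 rfl
theorem s7u639 : ∀ v, 1 ≤ v → v ≤ 193567 → fs7 v = true := slots_step fs7 193299 268 193567 s7u638 s7c639 rfl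
theorem s7u640 : ∀ v, 1 ≤ v → v ≤ 193854 → fs7 v = true := slots_step fs7 193567 287 193854 s7u639 s7c640 rfl
theorem s7u641 : ∀ v, 1 ≤ v → v ≤ 194142 → fs7 v = true := slots_step fs7 193854 288 194142 s7u640 s7c641 rfl
theorem s7u642 : ∀ v, 1 ≤ v → v ≤ 194423 → fs7 v = true := slots_step fs7 194142 281 194423 s7u641 s7c642 rfl
theorem s7u643 : ∀ v, 1 ≤ v → v ≤ 194699 → fs7 v = true := slots_step fs7 194423 276 194699 s7u642 s7c643 rfl
theorem s7u644 : ∀ v, 1 ≤ v → v ≤ 194982 → fs7 v = true := slots_step fs7 194699 283 194982 s7u643 s7c644 rfl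
theorem s7u645 : ∀ v, 1 ≤ v → v ≤ 195265 → fs7 v = true := slots_step fs7 194982 283 195265 s7u644 s7c645 rfl
theorem s7u646 : ∀ v, 1 ≤ v → v ≤ 195540 → fs7 v = true := slots_step fs7 195265 275 195540 s7u645 s7c646 rfl
theorem s7u647 : ∀ v, 1 ≤ v → v ≤ 195817 → fs7 v = true := slots_step fs7 195540 277 195817 s7u646 s7c647 rfl
theorem s7u648 : ∀ v, 1 ≤ v → v ≤ 196098 → fs7 v = true := slots_step fs7 195817 281 196098 s7u647 s7c648 rfl
theorem s7u649 : ∀ v, 1 ≤ v → v ≤ 196383 → fs7 v = true := slots_step fs7 196098 285 196383 s7u648 s7c649 rfl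
theorem s7u650 : ∀ v, 1 ≤ v → v ≤ 196639 → fs7 v = true := slots_step fs7 196383 256 196639 s7u649 s7c650 rfl
theorem s7u651 : ∀ v, 1 ≤ v → v ≤ 196913 → fs7 v = true := slots_step fs7 196639 274 196913 s7u650 s7c651 rfl
theorem s7u652 : ∀ v, 1 ≤ v → v ≤ 197186 → fs7 v = true := slots_step fs7 196913 273 197186 s7u651 s7c652 rfl
theorem s7u653 : ∀ v, 1 ≤ v → v ≤ 197460 → fs7 v = true := slots_step fs7 197186 274 197460 s7u652 s7c653 rfl
theorem s7u654 : ∀ v, 1 ≤ v → v ≤ 197743 → fs7 v = true := slots_step fs7 197460 283 197743 s7u653 s7c654 rfl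
theorem s7u655 : ∀ v, 1 ≤ v → v ≤ 198020 → fs7 v = true := slots_step fs7 197743 277 198020 s7u654 s7c655 rfl
theorem s7u656 : ∀ v, 1 ≤ v → v ≤ 198304 → fs7 v = true := slots_step fs7 198020 284 198304 s7u655 s7c656 rfl
theorem s7u657 : ∀ v, 1 ≤ v → v ≤ 198593 → fs7 v = true := slots_step fs7 198304 289 198593 s7u656 s7c657 rfl
theorem s7u658 : ∀ v, 1 ≤ v → v ≤ 198847 → fs7 v = true := slots_step fs7 198593 254 198847 s7u657 s7c658 rfl
theorem s7u659 : ∀ v, 1 ≤ v → v ≤ 199098 → fs7 v = true := slots_step fs7 198847 251 199098 s7u658 s7c659 rfl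
theorem s7u660 : ∀ v, 1 ≤ v → v ≤ 199343 → fs7 v = true := slots_step fs7 199098 245 199343 s7u659 s7c660 rfl
theorem s7u661 : ∀ v, 1 ≤ v → v ≤ 199608 → fs7 v = true := slots_step fs7 199343 265 199608 s7u660 s7c661 rfl
theorem s7u662 : ∀ v, 1 ≤ v → v ≤ 199864 → fs7 v = true := slots_step fs7 199608 256 199864 s7u661 s7c662 rfl
theorem s7u663 : ∀ v, 1 ≤ v → v ≤ 200120 → fs7 v = true := slots_step fs7 199864 256 200120 s7u662 s7c663 rfl
theorem s7u664 : ∀ v, 1 ≤ v → v ≤ 200387 → fs7 v = true := slots_step fs7 200120 267 200387 s7u663 s7c664 rfl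
theorem s7u665 : ∀ v, 1 ≤ v → v ≤ 200644 → fs7 v = true := slots_step fs7 200387 257 200644 s7u664 s7c665 rfl
theorem s7u666 : ∀ v, 1 ≤ v → v ≤ 200904 → fs7 v = true := slots_step fs7 200644 260 200904 s7u665 s7c666 rfl
theorem s7u667 : ∀ v, 1 ≤ v → v ≤ 201155 → fs7 v = true := slots_step fs7 200904 251 201155 s7u666 s7c667 rfl
theorem s7u668 : ∀ v, 1 ≤ v → v ≤ 201418 → fs7 v = true := slots_step fs7 201155 263 201418 s7u667 s7c668 rfl
theorem s7u669 : ∀ v, 1 ≤ v → v ≤ 201678 → fs7 v = true := slots_step fs7 201418 260 201678 s7u668 s7c669 rfl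
theorem s7u670 : ∀ v, 1 ≤ v → v ≤ 201928 → fs7 v = true := slots_step fs7 201678 250 201928 s7u669 s7c670 rfl
theorem s7u671 : ∀ v, 1 ≤ v → v ≤ 202181 → fs7 v = true := slots_step fs7 201928 253 202181 s7u670 s7c671 rfl
theorem s7u672 : ∀ v, 1 ≤ v → v ≤ 202423 → fs7 v = true := slots_step fs7 202181 242 202423 s7u671 s7c672 rfl
theorem s7u673 : ∀ v, 1 ≤ v → v ≤ 202675 → fs7 v = true := slots_step fs7 202423 252 202675 s7u672 s7c673 rfl
theorem s7u674 : ∀ v, 1 ≤ v → v ≤ 202934 → fs7 v = true := slots_step fs7 202675 259 202934 s7u673 s7c674 rfl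
theorem s7u675 : ∀ v, 1 ≤ v → v ≤ 203205 → fs7 v = true := slots_step fs7 202934 271 203205 s7u674 s7c675 rfl
theorem s7u676 : ∀ v, 1 ≤ v → v ≤ 203465 → fs7 v = true := slots_step fs7 203205 260 203465 s7u675 s7c676 rfl
theorem s7u677 : ∀ v, 1 ≤ v → v ≤ 203721 → fs7 v = true := slots_step fs7 203465 256 203721 s7u676 s7c677 rfl
theorem s7u678 : ∀ v, 1 ≤ v → v ≤ 203987 → fs7 v = true := slots_step fs7 203721 266 203987 s7u677 s7c678 rfl
theorem s7u679 : ∀ v, 1 ≤ v → v ≤ 204240 → fs7 v = true := slots_step fs7 203987 253 204240 s7u678 s7c679 rfl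
theorem s7u680 : ∀ v, 1 ≤ v → v ≤ 204480 → fs7 v = true := slots_step fs7 204240 240 204480 s7u679 s7c680 rfl
theorem s7u681 : ∀ v, 1 ≤ v → v ≤ 204749 → fs7 v = true := slots_step fs7 204480 269 204749 s7u680 s7c681 rfl
theorem s7u682 : ∀ v, 1 ≤ v → v ≤ 205000 → fs7 v = true := slots_step fs7 204749 251 205000 s7u681 s7c682 rfl
theorem s7u683 : ∀ v, 1 ≤ v → v ≤ 205272 → fs7 v = true := slots_step fs7 205000 272 205272 s7u682 s7c683 rfl
theorem s7u684 : ∀ v, 1 ≤ v → v ≤ 205536 → fs7 v = true := slots_step fs7 205272 264 205536 s7u683 s7c684 rfl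
theorem s7u685 : ∀ v, 1 ≤ v → v ≤ 205812 → fs7 v = true := slots_step fs7 205536 276 205812 s7u684 s7c685 rfl
theorem s7u686 : ∀ v, 1 ≤ v → v ≤ 206089 → fs7 v = true := slots_step fs7 205812 277 206089 s7u685 s7c686 rfl
theorem s7u687 : ∀ v, 1 ≤ v → v ≤ 206370 → fs7 v = true := slots_step fs7 206089 281 206370 s7u686 s7c687 rfl
theorem s7u688 : ∀ v, 1 ≤ v → v ≤ 206649 → fs7 v = true := slots_step fs7 206370 279 206649 s7u687 s7c688 rfl
theorem s7u689 : ∀ v, 1 ≤ v → v ≤ 206917 → fs7 v = true := slots_step fs7 206649 268 206917 s7u688 s7c689 rfl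
theorem s7u690 : ∀ v, 1 ≤ v → v ≤ 207195 → fs7 v = true := slots_step fs7 206917 278 207195 s7u689 s7c690 rfl
theorem s7u691 : ∀ v, 1 ≤ v → v ≤ 207465 → fs7 v = true := slots_step fs7 207195 270 207465 s7u690 s7c691 rfl
theorem s7u692 : ∀ v, 1 ≤ v → v ≤ 207728 → fs7 v = true := slots_step fs7 207465 263 207728 s7u691 s7c692 rfl
theorem s7u693 : ∀ v, 1 ≤ v → v ≤ 207990 → fs7 v = true := slots_step fs7 207728 262 207990 s7u692 s7c693 rfl
theorem s7u694 : ∀ v, 1 ≤ v → v ≤ 208261 → fs7 v = true := slots_step fs7 207990 271 208261 s7u693 s7c694 rfl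
theorem s7u695 : ∀ v, 1 ≤ v → v ≤ 208520 → fs7 v = true := slots_step fs7 208261 259 208520 s7u694 s7c695 rfl
theorem s7u696 : ∀ v, 1 ≤ v → v ≤ 208787 → fs7 v = true := slots_step fs7 208520 267 208787 s7u695 s7c696 rfl
theorem s7u697 : ∀ v, 1 ≤ v → v ≤ 209058 → fs7 v = true := slots_step fs7 208787 271 209058 s7u696 s7c697 rfl
theorem s7u698 : ∀ v, 1 ≤ v → v ≤ 209330 → fs7 v = true := slots_step fs7 209058 272 209330 s7u697 s7c698 rfl
theorem s7u699 : ∀ v, 1 ≤ v → v ≤ 209607 → fs7 v = true := slots_step fs7 209330 277 209607 s7u698 s7c699 rfl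
theorem s7u700 : ∀ v, 1 ≤ v → v ≤ 209884 → fs7 v = true := slots_step fs7 209607 277 209884 s7u699 s7c700 rfl
theorem s7u701 : ∀ v, 1 ≤ v → v ≤ 210164 → fs7 v = true := slots_step fs7 209884 280 210164 s7u700 s7c701 rfl
theorem s7u702 : ∀ v, 1 ≤ v → v ≤ 210438 → fs7 v = true := slots_step fs7 210164 274 210438 s7u701 s7c702 rfl
theorem s7u703 : ∀ v, 1 ≤ v → v ≤ 210713 → fs7 v = true := slots_step fs7 210438 275 210713 s7u702 s7c703 rfl
theorem s7u704 : ∀ v, 1 ≤ v → v ≤ 210969 → fs7 v = true := slots_step fs7 210713 256 210969 s7u703 s7c704 rfl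
theorem s7u705 : ∀ v, 1 ≤ v → v ≤ 211232 → fs7 v = true := slots_step fs7 210969 263 211232 s7u704 s7c705 rfl
theorem s7u706 : ∀ v, 1 ≤ v → v ≤ 211493 → fs7 v = true := slots_step fs7 211232 261 211493 s7u705 s7c706 rfl
theorem s7u707 : ∀ v, 1 ≤ v → v ≤ 211763 → fs7 v = true := slots_step fs7 211493 270 211763 s7u706 s7c707 rfl
theorem s7u708 : ∀ v, 1 ≤ v → v ≤ 212038 → fs7 v = true := slots_step fs7 211763 275 212038 s7u707 s7c708 rfl
theorem s7u709 : ∀ v, 1 ≤ v → v ≤ 212306 → fs7 v = true := slots_step fs7 212038 268 212306 s7u708 s7c709 rfl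
theorem s7u710 : ∀ v, 1 ≤ v → v ≤ 212568 → fs7 v = true := slots_step fs7 212306 262 212568 s7u709 s7c710 rfl
theorem s7u711 : ∀ v, 1 ≤ v → v ≤ 212831 → fs7 v = true := slots_step fs7 212568 263 212831 s7u710 s7c711 rfl
theorem s7u712 : ∀ v, 1 ≤ v → v ≤ 213102 → fs7 v = true := slots_step fs7 212831 271 213102 s7u711 s7c712 rfl
theorem s7u713 : ∀ v, 1 ≤ v → v ≤ 213366 → fs7 v = true := slots_step fs7 213102 264 213366 s7u712 s7c713 rfl
theorem s7u714 : ∀ v, 1 ≤ v → v ≤ 213631 → fs7 v = true := slots_step fs7 213366 265 213631 s7u713 s7c714 rfl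
theorem s7u715 : ∀ v, 1 ≤ v → v ≤ 213879 → fs7 v = true := slots_step fs7 213631 248 213879 s7u714 s7c715 rfl
theorem s7u716 : ∀ v, 1 ≤ v → v ≤ 214127 → fs7 v = true := slots_step fs7 213879 248 214127 s7u715 s7c716 rfl
theorem s7u717 : ∀ v, 1 ≤ v → v ≤ 214398 → fs7 v = true := slots_step fs7 214127 271 214398 s7u716 s7c717 rfl
theorem s7u718 : ∀ v, 1 ≤ v → v ≤ 214663 → fs7 v = true := slots_step fs7 214398 265 214663 s7u717 s7c718 rfl
theorem s7u719 : ∀ v, 1 ≤ v → v ≤ 214926 → fs7 v = true := slots_step fs7 214663 263 214926 s7u718 s7c719 rfl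
theorem s7u720 : ∀ v, 1 ≤ v → v ≤ 215185 → fs7 v = true := slots_step fs7 214926 259 215185 s7u719 s7c720 rfl
theorem s7u721 : ∀ v, 1 ≤ v → v ≤ 215460 → fs7 v = true := slots_step fs7 215185 275 215460 s7u720 s7c721 rfl
theorem s7u722 : ∀ v, 1 ≤ v → v ≤ 215732 → fs7 v = true := slots_step fs7 215460 272 215732 s7u721 s7c722 rfl
theorem s7u723 : ∀ v, 1 ≤ v → v ≤ 216005 → fs7 v = true := slots_step fs7 215732 273 216005 s7u722 s7c723 rfl
theorem s7u724 : ∀ v, 1 ≤ v → v ≤ 216286 → fs7 v = true := slots_step fs7 216005 281 216286 s7u723 s7c724 rfl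
theorem s7u725 : ∀ v, 1 ≤ v → v ≤ 216573 → fs7 v = true := slots_step fs7 216286 287 216573 s7u724 s7c725 rfl
theorem s7u726 : ∀ v, 1 ≤ v → v ≤ 216859 → fs7 v = true := slots_step fs7 216573 286 216859 s7u725 s7c726 rfl
theorem s7u727 : ∀ v, 1 ≤ v → v ≤ 217143 → fs7 v = true := slots_step fs7 216859 284 217143 s7u726 s7c727 rfl
theorem s7u728 : ∀ v, 1 ≤ v → v ≤ 217421 → fs7 v = true := slots_step fs7 217143 278 217421 s7u727 s7c728 rfl
theorem s7u729 : ∀ v, 1 ≤ v → v ≤ 217700 → fs7 v = true := slots_step fs7 217421 279 217700 s7u728 s7c729 rfl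
theorem s7u730 : ∀ v, 1 ≤ v → v ≤ 217978 → fs7 v = true := slots_step fs7 217700 278 217978 s7u729 s7c730 rfl
theorem s7u731 : ∀ v, 1 ≤ v → v ≤ 218261 → fs7 v = true := slots_step fs7 217978 283 218261 s7u730 s7c731 rfl
theorem s7u732 : ∀ v, 1 ≤ v → v ≤ 218540 → fs7 v = true := slots_step fs7 218261 279 218540 s7u731 s7c732 rfl
theorem s7u733 : ∀ v, 1 ≤ v → v ≤ 218817 → fs7 v = true := slots_step fs7 218540 277 218817 s7u732 s7c733 rfl
theorem s7u734 : ∀ v, 1 ≤ v → v ≤ 219098 → fs7 v = true := slots_step fs7 218817 281 219098 s7u733 s7c734 rfl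
theorem s7u735 : ∀ v, 1 ≤ v → v ≤ 219382 → fs7 v = true := slots_step fs7 219098 284 219382 s7u734 s7c735 rfl
theorem s7u736 : ∀ v, 1 ≤ v → v ≤ 219644 → fs7 v = true := slots_step fs7 219382 262 219644 s7u735 s7c736 rfl
theorem s7u737 : ∀ v, 1 ≤ v → v ≤ 219916 → fs7 v = true := slots_step fs7 219644 272 219916 s7u736 s7c737 rfl
theorem s7u738 : ∀ v, 1 ≤ v → v ≤ 220188 → fs7 v = true := slots_step fs7 219916 272 220188 s7u737 s7c738 rfl
theorem s7u739 : ∀ v, 1 ≤ v → v ≤ 220468 → fs7 v = true := slots_step fs7 220188 280 220468 s7u738 s7c739 rfl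
theorem s7u740 : ∀ v, 1 ≤ v → v ≤ 220752 → fs7 v = true := slots_step fs7 220468 284 220752 s7u739 s7c740 rfl
theorem s7u741 : ∀ v, 1 ≤ v → v ≤ 221038 → fs7 v = true := slots_step fs7 220752 286 221038 s7u740 s7c741 rfl
theorem s7u742 : ∀ v, 1 ≤ v → v ≤ 221349 → fs7 v = true := slots_step fs7 221038 311 221349 s7u741 s7c742 rfl
theorem s7u743 : ∀ v, 1 ≤ v → v ≤ 221611 → fs7 v = true := slots_step fs7 221349 262 221611 s7u742 s7c743 rfl
theorem s7u744 : ∀ v, 1 ≤ v → v ≤ 221865 → fs7 v = true := slots_step fs7 221611 254 221865 s7u743 s7c744 rfl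
theorem s7u745 : ∀ v, 1 ≤ v → v ≤ 222106 → fs7 v = true := slots_step fs7 221865 241 222106 s7u744 s7c745 rfl
theorem s7u746 : ∀ v, 1 ≤ v → v ≤ 222372 → fs7 v = true := slots_step fs7 222106 266 222372 s7u745 s7c746 rfl
theorem s7u747 : ∀ v, 1 ≤ v → v ≤ 222637 → fs7 v = true := slots_step fs7 222372 265 222637 s7u746 s7c747 rfl
theorem s7u748 : ∀ v, 1 ≤ v → v ≤ 222898 → fs7 v = true := slots_step fs7 222637 261 222898 s7u747 s7c748 rfl
theorem s7u749 : ∀ v, 1 ≤ v → v ≤ 223150 → fs7 v = true := slots_step fs7 222898 252 223150 s7u748 s7c749 rfl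
theorem s7u750 : ∀ v, 1 ≤ v → v ≤ 223408 → fs7 v = true := slots_step fs7 223150 258 223408 s7u749 s7c750 rfl
theorem s7u751 : ∀ v, 1 ≤ v → v ≤ 223666 → fs7 v = true := slots_step fs7 223408 258 223666 s7u750 s7c751 rfl
theorem s7u752 : ∀ v, 1 ≤ v → v ≤ 223918 → fs7 v = true := slots_step fs7 223666 252 223918 s7u751 s7c752 rfl
theorem s7u753 : ∀ v, 1 ≤ v → v ≤ 224184 → fs7 v = true := slots_step fs7 223918 266 224184 s7u752 s7c753 rfl
theorem s7u754 : ∀ v, 1 ≤ v → v ≤ 224438 → fs7 v = true := slots_step fs7 224184 254 224438 s7u753 s7c754 rfl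
theorem s7u755 : ∀ v, 1 ≤ v → v ≤ 224695 → fs7 v = true := slots_step fs7 224438 257 224695 s7u754 s7c755 rfl
theorem s7u756 : ∀ v, 1 ≤ v → v ≤ 224940 → fs7 v = true := slots_step fs7 224695 245 224940 s7u755 s7c756 rfl
theorem s7u757 : ∀ v, 1 ≤ v → v ≤ 225193 → fs7 v = true := slots_step fs7 224940 253 225193 s7u756 s7c757 rfl
theorem s7u758 : ∀ v, 1 ≤ v → v ≤ 225446 → fs7 v = true := slots_step fs7 225193 253 225446 s7u757 s7c758 rfl
theorem s7u759 : ∀ v, 1 ≤ v → v ≤ 225699 → fs7 v = true := slots_step fs7 225446 253 225699 s7u758 s7c759 rfl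
theorem s7u760 : ∀ v, 1 ≤ v → v ≤ 225965 → fs7 v = true := slots_step fs7 225699 266 225965 s7u759 s7c760 rfl
theorem s7u761 : ∀ v, 1 ≤ v → v ≤ 226233 → fs7 v = true := slots_step fs7 225965 268 226233 s7u760 s7c761 rfl
theorem s7u762 : ∀ v, 1 ≤ v → v ≤ 226495 → fs7 v = true := slots_step fs7 226233 262 226495 s7u761 s7c762 rfl
theorem s7u763 : ∀ v, 1 ≤ v → v ≤ 226746 → fs7 v = true := slots_step fs7 226495 251 226746 s7u762 s7c763 rfl
theorem s7u764 : ∀ v, 1 ≤ v → v ≤ 227006 → fs7 v = true := slots_step fs7 226746 260 227006 s7u763 s7c764 rfl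
theorem s7u765 : ∀ v, 1 ≤ v → v ≤ 227265 → fs7 v = true := slots_step fs7 227006 259 227265 s7u764 s7c765 rfl
theorem s7u766 : ∀ v, 1 ≤ v → v ≤ 227513 → fs7 v = true := slots_step fs7 227265 248 227513 s7u765 s7c766 rfl
theorem s7u767 : ∀ v, 1 ≤ v → v ≤ 227760 → fs7 v = true := slots_step fs7 227513 247 227760 s7u766 s7c767 rfl
theorem s7u768 : ∀ v, 1 ≤ v → v ≤ 228028 → fs7 v = true := slots_step fs7 227760 268 228028 s7u767 s7c768 rfl
theorem s7u769 : ∀ v, 1 ≤ v → v ≤ 228282 → fs7 v = true := slots_step fs7 228028 254 228282 s7u768 s7c769 rfl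
theorem s7u770 : ∀ v, 1 ≤ v → v ≤ 228558 → fs7 v = true := slots_step fs7 228282 276 228558 s7u769 s7c770 rfl
theorem s7u771 : ∀ v, 1 ≤ v → v ≤ 228832 → fs7 v = true := slots_step fs7 228558 274 228832 s7u770 s7c771 rfl
theorem s7u772 : ∀ v, 1 ≤ v → v ≤ 229107 → fs7 v = true := slots_step fs7 228832 275 229107 s7u771 s7c772 rfl
theorem s7u773 : ∀ v, 1 ≤ v → v ≤ 229361 → fs7 v = true := slots_step fs7 229107 254 229361 s7u772 s7c773 rfl
theorem s7u774 : ∀ v, 1 ≤ v → v ≤ 229644 → fs7 v = true := slots_step fs7 229361 283 229644 s7u773 s7c774 rfl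
theorem s7u775 : ∀ v, 1 ≤ v → v ≤ 229913 → fs7 v = true := slots_step fs7 229644 269 229913 s7u774 s7c775 rfl
theorem s7u776 : ∀ v, 1 ≤ v → v ≤ 230186 → fs7 v = true := slots_step fs7 229913 273 230186 s7u775 s7c776 rfl
theorem s7u777 : ∀ v, 1 ≤ v → v ≤ 230452 → fs7 v = true := slots_step fs7 230186 266 230452 s7u776 s7c777 rfl
theorem s7u778 : ∀ v, 1 ≤ v → v ≤ 230726 → fs7 v = true := slots_step fs7 230452 274 230726 s7u777 s7c778 rfl
theorem s7u779 : ∀ v, 1 ≤ v → v ≤ 230994 → fs7 v = true := slots_step fs7 230726 268 230994 s7u778 s7c779 rfl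
theorem s7u780 : ∀ v, 1 ≤ v → v ≤ 231256 → fs7 v = true := slots_step fs7 230994 262 231256 s7u779 s7c780 rfl
theorem s7u781 : ∀ v, 1 ≤ v → v ≤ 231523 → fs7 v = true := slots_step fs7 231256 267 231523 s7u780 s7c781 rfl
theorem s7u782 : ∀ v, 1 ≤ v → v ≤ 231790 → fs7 v = true := slots_step fs7 231523 267 231790 s7u781 s7c782 rfl
theorem s7u783 : ∀ v, 1 ≤ v → v ≤ 232054 → fs7 v = true := slots_step fs7 231790 264 232054 s7u782 s7c783 rfl
theorem s7u784 : ∀ v, 1 ≤ v → v ≤ 232341 → fs7 v = true := slots_step fs7 232054 287 232341 s7u783 s7c784 rfl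
theorem s7u785 : ∀ v, 1 ≤ v → v ≤ 232617 → fs7 v = true := slots_step fs7 232341 276 232617 s7u784 s7c785 rfl
theorem s7u786 : ∀ v, 1 ≤ v → v ≤ 232887 → fs7 v = true := slots_step fs7 232617 270 232887 s7u785 s7c786 rfl
theorem s7u787 : ∀ v, 1 ≤ v → v ≤ 233165 → fs7 v = true := slots_step fs7 232887 278 233165 s7u786 s7c787 rfl
theorem s7u788 : ∀ v, 1 ≤ v → v ≤ 233444 → fs7 v = true := slots_step fs7 233165 279 233444 s7u787 s7c788 rfl
theorem s7u789 : ∀ v, 1 ≤ v → v ≤ 233722 → fs7 v = true := slots_step fs7 233444 278 233722 s7u788 s7c789 rfl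
theorem s7u790 : ∀ v, 1 ≤ v → v ≤ 233988 → fs7 v = true := slots_step fs7 233722 266 233988 s7u789 s7c790 rfl
theorem s7u791 : ∀ v, 1 ≤ v → v ≤ 234260 → fs7 v = true := slots_step fs7 233988 272 234260 s7u790 s7c791 rfl
theorem s7u792 : ∀ v, 1 ≤ v → v ≤ 234522 → fs7 v = true := slots_step fs7 234260 262 234522 s7u791 s7c792 rfl
theorem s7u793 : ∀ v, 1 ≤ v → v ≤ 234784 → fs7 v = true := slots_step fs7 234522 262 234784 s7u792 s7c793 rfl
theorem s7u794 : ∀ v, 1 ≤ v → v ≤ 235043 → fs7 v = true := slots_step fs7 234784 259 235043 s7u793 s7c794 rfl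
theorem s7u795 : ∀ v, 1 ≤ v → v ≤ 235314 → fs7 v = true := slots_step fs7 235043 271 235314 s7u794 s7c795 rfl
theorem s7u796 : ∀ v, 1 ≤ v → v ≤ 235589 → fs7 v = true := slots_step fs7 235314 275 235589 s7u795 s7c796 rfl
theorem s7u797 : ∀ v, 1 ≤ v → v ≤ 235858 → fs7 v = true := slots_step fs7 235589 269 235858 s7u796 s7c797 rfl
theorem s7u798 : ∀ v, 1 ≤ v → v ≤ 236113 → fs7 v = true := slots_step fs7 235858 255 236113 s7u797 s7c798 rfl
theorem s7u799 : ∀ v, 1 ≤ v → v ≤ 236373 → fs7 v = true := slots_step fs7 236113 260 236373 s7u798 s7c799 rfl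
theorem s7u800 : ∀ v, 1 ≤ v → v ≤ 236638 → fs7 v = true := slots_step fs7 236373 265 236638 s7u799 s7c800 rfl
theorem s7u801 : ∀ v, 1 ≤ v → v ≤ 236899 → fs7 v = true := slots_step fs7 236638 261 236899 s7u800 s7c801 rfl
theorem s7u802 : ∀ v, 1 ≤ v → v ≤ 237167 → fs7 v = true := slots_step fs7 236899 268 237167 s7u801 s7c802 rfl
theorem s7u803 : ∀ v, 1 ≤ v → v ≤ 237428 → fs7 v = true := slots_step fs7 237167 261 237428 s7u802 s7c803 rfl
theorem s7u804 : ∀ v, 1 ≤ v → v ≤ 237687 → fs7 v = true := slots_step fs7 237428 259 237687 s7u803 s7c804 rfl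
theorem s7u805 : ∀ v, 1 ≤ v → v ≤ 237933 → fs7 v = true := slots_step fs7 237687 246 237933 s7u804 s7c805 rfl
theorem s7u806 : ∀ v, 1 ≤ v → v ≤ 238196 → fs7 v = true := slots_step fs7 237933 263 238196 s7u805 s7c806 rfl
theorem s7u807 : ∀ v, 1 ≤ v → v ≤ 238466 → fs7 v = true := slots_step fs7 238196 270 238466 s7u806 s7c807 rfl
theorem s7u808 : ∀ v, 1 ≤ v → v ≤ 238741 → fs7 v = true := slots_step fs7 238466 275 238741 s7u807 s7c808 rfl
theorem s7u809 : ∀ v, 1 ≤ v → v ≤ 238998 → fs7 v = true := slots_step fs7 238741 257 238998 s7u808 s7c809 rfl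
theorem s7u810 : ∀ v, 1 ≤ v → v ≤ 239263 → fs7 v = true := slots_step fs7 238998 265 239263 s7u809 s7c810 rfl
theorem s7u811 : ∀ v, 1 ≤ v → v ≤ 239539 → fs7 v = true := slots_step fs7 239263 276 239539 s7u810 s7c811 rfl
theorem s7u812 : ∀ v, 1 ≤ v → v ≤ 239812 → fs7 v = true := slots_step fs7 239539 273 239812 s7u811 s7c812 rfl
theorem s7u813 : ∀ v, 1 ≤ v → v ≤ 240094 → fs7 v = true := slots_step fs7 239812 282 240094 s7u812 s7c813 rfl
theorem s7u814 : ∀ v, 1 ≤ v → v ≤ 240380 → fs7 v = true := slots_step fs7 240094 286 240380 s7u813 s7c814 rfl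
theorem s7u815 : ∀ v, 1 ≤ v → v ≤ 240666 → fs7 v = true := slots_step fs7 240380 286 240666 s7u814 s7c815 rfl
theorem s7u816 : ∀ v, 1 ≤ v → v ≤ 240953 → fs7 v = true := slots_step fs7 240666 287 240953 s7u815 s7c816 rfl
theorem s7u817 : ∀ v, 1 ≤ v → v ≤ 241237 → fs7 v = true := slots_step fs7 240953 284 241237 s7u816 s7c817 rfl
theorem s7u818 : ∀ v, 1 ≤ v → v ≤ 241518 → fs7 v = true := slots_step fs7 241237 281 241518 s7u817 s7c818 rfl
theorem s7u819 : ∀ v, 1 ≤ v → v ≤ 241795 → fs7 v = true := slots_step fs7 241518 277 241795 s7u818 s7c819 rfl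
theorem s7u820 : ∀ v, 1 ≤ v → v ≤ 242070 → fs7 v = true := slots_step fs7 241795 275 242070 s7u819 s7c820 rfl
theorem s7u821 : ∀ v, 1 ≤ v → v ≤ 242354 → fs7 v = true := slots_step fs7 242070 284 242354 s7u820 s7c821 rfl
theorem s7u822 : ∀ v, 1 ≤ v → v ≤ 242643 → fs7 v = true := slots_step fs7 242354 289 242643 s7u821 s7c822 rfl
theorem s7u823 : ∀ v, 1 ≤ v → v ≤ 242920 → fs7 v = true := slots_step fs7 242643 277 242920 s7u822 s7c823 rfl
theorem s7u824 : ∀ v, 1 ≤ v → v ≤ 243195 → fs7 v = true := slots_step fs7 242920 275 243195 s7u823 s7c824 rfl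
theorem s7u825 : ∀ v, 1 ≤ v → v ≤ 243481 → fs7 v = true := slots_step fs7 243195 286 243481 s7u824 s7c825 rfl
theorem s7u826 : ∀ v, 1 ≤ v → v ≤ 243767 → fs7 v = true := slots_step fs7 243481 286 243767 s7u825 s7c826 rfl
theorem s7u827 : ∀ v, 1 ≤ v → v ≤ 244035 → fs7 v = true := slots_step fs7 243767 268 244035 s7u826 s7c827 rfl
theorem s7u828 : ∀ v, 1 ≤ v → v ≤ 244308 → fs7 v = true := slots_step fs7 244035 273 244308 s7u827 s7c828 rfl
theorem s7u829 : ∀ v, 1 ≤ v → v ≤ 244578 → fs7 v = true := slots_step fs7 244308 270 244578 s7u828 s7c829 rfl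
theorem s7u830 : ∀ v, 1 ≤ v → v ≤ 244853 → fs7 v = true := slots_step fs7 244578 275 244853 s7u829 s7c830 rfl
theorem s7u831 : ∀ v, 1 ≤ v → v ≤ 245142 → fs7 v = true := slots_step fs7 244853 289 245142 s7u830 s7c831 rfl
theorem s7u832 : ∀ v, 1 ≤ v → v ≤ 245446 → fs7 v = true := slots_step fs7 245142 304 245446 s7u831 s7c832 rfl
theorem s7u833 : ∀ v, 1 ≤ v → v ≤ 245768 → fs7 v = true := slots_step fs7 245446 322 245768 s7u832 s7c833 rfl
theorem s7u834 : ∀ v, 1 ≤ v → v ≤ 246001 → fs7 v = true := slots_step fs7 245768 233 246001 s7u833 s7c834 rfl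
theorem s7u835 : ∀ v, 1 ≤ v → v ≤ 246252 → fs7 v = true := slots_step fs7 246001 251 246252 s7u834 s7c835 rfl
theorem s7u836 : ∀ v, 1 ≤ v → v ≤ 246508 → fs7 v = true := slots_step fs7 246252 256 246508 s7u835 s7c836 rfl
theorem s7u837 : ∀ v, 1 ≤ v → v ≤ 246780 → fs7 v = true := slots_step fs7 246508 272 246780 s7u836 s7c837 rfl
theorem s7u838 : ∀ v, 1 ≤ v → v ≤ 247046 → fs7 v = true := slots_step fs7 246780 266 247046 s7u837 s7c838 rfl
theorem s7u839 : ∀ v, 1 ≤ v → v ≤ 247304 → fs7 v = true := slots_step fs7 247046 258 247304 s7u838 s7c839 rfl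
theorem s7u840 : ∀ v, 1 ≤ v → v ≤ 247563 → fs7 v = true := slots_step fs7 247304 259 247563 s7u839 s7c840 rfl
theorem s7u841 : ∀ v, 1 ≤ v → v ≤ 247818 → fs7 v = true := slots_step fs7 247563 255 247818 s7u840 s7c841 rfl
theorem s7u842 : ∀ v, 1 ≤ v → v ≤ 248081 → fs7 v = true := slots_step fs7 247818 263 248081 s7u841 s7c842 rfl
theorem s7u843 : ∀ v, 1 ≤ v → v ≤ 248345 → fs7 v = true := slots_step fs7 248081 264 248345 s7u842 s7c843 rfl
theorem s7u844 : ∀ v, 1 ≤ v → v ≤ 248600 → fs7 v = true := slots_step fs7 248345 255 248600 s7u843 s7c844 rfl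
theorem s7u845 : ∀ v, 1 ≤ v → v ≤ 248849 → fs7 v = true := slots_step fs7 248600 249 248849 s7u844 s7c845 rfl
theorem s7u846 : ∀ v, 1 ≤ v → v ≤ 249099 → fs7 v = true := slots_step fs7 248849 250 249099 s7u845 s7c846 rfl
theorem s7u847 : ∀ v, 1 ≤ v → v ≤ 249342 → fs7 v = true := slots_step fs7 249099 243 249342 s7u846 s7c847 rfl
theorem s7u848 : ∀ v, 1 ≤ v → v ≤ 249593 → fs7 v = true := slots_step fs7 249342 251 249593 s7u847 s7c848 rfl
theorem s7u849 : ∀ v, 1 ≤ v → v ≤ 249849 → fs7 v = true := slots_step fs7 249593 256 249849 s7u848 s7c849 rfl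
theorem s7u850 : ∀ v, 1 ≤ v → v ≤ 250100 → fs7 v = true := slots_step fs7 249849 251 250100 s7u849 s7c850 rfl
theorem s7u851 : ∀ v, 1 ≤ v → v ≤ 250356 → fs7 v = true := slots_step fs7 250100 256 250356 s7u850 s7c851 rfl
theorem s7u852 : ∀ v, 1 ≤ v → v ≤ 250609 → fs7 v = true := slots_step fs7 250356 253 250609 s7u851 s7c852 rfl
theorem s7u853 : ∀ v, 1 ≤ v → v ≤ 250870 → fs7 v = true := slots_step fs7 250609 261 250870 s7u852 s7c853 rfl
theorem s7u854 : ∀ v, 1 ≤ v → v ≤ 251125 → fs7 v = true := slots_step fs7 250870 255 251125 s7u853 s7c854 rfl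
theorem s7u855 : ∀ v, 1 ≤ v → v ≤ 251380 → fs7 v = true := slots_step fs7 251125 255 251380 s7u854 s7c855 rfl
theorem s7u856 : ∀ v, 1 ≤ v → v ≤ 251635 → fs7 v = true := slots_step fs7 251380 255 251635 s7u855 s7c856 rfl
theorem s7u857 : ∀ v, 1 ≤ v → v ≤ 251889 → fs7 v = true := slots_step fs7 251635 254 251889 s7u856 s7c857 rfl
theorem s7u858 : ∀ v, 1 ≤ v → v ≤ 252135 → fs7 v = true := slots_step fs7 251889 246 252135 s7u857 s7c858 rfl
theorem s7u859 : ∀ v, 1 ≤ v → v ≤ 252379 → fs7 v = true := slots_step fs7 252135 244 252379 s7u858 s7c859 rfl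
theorem s7u860 : ∀ v, 1 ≤ v → v ≤ 252646 → fs7 v = true := slots_step fs7 252379 267 252646 s7u859 s7c860 rfl
theorem s7u861 : ∀ v, 1 ≤ v → v ≤ 252898 → fs7 v = true := slots_step fs7 252646 252 252898 s7u860 s7c861 rfl
theorem s7u862 : ∀ v, 1 ≤ v → v ≤ 253168 → fs7 v = true := slots_step fs7 252898 270 253168 s7u861 s7c862 rfl
theorem s7u863 : ∀ v, 1 ≤ v → v ≤ 253451 → fs7 v = true := slots_step fs7 253168 283 253451 s7u862 s7c863 rfl
theorem s7u864 : ∀ v, 1 ≤ v → v ≤ 253732 → fs7 v = true := slots_step fs7 253451 281 253732 s7u863 s7c864 rfl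
theorem s7u865 : ∀ v, 1 ≤ v → v ≤ 254002 → fs7 v = true := slots_step fs7 253732 270 254002 s7u864 s7c865 rfl
theorem s7u866 : ∀ v, 1 ≤ v → v ≤ 254280 → fs7 v = true := slots_step fs7 254002 278 254280 s7u865 s7c866 rfl
theorem s7u867 : ∀ v, 1 ≤ v → v ≤ 254553 → fs7 v = true := slots_step fs7 254280 273 254553 s7u866 s7c867 rfl
theorem s7u868 : ∀ v, 1 ≤ v → v ≤ 254834 → fs7 v = true := slots_step fs7 254553 281 254834 s7u867 s7c868 rfl
theorem s7u869 : ∀ v, 1 ≤ v → v ≤ 255101 → fs7 v = true := slots_step fs7 254834 267 255101 s7u868 s7c869 rfl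
theorem s7u870 : ∀ v, 1 ≤ v → v ≤ 255373 → fs7 v = true := slots_step fs7 255101 272 255373 s7u869 s7c870 rfl
theorem s7u871 : ∀ v, 1 ≤ v → v ≤ 255655 → fs7 v = true := slots_step fs7 255373 282 255655 s7u870 s7c871 rfl
theorem s7u872 : ∀ v, 1 ≤ v → v ≤ 255918 → fs7 v = true := slots_step fs7 255655 263 255918 s7u871 s7c872 rfl
theorem s7u873 : ∀ v, 1 ≤ v → v ≤ 256184 → fs7 v = true := slots_step fs7 255918 266 256184 s7u872 s7c873 rfl
theorem s7u874 : ∀ v, 1 ≤ v → v ≤ 256445 → fs7 v = true := slots_step fs7 256184 261 256445 s7u873 s7c874 rfl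
theorem s7u875 : ∀ v, 1 ≤ v → v ≤ 256704 → fs7 v = true := slots_step fs7 256445 259 256704 s7u874 s7c875 rfl
theorem s7u876 : ∀ v, 1 ≤ v → v ≤ 256994 → fs7 v = true := slots_step fs7 256704 290 256994 s7u875 s7c876 rfl
theorem s7u877 : ∀ v, 1 ≤ v → v ≤ 257280 → fs7 v = true := slots_step fs7 256994 286 257280 s7u876 s7c877 rfl
theorem s7u878 : ∀ v, 1 ≤ v → v ≤ 257553 → fs7 v = true := slots_step fs7 257280 273 257553 s7u877 s7c878 rfl
theorem s7u879 : ∀ v, 1 ≤ v → v ≤ 257829 → fs7 v = true := slots_step fs7 257553 276 257829 s7u878 s7c879 rfl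
theorem s7u880 : ∀ v, 1 ≤ v → v ≤ 258106 → fs7 v = true := slots_step fs7 257829 277 258106 s7u879 s7c880 rfl
theorem s7u881 : ∀ v, 1 ≤ v → v ≤ 258380 → fs7 v = true := slots_step fs7 258106 274 258380 s7u880 s7c881 rfl
theorem s7u882 : ∀ v, 1 ≤ v → v ≤ 258665 → fs7 v = true := slots_step fs7 258380 285 258665 s7u881 s7c882 rfl
theorem s7u883 : ∀ v, 1 ≤ v → v ≤ 258927 → fs7 v = true := slots_step fs7 258665 262 258927 s7u882 s7c883 rfl
theorem s7u884 : ∀ v, 1 ≤ v → v ≤ 259200 → fs7 v = true := slots_step fs7 258927 273 259200 s7u883 s7c884 rfl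
theorem s7u885 : ∀ v, 1 ≤ v → v ≤ 259466 → fs7 v = true := slots_step fs7 259200 266 259466 s7u884 s7c885 rfl
theorem s7u886 : ∀ v, 1 ≤ v → v ≤ 259728 → fs7 v = true := slots_step fs7 259466 262 259728 s7u885 s7c886 rfl
theorem s7u887 : ∀ v, 1 ≤ v → v ≤ 259986 → fs7 v = true := slots_step fs7 259728 258 259986 s7u886 s7c887 rfl
theorem s7u888 : ∀ v, 1 ≤ v → v ≤ 260252 → fs7 v = true := slots_step fs7 259986 266 260252 s7u887 s7c888 rfl
theorem s7u889 : ∀ v, 1 ≤ v → v ≤ 260525 → fs7 v = true := slots_step fs7 260252 273 260525 s7u888 s7c889 rfl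
theorem s7u890 : ∀ v, 1 ≤ v → v ≤ 260797 → fs7 v = true := slots_step fs7 260525 272 260797 s7u889 s7c890 rfl
theorem s7u891 : ∀ v, 1 ≤ v → v ≤ 261065 → fs7 v = true := slots_step fs7 260797 268 261065 s7u890 s7c891 rfl
theorem s7u892 : ∀ v, 1 ≤ v → v ≤ 261332 → fs7 v = true := slots_step fs7 261065 267 261332 s7u891 s7c892 rfl
theorem s7u893 : ∀ v, 1 ≤ v → v ≤ 261595 → fs7 v = true := slots_step fs7 261332 263 261595 s7u892 s7c893 rfl
theorem s7u894 : ∀ v, 1 ≤ v → v ≤ 261856 → fs7 v = true := slots_step fs7 261595 261 261856 s7u893 s7c894 rfl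
theorem s7u895 : ∀ v, 1 ≤ v → v ≤ 262117 → fs7 v = true := slots_step fs7 261856 261 262117 s7u894 s7c895 rfl
theorem s7u896 : ∀ v, 1 ≤ v → v ≤ 262382 → fs7 v = true := slots_step fs7 262117 265 262382 s7u895 s7c896 rfl
theorem s7u897 : ∀ v, 1 ≤ v → v ≤ 262646 → fs7 v = true := slots_step fs7 262382 264 262646 s7u896 s7c897 rfl
theorem s7u898 : ∀ v, 1 ≤ v → v ≤ 262906 → fs7 v = true := slots_step fs7 262646 260 262906 s7u897 s7c898 rfl
theorem s7u899 : ∀ v, 1 ≤ v → v ≤ 263161 → fs7 v = true := slots_step fs7 262906 255 263161 s7u898 s7c899 rfl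
theorem s7u900 : ∀ v, 1 ≤ v → v ≤ 263414 → fs7 v = true := slots_step fs7 263161 253 263414 s7u899 s7c900 rfl
theorem s7u901 : ∀ v, 1 ≤ v → v ≤ 263688 → fs7 v = true := slots_step fs7 263414 274 263688 s7u900 s7c901 rfl
theorem s7u902 : ∀ v, 1 ≤ v → v ≤ 263957 → fs7 v = true := slots_step fs7 263688 269 263957 s7u901 s7c902 rfl
theorem s7u903 : ∀ v, 1 ≤ v → v ≤ 264217 → fs7 v = true := slots_step fs7 263957 260 264217 s7u902 s7c903 rfl
theorem s7u904 : ∀ v, 1 ≤ v → v ≤ 264486 → fs7 v = true := slots_step fs7 264217 269 264486 s7u903 s7c904 rfl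
theorem s7u905 : ∀ v, 1 ≤ v → v ≤ 264762 → fs7 v = true := slots_step fs7 264486 276 264762 s7u904 s7c905 rfl
theorem s7u906 : ∀ v, 1 ≤ v → v ≤ 265040 → fs7 v = true := slots_step fs7 264762 278 265040 s7u905 s7c906 rfl
theorem s7u907 : ∀ v, 1 ≤ v → v ≤ 265320 → fs7 v = true := slots_step fs7 265040 280 265320 s7u906 s7c907 rfl
theorem s7u908 : ∀ v, 1 ≤ v → v ≤ 265608 → fs7 v = true := slots_step fs7 265320 288 265608 s7u907 s7c908 rfl
theorem s7u909 : ∀ v, 1 ≤ v → v ≤ 265893 → fs7 v = true := slots_step fs7 265608 285 265893 s7u908 s7c909 rfl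
theorem s7u910 : ∀ v, 1 ≤ v → v ≤ 266178 → fs7 v = true := slots_step fs7 265893 285 266178 s7u909 s7c910 rfl
theorem s7u911 : ∀ v, 1 ≤ v → v ≤ 266460 → fs7 v = true := slots_step fs7 266178 282 266460 s7u910 s7c911 rfl
theorem s7u912 : ∀ v, 1 ≤ v → v ≤ 266745 → fs7 v = true := slots_step fs7 266460 285 266745 s7u911 s7c912 rfl
theorem s7u913 : ∀ v, 1 ≤ v → v ≤ 267026 → fs7 v = true := slots_step fs7 266745 281 267026 s7u912 s7c913 rfl
theorem s7u914 : ∀ v, 1 ≤ v → v ≤ 267299 → fs7 v = true := slots_step fs7 267026 273 267299 s7u913 s7c914 rfl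
theorem s7u915 : ∀ v, 1 ≤ v → v ≤ 267576 → fs7 v = true := slots_step fs7 267299 277 267576 s7u914 s7c915 rfl
theorem s7u916 : ∀ v, 1 ≤ v → v ≤ 267863 → fs7 v = true := slots_step fs7 267576 287 267863 s7u915 s7c916 rfl
theorem s7u917 : ∀ v, 1 ≤ v → v ≤ 268152 → fs7 v = true := slots_step fs7 267863 289 268152 s7u916 s7c917 rfl
theorem s7u918 : ∀ v, 1 ≤ v → v ≤ 268429 → fs7 v = true := slots_step fs7 268152 277 268429 s7u917 s7c918 rfl
theorem s7u919 : ∀ v, 1 ≤ v → v ≤ 268710 → fs7 v = true := slots_step fs7 268429 281 268710 s7u918 s7c919 rfl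
theorem s7u920 : ∀ v, 1 ≤ v → v ≤ 268996 → fs7 v = true := slots_step fs7 268710 286 268996 s7u919 s7c920 rfl
theorem s7u921 : ∀ v, 1 ≤ v → v ≤ 269283 → fs7 v = true := slots_step fs7 268996 287 269283 s7u920 s7c921 rfl
theorem s7u922 : ∀ v, 1 ≤ v → v ≤ 269556 → fs7 v = true := slots_step fs7 269283 273 269556 s7u921 s7c922 rfl
theorem s7u923 : ∀ v, 1 ≤ v → v ≤ 269830 → fs7 v = true := slots_step fs7 269556 274 269830 s7u922 s7c923 rfl
theorem s7u924 : ∀ v, 1 ≤ v → v ≤ 270090 → fs7 v = true := slots_step fs7 269830 260 270090 s7u923 s7c924 rfl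
theorem s7u925 : ∀ v, 1 ≤ v → v ≤ 270357 → fs7 v = true := slots_step fs7 270090 267 270357 s7u924 s7c925 rfl
theorem s7u926 : ∀ v, 1 ≤ v → v ≤ 270665 → fs7 v = true := slots_step fs7 270357 308 270665 s7u925 s7c926 rfl
theorem s7u927 : ∀ v, 1 ≤ v → v ≤ 270973 → fs7 v = true := slots_step fs7 270665 308 270973 s7u926 s7c927 rfl
theorem s7u928 : ∀ v, 1 ≤ v → v ≤ 271243 → fs7 v = true := slots_step fs7 270973 270 271243 s7u927 s7c928 rfl
theorem s7u929 : ∀ v, 1 ≤ v → v ≤ 271484 → fs7 v = true := slots_step fs7 271243 241 271484 s7u928 s7c929 rfl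
theorem s7u930 : ∀ v, 1 ≤ v → v ≤ 271731 → fs7 v = true := slots_step fs7 271484 247 271731 s7u929 s7c930 rfl
theorem s7u931 : ∀ v, 1 ≤ v → v ≤ 272014 → fs7 v = true := slots_step fs7 271731 283 272014 s7u930 s7c931 rfl
theorem s7u932 : ∀ v, 1 ≤ v → v ≤ 272286 → fs7 v = true := slots_step fs7 272014 272 272286 s7u931 s7c932 rfl
theorem s7u933 : ∀ v, 1 ≤ v → v ≤ 272528 → fs7 v = true := slots_step fs7 272286 242 272528 s7u932 s7c933 rfl
theorem s7u934 : ∀ v, 1 ≤ v → v ≤ 272782 → fs7 v = true := slots_step fs7 272528 254 272782 s7u933 s7c934 rfl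
theorem s7u935 : ∀ v, 1 ≤ v → v ≤ 273036 → fs7 v = true := slots_step fs7 272782 254 273036 s7u934 s7c935 rfl
theorem s7u936 : ∀ v, 1 ≤ v → v ≤ 273299 → fs7 v = true := slots_step fs7 273036 263 273299 s7u935 s7c936 rfl
theorem s7u937 : ∀ v, 1 ≤ v → v ≤ 273554 → fs7 v = true := slots_step fs7 273299 255 273554 s7u936 s7c937 rfl
theorem s7u938 : ∀ v, 1 ≤ v → v ≤ 273807 → fs7 v = true := slots_step fs7 273554 253 273807 s7u937 s7c938 rfl
theorem s7u939 : ∀ v, 1 ≤ v → v ≤ 274061 → fs7 v = true := slots_step fs7 273807 254 274061 s7u938 s7c939 rfl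
theorem s7u940 : ∀ v, 1 ≤ v → v ≤ 274301 → fs7 v = true := slots_step fs7 274061 240 274301 s7u939 s7c940 rfl
theorem s7u941 : ∀ v, 1 ≤ v → v ≤ 274552 → fs7 v = true := slots_step fs7 274301 251 274552 s7u940 s7c941 rfl
theorem s7u942 : ∀ v, 1 ≤ v → v ≤ 274800 → fs7 v = true := slots_step fs7 274552 248 274800 s7u941 s7c942 rfl
theorem s7u943 : ∀ v, 1 ≤ v → v ≤ 275048 → fs7 v = true := slots_step fs7 274800 248 275048 s7u942 s7c943 rfl
theorem s7u944 : ∀ v, 1 ≤ v → v ≤ 275301 → fs7 v = true := slots_step fs7 275048 253 275301 s7u943 s7c944 rfl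
theorem s7u945 : ∀ v, 1 ≤ v → v ≤ 275550 → fs7 v = true := slots_step fs7 275301 249 275550 s7u944 s7c945 rfl
theorem s7u946 : ∀ v, 1 ≤ v → v ≤ 275802 → fs7 v = true := slots_step fs7 275550 252 275802 s7u945 s7c946 rfl
theorem s7u947 : ∀ v, 1 ≤ v → v ≤ 276059 → fs7 v = true := slots_step fs7 275802 257 276059 s7u946 s7c947 rfl
theorem s7u948 : ∀ v, 1 ≤ v → v ≤ 276319 → fs7 v = true := slots_step fs7 276059 260 276319 s7u947 s7c948 rfl
theorem s7u949 : ∀ v, 1 ≤ v → v ≤ 276576 → fs7 v = true := slots_step fs7 276319 257 276576 s7u948 s7c949 rfl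
theorem s7u950 : ∀ v, 1 ≤ v → v ≤ 276835 → fs7 v = true := slots_step fs7 276576 259 276835 s7u949 s7c950 rfl
theorem s7u951 : ∀ v, 1 ≤ v → v ≤ 277084 → fs7 v = true := slots_step fs7 276835 249 277084 s7u950 s7c951 rfl
theorem s7u952 : ∀ v, 1 ≤ v → v ≤ 277332 → fs7 v = true := slots_step fs7 277084 248 277332 s7u951 s7c952 rfl
theorem s7u953 : ∀ v, 1 ≤ v → v ≤ 277586 → fs7 v = true := slots_step fs7 277332 254 277586 s7u952 s7c953 rfl
theorem s7u954 : ∀ v, 1 ≤ v → v ≤ 277833 → fs7 v = true := slots_step fs7 277586 247 277833 s7u953 s7c954 rfl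
theorem s7u955 : ∀ v, 1 ≤ v → v ≤ 278081 → fs7 v = true := slots_step fs7 277833 248 278081 s7u954 s7c955 rfl
theorem s7u956 : ∀ v, 1 ≤ v → v ≤ 278345 → fs7 v = true := slots_step fs7 278081 264 278345 s7u955 s7c956 rfl
theorem s7u957 : ∀ v, 1 ≤ v → v ≤ 278601 → fs7 v = true := slots_step fs7 278345 256 278601 s7u956 s7c957 rfl
theorem s7u958 : ∀ v, 1 ≤ v → v ≤ 278880 → fs7 v = true := slots_step fs7 278601 279 278880 s7u957 s7c958 rfl
theorem s7u959 : ∀ v, 1 ≤ v → v ≤ 279163 → fs7 v = true := slots_step fs7 278880 283 279163 s7u958 s7c959 rfl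
theorem s7u960 : ∀ v, 1 ≤ v → v ≤ 279443 → fs7 v = true := slots_step fs7 279163 280 279443 s7u959 s7c960 rfl
theorem s7u961 : ∀ v, 1 ≤ v → v ≤ 279708 → fs7 v = true := slots_step fs7 279443 265 279708 s7u960 s7c961 rfl
theorem s7u962 : ∀ v, 1 ≤ v → v ≤ 279983 → fs7 v = true := slots_step fs7 279708 275 279983 s7u961 s7c962 rfl
theorem s7u963 : ∀ v, 1 ≤ v → v ≤ 280252 → fs7 v = true := slots_step fs7 279983 269 280252 s7u962 s7c963 rfl
theorem s7u964 : ∀ v, 1 ≤ v → v ≤ 280533 → fs7 v = true := slots_step fs7 280252 281 280533 s7u963 s7c964 rfl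
theorem s7u965 : ∀ v, 1 ≤ v → v ≤ 280797 → fs7 v = true := slots_step fs7 280533 264 280797 s7u964 s7c965 rfl
theorem s7u966 : ∀ v, 1 ≤ v → v ≤ 281074 → fs7 v = true := slots_step fs7 280797 277 281074 s7u965 s7c966 rfl
theorem s7u967 : ∀ v, 1 ≤ v → v ≤ 281360 → fs7 v = true := slots_step fs7 281074 286 281360 s7u966 s7c967 rfl
theorem s7u968 : ∀ v, 1 ≤ v → v ≤ 281618 → fs7 v = true := slots_step fs7 281360 258 281618 s7u967 s7c968 rfl
theorem s7u969 : ∀ v, 1 ≤ v → v ≤ 281879 → fs7 v = true := slots_step fs7 281618 261 281879 s7u968 s7c969 rfl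
theorem s7u970 : ∀ v, 1 ≤ v → v ≤ 282133 → fs7 v = true := slots_step fs7 281879 254 282133 s7u969 s7c970 rfl
theorem s7u971 : ∀ v, 1 ≤ v → v ≤ 282402 → fs7 v = true := slots_step fs7 282133 269 282402 s7u970 s7c971 rfl
theorem s7u972 : ∀ v, 1 ≤ v → v ≤ 282687 → fs7 v = true := slots_step fs7 282402 285 282687 s7u971 s7c972 rfl
theorem s7u973 : ∀ v, 1 ≤ v → v ≤ 282975 → fs7 v = true := slots_step fs7 282687 288 282975 s7u972 s7c973 rfl
theorem s7u974 : ∀ v, 1 ≤ v → v ≤ 283244 → fs7 v = true := slots_step fs7 282975 269 283244 s7u973 s7c974 rfl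
theorem s7u975 : ∀ v, 1 ≤ v → v ≤ 283535 → fs7 v = true := slots_step fs7 283244 291 283535 s7u974 s7c975 rfl
theorem s7u976 : ∀ v, 1 ≤ v → v ≤ 283801 → fs7 v = true := slots_step fs7 283535 266 283801 s7u975 s7c976 rfl
theorem s7u977 : ∀ v, 1 ≤ v → v ≤ 284071 → fs7 v = true := slots_step fs7 283801 270 284071 s7u976 s7c977 rfl
theorem s7u978 : ∀ v, 1 ≤ v → v ≤ 284352 → fs7 v = true := slots_step fs7 284071 281 284352 s7u977 s7c978 rfl
theorem s7u979 : ∀ v, 1 ≤ v → v ≤ 284610 → fs7 v = true := slots_step fs7 284352 258 284610 s7u978 s7c979 rfl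
theorem s7u980 : ∀ v, 1 ≤ v → v ≤ 284881 → fs7 v = true := slots_step fs7 284610 271 284881 s7u979 s7c980 rfl
theorem s7u981 : ∀ v, 1 ≤ v → v ≤ 285133 → fs7 v = true := slots_step fs7 284881 252 285133 s7u980 s7c981 rfl
theorem s7u982 : ∀ v, 1 ≤ v → v ≤ 285387 → fs7 v = true := slots_step fs7 285133 254 285387 s7u981 s7c982 rfl
theorem s7u983 : ∀ v, 1 ≤ v → v ≤ 285642 → fs7 v = true := slots_step fs7 285387 255 285642 s7u982 s7c983 rfl
theorem s7u984 : ∀ v, 1 ≤ v → v ≤ 285915 → fs7 v = true := slots_step fs7 285642 273 285915 s7u983 s7c984 rfl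
theorem s7u985 : ∀ v, 1 ≤ v → v ≤ 286185 → fs7 v = true := slots_step fs7 285915 270 286185 s7u984 s7c985 rfl
theorem s7u986 : ∀ v, 1 ≤ v → v ≤ 286456 → fs7 v = true := slots_step fs7 286185 271 286456 s7u985 s7c986 rfl
theorem s7u987 : ∀ v, 1 ≤ v → v ≤ 286711 → fs7 v = true := slots_step fs7 286456 255 286711 s7u986 s7c987 rfl
theorem s7u988 : ∀ v, 1 ≤ v → v ≤ 286982 → fs7 v = true := slots_step fs7 286711 271 286982 s7u987 s7c988 rfl
theorem s7u989 : ∀ v, 1 ≤ v → v ≤ 287251 → fs7 v = true := slots_step fs7 286982 269 287251 s7u988 s7c989 rfl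
theorem s7u990 : ∀ v, 1 ≤ v → v ≤ 287514 → fs7 v = true := slots_step fs7 287251 263 287514 s7u989 s7c990 rfl
theorem s7u991 : ∀ v, 1 ≤ v → v ≤ 287776 → fs7 v = true := slots_step fs7 287514 262 287776 s7u990 s7c991 rfl
theorem s7u992 : ∀ v, 1 ≤ v → v ≤ 288036 → fs7 v = true := slots_step fs7 287776 260 288036 s7u991 s7c992 rfl
theorem s7u993 : ∀ v, 1 ≤ v → v ≤ 288298 → fs7 v = true := slots_step fs7 288036 262 288298 s7u992 s7c993 rfl
theorem s7u994 : ∀ v, 1 ≤ v → v ≤ 288556 → fs7 v = true := slots_step fs7 288298 258 288556 s7u993 s7c994 rfl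
theorem s7u995 : ∀ v, 1 ≤ v → v ≤ 288817 → fs7 v = true := slots_step fs7 288556 261 288817 s7u994 s7c995 rfl
theorem s7u996 : ∀ v, 1 ≤ v → v ≤ 289057 → fs7 v = true := slots_step fs7 288817 240 289057 s7u995 s7c996 rfl
theorem s7u997 : ∀ v, 1 ≤ v → v ≤ 289320 → fs7 v = true := slots_step fs7 289057 263 289320 s7u996 s7c997 rfl
theorem s7u998 : ∀ v, 1 ≤ v → v ≤ 289591 → fs7 v = true := slots_step fs7 289320 271 289591 s7u997 s7c998 rfl
theorem s7u999 : ∀ v, 1 ≤ v → v ≤ 289858 → fs7 v = true := slots_step fs7 289591 267 289858 s7u998 s7c999 rfl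
theorem s7u1000 : ∀ v, 1 ≤ v → v ≤ 290120 → fs7 v = true := slots_step fs7 289858 262 290120 s7u999 s7c1000 rfl
theorem s7u1001 : ∀ v, 1 ≤ v → v ≤ 290394 → fs7 v = true := slots_step fs7 290120 274 290394 s7u1000 s7c1001 rfl
theorem s7u1002 : ∀ v, 1 ≤ v → v ≤ 290680 → fs7 v = true := slots_step fs7 290394 286 290680 s7u1001 s7c1002 rfl
theorem s7u1003 : ∀ v, 1 ≤ v → v ≤ 290965 → fs7 v = true := slots_step fs7 290680 285 290965 s7u1002 s7c1003 rfl
theorem s7u1004 : ∀ v, 1 ≤ v → v ≤ 291252 → fs7 v = true := slots_step fs7 290965 287 291252 s7u1003 s7c1004 rfl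
theorem s7u1005 : ∀ v, 1 ≤ v → v ≤ 291532 → fs7 v = true := slots_step fs7 291252 280 291532 s7u1004 s7c1005 rfl
theorem s7u1006 : ∀ v, 1 ≤ v → v ≤ 291813 → fs7 v = true := slots_step fs7 291532 281 291813 s7u1005 s7c1006 rfl
theorem s7u1007 : ∀ v, 1 ≤ v → v ≤ 292093 → fs7 v = true := slots_step fs7 291813 280 292093 s7u1006 s7c1007 rfl
theorem s7u1008 : ∀ v, 1 ≤ v → v ≤ 292380 → fs7 v = true := slots_step fs7 292093 287 292380 s7u1007 s7c1008 rfl
theorem s7u1009 : ∀ v, 1 ≤ v → v ≤ 292653 → fs7 v = true := slots_step fs7 292380 273 292653 s7u1008 s7c1009 rfl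
theorem s7u1010 : ∀ v, 1 ≤ v → v ≤ 292928 → fs7 v = true := slots_step fs7 292653 275 292928 s7u1009 s7c1010 rfl
theorem s7u1011 : ∀ v, 1 ≤ v → v ≤ 293202 → fs7 v = true := slots_step fs7 292928 274 293202 s7u1010 s7c1011 rfl
theorem s7u1012 : ∀ v, 1 ≤ v → v ≤ 293497 → fs7 v = true := slots_step fs7 293202 295 293497 s7u1011 s7c1012 rfl
theorem s7u1013 : ∀ v, 1 ≤ v → v ≤ 293780 → fs7 v = true := slots_step fs7 293497 283 293780 s7u1012 s7c1013 rfl
theorem s7u1014 : ∀ v, 1 ≤ v → v ≤ 294066 → fs7 v = true := slots_step fs7 293780 286 294066 s7u1013 s7c1014 rfl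
theorem s7u1015 : ∀ v, 1 ≤ v → v ≤ 294352 → fs7 v = true := slots_step fs7 294066 286 294352 s7u1014 s7c1015 rfl
theorem s7u1016 : ∀ v, 1 ≤ v → v ≤ 294641 → fs7 v = true := slots_step fs7 294352 289 294641 s7u1015 s7c1016 rfl
theorem s7u1017 : ∀ v, 1 ≤ v → v ≤ 294902 → fs7 v = true := slots_step fs7 294641 261 294902 s7u1016 s7c1017 rfl
theorem s7u1018 : ∀ v, 1 ≤ v → v ≤ 295163 → fs7 v = true := slots_step fs7 294902 261 295163 s7u1017 s7c1018 rfl
theorem s7u1019 : ∀ v, 1 ≤ v → v ≤ 295421 → fs7 v = true := slots_step fs7 295163 258 295421 s7u1018 s7c1019 rfl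
theorem s7u1020 : ∀ v, 1 ≤ v → v ≤ 295712 → fs7 v = true := slots_step fs7 295421 291 295712 s7u1019 s7c1020 rfl
theorem s7u1021 : ∀ v, 1 ≤ v → v ≤ 296003 → fs7 v = true := slots_step fs7 295712 291 296003 s7u1020 s7c1021 rfl
theorem s7u1022 : ∀ v, 1 ≤ v → v ≤ 296270 → fs7 v = true := slots_step fs7 296003 267 296270 s7u1021 s7c1022 rfl
theorem s7u1023 : ∀ v, 1 ≤ v → v ≤ 296514 → fs7 v = true := slots_step fs7 296270 244 296514 s7u1022 s7c1023 rfl
theorem s7u1024 : ∀ v, 1 ≤ v → v ≤ 296767 → fs7 v = true := slots_step fs7 296514 253 296767 s7u1023 s7c1024 rfl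
theorem s7u1025 : ∀ v, 1 ≤ v → v ≤ 297054 → fs7 v = true := slots_step fs7 296767 287 297054 s7u1024 s7c1025 rfl
theorem s7u1026 : ∀ v, 1 ≤ v → v ≤ 297313 → fs7 v = true := slots_step fs7 297054 259 297313 s7u1025 s7c1026 rfl
theorem s7u1027 : ∀ v, 1 ≤ v → v ≤ 297552 → fs7 v = true := slots_step fs7 297313 239 297552 s7u1026 s7c1027 rfl
theorem s7u1028 : ∀ v, 1 ≤ v → v ≤ 297793 → fs7 v = true := slots_step fs7 297552 241 297793 s7u1027 s7c1028 rfl
theorem s7u1029 : ∀ v, 1 ≤ v → v ≤ 298052 → fs7 v = true := slots_step fs7 297793 259 298052 s7u1028 s7c1029 rfl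
theorem s7u1030 : ∀ v, 1 ≤ v → v ≤ 298313 → fs7 v = true := slots_step fs7 298052 261 298313 s7u1029 s7c1030 rfl
theorem s7u1031 : ∀ v, 1 ≤ v → v ≤ 298567 → fs7 v = true := slots_step fs7 298313 254 298567 s7u1030 s7c1031 rfl
theorem s7u1032 : ∀ v, 1 ≤ v → v ≤ 298818 → fs7 v = true := slots_step fs7 298567 251 298818 s7u1031 s7c1032 rfl
theorem s7u1033 : ∀ v, 1 ≤ v → v ≤ 299068 → fs7 v = true := slots_step fs7 298818 250 299068 s7u1032 s7c1033 rfl
theorem s7u1034 : ∀ v, 1 ≤ v → v ≤ 299315 → fs7 v = true := slots_step fs7 299068 247 299315 s7u1033 s7c1034 rfl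
theorem s7u1035 : ∀ v, 1 ≤ v → v ≤ 299556 → fs7 v = true := slots_step fs7 299315 241 299556 s7u1034 s7c1035 rfl
theorem s7u1036 : ∀ v, 1 ≤ v → v ≤ 299804 → fs7 v = true := slots_step fs7 299556 248 299804 s7u1035 s7c1036 rfl
theorem s7u1037 : ∀ v, 1 ≤ v → v ≤ 300036 → fs7 v = true := slots_step fs7 299804 232 300036 s7u1036 s7c1037 rfl
theorem s7u1038 : ∀ v, 1 ≤ v → v ≤ 300282 → fs7 v = true := slots_step fs7 300036 246 300282 s7u1037 s7c1038 rfl
theorem s7u1039 : ∀ v, 1 ≤ v → v ≤ 300524 → fs7 v = true := slots_step fs7 300282 242 300524 s7u1038 s7c1039 rfl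
theorem s7u1040 : ∀ v, 1 ≤ v → v ≤ 300772 → fs7 v = true := slots_step fs7 300524 248 300772 s7u1039 s7c1040 rfl
theorem s7u1041 : ∀ v, 1 ≤ v → v ≤ 301023 → fs7 v = true := slots_step fs7 300772 251 301023 s7u1040 s7c1041 rfl
theorem s7u1042 : ∀ v, 1 ≤ v → v ≤ 301282 → fs7 v = true := slots_step fs7 301023 259 301282 s7u1041 s7c1042 rfl
theorem s7u1043 : ∀ v, 1 ≤ v → v ≤ 301528 → fs7 v = true := slots_step fs7 301282 246 301528 s7u1042 s7c1043 rfl
theorem s7u1044 : ∀ v, 1 ≤ v → v ≤ 301786 → fs7 v = true := slots_step fs7 301528 258 301786 s7u1043 s7c1044 rfl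
theorem s7u1045 : ∀ v, 1 ≤ v → v ≤ 302047 → fs7 v = true := slots_step fs7 301786 261 302047 s7u1044 s7c1045 rfl
theorem s7u1046 : ∀ v, 1 ≤ v → v ≤ 302290 → fs7 v = true := slots_step fs7 302047 243 302290 s7u1045 s7c1046 rfl
theorem s7u1047 : ∀ v, 1 ≤ v → v ≤ 302542 → fs7 v = true := slots_step fs7 302290 252 302542 s7u1046 s7c1047 rfl
theorem s7u1048 : ∀ v, 1 ≤ v → v ≤ 302796 → fs7 v = true := slots_step fs7 302542 254 302796 s7u1047 s7c1048 rfl
theorem s7u1049 : ∀ v, 1 ≤ v → v ≤ 303047 → fs7 v = true := slots_step fs7 302796 251 303047 s7u1048 s7c1049 rfl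
theorem s7u1050 : ∀ v, 1 ≤ v → v ≤ 303287 → fs7 v = true := slots_step fs7 303047 240 303287 s7u1049 s7c1050 rfl
theorem s7u1051 : ∀ v, 1 ≤ v → v ≤ 303548 → fs7 v = true := slots_step fs7 303287 261 303548 s7u1050 s7c1051 rfl
theorem s7u1052 : ∀ v, 1 ≤ v → v ≤ 303827 → fs7 v = true := slots_step fs7 303548 279 303827 s7u1051 s7c1052 rfl
theorem s7u1053 : ∀ v, 1 ≤ v → v ≤ 304109 → fs7 v = true := slots_step fs7 303827 282 304109 s7u1052 s7c1053 rfl
theorem s7u1054 : ∀ v, 1 ≤ v → v ≤ 304387 → fs7 v = true := slots_step fs7 304109 278 304387 s7u1053 s7c1054 rfl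
theorem s7u1055 : ∀ v, 1 ≤ v → v ≤ 304645 → fs7 v = true := slots_step fs7 304387 258 304645 s7u1054 s7c1055 rfl
theorem s7u1056 : ∀ v, 1 ≤ v → v ≤ 304907 → fs7 v = true := slots_step fs7 304645 262 304907 s7u1055 s7c1056 rfl
theorem s7u1057 : ∀ v, 1 ≤ v → v ≤ 305179 → fs7 v = true := slots_step fs7 304907 272 305179 s7u1056 s7c1057 rfl
theorem s7u1058 : ∀ v, 1 ≤ v → v ≤ 305455 → fs7 v = true := slots_step fs7 305179 276 305455 s7u1057 s7c1058 rfl
theorem s7u1059 : ∀ v, 1 ≤ v → v ≤ 305720 → fs7 v = true := slots_step fs7 305455 265 305720 s7u1058 s7c1059 rfl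
theorem s7u1060 : ∀ v, 1 ≤ v → v ≤ 306006 → fs7 v = true := slots_step fs7 305720 286 306006 s7u1059 s7c1060 rfl
theorem s7u1061 : ∀ v, 1 ≤ v → v ≤ 306260 → fs7 v = true := slots_step fs7 306006 254 306260 s7u1060 s7c1061 rfl
theorem s7u1062 : ∀ v, 1 ≤ v → v ≤ 306516 → fs7 v = true := slots_step fs7 306260 256 306516 s7u1061 s7c1062 rfl
theorem s7u1063 : ∀ v, 1 ≤ v → v ≤ 306760 → fs7 v = true := slots_step fs7 306516 244 306760 s7u1062 s7c1063 rfl
theorem s7u1064 : ∀ v, 1 ≤ v → v ≤ 307021 → fs7 v = true := slots_step fs7 306760 261 307021 s7u1063 s7c1064 rfl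
theorem s7u1065 : ∀ v, 1 ≤ v → v ≤ 307283 → fs7 v = true := slots_step fs7 307021 262 307283 s7u1064 s7c1065 rfl
theorem s7u1066 : ∀ v, 1 ≤ v → v ≤ 307569 → fs7 v = true := slots_step fs7 307283 286 307569 s7u1065 s7c1066 rfl
theorem s7u1067 : ∀ v, 1 ≤ v → v ≤ 307833 → fs7 v = true := slots_step fs7 307569 264 307833 s7u1066 s7c1067 rfl
theorem s7u1068 : ∀ v, 1 ≤ v → v ≤ 308122 → fs7 v = true := slots_step fs7 307833 289 308122 s7u1067 s7c1068 rfl
theorem s7u1069 : ∀ v, 1 ≤ v → v ≤ 308385 → fs7 v = true := slots_step fs7 308122 263 308385 s7u1068 s7c1069 rfl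
theorem s7u1070 : ∀ v, 1 ≤ v → v ≤ 308661 → fs7 v = true := slots_step fs7 308385 276 308661 s7u1069 s7c1070 rfl
theorem s7u1071 : ∀ v, 1 ≤ v → v ≤ 308910 → fs7 v = true := slots_step fs7 308661 249 308910 s7u1070 s7c1071 rfl
theorem s7u1072 : ∀ v, 1 ≤ v → v ≤ 309194 → fs7 v = true := slots_step fs7 308910 284 309194 s7u1071 s7c1072 rfl
theorem s7u1073 : ∀ v, 1 ≤ v → v ≤ 309444 → fs7 v = true := slots_step fs7 309194 250 309444 s7u1072 s7c1073 rfl
theorem s7u1074 : ∀ v, 1 ≤ v → v ≤ 309699 → fs7 v = true := slots_step fs7 309444 255 309699 s7u1073 s7c1074 rfl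
theorem s7u1075 : ∀ v, 1 ≤ v → v ≤ 309959 → fs7 v = true := slots_step fs7 309699 260 309959 s7u1074 s7c1075 rfl
theorem s7u1076 : ∀ v, 1 ≤ v → v ≤ 310222 → fs7 v = true := slots_step fs7 309959 263 310222 s7u1075 s7c1076 rfl
theorem s7u1077 : ∀ v, 1 ≤ v → v ≤ 310500 → fs7 v = true := slots_step fs7 310222 278 310500 s7u1076 s7c1077 rfl
theorem s7u1078 : ∀ v, 1 ≤ v → v ≤ 310756 → fs7 v = true := slots_step fs7 310500 256 310756 s7u1077 s7c1078 rfl
theorem s7u1079 : ∀ v, 1 ≤ v → v ≤ 311016 → fs7 v = true := slots_step fs7 310756 260 311016 s7u1078 s7c1079 rfl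
theorem s7u1080 : ∀ v, 1 ≤ v → v ≤ 311293 → fs7 v = true := slots_step fs7 311016 277 311293 s7u1079 s7c1080 rfl
theorem s7u1081 : ∀ v, 1 ≤ v → v ≤ 311561 → fs7 v = true := slots_step fs7 311293 268 311561 s7u1080 s7c1081 rfl
theorem s7u1082 : ∀ v, 1 ≤ v → v ≤ 311813 → fs7 v = true := slots_step fs7 311561 252 311813 s7u1081 s7c1082 rfl
theorem s7u1083 : ∀ v, 1 ≤ v → v ≤ 312059 → fs7 v = true := slots_step fs7 311813 246 312059 s7u1082 s7c1083 rfl
theorem s7u1084 : ∀ v, 1 ≤ v → v ≤ 312321 → fs7 v = true := slots_step fs7 312059 262 312321 s7u1083 s7c1084 rfl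
theorem s7u1085 : ∀ v, 1 ≤ v → v ≤ 312582 → fs7 v = true := slots_step fs7 312321 261 312582 s7u1084 s7c1085 rfl
theorem s7u1086 : ∀ v, 1 ≤ v → v ≤ 312852 → fs7 v = true := slots_step fs7 312582 270 312852 s7u1085 s7c1086 rfl
theorem s7u1087 : ∀ v, 1 ≤ v → v ≤ 313101 → fs7 v = true := slots_step fs7 312852 249 313101 s7u1086 s7c1087 rfl
theorem s7u1088 : ∀ v, 1 ≤ v → v ≤ 313371 → fs7 v = true := slots_step fs7 313101 270 313371 s7u1087 s7c1088 rfl
theorem s7u1089 : ∀ v, 1 ≤ v → v ≤ 313636 → fs7 v = true := slots_step fs7 313371 265 313636 s7u1088 s7c1089 rfl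
theorem s7u1090 : ∀ v, 1 ≤ v → v ≤ 313902 → fs7 v = true := slots_step fs7 313636 266 313902 s7u1089 s7c1090 rfl
theorem s7u1091 : ∀ v, 1 ≤ v → v ≤ 314190 → fs7 v = true := slots_step fs7 313902 288 314190 s7u1090 s7c1091 rfl
theorem s7u1092 : ∀ v, 1 ≤ v → v ≤ 314480 → fs7 v = true := slots_step fs7 314190 290 314480 s7u1091 s7c1092 rfl
theorem s7u1093 : ∀ v, 1 ≤ v → v ≤ 314752 → fs7 v = true := slots_step fs7 314480 272 314752 s7u1092 s7c1093 rfl
theorem s7u1094 : ∀ v, 1 ≤ v → v ≤ 315039 → fs7 v = true := slots_step fs7 314752 287 315039 s7u1093 s7c1094 rfl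
theorem s7u1095 : ∀ v, 1 ≤ v → v ≤ 315299 → fs7 v = true := slots_step fs7 315039 260 315299 s7u1094 s7c1095 rfl
theorem s7u1096 : ∀ v, 1 ≤ v → v ≤ 315580 → fs7 v = true := slots_step fs7 315299 281 315580 s7u1095 s7c1096 rfl
theorem s7u1097 : ∀ v, 1 ≤ v → v ≤ 315847 → fs7 v = true := slots_step fs7 315580 267 315847 s7u1096 s7c1097 rfl
theorem s7u1098 : ∀ v, 1 ≤ v → v ≤ 316121 → fs7 v = true := slots_step fs7 315847 274 316121 s7u1097 s7c1098 rfl
theorem s7u1099 : ∀ v, 1 ≤ v → v ≤ 316412 → fs7 v = true := slots_step fs7 316121 291 316412 s7u1098 s7c1099 rfl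
theorem s7u1100 : ∀ v, 1 ≤ v → v ≤ 316699 → fs7 v = true := slots_step fs7 316412 287 316699 s7u1099 s7c1100 rfl
theorem s7u1101 : ∀ v, 1 ≤ v → v ≤ 316982 → fs7 v = true := slots_step fs7 316699 283 316982 s7u1100 s7c1101 rfl
theorem s7u1102 : ∀ v, 1 ≤ v → v ≤ 317271 → fs7 v = true := slots_step fs7 316982 289 317271 s7u1101 s7c1102 rfl
theorem s7u1103 : ∀ v, 1 ≤ v → v ≤ 317522 → fs7 v = true := slots_step fs7 317271 251 317522 s7u1102 s7c1103 rfl
theorem s7u1104 : ∀ v, 1 ≤ v → v ≤ 317774 → fs7 v = true := slots_step fs7 317522 252 317774 s7u1103 s7c1104 rfl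
theorem s7u1105 : ∀ v, 1 ≤ v → v ≤ 318046 → fs7 v = true := slots_step fs7 317774 272 318046 s7u1104 s7c1105 rfl
theorem s7u1106 : ∀ v, 1 ≤ v → v ≤ 318327 → fs7 v = true := slots_step fs7 318046 281 318327 s7u1105 s7c1106 rfl
theorem s7u1107 : ∀ v, 1 ≤ v → v ≤ 318583 → fs7 v = true := slots_step fs7 318327 256 318583 s7u1106 s7c1107 rfl
theorem s7u1108 : ∀ v, 1 ≤ v → v ≤ 318842 → fs7 v = true := slots_step fs7 318583 259 318842 s7u1107 s7c1108 rfl
theorem s7u1109 : ∀ v, 1 ≤ v → v ≤ 319094 → fs7 v = true := slots_step fs7 318842 252 319094 s7u1108 s7c1109 rfl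
theorem s7u1110 : ∀ v, 1 ≤ v → v ≤ 319380 → fs7 v = true := slots_step fs7 319094 286 319380 s7u1109 s7c1110 rfl
theorem s7u1111 : ∀ v, 1 ≤ v → v ≤ 319640 → fs7 v = true := slots_step fs7 319380 260 319640 s7u1110 s7c1111 rfl
theorem s7u1112 : ∀ v, 1 ≤ v → v ≤ 319871 → fs7 v = true := slots_step fs7 319640 231 319871 s7u1111 s7c1112 rfl
theorem s7u1113 : ∀ v, 1 ≤ v → v ≤ 320110 → fs7 v = true := slots_step fs7 319871 239 320110 s7u1112 s7c1113 rfl
theorem s7u1114 : ∀ v, 1 ≤ v → v ≤ 320364 → fs7 v = true := slots_step fs7 320110 254 320364 s7u1113 s7c1114 rfl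
theorem s7u1115 : ∀ v, 1 ≤ v → v ≤ 320623 → fs7 v = true := slots_step fs7 320364 259 320623 s7u1114 s7c1115 rfl
theorem s7u1116 : ∀ v, 1 ≤ v → v ≤ 320871 → fs7 v = true := slots_step fs7 320623 248 320871 s7u1115 s7c1116 rfl
theorem s7u1117 : ∀ v, 1 ≤ v → v ≤ 321113 → fs7 v = true := slots_step fs7 320871 242 321113 s7u1116 s7c1117 rfl
theorem s7u1118 : ∀ v, 1 ≤ v → v ≤ 321354 → fs7 v = true := slots_step fs7 321113 241 321354 s7u1117 s7c1118 rfl
theorem s7u1119 : ∀ v, 1 ≤ v → v ≤ 321594 → fs7 v = true := slots_step fs7 321354 240 321594 s7u1118 s7c1119 rfl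
theorem s7u1120 : ∀ v, 1 ≤ v → v ≤ 321847 → fs7 v = true := slots_step fs7 321594 253 321847 s7u1119 s7c1120 rfl
theorem s7u1121 : ∀ v, 1 ≤ v → v ≤ 322075 → fs7 v = true := slots_step fs7 321847 228 322075 s7u1120 s7c1121 rfl
theorem s7u1122 : ∀ v, 1 ≤ v → v ≤ 322316 → fs7 v = true := slots_step fs7 322075 241 322316 s7u1121 s7c1122 rfl
theorem s7u1123 : ∀ v, 1 ≤ v → v ≤ 322552 → fs7 v = true := slots_step fs7 322316 236 322552 s7u1122 s7c1123 rfl
theorem s7u1124 : ∀ v, 1 ≤ v → v ≤ 322794 → fs7 v = true := slots_step fs7 322552 242 322794 s7u1123 s7c1124 rfl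
theorem s7u1125 : ∀ v, 1 ≤ v → v ≤ 323057 → fs7 v = true := slots_step fs7 322794 263 323057 s7u1124 s7c1125 rfl
theorem s7u1126 : ∀ v, 1 ≤ v → v ≤ 323291 → fs7 v = true := slots_step fs7 323057 234 323291 s7u1125 s7c1126 rfl
theorem s7u1127 : ∀ v, 1 ≤ v → v ≤ 323555 → fs7 v = true := slots_step fs7 323291 264 323555 s7u1126 s7c1127 rfl
theorem s7u1128 : ∀ v, 1 ≤ v → v ≤ 323814 → fs7 v = true := slots_step fs7 323555 259 323814 s7u1127 s7c1128 rfl
theorem s7u1129 : ∀ v, 1 ≤ v → v ≤ 324064 → fs7 v = true := slots_step fs7 323814 250 324064 s7u1128 s7c1129 rfl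
theorem s7u1130 : ∀ v, 1 ≤ v → v ≤ 324320 → fs7 v = true := slots_step fs7 324064 256 324320 s7u1129 s7c1130 rfl
theorem s7u1131 : ∀ v, 1 ≤ v → v ≤ 324573 → fs7 v = true := slots_step fs7 324320 253 324573 s7u1130 s7c1131 rfl
theorem s7u1132 : ∀ v, 1 ≤ v → v ≤ 324809 → fs7 v = true := slots_step fs7 324573 236 324809 s7u1131 s7c1132 rfl
theorem s7u1133 : ∀ v, 1 ≤ v → v ≤ 325082 → fs7 v = true := slots_step fs7 324809 273 325082 s7u1132 s7c1133 rfl
theorem s7u1134 : ∀ v, 1 ≤ v → v ≤ 325350 → fs7 v = true := slots_step fs7 325082 268 325350 s7u1133 s7c1134 rfl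
theorem s7u1135 : ∀ v, 1 ≤ v → v ≤ 325618 → fs7 v = true := slots_step fs7 325350 268 325618 s7u1134 s7c1135 rfl
theorem s7u1136 : ∀ v, 1 ≤ v → v ≤ 325868 → fs7 v = true := slots_step fs7 325618 250 325868 s7u1135 s7c1136 rfl
theorem s7u1137 : ∀ v, 1 ≤ v → v ≤ 326140 → fs7 v = true := slots_step fs7 325868 272 326140 s7u1136 s7c1137 rfl
theorem s7u1138 : ∀ v, 1 ≤ v → v ≤ 326402 → fs7 v = true := slots_step fs7 326140 262 326402 s7u1137 s7c1138 rfl
theorem s7u1139 : ∀ v, 1 ≤ v → v ≤ 326685 → fs7 v = true := slots_step fs7 326402 283 326685 s7u1138 s7c1139 rfl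
theorem s7u1140 : ∀ v, 1 ≤ v → v ≤ 326939 → fs7 v = true := slots_step fs7 326685 254 326939 s7u1139 s7c1140 rfl
theorem s7u1141 : ∀ v, 1 ≤ v → v ≤ 327184 → fs7 v = true := slots_step fs7 326939 245 327184 s7u1140 s7c1141 rfl
theorem s7u1142 : ∀ v, 1 ≤ v → v ≤ 327429 → fs7 v = true := slots_step fs7 327184 245 327429 s7u1141 s7c1142 rfl
theorem s7u1143 : ∀ v, 1 ≤ v → v ≤ 327679 → fs7 v = true := slots_step fs7 327429 250 327679 s7u1142 s7c1143 rfl
theorem s7u1144 : ∀ v, 1 ≤ v → v ≤ 327948 → fs7 v = true := slots_step fs7 327679 269 327948 s7u1143 s7c1144 rfl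
theorem s7u1145 : ∀ v, 1 ≤ v → v ≤ 328217 → fs7 v = true := slots_step fs7 327948 269 328217 s7u1144 s7c1145 rfl
theorem s7u1146 : ∀ v, 1 ≤ v → v ≤ 328508 → fs7 v = true := slots_step fs7 328217 291 328508 s7u1145 s7c1146 rfl
theorem s7u1147 : ∀ v, 1 ≤ v → v ≤ 328783 → fs7 v = true := slots_step fs7 328508 275 328783 s7u1146 s7c1147 rfl
theorem s7u1148 : ∀ v, 1 ≤ v → v ≤ 329053 → fs7 v = true := slots_step fs7 328783 270 329053 s7u1147 s7c1148 rfl
theorem s7u1149 : ∀ v, 1 ≤ v → v ≤ 329306 → fs7 v = true := slots_step fs7 329053 253 329306 s7u1148 s7c1149 rfl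
theorem s7u1150 : ∀ v, 1 ≤ v → v ≤ 329571 → fs7 v = true := slots_step fs7 329306 265 329571 s7u1149 s7c1150 rfl
theorem s7u1151 : ∀ v, 1 ≤ v → v ≤ 329831 → fs7 v = true := slots_step fs7 329571 260 329831 s7u1150 s7c1151 rfl
theorem s7u1152 : ∀ v, 1 ≤ v → v ≤ 330100 → fs7 v = true := slots_step fs7 329831 269 330100 s7u1151 s7c1152 rfl
theorem s7u1153 : ∀ v, 1 ≤ v → v ≤ 330353 → fs7 v = true := slots_step fs7 330100 253 330353 s7u1152 s7c1153 rfl
theorem s7u1154 : ∀ v, 1 ≤ v → v ≤ 330620 → fs7 v = true := slots_step fs7 330353 267 330620 s7u1153 s7c1154 rfl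
theorem s7u1155 : ∀ v, 1 ≤ v → v ≤ 330885 → fs7 v = true := slots_step fs7 330620 265 330885 s7u1154 s7c1155 rfl
theorem s7u1156 : ∀ v, 1 ≤ v → v ≤ 331147 → fs7 v = true := slots_step fs7 330885 262 331147 s7u1155 s7c1156 rfl
theorem s7u1157 : ∀ v, 1 ≤ v → v ≤ 331406 → fs7 v = true := slots_step fs7 331147 259 331406 s7u1156 s7c1157 rfl
theorem s7u1158 : ∀ v, 1 ≤ v → v ≤ 331666 → fs7 v = true := slots_step fs7 331406 260 331666 s7u1157 s7c1158 rfl
theorem s7u1159 : ∀ v, 1 ≤ v → v ≤ 331931 → fs7 v = true := slots_step fs7 331666 265 331931 s7u1158 s7c1159 rfl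
theorem s7u1160 : ∀ v, 1 ≤ v → v ≤ 332150 → fs7 v = true := slots_step fs7 331931 219 332150 s7u1159 s7c1160 rfl
theorem s7u1161 : ∀ v, 1 ≤ v → v ≤ 332412 → fs7 v = true := slots_step fs7 332150 262 332412 s7u1160 s7c1161 rfl
theorem s7u1162 : ∀ v, 1 ≤ v → v ≤ 332694 → fs7 v = true := slots_step fs7 332412 282 332694 s7u1161 s7c1162 rfl
theorem s7u1163 : ∀ v, 1 ≤ v → v ≤ 332970 → fs7 v = true := slots_step fs7 332694 276 332970 s7u1162 s7c1163 rfl
theorem s7u1164 : ∀ v, 1 ≤ v → v ≤ 333239 → fs7 v = true := slots_step fs7 332970 269 333239 s7u1163 s7c1164 rfl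
theorem s7u1165 : ∀ v, 1 ≤ v → v ≤ 333497 → fs7 v = true := slots_step fs7 333239 258 333497 s7u1164 s7c1165 rfl
theorem s7u1166 : ∀ v, 1 ≤ v → v ≤ 333764 → fs7 v = true := slots_step fs7 333497 267 333764 s7u1165 s7c1166 rfl
theorem s7u1167 : ∀ v, 1 ≤ v → v ≤ 334036 → fs7 v = true := slots_step fs7 333764 272 334036 s7u1166 s7c1167 rfl
theorem s7u1168 : ∀ v, 1 ≤ v → v ≤ 334319 → fs7 v = true := slots_step fs7 334036 283 334319 s7u1167 s7c1168 rfl
theorem s7u1169 : ∀ v, 1 ≤ v → v ≤ 334611 → fs7 v = true := slots_step fs7 334319 292 334611 s7u1168 s7c1169 rfl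
theorem s7u1170 : ∀ v, 1 ≤ v → v ≤ 334860 → fs7 v = true := slots_step fs7 334611 249 334860 s7u1169 s7c1170 rfl
theorem s7u1171 : ∀ v, 1 ≤ v → v ≤ 335101 → fs7 v = true := slots_step fs7 334860 241 335101 s7u1170 s7c1171 rfl
theorem s7u1172 : ∀ v, 1 ≤ v → v ≤ 335373 → fs7 v = true := slots_step fs7 335101 272 335373 s7u1171 s7c1172 rfl
theorem s7u1173 : ∀ v, 1 ≤ v → v ≤ 335615 → fs7 v = true := slots_step fs7 335373 242 335615 s7u1172 s7c1173 rfl
theorem s7u1174 : ∀ v, 1 ≤ v → v ≤ 335878 → fs7 v = true := slots_step fs7 335615 263 335878 s7u1173 s7c1174 rfl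
theorem s7u1175 : ∀ v, 1 ≤ v → v ≤ 336137 → fs7 v = true := slots_step fs7 335878 259 336137 s7u1174 s7c1175 rfl
theorem s7u1176 : ∀ v, 1 ≤ v → v ≤ 336414 → fs7 v = true := slots_step fs7 336137 277 336414 s7u1175 s7c1176 rfl
theorem s7u1177 : ∀ v, 1 ≤ v → v ≤ 336647 → fs7 v = true := slots_step fs7 336414 233 336647 s7u1176 s7c1177 rfl
theorem s7u1178 : ∀ v, 1 ≤ v → v ≤ 336902 → fs7 v = true := slots_step fs7 336647 255 336902 s7u1177 s7c1178 rfl
theorem s7u1179 : ∀ v, 1 ≤ v → v ≤ 337164 → fs7 v = true := slots_step fs7 336902 262 337164 s7u1178 s7c1179 rfl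
theorem s7u1180 : ∀ v, 1 ≤ v → v ≤ 337414 → fs7 v = true := slots_step fs7 337164 250 337414 s7u1179 s7c1180 rfl
theorem s7u1181 : ∀ v, 1 ≤ v → v ≤ 337656 → fs7 v = true := slots_step fs7 337414 242 337656 s7u1180 s7c1181 rfl
theorem s7u1182 : ∀ v, 1 ≤ v → v ≤ 337900 → fs7 v = true := slots_step fs7 337656 244 337900 s7u1181 s7c1182 rfl
theorem s7u1183 : ∀ v, 1 ≤ v → v ≤ 338148 → fs7 v = true := slots_step fs7 337900 248 338148 s7u1182 s7c1183 rfl
theorem s7u1184 : ∀ v, 1 ≤ v → v ≤ 338383 → fs7 v = true := slots_step fs7 338148 235 338383 s7u1183 s7c1184 rfl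
theorem s7u1185 : ∀ v, 1 ≤ v → v ≤ 338613 → fs7 v = true := slots_step fs7 338383 230 338613 s7u1184 s7c1185 rfl
theorem s7u1186 : ∀ v, 1 ≤ v → v ≤ 338839 → fs7 v = true := slots_step fs7 338613 226 338839 s7u1185 s7c1186 rfl
theorem s7u1187 : ∀ v, 1 ≤ v → v ≤ 339082 → fs7 v = true := slots_step fs7 338839 243 339082 s7u1186 s7c1187 rfl
theorem s7u1188 : ∀ v, 1 ≤ v → v ≤ 339346 → fs7 v = true := slots_step fs7 339082 264 339346 s7u1187 s7c1188 rfl
theorem s7u1189 : ∀ v, 1 ≤ v → v ≤ 339606 → fs7 v = true := slots_step fs7 339346 260 339606 s7u1188 s7c1189 rfl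
theorem s7u1190 : ∀ v, 1 ≤ v → v ≤ 339851 → fs7 v = true := slots_step fs7 339606 245 339851 s7u1189 s7c1190 rfl
theorem s7u1191 : ∀ v, 1 ≤ v → v ≤ 340071 → fs7 v = true := slots_step fs7 339851 220 340071 s7u1190 s7c1191 rfl
theorem s7u1192 : ∀ v, 1 ≤ v → v ≤ 340293 → fs7 v = true := slots_step fs7 340071 222 340293 s7u1191 s7c1192 rfl
theorem s7u1193 : ∀ v, 1 ≤ v → v ≤ 340546 → fs7 v = true := slots_step fs7 340293 253 340546 s7u1192 s7c1193 rfl
theorem s7u1194 : ∀ v, 1 ≤ v → v ≤ 340792 → fs7 v = true := slots_step fs7 340546 246 340792 s7u1193 s7c1194 rfl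
theorem s7u1195 : ∀ v, 1 ≤ v → v ≤ 341060 → fs7 v = true := slots_step fs7 340792 268 341060 s7u1194 s7c1195 rfl
theorem s7u1196 : ∀ v, 1 ≤ v → v ≤ 341330 → fs7 v = true := slots_step fs7 341060 270 341330 s7u1195 s7c1196 rfl
theorem s7u1197 : ∀ v, 1 ≤ v → v ≤ 341571 → fs7 v = true := slots_step fs7 341330 241 341571 s7u1196 s7c1197 rfl
theorem s7u1198 : ∀ v, 1 ≤ v → v ≤ 341819 → fs7 v = true := slots_step fs7 341571 248 341819 s7u1197 s7c1198 rfl
theorem s7u1199 : ∀ v, 1 ≤ v → v ≤ 342056 → fs7 v = true := slots_step fs7 341819 237 342056 s7u1198 s7c1199 rfl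
theorem s7u1200 : ∀ v, 1 ≤ v → v ≤ 342345 → fs7 v = true := slots_step fs7 342056 289 342345 s7u1199 s7c1200 rfl
theorem s7u1201 : ∀ v, 1 ≤ v → v ≤ 342619 → fs7 v = true := slots_step fs7 342345 274 342619 s7u1200 s7c1201 rfl
theorem s7u1202 : ∀ v, 1 ≤ v → v ≤ 342880 → fs7 v = true := slots_step fs7 342619 261 342880 s7u1201 s7c1202 rfl
theorem s7u1203 : ∀ v, 1 ≤ v → v ≤ 343138 → fs7 v = true := slots_step fs7 342880 258 343138 s7u1202 s7c1203 rfl
theorem s7u1204 : ∀ v, 1 ≤ v → v ≤ 343392 → fs7 v = true := slots_step fs7 343138 254 343392 s7u1203 s7c1204 rfl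
theorem s7u1205 : ∀ v, 1 ≤ v → v ≤ 343647 → fs7 v = true := slots_step fs7 343392 255 343647 s7u1204 s7c1205 rfl
theorem s7u1206 : ∀ v, 1 ≤ v → v ≤ 343912 → fs7 v = true := slots_step fs7 343647 265 343912 s7u1205 s7c1206 rfl
theorem s7u1207 : ∀ v, 1 ≤ v → v ≤ 344174 → fs7 v = true := slots_step fs7 343912 262 344174 s7u1206 s7c1207 rfl
theorem s7u1208 : ∀ v, 1 ≤ v → v ≤ 344426 → fs7 v = true := slots_step fs7 344174 252 344426 s7u1207 s7c1208 rfl
theorem s7u1209 : ∀ v, 1 ≤ v → v ≤ 344692 → fs7 v = true := slots_step fs7 344426 266 344692 s7u1208 s7c1209 rfl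
theorem s7u1210 : ∀ v, 1 ≤ v → v ≤ 344943 → fs7 v = true := slots_step fs7 344692 251 344943 s7u1209 s7c1210 rfl
theorem s7u1211 : ∀ v, 1 ≤ v → v ≤ 345207 → fs7 v = true := slots_step fs7 344943 264 345207 s7u1210 s7c1211 rfl
theorem s7u1212 : ∀ v, 1 ≤ v → v ≤ 345466 → fs7 v = true := slots_step fs7 345207 259 345466 s7u1211 s7c1212 rfl
theorem s7u1213 : ∀ v, 1 ≤ v → v ≤ 345736 → fs7 v = true := slots_step fs7 345466 270 345736 s7u1212 s7c1213 rfl
theorem s7u1214 : ∀ v, 1 ≤ v → v ≤ 346004 → fs7 v = true := slots_step fs7 345736 268 346004 s7u1213 s7c1214 rfl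
theorem s7u1215 : ∀ v, 1 ≤ v → v ≤ 346261 → fs7 v = true := slots_step fs7 346004 257 346261 s7u1214 s7c1215 rfl
theorem s7u1216 : ∀ v, 1 ≤ v → v ≤ 346515 → fs7 v = true := slots_step fs7 346261 254 346515 s7u1215 s7c1216 rfl
theorem s7u1217 : ∀ v, 1 ≤ v → v ≤ 346774 → fs7 v = true := slots_step fs7 346515 259 346774 s7u1216 s7c1217 rfl
theorem s7u1218 : ∀ v, 1 ≤ v → v ≤ 347027 → fs7 v = true := slots_step fs7 346774 253 347027 s7u1217 s7c1218 rfl
theorem s7u1219 : ∀ v, 1 ≤ v → v ≤ 347288 → fs7 v = true := slots_step fs7 347027 261 347288 s7u1218 s7c1219 rfl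
theorem s7u1220 : ∀ v, 1 ≤ v → v ≤ 347547 → fs7 v = true := slots_step fs7 347288 259 347547 s7u1219 s7c1220 rfl
theorem s7u1221 : ∀ v, 1 ≤ v → v ≤ 347798 → fs7 v = true := slots_step fs7 347547 251 347798 s7u1220 s7c1221 rfl
theorem s7u1222 : ∀ v, 1 ≤ v → v ≤ 348045 → fs7 v = true := slots_step fs7 347798 247 348045 s7u1221 s7c1222 rfl
theorem s7u1223 : ∀ v, 1 ≤ v → v ≤ 348276 → fs7 v = true := slots_step fs7 348045 231 348276 s7u1222 s7c1223 rfl
theorem s7u1224 : ∀ v, 1 ≤ v → v ≤ 348465 → fs7 v = true := slots_step fs7 348276 189 348465 s7u1223 s7c1224 rfl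
theorem s7u1225 : ∀ v, 1 ≤ v → v ≤ 348668 → fs7 v = true := slots_step fs7 348465 203 348668 s7u1224 s7c1225 rfl
theorem s7u1226 : ∀ v, 1 ≤ v → v ≤ 348913 → fs7 v = true := slots_step fs7 348668 245 348913 s7u1225 s7c1226 rfl
theorem s7u1227 : ∀ v, 1 ≤ v → v ≤ 349172 → fs7 v = true := slots_step fs7 348913 259 349172 s7u1226 s7c1227 rfl
theorem s7u1228 : ∀ v, 1 ≤ v → v ≤ 349432 → fs7 v = true := slots_step fs7 349172 260 349432 s7u1227 s7c1228 rfl
theorem s7u1229 : ∀ v, 1 ≤ v → v ≤ 349690 → fs7 v = true := slots_step fs7 349432 258 349690 s7u1228 s7c1229 rfl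
theorem s7u1230 : ∀ v, 1 ≤ v → v ≤ 349947 → fs7 v = true := slots_step fs7 349690 257 349947 s7u1229 s7c1230 rfl
theorem s7u1231 : ∀ v, 1 ≤ v → v ≤ 350184 → fs7 v = true := slots_step fs7 349947 237 350184 s7u1230 s7c1231 rfl
theorem s7u1232 : ∀ v, 1 ≤ v → v ≤ 350425 → fs7 v = true := slots_step fs7 350184 241 350425 s7u1231 s7c1232 rfl
theorem s7u1233 : ∀ v, 1 ≤ v → v ≤ 350693 → fs7 v = true := slots_step fs7 350425 268 350693 s7u1232 s7c1233 rfl
theorem s7u1234 : ∀ v, 1 ≤ v → v ≤ 350951 → fs7 v = true := slots_step fs7 350693 258 350951 s7u1233 s7c1234 rfl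
theorem s7u1235 : ∀ v, 1 ≤ v → v ≤ 351199 → fs7 v = true := slots_step fs7 350951 248 351199 s7u1234 s7c1235 rfl
theorem s7u1236 : ∀ v, 1 ≤ v → v ≤ 351449 → fs7 v = true := slots_step fs7 351199 250 351449 s7u1235 s7c1236 rfl
theorem s7u1237 : ∀ v, 1 ≤ v → v ≤ 351706 → fs7 v = true := slots_step fs7 351449 257 351706 s7u1236 s7c1237 rfl
theorem s7u1238 : ∀ v, 1 ≤ v → v ≤ 351957 → fs7 v = true := slots_step fs7 351706 251 351957 s7u1237 s7c1238 rfl
theorem s7u1239 : ∀ v, 1 ≤ v → v ≤ 352199 → fs7 v = true := slots_step fs7 351957 242 352199 s7u1238 s7c1239 rfl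
theorem s7u1240 : ∀ v, 1 ≤ v → v ≤ 352455 → fs7 v = true := slots_step fs7 352199 256 352455 s7u1239 s7c1240 rfl
theorem s7u1241 : ∀ v, 1 ≤ v → v ≤ 352730 → fs7 v = true := slots_step fs7 352455 275 352730 s7u1240 s7c1241 rfl
theorem s7u1242 : ∀ v, 1 ≤ v → v ≤ 352998 → fs7 v = true := slots_step fs7 352730 268 352998 s7u1241 s7c1242 rfl
theorem s7u1243 : ∀ v, 1 ≤ v → v ≤ 353274 → fs7 v = true := slots_step fs7 352998 276 353274 s7u1242 s7c1243 rfl
theorem s7u1244 : ∀ v, 1 ≤ v → v ≤ 353524 → fs7 v = true := slots_step fs7 353274 250 353524 s7u1243 s7c1244 rfl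
theorem s7u1245 : ∀ v, 1 ≤ v → v ≤ 353763 → fs7 v = true := slots_step fs7 353524 239 353763 s7u1244 s7c1245 rfl
theorem s7u1246 : ∀ v, 1 ≤ v → v ≤ 353995 → fs7 v = true := slots_step fs7 353763 232 353995 s7u1245 s7c1246 rfl
theorem s7u1247 : ∀ v, 1 ≤ v → v ≤ 354247 → fs7 v = true := slots_step fs7 353995 252 354247 s7u1246 s7c1247 rfl
theorem s7u1248 : ∀ v, 1 ≤ v → v ≤ 354487 → fs7 v = true := slots_step fs7 354247 240 354487 s7u1247 s7c1248 rfl
theorem s7u1249 : ∀ v, 1 ≤ v → v ≤ 354726 → fs7 v = true := slots_step fs7 354487 239 354726 s7u1248 s7c1249 rfl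
theorem s7u1250 : ∀ v, 1 ≤ v → v ≤ 354996 → fs7 v = true := slots_step fs7 354726 270 354996 s7u1249 s7c1250 rfl
theorem s7u1251 : ∀ v, 1 ≤ v → v ≤ 355227 → fs7 v = true := slots_step fs7 354996 231 355227 s7u1250 s7c1251 rfl
theorem s7u1252 : ∀ v, 1 ≤ v → v ≤ 355477 → fs7 v = true := slots_step fs7 355227 250 355477 s7u1251 s7c1252 rfl
theorem s7u1253 : ∀ v, 1 ≤ v → v ≤ 355754 → fs7 v = true := slots_step fs7 355477 277 355754 s7u1252 s7c1253 rfl
theorem s7u1254 : ∀ v, 1 ≤ v → v ≤ 356026 → fs7 v = true := slots_step fs7 355754 272 356026 s7u1253 s7c1254 rfl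
theorem s7u1255 : ∀ v, 1 ≤ v → v ≤ 356256 → fs7 v = true := slots_step fs7 356026 230 356256 s7u1254 s7c1255 rfl
theorem s7u1256 : ∀ v, 1 ≤ v → v ≤ 356501 → fs7 v = true := slots_step fs7 356256 245 356501 s7u1255 s7c1256 rfl
theorem s7u1257 : ∀ v, 1 ≤ v → v ≤ 356763 → fs7 v = true := slots_step fs7 356501 262 356763 s7u1256 s7c1257 rfl
theorem s7u1258 : ∀ v, 1 ≤ v → v ≤ 357030 → fs7 v = true := slots_step fs7 356763 267 357030 s7u1257 s7c1258 rfl
theorem s7u1259 : ∀ v, 1 ≤ v → v ≤ 357291 → fs7 v = true := slots_step fs7 357030 261 357291 s7u1258 s7c1259 rfl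
theorem s7u1260 : ∀ v, 1 ≤ v → v ≤ 357465 → fs7 v = true := slots_step fs7 357291 174 357465 s7u1259 s7c1260 rfl
theorem s8u0 : ∀ v, 1 ≤ v → v ≤ 256 → fs8 v = true := slots_step fs8 0 256 256 (slots_zero fs8) s8c0 rfl
theorem s8u1 : ∀ v, 1 ≤ v → v ≤ 529 → fs8 v = true := slots_step fs8 256 273 529 s8u0 s8c1 rfl
theorem s8u2 : ∀ v, 1 ≤ v → v ≤ 793 → fs8 v = true := slots_step fs8 529 264 793 s8u1 s8c2 rfl
theorem s8u3 : ∀ v, 1 ≤ v → v ≤ 1065 → fs8 v = true := slots_step fs8 793 272 1065 s8u2 s8c3 rfl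
theorem s8u4 : ∀ v, 1 ≤ v → v ≤ 1331 → fs8 v = true := slots_step fs8 1065 266 1331 s8u3 s8c4 rfl
theorem s8u5 : ∀ v, 1 ≤ v → v ≤ 1606 → fs8 v = true := slots_step fs8 1331 275 1606 s8u4 s8c5 rfl
theorem s8u6 : ∀ v, 1 ≤ v → v ≤ 1878 → fs8 v = true := slots_step fs8 1606 272 1878 s8u5 s8c6 rfl
theorem s8u7 : ∀ v, 1 ≤ v → v ≤ 2160 → fs8 v = true := slots_step fs8 1878 282 2160 s8u6 s8c7 rfl
theorem s8u8 : ∀ v, 1 ≤ v → v ≤ 2436 → fs8 v = true := slots_step fs8 2160 276 2436 s8u7 s8c8 rfl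
theorem s8u9 : ∀ v, 1 ≤ v → v ≤ 2722 → fs8 v = true := slots_step fs8 2436 286 2722 s8u8 s8c9 rfl
theorem s8u10 : ∀ v, 1 ≤ v → v ≤ 2990 → fs8 v = true := slots_step fs8 2722 268 2990 s8u9 s8c10 rfl
theorem s8u11 : ∀ v, 1 ≤ v → v ≤ 3278 → fs8 v = true := slots_step fs8 2990 288 3278 s8u10 s8c11 rfl
theorem s8u12 : ∀ v, 1 ≤ v → v ≤ 3570 → fs8 v = true := slots_step fs8 3278 292 3570 s8u11 s8c12 rfl
theorem s8u13 : ∀ v, 1 ≤ v → v ≤ 3844 → fs8 v = true := slots_step fs8 3570 274 3844 s8u12 s8c13 rfl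
theorem s8u14 : ∀ v, 1 ≤ v → v ≤ 4124 → fs8 v = true := slots_step fs8 3844 280 4124 s8u13 s8c14 rfl
theorem s8u15 : ∀ v, 1 ≤ v → v ≤ 4428 → fs8 v = true := slots_step fs8 4124 304 4428 s8u14 s8c15 rfl
theorem s8u16 : ∀ v, 1 ≤ v → v ≤ 4705 → fs8 v = true := slots_step fs8 4428 277 4705 s8u15 s8c16 rfl
theorem s8u17 : ∀ v, 1 ≤ v → v ≤ 5016 → fs8 v = true := slots_step fs8 4705 311 5016 s8u16 s8c17 rfl
theorem s8u18 : ∀ v, 1 ≤ v → v ≤ 5290 → fs8 v = true := slots_step fs8 5016 274 5290 s8u17 s8c18 rfl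
theorem s8u19 : ∀ v, 1 ≤ v → v ≤ 5583 → fs8 v = true := slots_step fs8 5290 293 5583 s8u18 s8c19 rfl
theorem s8u20 : ∀ v, 1 ≤ v → v ≤ 5867 → fs8 v = true := slots_step fs8 5583 284 5867 s8u19 s8c20 rfl
theorem s8u21 : ∀ v, 1 ≤ v → v ≤ 6177 → fs8 v = true := slots_step fs8 5867 310 6177 s8u20 s8c21 rfl
theorem s8u22 : ∀ v, 1 ≤ v → v ≤ 6453 → fs8 v = true := slots_step fs8 6177 276 6453 s8u21 s8c22 rfl
theorem s8u23 : ∀ v, 1 ≤ v → v ≤ 6747 → fs8 v = true := slots_step fs8 6453 294 6747 s8u22 s8c23 rfl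
theorem s8u24 : ∀ v, 1 ≤ v → v ≤ 7065 → fs8 v = true := slots_step fs8 6747 318 7065 s8u23 s8c24 rfl
theorem s8u25 : ∀ v, 1 ≤ v → v ≤ 7352 → fs8 v = true := slots_step fs8 7065 287 7352 s8u24 s8c25 rfl
theorem s8u26 : ∀ v, 1 ≤ v → v ≤ 7671 → fs8 v = true := slots_step fs8 7352 319 7671 s8u25 s8c26 rfl
theorem s8u27 : ∀ v, 1 ≤ v → v ≤ 7953 → fs8 v = true := slots_step fs8 7671 282 7953 s8u26 s8c27 rfl
theorem s8u28 : ∀ v, 1 ≤ v → v ≤ 8256 → fs8 v = true := slots_step fs8 7953 303 8256 s8u27 s8c28 rfl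
theorem s8u29 : ∀ v, 1 ≤ v → v ≤ 8578 → fs8 v = true := slots_step fs8 8256 322 8578 s8u28 s8c29 rfl
theorem s8u30 : ∀ v, 1 ≤ v → v ≤ 8856 → fs8 v = true := slots_step fs8 8578 278 8856 s8u29 s8c30 rfl
theorem s8u31 : ∀ v, 1 ≤ v → v ≤ 9147 → fs8 v = true := slots_step fs8 8856 291 9147 s8u30 s8c31 rfl
theorem s8u32 : ∀ v, 1 ≤ v → v ≤ 9483 → fs8 v = true := slots_step fs8 9147 336 9483 s8u31 s8c32 rfl
theorem s8u33 : ∀ v, 1 ≤ v → v ≤ 9839 → fs8 v = true := slots_step fs8 9483 356 9839 s8u32 s8c33 rfl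
theorem s8u34 : ∀ v, 1 ≤ v → v ≤ 10125 → fs8 v = true := slots_step fs8 9839 286 10125 s8u33 s8c34 rfl
theorem s8u35 : ∀ v, 1 ≤ v → v ≤ 10451 → fs8 v = true := slots_step fs8 10125 326 10451 s8u34 s8c35 rfl
theorem s8u36 : ∀ v, 1 ≤ v → v ≤ 10736 → fs8 v = true := slots_step fs8 10451 285 10736 s8u35 s8c36 rfl
theorem s8u37 : ∀ v, 1 ≤ v → v ≤ 11005 → fs8 v = true := slots_step fs8 10736 269 11005 s8u36 s8c37 rfl
theorem s8u38 : ∀ v, 1 ≤ v → v ≤ 11308 → fs8 v = true := slots_step fs8 11005 303 11308 s8u37 s8c38 rfl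
theorem s8u39 : ∀ v, 1 ≤ v → v ≤ 11592 → fs8 v = true := slots_step fs8 11308 284 11592 s8u38 s8c39 rfl
theorem s8u40 : ∀ v, 1 ≤ v → v ≤ 11873 → fs8 v = true := slots_step fs8 11592 281 11873 s8u39 s8c40 rfl
theorem s8u41 : ∀ v, 1 ≤ v → v ≤ 12155 → fs8 v = true := slots_step fs8 11873 282 12155 s8u40 s8c41 rfl
theorem s8u42 : ∀ v, 1 ≤ v → v ≤ 12465 → fs8 v = true := slots_step fs8 12155 310 12465 s8u41 s8c42 rfl
theorem s8u43 : ∀ v, 1 ≤ v → v ≤ 12797 → fs8 v = true := slots_step fs8 12465 332 12797 s8u42 s8c43 rfl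
theorem s8u44 : ∀ v, 1 ≤ v → v ≤ 13083 → fs8 v = true := slots_step fs8 12797 286 13083 s8u43 s8c44 rfl
theorem s8u45 : ∀ v, 1 ≤ v → v ≤ 13400 → fs8 v = true := slots_step fs8 13083 317 13400 s8u44 s8c45 rfl
theorem s8u46 : ∀ v, 1 ≤ v → v ≤ 13686 → fs8 v = true := slots_step fs8 13400 286 13686 s8u45 s8c46 rfl
theorem s8u47 : ∀ v, 1 ≤ v → v ≤ 13976 → fs8 v = true := slots_step fs8 13686 290 13976 s8u46 s8c47 rfl
theorem s8u48 : ∀ v, 1 ≤ v → v ≤ 14251 → fs8 v = true := slots_step fs8 13976 275 14251 s8u47 s8c48 rfl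
theorem s8u49 : ∀ v, 1 ≤ v → v ≤ 14577 → fs8 v = true := slots_step fs8 14251 326 14577 s8u48 s8c49 rfl
theorem s8u50 : ∀ v, 1 ≤ v → v ≤ 14866 → fs8 v = true := slots_step fs8 14577 289 14866 s8u49 s8c50 rfl
theorem s8u51 : ∀ v, 1 ≤ v → v ≤ 15147 → fs8 v = true := slots_step fs8 14866 281 15147 s8u50 s8c51 rfl
theorem s8u52 : ∀ v, 1 ≤ v → v ≤ 15433 → fs8 v = true := slots_step fs8 15147 286 15433 s8u51 s8c52 rfl
theorem s8u53 : ∀ v, 1 ≤ v → v ≤ 15718 → fs8 v = true := slots_step fs8 15433 285 15718 s8u52 s8c53 rfl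
theorem s8u54 : ∀ v, 1 ≤ v → v ≤ 16025 → fs8 v = true := slots_step fs8 15718 307 16025 s8u53 s8c54 rfl
theorem s8u55 : ∀ v, 1 ≤ v → v ≤ 16372 → fs8 v = true := slots_step fs8 16025 347 16372 s8u54 s8c55 rfl
theorem s8u56 : ∀ v, 1 ≤ v → v ≤ 16712 → fs8 v = true := slots_step fs8 16372 340 16712 s8u55 s8c56 rfl
theorem s8u57 : ∀ v, 1 ≤ v → v ≤ 17007 → fs8 v = true := slots_step fs8 16712 295 17007 s8u56 s8c57 rfl
theorem s8u58 : ∀ v, 1 ≤ v → v ≤ 17300 → fs8 v = true := slots_step fs8 17007 293 17300 s8u57 s8c58 rfl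
theorem s8u59 : ∀ v, 1 ≤ v → v ≤ 17649 → fs8 v = true := slots_step fs8 17300 349 17649 s8u58 s8c59 rfl
theorem s8u60 : ∀ v, 1 ≤ v → v ≤ 17929 → fs8 v = true := slots_step fs8 17649 280 17929 s8u59 s8c60 rfl
theorem s8u61 : ∀ v, 1 ≤ v → v ≤ 18228 → fs8 v = true := slots_step fs8 17929 299 18228 s8u60 s8c61 rfl
theorem s8u62 : ∀ v, 1 ≤ v → v ≤ 18506 → fs8 v = true := slots_step fs8 18228 278 18506 s8u61 s8c62 rfl
theorem s8u63 : ∀ v, 1 ≤ v → v ≤ 18807 → fs8 v = true := slots_step fs8 18506 301 18807 s8u62 s8c63 rfl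
theorem s8u64 : ∀ v, 1 ≤ v → v ≤ 19153 → fs8 v = true := slots_step fs8 18807 346 19153 s8u63 s8c64 rfl
theorem s8u65 : ∀ v, 1 ≤ v → v ≤ 19441 → fs8 v = true := slots_step fs8 19153 288 19441 s8u64 s8c65 rfl
theorem s8u66 : ∀ v, 1 ≤ v → v ≤ 19724 → fs8 v = true := slots_step fs8 19441 283 19724 s8u65 s8c66 rfl
theorem s8u67 : ∀ v, 1 ≤ v → v ≤ 20006 → fs8 v = true := slots_step fs8 19724 282 20006 s8u66 s8c67 rfl
theorem s8u68 : ∀ v, 1 ≤ v → v ≤ 20297 → fs8 v = true := slots_step fs8 20006 291 20297 s8u67 s8c68 rfl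
theorem s8u69 : ∀ v, 1 ≤ v → v ≤ 20587 → fs8 v = true := slots_step fs8 20297 290 20587 s8u68 s8c69 rfl
theorem s8u70 : ∀ v, 1 ≤ v → v ≤ 20878 → fs8 v = true := slots_step fs8 20587 291 20878 s8u69 s8c70 rfl
theorem s8u71 : ∀ v, 1 ≤ v → v ≤ 21213 → fs8 v = true := slots_step fs8 20878 335 21213 s8u70 s8c71 rfl
theorem s8u72 : ∀ v, 1 ≤ v → v ≤ 21578 → fs8 v = true := slots_step fs8 21213 365 21578 s8u71 s8c72 rfl
theorem s8u73 : ∀ v, 1 ≤ v → v ≤ 21940 → fs8 v = true := slots_step fs8 21578 362 21940 s8u72 s8c73 rfl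
theorem s8u74 : ∀ v, 1 ≤ v → v ≤ 22225 → fs8 v = true := slots_step fs8 21940 285 22225 s8u73 s8c74 rfl
theorem s8u75 : ∀ v, 1 ≤ v → v ≤ 22538 → fs8 v = true := slots_step fs8 22225 313 22538 s8u74 s8c75 rfl
theorem s8u76 : ∀ v, 1 ≤ v → v ≤ 22850 → fs8 v = true := slots_step fs8 22538 312 22850 s8u75 s8c76 rfl
theorem s8u77 : ∀ v, 1 ≤ v → v ≤ 23227 → fs8 v = true := slots_step fs8 22850 377 23227 s8u76 s8c77 rfl
theorem s8u78 : ∀ v, 1 ≤ v → v ≤ 23514 → fs8 v = true := slots_step fs8 23227 287 23514 s8u77 s8c78 rfl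
theorem s8u79 : ∀ v, 1 ≤ v → v ≤ 23792 → fs8 v = true := slots_step fs8 23514 278 23792 s8u78 s8c79 rfl
theorem s8u80 : ∀ v, 1 ≤ v → v ≤ 24100 → fs8 v = true := slots_step fs8 23792 308 24100 s8u79 s8c80 rfl
theorem s8u81 : ∀ v, 1 ≤ v → v ≤ 24396 → fs8 v = true := slots_step fs8 24100 296 24396 s8u80 s8c81 rfl
theorem s8u82 : ∀ v, 1 ≤ v → v ≤ 24686 → fs8 v = true := slots_step fs8 24396 290 24686 s8u81 s8c82 rfl
theorem s8u83 : ∀ v, 1 ≤ v → v ≤ 24997 → fs8 v = true := slots_step fs8 24686 311 24997 s8u82 s8c83 rfl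
theorem s8u84 : ∀ v, 1 ≤ v → v ≤ 25358 → fs8 v = true := slots_step fs8 24997 361 25358 s8u83 s8c84 rfl
theorem s8u85 : ∀ v, 1 ≤ v → v ≤ 25661 → fs8 v = true := slots_step fs8 25358 303 25661 s8u84 s8c85 rfl
theorem s8u86 : ∀ v, 1 ≤ v → v ≤ 25937 → fs8 v = true := slots_step fs8 25661 276 25937 s8u85 s8c86 rfl
theorem s8u87 : ∀ v, 1 ≤ v → v ≤ 26217 → fs8 v = true := slots_step fs8 25937 280 26217 s8u86 s8c87 rfl
theorem s8u88 : ∀ v, 1 ≤ v → v ≤ 26491 → fs8 v = true := slots_step fs8 26217 274 26491 s8u87 s8c88 rfl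
theorem s8u89 : ∀ v, 1 ≤ v → v ≤ 26798 → fs8 v = true := slots_step fs8 26491 307 26798 s8u88 s8c89 rfl
theorem s8u90 : ∀ v, 1 ≤ v → v ≤ 27091 → fs8 v = true := slots_step fs8 26798 293 27091 s8u89 s8c90 rfl
theorem s8u91 : ∀ v, 1 ≤ v → v ≤ 27405 → fs8 v = true := slots_step fs8 27091 314 27405 s8u90 s8c91 rfl
theorem s8u92 : ∀ v, 1 ≤ v → v ≤ 27705 → fs8 v = true := slots_step fs8 27405 300 27705 s8u91 s8c92 rfl
theorem s8u93 : ∀ v, 1 ≤ v → v ≤ 27994 → fs8 v = true := slots_step fs8 27705 289 27994 s8u92 s8c93 rfl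
theorem s8u94 : ∀ v, 1 ≤ v → v ≤ 28361 → fs8 v = true := slots_step fs8 27994 367 28361 s8u93 s8c94 rfl
theorem s8u95 : ∀ v, 1 ≤ v → v ≤ 28743 → fs8 v = true := slots_step fs8 28361 382 28743 s8u94 s8c95 rfl
theorem s8u96 : ∀ v, 1 ≤ v → v ≤ 29148 → fs8 v = true := slots_step fs8 28743 405 29148 s8u95 s8c96 rfl
theorem s8u97 : ∀ v, 1 ≤ v → v ≤ 29440 → fs8 v = true := slots_step fs8 29148 292 29440 s8u96 s8c97 rfl
theorem s8u98 : ∀ v, 1 ≤ v → v ≤ 29725 → fs8 v = true := slots_step fs8 29440 285 29725 s8u97 s8c98 rfl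
theorem s8u99 : ∀ v, 1 ≤ v → v ≤ 30041 → fs8 v = true := slots_step fs8 29725 316 30041 s8u98 s8c99 rfl
theorem s8u100 : ∀ v, 1 ≤ v → v ≤ 30377 → fs8 v = true := slots_step fs8 30041 336 30377 s8u99 s8c100 rfl
theorem s8u101 : ∀ v, 1 ≤ v → v ≤ 30739 → fs8 v = true := slots_step fs8 30377 362 30739 s8u100 s8c101 rfl
theorem s8u102 : ∀ v, 1 ≤ v → v ≤ 31090 → fs8 v = true := slots_step fs8 30739 351 31090 s8u101 s8c102 rfl
theorem s8u103 : ∀ v, 1 ≤ v → v ≤ 31372 → fs8 v = true := slots_step fs8 31090 282 31372 s8u102 s8c103 rfl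
theorem s8u104 : ∀ v, 1 ≤ v → v ≤ 31656 → fs8 v = true := slots_step fs8 31372 284 31656 s8u103 s8c104 rfl
theorem s8u105 : ∀ v, 1 ≤ v → v ≤ 31932 → fs8 v = true := slots_step fs8 31656 276 31932 s8u104 s8c105 rfl
theorem s8u106 : ∀ v, 1 ≤ v → v ≤ 32256 → fs8 v = true := slots_step fs8 31932 324 32256 s8u105 s8c106 rfl
theorem s8u107 : ∀ v, 1 ≤ v → v ≤ 32559 → fs8 v = true := slots_step fs8 32256 303 32559 s8u106 s8c107 rfl
theorem s8u108 : ∀ v, 1 ≤ v → v ≤ 32869 → fs8 v = true := slots_step fs8 32559 310 32869 s8u107 s8c108 rfl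
theorem s8u109 : ∀ v, 1 ≤ v → v ≤ 33169 → fs8 v = true := slots_step fs8 32869 300 33169 s8u108 s8c109 rfl
theorem s8u110 : ∀ v, 1 ≤ v → v ≤ 33479 → fs8 v = true := slots_step fs8 33169 310 33479 s8u109 s8c110 rfl
theorem s8u111 : ∀ v, 1 ≤ v → v ≤ 33896 → fs8 v = true := slots_step fs8 33479 417 33896 s8u110 s8c111 rfl
theorem s8u112 : ∀ v, 1 ≤ v → v ≤ 34205 → fs8 v = true := slots_step fs8 33896 309 34205 s8u111 s8c112 rfl
theorem s8u113 : ∀ v, 1 ≤ v → v ≤ 34509 → fs8 v = true := slots_step fs8 34205 304 34509 s8u112 s8c113 rfl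
theorem s8u114 : ∀ v, 1 ≤ v → v ≤ 34783 → fs8 v = true := slots_step fs8 34509 274 34783 s8u113 s8c114 rfl
theorem s8u115 : ∀ v, 1 ≤ v → v ≤ 35066 → fs8 v = true := slots_step fs8 34783 283 35066 s8u114 s8c115 rfl
theorem s8u116 : ∀ v, 1 ≤ v → v ≤ 35345 → fs8 v = true := slots_step fs8 35066 279 35345 s8u115 s8c116 rfl
theorem s8u117 : ∀ v, 1 ≤ v → v ≤ 35624 → fs8 v = true := slots_step fs8 35345 279 35624 s8u116 s8c117 rfl
theorem s8u118 : ∀ v, 1 ≤ v → v ≤ 35927 → fs8 v = true := slots_step fs8 35624 303 35927 s8u117 s8c118 rfl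
theorem s8u119 : ∀ v, 1 ≤ v → v ≤ 36247 → fs8 v = true := slots_step fs8 35927 320 36247 s8u118 s8c119 rfl
theorem s8u120 : ∀ v, 1 ≤ v → v ≤ 36547 → fs8 v = true := slots_step fs8 36247 300 36547 s8u119 s8c120 rfl
theorem s8u121 : ∀ v, 1 ≤ v → v ≤ 36851 → fs8 v = true := slots_step fs8 36547 304 36851 s8u120 s8c121 rfl
theorem s8u122 : ∀ v, 1 ≤ v → v ≤ 37195 → fs8 v = true := slots_step fs8 36851 344 37195 s8u121 s8c122 rfl
theorem s8u123 : ∀ v, 1 ≤ v → v ≤ 37506 → fs8 v = true := slots_step fs8 37195 311 37506 s8u122 s8c123 rfl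
theorem s8u124 : ∀ v, 1 ≤ v → v ≤ 37794 → fs8 v = true := slots_step fs8 37506 288 37794 s8u123 s8c124 rfl
theorem s8u125 : ∀ v, 1 ≤ v → v ≤ 38188 → fs8 v = true := slots_step fs8 37794 394 38188 s8u124 s8c125 rfl
theorem s8u126 : ∀ v, 1 ≤ v → v ≤ 38573 → fs8 v = true := slots_step fs8 38188 385 38573 s8u125 s8c126 rfl
theorem s8u127 : ∀ v, 1 ≤ v → v ≤ 38960 → fs8 v = true := slots_step fs8 38573 387 38960 s8u126 s8c127 rfl
theorem s8u128 : ∀ v, 1 ≤ v → v ≤ 39376 → fs8 v = true := slots_step fs8 38960 416 39376 s8u127 s8c128 rfl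
theorem s8u129 : ∀ v, 1 ≤ v → v ≤ 39672 → fs8 v = true := slots_step fs8 39376 296 39672 s8u128 s8c129 rfl
theorem s8u130 : ∀ v, 1 ≤ v → v ≤ 39955 → fs8 v = true := slots_step fs8 39672 283 39955 s8u129 s8c130 rfl
theorem s8u131 : ∀ v, 1 ≤ v → v ≤ 40277 → fs8 v = true := slots_step fs8 39955 322 40277 s8u130 s8c131 rfl
theorem s8u132 : ∀ v, 1 ≤ v → v ≤ 40610 → fs8 v = true := slots_step fs8 40277 333 40610 s8u131 s8c132 rfl
theorem s8u133 : ∀ v, 1 ≤ v → v ≤ 40963 → fs8 v = true := slots_step fs8 40610 353 40963 s8u132 s8c133 rfl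
theorem s8u134 : ∀ v, 1 ≤ v → v ≤ 41338 → fs8 v = true := slots_step fs8 40963 375 41338 s8u133 s8c134 rfl
theorem s8u135 : ∀ v, 1 ≤ v → v ≤ 41751 → fs8 v = true := slots_step fs8 41338 413 41751 s8u134 s8c135 rfl
theorem s8u136 : ∀ v, 1 ≤ v → v ≤ 42044 → fs8 v = true := slots_step fs8 41751 293 42044 s8u135 s8c136 rfl
theorem s8u137 : ∀ v, 1 ≤ v → v ≤ 42326 → fs8 v = true := slots_step fs8 42044 282 42326 s8u136 s8c137 rfl
theorem s8u138 : ∀ v, 1 ≤ v → v ≤ 42611 → fs8 v = true := slots_step fs8 42326 285 42611 s8u137 s8c138 rfl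
theorem s8u139 : ∀ v, 1 ≤ v → v ≤ 42891 → fs8 v = true := slots_step fs8 42611 280 42891 s8u138 s8c139 rfl
theorem s8u140 : ∀ v, 1 ≤ v → v ≤ 43175 → fs8 v = true := slots_step fs8 42891 284 43175 s8u139 s8c140 rfl
theorem s8u141 : ∀ v, 1 ≤ v → v ≤ 43520 → fs8 v = true := slots_step fs8 43175 345 43520 s8u140 s8c141 rfl
theorem s8u142 : ∀ v, 1 ≤ v → v ≤ 43845 → fs8 v = true := slots_step fs8 43520 325 43845 s8u141 s8c142 rfl
theorem s8u143 : ∀ v, 1 ≤ v → v ≤ 44158 → fs8 v = true := slots_step fs8 43845 313 44158 s8u142 s8c143 rfl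
theorem s8u144 : ∀ v, 1 ≤ v → v ≤ 44484 → fs8 v = true := slots_step fs8 44158 326 44484 s8u143 s8c144 rfl
theorem s8u145 : ∀ v, 1 ≤ v → v ≤ 44800 → fs8 v = true := slots_step fs8 44484 316 44800 s8u144 s8c145 rfl
theorem s8u146 : ∀ v, 1 ≤ v → v ≤ 45102 → fs8 v = true := slots_step fs8 44800 302 45102 s8u145 s8c146 rfl
theorem s8u147 : ∀ v, 1 ≤ v → v ≤ 45497 → fs8 v = true := slots_step fs8 45102 395 45497 s8u146 s8c147 rfl
theorem s8u148 : ∀ v, 1 ≤ v → v ≤ 45921 → fs8 v = true := slots_step fs8 45497 424 45921 s8u147 s8c148 rfl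
theorem s8u149 : ∀ v, 1 ≤ v → v ≤ 46227 → fs8 v = true := slots_step fs8 45921 306 46227 s8u148 s8c149 rfl
theorem s8u150 : ∀ v, 1 ≤ v → v ≤ 46515 → fs8 v = true := slots_step fs8 46227 288 46515 s8u149 s8c150 rfl
theorem s8u151 : ∀ v, 1 ≤ v → v ≤ 46809 → fs8 v = true := slots_step fs8 46515 294 46809 s8u150 s8c151 rfl
theorem s8u152 : ∀ v, 1 ≤ v → v ≤ 47092 → fs8 v = true := slots_step fs8 46809 283 47092 s8u151 s8c152 rfl
theorem s8u153 : ∀ v, 1 ≤ v → v ≤ 47384 → fs8 v = true := slots_step fs8 47092 292 47384 s8u152 s8c153 rfl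
theorem s8u154 : ∀ v, 1 ≤ v → v ≤ 47658 → fs8 v = true := slots_step fs8 47384 274 47658 s8u153 s8c154 rfl
theorem s8u155 : ∀ v, 1 ≤ v → v ≤ 47943 → fs8 v = true := slots_step fs8 47658 285 47943 s8u154 s8c155 rfl
theorem s8u156 : ∀ v, 1 ≤ v → v ≤ 48222 → fs8 v = true := slots_step fs8 47943 279 48222 s8u155 s8c156 rfl
theorem s8u157 : ∀ v, 1 ≤ v → v ≤ 48523 → fs8 v = true := slots_step fs8 48222 301 48523 s8u156 s8c157 rfl
theorem s8u158 : ∀ v, 1 ≤ v → v ≤ 48849 → fs8 v = true := slots_step fs8 48523 326 48849 s8u157 s8c158 rfl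
theorem s8u159 : ∀ v, 1 ≤ v → v ≤ 49160 → fs8 v = true := slots_step fs8 48849 311 49160 s8u158 s8c159 rfl
theorem s8u160 : ∀ v, 1 ≤ v → v ≤ 49476 → fs8 v = true := slots_step fs8 49160 316 49476 s8u159 s8c160 rfl
theorem s8u161 : ∀ v, 1 ≤ v → v ≤ 49788 → fs8 v = true := slots_step fs8 49476 312 49788 s8u160 s8c161 rfl
theorem s8u162 : ∀ v, 1 ≤ v → v ≤ 50145 → fs8 v = true := slots_step fs8 49788 357 50145 s8u161 s8c162 rfl
theorem s8u163 : ∀ v, 1 ≤ v → v ≤ 50486 → fs8 v = true := slots_step fs8 50145 341 50486 s8u162 s8c163 rfl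
theorem s8u164 : ∀ v, 1 ≤ v → v ≤ 50813 → fs8 v = true := slots_step fs8 50486 327 50813 s8u163 s8c164 rfl
theorem s8u165 : ∀ v, 1 ≤ v → v ≤ 51119 → fs8 v = true := slots_step fs8 50813 306 51119 s8u164 s8c165 rfl
theorem s8u166 : ∀ v, 1 ≤ v → v ≤ 51460 → fs8 v = true := slots_step fs8 51119 341 51460 s8u165 s8c166 rfl
theorem s8u167 : ∀ v, 1 ≤ v → v ≤ 51880 → fs8 v = true := slots_step fs8 51460 420 51880 s8u166 s8c167 rfl
theorem s8u168 : ∀ v, 1 ≤ v → v ≤ 52279 → fs8 v = true := slots_step fs8 51880 399 52279 s8u167 s8c168 rfl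
theorem s8u169 : ∀ v, 1 ≤ v → v ≤ 52679 → fs8 v = true := slots_step fs8 52279 400 52679 s8u168 s8c169 rfl
theorem s8u170 : ∀ v, 1 ≤ v → v ≤ 53150 → fs8 v = true := slots_step fs8 52679 471 53150 s8u169 s8c170 rfl
theorem s8u171 : ∀ v, 1 ≤ v → v ≤ 53433 → fs8 v = true := slots_step fs8 53150 283 53433 s8u170 s8c171 rfl
theorem s8u172 : ∀ v, 1 ≤ v → v ≤ 53741 → fs8 v = true := slots_step fs8 53433 308 53741 s8u171 s8c172 rfl
theorem s8u173 : ∀ v, 1 ≤ v → v ≤ 54048 → fs8 v = true := slots_step fs8 53741 307 54048 s8u172 s8c173 rfl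
theorem s8u174 : ∀ v, 1 ≤ v → v ≤ 54370 → fs8 v = true := slots_step fs8 54048 322 54370 s8u173 s8c174 rfl
theorem s8u175 : ∀ v, 1 ≤ v → v ≤ 54717 → fs8 v = true := slots_step fs8 54370 347 54717 s8u174 s8c175 rfl
theorem s8u176 : ∀ v, 1 ≤ v → v ≤ 55101 → fs8 v = true := slots_step fs8 54717 384 55101 s8u175 s8c176 rfl
theorem s8u177 : ∀ v, 1 ≤ v → v ≤ 55479 → fs8 v = true := slots_step fs8 55101 378 55479 s8u176 s8c177 rfl
theorem s8u178 : ∀ v, 1 ≤ v → v ≤ 55867 → fs8 v = true := slots_step fs8 55479 388 55867 s8u177 s8c178 rfl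
theorem s8u179 : ∀ v, 1 ≤ v → v ≤ 56315 → fs8 v = true := slots_step fs8 55867 448 56315 s8u178 s8c179 rfl
theorem s8u180 : ∀ v, 1 ≤ v → v ≤ 56593 → fs8 v = true := slots_step fs8 56315 278 56593 s8u179 s8c180 rfl
theorem s8u181 : ∀ v, 1 ≤ v → v ≤ 56890 → fs8 v = true := slots_step fs8 56593 297 56890 s8u180 s8c181 rfl
theorem s8u182 : ∀ v, 1 ≤ v → v ≤ 57155 → fs8 v = true := slots_step fs8 56890 265 57155 s8u181 s8c182 rfl
theorem s8u183 : ∀ v, 1 ≤ v → v ≤ 57465 → fs8 v = true := slots_step fs8 57155 310 57465 s8u182 s8c183 rfl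
theorem s8u184 : ∀ v, 1 ≤ v → v ≤ 57742 → fs8 v = true := slots_step fs8 57465 277 57742 s8u183 s8c184 rfl
theorem s8u185 : ∀ v, 1 ≤ v → v ≤ 58034 → fs8 v = true := slots_step fs8 57742 292 58034 s8u184 s8c185 rfl
theorem s8u186 : ∀ v, 1 ≤ v → v ≤ 58316 → fs8 v = true := slots_step fs8 58034 282 58316 s8u185 s8c186 rfl
theorem s8u187 : ∀ v, 1 ≤ v → v ≤ 58640 → fs8 v = true := slots_step fs8 58316 324 58640 s8u186 s8c187 rfl
theorem s8u188 : ∀ v, 1 ≤ v → v ≤ 58985 → fs8 v = true := slots_step fs8 58640 345 58985 s8u187 s8c188 rfl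
theorem s8u189 : ∀ v, 1 ≤ v → v ≤ 59325 → fs8 v = true := slots_step fs8 58985 340 59325 s8u188 s8c189 rfl
theorem s8u190 : ∀ v, 1 ≤ v → v ≤ 59656 → fs8 v = true := slots_step fs8 59325 331 59656 s8u189 s8c190 rfl
theorem s8u191 : ∀ v, 1 ≤ v → v ≤ 60031 → fs8 v = true := slots_step fs8 59656 375 60031 s8u190 s8c191 rfl
theorem s8u192 : ∀ v, 1 ≤ v → v ≤ 60317 → fs8 v = true := slots_step fs8 60031 286 60317 s8u191 s8c192 rfl
theorem s8u193 : ∀ v, 1 ≤ v → v ≤ 60656 → fs8 v = true := slots_step fs8 60317 339 60656 s8u192 s8c193 rfl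
theorem s8u194 : ∀ v, 1 ≤ v → v ≤ 60977 → fs8 v = true := slots_step fs8 60656 321 60977 s8u193 s8c194 rfl
theorem s8u195 : ∀ v, 1 ≤ v → v ≤ 61379 → fs8 v = true := slots_step fs8 60977 402 61379 s8u194 s8c195 rfl
theorem s8u196 : ∀ v, 1 ≤ v → v ≤ 61816 → fs8 v = true := slots_step fs8 61379 437 61816 s8u195 s8c196 rfl
theorem s8u197 : ∀ v, 1 ≤ v → v ≤ 62167 → fs8 v = true := slots_step fs8 61816 351 62167 s8u196 s8c197 rfl
theorem s8u198 : ∀ v, 1 ≤ v → v ≤ 62477 → fs8 v = true := slots_step fs8 62167 310 62477 s8u197 s8c198 rfl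
theorem s8u199 : ∀ v, 1 ≤ v → v ≤ 62760 → fs8 v = true := slots_step fs8 62477 283 62760 s8u198 s8c199 rfl
theorem s8u200 : ∀ v, 1 ≤ v → v ≤ 63072 → fs8 v = true := slots_step fs8 62760 312 63072 s8u199 s8c200 rfl
theorem s8u201 : ∀ v, 1 ≤ v → v ≤ 63342 → fs8 v = true := slots_step fs8 63072 270 63342 s8u200 s8c201 rfl
theorem s8u202 : ∀ v, 1 ≤ v → v ≤ 63612 → fs8 v = true := slots_step fs8 63342 270 63612 s8u201 s8c202 rfl
theorem s8u203 : ∀ v, 1 ≤ v → v ≤ 63916 → fs8 v = true := slots_step fs8 63612 304 63916 s8u202 s8c203 rfl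
theorem s8u204 : ∀ v, 1 ≤ v → v ≤ 64221 → fs8 v = true := slots_step fs8 63916 305 64221 s8u203 s8c204 rfl
theorem s8u205 : ∀ v, 1 ≤ v → v ≤ 64496 → fs8 v = true := slots_step fs8 64221 275 64496 s8u204 s8c205 rfl
theorem s8u206 : ∀ v, 1 ≤ v → v ≤ 64777 → fs8 v = true := slots_step fs8 64496 281 64777 s8u205 s8c206 rfl
theorem s8u207 : ∀ v, 1 ≤ v → v ≤ 65070 → fs8 v = true := slots_step fs8 64777 293 65070 s8u206 s8c207 rfl
theorem s8u208 : ∀ v, 1 ≤ v → v ≤ 65358 → fs8 v = true := slots_step fs8 65070 288 65358 s8u207 s8c208 rfl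
theorem s8u209 : ∀ v, 1 ≤ v → v ≤ 65652 → fs8 v = true := slots_step fs8 65358 294 65652 s8u208 s8c209 rfl
theorem s8u210 : ∀ v, 1 ≤ v → v ≤ 65990 → fs8 v = true := slots_step fs8 65652 338 65990 s8u209 s8c210 rfl
theorem s8u211 : ∀ v, 1 ≤ v → v ≤ 66318 → fs8 v = true := slots_step fs8 65990 328 66318 s8u210 s8c211 rfl
theorem s8u212 : ∀ v, 1 ≤ v → v ≤ 66635 → fs8 v = true := slots_step fs8 66318 317 66635 s8u211 s8c212 rfl
theorem s8u213 : ∀ v, 1 ≤ v → v ≤ 66960 → fs8 v = true := slots_step fs8 66635 325 66960 s8u212 s8c213 rfl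
theorem s8u214 : ∀ v, 1 ≤ v → v ≤ 67281 → fs8 v = true := slots_step fs8 66960 321 67281 s8u213 s8c214 rfl
theorem s8u215 : ∀ v, 1 ≤ v → v ≤ 67659 → fs8 v = true := slots_step fs8 67281 378 67659 s8u214 s8c215 rfl
theorem s8u216 : ∀ v, 1 ≤ v → v ≤ 68063 → fs8 v = true := slots_step fs8 67659 404 68063 s8u215 s8c216 rfl
theorem s8u217 : ∀ v, 1 ≤ v → v ≤ 68419 → fs8 v = true := slots_step fs8 68063 356 68419 s8u216 s8c217 rfl
theorem s8u218 : ∀ v, 1 ≤ v → v ≤ 68725 → fs8 v = true := slots_step fs8 68419 306 68725 s8u217 s8c218 rfl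
theorem s8u219 : ∀ v, 1 ≤ v → v ≤ 69062 → fs8 v = true := slots_step fs8 68725 337 69062 s8u218 s8c219 rfl
theorem s8u220 : ∀ v, 1 ≤ v → v ≤ 69386 → fs8 v = true := slots_step fs8 69062 324 69386 s8u219 s8c220 rfl
theorem s8u221 : ∀ v, 1 ≤ v → v ≤ 69800 → fs8 v = true := slots_step fs8 69386 414 69800 s8u220 s8c221 rfl
theorem s8u222 : ∀ v, 1 ≤ v → v ≤ 70212 → fs8 v = true := slots_step fs8 69800 412 70212 s8u221 s8c222 rfl
theorem s8u223 : ∀ v, 1 ≤ v → v ≤ 70622 → fs8 v = true := slots_step fs8 70212 410 70622 s8u222 s8c223 rfl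
theorem s8u224 : ∀ v, 1 ≤ v → v ≤ 71064 → fs8 v = true := slots_step fs8 70622 442 71064 s8u223 s8c224 rfl
theorem s8u225 : ∀ v, 1 ≤ v → v ≤ 71500 → fs8 v = true := slots_step fs8 71064 436 71500 s8u224 s8c225 rfl
theorem s8u226 : ∀ v, 1 ≤ v → v ≤ 71778 → fs8 v = true := slots_step fs8 71500 278 71778 s8u225 s8c226 rfl
theorem s8u227 : ∀ v, 1 ≤ v → v ≤ 72107 → fs8 v = true := slots_step fs8 71778 329 72107 s8u226 s8c227 rfl
theorem s8u228 : ∀ v, 1 ≤ v → v ≤ 72417 → fs8 v = true := slots_step fs8 72107 310 72417 s8u227 s8c228 rfl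
theorem s8u229 : ∀ v, 1 ≤ v → v ≤ 72734 → fs8 v = true := slots_step fs8 72417 317 72734 s8u228 s8c229 rfl
theorem s8u230 : ∀ v, 1 ≤ v → v ≤ 73069 → fs8 v = true := slots_step fs8 72734 335 73069 s8u229 s8c230 rfl
theorem s8u231 : ∀ v, 1 ≤ v → v ≤ 73442 → fs8 v = true := slots_step fs8 73069 373 73442 s8u230 s8c231 rfl
theorem s8u232 : ∀ v, 1 ≤ v → v ≤ 73859 → fs8 v = true := slots_step fs8 73442 417 73859 s8u231 s8c232 rfl
theorem s8u233 : ∀ v, 1 ≤ v → v ≤ 74233 → fs8 v = true := slots_step fs8 73859 374 74233 s8u232 s8c233 rfl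
theorem s8u234 : ∀ v, 1 ≤ v → v ≤ 74628 → fs8 v = true := slots_step fs8 74233 395 74628 s8u233 s8c234 rfl
theorem s8u235 : ∀ v, 1 ≤ v → v ≤ 75096 → fs8 v = true := slots_step fs8 74628 468 75096 s8u234 s8c235 rfl
theorem s8u236 : ∀ v, 1 ≤ v → v ≤ 75487 → fs8 v = true := slots_step fs8 75096 391 75487 s8u235 s8c236 rfl
theorem s8u237 : ∀ v, 1 ≤ v → v ≤ 75761 → fs8 v = true := slots_step fs8 75487 274 75761 s8u236 s8c237 rfl
theorem s8u238 : ∀ v, 1 ≤ v → v ≤ 76059 → fs8 v = true := slots_step fs8 75761 298 76059 s8u237 s8c238 rfl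
theorem s8u239 : ∀ v, 1 ≤ v → v ≤ 76340 → fs8 v = true := slots_step fs8 76059 281 76340 s8u238 s8c239 rfl
theorem s8u240 : ∀ v, 1 ≤ v → v ≤ 76605 → fs8 v = true := slots_step fs8 76340 265 76605 s8u239 s8c240 rfl
theorem s8u241 : ∀ v, 1 ≤ v → v ≤ 76922 → fs8 v = true := slots_step fs8 76605 317 76922 s8u240 s8c241 rfl
theorem s8u242 : ∀ v, 1 ≤ v → v ≤ 77224 → fs8 v = true := slots_step fs8 76922 302 77224 s8u241 s8c242 rfl
theorem s8u243 : ∀ v, 1 ≤ v → v ≤ 77507 → fs8 v = true := slots_step fs8 77224 283 77507 s8u242 s8c243 rfl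
theorem s8u244 : ∀ v, 1 ≤ v → v ≤ 77800 → fs8 v = true := slots_step fs8 77507 293 77800 s8u243 s8c244 rfl
theorem s8u245 : ∀ v, 1 ≤ v → v ≤ 78099 → fs8 v = true := slots_step fs8 77800 299 78099 s8u244 s8c245 rfl
theorem s8u246 : ∀ v, 1 ≤ v → v ≤ 78397 → fs8 v = true := slots_step fs8 78099 298 78397 s8u245 s8c246 rfl
theorem s8u247 : ∀ v, 1 ≤ v → v ≤ 78713 → fs8 v = true := slots_step fs8 78397 316 78713 s8u246 s8c247 rfl
theorem s8u248 : ∀ v, 1 ≤ v → v ≤ 79091 → fs8 v = true := slots_step fs8 78713 378 79091 s8u247 s8c248 rfl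
theorem s8u249 : ∀ v, 1 ≤ v → v ≤ 79454 → fs8 v = true := slots_step fs8 79091 363 79454 s8u248 s8c249 rfl
theorem s8u250 : ∀ v, 1 ≤ v → v ≤ 79811 → fs8 v = true := slots_step fs8 79454 357 79811 s8u249 s8c250 rfl
theorem s8u251 : ∀ v, 1 ≤ v → v ≤ 80186 → fs8 v = true := slots_step fs8 79811 375 80186 s8u250 s8c251 rfl
theorem s8u252 : ∀ v, 1 ≤ v → v ≤ 80530 → fs8 v = true := slots_step fs8 80186 344 80530 s8u251 s8c252 rfl
theorem s8u253 : ∀ v, 1 ≤ v → v ≤ 80833 → fs8 v = true := slots_step fs8 80530 303 80833 s8u252 s8c253 rfl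
theorem s8u254 : ∀ v, 1 ≤ v → v ≤ 81199 → fs8 v = true := slots_step fs8 80833 366 81199 s8u253 s8c254 rfl
theorem s8u255 : ∀ v, 1 ≤ v → v ≤ 81543 → fs8 v = true := slots_step fs8 81199 344 81543 s8u254 s8c255 rfl
theorem s8u256 : ∀ v, 1 ≤ v → v ≤ 81899 → fs8 v = true := slots_step fs8 81543 356 81899 s8u255 s8c256 rfl
theorem s8u257 : ∀ v, 1 ≤ v → v ≤ 82366 → fs8 v = true := slots_step fs8 81899 467 82366 s8u256 s8c257 rfl
theorem s8u258 : ∀ v, 1 ≤ v → v ≤ 82788 → fs8 v = true := slots_step fs8 82366 422 82788 s8u257 s8c258 rfl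
theorem s8u259 : ∀ v, 1 ≤ v → v ≤ 83079 → fs8 v = true := slots_step fs8 82788 291 83079 s8u258 s8c259 rfl
theorem s8u260 : ∀ v, 1 ≤ v → v ≤ 83405 → fs8 v = true := slots_step fs8 83079 326 83405 s8u259 s8c260 rfl
theorem s8u261 : ∀ v, 1 ≤ v → v ≤ 83689 → fs8 v = true := slots_step fs8 83405 284 83689 s8u260 s8c261 rfl
theorem s8u262 : ∀ v, 1 ≤ v → v ≤ 83976 → fs8 v = true := slots_step fs8 83689 287 83976 s8u261 s8c262 rfl
theorem s8u263 : ∀ v, 1 ≤ v → v ≤ 84304 → fs8 v = true := slots_step fs8 83976 328 84304 s8u262 s8c263 rfl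
theorem s8u264 : ∀ v, 1 ≤ v → v ≤ 84579 → fs8 v = true := slots_step fs8 84304 275 84579 s8u263 s8c264 rfl
theorem s8u265 : ∀ v, 1 ≤ v → v ≤ 84848 → fs8 v = true := slots_step fs8 84579 269 84848 s8u264 s8c265 rfl
theorem s8u266 : ∀ v, 1 ≤ v → v ≤ 85126 → fs8 v = true := slots_step fs8 84848 278 85126 s8u265 s8c266 rfl
theorem s8u267 : ∀ v, 1 ≤ v → v ≤ 85444 → fs8 v = true := slots_step fs8 85126 318 85444 s8u266 s8c267 rfl
theorem s8u268 : ∀ v, 1 ≤ v → v ≤ 85752 → fs8 v = true := slots_step fs8 85444 308 85752 s8u267 s8c268 rfl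
theorem s8u269 : ∀ v, 1 ≤ v → v ≤ 86037 → fs8 v = true := slots_step fs8 85752 285 86037 s8u268 s8c269 rfl
theorem s8u270 : ∀ v, 1 ≤ v → v ≤ 86317 → fs8 v = true := slots_step fs8 86037 280 86317 s8u269 s8c270 rfl
theorem s8u271 : ∀ v, 1 ≤ v → v ≤ 86601 → fs8 v = true := slots_step fs8 86317 284 86601 s8u270 s8c271 rfl
theorem s8u272 : ∀ v, 1 ≤ v → v ≤ 86901 → fs8 v = true := slots_step fs8 86601 300 86901 s8u271 s8c272 rfl
theorem s8u273 : ∀ v, 1 ≤ v → v ≤ 87198 → fs8 v = true := slots_step fs8 86901 297 87198 s8u272 s8c273 rfl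
theorem s8u274 : ∀ v, 1 ≤ v → v ≤ 87505 → fs8 v = true := slots_step fs8 87198 307 87505 s8u273 s8c274 rfl
theorem s8u275 : ∀ v, 1 ≤ v → v ≤ 87806 → fs8 v = true := slots_step fs8 87505 301 87806 s8u274 s8c275 rfl
theorem s8u276 : ∀ v, 1 ≤ v → v ≤ 88130 → fs8 v = true := slots_step fs8 87806 324 88130 s8u275 s8c276 rfl
theorem s8u277 : ∀ v, 1 ≤ v → v ≤ 88484 → fs8 v = true := slots_step fs8 88130 354 88484 s8u276 s8c277 rfl
theorem s8u278 : ∀ v, 1 ≤ v → v ≤ 88837 → fs8 v = true := slots_step fs8 88484 353 88837 s8u277 s8c278 rfl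
theorem s8u279 : ∀ v, 1 ≤ v → v ≤ 89188 → fs8 v = true := slots_step fs8 88837 351 89188 s8u278 s8c279 rfl
theorem s8u280 : ∀ v, 1 ≤ v → v ≤ 89533 → fs8 v = true := slots_step fs8 89188 345 89533 s8u279 s8c280 rfl
theorem s8u281 : ∀ v, 1 ≤ v → v ≤ 89861 → fs8 v = true := slots_step fs8 89533 328 89861 s8u280 s8c281 rfl
theorem s8u282 : ∀ v, 1 ≤ v → v ≤ 90256 → fs8 v = true := slots_step fs8 89861 395 90256 s8u281 s8c282 rfl
theorem s8u283 : ∀ v, 1 ≤ v → v ≤ 90697 → fs8 v = true := slots_step fs8 90256 441 90697 s8u282 s8c283 rfl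
theorem s8u284 : ∀ v, 1 ≤ v → v ≤ 91066 → fs8 v = true := slots_step fs8 90697 369 91066 s8u283 s8c284 rfl
theorem s8u285 : ∀ v, 1 ≤ v → v ≤ 91397 → fs8 v = true := slots_step fs8 91066 331 91397 s8u284 s8c285 rfl
theorem s8u286 : ∀ v, 1 ≤ v → v ≤ 91752 → fs8 v = true := slots_step fs8 91397 355 91752 s8u285 s8c286 rfl
theorem s8u287 : ∀ v, 1 ≤ v → v ≤ 92083 → fs8 v = true := slots_step fs8 91752 331 92083 s8u286 s8c287 rfl
theorem s8u288 : ∀ v, 1 ≤ v → v ≤ 92425 → fs8 v = true := slots_step fs8 92083 342 92425 s8u287 s8c288 rfl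
theorem s8u289 : ∀ v, 1 ≤ v → v ≤ 92821 → fs8 v = true := slots_step fs8 92425 396 92821 s8u288 s8c289 rfl
theorem s8u290 : ∀ v, 1 ≤ v → v ≤ 93270 → fs8 v = true := slots_step fs8 92821 449 93270 s8u289 s8c290 rfl
theorem s8u291 : ∀ v, 1 ≤ v → v ≤ 93702 → fs8 v = true := slots_step fs8 93270 432 93702 s8u290 s8c291 rfl
theorem s8u292 : ∀ v, 1 ≤ v → v ≤ 94212 → fs8 v = true := slots_step fs8 93702 510 94212 s8u291 s8c292 rfl
theorem s8u293 : ∀ v, 1 ≤ v → v ≤ 94569 → fs8 v = true := slots_step fs8 94212 357 94569 s8u292 s8c293 rfl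
theorem s8u294 : ∀ v, 1 ≤ v → v ≤ 94849 → fs8 v = true := slots_step fs8 94569 280 94849 s8u293 s8c294 rfl
theorem s8u295 : ∀ v, 1 ≤ v → v ≤ 95172 → fs8 v = true := slots_step fs8 94849 323 95172 s8u294 s8c295 rfl
theorem s8u296 : ∀ v, 1 ≤ v → v ≤ 95510 → fs8 v = true := slots_step fs8 95172 338 95510 s8u295 s8c296 rfl
theorem s8u297 : ∀ v, 1 ≤ v → v ≤ 95828 → fs8 v = true := slots_step fs8 95510 318 95828 s8u296 s8c297 rfl
theorem s8u298 : ∀ v, 1 ≤ v → v ≤ 96156 → fs8 v = true := slots_step fs8 95828 328 96156 s8u297 s8c298 rfl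
theorem s8u299 : ∀ v, 1 ≤ v → v ≤ 96508 → fs8 v = true := slots_step fs8 96156 352 96508 s8u298 s8c299 rfl
theorem s8u300 : ∀ v, 1 ≤ v → v ≤ 96931 → fs8 v = true := slots_step fs8 96508 423 96931 s8u299 s8c300 rfl
theorem s8u301 : ∀ v, 1 ≤ v → v ≤ 97405 → fs8 v = true := slots_step fs8 96931 474 97405 s8u300 s8c301 rfl
theorem s8u302 : ∀ v, 1 ≤ v → v ≤ 97760 → fs8 v = true := slots_step fs8 97405 355 97760 s8u301 s8c302 rfl
theorem s8u303 : ∀ v, 1 ≤ v → v ≤ 98172 → fs8 v = true := slots_step fs8 97760 412 98172 s8u302 s8c303 rfl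
theorem s8u304 : ∀ v, 1 ≤ v → v ≤ 98633 → fs8 v = true := slots_step fs8 98172 461 98633 s8u303 s8c304 rfl
theorem s8u305 : ∀ v, 1 ≤ v → v ≤ 99004 → fs8 v = true := slots_step fs8 98633 371 99004 s8u304 s8c305 rfl
theorem s8u306 : ∀ v, 1 ≤ v → v ≤ 99283 → fs8 v = true := slots_step fs8 99004 279 99283 s8u305 s8c306 rfl
theorem s8u307 : ∀ v, 1 ≤ v → v ≤ 99572 → fs8 v = true := slots_step fs8 99283 289 99572 s8u306 s8c307 rfl
theorem s8u308 : ∀ v, 1 ≤ v → v ≤ 99901 → fs8 v = true := slots_step fs8 99572 329 99901 s8u307 s8c308 rfl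
theorem s8u309 : ∀ v, 1 ≤ v → v ≤ 100178 → fs8 v = true := slots_step fs8 99901 277 100178 s8u308 s8c309 rfl
theorem s8u310 : ∀ v, 1 ≤ v → v ≤ 100454 → fs8 v = true := slots_step fs8 100178 276 100454 s8u309 s8c310 rfl
theorem s8u311 : ∀ v, 1 ≤ v → v ≤ 100735 → fs8 v = true := slots_step fs8 100454 281 100735 s8u310 s8c311 rfl
theorem s8u312 : ∀ v, 1 ≤ v → v ≤ 101067 → fs8 v = true := slots_step fs8 100735 332 101067 s8u311 s8c312 rfl
theorem s8u313 : ∀ v, 1 ≤ v → v ≤ 101394 → fs8 v = true := slots_step fs8 101067 327 101394 s8u312 s8c313 rfl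
theorem s8u314 : ∀ v, 1 ≤ v → v ≤ 101689 → fs8 v = true := slots_step fs8 101394 295 101689 s8u313 s8c314 rfl
theorem s8u315 : ∀ v, 1 ≤ v → v ≤ 101983 → fs8 v = true := slots_step fs8 101689 294 101983 s8u314 s8c315 rfl
theorem s8u316 : ∀ v, 1 ≤ v → v ≤ 102286 → fs8 v = true := slots_step fs8 101983 303 102286 s8u315 s8c316 rfl
theorem s8u317 : ∀ v, 1 ≤ v → v ≤ 102592 → fs8 v = true := slots_step fs8 102286 306 102592 s8u316 s8c317 rfl
theorem s8u318 : ∀ v, 1 ≤ v → v ≤ 102899 → fs8 v = true := slots_step fs8 102592 307 102899 s8u317 s8c318 rfl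
theorem s8u319 : ∀ v, 1 ≤ v → v ≤ 103209 → fs8 v = true := slots_step fs8 102899 310 103209 s8u318 s8c319 rfl
theorem s8u320 : ∀ v, 1 ≤ v → v ≤ 103615 → fs8 v = true := slots_step fs8 103209 406 103615 s8u319 s8c320 rfl
theorem s8u321 : ∀ v, 1 ≤ v → v ≤ 104010 → fs8 v = true := slots_step fs8 103615 395 104010 s8u320 s8c321 rfl
theorem s8u322 : ∀ v, 1 ≤ v → v ≤ 104400 → fs8 v = true := slots_step fs8 104010 390 104400 s8u321 s8c322 rfl
theorem s8u323 : ∀ v, 1 ≤ v → v ≤ 104791 → fs8 v = true := slots_step fs8 104400 391 104791 s8u322 s8c323 rfl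
theorem s8u324 : ∀ v, 1 ≤ v → v ≤ 105197 → fs8 v = true := slots_step fs8 104791 406 105197 s8u323 s8c324 rfl
theorem s8u325 : ∀ v, 1 ≤ v → v ≤ 105511 → fs8 v = true := slots_step fs8 105197 314 105511 s8u324 s8c325 rfl
theorem s8u326 : ∀ v, 1 ≤ v → v ≤ 105814 → fs8 v = true := slots_step fs8 105511 303 105814 s8u325 s8c326 rfl
theorem s8u327 : ∀ v, 1 ≤ v → v ≤ 106216 → fs8 v = true := slots_step fs8 105814 402 106216 s8u326 s8c327 rfl
theorem s8u328 : ∀ v, 1 ≤ v → v ≤ 106572 → fs8 v = true := slots_step fs8 106216 356 106572 s8u327 s8c328 rfl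
theorem s8u329 : ∀ v, 1 ≤ v → v ≤ 106970 → fs8 v = true := slots_step fs8 106572 398 106970 s8u328 s8c329 rfl
theorem s8u330 : ∀ v, 1 ≤ v → v ≤ 107435 → fs8 v = true := slots_step fs8 106970 465 107435 s8u329 s8c330 rfl
theorem s8u331 : ∀ v, 1 ≤ v → v ≤ 107775 → fs8 v = true := slots_step fs8 107435 340 107775 s8u330 s8c331 rfl
theorem s8u332 : ∀ v, 1 ≤ v → v ≤ 108077 → fs8 v = true := slots_step fs8 107775 302 108077 s8u331 s8c332 rfl
theorem s8u333 : ∀ v, 1 ≤ v → v ≤ 108413 → fs8 v = true := slots_step fs8 108077 336 108413 s8u332 s8c333 rfl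
theorem s8u334 : ∀ v, 1 ≤ v → v ≤ 108695 → fs8 v = true := slots_step fs8 108413 282 108695 s8u333 s8c334 rfl
theorem s8u335 : ∀ v, 1 ≤ v → v ≤ 108987 → fs8 v = true := slots_step fs8 108695 292 108987 s8u334 s8c335 rfl
theorem s8u336 : ∀ v, 1 ≤ v → v ≤ 109326 → fs8 v = true := slots_step fs8 108987 339 109326 s8u335 s8c336 rfl
theorem s8u337 : ∀ v, 1 ≤ v → v ≤ 109645 → fs8 v = true := slots_step fs8 109326 319 109645 s8u336 s8c337 rfl
theorem s8u338 : ∀ v, 1 ≤ v → v ≤ 109929 → fs8 v = true := slots_step fs8 109645 284 109929 s8u337 s8c338 rfl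
theorem s8u339 : ∀ v, 1 ≤ v → v ≤ 110198 → fs8 v = true := slots_step fs8 109929 269 110198 s8u338 s8c339 rfl
theorem s8u340 : ∀ v, 1 ≤ v → v ≤ 110465 → fs8 v = true := slots_step fs8 110198 267 110465 s8u339 s8c340 rfl
theorem s8u341 : ∀ v, 1 ≤ v → v ≤ 110783 → fs8 v = true := slots_step fs8 110465 318 110783 s8u340 s8c341 rfl
theorem s8u342 : ∀ v, 1 ≤ v → v ≤ 111111 → fs8 v = true := slots_step fs8 110783 328 111111 s8u341 s8c342 rfl
theorem s8u343 : ∀ v, 1 ≤ v → v ≤ 111404 → fs8 v = true := slots_step fs8 111111 293 111404 s8u342 s8c343 rfl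
theorem s8u344 : ∀ v, 1 ≤ v → v ≤ 111734 → fs8 v = true := slots_step fs8 111404 330 111734 s8u343 s8c344 rfl
theorem s8u345 : ∀ v, 1 ≤ v → v ≤ 112025 → fs8 v = true := slots_step fs8 111734 291 112025 s8u344 s8c345 rfl
theorem s8u346 : ∀ v, 1 ≤ v → v ≤ 112312 → fs8 v = true := slots_step fs8 112025 287 112312 s8u345 s8c346 rfl
theorem s8u347 : ∀ v, 1 ≤ v → v ≤ 112611 → fs8 v = true := slots_step fs8 112312 299 112611 s8u346 s8c347 rfl
theorem s8u348 : ∀ v, 1 ≤ v → v ≤ 112902 → fs8 v = true := slots_step fs8 112611 291 112902 s8u347 s8c348 rfl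
theorem s8u349 : ∀ v, 1 ≤ v → v ≤ 113214 → fs8 v = true := slots_step fs8 112902 312 113214 s8u348 s8c349 rfl
theorem s8u350 : ∀ v, 1 ≤ v → v ≤ 113511 → fs8 v = true := slots_step fs8 113214 297 113511 s8u349 s8c350 rfl
theorem s8u351 : ∀ v, 1 ≤ v → v ≤ 113867 → fs8 v = true := slots_step fs8 113511 356 113867 s8u350 s8c351 rfl
theorem s8u352 : ∀ v, 1 ≤ v → v ≤ 114154 → fs8 v = true := slots_step fs8 113867 287 114154 s8u351 s8c352 rfl
theorem s8u353 : ∀ v, 1 ≤ v → v ≤ 114473 → fs8 v = true := slots_step fs8 114154 319 114473 s8u352 s8c353 rfl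
theorem s8u354 : ∀ v, 1 ≤ v → v ≤ 114877 → fs8 v = true := slots_step fs8 114473 404 114877 s8u353 s8c354 rfl
theorem s8u355 : ∀ v, 1 ≤ v → v ≤ 115257 → fs8 v = true := slots_step fs8 114877 380 115257 s8u354 s8c355 rfl
theorem s8u356 : ∀ v, 1 ≤ v → v ≤ 115606 → fs8 v = true := slots_step fs8 115257 349 115606 s8u355 s8c356 rfl
theorem s8u357 : ∀ v, 1 ≤ v → v ≤ 115974 → fs8 v = true := slots_step fs8 115606 368 115974 s8u356 s8c357 rfl
theorem s8u358 : ∀ v, 1 ≤ v → v ≤ 116349 → fs8 v = true := slots_step fs8 115974 375 116349 s8u357 s8c358 rfl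
theorem s8u359 : ∀ v, 1 ≤ v → v ≤ 116691 → fs8 v = true := slots_step fs8 116349 342 116691 s8u358 s8c359 rfl
theorem s8u360 : ∀ v, 1 ≤ v → v ≤ 117104 → fs8 v = true := slots_step fs8 116691 413 117104 s8u359 s8c360 rfl
theorem s8u361 : ∀ v, 1 ≤ v → v ≤ 117569 → fs8 v = true := slots_step fs8 117104 465 117569 s8u360 s8c361 rfl
theorem s8u362 : ∀ v, 1 ≤ v → v ≤ 117945 → fs8 v = true := slots_step fs8 117569 376 117945 s8u361 s8c362 rfl
theorem s8u363 : ∀ v, 1 ≤ v → v ≤ 118248 → fs8 v = true := slots_step fs8 117945 303 118248 s8u362 s8c363 rfl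
theorem s8u364 : ∀ v, 1 ≤ v → v ≤ 118632 → fs8 v = true := slots_step fs8 118248 384 118632 s8u363 s8c364 rfl
theorem s8u365 : ∀ v, 1 ≤ v → v ≤ 118953 → fs8 v = true := slots_step fs8 118632 321 118953 s8u364 s8c365 rfl
theorem s8u366 : ∀ v, 1 ≤ v → v ≤ 119324 → fs8 v = true := slots_step fs8 118953 371 119324 s8u365 s8c366 rfl
theorem s8u367 : ∀ v, 1 ≤ v → v ≤ 119795 → fs8 v = true := slots_step fs8 119324 471 119795 s8u366 s8c367 rfl
theorem s8u368 : ∀ v, 1 ≤ v → v ≤ 120274 → fs8 v = true := slots_step fs8 119795 479 120274 s8u367 s8c368 rfl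
theorem s8u369 : ∀ v, 1 ≤ v → v ≤ 120689 → fs8 v = true := slots_step fs8 120274 415 120689 s8u368 s8c369 rfl
theorem s8u370 : ∀ v, 1 ≤ v → v ≤ 120979 → fs8 v = true := slots_step fs8 120689 290 120979 s8u369 s8c370 rfl
theorem s8u371 : ∀ v, 1 ≤ v → v ≤ 121255 → fs8 v = true := slots_step fs8 120979 276 121255 s8u370 s8c371 rfl
theorem s8u372 : ∀ v, 1 ≤ v → v ≤ 121618 → fs8 v = true := slots_step fs8 121255 363 121618 s8u371 s8c372 rfl
theorem s8u373 : ∀ v, 1 ≤ v → v ≤ 121978 → fs8 v = true := slots_step fs8 121618 360 121978 s8u372 s8c373 rfl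
theorem s8u374 : ∀ v, 1 ≤ v → v ≤ 122301 → fs8 v = true := slots_step fs8 121978 323 122301 s8u373 s8c374 rfl
theorem s8u375 : ∀ v, 1 ≤ v → v ≤ 122657 → fs8 v = true := slots_step fs8 122301 356 122657 s8u374 s8c375 rfl
theorem s8u376 : ∀ v, 1 ≤ v → v ≤ 122985 → fs8 v = true := slots_step fs8 122657 328 122985 s8u375 s8c376 rfl
theorem s8u377 : ∀ v, 1 ≤ v → v ≤ 123484 → fs8 v = true := slots_step fs8 122985 499 123484 s8u376 s8c377 rfl
theorem s8u378 : ∀ v, 1 ≤ v → v ≤ 123927 → fs8 v = true := slots_step fs8 123484 443 123927 s8u377 s8c378 rfl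
theorem s8u379 : ∀ v, 1 ≤ v → v ≤ 124328 → fs8 v = true := slots_step fs8 123927 401 124328 s8u378 s8c379 rfl
theorem s8u380 : ∀ v, 1 ≤ v → v ≤ 124745 → fs8 v = true := slots_step fs8 124328 417 124745 s8u379 s8c380 rfl
theorem s8u381 : ∀ v, 1 ≤ v → v ≤ 125011 → fs8 v = true := slots_step fs8 124745 266 125011 s8u380 s8c381 rfl
theorem s8u382 : ∀ v, 1 ≤ v → v ≤ 125277 → fs8 v = true := slots_step fs8 125011 266 125277 s8u381 s8c382 rfl
theorem s8u383 : ∀ v, 1 ≤ v → v ≤ 125549 → fs8 v = true := slots_step fs8 125277 272 125549 s8u382 s8c383 rfl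
theorem s8u384 : ∀ v, 1 ≤ v → v ≤ 125804 → fs8 v = true := slots_step fs8 125549 255 125804 s8u383 s8c384 rfl
theorem s8u385 : ∀ v, 1 ≤ v → v ≤ 126064 → fs8 v = true := slots_step fs8 125804 260 126064 s8u384 s8c385 rfl
theorem s8u386 : ∀ v, 1 ≤ v → v ≤ 126322 → fs8 v = true := slots_step fs8 126064 258 126322 s8u385 s8c386 rfl
theorem s8u387 : ∀ v, 1 ≤ v → v ≤ 126580 → fs8 v = true := slots_step fs8 126322 258 126580 s8u386 s8c387 rfl
theorem s8u388 : ∀ v, 1 ≤ v → v ≤ 126832 → fs8 v = true := slots_step fs8 126580 252 126832 s8u387 s8c388 rfl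
theorem s8u389 : ∀ v, 1 ≤ v → v ≤ 127097 → fs8 v = true := slots_step fs8 126832 265 127097 s8u388 s8c389 rfl
theorem s8u390 : ∀ v, 1 ≤ v → v ≤ 127365 → fs8 v = true := slots_step fs8 127097 268 127365 s8u389 s8c390 rfl
theorem s8u391 : ∀ v, 1 ≤ v → v ≤ 127642 → fs8 v = true := slots_step fs8 127365 277 127642 s8u390 s8c391 rfl
theorem s8u392 : ∀ v, 1 ≤ v → v ≤ 127910 → fs8 v = true := slots_step fs8 127642 268 127910 s8u391 s8c392 rfl
theorem s8u393 : ∀ v, 1 ≤ v → v ≤ 128183 → fs8 v = true := slots_step fs8 127910 273 128183 s8u392 s8c393 rfl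
theorem s8u394 : ∀ v, 1 ≤ v → v ≤ 128468 → fs8 v = true := slots_step fs8 128183 285 128468 s8u393 s8c394 rfl
theorem s8u395 : ∀ v, 1 ≤ v → v ≤ 128738 → fs8 v = true := slots_step fs8 128468 270 128738 s8u394 s8c395 rfl
theorem s8u396 : ∀ v, 1 ≤ v → v ≤ 128991 → fs8 v = true := slots_step fs8 128738 253 128991 s8u395 s8c396 rfl
theorem s8u397 : ∀ v, 1 ≤ v → v ≤ 129243 → fs8 v = true := slots_step fs8 128991 252 129243 s8u396 s8c397 rfl
theorem s8u398 : ∀ v, 1 ≤ v → v ≤ 129499 → fs8 v = true := slots_step fs8 129243 256 129499 s8u397 s8c398 rfl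
theorem s8u399 : ∀ v, 1 ≤ v → v ≤ 129749 → fs8 v = true := slots_step fs8 129499 250 129749 s8u398 s8c399 rfl
theorem s8u400 : ∀ v, 1 ≤ v → v ≤ 130003 → fs8 v = true := slots_step fs8 129749 254 130003 s8u399 s8c400 rfl
theorem s8u401 : ∀ v, 1 ≤ v → v ≤ 130267 → fs8 v = true := slots_step fs8 130003 264 130267 s8u400 s8c401 rfl
theorem s8u402 : ∀ v, 1 ≤ v → v ≤ 130531 → fs8 v = true := slots_step fs8 130267 264 130531 s8u401 s8c402 rfl
theorem s8u403 : ∀ v, 1 ≤ v → v ≤ 130814 → fs8 v = true := slots_step fs8 130531 283 130814 s8u402 s8c403 rfl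
theorem s8u404 : ∀ v, 1 ≤ v → v ≤ 131083 → fs8 v = true := slots_step fs8 130814 269 131083 s8u403 s8c404 rfl
theorem s8u405 : ∀ v, 1 ≤ v → v ≤ 131365 → fs8 v = true := slots_step fs8 131083 282 131365 s8u404 s8c405 rfl
theorem s8u406 : ∀ v, 1 ≤ v → v ≤ 131645 → fs8 v = true := slots_step fs8 131365 280 131645 s8u405 s8c406 rfl
theorem s8u407 : ∀ v, 1 ≤ v → v ≤ 131920 → fs8 v = true := slots_step fs8 131645 275 131920 s8u406 s8c407 rfl
theorem s8u408 : ∀ v, 1 ≤ v → v ≤ 132177 → fs8 v = true := slots_step fs8 131920 257 132177 s8u407 s8c408 rfl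
theorem s8u409 : ∀ v, 1 ≤ v → v ≤ 132436 → fs8 v = true := slots_step fs8 132177 259 132436 s8u408 s8c409 rfl
theorem s8u410 : ∀ v, 1 ≤ v → v ≤ 132693 → fs8 v = true := slots_step fs8 132436 257 132693 s8u409 s8c410 rfl
theorem s8u411 : ∀ v, 1 ≤ v → v ≤ 132953 → fs8 v = true := slots_step fs8 132693 260 132953 s8u410 s8c411 rfl
theorem s8u412 : ∀ v, 1 ≤ v → v ≤ 133216 → fs8 v = true := slots_step fs8 132953 263 133216 s8u411 s8c412 rfl
theorem s8u413 : ∀ v, 1 ≤ v → v ≤ 133466 → fs8 v = true := slots_step fs8 133216 250 133466 s8u412 s8c413 rfl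
theorem s8u414 : ∀ v, 1 ≤ v → v ≤ 133725 → fs8 v = true := slots_step fs8 133466 259 133725 s8u413 s8c414 rfl
theorem s8u415 : ∀ v, 1 ≤ v → v ≤ 133998 → fs8 v = true := slots_step fs8 133725 273 133998 s8u414 s8c415 rfl
theorem s8u416 : ∀ v, 1 ≤ v → v ≤ 134271 → fs8 v = true := slots_step fs8 133998 273 134271 s8u415 s8c416 rfl
theorem s8u417 : ∀ v, 1 ≤ v → v ≤ 134544 → fs8 v = true := slots_step fs8 134271 273 134544 s8u416 s8c417 rfl
theorem s8u418 : ∀ v, 1 ≤ v → v ≤ 134826 → fs8 v = true := slots_step fs8 134544 282 134826 s8u417 s8c418 rfl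
theorem s8u419 : ∀ v, 1 ≤ v → v ≤ 135104 → fs8 v = true := slots_step fs8 134826 278 135104 s8u418 s8c419 rfl
theorem s8u420 : ∀ v, 1 ≤ v → v ≤ 135376 → fs8 v = true := slots_step fs8 135104 272 135376 s8u419 s8c420 rfl
theorem s8u421 : ∀ v, 1 ≤ v → v ≤ 135655 → fs8 v = true := slots_step fs8 135376 279 135655 s8u420 s8c421 rfl
theorem s8u422 : ∀ v, 1 ≤ v → v ≤ 135932 → fs8 v = true := slots_step fs8 135655 277 135932 s8u421 s8c422 rfl
theorem s8u423 : ∀ v, 1 ≤ v → v ≤ 136216 → fs8 v = true := slots_step fs8 135932 284 136216 s8u422 s8c423 rfl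
theorem s8u424 : ∀ v, 1 ≤ v → v ≤ 136509 → fs8 v = true := slots_step fs8 136216 293 136509 s8u423 s8c424 rfl
theorem s8u425 : ∀ v, 1 ≤ v → v ≤ 136775 → fs8 v = true := slots_step fs8 136509 266 136775 s8u424 s8c425 rfl
theorem s8u426 : ∀ v, 1 ≤ v → v ≤ 137030 → fs8 v = true := slots_step fs8 136775 255 137030 s8u425 s8c426 rfl
theorem s8u427 : ∀ v, 1 ≤ v → v ≤ 137284 → fs8 v = true := slots_step fs8 137030 254 137284 s8u426 s8c427 rfl
theorem s8u428 : ∀ v, 1 ≤ v → v ≤ 137537 → fs8 v = true := slots_step fs8 137284 253 137537 s8u427 s8c428 rfl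
theorem s8u429 : ∀ v, 1 ≤ v → v ≤ 137796 → fs8 v = true := slots_step fs8 137537 259 137796 s8u428 s8c429 rfl
theorem s8u430 : ∀ v, 1 ≤ v → v ≤ 138061 → fs8 v = true := slots_step fs8 137796 265 138061 s8u429 s8c430 rfl
theorem s8u431 : ∀ v, 1 ≤ v → v ≤ 138345 → fs8 v = true := slots_step fs8 138061 284 138345 s8u430 s8c431 rfl
theorem s8u432 : ∀ v, 1 ≤ v → v ≤ 138615 → fs8 v = true := slots_step fs8 138345 270 138615 s8u431 s8c432 rfl
theorem s8u433 : ∀ v, 1 ≤ v → v ≤ 138896 → fs8 v = true := slots_step fs8 138615 281 138896 s8u432 s8c433 rfl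
theorem s8u434 : ∀ v, 1 ≤ v → v ≤ 139190 → fs8 v = true := slots_step fs8 138896 294 139190 s8u433 s8c434 rfl
theorem s8u435 : ∀ v, 1 ≤ v → v ≤ 139441 → fs8 v = true := slots_step fs8 139190 251 139441 s8u434 s8c435 rfl
theorem s8u436 : ∀ v, 1 ≤ v → v ≤ 139690 → fs8 v = true := slots_step fs8 139441 249 139690 s8u435 s8c436 rfl
theorem s8u437 : ∀ v, 1 ≤ v → v ≤ 139944 → fs8 v = true := slots_step fs8 139690 254 139944 s8u436 s8c437 rfl
theorem s8u438 : ∀ v, 1 ≤ v → v ≤ 140214 → fs8 v = true := slots_step fs8 139944 270 140214 s8u437 s8c438 rfl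
theorem s8u439 : ∀ v, 1 ≤ v → v ≤ 140482 → fs8 v = true := slots_step fs8 140214 268 140482 s8u438 s8c439 rfl
theorem s8u440 : ∀ v, 1 ≤ v → v ≤ 140750 → fs8 v = true := slots_step fs8 140482 268 140750 s8u439 s8c440 rfl
theorem s8u441 : ∀ v, 1 ≤ v → v ≤ 140996 → fs8 v = true := slots_step fs8 140750 246 140996 s8u440 s8c441 rfl
theorem s8u442 : ∀ v, 1 ≤ v → v ≤ 141255 → fs8 v = true := slots_step fs8 140996 259 141255 s8u441 s8c442 rfl
theorem s8u443 : ∀ v, 1 ≤ v → v ≤ 141515 → fs8 v = true := slots_step fs8 141255 260 141515 s8u442 s8c443 rfl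
theorem s8u444 : ∀ v, 1 ≤ v → v ≤ 141781 → fs8 v = true := slots_step fs8 141515 266 141781 s8u443 s8c444 rfl
theorem s8u445 : ∀ v, 1 ≤ v → v ≤ 142044 → fs8 v = true := slots_step fs8 141781 263 142044 s8u444 s8c445 rfl
theorem s8u446 : ∀ v, 1 ≤ v → v ≤ 142310 → fs8 v = true := slots_step fs8 142044 266 142310 s8u445 s8c446 rfl
theorem s8u447 : ∀ v, 1 ≤ v → v ≤ 142560 → fs8 v = true := slots_step fs8 142310 250 142560 s8u446 s8c447 rfl
theorem s8u448 : ∀ v, 1 ≤ v → v ≤ 142819 → fs8 v = true := slots_step fs8 142560 259 142819 s8u447 s8c448 rfl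
theorem s8u449 : ∀ v, 1 ≤ v → v ≤ 143070 → fs8 v = true := slots_step fs8 142819 251 143070 s8u448 s8c449 rfl
theorem s8u450 : ∀ v, 1 ≤ v → v ≤ 143327 → fs8 v = true := slots_step fs8 143070 257 143327 s8u449 s8c450 rfl
theorem s8u451 : ∀ v, 1 ≤ v → v ≤ 143589 → fs8 v = true := slots_step fs8 143327 262 143589 s8u450 s8c451 rfl
theorem s8u452 : ∀ v, 1 ≤ v → v ≤ 143834 → fs8 v = true := slots_step fs8 143589 245 143834 s8u451 s8c452 rfl
theorem s8u453 : ∀ v, 1 ≤ v → v ≤ 144100 → fs8 v = true := slots_step fs8 143834 266 144100 s8u452 s8c453 rfl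
theorem s8u454 : ∀ v, 1 ≤ v → v ≤ 144363 → fs8 v = true := slots_step fs8 144100 263 144363 s8u453 s8c454 rfl
theorem s8u455 : ∀ v, 1 ≤ v → v ≤ 144644 → fs8 v = true := slots_step fs8 144363 281 144644 s8u454 s8c455 rfl
theorem s8u456 : ∀ v, 1 ≤ v → v ≤ 144905 → fs8 v = true := slots_step fs8 144644 261 144905 s8u455 s8c456 rfl
theorem s8u457 : ∀ v, 1 ≤ v → v ≤ 145179 → fs8 v = true := slots_step fs8 144905 274 145179 s8u456 s8c457 rfl
theorem s8u458 : ∀ v, 1 ≤ v → v ≤ 145452 → fs8 v = true := slots_step fs8 145179 273 145452 s8u457 s8c458 rfl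
theorem s8u459 : ∀ v, 1 ≤ v → v ≤ 145741 → fs8 v = true := slots_step fs8 145452 289 145741 s8u458 s8c459 rfl
theorem s8u460 : ∀ v, 1 ≤ v → v ≤ 146012 → fs8 v = true := slots_step fs8 145741 271 146012 s8u459 s8c460 rfl
theorem s8u461 : ∀ v, 1 ≤ v → v ≤ 146268 → fs8 v = true := slots_step fs8 146012 256 146268 s8u460 s8c461 rfl
theorem s8u462 : ∀ v, 1 ≤ v → v ≤ 146521 → fs8 v = true := slots_step fs8 146268 253 146521 s8u461 s8c462 rfl
theorem s8u463 : ∀ v, 1 ≤ v → v ≤ 146765 → fs8 v = true := slots_step fs8 146521 244 146765 s8u462 s8c463 rfl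
theorem s8u464 : ∀ v, 1 ≤ v → v ≤ 147018 → fs8 v = true := slots_step fs8 146765 253 147018 s8u463 s8c464 rfl
theorem s8u465 : ∀ v, 1 ≤ v → v ≤ 147267 → fs8 v = true := slots_step fs8 147018 249 147267 s8u464 s8c465 rfl
theorem s8u466 : ∀ v, 1 ≤ v → v ≤ 147525 → fs8 v = true := slots_step fs8 147267 258 147525 s8u465 s8c466 rfl
theorem s8u467 : ∀ v, 1 ≤ v → v ≤ 147791 → fs8 v = true := slots_step fs8 147525 266 147791 s8u466 s8c467 rfl
theorem s8u468 : ∀ v, 1 ≤ v → v ≤ 148065 → fs8 v = true := slots_step fs8 147791 274 148065 s8u467 s8c468 rfl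
theorem s8u469 : ∀ v, 1 ≤ v → v ≤ 148339 → fs8 v = true := slots_step fs8 148065 274 148339 s8u468 s8c469 rfl
theorem s8u470 : ∀ v, 1 ≤ v → v ≤ 148620 → fs8 v = true := slots_step fs8 148339 281 148620 s8u469 s8c470 rfl
theorem s8u471 : ∀ v, 1 ≤ v → v ≤ 148898 → fs8 v = true := slots_step fs8 148620 278 148898 s8u470 s8c471 rfl
theorem s8u472 : ∀ v, 1 ≤ v → v ≤ 149172 → fs8 v = true := slots_step fs8 148898 274 149172 s8u471 s8c472 rfl
theorem s8u473 : ∀ v, 1 ≤ v → v ≤ 149434 → fs8 v = true := slots_step fs8 149172 262 149434 s8u472 s8c473 rfl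
theorem s8u474 : ∀ v, 1 ≤ v → v ≤ 149690 → fs8 v = true := slots_step fs8 149434 256 149690 s8u473 s8c474 rfl
theorem s8u475 : ∀ v, 1 ≤ v → v ≤ 149945 → fs8 v = true := slots_step fs8 149690 255 149945 s8u474 s8c475 rfl
theorem s8u476 : ∀ v, 1 ≤ v → v ≤ 150209 → fs8 v = true := slots_step fs8 149945 264 150209 s8u475 s8c476 rfl
theorem s8u477 : ∀ v, 1 ≤ v → v ≤ 150467 → fs8 v = true := slots_step fs8 150209 258 150467 s8u476 s8c477 rfl
theorem s8u478 : ∀ v, 1 ≤ v → v ≤ 150733 → fs8 v = true := slots_step fs8 150467 266 150733 s8u477 s8c478 rfl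
theorem s8u479 : ∀ v, 1 ≤ v → v ≤ 150992 → fs8 v = true := slots_step fs8 150733 259 150992 s8u478 s8c479 rfl
theorem s8u480 : ∀ v, 1 ≤ v → v ≤ 151236 → fs8 v = true := slots_step fs8 150992 244 151236 s8u479 s8c480 rfl
theorem s8u481 : ∀ v, 1 ≤ v → v ≤ 151504 → fs8 v = true := slots_step fs8 151236 268 151504 s8u480 s8c481 rfl
theorem s8u482 : ∀ v, 1 ≤ v → v ≤ 151778 → fs8 v = true := slots_step fs8 151504 274 151778 s8u481 s8c482 rfl
theorem s8u483 : ∀ v, 1 ≤ v → v ≤ 152048 → fs8 v = true := slots_step fs8 151778 270 152048 s8u482 s8c483 rfl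
theorem s8u484 : ∀ v, 1 ≤ v → v ≤ 152320 → fs8 v = true := slots_step fs8 152048 272 152320 s8u483 s8c484 rfl
theorem s8u485 : ∀ v, 1 ≤ v → v ≤ 152602 → fs8 v = true := slots_step fs8 152320 282 152602 s8u484 s8c485 rfl
theorem s8u486 : ∀ v, 1 ≤ v → v ≤ 152884 → fs8 v = true := slots_step fs8 152602 282 152884 s8u485 s8c486 rfl
theorem s8u487 : ∀ v, 1 ≤ v → v ≤ 153160 → fs8 v = true := slots_step fs8 152884 276 153160 s8u486 s8c487 rfl
theorem s8u488 : ∀ v, 1 ≤ v → v ≤ 153431 → fs8 v = true := slots_step fs8 153160 271 153431 s8u487 s8c488 rfl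
theorem s8u489 : ∀ v, 1 ≤ v → v ≤ 153711 → fs8 v = true := slots_step fs8 153431 280 153711 s8u488 s8c489 rfl
theorem s8u490 : ∀ v, 1 ≤ v → v ≤ 153994 → fs8 v = true := slots_step fs8 153711 283 153994 s8u489 s8c490 rfl
theorem s8u491 : ∀ v, 1 ≤ v → v ≤ 154277 → fs8 v = true := slots_step fs8 153994 283 154277 s8u490 s8c491 rfl
theorem s8u492 : ∀ v, 1 ≤ v → v ≤ 154567 → fs8 v = true := slots_step fs8 154277 290 154567 s8u491 s8c492 rfl
theorem s8u493 : ∀ v, 1 ≤ v → v ≤ 154858 → fs8 v = true := slots_step fs8 154567 291 154858 s8u492 s8c493 rfl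
theorem s8u494 : ∀ v, 1 ≤ v → v ≤ 155129 → fs8 v = true := slots_step fs8 154858 271 155129 s8u493 s8c494 rfl
theorem s8u495 : ∀ v, 1 ≤ v → v ≤ 155382 → fs8 v = true := slots_step fs8 155129 253 155382 s8u494 s8c495 rfl
theorem s8u496 : ∀ v, 1 ≤ v → v ≤ 155643 → fs8 v = true := slots_step fs8 155382 261 155643 s8u495 s8c496 rfl
theorem s8u497 : ∀ v, 1 ≤ v → v ≤ 155885 → fs8 v = true := slots_step fs8 155643 242 155885 s8u496 s8c497 rfl
theorem s8u498 : ∀ v, 1 ≤ v → v ≤ 156146 → fs8 v = true := slots_step fs8 155885 261 156146 s8u497 s8c498 rfl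
theorem s8u499 : ∀ v, 1 ≤ v → v ≤ 156419 → fs8 v = true := slots_step fs8 156146 273 156419 s8u498 s8c499 rfl
theorem s8u500 : ∀ v, 1 ≤ v → v ≤ 156693 → fs8 v = true := slots_step fs8 156419 274 156693 s8u499 s8c500 rfl
theorem s8u501 : ∀ v, 1 ≤ v → v ≤ 156964 → fs8 v = true := slots_step fs8 156693 271 156964 s8u500 s8c501 rfl
theorem s8u502 : ∀ v, 1 ≤ v → v ≤ 157252 → fs8 v = true := slots_step fs8 156964 288 157252 s8u501 s8c502 rfl
theorem s8u503 : ∀ v, 1 ≤ v → v ≤ 157512 → fs8 v = true := slots_step fs8 157252 260 157512 s8u502 s8c503 rfl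
theorem s8u504 : ∀ v, 1 ≤ v → v ≤ 157759 → fs8 v = true := slots_step fs8 157512 247 157759 s8u503 s8c504 rfl
theorem s8u505 : ∀ v, 1 ≤ v → v ≤ 158010 → fs8 v = true := slots_step fs8 157759 251 158010 s8u504 s8c505 rfl
theorem s8u506 : ∀ v, 1 ≤ v → v ≤ 158264 → fs8 v = true := slots_step fs8 158010 254 158264 s8u505 s8c506 rfl
theorem s8u507 : ∀ v, 1 ≤ v → v ≤ 158527 → fs8 v = true := slots_step fs8 158264 263 158527 s8u506 s8c507 rfl
theorem s8u508 : ∀ v, 1 ≤ v → v ≤ 158803 → fs8 v = true := slots_step fs8 158527 276 158803 s8u507 s8c508 rfl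
theorem s8u509 : ∀ v, 1 ≤ v → v ≤ 159062 → fs8 v = true := slots_step fs8 158803 259 159062 s8u508 s8c509 rfl
theorem s8u510 : ∀ v, 1 ≤ v → v ≤ 159308 → fs8 v = true := slots_step fs8 159062 246 159308 s8u509 s8c510 rfl
theorem s8u511 : ∀ v, 1 ≤ v → v ≤ 159567 → fs8 v = true := slots_step fs8 159308 259 159567 s8u510 s8c511 rfl
theorem s8u512 : ∀ v, 1 ≤ v → v ≤ 159828 → fs8 v = true := slots_step fs8 159567 261 159828 s8u511 s8c512 rfl
theorem s8u513 : ∀ v, 1 ≤ v → v ≤ 160094 → fs8 v = true := slots_step fs8 159828 266 160094 s8u512 s8c513 rfl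
theorem s8u514 : ∀ v, 1 ≤ v → v ≤ 160353 → fs8 v = true := slots_step fs8 160094 259 160353 s8u513 s8c514 rfl
theorem s8u515 : ∀ v, 1 ≤ v → v ≤ 160616 → fs8 v = true := slots_step fs8 160353 263 160616 s8u514 s8c515 rfl
theorem s8u516 : ∀ v, 1 ≤ v → v ≤ 160868 → fs8 v = true := slots_step fs8 160616 252 160868 s8u515 s8c516 rfl
theorem s8u517 : ∀ v, 1 ≤ v → v ≤ 161121 → fs8 v = true := slots_step fs8 160868 253 161121 s8u516 s8c517 rfl
theorem s8u518 : ∀ v, 1 ≤ v → v ≤ 161375 → fs8 v = true := slots_step fs8 161121 254 161375 s8u517 s8c518 rfl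
theorem s8u519 : ∀ v, 1 ≤ v → v ≤ 161632 → fs8 v = true := slots_step fs8 161375 257 161632 s8u518 s8c519 rfl
theorem s8u520 : ∀ v, 1 ≤ v → v ≤ 161884 → fs8 v = true := slots_step fs8 161632 252 161884 s8u519 s8c520 rfl
theorem s8u521 : ∀ v, 1 ≤ v → v ≤ 162146 → fs8 v = true := slots_step fs8 161884 262 162146 s8u520 s8c521 rfl
theorem s8u522 : ∀ v, 1 ≤ v → v ≤ 162391 → fs8 v = true := slots_step fs8 162146 245 162391 s8u521 s8c522 rfl
theorem s8u523 : ∀ v, 1 ≤ v → v ≤ 162645 → fs8 v = true := slots_step fs8 162391 254 162645 s8u522 s8c523 rfl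
theorem s8u524 : ∀ v, 1 ≤ v → v ≤ 162914 → fs8 v = true := slots_step fs8 162645 269 162914 s8u523 s8c524 rfl
theorem s8u525 : ∀ v, 1 ≤ v → v ≤ 163179 → fs8 v = true := slots_step fs8 162914 265 163179 s8u524 s8c525 rfl
theorem s8u526 : ∀ v, 1 ≤ v → v ≤ 163459 → fs8 v = true := slots_step fs8 163179 280 163459 s8u525 s8c526 rfl
theorem s8u527 : ∀ v, 1 ≤ v → v ≤ 163718 → fs8 v = true := slots_step fs8 163459 259 163718 s8u526 s8c527 rfl
theorem s8u528 : ∀ v, 1 ≤ v → v ≤ 163988 → fs8 v = true := slots_step fs8 163718 270 163988 s8u527 s8c528 rfl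
theorem s8u529 : ∀ v, 1 ≤ v → v ≤ 164270 → fs8 v = true := slots_step fs8 163988 282 164270 s8u528 s8c529 rfl
theorem s8u530 : ∀ v, 1 ≤ v → v ≤ 164545 → fs8 v = true := slots_step fs8 164270 275 164545 s8u529 s8c530 rfl
theorem s8u531 : ∀ v, 1 ≤ v → v ≤ 164834 → fs8 v = true := slots_step fs8 164545 289 164834 s8u530 s8c531 rfl
theorem s8u532 : ∀ v, 1 ≤ v → v ≤ 165099 → fs8 v = true := slots_step fs8 164834 265 165099 s8u531 s8c532 rfl
theorem s8u533 : ∀ v, 1 ≤ v → v ≤ 165350 → fs8 v = true := slots_step fs8 165099 251 165350 s8u532 s8c533 rfl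
theorem s8u534 : ∀ v, 1 ≤ v → v ≤ 165599 → fs8 v = true := slots_step fs8 165350 249 165599 s8u533 s8c534 rfl
theorem s8u535 : ∀ v, 1 ≤ v → v ≤ 165852 → fs8 v = true := slots_step fs8 165599 253 165852 s8u534 s8c535 rfl
theorem s8u536 : ∀ v, 1 ≤ v → v ≤ 166094 → fs8 v = true := slots_step fs8 165852 242 166094 s8u535 s8c536 rfl
theorem s8u537 : ∀ v, 1 ≤ v → v ≤ 166346 → fs8 v = true := slots_step fs8 166094 252 166346 s8u536 s8c537 rfl
theorem s8u538 : ∀ v, 1 ≤ v → v ≤ 166601 → fs8 v = true := slots_step fs8 166346 255 166601 s8u537 s8c538 rfl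
theorem s8u539 : ∀ v, 1 ≤ v → v ≤ 166878 → fs8 v = true := slots_step fs8 166601 277 166878 s8u538 s8c539 rfl
theorem s8u540 : ∀ v, 1 ≤ v → v ≤ 167157 → fs8 v = true := slots_step fs8 166878 279 167157 s8u539 s8c540 rfl
theorem s8u541 : ∀ v, 1 ≤ v → v ≤ 167436 → fs8 v = true := slots_step fs8 167157 279 167436 s8u540 s8c541 rfl
theorem s8u542 : ∀ v, 1 ≤ v → v ≤ 167718 → fs8 v = true := slots_step fs8 167436 282 167718 s8u541 s8c542 rfl
theorem s8u543 : ∀ v, 1 ≤ v → v ≤ 167996 → fs8 v = true := slots_step fs8 167718 278 167996 s8u542 s8c543 rfl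
theorem s8u544 : ∀ v, 1 ≤ v → v ≤ 168262 → fs8 v = true := slots_step fs8 167996 266 168262 s8u543 s8c544 rfl
theorem s8u545 : ∀ v, 1 ≤ v → v ≤ 168526 → fs8 v = true := slots_step fs8 168262 264 168526 s8u544 s8c545 rfl
theorem s8u546 : ∀ v, 1 ≤ v → v ≤ 168781 → fs8 v = true := slots_step fs8 168526 255 168781 s8u545 s8c546 rfl
theorem s8u547 : ∀ v, 1 ≤ v → v ≤ 169030 → fs8 v = true := slots_step fs8 168781 249 169030 s8u546 s8c547 rfl
theorem s8u548 : ∀ v, 1 ≤ v → v ≤ 169294 → fs8 v = true := slots_step fs8 169030 264 169294 s8u547 s8c548 rfl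
theorem s8u549 : ∀ v, 1 ≤ v → v ≤ 169557 → fs8 v = true := slots_step fs8 169294 263 169557 s8u548 s8c549 rfl
theorem s8u550 : ∀ v, 1 ≤ v → v ≤ 169813 → fs8 v = true := slots_step fs8 169557 256 169813 s8u549 s8c550 rfl
theorem s8u551 : ∀ v, 1 ≤ v → v ≤ 170081 → fs8 v = true := slots_step fs8 169813 268 170081 s8u550 s8c551 rfl
theorem s8u552 : ∀ v, 1 ≤ v → v ≤ 170335 → fs8 v = true := slots_step fs8 170081 254 170335 s8u551 s8c552 rfl
theorem s8u553 : ∀ v, 1 ≤ v → v ≤ 170575 → fs8 v = true := slots_step fs8 170335 240 170575 s8u552 s8c553 rfl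
theorem s8u554 : ∀ v, 1 ≤ v → v ≤ 170849 → fs8 v = true := slots_step fs8 170575 274 170849 s8u553 s8c554 rfl
theorem s8u555 : ∀ v, 1 ≤ v → v ≤ 171117 → fs8 v = true := slots_step fs8 170849 268 171117 s8u554 s8c555 rfl
theorem s8u556 : ∀ v, 1 ≤ v → v ≤ 171385 → fs8 v = true := slots_step fs8 171117 268 171385 s8u555 s8c556 rfl
theorem s8u557 : ∀ v, 1 ≤ v → v ≤ 171658 → fs8 v = true := slots_step fs8 171385 273 171658 s8u556 s8c557 rfl
theorem s8u558 : ∀ v, 1 ≤ v → v ≤ 171931 → fs8 v = true := slots_step fs8 171658 273 171931 s8u557 s8c558 rfl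
theorem s8u559 : ∀ v, 1 ≤ v → v ≤ 172216 → fs8 v = true := slots_step fs8 171931 285 172216 s8u558 s8c559 rfl
theorem s8u560 : ∀ v, 1 ≤ v → v ≤ 172501 → fs8 v = true := slots_step fs8 172216 285 172501 s8u559 s8c560 rfl
theorem s8u561 : ∀ v, 1 ≤ v → v ≤ 172778 → fs8 v = true := slots_step fs8 172501 277 172778 s8u560 s8c561 rfl
theorem s8u562 : ∀ v, 1 ≤ v → v ≤ 173050 → fs8 v = true := slots_step fs8 172778 272 173050 s8u561 s8c562 rfl
theorem s8u563 : ∀ v, 1 ≤ v → v ≤ 173329 → fs8 v = true := slots_step fs8 173050 279 173329 s8u562 s8c563 rfl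
theorem s8u564 : ∀ v, 1 ≤ v → v ≤ 173609 → fs8 v = true := slots_step fs8 173329 280 173609 s8u563 s8c564 rfl
theorem s8u565 : ∀ v, 1 ≤ v → v ≤ 173892 → fs8 v = true := slots_step fs8 173609 283 173892 s8u564 s8c565 rfl
theorem s8u566 : ∀ v, 1 ≤ v → v ≤ 174176 → fs8 v = true := slots_step fs8 173892 284 174176 s8u565 s8c566 rfl
theorem s8u567 : ∀ v, 1 ≤ v → v ≤ 174467 → fs8 v = true := slots_step fs8 174176 291 174467 s8u566 s8c567 rfl
theorem s8u568 : ∀ v, 1 ≤ v → v ≤ 174754 → fs8 v = true := slots_step fs8 174467 287 174754 s8u567 s8c568 rfl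
theorem s8u569 : ∀ v, 1 ≤ v → v ≤ 175058 → fs8 v = true := slots_step fs8 174754 304 175058 s8u568 s8c569 rfl
theorem s8u570 : ∀ v, 1 ≤ v → v ≤ 175310 → fs8 v = true := slots_step fs8 175058 252 175310 s8u569 s8c570 rfl
theorem s8u571 : ∀ v, 1 ≤ v → v ≤ 175566 → fs8 v = true := slots_step fs8 175310 256 175566 s8u570 s8c571 rfl
theorem s8u572 : ∀ v, 1 ≤ v → v ≤ 175826 → fs8 v = true := slots_step fs8 175566 260 175826 s8u571 s8c572 rfl
theorem s8u573 : ∀ v, 1 ≤ v → v ≤ 176083 → fs8 v = true := slots_step fs8 175826 257 176083 s8u572 s8c573 rfl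
theorem s8u574 : ∀ v, 1 ≤ v → v ≤ 176345 → fs8 v = true := slots_step fs8 176083 262 176345 s8u573 s8c574 rfl
theorem s8u575 : ∀ v, 1 ≤ v → v ≤ 176622 → fs8 v = true := slots_step fs8 176345 277 176622 s8u574 s8c575 rfl
theorem s8u576 : ∀ v, 1 ≤ v → v ≤ 176896 → fs8 v = true := slots_step fs8 176622 274 176896 s8u575 s8c576 rfl
theorem s8u577 : ∀ v, 1 ≤ v → v ≤ 177184 → fs8 v = true := slots_step fs8 176896 288 177184 s8u576 s8c577 rfl
theorem s8u578 : ∀ v, 1 ≤ v → v ≤ 177427 → fs8 v = true := slots_step fs8 177184 243 177427 s8u577 s8c578 rfl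
theorem s8u579 : ∀ v, 1 ≤ v → v ≤ 177672 → fs8 v = true := slots_step fs8 177427 245 177672 s8u578 s8c579 rfl
theorem s8u580 : ∀ v, 1 ≤ v → v ≤ 177917 → fs8 v = true := slots_step fs8 177672 245 177917 s8u579 s8c580 rfl
theorem s8u581 : ∀ v, 1 ≤ v → v ≤ 178181 → fs8 v = true := slots_step fs8 177917 264 178181 s8u580 s8c581 rfl
theorem s8u582 : ∀ v, 1 ≤ v → v ≤ 178448 → fs8 v = true := slots_step fs8 178181 267 178448 s8u581 s8c582 rfl
theorem s8u583 : ∀ v, 1 ≤ v → v ≤ 178719 → fs8 v = true := slots_step fs8 178448 271 178719 s8u582 s8c583 rfl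
theorem s8u584 : ∀ v, 1 ≤ v → v ≤ 178964 → fs8 v = true := slots_step fs8 178719 245 178964 s8u583 s8c584 rfl
theorem s8u585 : ∀ v, 1 ≤ v → v ≤ 179222 → fs8 v = true := slots_step fs8 178964 258 179222 s8u584 s8c585 rfl
theorem s8u586 : ∀ v, 1 ≤ v → v ≤ 179473 → fs8 v = true := slots_step fs8 179222 251 179473 s8u585 s8c586 rfl
theorem s8u587 : ∀ v, 1 ≤ v → v ≤ 179739 → fs8 v = true := slots_step fs8 179473 266 179739 s8u586 s8c587 rfl
theorem s8u588 : ∀ v, 1 ≤ v → v ≤ 179999 → fs8 v = true := slots_step fs8 179739 260 179999 s8u587 s8c588 rfl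
theorem s8u589 : ∀ v, 1 ≤ v → v ≤ 180260 → fs8 v = true := slots_step fs8 179999 261 180260 s8u588 s8c589 rfl
theorem s8u590 : ∀ v, 1 ≤ v → v ≤ 180512 → fs8 v = true := slots_step fs8 180260 252 180512 s8u589 s8c590 rfl
theorem s8u591 : ∀ v, 1 ≤ v → v ≤ 180766 → fs8 v = true := slots_step fs8 180512 254 180766 s8u590 s8c591 rfl
theorem s8u592 : ∀ v, 1 ≤ v → v ≤ 181016 → fs8 v = true := slots_step fs8 180766 250 181016 s8u591 s8c592 rfl
theorem s8u593 : ∀ v, 1 ≤ v → v ≤ 181272 → fs8 v = true := slots_step fs8 181016 256 181272 s8u592 s8c593 rfl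
theorem s8u594 : ∀ v, 1 ≤ v → v ≤ 181516 → fs8 v = true := slots_step fs8 181272 244 181516 s8u593 s8c594 rfl
theorem s8u595 : ∀ v, 1 ≤ v → v ≤ 181778 → fs8 v = true := slots_step fs8 181516 262 181778 s8u594 s8c595 rfl
theorem s8u596 : ∀ v, 1 ≤ v → v ≤ 182028 → fs8 v = true := slots_step fs8 181778 250 182028 s8u595 s8c596 rfl
theorem s8u597 : ∀ v, 1 ≤ v → v ≤ 182289 → fs8 v = true := slots_step fs8 182028 261 182289 s8u596 s8c597 rfl
theorem s8u598 : ∀ v, 1 ≤ v → v ≤ 182539 → fs8 v = true := slots_step fs8 182289 250 182539 s8u597 s8c598 rfl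
theorem s8u599 : ∀ v, 1 ≤ v → v ≤ 182781 → fs8 v = true := slots_step fs8 182539 242 182781 s8u598 s8c599 rfl
theorem s8u600 : ∀ v, 1 ≤ v → v ≤ 183050 → fs8 v = true := slots_step fs8 182781 269 183050 s8u599 s8c600 rfl
theorem s8u601 : ∀ v, 1 ≤ v → v ≤ 183303 → fs8 v = true := slots_step fs8 183050 253 183303 s8u600 s8c601 rfl
theorem s8u602 : ∀ v, 1 ≤ v → v ≤ 183585 → fs8 v = true := slots_step fs8 183303 282 183585 s8u601 s8c602 rfl
theorem s8u603 : ∀ v, 1 ≤ v → v ≤ 183854 → fs8 v = true := slots_step fs8 183585 269 183854 s8u602 s8c603 rfl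
theorem s8u604 : ∀ v, 1 ≤ v → v ≤ 184113 → fs8 v = true := slots_step fs8 183854 259 184113 s8u603 s8c604 rfl
theorem s8u605 : ∀ v, 1 ≤ v → v ≤ 184386 → fs8 v = true := slots_step fs8 184113 273 184386 s8u604 s8c605 rfl
theorem s8u606 : ∀ v, 1 ≤ v → v ≤ 184669 → fs8 v = true := slots_step fs8 184386 283 184669 s8u605 s8c606 rfl
theorem s8u607 : ∀ v, 1 ≤ v → v ≤ 184936 → fs8 v = true := slots_step fs8 184669 267 184936 s8u606 s8c607 rfl
theorem s8u608 : ∀ v, 1 ≤ v → v ≤ 185226 → fs8 v = true := slots_step fs8 184936 290 185226 s8u607 s8c608 rfl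
theorem s8u609 : ∀ v, 1 ≤ v → v ≤ 185513 → fs8 v = true := slots_step fs8 185226 287 185513 s8u608 s8c609 rfl
theorem s8u610 : ∀ v, 1 ≤ v → v ≤ 185764 → fs8 v = true := slots_step fs8 185513 251 185764 s8u609 s8c610 rfl
theorem s8u611 : ∀ v, 1 ≤ v → v ≤ 186013 → fs8 v = true := slots_step fs8 185764 249 186013 s8u610 s8c611 rfl
theorem s8u612 : ∀ v, 1 ≤ v → v ≤ 186265 → fs8 v = true := slots_step fs8 186013 252 186265 s8u611 s8c612 rfl
theorem s8u613 : ∀ v, 1 ≤ v → v ≤ 186511 → fs8 v = true := slots_step fs8 186265 246 186511 s8u612 s8c613 rfl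
theorem s8u614 : ∀ v, 1 ≤ v → v ≤ 186758 → fs8 v = true := slots_step fs8 186511 247 186758 s8u613 s8c614 rfl
theorem s8u615 : ∀ v, 1 ≤ v → v ≤ 187012 → fs8 v = true := slots_step fs8 186758 254 187012 s8u614 s8c615 rfl
theorem s8u616 : ∀ v, 1 ≤ v → v ≤ 187296 → fs8 v = true := slots_step fs8 187012 284 187296 s8u615 s8c616 rfl
theorem s8u617 : ∀ v, 1 ≤ v → v ≤ 187578 → fs8 v = true := slots_step fs8 187296 282 187578 s8u616 s8c617 rfl
theorem s8u618 : ∀ v, 1 ≤ v → v ≤ 187853 → fs8 v = true := slots_step fs8 187578 275 187853 s8u617 s8c618 rfl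
theorem s8u619 : ∀ v, 1 ≤ v → v ≤ 188137 → fs8 v = true := slots_step fs8 187853 284 188137 s8u618 s8c619 rfl
theorem s8u620 : ∀ v, 1 ≤ v → v ≤ 188412 → fs8 v = true := slots_step fs8 188137 275 188412 s8u619 s8c620 rfl
theorem s8u621 : ∀ v, 1 ≤ v → v ≤ 188687 → fs8 v = true := slots_step fs8 188412 275 188687 s8u620 s8c621 rfl
theorem s8u622 : ∀ v, 1 ≤ v → v ≤ 188948 → fs8 v = true := slots_step fs8 188687 261 188948 s8u621 s8c622 rfl
theorem s8u623 : ∀ v, 1 ≤ v → v ≤ 189204 → fs8 v = true := slots_step fs8 188948 256 189204 s8u622 s8c623 rfl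
theorem s8u624 : ∀ v, 1 ≤ v → v ≤ 189452 → fs8 v = true := slots_step fs8 189204 248 189452 s8u623 s8c624 rfl
theorem s8u625 : ∀ v, 1 ≤ v → v ≤ 189705 → fs8 v = true := slots_step fs8 189452 253 189705 s8u624 s8c625 rfl
theorem s8u626 : ∀ v, 1 ≤ v → v ≤ 189972 → fs8 v = true := slots_step fs8 189705 267 189972 s8u625 s8c626 rfl
theorem s8u627 : ∀ v, 1 ≤ v → v ≤ 190232 → fs8 v = true := slots_step fs8 189972 260 190232 s8u626 s8c627 rfl
theorem s8u628 : ∀ v, 1 ≤ v → v ≤ 190485 → fs8 v = true := slots_step fs8 190232 253 190485 s8u627 s8c628 rfl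
theorem s8u629 : ∀ v, 1 ≤ v → v ≤ 190751 → fs8 v = true := slots_step fs8 190485 266 190751 s8u628 s8c629 rfl
theorem s8u630 : ∀ v, 1 ≤ v → v ≤ 191015 → fs8 v = true := slots_step fs8 190751 264 191015 s8u629 s8c630 rfl
theorem s8u631 : ∀ v, 1 ≤ v → v ≤ 191268 → fs8 v = true := slots_step fs8 191015 253 191268 s8u630 s8c631 rfl
theorem s8u632 : ∀ v, 1 ≤ v → v ≤ 191504 → fs8 v = true := slots_step fs8 191268 236 191504 s8u631 s8c632 rfl
theorem s8u633 : ∀ v, 1 ≤ v → v ≤ 191783 → fs8 v = true := slots_step fs8 191504 279 191783 s8u632 s8c633 rfl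
theorem s8u634 : ∀ v, 1 ≤ v → v ≤ 192052 → fs8 v = true := slots_step fs8 191783 269 192052 s8u633 s8c634 rfl
theorem s8u635 : ∀ v, 1 ≤ v → v ≤ 192314 → fs8 v = true := slots_step fs8 192052 262 192314 s8u634 s8c635 rfl
theorem s8u636 : ∀ v, 1 ≤ v → v ≤ 192591 → fs8 v = true := slots_step fs8 192314 277 192591 s8u635 s8c636 rfl
theorem s8u637 : ∀ v, 1 ≤ v → v ≤ 192860 → fs8 v = true := slots_step fs8 192591 269 192860 s8u636 s8c637 rfl
theorem s8u638 : ∀ v, 1 ≤ v → v ≤ 193145 → fs8 v = true := slots_step fs8 192860 285 193145 s8u637 s8c638 rfl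
theorem s8u639 : ∀ v, 1 ≤ v → v ≤ 193429 → fs8 v = true := slots_step fs8 193145 284 193429 s8u638 s8c639 rfl
theorem s8u640 : ∀ v, 1 ≤ v → v ≤ 193714 → fs8 v = true := slots_step fs8 193429 285 193714 s8u639 s8c640 rfl
theorem s8u641 : ∀ v, 1 ≤ v → v ≤ 193993 → fs8 v = true := slots_step fs8 193714 279 193993 s8u640 s8c641 rfl
theorem s8u642 : ∀ v, 1 ≤ v → v ≤ 194265 → fs8 v = true := slots_step fs8 193993 272 194265 s8u641 s8c642 rfl
theorem s8u643 : ∀ v, 1 ≤ v → v ≤ 194540 → fs8 v = true := slots_step fs8 194265 275 194540 s8u642 s8c643 rfl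
theorem s8u644 : ∀ v, 1 ≤ v → v ≤ 194827 → fs8 v = true := slots_step fs8 194540 287 194827 s8u643 s8c644 rfl
theorem s8u645 : ∀ v, 1 ≤ v → v ≤ 195109 → fs8 v = true := slots_step fs8 194827 282 195109 s8u644 s8c645 rfl
theorem s8u646 : ∀ v, 1 ≤ v → v ≤ 195395 → fs8 v = true := slots_step fs8 195109 286 195395 s8u645 s8c646 rfl
theorem s8u647 : ∀ v, 1 ≤ v → v ≤ 195681 → fs8 v = true := slots_step fs8 195395 286 195681 s8u646 s8c647 rfl
theorem s8u648 : ∀ v, 1 ≤ v → v ≤ 195970 → fs8 v = true := slots_step fs8 195681 289 195970 s8u647 s8c648 rfl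
theorem s8u649 : ∀ v, 1 ≤ v → v ≤ 196265 → fs8 v = true := slots_step fs8 195970 295 196265 s8u648 s8c649 rfl
theorem s8u650 : ∀ v, 1 ≤ v → v ≤ 196565 → fs8 v = true := slots_step fs8 196265 300 196565 s8u649 s8c650 rfl
theorem s8u651 : ∀ v, 1 ≤ v → v ≤ 196829 → fs8 v = true := slots_step fs8 196565 264 196829 s8u650 s8c651 rfl
theorem s8u652 : ∀ v, 1 ≤ v → v ≤ 197091 → fs8 v = true := slots_step fs8 196829 262 197091 s8u651 s8c652 rfl
theorem s8u653 : ∀ v, 1 ≤ v → v ≤ 197353 → fs8 v = true := slots_step fs8 197091 262 197353 s8u652 s8c653 rfl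
theorem s8u654 : ∀ v, 1 ≤ v → v ≤ 197613 → fs8 v = true := slots_step fs8 197353 260 197613 s8u653 s8c654 rfl
theorem s8u655 : ∀ v, 1 ≤ v → v ≤ 197884 → fs8 v = true := slots_step fs8 197613 271 197884 s8u654 s8c655 rfl
theorem s8u656 : ∀ v, 1 ≤ v → v ≤ 198159 → fs8 v = true := slots_step fs8 197884 275 198159 s8u655 s8c656 rfl
theorem s8u657 : ∀ v, 1 ≤ v → v ≤ 198452 → fs8 v = true := slots_step fs8 198159 293 198452 s8u656 s8c657 rfl
theorem s8u658 : ∀ v, 1 ≤ v → v ≤ 198705 → fs8 v = true := slots_step fs8 198452 253 198705 s8u657 s8c658 rfl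
theorem s8u659 : ∀ v, 1 ≤ v → v ≤ 198950 → fs8 v = true := slots_step fs8 198705 245 198950 s8u658 s8c659 rfl
theorem s8u660 : ∀ v, 1 ≤ v → v ≤ 199191 → fs8 v = true := slots_step fs8 198950 241 199191 s8u659 s8c660 rfl
theorem s8u661 : ∀ v, 1 ≤ v → v ≤ 199453 → fs8 v = true := slots_step fs8 199191 262 199453 s8u660 s8c661 rfl
theorem s8u662 : ∀ v, 1 ≤ v → v ≤ 199722 → fs8 v = true := slots_step fs8 199453 269 199722 s8u661 s8c662 rfl
theorem s8u663 : ∀ v, 1 ≤ v → v ≤ 199994 → fs8 v = true := slots_step fs8 199722 272 199994 s8u662 s8c663 rfl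
theorem s8u664 : ∀ v, 1 ≤ v → v ≤ 200246 → fs8 v = true := slots_step fs8 199994 252 200246 s8u663 s8c664 rfl
theorem s8u665 : ∀ v, 1 ≤ v → v ≤ 200494 → fs8 v = true := slots_step fs8 200246 248 200494 s8u664 s8c665 rfl
theorem s8u666 : ∀ v, 1 ≤ v → v ≤ 200743 → fs8 v = true := slots_step fs8 200494 249 200743 s8u665 s8c666 rfl
theorem s8u667 : ∀ v, 1 ≤ v → v ≤ 201001 → fs8 v = true := slots_step fs8 200743 258 201001 s8u666 s8c667 rfl
theorem s8u668 : ∀ v, 1 ≤ v → v ≤ 201264 → fs8 v = true := slots_step fs8 201001 263 201264 s8u667 s8c668 rfl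
theorem s8u669 : ∀ v, 1 ≤ v → v ≤ 201517 → fs8 v = true := slots_step fs8 201264 253 201517 s8u668 s8c669 rfl
theorem s8u670 : ∀ v, 1 ≤ v → v ≤ 201771 → fs8 v = true := slots_step fs8 201517 254 201771 s8u669 s8c670 rfl
theorem s8u671 : ∀ v, 1 ≤ v → v ≤ 202014 → fs8 v = true := slots_step fs8 201771 243 202014 s8u670 s8c671 rfl
theorem s8u672 : ∀ v, 1 ≤ v → v ≤ 202267 → fs8 v = true := slots_step fs8 202014 253 202267 s8u671 s8c672 rfl
theorem s8u673 : ∀ v, 1 ≤ v → v ≤ 202517 → fs8 v = true := slots_step fs8 202267 250 202517 s8u672 s8c673 rfl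
theorem s8u674 : ∀ v, 1 ≤ v → v ≤ 202760 → fs8 v = true := slots_step fs8 202517 243 202760 s8u673 s8c674 rfl
theorem s8u675 : ∀ v, 1 ≤ v → v ≤ 203006 → fs8 v = true := slots_step fs8 202760 246 203006 s8u674 s8c675 rfl
theorem s8u676 : ∀ v, 1 ≤ v → v ≤ 203270 → fs8 v = true := slots_step fs8 203006 264 203270 s8u675 s8c676 rfl
theorem s8u677 : ∀ v, 1 ≤ v → v ≤ 203523 → fs8 v = true := slots_step fs8 203270 253 203523 s8u676 s8c677 rfl
theorem s8u678 : ∀ v, 1 ≤ v → v ≤ 203763 → fs8 v = true := slots_step fs8 203523 240 203763 s8u677 s8c678 rfl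
theorem s8u679 : ∀ v, 1 ≤ v → v ≤ 204026 → fs8 v = true := slots_step fs8 203763 263 204026 s8u678 s8c679 rfl
theorem s8u680 : ∀ v, 1 ≤ v → v ≤ 204272 → fs8 v = true := slots_step fs8 204026 246 204272 s8u679 s8c680 rfl
theorem s8u681 : ∀ v, 1 ≤ v → v ≤ 204516 → fs8 v = true := slots_step fs8 204272 244 204516 s8u680 s8c681 rfl
theorem s8u682 : ∀ v, 1 ≤ v → v ≤ 204782 → fs8 v = true := slots_step fs8 204516 266 204782 s8u681 s8c682 rfl
theorem s8u683 : ∀ v, 1 ≤ v → v ≤ 205035 → fs8 v = true := slots_step fs8 204782 253 205035 s8u682 s8c683 rfl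
theorem s8u684 : ∀ v, 1 ≤ v → v ≤ 205321 → fs8 v = true := slots_step fs8 205035 286 205321 s8u683 s8c684 rfl
theorem s8u685 : ∀ v, 1 ≤ v → v ≤ 205591 → fs8 v = true := slots_step fs8 205321 270 205591 s8u684 s8c685 rfl
theorem s8u686 : ∀ v, 1 ≤ v → v ≤ 205847 → fs8 v = true := slots_step fs8 205591 256 205847 s8u685 s8c686 rfl
theorem s8u687 : ∀ v, 1 ≤ v → v ≤ 206119 → fs8 v = true := slots_step fs8 205847 272 206119 s8u686 s8c687 rfl
theorem s8u688 : ∀ v, 1 ≤ v → v ≤ 206400 → fs8 v = true := slots_step fs8 206119 281 206400 s8u687 s8c688 rfl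
theorem s8u689 : ∀ v, 1 ≤ v → v ≤ 206677 → fs8 v = true := slots_step fs8 206400 277 206677 s8u688 s8c689 rfl
theorem s8u690 : ∀ v, 1 ≤ v → v ≤ 206949 → fs8 v = true := slots_step fs8 206677 272 206949 s8u689 s8c690 rfl
theorem s8u691 : ∀ v, 1 ≤ v → v ≤ 207239 → fs8 v = true := slots_step fs8 206949 290 207239 s8u690 s8c691 rfl
theorem s8u692 : ∀ v, 1 ≤ v → v ≤ 207520 → fs8 v = true := slots_step fs8 207239 281 207520 s8u691 s8c692 rfl
theorem s8u693 : ∀ v, 1 ≤ v → v ≤ 207778 → fs8 v = true := slots_step fs8 207520 258 207778 s8u692 s8c693 rfl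
theorem s8u694 : ∀ v, 1 ≤ v → v ≤ 208025 → fs8 v = true := slots_step fs8 207778 247 208025 s8u693 s8c694 rfl
theorem s8u695 : ∀ v, 1 ≤ v → v ≤ 208280 → fs8 v = true := slots_step fs8 208025 255 208280 s8u694 s8c695 rfl
theorem s8u696 : ∀ v, 1 ≤ v → v ≤ 208523 → fs8 v = true := slots_step fs8 208280 243 208523 s8u695 s8c696 rfl
theorem s8u697 : ∀ v, 1 ≤ v → v ≤ 208778 → fs8 v = true := slots_step fs8 208523 255 208778 s8u696 s8c697 rfl
theorem s8u698 : ∀ v, 1 ≤ v → v ≤ 209055 → fs8 v = true := slots_step fs8 208778 277 209055 s8u697 s8c698 rfl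
theorem s8u699 : ∀ v, 1 ≤ v → v ≤ 209342 → fs8 v = true := slots_step fs8 209055 287 209342 s8u698 s8c699 rfl
theorem s8u700 : ∀ v, 1 ≤ v → v ≤ 209628 → fs8 v = true := slots_step fs8 209342 286 209628 s8u699 s8c700 rfl
theorem s8u701 : ∀ v, 1 ≤ v → v ≤ 209899 → fs8 v = true := slots_step fs8 209628 271 209899 s8u700 s8c701 rfl
theorem s8u702 : ∀ v, 1 ≤ v → v ≤ 210181 → fs8 v = true := slots_step fs8 209899 282 210181 s8u701 s8c702 rfl
theorem s8u703 : ∀ v, 1 ≤ v → v ≤ 210455 → fs8 v = true := slots_step fs8 210181 274 210455 s8u702 s8c703 rfl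
theorem s8u704 : ∀ v, 1 ≤ v → v ≤ 210730 → fs8 v = true := slots_step fs8 210455 275 210730 s8u703 s8c704 rfl
theorem s8u705 : ∀ v, 1 ≤ v → v ≤ 210988 → fs8 v = true := slots_step fs8 210730 258 210988 s8u704 s8c705 rfl
theorem s8u706 : ∀ v, 1 ≤ v → v ≤ 211240 → fs8 v = true := slots_step fs8 210988 252 211240 s8u705 s8c706 rfl
theorem s8u707 : ∀ v, 1 ≤ v → v ≤ 211485 → fs8 v = true := slots_step fs8 211240 245 211485 s8u706 s8c707 rfl
theorem s8u708 : ∀ v, 1 ≤ v → v ≤ 211736 → fs8 v = true := slots_step fs8 211485 251 211736 s8u707 s8c708 rfl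
theorem s8u709 : ∀ v, 1 ≤ v → v ≤ 212001 → fs8 v = true := slots_step fs8 211736 265 212001 s8u708 s8c709 rfl
theorem s8u710 : ∀ v, 1 ≤ v → v ≤ 212266 → fs8 v = true := slots_step fs8 212001 265 212266 s8u709 s8c710 rfl
theorem s8u711 : ∀ v, 1 ≤ v → v ≤ 212522 → fs8 v = true := slots_step fs8 212266 256 212522 s8u710 s8c711 rfl
theorem s8u712 : ∀ v, 1 ≤ v → v ≤ 212772 → fs8 v = true := slots_step fs8 212522 250 212772 s8u711 s8c712 rfl
theorem s8u713 : ∀ v, 1 ≤ v → v ≤ 213035 → fs8 v = true := slots_step fs8 212772 263 213035 s8u712 s8c713 rfl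
theorem s8u714 : ∀ v, 1 ≤ v → v ≤ 213302 → fs8 v = true := slots_step fs8 213035 267 213302 s8u713 s8c714 rfl
theorem s8u715 : ∀ v, 1 ≤ v → v ≤ 213555 → fs8 v = true := slots_step fs8 213302 253 213555 s8u714 s8c715 rfl
theorem s8u716 : ∀ v, 1 ≤ v → v ≤ 213800 → fs8 v = true := slots_step fs8 213555 245 213800 s8u715 s8c716 rfl
theorem s8u717 : ∀ v, 1 ≤ v → v ≤ 214056 → fs8 v = true := slots_step fs8 213800 256 214056 s8u716 s8c717 rfl
theorem s8u718 : ∀ v, 1 ≤ v → v ≤ 214330 → fs8 v = true := slots_step fs8 214056 274 214330 s8u717 s8c718 rfl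
theorem s8u719 : ∀ v, 1 ≤ v → v ≤ 214599 → fs8 v = true := slots_step fs8 214330 269 214599 s8u718 s8c719 rfl
theorem s8u720 : ∀ v, 1 ≤ v → v ≤ 214857 → fs8 v = true := slots_step fs8 214599 258 214857 s8u719 s8c720 rfl
theorem s8u721 : ∀ v, 1 ≤ v → v ≤ 215136 → fs8 v = true := slots_step fs8 214857 279 215136 s8u720 s8c721 rfl
theorem s8u722 : ∀ v, 1 ≤ v → v ≤ 215407 → fs8 v = true := slots_step fs8 215136 271 215407 s8u721 s8c722 rfl
theorem s8u723 : ∀ v, 1 ≤ v → v ≤ 215698 → fs8 v = true := slots_step fs8 215407 291 215698 s8u722 s8c723 rfl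
theorem s8u724 : ∀ v, 1 ≤ v → v ≤ 215984 → fs8 v = true := slots_step fs8 215698 286 215984 s8u723 s8c724 rfl
theorem s8u725 : ∀ v, 1 ≤ v → v ≤ 216272 → fs8 v = true := slots_step fs8 215984 288 216272 s8u724 s8c725 rfl
theorem s8u726 : ∀ v, 1 ≤ v → v ≤ 216550 → fs8 v = true := slots_step fs8 216272 278 216550 s8u725 s8c726 rfl
theorem s8u727 : ∀ v, 1 ≤ v → v ≤ 216825 → fs8 v = true := slots_step fs8 216550 275 216825 s8u726 s8c727 rfl
theorem s8u728 : ∀ v, 1 ≤ v → v ≤ 217096 → fs8 v = true := slots_step fs8 216825 271 217096 s8u727 s8c728 rfl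
theorem s8u729 : ∀ v, 1 ≤ v → v ≤ 217381 → fs8 v = true := slots_step fs8 217096 285 217381 s8u728 s8c729 rfl
theorem s8u730 : ∀ v, 1 ≤ v → v ≤ 217672 → fs8 v = true := slots_step fs8 217381 291 217672 s8u729 s8c730 rfl
theorem s8u731 : ∀ v, 1 ≤ v → v ≤ 217955 → fs8 v = true := slots_step fs8 217672 283 217955 s8u730 s8c731 rfl
theorem s8u732 : ∀ v, 1 ≤ v → v ≤ 218247 → fs8 v = true := slots_step fs8 217955 292 218247 s8u731 s8c732 rfl
theorem s8u733 : ∀ v, 1 ≤ v → v ≤ 218530 → fs8 v = true := slots_step fs8 218247 283 218530 s8u732 s8c733 rfl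
theorem s8u734 : ∀ v, 1 ≤ v → v ≤ 218821 → fs8 v = true := slots_step fs8 218530 291 218821 s8u733 s8c734 rfl
theorem s8u735 : ∀ v, 1 ≤ v → v ≤ 219100 → fs8 v = true := slots_step fs8 218821 279 219100 s8u734 s8c735 rfl
theorem s8u736 : ∀ v, 1 ≤ v → v ≤ 219399 → fs8 v = true := slots_step fs8 219100 299 219399 s8u735 s8c736 rfl
theorem s8u737 : ∀ v, 1 ≤ v → v ≤ 219688 → fs8 v = true := slots_step fs8 219399 289 219688 s8u736 s8c737 rfl
theorem s8u738 : ∀ v, 1 ≤ v → v ≤ 219949 → fs8 v = true := slots_step fs8 219688 261 219949 s8u737 s8c738 rfl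
theorem s8u739 : ∀ v, 1 ≤ v → v ≤ 220217 → fs8 v = true := slots_step fs8 219949 268 220217 s8u738 s8c739 rfl
theorem s8u740 : ∀ v, 1 ≤ v → v ≤ 220473 → fs8 v = true := slots_step fs8 220217 256 220473 s8u739 s8c740 rfl
theorem s8u741 : ∀ v, 1 ≤ v → v ≤ 220741 → fs8 v = true := slots_step fs8 220473 268 220741 s8u740 s8c741 rfl
theorem s8u742 : ∀ v, 1 ≤ v → v ≤ 221024 → fs8 v = true := slots_step fs8 220741 283 221024 s8u741 s8c742 rfl
theorem s8u743 : ∀ v, 1 ≤ v → v ≤ 221322 → fs8 v = true := slots_step fs8 221024 298 221322 s8u742 s8c743 rfl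
theorem s8u744 : ∀ v, 1 ≤ v → v ≤ 221581 → fs8 v = true := slots_step fs8 221322 259 221581 s8u743 s8c744 rfl
theorem s8u745 : ∀ v, 1 ≤ v → v ≤ 221819 → fs8 v = true := slots_step fs8 221581 238 221819 s8u744 s8c745 rfl
theorem s8u746 : ∀ v, 1 ≤ v → v ≤ 222063 → fs8 v = true := slots_step fs8 221819 244 222063 s8u745 s8c746 rfl
theorem s8u747 : ∀ v, 1 ≤ v → v ≤ 222324 → fs8 v = true := slots_step fs8 222063 261 222324 s8u746 s8c747 rfl
theorem s8u748 : ∀ v, 1 ≤ v → v ≤ 222597 → fs8 v = true := slots_step fs8 222324 273 222597 s8u747 s8c748 rfl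
theorem s8u749 : ∀ v, 1 ≤ v → v ≤ 222860 → fs8 v = true := slots_step fs8 222597 263 222860 s8u748 s8c749 rfl
theorem s8u750 : ∀ v, 1 ≤ v → v ≤ 223116 → fs8 v = true := slots_step fs8 222860 256 223116 s8u749 s8c750 rfl
theorem s8u751 : ∀ v, 1 ≤ v → v ≤ 223354 → fs8 v = true := slots_step fs8 223116 238 223354 s8u750 s8c751 rfl
theorem s8u752 : ∀ v, 1 ≤ v → v ≤ 223602 → fs8 v = true := slots_step fs8 223354 248 223602 s8u751 s8c752 rfl
theorem s8u753 : ∀ v, 1 ≤ v → v ≤ 223857 → fs8 v = true := slots_step fs8 223602 255 223857 s8u752 s8c753 rfl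
theorem s8u754 : ∀ v, 1 ≤ v → v ≤ 224117 → fs8 v = true := slots_step fs8 223857 260 224117 s8u753 s8c754 rfl
theorem s8u755 : ∀ v, 1 ≤ v → v ≤ 224362 → fs8 v = true := slots_step fs8 224117 245 224362 s8u754 s8c755 rfl
theorem s8u756 : ∀ v, 1 ≤ v → v ≤ 224615 → fs8 v = true := slots_step fs8 224362 253 224615 s8u755 s8c756 rfl
theorem s8u757 : ∀ v, 1 ≤ v → v ≤ 224862 → fs8 v = true := slots_step fs8 224615 247 224862 s8u756 s8c757 rfl
theorem s8u758 : ∀ v, 1 ≤ v → v ≤ 225110 → fs8 v = true := slots_step fs8 224862 248 225110 s8u757 s8c758 rfl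
theorem s8u759 : ∀ v, 1 ≤ v → v ≤ 225351 → fs8 v = true := slots_step fs8 225110 241 225351 s8u758 s8c759 rfl
theorem s8u760 : ∀ v, 1 ≤ v → v ≤ 225599 → fs8 v = true := slots_step fs8 225351 248 225599 s8u759 s8c760 rfl
theorem s8u761 : ∀ v, 1 ≤ v → v ≤ 225842 → fs8 v = true := slots_step fs8 225599 243 225842 s8u760 s8c761 rfl
theorem s8u762 : ∀ v, 1 ≤ v → v ≤ 226087 → fs8 v = true := slots_step fs8 225842 245 226087 s8u761 s8c762 rfl
theorem s8u763 : ∀ v, 1 ≤ v → v ≤ 226347 → fs8 v = true := slots_step fs8 226087 260 226347 s8u762 s8c763 rfl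
theorem s8u764 : ∀ v, 1 ≤ v → v ≤ 226598 → fs8 v = true := slots_step fs8 226347 251 226598 s8u763 s8c764 rfl
theorem s8u765 : ∀ v, 1 ≤ v → v ≤ 226840 → fs8 v = true := slots_step fs8 226598 242 226840 s8u764 s8c765 rfl
theorem s8u766 : ∀ v, 1 ≤ v → v ≤ 227094 → fs8 v = true := slots_step fs8 226840 254 227094 s8u765 s8c766 rfl
theorem s8u767 : ∀ v, 1 ≤ v → v ≤ 227350 → fs8 v = true := slots_step fs8 227094 256 227350 s8u766 s8c767 rfl
theorem s8u768 : ∀ v, 1 ≤ v → v ≤ 227591 → fs8 v = true := slots_step fs8 227350 241 227591 s8u767 s8c768 rfl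
theorem s8u769 : ∀ v, 1 ≤ v → v ≤ 227844 → fs8 v = true := slots_step fs8 227591 253 227844 s8u768 s8c769 rfl
theorem s8u770 : ∀ v, 1 ≤ v → v ≤ 228103 → fs8 v = true := slots_step fs8 227844 259 228103 s8u769 s8c770 rfl
theorem s8u771 : ∀ v, 1 ≤ v → v ≤ 228366 → fs8 v = true := slots_step fs8 228103 263 228366 s8u770 s8c771 rfl
theorem s8u772 : ∀ v, 1 ≤ v → v ≤ 228651 → fs8 v = true := slots_step fs8 228366 285 228651 s8u771 s8c772 rfl
theorem s8u773 : ∀ v, 1 ≤ v → v ≤ 228915 → fs8 v = true := slots_step fs8 228651 264 228915 s8u772 s8c773 rfl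
theorem s8u774 : ∀ v, 1 ≤ v → v ≤ 229171 → fs8 v = true := slots_step fs8 228915 256 229171 s8u773 s8c774 rfl
theorem s8u775 : ∀ v, 1 ≤ v → v ≤ 229440 → fs8 v = true := slots_step fs8 229171 269 229440 s8u774 s8c775 rfl
theorem s8u776 : ∀ v, 1 ≤ v → v ≤ 229717 → fs8 v = true := slots_step fs8 229440 277 229717 s8u775 s8c776 rfl
theorem s8u777 : ∀ v, 1 ≤ v → v ≤ 230000 → fs8 v = true := slots_step fs8 229717 283 230000 s8u776 s8c777 rfl
theorem s8u778 : ∀ v, 1 ≤ v → v ≤ 230268 → fs8 v = true := slots_step fs8 230000 268 230268 s8u777 s8c778 rfl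
theorem s8u779 : ∀ v, 1 ≤ v → v ≤ 230548 → fs8 v = true := slots_step fs8 230268 280 230548 s8u778 s8c779 rfl
theorem s8u780 : ∀ v, 1 ≤ v → v ≤ 230831 → fs8 v = true := slots_step fs8 230548 283 230831 s8u779 s8c780 rfl
theorem s8u781 : ∀ v, 1 ≤ v → v ≤ 231100 → fs8 v = true := slots_step fs8 230831 269 231100 s8u780 s8c781 rfl
theorem s8u782 : ∀ v, 1 ≤ v → v ≤ 231348 → fs8 v = true := slots_step fs8 231100 248 231348 s8u781 s8c782 rfl
theorem s8u783 : ∀ v, 1 ≤ v → v ≤ 231600 → fs8 v = true := slots_step fs8 231348 252 231600 s8u782 s8c783 rfl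
theorem s8u784 : ∀ v, 1 ≤ v → v ≤ 231857 → fs8 v = true := slots_step fs8 231600 257 231857 s8u783 s8c784 rfl
theorem s8u785 : ∀ v, 1 ≤ v → v ≤ 232107 → fs8 v = true := slots_step fs8 231857 250 232107 s8u784 s8c785 rfl
theorem s8u786 : ∀ v, 1 ≤ v → v ≤ 232376 → fs8 v = true := slots_step fs8 232107 269 232376 s8u785 s8c786 rfl
theorem s8u787 : ∀ v, 1 ≤ v → v ≤ 232670 → fs8 v = true := slots_step fs8 232376 294 232670 s8u786 s8c787 rfl
theorem s8u788 : ∀ v, 1 ≤ v → v ≤ 232958 → fs8 v = true := slots_step fs8 232670 288 232958 s8u787 s8c788 rfl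
theorem s8u789 : ∀ v, 1 ≤ v → v ≤ 233232 → fs8 v = true := slots_step fs8 232958 274 233232 s8u788 s8c789 rfl
theorem s8u790 : ∀ v, 1 ≤ v → v ≤ 233517 → fs8 v = true := slots_step fs8 233232 285 233517 s8u789 s8c790 rfl
theorem s8u791 : ∀ v, 1 ≤ v → v ≤ 233794 → fs8 v = true := slots_step fs8 233517 277 233794 s8u790 s8c791 rfl
theorem s8u792 : ∀ v, 1 ≤ v → v ≤ 234061 → fs8 v = true := slots_step fs8 233794 267 234061 s8u791 s8c792 rfl
theorem s8u793 : ∀ v, 1 ≤ v → v ≤ 234322 → fs8 v = true := slots_step fs8 234061 261 234322 s8u792 s8c793 rfl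
theorem s8u794 : ∀ v, 1 ≤ v → v ≤ 234574 → fs8 v = true := slots_step fs8 234322 252 234574 s8u793 s8c794 rfl
theorem s8u795 : ∀ v, 1 ≤ v → v ≤ 234828 → fs8 v = true := slots_step fs8 234574 254 234828 s8u794 s8c795 rfl
theorem s8u796 : ∀ v, 1 ≤ v → v ≤ 235071 → fs8 v = true := slots_step fs8 234828 243 235071 s8u795 s8c796 rfl
theorem s8u797 : ∀ v, 1 ≤ v → v ≤ 235324 → fs8 v = true := slots_step fs8 235071 253 235324 s8u796 s8c797 rfl
theorem s8u798 : ∀ v, 1 ≤ v → v ≤ 235587 → fs8 v = true := slots_step fs8 235324 263 235587 s8u797 s8c798 rfl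
theorem s8u799 : ∀ v, 1 ≤ v → v ≤ 235852 → fs8 v = true := slots_step fs8 235587 265 235852 s8u798 s8c799 rfl
theorem s8u800 : ∀ v, 1 ≤ v → v ≤ 236113 → fs8 v = true := slots_step fs8 235852 261 236113 s8u799 s8c800 rfl
theorem s8u801 : ∀ v, 1 ≤ v → v ≤ 236369 → fs8 v = true := slots_step fs8 236113 256 236369 s8u800 s8c801 rfl
theorem s8u802 : ∀ v, 1 ≤ v → v ≤ 236623 → fs8 v = true := slots_step fs8 236369 254 236623 s8u801 s8c802 rfl
theorem s8u803 : ∀ v, 1 ≤ v → v ≤ 236885 → fs8 v = true := slots_step fs8 236623 262 236885 s8u802 s8c803 rfl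
theorem s8u804 : ∀ v, 1 ≤ v → v ≤ 237145 → fs8 v = true := slots_step fs8 236885 260 237145 s8u803 s8c804 rfl
theorem s8u805 : ∀ v, 1 ≤ v → v ≤ 237403 → fs8 v = true := slots_step fs8 237145 258 237403 s8u804 s8c805 rfl
theorem s8u806 : ∀ v, 1 ≤ v → v ≤ 237653 → fs8 v = true := slots_step fs8 237403 250 237653 s8u805 s8c806 rfl
theorem s8u807 : ∀ v, 1 ≤ v → v ≤ 237898 → fs8 v = true := slots_step fs8 237653 245 237898 s8u806 s8c807 rfl
theorem s8u808 : ∀ v, 1 ≤ v → v ≤ 238176 → fs8 v = true := slots_step fs8 237898 278 238176 s8u807 s8c808 rfl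
theorem s8u809 : ∀ v, 1 ≤ v → v ≤ 238444 → fs8 v = true := slots_step fs8 238176 268 238444 s8u808 s8c809 rfl
theorem s8u810 : ∀ v, 1 ≤ v → v ≤ 238707 → fs8 v = true := slots_step fs8 238444 263 238707 s8u809 s8c810 rfl
theorem s8u811 : ∀ v, 1 ≤ v → v ≤ 238988 → fs8 v = true := slots_step fs8 238707 281 238988 s8u810 s8c811 rfl
theorem s8u812 : ∀ v, 1 ≤ v → v ≤ 239250 → fs8 v = true := slots_step fs8 238988 262 239250 s8u811 s8c812 rfl
theorem s8u813 : ∀ v, 1 ≤ v → v ≤ 239531 → fs8 v = true := slots_step fs8 239250 281 239531 s8u812 s8c813 rfl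
theorem s8u814 : ∀ v, 1 ≤ v → v ≤ 239818 → fs8 v = true := slots_step fs8 239531 287 239818 s8u813 s8c814 rfl
theorem s8u815 : ∀ v, 1 ≤ v → v ≤ 240111 → fs8 v = true := slots_step fs8 239818 293 240111 s8u814 s8c815 rfl
theorem s8u816 : ∀ v, 1 ≤ v → v ≤ 240396 → fs8 v = true := slots_step fs8 240111 285 240396 s8u815 s8c816 rfl
theorem s8u817 : ∀ v, 1 ≤ v → v ≤ 240673 → fs8 v = true := slots_step fs8 240396 277 240673 s8u816 s8c817 rfl
theorem s8u818 : ∀ v, 1 ≤ v → v ≤ 240953 → fs8 v = true := slots_step fs8 240673 280 240953 s8u817 s8c818 rfl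
theorem s8u819 : ∀ v, 1 ≤ v → v ≤ 241226 → fs8 v = true := slots_step fs8 240953 273 241226 s8u818 s8c819 rfl
theorem s8u820 : ∀ v, 1 ≤ v → v ≤ 241511 → fs8 v = true := slots_step fs8 241226 285 241511 s8u819 s8c820 rfl
theorem s8u821 : ∀ v, 1 ≤ v → v ≤ 241799 → fs8 v = true := slots_step fs8 241511 288 241799 s8u820 s8c821 rfl
theorem s8u822 : ∀ v, 1 ≤ v → v ≤ 242083 → fs8 v = true := slots_step fs8 241799 284 242083 s8u821 s8c822 rfl
theorem s8u823 : ∀ v, 1 ≤ v → v ≤ 242373 → fs8 v = true := slots_step fs8 242083 290 242373 s8u822 s8c823 rfl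
theorem s8u824 : ∀ v, 1 ≤ v → v ≤ 242668 → fs8 v = true := slots_step fs8 242373 295 242668 s8u823 s8c824 rfl
theorem s8u825 : ∀ v, 1 ≤ v → v ≤ 242948 → fs8 v = true := slots_step fs8 242668 280 242948 s8u824 s8c825 rfl
theorem s8u826 : ∀ v, 1 ≤ v → v ≤ 243230 → fs8 v = true := slots_step fs8 242948 282 243230 s8u825 s8c826 rfl
theorem s8u827 : ∀ v, 1 ≤ v → v ≤ 243508 → fs8 v = true := slots_step fs8 243230 278 243508 s8u826 s8c827 rfl
theorem s8u828 : ∀ v, 1 ≤ v → v ≤ 243805 → fs8 v = true := slots_step fs8 243508 297 243805 s8u827 s8c828 rfl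
theorem s8u829 : ∀ v, 1 ≤ v → v ≤ 244092 → fs8 v = true := slots_step fs8 243805 287 244092 s8u828 s8c829 rfl
theorem s8u830 : ∀ v, 1 ≤ v → v ≤ 244352 → fs8 v = true := slots_step fs8 244092 260 244352 s8u829 s8c830 rfl
theorem s8u831 : ∀ v, 1 ≤ v → v ≤ 244620 → fs8 v = true := slots_step fs8 244352 268 244620 s8u830 s8c831 rfl
theorem s8u832 : ∀ v, 1 ≤ v → v ≤ 244878 → fs8 v = true := slots_step fs8 244620 258 244878 s8u831 s8c832 rfl
theorem s8u833 : ∀ v, 1 ≤ v → v ≤ 245159 → fs8 v = true := slots_step fs8 244878 281 245159 s8u832 s8c833 rfl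
theorem s8u834 : ∀ v, 1 ≤ v → v ≤ 245452 → fs8 v = true := slots_step fs8 245159 293 245452 s8u833 s8c834 rfl
theorem s8u835 : ∀ v, 1 ≤ v → v ≤ 245769 → fs8 v = true := slots_step fs8 245452 317 245769 s8u834 s8c835 rfl
theorem s8u836 : ∀ v, 1 ≤ v → v ≤ 246003 → fs8 v = true := slots_step fs8 245769 234 246003 s8u835 s8c836 rfl
theorem s8u837 : ∀ v, 1 ≤ v → v ≤ 246245 → fs8 v = true := slots_step fs8 246003 242 246245 s8u836 s8c837 rfl
theorem s8u838 : ∀ v, 1 ≤ v → v ≤ 246505 → fs8 v = true := slots_step fs8 246245 260 246505 s8u837 s8c838 rfl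
theorem s8u839 : ∀ v, 1 ≤ v → v ≤ 246782 → fs8 v = true := slots_step fs8 246505 277 246782 s8u838 s8c839 rfl
theorem s8u840 : ∀ v, 1 ≤ v → v ≤ 247041 → fs8 v = true := slots_step fs8 246782 259 247041 s8u839 s8c840 rfl
theorem s8u841 : ∀ v, 1 ≤ v → v ≤ 247295 → fs8 v = true := slots_step fs8 247041 254 247295 s8u840 s8c841 rfl
theorem s8u842 : ∀ v, 1 ≤ v → v ≤ 247530 → fs8 v = true := slots_step fs8 247295 235 247530 s8u841 s8c842 rfl
theorem s8u843 : ∀ v, 1 ≤ v → v ≤ 247776 → fs8 v = true := slots_step fs8 247530 246 247776 s8u842 s8c843 rfl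
theorem s8u844 : ∀ v, 1 ≤ v → v ≤ 248022 → fs8 v = true := slots_step fs8 247776 246 248022 s8u843 s8c844 rfl
theorem s8u845 : ∀ v, 1 ≤ v → v ≤ 248271 → fs8 v = true := slots_step fs8 248022 249 248271 s8u844 s8c845 rfl
theorem s8u846 : ∀ v, 1 ≤ v → v ≤ 248522 → fs8 v = true := slots_step fs8 248271 251 248522 s8u845 s8c846 rfl
theorem s8u847 : ∀ v, 1 ≤ v → v ≤ 248764 → fs8 v = true := slots_step fs8 248522 242 248764 s8u846 s8c847 rfl
theorem s8u848 : ∀ v, 1 ≤ v → v ≤ 249016 → fs8 v = true := slots_step fs8 248764 252 249016 s8u847 s8c848 rfl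
theorem s8u849 : ∀ v, 1 ≤ v → v ≤ 249259 → fs8 v = true := slots_step fs8 249016 243 249259 s8u848 s8c849 rfl
theorem s8u850 : ∀ v, 1 ≤ v → v ≤ 249507 → fs8 v = true := slots_step fs8 249259 248 249507 s8u849 s8c850 rfl
theorem s8u851 : ∀ v, 1 ≤ v → v ≤ 249746 → fs8 v = true := slots_step fs8 249507 239 249746 s8u850 s8c851 rfl
theorem s8u852 : ∀ v, 1 ≤ v → v ≤ 249991 → fs8 v = true := slots_step fs8 249746 245 249991 s8u851 s8c852 rfl
theorem s8u853 : ∀ v, 1 ≤ v → v ≤ 250232 → fs8 v = true := slots_step fs8 249991 241 250232 s8u852 s8c853 rfl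
theorem s8u854 : ∀ v, 1 ≤ v → v ≤ 250474 → fs8 v = true := slots_step fs8 250232 242 250474 s8u853 s8c854 rfl
theorem s8u855 : ∀ v, 1 ≤ v → v ≤ 250730 → fs8 v = true := slots_step fs8 250474 256 250730 s8u854 s8c855 rfl
theorem s8u856 : ∀ v, 1 ≤ v → v ≤ 250983 → fs8 v = true := slots_step fs8 250730 253 250983 s8u855 s8c856 rfl
theorem s8u857 : ∀ v, 1 ≤ v → v ≤ 251234 → fs8 v = true := slots_step fs8 250983 251 251234 s8u856 s8c857 rfl
theorem s8u858 : ∀ v, 1 ≤ v → v ≤ 251475 → fs8 v = true := slots_step fs8 251234 241 251475 s8u857 s8c858 rfl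
theorem s8u859 : ∀ v, 1 ≤ v → v ≤ 251728 → fs8 v = true := slots_step fs8 251475 253 251728 s8u858 s8c859 rfl
theorem s8u860 : ∀ v, 1 ≤ v → v ≤ 251981 → fs8 v = true := slots_step fs8 251728 253 251981 s8u859 s8c860 rfl
theorem s8u861 : ∀ v, 1 ≤ v → v ≤ 252223 → fs8 v = true := slots_step fs8 251981 242 252223 s8u860 s8c861 rfl
theorem s8u862 : ∀ v, 1 ≤ v → v ≤ 252473 → fs8 v = true := slots_step fs8 252223 250 252473 s8u861 s8c862 rfl
theorem s8u863 : ∀ v, 1 ≤ v → v ≤ 252733 → fs8 v = true := slots_step fs8 252473 260 252733 s8u862 s8c863 rfl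
theorem s8u864 : ∀ v, 1 ≤ v → v ≤ 252990 → fs8 v = true := slots_step fs8 252733 257 252990 s8u863 s8c864 rfl
theorem s8u865 : ∀ v, 1 ≤ v → v ≤ 253270 → fs8 v = true := slots_step fs8 252990 280 253270 s8u864 s8c865 rfl
theorem s8u866 : ∀ v, 1 ≤ v → v ≤ 253540 → fs8 v = true := slots_step fs8 253270 270 253540 s8u865 s8c866 rfl
theorem s8u867 : ∀ v, 1 ≤ v → v ≤ 253799 → fs8 v = true := slots_step fs8 253540 259 253799 s8u866 s8c867 rfl
theorem s8u868 : ∀ v, 1 ≤ v → v ≤ 254065 → fs8 v = true := slots_step fs8 253799 266 254065 s8u867 s8c868 rfl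
theorem s8u869 : ∀ v, 1 ≤ v → v ≤ 254345 → fs8 v = true := slots_step fs8 254065 280 254345 s8u868 s8c869 rfl
theorem s8u870 : ∀ v, 1 ≤ v → v ≤ 254614 → fs8 v = true := slots_step fs8 254345 269 254614 s8u869 s8c870 rfl
theorem s8u871 : ∀ v, 1 ≤ v → v ≤ 254903 → fs8 v = true := slots_step fs8 254614 289 254903 s8u870 s8c871 rfl
theorem s8u872 : ∀ v, 1 ≤ v → v ≤ 255170 → fs8 v = true := slots_step fs8 254903 267 255170 s8u871 s8c872 rfl
theorem s8u873 : ∀ v, 1 ≤ v → v ≤ 255438 → fs8 v = true := slots_step fs8 255170 268 255438 s8u872 s8c873 rfl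
theorem s8u874 : ∀ v, 1 ≤ v → v ≤ 255728 → fs8 v = true := slots_step fs8 255438 290 255728 s8u873 s8c874 rfl
theorem s8u875 : ∀ v, 1 ≤ v → v ≤ 255988 → fs8 v = true := slots_step fs8 255728 260 255988 s8u874 s8c875 rfl
theorem s8u876 : ∀ v, 1 ≤ v → v ≤ 256234 → fs8 v = true := slots_step fs8 255988 246 256234 s8u875 s8c876 rfl
theorem s8u877 : ∀ v, 1 ≤ v → v ≤ 256491 → fs8 v = true := slots_step fs8 256234 257 256491 s8u876 s8c877 rfl
theorem s8u878 : ∀ v, 1 ≤ v → v ≤ 256744 → fs8 v = true := slots_step fs8 256491 253 256744 s8u877 s8c878 rfl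
theorem s8u879 : ∀ v, 1 ≤ v → v ≤ 257020 → fs8 v = true := slots_step fs8 256744 276 257020 s8u878 s8c879 rfl
theorem s8u880 : ∀ v, 1 ≤ v → v ≤ 257311 → fs8 v = true := slots_step fs8 257020 291 257311 s8u879 s8c880 rfl
theorem s8u881 : ∀ v, 1 ≤ v → v ≤ 257596 → fs8 v = true := slots_step fs8 257311 285 257596 s8u880 s8c881 rfl
theorem s8u882 : ∀ v, 1 ≤ v → v ≤ 257888 → fs8 v = true := slots_step fs8 257596 292 257888 s8u881 s8c882 rfl
theorem s8u883 : ∀ v, 1 ≤ v → v ≤ 258151 → fs8 v = true := slots_step fs8 257888 263 258151 s8u882 s8c883 rfl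
theorem s8u884 : ∀ v, 1 ≤ v → v ≤ 258430 → fs8 v = true := slots_step fs8 258151 279 258430 s8u883 s8c884 rfl
theorem s8u885 : ∀ v, 1 ≤ v → v ≤ 258707 → fs8 v = true := slots_step fs8 258430 277 258707 s8u884 s8c885 rfl
theorem s8u886 : ∀ v, 1 ≤ v → v ≤ 258968 → fs8 v = true := slots_step fs8 258707 261 258968 s8u885 s8c886 rfl
theorem s8u887 : ∀ v, 1 ≤ v → v ≤ 259224 → fs8 v = true := slots_step fs8 258968 256 259224 s8u886 s8c887 rfl
theorem s8u888 : ∀ v, 1 ≤ v → v ≤ 259478 → fs8 v = true := slots_step fs8 259224 254 259478 s8u887 s8c888 rfl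
theorem s8u889 : ∀ v, 1 ≤ v → v ≤ 259732 → fs8 v = true := slots_step fs8 259478 254 259732 s8u888 s8c889 rfl
theorem s8u890 : ∀ v, 1 ≤ v → v ≤ 259974 → fs8 v = true := slots_step fs8 259732 242 259974 s8u889 s8c890 rfl
theorem s8u891 : ∀ v, 1 ≤ v → v ≤ 260218 → fs8 v = true := slots_step fs8 259974 244 260218 s8u890 s8c891 rfl
theorem s8u892 : ∀ v, 1 ≤ v → v ≤ 260483 → fs8 v = true := slots_step fs8 260218 265 260483 s8u891 s8c892 rfl
theorem s8u893 : ∀ v, 1 ≤ v → v ≤ 260748 → fs8 v = true := slots_step fs8 260483 265 260748 s8u892 s8c893 rfl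
theorem s8u894 : ∀ v, 1 ≤ v → v ≤ 261012 → fs8 v = true := slots_step fs8 260748 264 261012 s8u893 s8c894 rfl
theorem s8u895 : ∀ v, 1 ≤ v → v ≤ 261270 → fs8 v = true := slots_step fs8 261012 258 261270 s8u894 s8c895 rfl
theorem s8u896 : ∀ v, 1 ≤ v → v ≤ 261527 → fs8 v = true := slots_step fs8 261270 257 261527 s8u895 s8c896 rfl
theorem s8u897 : ∀ v, 1 ≤ v → v ≤ 261783 → fs8 v = true := slots_step fs8 261527 256 261783 s8u896 s8c897 rfl
theorem s8u898 : ∀ v, 1 ≤ v → v ≤ 262044 → fs8 v = true := slots_step fs8 261783 261 262044 s8u897 s8c898 rfl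
theorem s8u899 : ∀ v, 1 ≤ v → v ≤ 262301 → fs8 v = true := slots_step fs8 262044 257 262301 s8u898 s8c899 rfl
theorem s8u900 : ∀ v, 1 ≤ v → v ≤ 262558 → fs8 v = true := slots_step fs8 262301 257 262558 s8u899 s8c900 rfl
theorem s8u901 : ∀ v, 1 ≤ v → v ≤ 262811 → fs8 v = true := slots_step fs8 262558 253 262811 s8u900 s8c901 rfl
theorem s8u902 : ∀ v, 1 ≤ v → v ≤ 263060 → fs8 v = true := slots_step fs8 262811 249 263060 s8u901 s8c902 rfl
theorem s8u903 : ∀ v, 1 ≤ v → v ≤ 263328 → fs8 v = true := slots_step fs8 263060 268 263328 s8u902 s8c903 rfl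
theorem s8u904 : ∀ v, 1 ≤ v → v ≤ 263595 → fs8 v = true := slots_step fs8 263328 267 263595 s8u903 s8c904 rfl
theorem s8u905 : ∀ v, 1 ≤ v → v ≤ 263859 → fs8 v = true := slots_step fs8 263595 264 263859 s8u904 s8c905 rfl
theorem s8u906 : ∀ v, 1 ≤ v → v ≤ 264116 → fs8 v = true := slots_step fs8 263859 257 264116 s8u905 s8c906 rfl
theorem s8u907 : ∀ v, 1 ≤ v → v ≤ 264394 → fs8 v = true := slots_step fs8 264116 278 264394 s8u906 s8c907 rfl
theorem s8u908 : ∀ v, 1 ≤ v → v ≤ 264663 → fs8 v = true := slots_step fs8 264394 269 264663 s8u907 s8c908 rfl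
theorem s8u909 : ∀ v, 1 ≤ v → v ≤ 264946 → fs8 v = true := slots_step fs8 264663 283 264946 s8u908 s8c909 rfl
theorem s8u910 : ∀ v, 1 ≤ v → v ≤ 265218 → fs8 v = true := slots_step fs8 264946 272 265218 s8u909 s8c910 rfl
theorem s8u911 : ∀ v, 1 ≤ v → v ≤ 265517 → fs8 v = true := slots_step fs8 265218 299 265517 s8u910 s8c911 rfl
theorem s8u912 : ∀ v, 1 ≤ v → v ≤ 265801 → fs8 v = true := slots_step fs8 265517 284 265801 s8u911 s8c912 rfl
theorem s8u913 : ∀ v, 1 ≤ v → v ≤ 266078 → fs8 v = true := slots_step fs8 265801 277 266078 s8u912 s8c913 rfl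
theorem s8u914 : ∀ v, 1 ≤ v → v ≤ 266357 → fs8 v = true := slots_step fs8 266078 279 266357 s8u913 s8c914 rfl
theorem s8u915 : ∀ v, 1 ≤ v → v ≤ 266628 → fs8 v = true := slots_step fs8 266357 271 266628 s8u914 s8c915 rfl
theorem s8u916 : ∀ v, 1 ≤ v → v ≤ 266912 → fs8 v = true := slots_step fs8 266628 284 266912 s8u915 s8c916 rfl
theorem s8u917 : ∀ v, 1 ≤ v → v ≤ 267201 → fs8 v = true := slots_step fs8 266912 289 267201 s8u916 s8c917 rfl
theorem s8u918 : ∀ v, 1 ≤ v → v ≤ 267496 → fs8 v = true := slots_step fs8 267201 295 267496 s8u917 s8c918 rfl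
theorem s8u919 : ∀ v, 1 ≤ v → v ≤ 267776 → fs8 v = true := slots_step fs8 267496 280 267776 s8u918 s8c919 rfl
theorem s8u920 : ∀ v, 1 ≤ v → v ≤ 268078 → fs8 v = true := slots_step fs8 267776 302 268078 s8u919 s8c920 rfl
theorem s8u921 : ∀ v, 1 ≤ v → v ≤ 268353 → fs8 v = true := slots_step fs8 268078 275 268353 s8u920 s8c921 rfl
theorem s8u922 : ∀ v, 1 ≤ v → v ≤ 268635 → fs8 v = true := slots_step fs8 268353 282 268635 s8u921 s8c922 rfl
theorem s8u923 : ∀ v, 1 ≤ v → v ≤ 268907 → fs8 v = true := slots_step fs8 268635 272 268907 s8u922 s8c923 rfl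
theorem s8u924 : ∀ v, 1 ≤ v → v ≤ 269201 → fs8 v = true := slots_step fs8 268907 294 269201 s8u923 s8c924 rfl
theorem s8u925 : ∀ v, 1 ≤ v → v ≤ 269495 → fs8 v = true := slots_step fs8 269201 294 269495 s8u924 s8c925 rfl
theorem s8u926 : ∀ v, 1 ≤ v → v ≤ 269756 → fs8 v = true := slots_step fs8 269495 261 269756 s8u925 s8c926 rfl
theorem s8u927 : ∀ v, 1 ≤ v → v ≤ 270023 → fs8 v = true := slots_step fs8 269756 267 270023 s8u926 s8c927 rfl
theorem s8u928 : ∀ v, 1 ≤ v → v ≤ 270285 → fs8 v = true := slots_step fs8 270023 262 270285 s8u927 s8c928 rfl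
theorem s8u929 : ∀ v, 1 ≤ v → v ≤ 270577 → fs8 v = true := slots_step fs8 270285 292 270577 s8u928 s8c929 rfl
theorem s8u930 : ∀ v, 1 ≤ v → v ≤ 270893 → fs8 v = true := slots_step fs8 270577 316 270893 s8u929 s8c930 rfl
theorem s8u931 : ∀ v, 1 ≤ v → v ≤ 271188 → fs8 v = true := slots_step fs8 270893 295 271188 s8u930 s8c931 rfl
theorem s8u932 : ∀ v, 1 ≤ v → v ≤ 271426 → fs8 v = true := slots_step fs8 271188 238 271426 s8u931 s8c932 rfl
theorem s8u933 : ∀ v, 1 ≤ v → v ≤ 271677 → fs8 v = true := slots_step fs8 271426 251 271677 s8u932 s8c933 rfl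
theorem s8u934 : ∀ v, 1 ≤ v → v ≤ 271955 → fs8 v = true := slots_step fs8 271677 278 271955 s8u933 s8c934 rfl
theorem s8u935 : ∀ v, 1 ≤ v → v ≤ 272227 → fs8 v = true := slots_step fs8 271955 272 272227 s8u934 s8c935 rfl
theorem s8u936 : ∀ v, 1 ≤ v → v ≤ 272477 → fs8 v = true := slots_step fs8 272227 250 272477 s8u935 s8c936 rfl
theorem s8u937 : ∀ v, 1 ≤ v → v ≤ 272711 → fs8 v = true := slots_step fs8 272477 234 272711 s8u936 s8c937 rfl
theorem s8u938 : ∀ v, 1 ≤ v → v ≤ 272946 → fs8 v = true := slots_step fs8 272711 235 272946 s8u937 s8c938 rfl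
theorem s8u939 : ∀ v, 1 ≤ v → v ≤ 273186 → fs8 v = true := slots_step fs8 272946 240 273186 s8u938 s8c939 rfl
theorem s8u940 : ∀ v, 1 ≤ v → v ≤ 273435 → fs8 v = true := slots_step fs8 273186 249 273435 s8u939 s8c940 rfl
theorem s8u941 : ∀ v, 1 ≤ v → v ≤ 273682 → fs8 v = true := slots_step fs8 273435 247 273682 s8u940 s8c941 rfl
theorem s8u942 : ∀ v, 1 ≤ v → v ≤ 273932 → fs8 v = true := slots_step fs8 273682 250 273932 s8u941 s8c942 rfl
theorem s8u943 : ∀ v, 1 ≤ v → v ≤ 274173 → fs8 v = true := slots_step fs8 273932 241 274173 s8u942 s8c943 rfl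
theorem s8u944 : ∀ v, 1 ≤ v → v ≤ 274419 → fs8 v = true := slots_step fs8 274173 246 274419 s8u943 s8c944 rfl
theorem s8u945 : ∀ v, 1 ≤ v → v ≤ 274663 → fs8 v = true := slots_step fs8 274419 244 274663 s8u944 s8c945 rfl
theorem s8u946 : ∀ v, 1 ≤ v → v ≤ 274908 → fs8 v = true := slots_step fs8 274663 245 274908 s8u945 s8c946 rfl
theorem s8u947 : ∀ v, 1 ≤ v → v ≤ 275147 → fs8 v = true := slots_step fs8 274908 239 275147 s8u946 s8c947 rfl
theorem s8u948 : ∀ v, 1 ≤ v → v ≤ 275387 → fs8 v = true := slots_step fs8 275147 240 275387 s8u947 s8c948 rfl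
theorem s8u949 : ∀ v, 1 ≤ v → v ≤ 275623 → fs8 v = true := slots_step fs8 275387 236 275623 s8u948 s8c949 rfl
theorem s8u950 : ∀ v, 1 ≤ v → v ≤ 275865 → fs8 v = true := slots_step fs8 275623 242 275865 s8u949 s8c950 rfl
theorem s8u951 : ∀ v, 1 ≤ v → v ≤ 276108 → fs8 v = true := slots_step fs8 275865 243 276108 s8u950 s8c951 rfl
theorem s8u952 : ∀ v, 1 ≤ v → v ≤ 276364 → fs8 v = true := slots_step fs8 276108 256 276364 s8u951 s8c952 rfl
theorem s8u953 : ∀ v, 1 ≤ v → v ≤ 276616 → fs8 v = true := slots_step fs8 276364 252 276616 s8u952 s8c953 rfl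
theorem s8u954 : ∀ v, 1 ≤ v → v ≤ 276870 → fs8 v = true := slots_step fs8 276616 254 276870 s8u953 s8c954 rfl
theorem s8u955 : ∀ v, 1 ≤ v → v ≤ 277113 → fs8 v = true := slots_step fs8 276870 243 277113 s8u954 s8c955 rfl
theorem s8u956 : ∀ v, 1 ≤ v → v ≤ 277365 → fs8 v = true := slots_step fs8 277113 252 277365 s8u955 s8c956 rfl
theorem s8u957 : ∀ v, 1 ≤ v → v ≤ 277615 → fs8 v = true := slots_step fs8 277365 250 277615 s8u956 s8c957 rfl
theorem s8u958 : ∀ v, 1 ≤ v → v ≤ 277858 → fs8 v = true := slots_step fs8 277615 243 277858 s8u957 s8c958 rfl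
theorem s8u959 : ∀ v, 1 ≤ v → v ≤ 278106 → fs8 v = true := slots_step fs8 277858 248 278106 s8u958 s8c959 rfl
theorem s8u960 : ∀ v, 1 ≤ v → v ≤ 278360 → fs8 v = true := slots_step fs8 278106 254 278360 s8u959 s8c960 rfl
theorem s8u961 : ∀ v, 1 ≤ v → v ≤ 278619 → fs8 v = true := slots_step fs8 278360 259 278619 s8u960 s8c961 rfl
theorem s8u962 : ∀ v, 1 ≤ v → v ≤ 278891 → fs8 v = true := slots_step fs8 278619 272 278891 s8u961 s8c962 rfl
theorem s8u963 : ∀ v, 1 ≤ v → v ≤ 279159 → fs8 v = true := slots_step fs8 278891 268 279159 s8u962 s8c963 rfl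
theorem s8u964 : ∀ v, 1 ≤ v → v ≤ 279419 → fs8 v = true := slots_step fs8 279159 260 279419 s8u963 s8c964 rfl
theorem s8u965 : ∀ v, 1 ≤ v → v ≤ 279687 → fs8 v = true := slots_step fs8 279419 268 279687 s8u964 s8c965 rfl
theorem s8u966 : ∀ v, 1 ≤ v → v ≤ 279966 → fs8 v = true := slots_step fs8 279687 279 279966 s8u965 s8c966 rfl
theorem s8u967 : ∀ v, 1 ≤ v → v ≤ 280228 → fs8 v = true := slots_step fs8 279966 262 280228 s8u966 s8c967 rfl
theorem s8u968 : ∀ v, 1 ≤ v → v ≤ 280521 → fs8 v = true := slots_step fs8 280228 293 280521 s8u967 s8c968 rfl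
theorem s8u969 : ∀ v, 1 ≤ v → v ≤ 280787 → fs8 v = true := slots_step fs8 280521 266 280787 s8u968 s8c969 rfl
theorem s8u970 : ∀ v, 1 ≤ v → v ≤ 281046 → fs8 v = true := slots_step fs8 280787 259 281046 s8u969 s8c970 rfl
theorem s8u971 : ∀ v, 1 ≤ v → v ≤ 281335 → fs8 v = true := slots_step fs8 281046 289 281335 s8u970 s8c971 rfl
theorem s8u972 : ∀ v, 1 ≤ v → v ≤ 281595 → fs8 v = true := slots_step fs8 281335 260 281595 s8u971 s8c972 rfl
theorem s8u973 : ∀ v, 1 ≤ v → v ≤ 281842 → fs8 v = true := slots_step fs8 281595 247 281842 s8u972 s8c973 rfl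
theorem s8u974 : ∀ v, 1 ≤ v → v ≤ 282098 → fs8 v = true := slots_step fs8 281842 256 282098 s8u973 s8c974 rfl
theorem s8u975 : ∀ v, 1 ≤ v → v ≤ 282358 → fs8 v = true := slots_step fs8 282098 260 282358 s8u974 s8c975 rfl
theorem s8u976 : ∀ v, 1 ≤ v → v ≤ 282653 → fs8 v = true := slots_step fs8 282358 295 282653 s8u975 s8c976 rfl
theorem s8u977 : ∀ v, 1 ≤ v → v ≤ 282948 → fs8 v = true := slots_step fs8 282653 295 282948 s8u976 s8c977 rfl
theorem s8u978 : ∀ v, 1 ≤ v → v ≤ 283226 → fs8 v = true := slots_step fs8 282948 278 283226 s8u977 s8c978 rfl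
theorem s8u979 : ∀ v, 1 ≤ v → v ≤ 283519 → fs8 v = true := slots_step fs8 283226 293 283519 s8u978 s8c979 rfl
theorem s8u980 : ∀ v, 1 ≤ v → v ≤ 283773 → fs8 v = true := slots_step fs8 283519 254 283773 s8u979 s8c980 rfl
theorem s8u981 : ∀ v, 1 ≤ v → v ≤ 284049 → fs8 v = true := slots_step fs8 283773 276 284049 s8u980 s8c981 rfl
theorem s8u982 : ∀ v, 1 ≤ v → v ≤ 284319 → fs8 v = true := slots_step fs8 284049 270 284319 s8u981 s8c982 rfl
theorem s8u983 : ∀ v, 1 ≤ v → v ≤ 284569 → fs8 v = true := slots_step fs8 284319 250 284569 s8u982 s8c983 rfl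
theorem s8u984 : ∀ v, 1 ≤ v → v ≤ 284820 → fs8 v = true := slots_step fs8 284569 251 284820 s8u983 s8c984 rfl
theorem s8u985 : ∀ v, 1 ≤ v → v ≤ 285069 → fs8 v = true := slots_step fs8 284820 249 285069 s8u984 s8c985 rfl
theorem s8u986 : ∀ v, 1 ≤ v → v ≤ 285320 → fs8 v = true := slots_step fs8 285069 251 285320 s8u985 s8c986 rfl
theorem s8u987 : ∀ v, 1 ≤ v → v ≤ 285560 → fs8 v = true := slots_step fs8 285320 240 285560 s8u986 s8c987 rfl
theorem s8u988 : ∀ v, 1 ≤ v → v ≤ 285803 → fs8 v = true := slots_step fs8 285560 243 285803 s8u987 s8c988 rfl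
theorem s8u989 : ∀ v, 1 ≤ v → v ≤ 286064 → fs8 v = true := slots_step fs8 285803 261 286064 s8u988 s8c989 rfl
theorem s8u990 : ∀ v, 1 ≤ v → v ≤ 286330 → fs8 v = true := slots_step fs8 286064 266 286330 s8u989 s8c990 rfl
theorem s8u991 : ∀ v, 1 ≤ v → v ≤ 286592 → fs8 v = true := slots_step fs8 286330 262 286592 s8u990 s8c991 rfl
theorem s8u992 : ∀ v, 1 ≤ v → v ≤ 286851 → fs8 v = true := slots_step fs8 286592 259 286851 s8u991 s8c992 rfl
theorem s8u993 : ∀ v, 1 ≤ v → v ≤ 287112 → fs8 v = true := slots_step fs8 286851 261 287112 s8u992 s8c993 rfl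
theorem s8u994 : ∀ v, 1 ≤ v → v ≤ 287371 → fs8 v = true := slots_step fs8 287112 259 287371 s8u993 s8c994 rfl
theorem s8u995 : ∀ v, 1 ≤ v → v ≤ 287628 → fs8 v = true := slots_step fs8 287371 257 287628 s8u994 s8c995 rfl
theorem s8u996 : ∀ v, 1 ≤ v → v ≤ 287887 → fs8 v = true := slots_step fs8 287628 259 287887 s8u995 s8c996 rfl
theorem s8u997 : ∀ v, 1 ≤ v → v ≤ 288136 → fs8 v = true := slots_step fs8 287887 249 288136 s8u996 s8c997 rfl
theorem s8u998 : ∀ v, 1 ≤ v → v ≤ 288387 → fs8 v = true := slots_step fs8 288136 251 288387 s8u997 s8c998 rfl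
theorem s8u999 : ∀ v, 1 ≤ v → v ≤ 288642 → fs8 v = true := slots_step fs8 288387 255 288642 s8u998 s8c999 rfl
theorem s8u1000 : ∀ v, 1 ≤ v → v ≤ 288891 → fs8 v = true := slots_step fs8 288642 249 288891 s8u999 s8c1000 rfl
theorem s8u1001 : ∀ v, 1 ≤ v → v ≤ 289160 → fs8 v = true := slots_step fs8 288891 269 289160 s8u1000 s8c1001 rfl
theorem s8u1002 : ∀ v, 1 ≤ v → v ≤ 289421 → fs8 v = true := slots_step fs8 289160 261 289421 s8u1001 s8c1002 rfl
theorem s8u1003 : ∀ v, 1 ≤ v → v ≤ 289670 → fs8 v = true := slots_step fs8 289421 249 289670 s8u1002 s8c1003 rfl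
theorem s8u1004 : ∀ v, 1 ≤ v → v ≤ 289946 → fs8 v = true := slots_step fs8 289670 276 289946 s8u1003 s8c1004 rfl
theorem s8u1005 : ∀ v, 1 ≤ v → v ≤ 290203 → fs8 v = true := slots_step fs8 289946 257 290203 s8u1004 s8c1005 rfl
theorem s8u1006 : ∀ v, 1 ≤ v → v ≤ 290472 → fs8 v = true := slots_step fs8 290203 269 290472 s8u1005 s8c1006 rfl
theorem s8u1007 : ∀ v, 1 ≤ v → v ≤ 290753 → fs8 v = true := slots_step fs8 290472 281 290753 s8u1006 s8c1007 rfl
theorem s8u1008 : ∀ v, 1 ≤ v → v ≤ 291042 → fs8 v = true := slots_step fs8 290753 289 291042 s8u1007 s8c1008 rfl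
theorem s8u1009 : ∀ v, 1 ≤ v → v ≤ 291326 → fs8 v = true := slots_step fs8 291042 284 291326 s8u1008 s8c1009 rfl
theorem s8u1010 : ∀ v, 1 ≤ v → v ≤ 291602 → fs8 v = true := slots_step fs8 291326 276 291602 s8u1009 s8c1010 rfl
theorem s8u1011 : ∀ v, 1 ≤ v → v ≤ 291883 → fs8 v = true := slots_step fs8 291602 281 291883 s8u1010 s8c1011 rfl
theorem s8u1012 : ∀ v, 1 ≤ v → v ≤ 292153 → fs8 v = true := slots_step fs8 291883 270 292153 s8u1011 s8c1012 rfl
theorem s8u1013 : ∀ v, 1 ≤ v → v ≤ 292432 → fs8 v = true := slots_step fs8 292153 279 292432 s8u1012 s8c1013 rfl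
theorem s8u1014 : ∀ v, 1 ≤ v → v ≤ 292719 → fs8 v = true := slots_step fs8 292432 287 292719 s8u1013 s8c1014 rfl
theorem s8u1015 : ∀ v, 1 ≤ v → v ≤ 293019 → fs8 v = true := slots_step fs8 292719 300 293019 s8u1014 s8c1015 rfl
theorem s8u1016 : ∀ v, 1 ≤ v → v ≤ 293298 → fs8 v = true := slots_step fs8 293019 279 293298 s8u1015 s8c1016 rfl
theorem s8u1017 : ∀ v, 1 ≤ v → v ≤ 293603 → fs8 v = true := slots_step fs8 293298 305 293603 s8u1016 s8c1017 rfl
theorem s8u1018 : ∀ v, 1 ≤ v → v ≤ 293869 → fs8 v = true := slots_step fs8 293603 266 293869 s8u1017 s8c1018 rfl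
theorem s8u1019 : ∀ v, 1 ≤ v → v ≤ 294143 → fs8 v = true := slots_step fs8 293869 274 294143 s8u1018 s8c1019 rfl
theorem s8u1020 : ∀ v, 1 ≤ v → v ≤ 294438 → fs8 v = true := slots_step fs8 294143 295 294438 s8u1019 s8c1020 rfl
theorem s8u1021 : ∀ v, 1 ≤ v → v ≤ 294727 → fs8 v = true := slots_step fs8 294438 289 294727 s8u1020 s8c1021 rfl
theorem s8u1022 : ∀ v, 1 ≤ v → v ≤ 294995 → fs8 v = true := slots_step fs8 294727 268 294995 s8u1021 s8c1022 rfl
theorem s8u1023 : ∀ v, 1 ≤ v → v ≤ 295255 → fs8 v = true := slots_step fs8 294995 260 295255 s8u1022 s8c1023 rfl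
theorem s8u1024 : ∀ v, 1 ≤ v → v ≤ 295521 → fs8 v = true := slots_step fs8 295255 266 295521 s8u1023 s8c1024 rfl
theorem s8u1025 : ∀ v, 1 ≤ v → v ≤ 295843 → fs8 v = true := slots_step fs8 295521 322 295843 s8u1024 s8c1025 rfl
theorem s8u1026 : ∀ v, 1 ≤ v → v ≤ 296162 → fs8 v = true := slots_step fs8 295843 319 296162 s8u1025 s8c1026 rfl
theorem s8u1027 : ∀ v, 1 ≤ v → v ≤ 296400 → fs8 v = true := slots_step fs8 296162 238 296400 s8u1026 s8c1027 rfl
theorem s8u1028 : ∀ v, 1 ≤ v → v ≤ 296651 → fs8 v = true := slots_step fs8 296400 251 296651 s8u1027 s8c1028 rfl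
theorem s8u1029 : ∀ v, 1 ≤ v → v ≤ 296923 → fs8 v = true := slots_step fs8 296651 272 296923 s8u1028 s8c1029 rfl
theorem s8u1030 : ∀ v, 1 ≤ v → v ≤ 297206 → fs8 v = true := slots_step fs8 296923 283 297206 s8u1029 s8c1030 rfl
theorem s8u1031 : ∀ v, 1 ≤ v → v ≤ 297448 → fs8 v = true := slots_step fs8 297206 242 297448 s8u1030 s8c1031 rfl
theorem s8u1032 : ∀ v, 1 ≤ v → v ≤ 297685 → fs8 v = true := slots_step fs8 297448 237 297685 s8u1031 s8c1032 rfl
theorem s8u1033 : ∀ v, 1 ≤ v → v ≤ 297914 → fs8 v = true := slots_step fs8 297685 229 297914 s8u1032 s8c1033 rfl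
theorem s8u1034 : ∀ v, 1 ≤ v → v ≤ 298153 → fs8 v = true := slots_step fs8 297914 239 298153 s8u1033 s8c1034 rfl
theorem s8u1035 : ∀ v, 1 ≤ v → v ≤ 298397 → fs8 v = true := slots_step fs8 298153 244 298397 s8u1034 s8c1035 rfl
theorem s8u1036 : ∀ v, 1 ≤ v → v ≤ 298640 → fs8 v = true := slots_step fs8 298397 243 298640 s8u1035 s8c1036 rfl
theorem s8u1037 : ∀ v, 1 ≤ v → v ≤ 298890 → fs8 v = true := slots_step fs8 298640 250 298890 s8u1036 s8c1037 rfl
theorem s8u1038 : ∀ v, 1 ≤ v → v ≤ 299129 → fs8 v = true := slots_step fs8 298890 239 299129 s8u1037 s8c1038 rfl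
theorem s8u1039 : ∀ v, 1 ≤ v → v ≤ 299364 → fs8 v = true := slots_step fs8 299129 235 299364 s8u1038 s8c1039 rfl
theorem s8u1040 : ∀ v, 1 ≤ v → v ≤ 299604 → fs8 v = true := slots_step fs8 299364 240 299604 s8u1039 s8c1040 rfl
theorem s8u1041 : ∀ v, 1 ≤ v → v ≤ 299848 → fs8 v = true := slots_step fs8 299604 244 299848 s8u1040 s8c1041 rfl
theorem s8u1042 : ∀ v, 1 ≤ v → v ≤ 300085 → fs8 v = true := slots_step fs8 299848 237 300085 s8u1041 s8c1042 rfl
theorem s8u1043 : ∀ v, 1 ≤ v → v ≤ 300322 → fs8 v = true := slots_step fs8 300085 237 300322 s8u1042 s8c1043 rfl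
theorem s8u1044 : ∀ v, 1 ≤ v → v ≤ 300559 → fs8 v = true := slots_step fs8 300322 237 300559 s8u1043 s8c1044 rfl
theorem s8u1045 : ∀ v, 1 ≤ v → v ≤ 300797 → fs8 v = true := slots_step fs8 300559 238 300797 s8u1044 s8c1045 rfl
theorem s8u1046 : ∀ v, 1 ≤ v → v ≤ 301034 → fs8 v = true := slots_step fs8 300797 237 301034 s8u1045 s8c1046 rfl
theorem s8u1047 : ∀ v, 1 ≤ v → v ≤ 301285 → fs8 v = true := slots_step fs8 301034 251 301285 s8u1046 s8c1047 rfl
theorem s8u1048 : ∀ v, 1 ≤ v → v ≤ 301533 → fs8 v = true := slots_step fs8 301285 248 301533 s8u1047 s8c1048 rfl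
theorem s8u1049 : ∀ v, 1 ≤ v → v ≤ 301784 → fs8 v = true := slots_step fs8 301533 251 301784 s8u1048 s8c1049 rfl
theorem s8u1050 : ∀ v, 1 ≤ v → v ≤ 302042 → fs8 v = true := slots_step fs8 301784 258 302042 s8u1049 s8c1050 rfl
theorem s8u1051 : ∀ v, 1 ≤ v → v ≤ 302285 → fs8 v = true := slots_step fs8 302042 243 302285 s8u1050 s8c1051 rfl
theorem s8u1052 : ∀ v, 1 ≤ v → v ≤ 302528 → fs8 v = true := slots_step fs8 302285 243 302528 s8u1051 s8c1052 rfl
theorem s8u1053 : ∀ v, 1 ≤ v → v ≤ 302774 → fs8 v = true := slots_step fs8 302528 246 302774 s8u1052 s8c1053 rfl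
theorem s8u1054 : ∀ v, 1 ≤ v → v ≤ 303019 → fs8 v = true := slots_step fs8 302774 245 303019 s8u1053 s8c1054 rfl
theorem s8u1055 : ∀ v, 1 ≤ v → v ≤ 303261 → fs8 v = true := slots_step fs8 303019 242 303261 s8u1054 s8c1055 rfl
theorem s8u1056 : ∀ v, 1 ≤ v → v ≤ 303509 → fs8 v = true := slots_step fs8 303261 248 303509 s8u1055 s8c1056 rfl
theorem s8u1057 : ∀ v, 1 ≤ v → v ≤ 303777 → fs8 v = true := slots_step fs8 303509 268 303777 s8u1056 s8c1057 rfl
theorem s8u1058 : ∀ v, 1 ≤ v → v ≤ 304044 → fs8 v = true := slots_step fs8 303777 267 304044 s8u1057 s8c1058 rfl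
theorem s8u1059 : ∀ v, 1 ≤ v → v ≤ 304304 → fs8 v = true := slots_step fs8 304044 260 304304 s8u1058 s8c1059 rfl
theorem s8u1060 : ∀ v, 1 ≤ v → v ≤ 304569 → fs8 v = true := slots_step fs8 304304 265 304569 s8u1059 s8c1060 rfl
theorem s8u1061 : ∀ v, 1 ≤ v → v ≤ 304839 → fs8 v = true := slots_step fs8 304569 270 304839 s8u1060 s8c1061 rfl
theorem s8u1062 : ∀ v, 1 ≤ v → v ≤ 305106 → fs8 v = true := slots_step fs8 304839 267 305106 s8u1061 s8c1062 rfl
theorem s8u1063 : ∀ v, 1 ≤ v → v ≤ 305384 → fs8 v = true := slots_step fs8 305106 278 305384 s8u1062 s8c1063 rfl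
theorem s8u1064 : ∀ v, 1 ≤ v → v ≤ 305645 → fs8 v = true := slots_step fs8 305384 261 305645 s8u1063 s8c1064 rfl
theorem s8u1065 : ∀ v, 1 ≤ v → v ≤ 305921 → fs8 v = true := slots_step fs8 305645 276 305921 s8u1064 s8c1065 rfl
theorem s8u1066 : ∀ v, 1 ≤ v → v ≤ 306187 → fs8 v = true := slots_step fs8 305921 266 306187 s8u1065 s8c1066 rfl
theorem s8u1067 : ∀ v, 1 ≤ v → v ≤ 306429 → fs8 v = true := slots_step fs8 306187 242 306429 s8u1066 s8c1067 rfl
theorem s8u1068 : ∀ v, 1 ≤ v → v ≤ 306685 → fs8 v = true := slots_step fs8 306429 256 306685 s8u1067 s8c1068 rfl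
theorem s8u1069 : ∀ v, 1 ≤ v → v ≤ 306947 → fs8 v = true := slots_step fs8 306685 262 306947 s8u1068 s8c1069 rfl
theorem s8u1070 : ∀ v, 1 ≤ v → v ≤ 307247 → fs8 v = true := slots_step fs8 306947 300 307247 s8u1069 s8c1070 rfl
theorem s8u1071 : ∀ v, 1 ≤ v → v ≤ 307546 → fs8 v = true := slots_step fs8 307247 299 307546 s8u1070 s8c1071 rfl
theorem s8u1072 : ∀ v, 1 ≤ v → v ≤ 307816 → fs8 v = true := slots_step fs8 307546 270 307816 s8u1071 s8c1072 rfl
theorem s8u1073 : ∀ v, 1 ≤ v → v ≤ 308101 → fs8 v = true := slots_step fs8 307816 285 308101 s8u1072 s8c1073 rfl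
theorem s8u1074 : ∀ v, 1 ≤ v → v ≤ 308352 → fs8 v = true := slots_step fs8 308101 251 308352 s8u1073 s8c1074 rfl
theorem s8u1075 : ∀ v, 1 ≤ v → v ≤ 308604 → fs8 v = true := slots_step fs8 308352 252 308604 s8u1074 s8c1075 rfl
theorem s8u1076 : ∀ v, 1 ≤ v → v ≤ 308867 → fs8 v = true := slots_step fs8 308604 263 308867 s8u1075 s8c1076 rfl
theorem s8u1077 : ∀ v, 1 ≤ v → v ≤ 309080 → fs8 v = true := slots_step fs8 308867 213 309080 s8u1076 s8c1077 rfl
theorem s8u1078 : ∀ v, 1 ≤ v → v ≤ 309326 → fs8 v = true := slots_step fs8 309080 246 309326 s8u1077 s8c1078 rfl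
theorem s8u1079 : ∀ v, 1 ≤ v → v ≤ 309570 → fs8 v = true := slots_step fs8 309326 244 309570 s8u1078 s8c1079 rfl
theorem s8u1080 : ∀ v, 1 ≤ v → v ≤ 309810 → fs8 v = true := slots_step fs8 309570 240 309810 s8u1079 s8c1080 rfl
theorem s8u1081 : ∀ v, 1 ≤ v → v ≤ 310061 → fs8 v = true := slots_step fs8 309810 251 310061 s8u1080 s8c1081 rfl
theorem s8u1082 : ∀ v, 1 ≤ v → v ≤ 310317 → fs8 v = true := slots_step fs8 310061 256 310317 s8u1081 s8c1082 rfl
theorem s8u1083 : ∀ v, 1 ≤ v → v ≤ 310587 → fs8 v = true := slots_step fs8 310317 270 310587 s8u1082 s8c1083 rfl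
theorem s8u1084 : ∀ v, 1 ≤ v → v ≤ 310845 → fs8 v = true := slots_step fs8 310587 258 310845 s8u1083 s8c1084 rfl
theorem s8u1085 : ∀ v, 1 ≤ v → v ≤ 311100 → fs8 v = true := slots_step fs8 310845 255 311100 s8u1084 s8c1085 rfl
theorem s8u1086 : ∀ v, 1 ≤ v → v ≤ 311366 → fs8 v = true := slots_step fs8 311100 266 311366 s8u1085 s8c1086 rfl
theorem s8u1087 : ∀ v, 1 ≤ v → v ≤ 311629 → fs8 v = true := slots_step fs8 311366 263 311629 s8u1086 s8c1087 rfl
theorem s8u1088 : ∀ v, 1 ≤ v → v ≤ 311888 → fs8 v = true := slots_step fs8 311629 259 311888 s8u1087 s8c1088 rfl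
theorem s8u1089 : ∀ v, 1 ≤ v → v ≤ 312137 → fs8 v = true := slots_step fs8 311888 249 312137 s8u1088 s8c1089 rfl
theorem s8u1090 : ∀ v, 1 ≤ v → v ≤ 312381 → fs8 v = true := slots_step fs8 312137 244 312381 s8u1089 s8c1090 rfl
theorem s8u1091 : ∀ v, 1 ≤ v → v ≤ 312637 → fs8 v = true := slots_step fs8 312381 256 312637 s8u1090 s8c1091 rfl
theorem s8u1092 : ∀ v, 1 ≤ v → v ≤ 312886 → fs8 v = true := slots_step fs8 312637 249 312886 s8u1091 s8c1092 rfl
theorem s8u1093 : ∀ v, 1 ≤ v → v ≤ 313150 → fs8 v = true := slots_step fs8 312886 264 313150 s8u1092 s8c1093 rfl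
theorem s8u1094 : ∀ v, 1 ≤ v → v ≤ 313397 → fs8 v = true := slots_step fs8 313150 247 313397 s8u1093 s8c1094 rfl
theorem s8u1095 : ∀ v, 1 ≤ v → v ≤ 313670 → fs8 v = true := slots_step fs8 313397 273 313670 s8u1094 s8c1095 rfl
theorem s8u1096 : ∀ v, 1 ≤ v → v ≤ 313936 → fs8 v = true := slots_step fs8 313670 266 313936 s8u1095 s8c1096 rfl
theorem s8u1097 : ∀ v, 1 ≤ v → v ≤ 314214 → fs8 v = true := slots_step fs8 313936 278 314214 s8u1096 s8c1097 rfl
theorem s8u1098 : ∀ v, 1 ≤ v → v ≤ 314498 → fs8 v = true := slots_step fs8 314214 284 314498 s8u1097 s8c1098 rfl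
theorem s8u1099 : ∀ v, 1 ≤ v → v ≤ 314776 → fs8 v = true := slots_step fs8 314498 278 314776 s8u1098 s8c1099 rfl
theorem s8u1100 : ∀ v, 1 ≤ v → v ≤ 315060 → fs8 v = true := slots_step fs8 314776 284 315060 s8u1099 s8c1100 rfl
theorem s8u1101 : ∀ v, 1 ≤ v → v ≤ 315315 → fs8 v = true := slots_step fs8 315060 255 315315 s8u1100 s8c1101 rfl
theorem s8u1102 : ∀ v, 1 ≤ v → v ≤ 315597 → fs8 v = true := slots_step fs8 315315 282 315597 s8u1101 s8c1102 rfl
theorem s8u1103 : ∀ v, 1 ≤ v → v ≤ 315880 → fs8 v = true := slots_step fs8 315597 283 315880 s8u1102 s8c1103 rfl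
theorem s8u1104 : ∀ v, 1 ≤ v → v ≤ 316174 → fs8 v = true := slots_step fs8 315880 294 316174 s8u1103 s8c1104 rfl
theorem s8u1105 : ∀ v, 1 ≤ v → v ≤ 316476 → fs8 v = true := slots_step fs8 316174 302 316476 s8u1104 s8c1105 rfl
theorem s8u1106 : ∀ v, 1 ≤ v → v ≤ 316746 → fs8 v = true := slots_step fs8 316476 270 316746 s8u1105 s8c1106 rfl
theorem s8u1107 : ∀ v, 1 ≤ v → v ≤ 317033 → fs8 v = true := slots_step fs8 316746 287 317033 s8u1106 s8c1107 rfl
theorem s8u1108 : ∀ v, 1 ≤ v → v ≤ 317319 → fs8 v = true := slots_step fs8 317033 286 317319 s8u1107 s8c1108 rfl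
theorem s8u1109 : ∀ v, 1 ≤ v → v ≤ 317585 → fs8 v = true := slots_step fs8 317319 266 317585 s8u1108 s8c1109 rfl
theorem s8u1110 : ∀ v, 1 ≤ v → v ≤ 317842 → fs8 v = true := slots_step fs8 317585 257 317842 s8u1109 s8c1110 rfl
theorem s8u1111 : ∀ v, 1 ≤ v → v ≤ 318139 → fs8 v = true := slots_step fs8 317842 297 318139 s8u1110 s8c1111 rfl
theorem s8u1112 : ∀ v, 1 ≤ v → v ≤ 318463 → fs8 v = true := slots_step fs8 318139 324 318463 s8u1111 s8c1112 rfl
theorem s8u1113 : ∀ v, 1 ≤ v → v ≤ 318700 → fs8 v = true := slots_step fs8 318463 237 318700 s8u1112 s8c1113 rfl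
theorem s8u1114 : ∀ v, 1 ≤ v → v ≤ 318952 → fs8 v = true := slots_step fs8 318700 252 318952 s8u1113 s8c1114 rfl
theorem s8u1115 : ∀ v, 1 ≤ v → v ≤ 319220 → fs8 v = true := slots_step fs8 318952 268 319220 s8u1114 s8c1115 rfl
theorem s8u1116 : ∀ v, 1 ≤ v → v ≤ 319504 → fs8 v = true := slots_step fs8 319220 284 319504 s8u1115 s8c1116 rfl
theorem s8u1117 : ∀ v, 1 ≤ v → v ≤ 319740 → fs8 v = true := slots_step fs8 319504 236 319740 s8u1116 s8c1117 rfl
theorem s8u1118 : ∀ v, 1 ≤ v → v ≤ 319971 → fs8 v = true := slots_step fs8 319740 231 319971 s8u1117 s8c1118 rfl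
theorem s8u1119 : ∀ v, 1 ≤ v → v ≤ 320198 → fs8 v = true := slots_step fs8 319971 227 320198 s8u1118 s8c1119 rfl
theorem s8u1120 : ∀ v, 1 ≤ v → v ≤ 320436 → fs8 v = true := slots_step fs8 320198 238 320436 s8u1119 s8c1120 rfl
theorem s8u1121 : ∀ v, 1 ≤ v → v ≤ 320672 → fs8 v = true := slots_step fs8 320436 236 320672 s8u1120 s8c1121 rfl
theorem s8u1122 : ∀ v, 1 ≤ v → v ≤ 320909 → fs8 v = true := slots_step fs8 320672 237 320909 s8u1121 s8c1122 rfl
theorem s8u1123 : ∀ v, 1 ≤ v → v ≤ 321146 → fs8 v = true := slots_step fs8 320909 237 321146 s8u1122 s8c1123 rfl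
theorem s8u1124 : ∀ v, 1 ≤ v → v ≤ 321373 → fs8 v = true := slots_step fs8 321146 227 321373 s8u1123 s8c1124 rfl
theorem s8u1125 : ∀ v, 1 ≤ v → v ≤ 321607 → fs8 v = true := slots_step fs8 321373 234 321607 s8u1124 s8c1125 rfl
theorem s8u1126 : ∀ v, 1 ≤ v → v ≤ 321850 → fs8 v = true := slots_step fs8 321607 243 321850 s8u1125 s8c1126 rfl
theorem s8u1127 : ∀ v, 1 ≤ v → v ≤ 322083 → fs8 v = true := slots_step fs8 321850 233 322083 s8u1126 s8c1127 rfl
theorem s8u1128 : ∀ v, 1 ≤ v → v ≤ 322320 → fs8 v = true := slots_step fs8 322083 237 322320 s8u1127 s8c1128 rfl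
theorem s8u1129 : ∀ v, 1 ≤ v → v ≤ 322554 → fs8 v = true := slots_step fs8 322320 234 322554 s8u1128 s8c1129 rfl
theorem s8u1130 : ∀ v, 1 ≤ v → v ≤ 322790 → fs8 v = true := slots_step fs8 322554 236 322790 s8u1129 s8c1130 rfl
theorem s8u1131 : ∀ v, 1 ≤ v → v ≤ 323035 → fs8 v = true := slots_step fs8 322790 245 323035 s8u1130 s8c1131 rfl
theorem s8u1132 : ∀ v, 1 ≤ v → v ≤ 323279 → fs8 v = true := slots_step fs8 323035 244 323279 s8u1131 s8c1132 rfl
theorem s8u1133 : ∀ v, 1 ≤ v → v ≤ 323526 → fs8 v = true := slots_step fs8 323279 247 323526 s8u1132 s8c1133 rfl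
theorem s8u1134 : ∀ v, 1 ≤ v → v ≤ 323786 → fs8 v = true := slots_step fs8 323526 260 323786 s8u1133 s8c1134 rfl
theorem s8u1135 : ∀ v, 1 ≤ v → v ≤ 324031 → fs8 v = true := slots_step fs8 323786 245 324031 s8u1134 s8c1135 rfl
theorem s8u1136 : ∀ v, 1 ≤ v → v ≤ 324270 → fs8 v = true := slots_step fs8 324031 239 324270 s8u1135 s8c1136 rfl
theorem s8u1137 : ∀ v, 1 ≤ v → v ≤ 324516 → fs8 v = true := slots_step fs8 324270 246 324516 s8u1136 s8c1137 rfl
theorem s8u1138 : ∀ v, 1 ≤ v → v ≤ 324756 → fs8 v = true := slots_step fs8 324516 240 324756 s8u1137 s8c1138 rfl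
theorem s8u1139 : ∀ v, 1 ≤ v → v ≤ 325004 → fs8 v = true := slots_step fs8 324756 248 325004 s8u1138 s8c1139 rfl
theorem s8u1140 : ∀ v, 1 ≤ v → v ≤ 325267 → fs8 v = true := slots_step fs8 325004 263 325267 s8u1139 s8c1140 rfl
theorem s8u1141 : ∀ v, 1 ≤ v → v ≤ 325526 → fs8 v = true := slots_step fs8 325267 259 325526 s8u1140 s8c1141 rfl
theorem s8u1142 : ∀ v, 1 ≤ v → v ≤ 325785 → fs8 v = true := slots_step fs8 325526 259 325785 s8u1141 s8c1142 rfl
theorem s8u1143 : ∀ v, 1 ≤ v → v ≤ 326055 → fs8 v = true := slots_step fs8 325785 270 326055 s8u1142 s8c1143 rfl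
theorem s8u1144 : ∀ v, 1 ≤ v → v ≤ 326318 → fs8 v = true := slots_step fs8 326055 263 326318 s8u1143 s8c1144 rfl
theorem s8u1145 : ∀ v, 1 ≤ v → v ≤ 326572 → fs8 v = true := slots_step fs8 326318 254 326572 s8u1144 s8c1145 rfl
theorem s8u1146 : ∀ v, 1 ≤ v → v ≤ 326839 → fs8 v = true := slots_step fs8 326572 267 326839 s8u1145 s8c1146 rfl
theorem s8u1147 : ∀ v, 1 ≤ v → v ≤ 327088 → fs8 v = true := slots_step fs8 326839 249 327088 s8u1146 s8c1147 rfl
theorem s8u1148 : ∀ v, 1 ≤ v → v ≤ 327340 → fs8 v = true := slots_step fs8 327088 252 327340 s8u1147 s8c1148 rfl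
theorem s8u1149 : ∀ v, 1 ≤ v → v ≤ 327611 → fs8 v = true := slots_step fs8 327340 271 327611 s8u1148 s8c1149 rfl
theorem s8u1150 : ∀ v, 1 ≤ v → v ≤ 327922 → fs8 v = true := slots_step fs8 327611 311 327922 s8u1149 s8c1150 rfl
theorem s8u1151 : ∀ v, 1 ≤ v → v ≤ 328196 → fs8 v = true := slots_step fs8 327922 274 328196 s8u1150 s8c1151 rfl
theorem s8u1152 : ∀ v, 1 ≤ v → v ≤ 328467 → fs8 v = true := slots_step fs8 328196 271 328467 s8u1151 s8c1152 rfl
theorem s8u1153 : ∀ v, 1 ≤ v → v ≤ 328714 → fs8 v = true := slots_step fs8 328467 247 328714 s8u1152 s8c1153 rfl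
theorem s8u1154 : ∀ v, 1 ≤ v → v ≤ 328965 → fs8 v = true := slots_step fs8 328714 251 328965 s8u1153 s8c1154 rfl
theorem s8u1155 : ∀ v, 1 ≤ v → v ≤ 329215 → fs8 v = true := slots_step fs8 328965 250 329215 s8u1154 s8c1155 rfl
theorem s8u1156 : ∀ v, 1 ≤ v → v ≤ 329461 → fs8 v = true := slots_step fs8 329215 246 329461 s8u1155 s8c1156 rfl
theorem s8u1157 : ∀ v, 1 ≤ v → v ≤ 329705 → fs8 v = true := slots_step fs8 329461 244 329705 s8u1156 s8c1157 rfl
theorem s8u1158 : ∀ v, 1 ≤ v → v ≤ 329958 → fs8 v = true := slots_step fs8 329705 253 329958 s8u1157 s8c1158 rfl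
theorem s8u1159 : ∀ v, 1 ≤ v → v ≤ 330228 → fs8 v = true := slots_step fs8 329958 270 330228 s8u1158 s8c1159 rfl
theorem s8u1160 : ∀ v, 1 ≤ v → v ≤ 330475 → fs8 v = true := slots_step fs8 330228 247 330475 s8u1159 s8c1160 rfl
theorem s8u1161 : ∀ v, 1 ≤ v → v ≤ 330748 → fs8 v = true := slots_step fs8 330475 273 330748 s8u1160 s8c1161 rfl
theorem s8u1162 : ∀ v, 1 ≤ v → v ≤ 331014 → fs8 v = true := slots_step fs8 330748 266 331014 s8u1161 s8c1162 rfl
theorem s8u1163 : ∀ v, 1 ≤ v → v ≤ 331271 → fs8 v = true := slots_step fs8 331014 257 331271 s8u1162 s8c1163 rfl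
theorem s8u1164 : ∀ v, 1 ≤ v → v ≤ 331517 → fs8 v = true := slots_step fs8 331271 246 331517 s8u1163 s8c1164 rfl
theorem s8u1165 : ∀ v, 1 ≤ v → v ≤ 331771 → fs8 v = true := slots_step fs8 331517 254 331771 s8u1164 s8c1165 rfl
theorem s8u1166 : ∀ v, 1 ≤ v → v ≤ 332025 → fs8 v = true := slots_step fs8 331771 254 332025 s8u1165 s8c1166 rfl
theorem s8u1167 : ∀ v, 1 ≤ v → v ≤ 332276 → fs8 v = true := slots_step fs8 332025 251 332276 s8u1166 s8c1167 rfl
theorem s8u1168 : ∀ v, 1 ≤ v → v ≤ 332552 → fs8 v = true := slots_step fs8 332276 276 332552 s8u1167 s8c1168 rfl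
theorem s8u1169 : ∀ v, 1 ≤ v → v ≤ 332827 → fs8 v = true := slots_step fs8 332552 275 332827 s8u1168 s8c1169 rfl
theorem s8u1170 : ∀ v, 1 ≤ v → v ≤ 333100 → fs8 v = true := slots_step fs8 332827 273 333100 s8u1169 s8c1170 rfl
theorem s8u1171 : ∀ v, 1 ≤ v → v ≤ 333378 → fs8 v = true := slots_step fs8 333100 278 333378 s8u1170 s8c1171 rfl
theorem s8u1172 : ∀ v, 1 ≤ v → v ≤ 333637 → fs8 v = true := slots_step fs8 333378 259 333637 s8u1171 s8c1172 rfl
theorem s8u1173 : ∀ v, 1 ≤ v → v ≤ 333920 → fs8 v = true := slots_step fs8 333637 283 333920 s8u1172 s8c1173 rfl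
theorem s8u1174 : ∀ v, 1 ≤ v → v ≤ 334208 → fs8 v = true := slots_step fs8 333920 288 334208 s8u1173 s8c1174 rfl
theorem s8u1175 : ∀ v, 1 ≤ v → v ≤ 334494 → fs8 v = true := slots_step fs8 334208 286 334494 s8u1174 s8c1175 rfl
theorem s8u1176 : ∀ v, 1 ≤ v → v ≤ 334769 → fs8 v = true := slots_step fs8 334494 275 334769 s8u1175 s8c1176 rfl
theorem s8u1177 : ∀ v, 1 ≤ v → v ≤ 335026 → fs8 v = true := slots_step fs8 334769 257 335026 s8u1176 s8c1177 rfl
theorem s8u1178 : ∀ v, 1 ≤ v → v ≤ 335334 → fs8 v = true := slots_step fs8 335026 308 335334 s8u1177 s8c1178 rfl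
theorem s8u1179 : ∀ v, 1 ≤ v → v ≤ 335610 → fs8 v = true := slots_step fs8 335334 276 335610 s8u1178 s8c1179 rfl
theorem s8u1180 : ∀ v, 1 ≤ v → v ≤ 335857 → fs8 v = true := slots_step fs8 335610 247 335857 s8u1179 s8c1180 rfl
theorem s8u1181 : ∀ v, 1 ≤ v → v ≤ 336114 → fs8 v = true := slots_step fs8 335857 257 336114 s8u1180 s8c1181 rfl
theorem s8u1182 : ∀ v, 1 ≤ v → v ≤ 336401 → fs8 v = true := slots_step fs8 336114 287 336401 s8u1181 s8c1182 rfl
theorem s8u1183 : ∀ v, 1 ≤ v → v ≤ 336632 → fs8 v = true := slots_step fs8 336401 231 336632 s8u1182 s8c1183 rfl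
theorem s8u1184 : ∀ v, 1 ≤ v → v ≤ 336859 → fs8 v = true := slots_step fs8 336632 227 336859 s8u1183 s8c1184 rfl
theorem s8u1185 : ∀ v, 1 ≤ v → v ≤ 337085 → fs8 v = true := slots_step fs8 336859 226 337085 s8u1184 s8c1185 rfl
theorem s8u1186 : ∀ v, 1 ≤ v → v ≤ 337325 → fs8 v = true := slots_step fs8 337085 240 337325 s8u1185 s8c1186 rfl
theorem s8u1187 : ∀ v, 1 ≤ v → v ≤ 337559 → fs8 v = true := slots_step fs8 337325 234 337559 s8u1186 s8c1187 rfl
theorem s8u1188 : ∀ v, 1 ≤ v → v ≤ 337791 → fs8 v = true := slots_step fs8 337559 232 337791 s8u1187 s8c1188 rfl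
theorem s8u1189 : ∀ v, 1 ≤ v → v ≤ 338025 → fs8 v = true := slots_step fs8 337791 234 338025 s8u1188 s8c1189 rfl
theorem s8u1190 : ∀ v, 1 ≤ v → v ≤ 338267 → fs8 v = true := slots_step fs8 338025 242 338267 s8u1189 s8c1190 rfl
theorem s8u1191 : ∀ v, 1 ≤ v → v ≤ 338500 → fs8 v = true := slots_step fs8 338267 233 338500 s8u1190 s8c1191 rfl
theorem s8u1192 : ∀ v, 1 ≤ v → v ≤ 338735 → fs8 v = true := slots_step fs8 338500 235 338735 s8u1191 s8c1192 rfl
theorem s8u1193 : ∀ v, 1 ≤ v → v ≤ 338978 → fs8 v = true := slots_step fs8 338735 243 338978 s8u1192 s8c1193 rfl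
theorem s8u1194 : ∀ v, 1 ≤ v → v ≤ 339218 → fs8 v = true := slots_step fs8 338978 240 339218 s8u1193 s8c1194 rfl
theorem s8u1195 : ∀ v, 1 ≤ v → v ≤ 339482 → fs8 v = true := slots_step fs8 339218 264 339482 s8u1194 s8c1195 rfl
theorem s8u1196 : ∀ v, 1 ≤ v → v ≤ 339726 → fs8 v = true := slots_step fs8 339482 244 339726 s8u1195 s8c1196 rfl
theorem s8u1197 : ∀ v, 1 ≤ v → v ≤ 339968 → fs8 v = true := slots_step fs8 339726 242 339968 s8u1196 s8c1197 rfl
theorem s8u1198 : ∀ v, 1 ≤ v → v ≤ 340213 → fs8 v = true := slots_step fs8 339968 245 340213 s8u1197 s8c1198 rfl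
theorem s8u1199 : ∀ v, 1 ≤ v → v ≤ 340461 → fs8 v = true := slots_step fs8 340213 248 340461 s8u1198 s8c1199 rfl
theorem s8u1200 : ∀ v, 1 ≤ v → v ≤ 340717 → fs8 v = true := slots_step fs8 340461 256 340717 s8u1199 s8c1200 rfl
theorem s8u1201 : ∀ v, 1 ≤ v → v ≤ 340970 → fs8 v = true := slots_step fs8 340717 253 340970 s8u1200 s8c1201 rfl
theorem s8u1202 : ∀ v, 1 ≤ v → v ≤ 341231 → fs8 v = true := slots_step fs8 340970 261 341231 s8u1201 s8c1202 rfl
theorem s8u1203 : ∀ v, 1 ≤ v → v ≤ 341482 → fs8 v = true := slots_step fs8 341231 251 341482 s8u1202 s8c1203 rfl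
theorem s8u1204 : ∀ v, 1 ≤ v → v ≤ 341734 → fs8 v = true := slots_step fs8 341482 252 341734 s8u1203 s8c1204 rfl
theorem s8u1205 : ∀ v, 1 ≤ v → v ≤ 342043 → fs8 v = true := slots_step fs8 341734 309 342043 s8u1204 s8c1205 rfl
theorem s8u1206 : ∀ v, 1 ≤ v → v ≤ 342318 → fs8 v = true := slots_step fs8 342043 275 342318 s8u1205 s8c1206 rfl
theorem s8u1207 : ∀ v, 1 ≤ v → v ≤ 342577 → fs8 v = true := slots_step fs8 342318 259 342577 s8u1206 s8c1207 rfl
theorem s8u1208 : ∀ v, 1 ≤ v → v ≤ 342826 → fs8 v = true := slots_step fs8 342577 249 342826 s8u1207 s8c1208 rfl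
theorem s8u1209 : ∀ v, 1 ≤ v → v ≤ 343071 → fs8 v = true := slots_step fs8 342826 245 343071 s8u1208 s8c1209 rfl
theorem s8u1210 : ∀ v, 1 ≤ v → v ≤ 343316 → fs8 v = true := slots_step fs8 343071 245 343316 s8u1209 s8c1210 rfl
theorem s8u1211 : ∀ v, 1 ≤ v → v ≤ 343579 → fs8 v = true := slots_step fs8 343316 263 343579 s8u1210 s8c1211 rfl
theorem s8u1212 : ∀ v, 1 ≤ v → v ≤ 343828 → fs8 v = true := slots_step fs8 343579 249 343828 s8u1211 s8c1212 rfl
theorem s8u1213 : ∀ v, 1 ≤ v → v ≤ 344103 → fs8 v = true := slots_step fs8 343828 275 344103 s8u1212 s8c1213 rfl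
theorem s8u1214 : ∀ v, 1 ≤ v → v ≤ 344354 → fs8 v = true := slots_step fs8 344103 251 344354 s8u1213 s8c1214 rfl
theorem s8u1215 : ∀ v, 1 ≤ v → v ≤ 344605 → fs8 v = true := slots_step fs8 344354 251 344605 s8u1214 s8c1215 rfl
theorem s8u1216 : ∀ v, 1 ≤ v → v ≤ 344788 → fs8 v = true := slots_step fs8 344605 183 344788 s8u1215 s8c1216 rfl
theorem s8u1217 : ∀ v, 1 ≤ v → v ≤ 345054 → fs8 v = true := slots_step fs8 344788 266 345054 s8u1216 s8c1217 rfl
theorem s8u1218 : ∀ v, 1 ≤ v → v ≤ 345320 → fs8 v = true := slots_step fs8 345054 266 345320 s8u1217 s8c1218 rfl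
theorem s8u1219 : ∀ v, 1 ≤ v → v ≤ 345590 → fs8 v = true := slots_step fs8 345320 270 345590 s8u1218 s8c1219 rfl
theorem s8u1220 : ∀ v, 1 ≤ v → v ≤ 345884 → fs8 v = true := slots_step fs8 345590 294 345884 s8u1219 s8c1220 rfl
theorem s8u1221 : ∀ v, 1 ≤ v → v ≤ 346140 → fs8 v = true := slots_step fs8 345884 256 346140 s8u1220 s8c1221 rfl
theorem s8u1222 : ∀ v, 1 ≤ v → v ≤ 346441 → fs8 v = true := slots_step fs8 346140 301 346441 s8u1221 s8c1222 rfl
theorem s8u1223 : ∀ v, 1 ≤ v → v ≤ 346644 → fs8 v = true := slots_step fs8 346441 203 346644 s8u1222 s8c1223 rfl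
theorem s8u1224 : ∀ v, 1 ≤ v → v ≤ 346898 → fs8 v = true := slots_step fs8 346644 254 346898 s8u1223 s8c1224 rfl
theorem s8u1225 : ∀ v, 1 ≤ v → v ≤ 347172 → fs8 v = true := slots_step fs8 346898 274 347172 s8u1224 s8c1225 rfl
theorem s8u1226 : ∀ v, 1 ≤ v → v ≤ 347409 → fs8 v = true := slots_step fs8 347172 237 347409 s8u1225 s8c1226 rfl
theorem s8u1227 : ∀ v, 1 ≤ v → v ≤ 347634 → fs8 v = true := slots_step fs8 347409 225 347634 s8u1226 s8c1227 rfl
theorem s8u1228 : ∀ v, 1 ≤ v → v ≤ 347870 → fs8 v = true := slots_step fs8 347634 236 347870 s8u1227 s8c1228 rfl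
theorem s8u1229 : ∀ v, 1 ≤ v → v ≤ 348098 → fs8 v = true := slots_step fs8 347870 228 348098 s8u1228 s8c1229 rfl
theorem s8u1230 : ∀ v, 1 ≤ v → v ≤ 348333 → fs8 v = true := slots_step fs8 348098 235 348333 s8u1229 s8c1230 rfl
theorem s8u1231 : ∀ v, 1 ≤ v → v ≤ 348568 → fs8 v = true := slots_step fs8 348333 235 348568 s8u1230 s8c1231 rfl
theorem s8u1232 : ∀ v, 1 ≤ v → v ≤ 348803 → fs8 v = true := slots_step fs8 348568 235 348803 s8u1231 s8c1232 rfl
theorem s8u1233 : ∀ v, 1 ≤ v → v ≤ 349034 → fs8 v = true := slots_step fs8 348803 231 349034 s8u1232 s8c1233 rfl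
theorem s8u1234 : ∀ v, 1 ≤ v → v ≤ 349237 → fs8 v = true := slots_step fs8 349034 203 349237 s8u1233 s8c1234 rfl
theorem s8u1235 : ∀ v, 1 ≤ v → v ≤ 349448 → fs8 v = true := slots_step fs8 349237 211 349448 s8u1234 s8c1235 rfl
theorem s8u1236 : ∀ v, 1 ≤ v → v ≤ 349691 → fs8 v = true := slots_step fs8 349448 243 349691 s8u1235 s8c1236 rfl
theorem s8u1237 : ∀ v, 1 ≤ v → v ≤ 349947 → fs8 v = true := slots_step fs8 349691 256 349947 s8u1236 s8c1237 rfl
theorem s8u1238 : ∀ v, 1 ≤ v → v ≤ 350191 → fs8 v = true := slots_step fs8 349947 244 350191 s8u1237 s8c1238 rfl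
theorem s8u1239 : ∀ v, 1 ≤ v → v ≤ 350385 → fs8 v = true := slots_step fs8 350191 194 350385 s8u1238 s8c1239 rfl
theorem s8u1240 : ∀ v, 1 ≤ v → v ≤ 350674 → fs8 v = true := slots_step fs8 350385 289 350674 s8u1239 s8c1240 rfl
theorem s8u1241 : ∀ v, 1 ≤ v → v ≤ 350925 → fs8 v = true := slots_step fs8 350674 251 350925 s8u1240 s8c1241 rfl
theorem s8u1242 : ∀ v, 1 ≤ v → v ≤ 351135 → fs8 v = true := slots_step fs8 350925 210 351135 s8u1241 s8c1242 rfl
theorem s8u1243 : ∀ v, 1 ≤ v → v ≤ 351387 → fs8 v = true := slots_step fs8 351135 252 351387 s8u1242 s8c1243 rfl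
theorem s8u1244 : ∀ v, 1 ≤ v → v ≤ 351645 → fs8 v = true := slots_step fs8 351387 258 351645 s8u1243 s8c1244 rfl
theorem s8u1245 : ∀ v, 1 ≤ v → v ≤ 351855 → fs8 v = true := slots_step fs8 351645 210 351855 s8u1244 s8c1245 rfl
theorem s8u1246 : ∀ v, 1 ≤ v → v ≤ 352126 → fs8 v = true := slots_step fs8 351855 271 352126 s8u1245 s8c1246 rfl
theorem s8u1247 : ∀ v, 1 ≤ v → v ≤ 352394 → fs8 v = true := slots_step fs8 352126 268 352394 s8u1246 s8c1247 rfl
theorem s8u1248 : ∀ v, 1 ≤ v → v ≤ 352648 → fs8 v = true := slots_step fs8 352394 254 352648 s8u1247 s8c1248 rfl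
theorem s8u1249 : ∀ v, 1 ≤ v → v ≤ 352859 → fs8 v = true := slots_step fs8 352648 211 352859 s8u1248 s8c1249 rfl
theorem s8u1250 : ∀ v, 1 ≤ v → v ≤ 353125 → fs8 v = true := slots_step fs8 352859 266 353125 s8u1249 s8c1250 rfl
theorem s8u1251 : ∀ v, 1 ≤ v → v ≤ 353358 → fs8 v = true := slots_step fs8 353125 233 353358 s8u1250 s8c1251 rfl
theorem s8u1252 : ∀ v, 1 ≤ v → v ≤ 353583 → fs8 v = true := slots_step fs8 353358 225 353583 s8u1251 s8c1252 rfl
theorem s8u1253 : ∀ v, 1 ≤ v → v ≤ 353743 → fs8 v = true := slots_step fs8 353583 160 353743 s8u1252 s8c1253 rfl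
theorem s8u1254 : ∀ v, 1 ≤ v → v ≤ 353977 → fs8 v = true := slots_step fs8 353743 234 353977 s8u1253 s8c1254 rfl
theorem s8u1255 : ∀ v, 1 ≤ v → v ≤ 354176 → fs8 v = true := slots_step fs8 353977 199 354176 s8u1254 s8c1255 rfl
theorem s8u1256 : ∀ v, 1 ≤ v → v ≤ 354329 → fs8 v = true := slots_step fs8 354176 153 354329 s8u1255 s8c1256 rfl
theorem s8u1257 : ∀ v, 1 ≤ v → v ≤ 354540 → fs8 v = true := slots_step fs8 354329 211 354540 s8u1256 s8c1257 rfl
theorem s8u1258 : ∀ v, 1 ≤ v → v ≤ 354797 → fs8 v = true := slots_step fs8 354540 257 354797 s8u1257 s8c1258 rfl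
theorem s8u1259 : ∀ v, 1 ≤ v → v ≤ 355062 → fs8 v = true := slots_step fs8 354797 265 355062 s8u1258 s8c1259 rfl
theorem s8u1260 : ∀ v, 1 ≤ v → v ≤ 355304 → fs8 v = true := slots_step fs8 355062 242 355304 s8u1259 s8c1260 rfl
theorem s8u1261 : ∀ v, 1 ≤ v → v ≤ 355523 → fs8 v = true := slots_step fs8 355304 219 355523 s8u1260 s8c1261 rfl
theorem s8u1262 : ∀ v, 1 ≤ v → v ≤ 355686 → fs8 v = true := slots_step fs8 355523 163 355686 s8u1261 s8c1262 rfl
theorem s8u1263 : ∀ v, 1 ≤ v → v ≤ 355951 → fs8 v = true := slots_step fs8 355686 265 355951 s8u1262 s8c1263 rfl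
theorem s8u1264 : ∀ v, 1 ≤ v → v ≤ 356153 → fs8 v = true := slots_step fs8 355951 202 356153 s8u1263 s8c1264 rfl
theorem s8u1265 : ∀ v, 1 ≤ v → v ≤ 356314 → fs8 v = true := slots_step fs8 356153 161 356314 s8u1264 s8c1265 rfl
theorem s8u1266 : ∀ v, 1 ≤ v → v ≤ 356557 → fs8 v = true := slots_step fs8 356314 243 356557 s8u1265 s8c1266 rfl
theorem s8u1267 : ∀ v, 1 ≤ v → v ≤ 356750 → fs8 v = true := slots_step fs8 356557 193 356750 s8u1266 s8c1267 rfl
theorem s8u1268 : ∀ v, 1 ≤ v → v ≤ 356922 → fs8 v = true := slots_step fs8 356750 172 356922 s8u1267 s8c1268 rfl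
theorem s8u1269 : ∀ v, 1 ≤ v → v ≤ 357172 → fs8 v = true := slots_step fs8 356922 250 357172 s8u1268 s8c1269 rfl
theorem s8u1270 : ∀ v, 1 ≤ v → v ≤ 357344 → fs8 v = true := slots_step fs8 357172 172 357344 s8u1269 s8c1270 rfl
theorem s8u1271 : ∀ v, 1 ≤ v → v ≤ 357465 → fs8 v = true := slots_step fs8 357344 121 357465 s8u1270 s8c1271 rfl
theorem s9u0 : ∀ v, 1 ≤ v → v ≤ 249 → fs9 v = true := slots_step fs9 0 249 249 (slots_zero fs9) s9c0 rfl
theorem s9u1 : ∀ v, 1 ≤ v → v ≤ 531 → fs9 v = true := slots_step fs9 249 282 531 s9u0 s9c1 rfl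
theorem s9u2 : ∀ v, 1 ≤ v → v ≤ 796 → fs9 v = true := slots_step fs9 531 265 796 s9u1 s9c2 rfl
theorem s9u3 : ∀ v, 1 ≤ v → v ≤ 1063 → fs9 v = true := slots_step fs9 796 267 1063 s9u2 s9c3 rfl
theorem s9u4 : ∀ v, 1 ≤ v → v ≤ 1323 → fs9 v = true := slots_step fs9 1063 260 1323 s9u3 s9c4 rfl
theorem s9u5 : ∀ v, 1 ≤ v → v ≤ 1593 → fs9 v = true := slots_step fs9 1323 270 1593 s9u4 s9c5 rfl
theorem s9u6 : ∀ v, 1 ≤ v → v ≤ 1875 → fs9 v = true := slots_step fs9 1593 282 1875 s9u5 s9c6 rfl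
theorem s9u7 : ∀ v, 1 ≤ v → v ≤ 2141 → fs9 v = true := slots_step fs9 1875 266 2141 s9u6 s9c7 rfl
theorem s9u8 : ∀ v, 1 ≤ v → v ≤ 2409 → fs9 v = true := slots_step fs9 2141 268 2409 s9u7 s9c8 rfl
theorem s9u9 : ∀ v, 1 ≤ v → v ≤ 2708 → fs9 v = true := slots_step fs9 2409 299 2708 s9u8 s9c9 rfl
theorem s9u10 : ∀ v, 1 ≤ v → v ≤ 2964 → fs9 v = true := slots_step fs9 2708 256 2964 s9u9 s9c10 rfl
theorem s9u11 : ∀ v, 1 ≤ v → v ≤ 3250 → fs9 v = true := slots_step fs9 2964 286 3250 s9u10 s9c11 rfl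
theorem s9u12 : ∀ v, 1 ≤ v → v ≤ 3554 → fs9 v = true := slots_step fs9 3250 304 3554 s9u11 s9c12 rfl
theorem s9u13 : ∀ v, 1 ≤ v → v ≤ 3820 → fs9 v = true := slots_step fs9 3554 266 3820 s9u12 s9c13 rfl
theorem s9u14 : ∀ v, 1 ≤ v → v ≤ 4091 → fs9 v = true := slots_step fs9 3820 271 4091 s9u13 s9c14 rfl
theorem s9u15 : ∀ v, 1 ≤ v → v ≤ 4405 → fs9 v = true := slots_step fs9 4091 314 4405 s9u14 s9c15 rfl
theorem s9u16 : ∀ v, 1 ≤ v → v ≤ 4665 → fs9 v = true := slots_step fs9 4405 260 4665 s9u15 s9c16 rfl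
theorem s9u17 : ∀ v, 1 ≤ v → v ≤ 5008 → fs9 v = true := slots_step fs9 4665 343 5008 s9u16 s9c17 rfl
theorem s9u18 : ∀ v, 1 ≤ v → v ≤ 5274 → fs9 v = true := slots_step fs9 5008 266 5274 s9u17 s9c18 rfl
theorem s9u19 : ∀ v, 1 ≤ v → v ≤ 5569 → fs9 v = true := slots_step fs9 5274 295 5569 s9u18 s9c19 rfl
theorem s9u20 : ∀ v, 1 ≤ v → v ≤ 5865 → fs9 v = true := slots_step fs9 5569 296 5865 s9u19 s9c20 rfl
theorem s9u21 : ∀ v, 1 ≤ v → v ≤ 6169 → fs9 v = true := slots_step fs9 5865 304 6169 s9u20 s9c21 rfl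
theorem s9u22 : ∀ v, 1 ≤ v → v ≤ 6422 → fs9 v = true := slots_step fs9 6169 253 6422 s9u21 s9c22 rfl
theorem s9u23 : ∀ v, 1 ≤ v → v ≤ 6762 → fs9 v = true := slots_step fs9 6422 340 6762 s9u22 s9c23 rfl
theorem s9u24 : ∀ v, 1 ≤ v → v ≤ 7113 → fs9 v = true := slots_step fs9 6762 351 7113 s9u23 s9c24 rfl
theorem s9u25 : ∀ v, 1 ≤ v → v ≤ 7376 → fs9 v = true := slots_step fs9 7113 263 7376 s9u24 s9c25 rfl
theorem s9u26 : ∀ v, 1 ≤ v → v ≤ 7686 → fs9 v = true := slots_step fs9 7376 310 7686 s9u25 s9c26 rfl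
theorem s9u27 : ∀ v, 1 ≤ v → v ≤ 7953 → fs9 v = true := slots_step fs9 7686 267 7953 s9u26 s9c27 rfl
theorem s9u28 : ∀ v, 1 ≤ v → v ≤ 8322 → fs9 v = true := slots_step fs9 7953 369 8322 s9u27 s9c28 rfl
theorem s9u29 : ∀ v, 1 ≤ v → v ≤ 8581 → fs9 v = true := slots_step fs9 8322 259 8581 s9u28 s9c29 rfl
theorem s9u30 : ∀ v, 1 ≤ v → v ≤ 8837 → fs9 v = true := slots_step fs9 8581 256 8837 s9u29 s9c30 rfl
theorem s9u31 : ∀ v, 1 ≤ v → v ≤ 9180 → fs9 v = true := slots_step fs9 8837 343 9180 s9u30 s9c31 rfl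
theorem s9u32 : ∀ v, 1 ≤ v → v ≤ 9588 → fs9 v = true := slots_step fs9 9180 408 9588 s9u31 s9c32 rfl
theorem s9u33 : ∀ v, 1 ≤ v → v ≤ 9885 → fs9 v = true := slots_step fs9 9588 297 9885 s9u32 s9c33 rfl
theorem s9u34 : ∀ v, 1 ≤ v → v ≤ 10161 → fs9 v = true := slots_step fs9 9885 276 10161 s9u33 s9c34 rfl
theorem s9u35 : ∀ v, 1 ≤ v → v ≤ 10479 → fs9 v = true := slots_step fs9 10161 318 10479 s9u34 s9c35 rfl
theorem s9u36 : ∀ v, 1 ≤ v → v ≤ 10726 → fs9 v = true := slots_step fs9 10479 247 10726 s9u35 s9c36 rfl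
theorem s9u37 : ∀ v, 1 ≤ v → v ≤ 11025 → fs9 v = true := slots_step fs9 10726 299 11025 s9u36 s9c37 rfl
theorem s9u38 : ∀ v, 1 ≤ v → v ≤ 11319 → fs9 v = true := slots_step fs9 11025 294 11319 s9u37 s9c38 rfl
theorem s9u39 : ∀ v, 1 ≤ v → v ≤ 11570 → fs9 v = true := slots_step fs9 11319 251 11570 s9u38 s9c39 rfl
theorem s9u40 : ∀ v, 1 ≤ v → v ≤ 11830 → fs9 v = true := slots_step fs9 11570 260 11830 s9u39 s9c40 rfl
theorem s9u41 : ∀ v, 1 ≤ v → v ≤ 12131 → fs9 v = true := slots_step fs9 11830 301 12131 s9u40 s9c41 rfl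
theorem s9u42 : ∀ v, 1 ≤ v → v ≤ 12476 → fs9 v = true := slots_step fs9 12131 345 12476 s9u41 s9c42 rfl
theorem s9u43 : ∀ v, 1 ≤ v → v ≤ 12776 → fs9 v = true := slots_step fs9 12476 300 12776 s9u42 s9c43 rfl
theorem s9u44 : ∀ v, 1 ≤ v → v ≤ 13029 → fs9 v = true := slots_step fs9 12776 253 13029 s9u43 s9c44 rfl
theorem s9u45 : ∀ v, 1 ≤ v → v ≤ 13365 → fs9 v = true := slots_step fs9 13029 336 13365 s9u44 s9c45 rfl
theorem s9u46 : ∀ v, 1 ≤ v → v ≤ 13611 → fs9 v = true := slots_step fs9 13365 246 13611 s9u45 s9c46 rfl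
theorem s9u47 : ∀ v, 1 ≤ v → v ≤ 13871 → fs9 v = true := slots_step fs9 13611 260 13871 s9u46 s9c47 rfl
theorem s9u48 : ∀ v, 1 ≤ v → v ≤ 14162 → fs9 v = true := slots_step fs9 13871 291 14162 s9u47 s9c48 rfl
theorem s9u49 : ∀ v, 1 ≤ v → v ≤ 14510 → fs9 v = true := slots_step fs9 14162 348 14510 s9u48 s9c49 rfl
theorem s9u50 : ∀ v, 1 ≤ v → v ≤ 14758 → fs9 v = true := slots_step fs9 14510 248 14758 s9u49 s9c50 rfl
theorem s9u51 : ∀ v, 1 ≤ v → v ≤ 15016 → fs9 v = true := slots_step fs9 14758 258 15016 s9u50 s9c51 rfl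
theorem s9u52 : ∀ v, 1 ≤ v → v ≤ 15283 → fs9 v = true := slots_step fs9 15016 267 15283 s9u51 s9c52 rfl
theorem s9u53 : ∀ v, 1 ≤ v → v ≤ 15552 → fs9 v = true := slots_step fs9 15283 269 15552 s9u52 s9c53 rfl
theorem s9u54 : ∀ v, 1 ≤ v → v ≤ 15883 → fs9 v = true := slots_step fs9 15552 331 15883 s9u53 s9c54 rfl
theorem s9u55 : ∀ v, 1 ≤ v → v ≤ 16239 → fs9 v = true := slots_step fs9 15883 356 16239 s9u54 s9c55 rfl
theorem s9u56 : ∀ v, 1 ≤ v → v ≤ 16582 → fs9 v = true := slots_step fs9 16239 343 16582 s9u55 s9c56 rfl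
theorem s9u57 : ∀ v, 1 ≤ v → v ≤ 16833 → fs9 v = true := slots_step fs9 16582 251 16833 s9u56 s9c57 rfl
theorem s9u58 : ∀ v, 1 ≤ v → v ≤ 17134 → fs9 v = true := slots_step fs9 16833 301 17134 s9u57 s9c58 rfl
theorem s9u59 : ∀ v, 1 ≤ v → v ≤ 17484 → fs9 v = true := slots_step fs9 17134 350 17484 s9u58 s9c59 rfl
theorem s9u60 : ∀ v, 1 ≤ v → v ≤ 17729 → fs9 v = true := slots_step fs9 17484 245 17729 s9u59 s9c60 rfl
theorem s9u61 : ∀ v, 1 ≤ v → v ≤ 17980 → fs9 v = true := slots_step fs9 17729 251 17980 s9u60 s9c61 rfl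
theorem s9u62 : ∀ v, 1 ≤ v → v ≤ 18266 → fs9 v = true := slots_step fs9 17980 286 18266 s9u61 s9c62 rfl
theorem s9u63 : ∀ v, 1 ≤ v → v ≤ 18575 → fs9 v = true := slots_step fs9 18266 309 18575 s9u62 s9c63 rfl
theorem s9u64 : ∀ v, 1 ≤ v → v ≤ 18926 → fs9 v = true := slots_step fs9 18575 351 18926 s9u63 s9c64 rfl
theorem s9u65 : ∀ v, 1 ≤ v → v ≤ 19212 → fs9 v = true := slots_step fs9 18926 286 19212 s9u64 s9c65 rfl
theorem s9u66 : ∀ v, 1 ≤ v → v ≤ 19473 → fs9 v = true := slots_step fs9 19212 261 19473 s9u65 s9c66 rfl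
theorem s9u67 : ∀ v, 1 ≤ v → v ≤ 19736 → fs9 v = true := slots_step fs9 19473 263 19736 s9u66 s9c67 rfl
theorem s9u68 : ∀ v, 1 ≤ v → v ≤ 20012 → fs9 v = true := slots_step fs9 19736 276 20012 s9u67 s9c68 rfl
theorem s9u69 : ∀ v, 1 ≤ v → v ≤ 20288 → fs9 v = true := slots_step fs9 20012 276 20288 s9u68 s9c69 rfl
theorem s9u70 : ∀ v, 1 ≤ v → v ≤ 20589 → fs9 v = true := slots_step fs9 20288 301 20589 s9u69 s9c70 rfl
theorem s9u71 : ∀ v, 1 ≤ v → v ≤ 20919 → fs9 v = true := slots_step fs9 20589 330 20919 s9u70 s9c71 rfl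
theorem s9u72 : ∀ v, 1 ≤ v → v ≤ 21278 → fs9 v = true := slots_step fs9 20919 359 21278 s9u71 s9c72 rfl
theorem s9u73 : ∀ v, 1 ≤ v → v ≤ 21639 → fs9 v = true := slots_step fs9 21278 361 21639 s9u72 s9c73 rfl
theorem s9u74 : ∀ v, 1 ≤ v → v ≤ 21974 → fs9 v = true := slots_step fs9 21639 335 21974 s9u73 s9c74 rfl
theorem s9u75 : ∀ v, 1 ≤ v → v ≤ 22224 → fs9 v = true := slots_step fs9 21974 250 22224 s9u74 s9c75 rfl
theorem s9u76 : ∀ v, 1 ≤ v → v ≤ 22535 → fs9 v = true := slots_step fs9 22224 311 22535 s9u75 s9c76 rfl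
theorem s9u77 : ∀ v, 1 ≤ v → v ≤ 22891 → fs9 v = true := slots_step fs9 22535 356 22891 s9u76 s9c77 rfl
theorem s9u78 : ∀ v, 1 ≤ v → v ≤ 23206 → fs9 v = true := slots_step fs9 22891 315 23206 s9u77 s9c78 rfl
theorem s9u79 : ∀ v, 1 ≤ v → v ≤ 23468 → fs9 v = true := slots_step fs9 23206 262 23468 s9u78 s9c79 rfl
theorem s9u80 : ∀ v, 1 ≤ v → v ≤ 23724 → fs9 v = true := slots_step fs9 23468 256 23724 s9u79 s9c80 rfl
theorem s9u81 : ∀ v, 1 ≤ v → v ≤ 24014 → fs9 v = true := slots_step fs9 23724 290 24014 s9u80 s9c81 rfl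
theorem s9u82 : ∀ v, 1 ≤ v → v ≤ 24301 → fs9 v = true := slots_step fs9 24014 287 24301 s9u81 s9c82 rfl
theorem s9u83 : ∀ v, 1 ≤ v → v ≤ 24625 → fs9 v = true := slots_step fs9 24301 324 24625 s9u82 s9c83 rfl
theorem s9u84 : ∀ v, 1 ≤ v → v ≤ 24975 → fs9 v = true := slots_step fs9 24625 350 24975 s9u83 s9c84 rfl
theorem s9u85 : ∀ v, 1 ≤ v → v ≤ 25326 → fs9 v = true := slots_step fs9 24975 351 25326 s9u84 s9c85 rfl
theorem s9u86 : ∀ v, 1 ≤ v → v ≤ 25581 → fs9 v = true := slots_step fs9 25326 255 25581 s9u85 s9c86 rfl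
theorem s9u87 : ∀ v, 1 ≤ v → v ≤ 25848 → fs9 v = true := slots_step fs9 25581 267 25848 s9u86 s9c87 rfl
theorem s9u88 : ∀ v, 1 ≤ v → v ≤ 26112 → fs9 v = true := slots_step fs9 25848 264 26112 s9u87 s9c88 rfl
theorem s9u89 : ∀ v, 1 ≤ v → v ≤ 26375 → fs9 v = true := slots_step fs9 26112 263 26375 s9u88 s9c89 rfl
theorem s9u90 : ∀ v, 1 ≤ v → v ≤ 26668 → fs9 v = true := slots_step fs9 26375 293 26668 s9u89 s9c90 rfl
theorem s9u91 : ∀ v, 1 ≤ v → v ≤ 26951 → fs9 v = true := slots_step fs9 26668 283 26951 s9u90 s9c91 rfl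
theorem s9u92 : ∀ v, 1 ≤ v → v ≤ 27241 → fs9 v = true := slots_step fs9 26951 290 27241 s9u91 s9c92 rfl
theorem s9u93 : ∀ v, 1 ≤ v → v ≤ 27597 → fs9 v = true := slots_step fs9 27241 356 27597 s9u92 s9c93 rfl
theorem s9u94 : ∀ v, 1 ≤ v → v ≤ 27925 → fs9 v = true := slots_step fs9 27597 328 27925 s9u93 s9c94 rfl
theorem s9u95 : ∀ v, 1 ≤ v → v ≤ 28284 → fs9 v = true := slots_step fs9 27925 359 28284 s9u94 s9c95 rfl
theorem s9u96 : ∀ v, 1 ≤ v → v ≤ 28669 → fs9 v = true := slots_step fs9 28284 385 28669 s9u95 s9c96 rfl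
theorem s9u97 : ∀ v, 1 ≤ v → v ≤ 29061 → fs9 v = true := slots_step fs9 28669 392 29061 s9u96 s9c97 rfl
theorem s9u98 : ∀ v, 1 ≤ v → v ≤ 29362 → fs9 v = true := slots_step fs9 29061 301 29362 s9u97 s9c98 rfl
theorem s9u99 : ∀ v, 1 ≤ v → v ≤ 29624 → fs9 v = true := slots_step fs9 29362 262 29624 s9u98 s9c99 rfl
theorem s9u100 : ∀ v, 1 ≤ v → v ≤ 29925 → fs9 v = true := slots_step fs9 29624 301 29925 s9u99 s9c100 rfl
theorem s9u101 : ∀ v, 1 ≤ v → v ≤ 30275 → fs9 v = true := slots_step fs9 29925 350 30275 s9u100 s9c101 rfl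
theorem s9u102 : ∀ v, 1 ≤ v → v ≤ 30654 → fs9 v = true := slots_step fs9 30275 379 30654 s9u101 s9c102 rfl
theorem s9u103 : ∀ v, 1 ≤ v → v ≤ 30976 → fs9 v = true := slots_step fs9 30654 322 30976 s9u102 s9c103 rfl
theorem s9u104 : ∀ v, 1 ≤ v → v ≤ 31222 → fs9 v = true := slots_step fs9 30976 246 31222 s9u103 s9c104 rfl
theorem s9u105 : ∀ v, 1 ≤ v → v ≤ 31500 → fs9 v = true := slots_step fs9 31222 278 31500 s9u104 s9c105 rfl
theorem s9u106 : ∀ v, 1 ≤ v → v ≤ 31754 → fs9 v = true := slots_step fs9 31500 254 31754 s9u105 s9c106 rfl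
theorem s9u107 : ∀ v, 1 ≤ v → v ≤ 32028 → fs9 v = true := slots_step fs9 31754 274 32028 s9u106 s9c107 rfl
theorem s9u108 : ∀ v, 1 ≤ v → v ≤ 32351 → fs9 v = true := slots_step fs9 32028 323 32351 s9u107 s9c108 rfl
theorem s9u109 : ∀ v, 1 ≤ v → v ≤ 32647 → fs9 v = true := slots_step fs9 32351 296 32647 s9u108 s9c109 rfl
theorem s9u110 : ∀ v, 1 ≤ v → v ≤ 32998 → fs9 v = true := slots_step fs9 32647 351 32998 s9u109 s9c110 rfl
theorem s9u111 : ∀ v, 1 ≤ v → v ≤ 33333 → fs9 v = true := slots_step fs9 32998 335 33333 s9u110 s9c111 rfl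
theorem s9u112 : ∀ v, 1 ≤ v → v ≤ 33733 → fs9 v = true := slots_step fs9 33333 400 33733 s9u111 s9c112 rfl
theorem s9u113 : ∀ v, 1 ≤ v → v ≤ 34055 → fs9 v = true := slots_step fs9 33733 322 34055 s9u112 s9c113 rfl
theorem s9u114 : ∀ v, 1 ≤ v → v ≤ 34315 → fs9 v = true := slots_step fs9 34055 260 34315 s9u113 s9c114 rfl
theorem s9u115 : ∀ v, 1 ≤ v → v ≤ 34594 → fs9 v = true := slots_step fs9 34315 279 34594 s9u114 s9c115 rfl
theorem s9u116 : ∀ v, 1 ≤ v → v ≤ 34869 → fs9 v = true := slots_step fs9 34594 275 34869 s9u115 s9c116 rfl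
theorem s9u117 : ∀ v, 1 ≤ v → v ≤ 35133 → fs9 v = true := slots_step fs9 34869 264 35133 s9u116 s9c117 rfl
theorem s9u118 : ∀ v, 1 ≤ v → v ≤ 35395 → fs9 v = true := slots_step fs9 35133 262 35395 s9u117 s9c118 rfl
theorem s9u119 : ∀ v, 1 ≤ v → v ≤ 35663 → fs9 v = true := slots_step fs9 35395 268 35663 s9u118 s9c119 rfl
theorem s9u120 : ∀ v, 1 ≤ v → v ≤ 35981 → fs9 v = true := slots_step fs9 35663 318 35981 s9u119 s9c120 rfl
theorem s9u121 : ∀ v, 1 ≤ v → v ≤ 36277 → fs9 v = true := slots_step fs9 35981 296 36277 s9u120 s9c121 rfl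
theorem s9u122 : ∀ v, 1 ≤ v → v ≤ 36563 → fs9 v = true := slots_step fs9 36277 286 36563 s9u121 s9c122 rfl
theorem s9u123 : ∀ v, 1 ≤ v → v ≤ 36929 → fs9 v = true := slots_step fs9 36563 366 36929 s9u122 s9c123 rfl
theorem s9u124 : ∀ v, 1 ≤ v → v ≤ 37288 → fs9 v = true := slots_step fs9 36929 359 37288 s9u123 s9c124 rfl
theorem s9u125 : ∀ v, 1 ≤ v → v ≤ 37622 → fs9 v = true := slots_step fs9 37288 334 37622 s9u124 s9c125 rfl
theorem s9u126 : ∀ v, 1 ≤ v → v ≤ 37956 → fs9 v = true := slots_step fs9 37622 334 37956 s9u125 s9c126 rfl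
theorem s9u127 : ∀ v, 1 ≤ v → v ≤ 38363 → fs9 v = true := slots_step fs9 37956 407 38363 s9u126 s9c127 rfl
theorem s9u128 : ∀ v, 1 ≤ v → v ≤ 38767 → fs9 v = true := slots_step fs9 38363 404 38767 s9u127 s9c128 rfl
theorem s9u129 : ∀ v, 1 ≤ v → v ≤ 39149 → fs9 v = true := slots_step fs9 38767 382 39149 s9u128 s9c129 rfl
theorem s9u130 : ∀ v, 1 ≤ v → v ≤ 39463 → fs9 v = true := slots_step fs9 39149 314 39463 s9u129 s9c130 rfl
theorem s9u131 : ∀ v, 1 ≤ v → v ≤ 39753 → fs9 v = true := slots_step fs9 39463 290 39753 s9u130 s9c131 rfl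
theorem s9u132 : ∀ v, 1 ≤ v → v ≤ 40024 → fs9 v = true := slots_step fs9 39753 271 40024 s9u131 s9c132 rfl
theorem s9u133 : ∀ v, 1 ≤ v → v ≤ 40353 → fs9 v = true := slots_step fs9 40024 329 40353 s9u132 s9c133 rfl
theorem s9u134 : ∀ v, 1 ≤ v → v ≤ 40711 → fs9 v = true := slots_step fs9 40353 358 40711 s9u133 s9c134 rfl
theorem s9u135 : ∀ v, 1 ≤ v → v ≤ 41105 → fs9 v = true := slots_step fs9 40711 394 41105 s9u134 s9c135 rfl
theorem s9u136 : ∀ v, 1 ≤ v → v ≤ 41519 → fs9 v = true := slots_step fs9 41105 414 41519 s9u135 s9c136 rfl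
theorem s9u137 : ∀ v, 1 ≤ v → v ≤ 41802 → fs9 v = true := slots_step fs9 41519 283 41802 s9u136 s9c137 rfl
theorem s9u138 : ∀ v, 1 ≤ v → v ≤ 42061 → fs9 v = true := slots_step fs9 41802 259 42061 s9u137 s9c138 rfl
theorem s9u139 : ∀ v, 1 ≤ v → v ≤ 42341 → fs9 v = true := slots_step fs9 42061 280 42341 s9u138 s9c139 rfl
theorem s9u140 : ∀ v, 1 ≤ v → v ≤ 42618 → fs9 v = true := slots_step fs9 42341 277 42618 s9u139 s9c140 rfl
theorem s9u141 : ∀ v, 1 ≤ v → v ≤ 42874 → fs9 v = true := slots_step fs9 42618 256 42874 s9u140 s9c141 rfl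
theorem s9u142 : ∀ v, 1 ≤ v → v ≤ 43141 → fs9 v = true := slots_step fs9 42874 267 43141 s9u141 s9c142 rfl
theorem s9u143 : ∀ v, 1 ≤ v → v ≤ 43482 → fs9 v = true := slots_step fs9 43141 341 43482 s9u142 s9c143 rfl
theorem s9u144 : ∀ v, 1 ≤ v → v ≤ 43804 → fs9 v = true := slots_step fs9 43482 322 43804 s9u143 s9c144 rfl
theorem s9u145 : ∀ v, 1 ≤ v → v ≤ 44117 → fs9 v = true := slots_step fs9 43804 313 44117 s9u144 s9c145 rfl
theorem s9u146 : ∀ v, 1 ≤ v → v ≤ 44484 → fs9 v = true := slots_step fs9 44117 367 44484 s9u145 s9c146 rfl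
theorem s9u147 : ∀ v, 1 ≤ v → v ≤ 44844 → fs9 v = true := slots_step fs9 44484 360 44844 s9u146 s9c147 rfl
theorem s9u148 : ∀ v, 1 ≤ v → v ≤ 45193 → fs9 v = true := slots_step fs9 44844 349 45193 s9u147 s9c148 rfl
theorem s9u149 : ∀ v, 1 ≤ v → v ≤ 45610 → fs9 v = true := slots_step fs9 45193 417 45610 s9u148 s9c149 rfl
theorem s9u150 : ∀ v, 1 ≤ v → v ≤ 45969 → fs9 v = true := slots_step fs9 45610 359 45969 s9u149 s9c150 rfl
theorem s9u151 : ∀ v, 1 ≤ v → v ≤ 46239 → fs9 v = true := slots_step fs9 45969 270 46239 s9u150 s9c151 rfl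
theorem s9u152 : ∀ v, 1 ≤ v → v ≤ 46493 → fs9 v = true := slots_step fs9 46239 254 46493 s9u151 s9c152 rfl
theorem s9u153 : ∀ v, 1 ≤ v → v ≤ 46792 → fs9 v = true := slots_step fs9 46493 299 46792 s9u152 s9c153 rfl
theorem s9u154 : ∀ v, 1 ≤ v → v ≤ 47061 → fs9 v = true := slots_step fs9 46792 269 47061 s9u153 s9c154 rfl
theorem s9u155 : ∀ v, 1 ≤ v → v ≤ 47354 → fs9 v = true := slots_step fs9 47061 293 47354 s9u154 s9c155 rfl
theorem s9u156 : ∀ v, 1 ≤ v → v ≤ 47615 → fs9 v = true := slots_step fs9 47354 261 47615 s9u155 s9c156 rfl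
theorem s9u157 : ∀ v, 1 ≤ v → v ≤ 47877 → fs9 v = true := slots_step fs9 47615 262 47877 s9u156 s9c157 rfl
theorem s9u158 : ∀ v, 1 ≤ v → v ≤ 48147 → fs9 v = true := slots_step fs9 47877 270 48147 s9u157 s9c158 rfl
theorem s9u159 : ∀ v, 1 ≤ v → v ≤ 48431 → fs9 v = true := slots_step fs9 48147 284 48431 s9u158 s9c159 rfl
theorem s9u160 : ∀ v, 1 ≤ v → v ≤ 48779 → fs9 v = true := slots_step fs9 48431 348 48779 s9u159 s9c160 rfl
theorem s9u161 : ∀ v, 1 ≤ v → v ≤ 49087 → fs9 v = true := slots_step fs9 48779 308 49087 s9u160 s9c161 rfl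
theorem s9u162 : ∀ v, 1 ≤ v → v ≤ 49388 → fs9 v = true := slots_step fs9 49087 301 49388 s9u161 s9c162 rfl
theorem s9u163 : ∀ v, 1 ≤ v → v ≤ 49680 → fs9 v = true := slots_step fs9 49388 292 49680 s9u162 s9c163 rfl
theorem s9u164 : ∀ v, 1 ≤ v → v ≤ 50066 → fs9 v = true := slots_step fs9 49680 386 50066 s9u163 s9c164 rfl
theorem s9u165 : ∀ v, 1 ≤ v → v ≤ 50471 → fs9 v = true := slots_step fs9 50066 405 50471 s9u164 s9c165 rfl
theorem s9u166 : ∀ v, 1 ≤ v → v ≤ 50844 → fs9 v = true := slots_step fs9 50471 373 50844 s9u165 s9c166 rfl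
theorem s9u167 : ∀ v, 1 ≤ v → v ≤ 51162 → fs9 v = true := slots_step fs9 50844 318 51162 s9u166 s9c167 rfl
theorem s9u168 : ∀ v, 1 ≤ v → v ≤ 51519 → fs9 v = true := slots_step fs9 51162 357 51519 s9u167 s9c168 rfl
theorem s9u169 : ∀ v, 1 ≤ v → v ≤ 51948 → fs9 v = true := slots_step fs9 51519 429 51948 s9u168 s9c169 rfl
theorem s9u170 : ∀ v, 1 ≤ v → v ≤ 52344 → fs9 v = true := slots_step fs9 51948 396 52344 s9u169 s9c170 rfl
theorem s9u171 : ∀ v, 1 ≤ v → v ≤ 52758 → fs9 v = true := slots_step fs9 52344 414 52758 s9u170 s9c171 rfl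
theorem s9u172 : ∀ v, 1 ≤ v → v ≤ 53179 → fs9 v = true := slots_step fs9 52758 421 53179 s9u171 s9c172 rfl
theorem s9u173 : ∀ v, 1 ≤ v → v ≤ 53458 → fs9 v = true := slots_step fs9 53179 279 53458 s9u172 s9c173 rfl
theorem s9u174 : ∀ v, 1 ≤ v → v ≤ 53773 → fs9 v = true := slots_step fs9 53458 315 53773 s9u173 s9c174 rfl
theorem s9u175 : ∀ v, 1 ≤ v → v ≤ 54060 → fs9 v = true := slots_step fs9 53773 287 54060 s9u174 s9c175 rfl
theorem s9u176 : ∀ v, 1 ≤ v → v ≤ 54399 → fs9 v = true := slots_step fs9 54060 339 54399 s9u175 s9c176 rfl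
theorem s9u177 : ∀ v, 1 ≤ v → v ≤ 54762 → fs9 v = true := slots_step fs9 54399 363 54762 s9u176 s9c177 rfl
theorem s9u178 : ∀ v, 1 ≤ v → v ≤ 55165 → fs9 v = true := slots_step fs9 54762 403 55165 s9u177 s9c178 rfl
theorem s9u179 : ∀ v, 1 ≤ v → v ≤ 55578 → fs9 v = true := slots_step fs9 55165 413 55578 s9u178 s9c179 rfl
theorem s9u180 : ∀ v, 1 ≤ v → v ≤ 56018 → fs9 v = true := slots_step fs9 55578 440 56018 s9u179 s9c180 rfl
theorem s9u181 : ∀ v, 1 ≤ v → v ≤ 56365 → fs9 v = true := slots_step fs9 56018 347 56365 s9u180 s9c181 rfl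
theorem s9u182 : ∀ v, 1 ≤ v → v ≤ 56597 → fs9 v = true := slots_step fs9 56365 232 56597 s9u181 s9c182 rfl
theorem s9u183 : ∀ v, 1 ≤ v → v ≤ 56883 → fs9 v = true := slots_step fs9 56597 286 56883 s9u182 s9c183 rfl
theorem s9u184 : ∀ v, 1 ≤ v → v ≤ 57137 → fs9 v = true := slots_step fs9 56883 254 57137 s9u183 s9c184 rfl
theorem s9u185 : ∀ v, 1 ≤ v → v ≤ 57459 → fs9 v = true := slots_step fs9 57137 322 57459 s9u184 s9c185 rfl
theorem s9u186 : ∀ v, 1 ≤ v → v ≤ 57730 → fs9 v = true := slots_step fs9 57459 271 57730 s9u185 s9c186 rfl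
theorem s9u187 : ∀ v, 1 ≤ v → v ≤ 57998 → fs9 v = true := slots_step fs9 57730 268 57998 s9u186 s9c187 rfl
theorem s9u188 : ∀ v, 1 ≤ v → v ≤ 58267 → fs9 v = true := slots_step fs9 57998 269 58267 s9u187 s9c188 rfl
theorem s9u189 : ∀ v, 1 ≤ v → v ≤ 58531 → fs9 v = true := slots_step fs9 58267 264 58531 s9u188 s9c189 rfl
theorem s9u190 : ∀ v, 1 ≤ v → v ≤ 58922 → fs9 v = true := slots_step fs9 58531 391 58922 s9u189 s9c190 rfl
theorem s9u191 : ∀ v, 1 ≤ v → v ≤ 59270 → fs9 v = true := slots_step fs9 58922 348 59270 s9u190 s9c191 rfl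
theorem s9u192 : ∀ v, 1 ≤ v → v ≤ 59569 → fs9 v = true := slots_step fs9 59270 299 59569 s9u191 s9c192 rfl
theorem s9u193 : ∀ v, 1 ≤ v → v ≤ 59992 → fs9 v = true := slots_step fs9 59569 423 59992 s9u192 s9c193 rfl
theorem s9u194 : ∀ v, 1 ≤ v → v ≤ 60344 → fs9 v = true := slots_step fs9 59992 352 60344 s9u193 s9c194 rfl
theorem s9u195 : ∀ v, 1 ≤ v → v ≤ 60719 → fs9 v = true := slots_step fs9 60344 375 60719 s9u194 s9c195 rfl
theorem s9u196 : ∀ v, 1 ≤ v → v ≤ 61088 → fs9 v = true := slots_step fs9 60719 369 61088 s9u195 s9c196 rfl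
theorem s9u197 : ∀ v, 1 ≤ v → v ≤ 61532 → fs9 v = true := slots_step fs9 61088 444 61532 s9u196 s9c197 rfl
theorem s9u198 : ∀ v, 1 ≤ v → v ≤ 61956 → fs9 v = true := slots_step fs9 61532 424 61956 s9u197 s9c198 rfl
theorem s9u199 : ∀ v, 1 ≤ v → v ≤ 62232 → fs9 v = true := slots_step fs9 61956 276 62232 s9u198 s9c199 rfl
theorem s9u200 : ∀ v, 1 ≤ v → v ≤ 62523 → fs9 v = true := slots_step fs9 62232 291 62523 s9u199 s9c200 rfl
theorem s9u201 : ∀ v, 1 ≤ v → v ≤ 62782 → fs9 v = true := slots_step fs9 62523 259 62782 s9u200 s9c201 rfl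
theorem s9u202 : ∀ v, 1 ≤ v → v ≤ 63097 → fs9 v = true := slots_step fs9 62782 315 63097 s9u201 s9c202 rfl
theorem s9u203 : ∀ v, 1 ≤ v → v ≤ 63360 → fs9 v = true := slots_step fs9 63097 263 63360 s9u202 s9c203 rfl
theorem s9u204 : ∀ v, 1 ≤ v → v ≤ 63628 → fs9 v = true := slots_step fs9 63360 268 63628 s9u203 s9c204 rfl
theorem s9u205 : ∀ v, 1 ≤ v → v ≤ 63942 → fs9 v = true := slots_step fs9 63628 314 63942 s9u204 s9c205 rfl
theorem s9u206 : ∀ v, 1 ≤ v → v ≤ 64230 → fs9 v = true := slots_step fs9 63942 288 64230 s9u205 s9c206 rfl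
theorem s9u207 : ∀ v, 1 ≤ v → v ≤ 64494 → fs9 v = true := slots_step fs9 64230 264 64494 s9u206 s9c207 rfl
theorem s9u208 : ∀ v, 1 ≤ v → v ≤ 64754 → fs9 v = true := slots_step fs9 64494 260 64754 s9u207 s9c208 rfl
theorem s9u209 : ∀ v, 1 ≤ v → v ≤ 65027 → fs9 v = true := slots_step fs9 64754 273 65027 s9u208 s9c209 rfl
theorem s9u210 : ∀ v, 1 ≤ v → v ≤ 65321 → fs9 v = true := slots_step fs9 65027 294 65321 s9u209 s9c210 rfl
theorem s9u211 : ∀ v, 1 ≤ v → v ≤ 65624 → fs9 v = true := slots_step fs9 65321 303 65624 s9u210 s9c211 rfl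
theorem s9u212 : ∀ v, 1 ≤ v → v ≤ 66010 → fs9 v = true := slots_step fs9 65624 386 66010 s9u211 s9c212 rfl
theorem s9u213 : ∀ v, 1 ≤ v → v ≤ 66327 → fs9 v = true := slots_step fs9 66010 317 66327 s9u212 s9c213 rfl
theorem s9u214 : ∀ v, 1 ≤ v → v ≤ 66634 → fs9 v = true := slots_step fs9 66327 307 66634 s9u213 s9c214 rfl
theorem s9u215 : ∀ v, 1 ≤ v → v ≤ 66964 → fs9 v = true := slots_step fs9 66634 330 66964 s9u214 s9c215 rfl
theorem s9u216 : ∀ v, 1 ≤ v → v ≤ 67275 → fs9 v = true := slots_step fs9 66964 311 67275 s9u215 s9c216 rfl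
theorem s9u217 : ∀ v, 1 ≤ v → v ≤ 67695 → fs9 v = true := slots_step fs9 67275 420 67695 s9u216 s9c217 rfl
theorem s9u218 : ∀ v, 1 ≤ v → v ≤ 68142 → fs9 v = true := slots_step fs9 67695 447 68142 s9u217 s9c218 rfl
theorem s9u219 : ∀ v, 1 ≤ v → v ≤ 68511 → fs9 v = true := slots_step fs9 68142 369 68511 s9u218 s9c219 rfl
theorem s9u220 : ∀ v, 1 ≤ v → v ≤ 68887 → fs9 v = true := slots_step fs9 68511 376 68887 s9u219 s9c220 rfl
theorem s9u221 : ∀ v, 1 ≤ v → v ≤ 69210 → fs9 v = true := slots_step fs9 68887 323 69210 s9u220 s9c221 rfl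
theorem s9u222 : ∀ v, 1 ≤ v → v ≤ 69576 → fs9 v = true := slots_step fs9 69210 366 69576 s9u221 s9c222 rfl
theorem s9u223 : ∀ v, 1 ≤ v → v ≤ 70033 → fs9 v = true := slots_step fs9 69576 457 70033 s9u222 s9c223 rfl
theorem s9u224 : ∀ v, 1 ≤ v → v ≤ 70434 → fs9 v = true := slots_step fs9 70033 401 70434 s9u223 s9c224 rfl
theorem s9u225 : ∀ v, 1 ≤ v → v ≤ 70898 → fs9 v = true := slots_step fs9 70434 464 70898 s9u224 s9c225 rfl
theorem s9u226 : ∀ v, 1 ≤ v → v ≤ 71340 → fs9 v = true := slots_step fs9 70898 442 71340 s9u225 s9c226 rfl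
theorem s9u227 : ∀ v, 1 ≤ v → v ≤ 71654 → fs9 v = true := slots_step fs9 71340 314 71654 s9u226 s9c227 rfl
theorem s9u228 : ∀ v, 1 ≤ v → v ≤ 71965 → fs9 v = true := slots_step fs9 71654 311 71965 s9u227 s9c228 rfl
theorem s9u229 : ∀ v, 1 ≤ v → v ≤ 72285 → fs9 v = true := slots_step fs9 71965 320 72285 s9u228 s9c229 rfl
theorem s9u230 : ∀ v, 1 ≤ v → v ≤ 72588 → fs9 v = true := slots_step fs9 72285 303 72588 s9u229 s9c230 rfl
theorem s9u231 : ∀ v, 1 ≤ v → v ≤ 72882 → fs9 v = true := slots_step fs9 72588 294 72882 s9u230 s9c231 rfl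
theorem s9u232 : ∀ v, 1 ≤ v → v ≤ 73288 → fs9 v = true := slots_step fs9 72882 406 73288 s9u231 s9c232 rfl
theorem s9u233 : ∀ v, 1 ≤ v → v ≤ 73683 → fs9 v = true := slots_step fs9 73288 395 73683 s9u232 s9c233 rfl
theorem s9u234 : ∀ v, 1 ≤ v → v ≤ 74124 → fs9 v = true := slots_step fs9 73683 441 74124 s9u233 s9c234 rfl
theorem s9u235 : ∀ v, 1 ≤ v → v ≤ 74568 → fs9 v = true := slots_step fs9 74124 444 74568 s9u234 s9c235 rfl
theorem s9u236 : ∀ v, 1 ≤ v → v ≤ 75067 → fs9 v = true := slots_step fs9 74568 499 75067 s9u235 s9c236 rfl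
theorem s9u237 : ∀ v, 1 ≤ v → v ≤ 75455 → fs9 v = true := slots_step fs9 75067 388 75455 s9u236 s9c237 rfl
theorem s9u238 : ∀ v, 1 ≤ v → v ≤ 75684 → fs9 v = true := slots_step fs9 75455 229 75684 s9u237 s9c238 rfl
theorem s9u239 : ∀ v, 1 ≤ v → v ≤ 75929 → fs9 v = true := slots_step fs9 75684 245 75929 s9u238 s9c239 rfl
theorem s9u240 : ∀ v, 1 ≤ v → v ≤ 76241 → fs9 v = true := slots_step fs9 75929 312 76241 s9u239 s9c240 rfl
theorem s9u241 : ∀ v, 1 ≤ v → v ≤ 76500 → fs9 v = true := slots_step fs9 76241 259 76500 s9u240 s9c241 rfl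
theorem s9u242 : ∀ v, 1 ≤ v → v ≤ 76800 → fs9 v = true := slots_step fs9 76500 300 76800 s9u241 s9c242 rfl
theorem s9u243 : ∀ v, 1 ≤ v → v ≤ 77118 → fs9 v = true := slots_step fs9 76800 318 77118 s9u242 s9c243 rfl
theorem s9u244 : ∀ v, 1 ≤ v → v ≤ 77398 → fs9 v = true := slots_step fs9 77118 280 77398 s9u243 s9c244 rfl
theorem s9u245 : ∀ v, 1 ≤ v → v ≤ 77680 → fs9 v = true := slots_step fs9 77398 282 77680 s9u244 s9c245 rfl
theorem s9u246 : ∀ v, 1 ≤ v → v ≤ 77952 → fs9 v = true := slots_step fs9 77680 272 77952 s9u245 s9c246 rfl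
theorem s9u247 : ∀ v, 1 ≤ v → v ≤ 78234 → fs9 v = true := slots_step fs9 77952 282 78234 s9u246 s9c247 rfl
theorem s9u248 : ∀ v, 1 ≤ v → v ≤ 78515 → fs9 v = true := slots_step fs9 78234 281 78515 s9u247 s9c248 rfl
theorem s9u249 : ∀ v, 1 ≤ v → v ≤ 78916 → fs9 v = true := slots_step fs9 78515 401 78916 s9u248 s9c249 rfl
theorem s9u250 : ∀ v, 1 ≤ v → v ≤ 79239 → fs9 v = true := slots_step fs9 78916 323 79239 s9u249 s9c250 rfl
theorem s9u251 : ∀ v, 1 ≤ v → v ≤ 79621 → fs9 v = true := slots_step fs9 79239 382 79621 s9u250 s9c251 rfl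
theorem s9u252 : ∀ v, 1 ≤ v → v ≤ 79956 → fs9 v = true := slots_step fs9 79621 335 79956 s9u251 s9c252 rfl
theorem s9u253 : ∀ v, 1 ≤ v → v ≤ 80405 → fs9 v = true := slots_step fs9 79956 449 80405 s9u252 s9c253 rfl
theorem s9u254 : ∀ v, 1 ≤ v → v ≤ 80768 → fs9 v = true := slots_step fs9 80405 363 80768 s9u253 s9c254 rfl
theorem s9u255 : ∀ v, 1 ≤ v → v ≤ 81152 → fs9 v = true := slots_step fs9 80768 384 81152 s9u254 s9c255 rfl
theorem s9u256 : ∀ v, 1 ≤ v → v ≤ 81535 → fs9 v = true := slots_step fs9 81152 383 81535 s9u255 s9c256 rfl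
theorem s9u257 : ∀ v, 1 ≤ v → v ≤ 81957 → fs9 v = true := slots_step fs9 81535 422 81957 s9u256 s9c257 rfl
theorem s9u258 : ∀ v, 1 ≤ v → v ≤ 82428 → fs9 v = true := slots_step fs9 81957 471 82428 s9u257 s9c258 rfl
theorem s9u259 : ∀ v, 1 ≤ v → v ≤ 82841 → fs9 v = true := slots_step fs9 82428 413 82841 s9u258 s9c259 rfl
theorem s9u260 : ∀ v, 1 ≤ v → v ≤ 83114 → fs9 v = true := slots_step fs9 82841 273 83114 s9u259 s9c260 rfl
theorem s9u261 : ∀ v, 1 ≤ v → v ≤ 83432 → fs9 v = true := slots_step fs9 83114 318 83432 s9u260 s9c261 rfl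
theorem s9u262 : ∀ v, 1 ≤ v → v ≤ 83694 → fs9 v = true := slots_step fs9 83432 262 83694 s9u261 s9c262 rfl
theorem s9u263 : ∀ v, 1 ≤ v → v ≤ 83966 → fs9 v = true := slots_step fs9 83694 272 83966 s9u262 s9c263 rfl
theorem s9u264 : ∀ v, 1 ≤ v → v ≤ 84309 → fs9 v = true := slots_step fs9 83966 343 84309 s9u263 s9c264 rfl
theorem s9u265 : ∀ v, 1 ≤ v → v ≤ 84581 → fs9 v = true := slots_step fs9 84309 272 84581 s9u264 s9c265 rfl
theorem s9u266 : ∀ v, 1 ≤ v → v ≤ 84839 → fs9 v = true := slots_step fs9 84581 258 84839 s9u265 s9c266 rfl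
theorem s9u267 : ∀ v, 1 ≤ v → v ≤ 85125 → fs9 v = true := slots_step fs9 84839 286 85125 s9u266 s9c267 rfl
theorem s9u268 : ∀ v, 1 ≤ v → v ≤ 85452 → fs9 v = true := slots_step fs9 85125 327 85452 s9u267 s9c268 rfl
theorem s9u269 : ∀ v, 1 ≤ v → v ≤ 85757 → fs9 v = true := slots_step fs9 85452 305 85757 s9u268 s9c269 rfl
theorem s9u270 : ∀ v, 1 ≤ v → v ≤ 86027 → fs9 v = true := slots_step fs9 85757 270 86027 s9u269 s9c270 rfl
theorem s9u271 : ∀ v, 1 ≤ v → v ≤ 86298 → fs9 v = true := slots_step fs9 86027 271 86298 s9u270 s9c271 rfl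
theorem s9u272 : ∀ v, 1 ≤ v → v ≤ 86567 → fs9 v = true := slots_step fs9 86298 269 86567 s9u271 s9c272 rfl
theorem s9u273 : ∀ v, 1 ≤ v → v ≤ 86846 → fs9 v = true := slots_step fs9 86567 279 86846 s9u272 s9c273 rfl
theorem s9u274 : ∀ v, 1 ≤ v → v ≤ 87127 → fs9 v = true := slots_step fs9 86846 281 87127 s9u273 s9c274 rfl
theorem s9u275 : ∀ v, 1 ≤ v → v ≤ 87450 → fs9 v = true := slots_step fs9 87127 323 87450 s9u274 s9c275 rfl
theorem s9u276 : ∀ v, 1 ≤ v → v ≤ 87762 → fs9 v = true := slots_step fs9 87450 312 87762 s9u275 s9c276 rfl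
theorem s9u277 : ∀ v, 1 ≤ v → v ≤ 88112 → fs9 v = true := slots_step fs9 87762 350 88112 s9u276 s9c277 rfl
theorem s9u278 : ∀ v, 1 ≤ v → v ≤ 88504 → fs9 v = true := slots_step fs9 88112 392 88504 s9u277 s9c278 rfl
theorem s9u279 : ∀ v, 1 ≤ v → v ≤ 88840 → fs9 v = true := slots_step fs9 88504 336 88840 s9u278 s9c279 rfl
theorem s9u280 : ∀ v, 1 ≤ v → v ≤ 89180 → fs9 v = true := slots_step fs9 88840 340 89180 s9u279 s9c280 rfl
theorem s9u281 : ∀ v, 1 ≤ v → v ≤ 89540 → fs9 v = true := slots_step fs9 89180 360 89540 s9u280 s9c281 rfl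
theorem s9u282 : ∀ v, 1 ≤ v → v ≤ 89867 → fs9 v = true := slots_step fs9 89540 327 89867 s9u281 s9c282 rfl
theorem s9u283 : ∀ v, 1 ≤ v → v ≤ 90279 → fs9 v = true := slots_step fs9 89867 412 90279 s9u282 s9c283 rfl
theorem s9u284 : ∀ v, 1 ≤ v → v ≤ 90740 → fs9 v = true := slots_step fs9 90279 461 90740 s9u283 s9c284 rfl
theorem s9u285 : ∀ v, 1 ≤ v → v ≤ 91103 → fs9 v = true := slots_step fs9 90740 363 91103 s9u284 s9c285 rfl
theorem s9u286 : ∀ v, 1 ≤ v → v ≤ 91475 → fs9 v = true := slots_step fs9 91103 372 91475 s9u285 s9c286 rfl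
theorem s9u287 : ∀ v, 1 ≤ v → v ≤ 91879 → fs9 v = true := slots_step fs9 91475 404 91879 s9u286 s9c287 rfl
theorem s9u288 : ∀ v, 1 ≤ v → v ≤ 92213 → fs9 v = true := slots_step fs9 91879 334 92213 s9u287 s9c288 rfl
theorem s9u289 : ∀ v, 1 ≤ v → v ≤ 92572 → fs9 v = true := slots_step fs9 92213 359 92572 s9u288 s9c289 rfl
theorem s9u290 : ∀ v, 1 ≤ v → v ≤ 93078 → fs9 v = true := slots_step fs9 92572 506 93078 s9u289 s9c290 rfl
theorem s9u291 : ∀ v, 1 ≤ v → v ≤ 93504 → fs9 v = true := slots_step fs9 93078 426 93504 s9u290 s9c291 rfl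
theorem s9u292 : ∀ v, 1 ≤ v → v ≤ 93987 → fs9 v = true := slots_step fs9 93504 483 93987 s9u291 s9c292 rfl
theorem s9u293 : ∀ v, 1 ≤ v → v ≤ 94441 → fs9 v = true := slots_step fs9 93987 454 94441 s9u292 s9c293 rfl
theorem s9u294 : ∀ v, 1 ≤ v → v ≤ 94748 → fs9 v = true := slots_step fs9 94441 307 94748 s9u293 s9c294 rfl
theorem s9u295 : ∀ v, 1 ≤ v → v ≤ 95047 → fs9 v = true := slots_step fs9 94748 299 95047 s9u294 s9c295 rfl
theorem s9u296 : ∀ v, 1 ≤ v → v ≤ 95412 → fs9 v = true := slots_step fs9 95047 365 95412 s9u295 s9c296 rfl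
theorem s9u297 : ∀ v, 1 ≤ v → v ≤ 95719 → fs9 v = true := slots_step fs9 95412 307 95719 s9u296 s9c297 rfl
theorem s9u298 : ∀ v, 1 ≤ v → v ≤ 96014 → fs9 v = true := slots_step fs9 95719 295 96014 s9u297 s9c298 rfl
theorem s9u299 : ∀ v, 1 ≤ v → v ≤ 96317 → fs9 v = true := slots_step fs9 96014 303 96317 s9u298 s9c299 rfl
theorem s9u300 : ∀ v, 1 ≤ v → v ≤ 96746 → fs9 v = true := slots_step fs9 96317 429 96746 s9u299 s9c300 rfl
theorem s9u301 : ∀ v, 1 ≤ v → v ≤ 97194 → fs9 v = true := slots_step fs9 96746 448 97194 s9u300 s9c301 rfl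
theorem s9u302 : ∀ v, 1 ≤ v → v ≤ 97649 → fs9 v = true := slots_step fs9 97194 455 97649 s9u301 s9c302 rfl
theorem s9u303 : ∀ v, 1 ≤ v → v ≤ 98125 → fs9 v = true := slots_step fs9 97649 476 98125 s9u302 s9c303 rfl
theorem s9u304 : ∀ v, 1 ≤ v → v ≤ 98687 → fs9 v = true := slots_step fs9 98125 562 98687 s9u303 s9c304 rfl
theorem s9u305 : ∀ v, 1 ≤ v → v ≤ 99010 → fs9 v = true := slots_step fs9 98687 323 99010 s9u304 s9c305 rfl
theorem s9u306 : ∀ v, 1 ≤ v → v ≤ 99247 → fs9 v = true := slots_step fs9 99010 237 99247 s9u305 s9c306 rfl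
theorem s9u307 : ∀ v, 1 ≤ v → v ≤ 99499 → fs9 v = true := slots_step fs9 99247 252 99499 s9u306 s9c307 rfl
theorem s9u308 : ∀ v, 1 ≤ v → v ≤ 99798 → fs9 v = true := slots_step fs9 99499 299 99798 s9u307 s9c308 rfl
theorem s9u309 : ∀ v, 1 ≤ v → v ≤ 100098 → fs9 v = true := slots_step fs9 99798 300 100098 s9u308 s9c309 rfl
theorem s9u310 : ∀ v, 1 ≤ v → v ≤ 100363 → fs9 v = true := slots_step fs9 100098 265 100363 s9u309 s9c310 rfl
theorem s9u311 : ∀ v, 1 ≤ v → v ≤ 100625 → fs9 v = true := slots_step fs9 100363 262 100625 s9u310 s9c311 rfl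
theorem s9u312 : ∀ v, 1 ≤ v → v ≤ 100973 → fs9 v = true := slots_step fs9 100625 348 100973 s9u311 s9c312 rfl
theorem s9u313 : ∀ v, 1 ≤ v → v ≤ 101290 → fs9 v = true := slots_step fs9 100973 317 101290 s9u312 s9c313 rfl
theorem s9u314 : ∀ v, 1 ≤ v → v ≤ 101588 → fs9 v = true := slots_step fs9 101290 298 101588 s9u313 s9c314 rfl
theorem s9u315 : ∀ v, 1 ≤ v → v ≤ 101878 → fs9 v = true := slots_step fs9 101588 290 101878 s9u314 s9c315 rfl
theorem s9u316 : ∀ v, 1 ≤ v → v ≤ 102157 → fs9 v = true := slots_step fs9 101878 279 102157 s9u315 s9c316 rfl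
theorem s9u317 : ∀ v, 1 ≤ v → v ≤ 102437 → fs9 v = true := slots_step fs9 102157 280 102437 s9u316 s9c317 rfl
theorem s9u318 : ∀ v, 1 ≤ v → v ≤ 102723 → fs9 v = true := slots_step fs9 102437 286 102723 s9u317 s9c318 rfl
theorem s9u319 : ∀ v, 1 ≤ v → v ≤ 103001 → fs9 v = true := slots_step fs9 102723 278 103001 s9u318 s9c319 rfl
theorem s9u320 : ∀ v, 1 ≤ v → v ≤ 103296 → fs9 v = true := slots_step fs9 103001 295 103296 s9u319 s9c320 rfl
theorem s9u321 : ∀ v, 1 ≤ v → v ≤ 103715 → fs9 v = true := slots_step fs9 103296 419 103715 s9u320 s9c321 rfl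
theorem s9u322 : ∀ v, 1 ≤ v → v ≤ 104088 → fs9 v = true := slots_step fs9 103715 373 104088 s9u321 s9c322 rfl
theorem s9u323 : ∀ v, 1 ≤ v → v ≤ 104478 → fs9 v = true := slots_step fs9 104088 390 104478 s9u322 s9c323 rfl
theorem s9u324 : ∀ v, 1 ≤ v → v ≤ 104885 → fs9 v = true := slots_step fs9 104478 407 104885 s9u323 s9c324 rfl
theorem s9u325 : ∀ v, 1 ≤ v → v ≤ 105299 → fs9 v = true := slots_step fs9 104885 414 105299 s9u324 s9c325 rfl
theorem s9u326 : ∀ v, 1 ≤ v → v ≤ 105696 → fs9 v = true := slots_step fs9 105299 397 105696 s9u325 s9c326 rfl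
theorem s9u327 : ∀ v, 1 ≤ v → v ≤ 106138 → fs9 v = true := slots_step fs9 105696 442 106138 s9u326 s9c327 rfl
theorem s9u328 : ∀ v, 1 ≤ v → v ≤ 106548 → fs9 v = true := slots_step fs9 106138 410 106548 s9u327 s9c328 rfl
theorem s9u329 : ∀ v, 1 ≤ v → v ≤ 107081 → fs9 v = true := slots_step fs9 106548 533 107081 s9u328 s9c329 rfl
theorem s9u330 : ∀ v, 1 ≤ v → v ≤ 107563 → fs9 v = true := slots_step fs9 107081 482 107563 s9u329 s9c330 rfl
theorem s9u331 : ∀ v, 1 ≤ v → v ≤ 107870 → fs9 v = true := slots_step fs9 107563 307 107870 s9u330 s9c331 rfl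
theorem s9u332 : ∀ v, 1 ≤ v → v ≤ 108203 → fs9 v = true := slots_step fs9 107870 333 108203 s9u331 s9c332 rfl
theorem s9u333 : ∀ v, 1 ≤ v → v ≤ 108492 → fs9 v = true := slots_step fs9 108203 289 108492 s9u332 s9c333 rfl
theorem s9u334 : ∀ v, 1 ≤ v → v ≤ 108762 → fs9 v = true := slots_step fs9 108492 270 108762 s9u333 s9c334 rfl
theorem s9u335 : ∀ v, 1 ≤ v → v ≤ 109046 → fs9 v = true := slots_step fs9 108762 284 109046 s9u334 s9c335 rfl
theorem s9u336 : ∀ v, 1 ≤ v → v ≤ 109379 → fs9 v = true := slots_step fs9 109046 333 109379 s9u335 s9c336 rfl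
theorem s9u337 : ∀ v, 1 ≤ v → v ≤ 109719 → fs9 v = true := slots_step fs9 109379 340 109719 s9u336 s9c337 rfl
theorem s9u338 : ∀ v, 1 ≤ v → v ≤ 109979 → fs9 v = true := slots_step fs9 109719 260 109979 s9u337 s9c338 rfl
theorem s9u339 : ∀ v, 1 ≤ v → v ≤ 110241 → fs9 v = true := slots_step fs9 109979 262 110241 s9u338 s9c339 rfl
theorem s9u340 : ∀ v, 1 ≤ v → v ≤ 110506 → fs9 v = true := slots_step fs9 110241 265 110506 s9u339 s9c340 rfl
theorem s9u341 : ∀ v, 1 ≤ v → v ≤ 110838 → fs9 v = true := slots_step fs9 110506 332 110838 s9u340 s9c341 rfl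
theorem s9u342 : ∀ v, 1 ≤ v → v ≤ 111158 → fs9 v = true := slots_step fs9 110838 320 111158 s9u341 s9c342 rfl
theorem s9u343 : ∀ v, 1 ≤ v → v ≤ 111460 → fs9 v = true := slots_step fs9 111158 302 111460 s9u342 s9c343 rfl
theorem s9u344 : ∀ v, 1 ≤ v → v ≤ 111750 → fs9 v = true := slots_step fs9 111460 290 111750 s9u343 s9c344 rfl
theorem s9u345 : ∀ v, 1 ≤ v → v ≤ 112023 → fs9 v = true := slots_step fs9 111750 273 112023 s9u344 s9c345 rfl
theorem s9u346 : ∀ v, 1 ≤ v → v ≤ 112295 → fs9 v = true := slots_step fs9 112023 272 112295 s9u345 s9c346 rfl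
theorem s9u347 : ∀ v, 1 ≤ v → v ≤ 112586 → fs9 v = true := slots_step fs9 112295 291 112586 s9u346 s9c347 rfl
theorem s9u348 : ∀ v, 1 ≤ v → v ≤ 112858 → fs9 v = true := slots_step fs9 112586 272 112858 s9u347 s9c348 rfl
theorem s9u349 : ∀ v, 1 ≤ v → v ≤ 113157 → fs9 v = true := slots_step fs9 112858 299 113157 s9u348 s9c349 rfl
theorem s9u350 : ∀ v, 1 ≤ v → v ≤ 113438 → fs9 v = true := slots_step fs9 113157 281 113438 s9u349 s9c350 rfl
theorem s9u351 : ∀ v, 1 ≤ v → v ≤ 113773 → fs9 v = true := slots_step fs9 113438 335 113773 s9u350 s9c351 rfl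
theorem s9u352 : ∀ v, 1 ≤ v → v ≤ 114084 → fs9 v = true := slots_step fs9 113773 311 114084 s9u351 s9c352 rfl
theorem s9u353 : ∀ v, 1 ≤ v → v ≤ 114429 → fs9 v = true := slots_step fs9 114084 345 114429 s9u352 s9c353 rfl
theorem s9u354 : ∀ v, 1 ≤ v → v ≤ 114836 → fs9 v = true := slots_step fs9 114429 407 114836 s9u353 s9c354 rfl
theorem s9u355 : ∀ v, 1 ≤ v → v ≤ 115200 → fs9 v = true := slots_step fs9 114836 364 115200 s9u354 s9c355 rfl
theorem s9u356 : ∀ v, 1 ≤ v → v ≤ 115551 → fs9 v = true := slots_step fs9 115200 351 115551 s9u355 s9c356 rfl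
theorem s9u357 : ∀ v, 1 ≤ v → v ≤ 115912 → fs9 v = true := slots_step fs9 115551 361 115912 s9u356 s9c357 rfl
theorem s9u358 : ∀ v, 1 ≤ v → v ≤ 116291 → fs9 v = true := slots_step fs9 115912 379 116291 s9u357 s9c358 rfl
theorem s9u359 : ∀ v, 1 ≤ v → v ≤ 116640 → fs9 v = true := slots_step fs9 116291 349 116640 s9u358 s9c359 rfl
theorem s9u360 : ∀ v, 1 ≤ v → v ≤ 117046 → fs9 v = true := slots_step fs9 116640 406 117046 s9u359 s9c360 rfl
theorem s9u361 : ∀ v, 1 ≤ v → v ≤ 117518 → fs9 v = true := slots_step fs9 117046 472 117518 s9u360 s9c361 rfl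
theorem s9u362 : ∀ v, 1 ≤ v → v ≤ 117943 → fs9 v = true := slots_step fs9 117518 425 117943 s9u361 s9c362 rfl
theorem s9u363 : ∀ v, 1 ≤ v → v ≤ 118305 → fs9 v = true := slots_step fs9 117943 362 118305 s9u362 s9c363 rfl
theorem s9u364 : ∀ v, 1 ≤ v → v ≤ 118725 → fs9 v = true := slots_step fs9 118305 420 118725 s9u363 s9c364 rfl
theorem s9u365 : ∀ v, 1 ≤ v → v ≤ 119124 → fs9 v = true := slots_step fs9 118725 399 119124 s9u364 s9c365 rfl
theorem s9u366 : ∀ v, 1 ≤ v → v ≤ 119532 → fs9 v = true := slots_step fs9 119124 408 119532 s9u365 s9c366 rfl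
theorem s9u367 : ∀ v, 1 ≤ v → v ≤ 120077 → fs9 v = true := slots_step fs9 119532 545 120077 s9u366 s9c367 rfl
theorem s9u368 : ∀ v, 1 ≤ v → v ≤ 120582 → fs9 v = true := slots_step fs9 120077 505 120582 s9u367 s9c368 rfl
theorem s9u369 : ∀ v, 1 ≤ v → v ≤ 120895 → fs9 v = true := slots_step fs9 120582 313 120895 s9u368 s9c369 rfl
theorem s9u370 : ∀ v, 1 ≤ v → v ≤ 121185 → fs9 v = true := slots_step fs9 120895 290 121185 s9u369 s9c370 rfl
theorem s9u371 : ∀ v, 1 ≤ v → v ≤ 121546 → fs9 v = true := slots_step fs9 121185 361 121546 s9u370 s9c371 rfl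
theorem s9u372 : ∀ v, 1 ≤ v → v ≤ 121883 → fs9 v = true := slots_step fs9 121546 337 121883 s9u371 s9c372 rfl
theorem s9u373 : ∀ v, 1 ≤ v → v ≤ 122192 → fs9 v = true := slots_step fs9 121883 309 122192 s9u372 s9c373 rfl
theorem s9u374 : ∀ v, 1 ≤ v → v ≤ 122494 → fs9 v = true := slots_step fs9 122192 302 122494 s9u373 s9c374 rfl
theorem s9u375 : ∀ v, 1 ≤ v → v ≤ 122804 → fs9 v = true := slots_step fs9 122494 310 122804 s9u374 s9c375 rfl
theorem s9u376 : ∀ v, 1 ≤ v → v ≤ 123179 → fs9 v = true := slots_step fs9 122804 375 123179 s9u375 s9c376 rfl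
theorem s9u377 : ∀ v, 1 ≤ v → v ≤ 123660 → fs9 v = true := slots_step fs9 123179 481 123660 s9u376 s9c377 rfl
theorem s9u378 : ∀ v, 1 ≤ v → v ≤ 124173 → fs9 v = true := slots_step fs9 123660 513 124173 s9u377 s9c378 rfl
theorem s9u379 : ∀ v, 1 ≤ v → v ≤ 124732 → fs9 v = true := slots_step fs9 124173 559 124732 s9u378 s9c379 rfl
theorem s9u380 : ∀ v, 1 ≤ v → v ≤ 124961 → fs9 v = true := slots_step fs9 124732 229 124961 s9u379 s9c380 rfl
theorem s9u381 : ∀ v, 1 ≤ v → v ≤ 125195 → fs9 v = true := slots_step fs9 124961 234 125195 s9u380 s9c381 rfl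
theorem s9u382 : ∀ v, 1 ≤ v → v ≤ 125430 → fs9 v = true := slots_step fs9 125195 235 125430 s9u381 s9c382 rfl
theorem s9u383 : ∀ v, 1 ≤ v → v ≤ 125672 → fs9 v = true := slots_step fs9 125430 242 125672 s9u382 s9c383 rfl
theorem s9u384 : ∀ v, 1 ≤ v → v ≤ 125928 → fs9 v = true := slots_step fs9 125672 256 125928 s9u383 s9c384 rfl
theorem s9u385 : ∀ v, 1 ≤ v → v ≤ 126186 → fs9 v = true := slots_step fs9 125928 258 126186 s9u384 s9c385 rfl
theorem s9u386 : ∀ v, 1 ≤ v → v ≤ 126444 → fs9 v = true := slots_step fs9 126186 258 126444 s9u385 s9c386 rfl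
theorem s9u387 : ∀ v, 1 ≤ v → v ≤ 126700 → fs9 v = true := slots_step fs9 126444 256 126700 s9u386 s9c387 rfl
theorem s9u388 : ∀ v, 1 ≤ v → v ≤ 126961 → fs9 v = true := slots_step fs9 126700 261 126961 s9u387 s9c388 rfl
theorem s9u389 : ∀ v, 1 ≤ v → v ≤ 127224 → fs9 v = true := slots_step fs9 126961 263 127224 s9u388 s9c389 rfl
theorem s9u390 : ∀ v, 1 ≤ v → v ≤ 127481 → fs9 v = true := slots_step fs9 127224 257 127481 s9u389 s9c390 rfl
theorem s9u391 : ∀ v, 1 ≤ v → v ≤ 127734 → fs9 v = true := slots_step fs9 127481 253 127734 s9u390 s9c391 rfl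
theorem s9u392 : ∀ v, 1 ≤ v → v ≤ 127995 → fs9 v = true := slots_step fs9 127734 261 127995 s9u391 s9c392 rfl
theorem s9u393 : ∀ v, 1 ≤ v → v ≤ 128251 → fs9 v = true := slots_step fs9 127995 256 128251 s9u392 s9c393 rfl
theorem s9u394 : ∀ v, 1 ≤ v → v ≤ 128502 → fs9 v = true := slots_step fs9 128251 251 128502 s9u393 s9c394 rfl
theorem s9u395 : ∀ v, 1 ≤ v → v ≤ 128745 → fs9 v = true := slots_step fs9 128502 243 128745 s9u394 s9c395 rfl
theorem s9u396 : ∀ v, 1 ≤ v → v ≤ 128988 → fs9 v = true := slots_step fs9 128745 243 128988 s9u395 s9c396 rfl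
theorem s9u397 : ∀ v, 1 ≤ v → v ≤ 129238 → fs9 v = true := slots_step fs9 128988 250 129238 s9u396 s9c397 rfl
theorem s9u398 : ∀ v, 1 ≤ v → v ≤ 129504 → fs9 v = true := slots_step fs9 129238 266 129504 s9u397 s9c398 rfl
theorem s9u399 : ∀ v, 1 ≤ v → v ≤ 129799 → fs9 v = true := slots_step fs9 129504 295 129799 s9u398 s9c399 rfl
theorem s9u400 : ∀ v, 1 ≤ v → v ≤ 130111 → fs9 v = true := slots_step fs9 129799 312 130111 s9u399 s9c400 rfl
theorem s9u401 : ∀ v, 1 ≤ v → v ≤ 130415 → fs9 v = true := slots_step fs9 130111 304 130415 s9u400 s9c401 rfl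
theorem s9u402 : ∀ v, 1 ≤ v → v ≤ 130695 → fs9 v = true := slots_step fs9 130415 280 130695 s9u401 s9c402 rfl
theorem s9u403 : ∀ v, 1 ≤ v → v ≤ 130970 → fs9 v = true := slots_step fs9 130695 275 130970 s9u402 s9c403 rfl
theorem s9u404 : ∀ v, 1 ≤ v → v ≤ 131246 → fs9 v = true := slots_step fs9 130970 276 131246 s9u403 s9c404 rfl
theorem s9u405 : ∀ v, 1 ≤ v → v ≤ 131517 → fs9 v = true := slots_step fs9 131246 271 131517 s9u404 s9c405 rfl
theorem s9u406 : ∀ v, 1 ≤ v → v ≤ 131789 → fs9 v = true := slots_step fs9 131517 272 131789 s9u405 s9c406 rfl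
theorem s9u407 : ∀ v, 1 ≤ v → v ≤ 132061 → fs9 v = true := slots_step fs9 131789 272 132061 s9u406 s9c407 rfl
theorem s9u408 : ∀ v, 1 ≤ v → v ≤ 132317 → fs9 v = true := slots_step fs9 132061 256 132317 s9u407 s9c408 rfl
theorem s9u409 : ∀ v, 1 ≤ v → v ≤ 132575 → fs9 v = true := slots_step fs9 132317 258 132575 s9u408 s9c409 rfl
theorem s9u410 : ∀ v, 1 ≤ v → v ≤ 132831 → fs9 v = true := slots_step fs9 132575 256 132831 s9u409 s9c410 rfl
theorem s9u411 : ∀ v, 1 ≤ v → v ≤ 133091 → fs9 v = true := slots_step fs9 132831 260 133091 s9u410 s9c411 rfl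
theorem s9u412 : ∀ v, 1 ≤ v → v ≤ 133352 → fs9 v = true := slots_step fs9 133091 261 133352 s9u411 s9c412 rfl
theorem s9u413 : ∀ v, 1 ≤ v → v ≤ 133616 → fs9 v = true := slots_step fs9 133352 264 133616 s9u412 s9c413 rfl
theorem s9u414 : ∀ v, 1 ≤ v → v ≤ 133878 → fs9 v = true := slots_step fs9 133616 262 133878 s9u413 s9c414 rfl
theorem s9u415 : ∀ v, 1 ≤ v → v ≤ 134145 → fs9 v = true := slots_step fs9 133878 267 134145 s9u414 s9c415 rfl
theorem s9u416 : ∀ v, 1 ≤ v → v ≤ 134398 → fs9 v = true := slots_step fs9 134145 253 134398 s9u415 s9c416 rfl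
theorem s9u417 : ∀ v, 1 ≤ v → v ≤ 134662 → fs9 v = true := slots_step fs9 134398 264 134662 s9u416 s9c417 rfl
theorem s9u418 : ∀ v, 1 ≤ v → v ≤ 134924 → fs9 v = true := slots_step fs9 134662 262 134924 s9u417 s9c418 rfl
theorem s9u419 : ∀ v, 1 ≤ v → v ≤ 135188 → fs9 v = true := slots_step fs9 134924 264 135188 s9u418 s9c419 rfl
theorem s9u420 : ∀ v, 1 ≤ v → v ≤ 135455 → fs9 v = true := slots_step fs9 135188 267 135455 s9u419 s9c420 rfl
theorem s9u421 : ∀ v, 1 ≤ v → v ≤ 135722 → fs9 v = true := slots_step fs9 135455 267 135722 s9u420 s9c421 rfl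
theorem s9u422 : ∀ v, 1 ≤ v → v ≤ 135989 → fs9 v = true := slots_step fs9 135722 267 135989 s9u421 s9c422 rfl
theorem s9u423 : ∀ v, 1 ≤ v → v ≤ 136258 → fs9 v = true := slots_step fs9 135989 269 136258 s9u422 s9c423 rfl
theorem s9u424 : ∀ v, 1 ≤ v → v ≤ 136537 → fs9 v = true := slots_step fs9 136258 279 136537 s9u423 s9c424 rfl
theorem s9u425 : ∀ v, 1 ≤ v → v ≤ 136814 → fs9 v = true := slots_step fs9 136537 277 136814 s9u424 s9c425 rfl
theorem s9u426 : ∀ v, 1 ≤ v → v ≤ 137098 → fs9 v = true := slots_step fs9 136814 284 137098 s9u425 s9c426 rfl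
theorem s9u427 : ∀ v, 1 ≤ v → v ≤ 137373 → fs9 v = true := slots_step fs9 137098 275 137373 s9u426 s9c427 rfl
theorem s9u428 : ∀ v, 1 ≤ v → v ≤ 137642 → fs9 v = true := slots_step fs9 137373 269 137642 s9u427 s9c428 rfl
theorem s9u429 : ∀ v, 1 ≤ v → v ≤ 137921 → fs9 v = true := slots_step fs9 137642 279 137921 s9u428 s9c429 rfl
theorem s9u430 : ∀ v, 1 ≤ v → v ≤ 138217 → fs9 v = true := slots_step fs9 137921 296 138217 s9u429 s9c430 rfl
theorem s9u431 : ∀ v, 1 ≤ v → v ≤ 138529 → fs9 v = true := slots_step fs9 138217 312 138529 s9u430 s9c431 rfl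
theorem s9u432 : ∀ v, 1 ≤ v → v ≤ 138837 → fs9 v = true := slots_step fs9 138529 308 138837 s9u431 s9c432 rfl
theorem s9u433 : ∀ v, 1 ≤ v → v ≤ 139137 → fs9 v = true := slots_step fs9 138837 300 139137 s9u432 s9c433 rfl
theorem s9u434 : ∀ v, 1 ≤ v → v ≤ 139400 → fs9 v = true := slots_step fs9 139137 263 139400 s9u433 s9c434 rfl
theorem s9u435 : ∀ v, 1 ≤ v → v ≤ 139659 → fs9 v = true := slots_step fs9 139400 259 139659 s9u434 s9c435 rfl
theorem s9u436 : ∀ v, 1 ≤ v → v ≤ 139919 → fs9 v = true := slots_step fs9 139659 260 139919 s9u435 s9c436 rfl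
theorem s9u437 : ∀ v, 1 ≤ v → v ≤ 140177 → fs9 v = true := slots_step fs9 139919 258 140177 s9u436 s9c437 rfl
theorem s9u438 : ∀ v, 1 ≤ v → v ≤ 140431 → fs9 v = true := slots_step fs9 140177 254 140431 s9u437 s9c438 rfl
theorem s9u439 : ∀ v, 1 ≤ v → v ≤ 140677 → fs9 v = true := slots_step fs9 140431 246 140677 s9u438 s9c439 rfl
theorem s9u440 : ∀ v, 1 ≤ v → v ≤ 140923 → fs9 v = true := slots_step fs9 140677 246 140923 s9u439 s9c440 rfl
theorem s9u441 : ∀ v, 1 ≤ v → v ≤ 141190 → fs9 v = true := slots_step fs9 140923 267 141190 s9u440 s9c441 rfl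
theorem s9u442 : ∀ v, 1 ≤ v → v ≤ 141419 → fs9 v = true := slots_step fs9 141190 229 141419 s9u441 s9c442 rfl
theorem s9u443 : ∀ v, 1 ≤ v → v ≤ 141654 → fs9 v = true := slots_step fs9 141419 235 141654 s9u442 s9c443 rfl
theorem s9u444 : ∀ v, 1 ≤ v → v ≤ 141891 → fs9 v = true := slots_step fs9 141654 237 141891 s9u443 s9c444 rfl
theorem s9u445 : ∀ v, 1 ≤ v → v ≤ 142132 → fs9 v = true := slots_step fs9 141891 241 142132 s9u444 s9c445 rfl
theorem s9u446 : ∀ v, 1 ≤ v → v ≤ 142373 → fs9 v = true := slots_step fs9 142132 241 142373 s9u445 s9c446 rfl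
theorem s9u447 : ∀ v, 1 ≤ v → v ≤ 142628 → fs9 v = true := slots_step fs9 142373 255 142628 s9u446 s9c447 rfl
theorem s9u448 : ∀ v, 1 ≤ v → v ≤ 142884 → fs9 v = true := slots_step fs9 142628 256 142884 s9u447 s9c448 rfl
theorem s9u449 : ∀ v, 1 ≤ v → v ≤ 143139 → fs9 v = true := slots_step fs9 142884 255 143139 s9u448 s9c449 rfl
theorem s9u450 : ∀ v, 1 ≤ v → v ≤ 143392 → fs9 v = true := slots_step fs9 143139 253 143392 s9u449 s9c450 rfl
theorem s9u451 : ∀ v, 1 ≤ v → v ≤ 143652 → fs9 v = true := slots_step fs9 143392 260 143652 s9u450 s9c451 rfl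
theorem s9u452 : ∀ v, 1 ≤ v → v ≤ 143911 → fs9 v = true := slots_step fs9 143652 259 143911 s9u451 s9c452 rfl
theorem s9u453 : ∀ v, 1 ≤ v → v ≤ 144177 → fs9 v = true := slots_step fs9 143911 266 144177 s9u452 s9c453 rfl
theorem s9u454 : ∀ v, 1 ≤ v → v ≤ 144428 → fs9 v = true := slots_step fs9 144177 251 144428 s9u453 s9c454 rfl
theorem s9u455 : ∀ v, 1 ≤ v → v ≤ 144685 → fs9 v = true := slots_step fs9 144428 257 144685 s9u454 s9c455 rfl
theorem s9u456 : ∀ v, 1 ≤ v → v ≤ 144942 → fs9 v = true := slots_step fs9 144685 257 144942 s9u455 s9c456 rfl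
theorem s9u457 : ∀ v, 1 ≤ v → v ≤ 145204 → fs9 v = true := slots_step fs9 144942 262 145204 s9u456 s9c457 rfl
theorem s9u458 : ∀ v, 1 ≤ v → v ≤ 145468 → fs9 v = true := slots_step fs9 145204 264 145468 s9u457 s9c458 rfl
theorem s9u459 : ∀ v, 1 ≤ v → v ≤ 145718 → fs9 v = true := slots_step fs9 145468 250 145718 s9u458 s9c459 rfl
theorem s9u460 : ∀ v, 1 ≤ v → v ≤ 145960 → fs9 v = true := slots_step fs9 145718 242 145960 s9u459 s9c460 rfl
theorem s9u461 : ∀ v, 1 ≤ v → v ≤ 146213 → fs9 v = true := slots_step fs9 145960 253 146213 s9u460 s9c461 rfl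
theorem s9u462 : ∀ v, 1 ≤ v → v ≤ 146453 → fs9 v = true := slots_step fs9 146213 240 146453 s9u461 s9c462 rfl
theorem s9u463 : ∀ v, 1 ≤ v → v ≤ 146708 → fs9 v = true := slots_step fs9 146453 255 146708 s9u462 s9c463 rfl
theorem s9u464 : ∀ v, 1 ≤ v → v ≤ 146982 → fs9 v = true := slots_step fs9 146708 274 146982 s9u463 s9c464 rfl
theorem s9u465 : ∀ v, 1 ≤ v → v ≤ 147294 → fs9 v = true := slots_step fs9 146982 312 147294 s9u464 s9c465 rfl
theorem s9u466 : ∀ v, 1 ≤ v → v ≤ 147605 → fs9 v = true := slots_step fs9 147294 311 147605 s9u465 s9c466 rfl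
theorem s9u467 : ∀ v, 1 ≤ v → v ≤ 147895 → fs9 v = true := slots_step fs9 147605 290 147895 s9u466 s9c467 rfl
theorem s9u468 : ∀ v, 1 ≤ v → v ≤ 148182 → fs9 v = true := slots_step fs9 147895 287 148182 s9u467 s9c468 rfl
theorem s9u469 : ∀ v, 1 ≤ v → v ≤ 148463 → fs9 v = true := slots_step fs9 148182 281 148463 s9u468 s9c469 rfl
theorem s9u470 : ∀ v, 1 ≤ v → v ≤ 148737 → fs9 v = true := slots_step fs9 148463 274 148737 s9u469 s9c470 rfl
theorem s9u471 : ∀ v, 1 ≤ v → v ≤ 149011 → fs9 v = true := slots_step fs9 148737 274 149011 s9u470 s9c471 rfl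
theorem s9u472 : ∀ v, 1 ≤ v → v ≤ 149292 → fs9 v = true := slots_step fs9 149011 281 149292 s9u471 s9c472 rfl
theorem s9u473 : ∀ v, 1 ≤ v → v ≤ 149557 → fs9 v = true := slots_step fs9 149292 265 149557 s9u472 s9c473 rfl
theorem s9u474 : ∀ v, 1 ≤ v → v ≤ 149815 → fs9 v = true := slots_step fs9 149557 258 149815 s9u473 s9c474 rfl
theorem s9u475 : ∀ v, 1 ≤ v → v ≤ 150066 → fs9 v = true := slots_step fs9 149815 251 150066 s9u474 s9c475 rfl
theorem s9u476 : ∀ v, 1 ≤ v → v ≤ 150330 → fs9 v = true := slots_step fs9 150066 264 150330 s9u475 s9c476 rfl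
theorem s9u477 : ∀ v, 1 ≤ v → v ≤ 150593 → fs9 v = true := slots_step fs9 150330 263 150593 s9u476 s9c477 rfl
theorem s9u478 : ∀ v, 1 ≤ v → v ≤ 150856 → fs9 v = true := slots_step fs9 150593 263 150856 s9u477 s9c478 rfl
theorem s9u479 : ∀ v, 1 ≤ v → v ≤ 151115 → fs9 v = true := slots_step fs9 150856 259 151115 s9u478 s9c479 rfl
theorem s9u480 : ∀ v, 1 ≤ v → v ≤ 151382 → fs9 v = true := slots_step fs9 151115 267 151382 s9u479 s9c480 rfl
theorem s9u481 : ∀ v, 1 ≤ v → v ≤ 151644 → fs9 v = true := slots_step fs9 151382 262 151644 s9u480 s9c481 rfl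
theorem s9u482 : ∀ v, 1 ≤ v → v ≤ 151914 → fs9 v = true := slots_step fs9 151644 270 151914 s9u481 s9c482 rfl
theorem s9u483 : ∀ v, 1 ≤ v → v ≤ 152171 → fs9 v = true := slots_step fs9 151914 257 152171 s9u482 s9c483 rfl
theorem s9u484 : ∀ v, 1 ≤ v → v ≤ 152432 → fs9 v = true := slots_step fs9 152171 261 152432 s9u483 s9c484 rfl
theorem s9u485 : ∀ v, 1 ≤ v → v ≤ 152695 → fs9 v = true := slots_step fs9 152432 263 152695 s9u484 s9c485 rfl
theorem s9u486 : ∀ v, 1 ≤ v → v ≤ 152960 → fs9 v = true := slots_step fs9 152695 265 152960 s9u485 s9c486 rfl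
theorem s9u487 : ∀ v, 1 ≤ v → v ≤ 153226 → fs9 v = true := slots_step fs9 152960 266 153226 s9u486 s9c487 rfl
theorem s9u488 : ∀ v, 1 ≤ v → v ≤ 153494 → fs9 v = true := slots_step fs9 153226 268 153494 s9u487 s9c488 rfl
theorem s9u489 : ∀ v, 1 ≤ v → v ≤ 153765 → fs9 v = true := slots_step fs9 153494 271 153765 s9u488 s9c489 rfl
theorem s9u490 : ∀ v, 1 ≤ v → v ≤ 154029 → fs9 v = true := slots_step fs9 153765 264 154029 s9u489 s9c490 rfl
theorem s9u491 : ∀ v, 1 ≤ v → v ≤ 154304 → fs9 v = true := slots_step fs9 154029 275 154304 s9u490 s9c491 rfl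
theorem s9u492 : ∀ v, 1 ≤ v → v ≤ 154581 → fs9 v = true := slots_step fs9 154304 277 154581 s9u491 s9c492 rfl
theorem s9u493 : ∀ v, 1 ≤ v → v ≤ 154863 → fs9 v = true := slots_step fs9 154581 282 154863 s9u492 s9c493 rfl
theorem s9u494 : ∀ v, 1 ≤ v → v ≤ 155143 → fs9 v = true := slots_step fs9 154863 280 155143 s9u493 s9c494 rfl
theorem s9u495 : ∀ v, 1 ≤ v → v ≤ 155433 → fs9 v = true := slots_step fs9 155143 290 155433 s9u494 s9c495 rfl
theorem s9u496 : ∀ v, 1 ≤ v → v ≤ 155720 → fs9 v = true := slots_step fs9 155433 287 155720 s9u495 s9c496 rfl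
theorem s9u497 : ∀ v, 1 ≤ v → v ≤ 155993 → fs9 v = true := slots_step fs9 155720 273 155993 s9u496 s9c497 rfl
theorem s9u498 : ∀ v, 1 ≤ v → v ≤ 156279 → fs9 v = true := slots_step fs9 155993 286 156279 s9u497 s9c498 rfl
theorem s9u499 : ∀ v, 1 ≤ v → v ≤ 156584 → fs9 v = true := slots_step fs9 156279 305 156584 s9u498 s9c499 rfl
theorem s9u500 : ∀ v, 1 ≤ v → v ≤ 156900 → fs9 v = true := slots_step fs9 156584 316 156900 s9u499 s9c500 rfl
theorem s9u501 : ∀ v, 1 ≤ v → v ≤ 157205 → fs9 v = true := slots_step fs9 156900 305 157205 s9u500 s9c501 rfl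
theorem s9u502 : ∀ v, 1 ≤ v → v ≤ 157475 → fs9 v = true := slots_step fs9 157205 270 157475 s9u501 s9c502 rfl
theorem s9u503 : ∀ v, 1 ≤ v → v ≤ 157728 → fs9 v = true := slots_step fs9 157475 253 157728 s9u502 s9c503 rfl
theorem s9u504 : ∀ v, 1 ≤ v → v ≤ 157987 → fs9 v = true := slots_step fs9 157728 259 157987 s9u503 s9c504 rfl
theorem s9u505 : ∀ v, 1 ≤ v → v ≤ 158247 → fs9 v = true := slots_step fs9 157987 260 158247 s9u504 s9c505 rfl
theorem s9u506 : ∀ v, 1 ≤ v → v ≤ 158498 → fs9 v = true := slots_step fs9 158247 251 158498 s9u505 s9c506 rfl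
theorem s9u507 : ∀ v, 1 ≤ v → v ≤ 158757 → fs9 v = true := slots_step fs9 158498 259 158757 s9u506 s9c507 rfl
theorem s9u508 : ∀ v, 1 ≤ v → v ≤ 159000 → fs9 v = true := slots_step fs9 158757 243 159000 s9u507 s9c508 rfl
theorem s9u509 : ∀ v, 1 ≤ v → v ≤ 159259 → fs9 v = true := slots_step fs9 159000 259 159259 s9u508 s9c509 rfl
theorem s9u510 : ∀ v, 1 ≤ v → v ≤ 159491 → fs9 v = true := slots_step fs9 159259 232 159491 s9u509 s9c510 rfl
theorem s9u511 : ∀ v, 1 ≤ v → v ≤ 159720 → fs9 v = true := slots_step fs9 159491 229 159720 s9u510 s9c511 rfl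
theorem s9u512 : ∀ v, 1 ≤ v → v ≤ 159957 → fs9 v = true := slots_step fs9 159720 237 159957 s9u511 s9c512 rfl
theorem s9u513 : ∀ v, 1 ≤ v → v ≤ 160193 → fs9 v = true := slots_step fs9 159957 236 160193 s9u512 s9c513 rfl
theorem s9u514 : ∀ v, 1 ≤ v → v ≤ 160433 → fs9 v = true := slots_step fs9 160193 240 160433 s9u513 s9c514 rfl
theorem s9u515 : ∀ v, 1 ≤ v → v ≤ 160678 → fs9 v = true := slots_step fs9 160433 245 160678 s9u514 s9c515 rfl
theorem s9u516 : ∀ v, 1 ≤ v → v ≤ 160931 → fs9 v = true := slots_step fs9 160678 253 160931 s9u515 s9c516 rfl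
theorem s9u517 : ∀ v, 1 ≤ v → v ≤ 161184 → fs9 v = true := slots_step fs9 160931 253 161184 s9u516 s9c517 rfl
theorem s9u518 : ∀ v, 1 ≤ v → v ≤ 161435 → fs9 v = true := slots_step fs9 161184 251 161435 s9u517 s9c518 rfl
theorem s9u519 : ∀ v, 1 ≤ v → v ≤ 161695 → fs9 v = true := slots_step fs9 161435 260 161695 s9u518 s9c519 rfl
theorem s9u520 : ∀ v, 1 ≤ v → v ≤ 161948 → fs9 v = true := slots_step fs9 161695 253 161948 s9u519 s9c520 rfl
theorem s9u521 : ∀ v, 1 ≤ v → v ≤ 162210 → fs9 v = true := slots_step fs9 161948 262 162210 s9u520 s9c521 rfl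
theorem s9u522 : ∀ v, 1 ≤ v → v ≤ 162466 → fs9 v = true := slots_step fs9 162210 256 162466 s9u521 s9c522 rfl
theorem s9u523 : ∀ v, 1 ≤ v → v ≤ 162730 → fs9 v = true := slots_step fs9 162466 264 162730 s9u522 s9c523 rfl
theorem s9u524 : ∀ v, 1 ≤ v → v ≤ 162992 → fs9 v = true := slots_step fs9 162730 262 162992 s9u523 s9c524 rfl
theorem s9u525 : ∀ v, 1 ≤ v → v ≤ 163249 → fs9 v = true := slots_step fs9 162992 257 163249 s9u524 s9c525 rfl
theorem s9u526 : ∀ v, 1 ≤ v → v ≤ 163499 → fs9 v = true := slots_step fs9 163249 250 163499 s9u525 s9c526 rfl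
theorem s9u527 : ∀ v, 1 ≤ v → v ≤ 163763 → fs9 v = true := slots_step fs9 163499 264 163763 s9u526 s9c527 rfl
theorem s9u528 : ∀ v, 1 ≤ v → v ≤ 164022 → fs9 v = true := slots_step fs9 163763 259 164022 s9u527 s9c528 rfl
theorem s9u529 : ∀ v, 1 ≤ v → v ≤ 164288 → fs9 v = true := slots_step fs9 164022 266 164288 s9u528 s9c529 rfl
theorem s9u530 : ∀ v, 1 ≤ v → v ≤ 164544 → fs9 v = true := slots_step fs9 164288 256 164544 s9u529 s9c530 rfl
theorem s9u531 : ∀ v, 1 ≤ v → v ≤ 164797 → fs9 v = true := slots_step fs9 164544 253 164797 s9u530 s9c531 rfl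
theorem s9u532 : ∀ v, 1 ≤ v → v ≤ 165036 → fs9 v = true := slots_step fs9 164797 239 165036 s9u531 s9c532 rfl
theorem s9u533 : ∀ v, 1 ≤ v → v ≤ 165292 → fs9 v = true := slots_step fs9 165036 256 165292 s9u532 s9c533 rfl
theorem s9u534 : ∀ v, 1 ≤ v → v ≤ 165527 → fs9 v = true := slots_step fs9 165292 235 165527 s9u533 s9c534 rfl
theorem s9u535 : ∀ v, 1 ≤ v → v ≤ 165785 → fs9 v = true := slots_step fs9 165527 258 165785 s9u534 s9c535 rfl
theorem s9u536 : ∀ v, 1 ≤ v → v ≤ 166070 → fs9 v = true := slots_step fs9 165785 285 166070 s9u535 s9c536 rfl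
theorem s9u537 : ∀ v, 1 ≤ v → v ≤ 166386 → fs9 v = true := slots_step fs9 166070 316 166386 s9u536 s9c537 rfl
theorem s9u538 : ∀ v, 1 ≤ v → v ≤ 166688 → fs9 v = true := slots_step fs9 166386 302 166688 s9u537 s9c538 rfl
theorem s9u539 : ∀ v, 1 ≤ v → v ≤ 166983 → fs9 v = true := slots_step fs9 166688 295 166983 s9u538 s9c539 rfl
theorem s9u540 : ∀ v, 1 ≤ v → v ≤ 167270 → fs9 v = true := slots_step fs9 166983 287 167270 s9u539 s9c540 rfl
theorem s9u541 : ∀ v, 1 ≤ v → v ≤ 167549 → fs9 v = true := slots_step fs9 167270 279 167549 s9u540 s9c541 rfl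
theorem s9u542 : ∀ v, 1 ≤ v → v ≤ 167833 → fs9 v = true := slots_step fs9 167549 284 167833 s9u541 s9c542 rfl
theorem s9u543 : ∀ v, 1 ≤ v → v ≤ 168108 → fs9 v = true := slots_step fs9 167833 275 168108 s9u542 s9c543 rfl
theorem s9u544 : ∀ v, 1 ≤ v → v ≤ 168389 → fs9 v = true := slots_step fs9 168108 281 168389 s9u543 s9c544 rfl
theorem s9u545 : ∀ v, 1 ≤ v → v ≤ 168646 → fs9 v = true := slots_step fs9 168389 257 168646 s9u544 s9c545 rfl
theorem s9u546 : ∀ v, 1 ≤ v → v ≤ 168901 → fs9 v = true := slots_step fs9 168646 255 168901 s9u545 s9c546 rfl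
theorem s9u547 : ∀ v, 1 ≤ v → v ≤ 169152 → fs9 v = true := slots_step fs9 168901 251 169152 s9u546 s9c547 rfl
theorem s9u548 : ∀ v, 1 ≤ v → v ≤ 169417 → fs9 v = true := slots_step fs9 169152 265 169417 s9u547 s9c548 rfl
theorem s9u549 : ∀ v, 1 ≤ v → v ≤ 169680 → fs9 v = true := slots_step fs9 169417 263 169680 s9u548 s9c549 rfl
theorem s9u550 : ∀ v, 1 ≤ v → v ≤ 169945 → fs9 v = true := slots_step fs9 169680 265 169945 s9u549 s9c550 rfl
theorem s9u551 : ∀ v, 1 ≤ v → v ≤ 170208 → fs9 v = true := slots_step fs9 169945 263 170208 s9u550 s9c551 rfl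
theorem s9u552 : ∀ v, 1 ≤ v → v ≤ 170471 → fs9 v = true := slots_step fs9 170208 263 170471 s9u551 s9c552 rfl
theorem s9u553 : ∀ v, 1 ≤ v → v ≤ 170732 → fs9 v = true := slots_step fs9 170471 261 170732 s9u552 s9c553 rfl
theorem s9u554 : ∀ v, 1 ≤ v → v ≤ 170990 → fs9 v = true := slots_step fs9 170732 258 170990 s9u553 s9c554 rfl
theorem s9u555 : ∀ v, 1 ≤ v → v ≤ 171260 → fs9 v = true := slots_step fs9 170990 270 171260 s9u554 s9c555 rfl
theorem s9u556 : ∀ v, 1 ≤ v → v ≤ 171525 → fs9 v = true := slots_step fs9 171260 265 171525 s9u555 s9c556 rfl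
theorem s9u557 : ∀ v, 1 ≤ v → v ≤ 171780 → fs9 v = true := slots_step fs9 171525 255 171780 s9u556 s9c557 rfl
theorem s9u558 : ∀ v, 1 ≤ v → v ≤ 172044 → fs9 v = true := slots_step fs9 171780 264 172044 s9u557 s9c558 rfl
theorem s9u559 : ∀ v, 1 ≤ v → v ≤ 172311 → fs9 v = true := slots_step fs9 172044 267 172311 s9u558 s9c559 rfl
theorem s9u560 : ∀ v, 1 ≤ v → v ≤ 172575 → fs9 v = true := slots_step fs9 172311 264 172575 s9u559 s9c560 rfl
theorem s9u561 : ∀ v, 1 ≤ v → v ≤ 172841 → fs9 v = true := slots_step fs9 172575 266 172841 s9u560 s9c561 rfl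
theorem s9u562 : ∀ v, 1 ≤ v → v ≤ 173111 → fs9 v = true := slots_step fs9 172841 270 173111 s9u561 s9c562 rfl
theorem s9u563 : ∀ v, 1 ≤ v → v ≤ 173382 → fs9 v = true := slots_step fs9 173111 271 173382 s9u562 s9c563 rfl
theorem s9u564 : ∀ v, 1 ≤ v → v ≤ 173655 → fs9 v = true := slots_step fs9 173382 273 173655 s9u563 s9c564 rfl
theorem s9u565 : ∀ v, 1 ≤ v → v ≤ 173930 → fs9 v = true := slots_step fs9 173655 275 173930 s9u564 s9c565 rfl
theorem s9u566 : ∀ v, 1 ≤ v → v ≤ 174206 → fs9 v = true := slots_step fs9 173930 276 174206 s9u565 s9c566 rfl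
theorem s9u567 : ∀ v, 1 ≤ v → v ≤ 174486 → fs9 v = true := slots_step fs9 174206 280 174486 s9u566 s9c567 rfl
theorem s9u568 : ∀ v, 1 ≤ v → v ≤ 174761 → fs9 v = true := slots_step fs9 174486 275 174761 s9u567 s9c568 rfl
theorem s9u569 : ∀ v, 1 ≤ v → v ≤ 175056 → fs9 v = true := slots_step fs9 174761 295 175056 s9u568 s9c569 rfl
theorem s9u570 : ∀ v, 1 ≤ v → v ≤ 175338 → fs9 v = true := slots_step fs9 175056 282 175338 s9u569 s9c570 rfl
theorem s9u571 : ∀ v, 1 ≤ v → v ≤ 175635 → fs9 v = true := slots_step fs9 175338 297 175635 s9u570 s9c571 rfl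
theorem s9u572 : ∀ v, 1 ≤ v → v ≤ 175917 → fs9 v = true := slots_step fs9 175635 282 175917 s9u571 s9c572 rfl
theorem s9u573 : ∀ v, 1 ≤ v → v ≤ 176205 → fs9 v = true := slots_step fs9 175917 288 176205 s9u572 s9c573 rfl
theorem s9u574 : ∀ v, 1 ≤ v → v ≤ 176507 → fs9 v = true := slots_step fs9 176205 302 176507 s9u573 s9c574 rfl
theorem s9u575 : ∀ v, 1 ≤ v → v ≤ 176824 → fs9 v = true := slots_step fs9 176507 317 176824 s9u574 s9c575 rfl
theorem s9u576 : ∀ v, 1 ≤ v → v ≤ 177126 → fs9 v = true := slots_step fs9 176824 302 177126 s9u575 s9c576 rfl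
theorem s9u577 : ∀ v, 1 ≤ v → v ≤ 177384 → fs9 v = true := slots_step fs9 177126 258 177384 s9u576 s9c577 rfl
theorem s9u578 : ∀ v, 1 ≤ v → v ≤ 177640 → fs9 v = true := slots_step fs9 177384 256 177640 s9u577 s9c578 rfl
theorem s9u579 : ∀ v, 1 ≤ v → v ≤ 177899 → fs9 v = true := slots_step fs9 177640 259 177899 s9u578 s9c579 rfl
theorem s9u580 : ∀ v, 1 ≤ v → v ≤ 178155 → fs9 v = true := slots_step fs9 177899 256 178155 s9u579 s9c580 rfl
theorem s9u581 : ∀ v, 1 ≤ v → v ≤ 178411 → fs9 v = true := slots_step fs9 178155 256 178411 s9u580 s9c581 rfl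
theorem s9u582 : ∀ v, 1 ≤ v → v ≤ 178663 → fs9 v = true := slots_step fs9 178411 252 178663 s9u581 s9c582 rfl
theorem s9u583 : ∀ v, 1 ≤ v → v ≤ 178912 → fs9 v = true := slots_step fs9 178663 249 178912 s9u582 s9c583 rfl
theorem s9u584 : ∀ v, 1 ≤ v → v ≤ 179144 → fs9 v = true := slots_step fs9 178912 232 179144 s9u583 s9c584 rfl
theorem s9u585 : ∀ v, 1 ≤ v → v ≤ 179374 → fs9 v = true := slots_step fs9 179144 230 179374 s9u584 s9c585 rfl
theorem s9u586 : ∀ v, 1 ≤ v → v ≤ 179606 → fs9 v = true := slots_step fs9 179374 232 179606 s9u585 s9c586 rfl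
theorem s9u587 : ∀ v, 1 ≤ v → v ≤ 179845 → fs9 v = true := slots_step fs9 179606 239 179845 s9u586 s9c587 rfl
theorem s9u588 : ∀ v, 1 ≤ v → v ≤ 180080 → fs9 v = true := slots_step fs9 179845 235 180080 s9u587 s9c588 rfl
theorem s9u589 : ∀ v, 1 ≤ v → v ≤ 180319 → fs9 v = true := slots_step fs9 180080 239 180319 s9u588 s9c589 rfl
theorem s9u590 : ∀ v, 1 ≤ v → v ≤ 180566 → fs9 v = true := slots_step fs9 180319 247 180566 s9u589 s9c590 rfl
theorem s9u591 : ∀ v, 1 ≤ v → v ≤ 180818 → fs9 v = true := slots_step fs9 180566 252 180818 s9u590 s9c591 rfl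
theorem s9u592 : ∀ v, 1 ≤ v → v ≤ 181065 → fs9 v = true := slots_step fs9 180818 247 181065 s9u591 s9c592 rfl
theorem s9u593 : ∀ v, 1 ≤ v → v ≤ 181315 → fs9 v = true := slots_step fs9 181065 250 181315 s9u592 s9c593 rfl
theorem s9u594 : ∀ v, 1 ≤ v → v ≤ 181569 → fs9 v = true := slots_step fs9 181315 254 181569 s9u593 s9c594 rfl
theorem s9u595 : ∀ v, 1 ≤ v → v ≤ 181831 → fs9 v = true := slots_step fs9 181569 262 181831 s9u594 s9c595 rfl
theorem s9u596 : ∀ v, 1 ≤ v → v ≤ 182084 → fs9 v = true := slots_step fs9 181831 253 182084 s9u595 s9c596 rfl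
theorem s9u597 : ∀ v, 1 ≤ v → v ≤ 182347 → fs9 v = true := slots_step fs9 182084 263 182347 s9u596 s9c597 rfl
theorem s9u598 : ∀ v, 1 ≤ v → v ≤ 182601 → fs9 v = true := slots_step fs9 182347 254 182601 s9u597 s9c598 rfl
theorem s9u599 : ∀ v, 1 ≤ v → v ≤ 182858 → fs9 v = true := slots_step fs9 182601 257 182858 s9u598 s9c599 rfl
theorem s9u600 : ∀ v, 1 ≤ v → v ≤ 183130 → fs9 v = true := slots_step fs9 182858 272 183130 s9u599 s9c600 rfl
theorem s9u601 : ∀ v, 1 ≤ v → v ≤ 183376 → fs9 v = true := slots_step fs9 183130 246 183376 s9u600 s9c601 rfl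
theorem s9u602 : ∀ v, 1 ≤ v → v ≤ 183638 → fs9 v = true := slots_step fs9 183376 262 183638 s9u601 s9c602 rfl
theorem s9u603 : ∀ v, 1 ≤ v → v ≤ 183886 → fs9 v = true := slots_step fs9 183638 248 183886 s9u602 s9c603 rfl
theorem s9u604 : ∀ v, 1 ≤ v → v ≤ 184150 → fs9 v = true := slots_step fs9 183886 264 184150 s9u603 s9c604 rfl
theorem s9u605 : ∀ v, 1 ≤ v → v ≤ 184413 → fs9 v = true := slots_step fs9 184150 263 184413 s9u604 s9c605 rfl
theorem s9u606 : ∀ v, 1 ≤ v → v ≤ 184681 → fs9 v = true := slots_step fs9 184413 268 184681 s9u605 s9c606 rfl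
theorem s9u607 : ∀ v, 1 ≤ v → v ≤ 184942 → fs9 v = true := slots_step fs9 184681 261 184942 s9u606 s9c607 rfl
theorem s9u608 : ∀ v, 1 ≤ v → v ≤ 185194 → fs9 v = true := slots_step fs9 184942 252 185194 s9u607 s9c608 rfl
theorem s9u609 : ∀ v, 1 ≤ v → v ≤ 185441 → fs9 v = true := slots_step fs9 185194 247 185441 s9u608 s9c609 rfl
theorem s9u610 : ∀ v, 1 ≤ v → v ≤ 185680 → fs9 v = true := slots_step fs9 185441 239 185680 s9u609 s9c610 rfl
theorem s9u611 : ∀ v, 1 ≤ v → v ≤ 185929 → fs9 v = true := slots_step fs9 185680 249 185929 s9u610 s9c611 rfl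
theorem s9u612 : ∀ v, 1 ≤ v → v ≤ 186171 → fs9 v = true := slots_step fs9 185929 242 186171 s9u611 s9c612 rfl
theorem s9u613 : ∀ v, 1 ≤ v → v ≤ 186439 → fs9 v = true := slots_step fs9 186171 268 186439 s9u612 s9c613 rfl
theorem s9u614 : ∀ v, 1 ≤ v → v ≤ 186755 → fs9 v = true := slots_step fs9 186439 316 186755 s9u613 s9c614 rfl
theorem s9u615 : ∀ v, 1 ≤ v → v ≤ 187062 → fs9 v = true := slots_step fs9 186755 307 187062 s9u614 s9c615 rfl
theorem s9u616 : ∀ v, 1 ≤ v → v ≤ 187361 → fs9 v = true := slots_step fs9 187062 299 187361 s9u615 s9c616 rfl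
theorem s9u617 : ∀ v, 1 ≤ v → v ≤ 187655 → fs9 v = true := slots_step fs9 187361 294 187655 s9u616 s9c617 rfl
theorem s9u618 : ∀ v, 1 ≤ v → v ≤ 187937 → fs9 v = true := slots_step fs9 187655 282 187937 s9u617 s9c618 rfl
theorem s9u619 : ∀ v, 1 ≤ v → v ≤ 188224 → fs9 v = true := slots_step fs9 187937 287 188224 s9u618 s9c619 rfl
theorem s9u620 : ∀ v, 1 ≤ v → v ≤ 188505 → fs9 v = true := slots_step fs9 188224 281 188505 s9u619 s9c620 rfl
theorem s9u621 : ∀ v, 1 ≤ v → v ≤ 188791 → fs9 v = true := slots_step fs9 188505 286 188791 s9u620 s9c621 rfl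
theorem s9u622 : ∀ v, 1 ≤ v → v ≤ 189057 → fs9 v = true := slots_step fs9 188791 266 189057 s9u621 s9c622 rfl
theorem s9u623 : ∀ v, 1 ≤ v → v ≤ 189311 → fs9 v = true := slots_step fs9 189057 254 189311 s9u622 s9c623 rfl
theorem s9u624 : ∀ v, 1 ≤ v → v ≤ 189561 → fs9 v = true := slots_step fs9 189311 250 189561 s9u623 s9c624 rfl
theorem s9u625 : ∀ v, 1 ≤ v → v ≤ 189822 → fs9 v = true := slots_step fs9 189561 261 189822 s9u624 s9c625 rfl
theorem s9u626 : ∀ v, 1 ≤ v → v ≤ 190085 → fs9 v = true := slots_step fs9 189822 263 190085 s9u625 s9c626 rfl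
theorem s9u627 : ∀ v, 1 ≤ v → v ≤ 190348 → fs9 v = true := slots_step fs9 190085 263 190348 s9u626 s9c627 rfl
theorem s9u628 : ∀ v, 1 ≤ v → v ≤ 190611 → fs9 v = true := slots_step fs9 190348 263 190611 s9u627 s9c628 rfl
theorem s9u629 : ∀ v, 1 ≤ v → v ≤ 190882 → fs9 v = true := slots_step fs9 190611 271 190882 s9u628 s9c629 rfl
theorem s9u630 : ∀ v, 1 ≤ v → v ≤ 191143 → fs9 v = true := slots_step fs9 190882 261 191143 s9u629 s9c630 rfl
theorem s9u631 : ∀ v, 1 ≤ v → v ≤ 191409 → fs9 v = true := slots_step fs9 191143 266 191409 s9u630 s9c631 rfl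
theorem s9u632 : ∀ v, 1 ≤ v → v ≤ 191668 → fs9 v = true := slots_step fs9 191409 259 191668 s9u631 s9c632 rfl
theorem s9u633 : ∀ v, 1 ≤ v → v ≤ 191925 → fs9 v = true := slots_step fs9 191668 257 191925 s9u632 s9c633 rfl
theorem s9u634 : ∀ v, 1 ≤ v → v ≤ 192195 → fs9 v = true := slots_step fs9 191925 270 192195 s9u633 s9c634 rfl
theorem s9u635 : ∀ v, 1 ≤ v → v ≤ 192462 → fs9 v = true := slots_step fs9 192195 267 192462 s9u634 s9c635 rfl
theorem s9u636 : ∀ v, 1 ≤ v → v ≤ 192717 → fs9 v = true := slots_step fs9 192462 255 192717 s9u635 s9c636 rfl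
theorem s9u637 : ∀ v, 1 ≤ v → v ≤ 192987 → fs9 v = true := slots_step fs9 192717 270 192987 s9u636 s9c637 rfl
theorem s9u638 : ∀ v, 1 ≤ v → v ≤ 193254 → fs9 v = true := slots_step fs9 192987 267 193254 s9u637 s9c638 rfl
theorem s9u639 : ∀ v, 1 ≤ v → v ≤ 193533 → fs9 v = true := slots_step fs9 193254 279 193533 s9u638 s9c639 rfl
theorem s9u640 : ∀ v, 1 ≤ v → v ≤ 193789 → fs9 v = true := slots_step fs9 193533 256 193789 s9u639 s9c640 rfl
theorem s9u641 : ∀ v, 1 ≤ v → v ≤ 194058 → fs9 v = true := slots_step fs9 193789 269 194058 s9u640 s9c641 rfl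
theorem s9u642 : ∀ v, 1 ≤ v → v ≤ 194332 → fs9 v = true := slots_step fs9 194058 274 194332 s9u641 s9c642 rfl
theorem s9u643 : ∀ v, 1 ≤ v → v ≤ 194603 → fs9 v = true := slots_step fs9 194332 271 194603 s9u642 s9c643 rfl
theorem s9u644 : ∀ v, 1 ≤ v → v ≤ 194880 → fs9 v = true := slots_step fs9 194603 277 194880 s9u643 s9c644 rfl
theorem s9u645 : ∀ v, 1 ≤ v → v ≤ 195154 → fs9 v = true := slots_step fs9 194880 274 195154 s9u644 s9c645 rfl
theorem s9u646 : ∀ v, 1 ≤ v → v ≤ 195426 → fs9 v = true := slots_step fs9 195154 272 195426 s9u645 s9c646 rfl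
theorem s9u647 : ∀ v, 1 ≤ v → v ≤ 195712 → fs9 v = true := slots_step fs9 195426 286 195712 s9u646 s9c647 rfl
theorem s9u648 : ∀ v, 1 ≤ v → v ≤ 195999 → fs9 v = true := slots_step fs9 195712 287 195999 s9u647 s9c648 rfl
theorem s9u649 : ∀ v, 1 ≤ v → v ≤ 196286 → fs9 v = true := slots_step fs9 195999 287 196286 s9u648 s9c649 rfl
theorem s9u650 : ∀ v, 1 ≤ v → v ≤ 196582 → fs9 v = true := slots_step fs9 196286 296 196582 s9u649 s9c650 rfl
theorem s9u651 : ∀ v, 1 ≤ v → v ≤ 196873 → fs9 v = true := slots_step fs9 196582 291 196873 s9u650 s9c651 rfl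
theorem s9u652 : ∀ v, 1 ≤ v → v ≤ 197172 → fs9 v = true := slots_step fs9 196873 299 197172 s9u651 s9c652 rfl
theorem s9u653 : ∀ v, 1 ≤ v → v ≤ 197465 → fs9 v = true := slots_step fs9 197172 293 197465 s9u652 s9c653 rfl
theorem s9u654 : ∀ v, 1 ≤ v → v ≤ 197761 → fs9 v = true := slots_step fs9 197465 296 197761 s9u653 s9c654 rfl
theorem s9u655 : ∀ v, 1 ≤ v → v ≤ 198072 → fs9 v = true := slots_step fs9 197761 311 198072 s9u654 s9c655 rfl
theorem s9u656 : ∀ v, 1 ≤ v → v ≤ 198381 → fs9 v = true := slots_step fs9 198072 309 198381 s9u655 s9c656 rfl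
theorem s9u657 : ∀ v, 1 ≤ v → v ≤ 198652 → fs9 v = true := slots_step fs9 198381 271 198652 s9u656 s9c657 rfl
theorem s9u658 : ∀ v, 1 ≤ v → v ≤ 198906 → fs9 v = true := slots_step fs9 198652 254 198906 s9u657 s9c658 rfl
theorem s9u659 : ∀ v, 1 ≤ v → v ≤ 199166 → fs9 v = true := slots_step fs9 198906 260 199166 s9u658 s9c659 rfl
theorem s9u660 : ∀ v, 1 ≤ v → v ≤ 199423 → fs9 v = true := slots_step fs9 199166 257 199423 s9u659 s9c660 rfl
theorem s9u661 : ∀ v, 1 ≤ v → v ≤ 199678 → fs9 v = true := slots_step fs9 199423 255 199678 s9u660 s9c661 rfl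
theorem s9u662 : ∀ v, 1 ≤ v → v ≤ 199930 → fs9 v = true := slots_step fs9 199678 252 199930 s9u661 s9c662 rfl
theorem s9u663 : ∀ v, 1 ≤ v → v ≤ 200170 → fs9 v = true := slots_step fs9 199930 240 200170 s9u662 s9c663 rfl
theorem s9u664 : ∀ v, 1 ≤ v → v ≤ 200405 → fs9 v = true := slots_step fs9 200170 235 200405 s9u663 s9c664 rfl
theorem s9u665 : ∀ v, 1 ≤ v → v ≤ 200633 → fs9 v = true := slots_step fs9 200405 228 200633 s9u664 s9c665 rfl
theorem s9u666 : ∀ v, 1 ≤ v → v ≤ 200862 → fs9 v = true := slots_step fs9 200633 229 200862 s9u665 s9c666 rfl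
theorem s9u667 : ∀ v, 1 ≤ v → v ≤ 201099 → fs9 v = true := slots_step fs9 200862 237 201099 s9u666 s9c667 rfl
theorem s9u668 : ∀ v, 1 ≤ v → v ≤ 201341 → fs9 v = true := slots_step fs9 201099 242 201341 s9u667 s9c668 rfl
theorem s9u669 : ∀ v, 1 ≤ v → v ≤ 201578 → fs9 v = true := slots_step fs9 201341 237 201578 s9u668 s9c669 rfl
theorem s9u670 : ∀ v, 1 ≤ v → v ≤ 201814 → fs9 v = true := slots_step fs9 201578 236 201814 s9u669 s9c670 rfl
theorem s9u671 : ∀ v, 1 ≤ v → v ≤ 202062 → fs9 v = true := slots_step fs9 201814 248 202062 s9u670 s9c671 rfl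
theorem s9u672 : ∀ v, 1 ≤ v → v ≤ 202315 → fs9 v = true := slots_step fs9 202062 253 202315 s9u671 s9c672 rfl
theorem s9u673 : ∀ v, 1 ≤ v → v ≤ 202566 → fs9 v = true := slots_step fs9 202315 251 202566 s9u672 s9c673 rfl
theorem s9u674 : ∀ v, 1 ≤ v → v ≤ 202807 → fs9 v = true := slots_step fs9 202566 241 202807 s9u673 s9c674 rfl
theorem s9u675 : ∀ v, 1 ≤ v → v ≤ 203064 → fs9 v = true := slots_step fs9 202807 257 203064 s9u674 s9c675 rfl
theorem s9u676 : ∀ v, 1 ≤ v → v ≤ 203328 → fs9 v = true := slots_step fs9 203064 264 203328 s9u675 s9c676 rfl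
theorem s9u677 : ∀ v, 1 ≤ v → v ≤ 203589 → fs9 v = true := slots_step fs9 203328 261 203589 s9u676 s9c677 rfl
theorem s9u678 : ∀ v, 1 ≤ v → v ≤ 203838 → fs9 v = true := slots_step fs9 203589 249 203838 s9u677 s9c678 rfl
theorem s9u679 : ∀ v, 1 ≤ v → v ≤ 204103 → fs9 v = true := slots_step fs9 203838 265 204103 s9u678 s9c679 rfl
theorem s9u680 : ∀ v, 1 ≤ v → v ≤ 204357 → fs9 v = true := slots_step fs9 204103 254 204357 s9u679 s9c680 rfl
theorem s9u681 : ∀ v, 1 ≤ v → v ≤ 204616 → fs9 v = true := slots_step fs9 204357 259 204616 s9u680 s9c681 rfl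
theorem s9u682 : ∀ v, 1 ≤ v → v ≤ 204885 → fs9 v = true := slots_step fs9 204616 269 204885 s9u681 s9c682 rfl
theorem s9u683 : ∀ v, 1 ≤ v → v ≤ 205127 → fs9 v = true := slots_step fs9 204885 242 205127 s9u682 s9c683 rfl
theorem s9u684 : ∀ v, 1 ≤ v → v ≤ 205394 → fs9 v = true := slots_step fs9 205127 267 205394 s9u683 s9c684 rfl
theorem s9u685 : ∀ v, 1 ≤ v → v ≤ 205643 → fs9 v = true := slots_step fs9 205394 249 205643 s9u684 s9c685 rfl
theorem s9u686 : ∀ v, 1 ≤ v → v ≤ 205913 → fs9 v = true := slots_step fs9 205643 270 205913 s9u685 s9c686 rfl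
theorem s9u687 : ∀ v, 1 ≤ v → v ≤ 206171 → fs9 v = true := slots_step fs9 205913 258 206171 s9u686 s9c687 rfl
theorem s9u688 : ∀ v, 1 ≤ v → v ≤ 206442 → fs9 v = true := slots_step fs9 206171 271 206442 s9u687 s9c688 rfl
theorem s9u689 : ∀ v, 1 ≤ v → v ≤ 206703 → fs9 v = true := slots_step fs9 206442 261 206703 s9u688 s9c689 rfl
theorem s9u690 : ∀ v, 1 ≤ v → v ≤ 206956 → fs9 v = true := slots_step fs9 206703 253 206956 s9u689 s9c690 rfl
theorem s9u691 : ∀ v, 1 ≤ v → v ≤ 207213 → fs9 v = true := slots_step fs9 206956 257 207213 s9u690 s9c691 rfl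
theorem s9u692 : ∀ v, 1 ≤ v → v ≤ 207459 → fs9 v = true := slots_step fs9 207213 246 207459 s9u691 s9c692 rfl
theorem s9u693 : ∀ v, 1 ≤ v → v ≤ 207698 → fs9 v = true := slots_step fs9 207459 239 207698 s9u692 s9c693 rfl
theorem s9u694 : ∀ v, 1 ≤ v → v ≤ 207939 → fs9 v = true := slots_step fs9 207698 241 207939 s9u693 s9c694 rfl
theorem s9u695 : ∀ v, 1 ≤ v → v ≤ 208189 → fs9 v = true := slots_step fs9 207939 250 208189 s9u694 s9c695 rfl
theorem s9u696 : ∀ v, 1 ≤ v → v ≤ 208461 → fs9 v = true := slots_step fs9 208189 272 208461 s9u695 s9c696 rfl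
theorem s9u697 : ∀ v, 1 ≤ v → v ≤ 208776 → fs9 v = true := slots_step fs9 208461 315 208776 s9u696 s9c697 rfl
theorem s9u698 : ∀ v, 1 ≤ v → v ≤ 209079 → fs9 v = true := slots_step fs9 208776 303 209079 s9u697 s9c698 rfl
theorem s9u699 : ∀ v, 1 ≤ v → v ≤ 209378 → fs9 v = true := slots_step fs9 209079 299 209378 s9u698 s9c699 rfl
theorem s9u700 : ∀ v, 1 ≤ v → v ≤ 209671 → fs9 v = true := slots_step fs9 209378 293 209671 s9u699 s9c700 rfl
theorem s9u701 : ∀ v, 1 ≤ v → v ≤ 209955 → fs9 v = true := slots_step fs9 209671 284 209955 s9u700 s9c701 rfl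
theorem s9u702 : ∀ v, 1 ≤ v → v ≤ 210248 → fs9 v = true := slots_step fs9 209955 293 210248 s9u701 s9c702 rfl
theorem s9u703 : ∀ v, 1 ≤ v → v ≤ 210531 → fs9 v = true := slots_step fs9 210248 283 210531 s9u702 s9c703 rfl
theorem s9u704 : ∀ v, 1 ≤ v → v ≤ 210821 → fs9 v = true := slots_step fs9 210531 290 210821 s9u703 s9c704 rfl
theorem s9u705 : ∀ v, 1 ≤ v → v ≤ 211083 → fs9 v = true := slots_step fs9 210821 262 211083 s9u704 s9c705 rfl
theorem s9u706 : ∀ v, 1 ≤ v → v ≤ 211339 → fs9 v = true := slots_step fs9 211083 256 211339 s9u705 s9c706 rfl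
theorem s9u707 : ∀ v, 1 ≤ v → v ≤ 211588 → fs9 v = true := slots_step fs9 211339 249 211588 s9u706 s9c707 rfl
theorem s9u708 : ∀ v, 1 ≤ v → v ≤ 211845 → fs9 v = true := slots_step fs9 211588 257 211845 s9u707 s9c708 rfl
theorem s9u709 : ∀ v, 1 ≤ v → v ≤ 212116 → fs9 v = true := slots_step fs9 211845 271 212116 s9u708 s9c709 rfl
theorem s9u710 : ∀ v, 1 ≤ v → v ≤ 212380 → fs9 v = true := slots_step fs9 212116 264 212380 s9u709 s9c710 rfl
theorem s9u711 : ∀ v, 1 ≤ v → v ≤ 212640 → fs9 v = true := slots_step fs9 212380 260 212640 s9u710 s9c711 rfl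
theorem s9u712 : ∀ v, 1 ≤ v → v ≤ 212908 → fs9 v = true := slots_step fs9 212640 268 212908 s9u711 s9c712 rfl
theorem s9u713 : ∀ v, 1 ≤ v → v ≤ 213180 → fs9 v = true := slots_step fs9 212908 272 213180 s9u712 s9c713 rfl
theorem s9u714 : ∀ v, 1 ≤ v → v ≤ 213444 → fs9 v = true := slots_step fs9 213180 264 213444 s9u713 s9c714 rfl
theorem s9u715 : ∀ v, 1 ≤ v → v ≤ 213706 → fs9 v = true := slots_step fs9 213444 262 213706 s9u714 s9c715 rfl
theorem s9u716 : ∀ v, 1 ≤ v → v ≤ 213969 → fs9 v = true := slots_step fs9 213706 263 213969 s9u715 s9c716 rfl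
theorem s9u717 : ∀ v, 1 ≤ v → v ≤ 214223 → fs9 v = true := slots_step fs9 213969 254 214223 s9u716 s9c717 rfl
theorem s9u718 : ∀ v, 1 ≤ v → v ≤ 214490 → fs9 v = true := slots_step fs9 214223 267 214490 s9u717 s9c718 rfl
theorem s9u719 : ∀ v, 1 ≤ v → v ≤ 214760 → fs9 v = true := slots_step fs9 214490 270 214760 s9u718 s9c719 rfl
theorem s9u720 : ∀ v, 1 ≤ v → v ≤ 215026 → fs9 v = true := slots_step fs9 214760 266 215026 s9u719 s9c720 rfl
theorem s9u721 : ∀ v, 1 ≤ v → v ≤ 215282 → fs9 v = true := slots_step fs9 215026 256 215282 s9u720 s9c721 rfl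
theorem s9u722 : ∀ v, 1 ≤ v → v ≤ 215559 → fs9 v = true := slots_step fs9 215282 277 215559 s9u721 s9c722 rfl
theorem s9u723 : ∀ v, 1 ≤ v → v ≤ 215826 → fs9 v = true := slots_step fs9 215559 267 215826 s9u722 s9c723 rfl
theorem s9u724 : ∀ v, 1 ≤ v → v ≤ 216107 → fs9 v = true := slots_step fs9 215826 281 216107 s9u723 s9c724 rfl
theorem s9u725 : ∀ v, 1 ≤ v → v ≤ 216363 → fs9 v = true := slots_step fs9 216107 256 216363 s9u724 s9c725 rfl
theorem s9u726 : ∀ v, 1 ≤ v → v ≤ 216634 → fs9 v = true := slots_step fs9 216363 271 216634 s9u725 s9c726 rfl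
theorem s9u727 : ∀ v, 1 ≤ v → v ≤ 216912 → fs9 v = true := slots_step fs9 216634 278 216912 s9u726 s9c727 rfl
theorem s9u728 : ∀ v, 1 ≤ v → v ≤ 217188 → fs9 v = true := slots_step fs9 216912 276 217188 s9u727 s9c728 rfl
theorem s9u729 : ∀ v, 1 ≤ v → v ≤ 217463 → fs9 v = true := slots_step fs9 217188 275 217463 s9u728 s9c729 rfl
theorem s9u730 : ∀ v, 1 ≤ v → v ≤ 217740 → fs9 v = true := slots_step fs9 217463 277 217740 s9u729 s9c730 rfl
theorem s9u731 : ∀ v, 1 ≤ v → v ≤ 218017 → fs9 v = true := slots_step fs9 217740 277 218017 s9u730 s9c731 rfl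
theorem s9u732 : ∀ v, 1 ≤ v → v ≤ 218293 → fs9 v = true := slots_step fs9 218017 276 218293 s9u731 s9c732 rfl
theorem s9u733 : ∀ v, 1 ≤ v → v ≤ 218578 → fs9 v = true := slots_step fs9 218293 285 218578 s9u732 s9c733 rfl
theorem s9u734 : ∀ v, 1 ≤ v → v ≤ 218866 → fs9 v = true := slots_step fs9 218578 288 218866 s9u733 s9c734 rfl
theorem s9u735 : ∀ v, 1 ≤ v → v ≤ 219147 → fs9 v = true := slots_step fs9 218866 281 219147 s9u734 s9c735 rfl
theorem s9u736 : ∀ v, 1 ≤ v → v ≤ 219447 → fs9 v = true := slots_step fs9 219147 300 219447 s9u735 s9c736 rfl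
theorem s9u737 : ∀ v, 1 ≤ v → v ≤ 219744 → fs9 v = true := slots_step fs9 219447 297 219744 s9u736 s9c737 rfl
theorem s9u738 : ∀ v, 1 ≤ v → v ≤ 220046 → fs9 v = true := slots_step fs9 219744 302 220046 s9u737 s9c738 rfl
theorem s9u739 : ∀ v, 1 ≤ v → v ≤ 220340 → fs9 v = true := slots_step fs9 220046 294 220340 s9u738 s9c739 rfl
theorem s9u740 : ∀ v, 1 ≤ v → v ≤ 220640 → fs9 v = true := slots_step fs9 220340 300 220640 s9u739 s9c740 rfl
theorem s9u741 : ∀ v, 1 ≤ v → v ≤ 220947 → fs9 v = true := slots_step fs9 220640 307 220947 s9u740 s9c741 rfl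
theorem s9u742 : ∀ v, 1 ≤ v → v ≤ 221252 → fs9 v = true := slots_step fs9 220947 305 221252 s9u741 s9c742 rfl
theorem s9u743 : ∀ v, 1 ≤ v → v ≤ 221517 → fs9 v = true := slots_step fs9 221252 265 221517 s9u742 s9c743 rfl
theorem s9u744 : ∀ v, 1 ≤ v → v ≤ 221767 → fs9 v = true := slots_step fs9 221517 250 221767 s9u743 s9c744 rfl
theorem s9u745 : ∀ v, 1 ≤ v → v ≤ 222028 → fs9 v = true := slots_step fs9 221767 261 222028 s9u744 s9c745 rfl
theorem s9u746 : ∀ v, 1 ≤ v → v ≤ 222281 → fs9 v = true := slots_step fs9 222028 253 222281 s9u745 s9c746 rfl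
theorem s9u747 : ∀ v, 1 ≤ v → v ≤ 222539 → fs9 v = true := slots_step fs9 222281 258 222539 s9u746 s9c747 rfl
theorem s9u748 : ∀ v, 1 ≤ v → v ≤ 222790 → fs9 v = true := slots_step fs9 222539 251 222790 s9u747 s9c748 rfl
theorem s9u749 : ∀ v, 1 ≤ v → v ≤ 223021 → fs9 v = true := slots_step fs9 222790 231 223021 s9u748 s9c749 rfl
theorem s9u750 : ∀ v, 1 ≤ v → v ≤ 223253 → fs9 v = true := slots_step fs9 223021 232 223253 s9u749 s9c750 rfl
theorem s9u751 : ∀ v, 1 ≤ v → v ≤ 223482 → fs9 v = true := slots_step fs9 223253 229 223482 s9u750 s9c751 rfl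
theorem s9u752 : ∀ v, 1 ≤ v → v ≤ 223710 → fs9 v = true := slots_step fs9 223482 228 223710 s9u751 s9c752 rfl
theorem s9u753 : ∀ v, 1 ≤ v → v ≤ 223949 → fs9 v = true := slots_step fs9 223710 239 223949 s9u752 s9c753 rfl
theorem s9u754 : ∀ v, 1 ≤ v → v ≤ 224192 → fs9 v = true := slots_step fs9 223949 243 224192 s9u753 s9c754 rfl
theorem s9u755 : ∀ v, 1 ≤ v → v ≤ 224429 → fs9 v = true := slots_step fs9 224192 237 224429 s9u754 s9c755 rfl
theorem s9u756 : ∀ v, 1 ≤ v → v ≤ 224667 → fs9 v = true := slots_step fs9 224429 238 224667 s9u755 s9c756 rfl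
theorem s9u757 : ∀ v, 1 ≤ v → v ≤ 224908 → fs9 v = true := slots_step fs9 224667 241 224908 s9u756 s9c757 rfl
theorem s9u758 : ∀ v, 1 ≤ v → v ≤ 225157 → fs9 v = true := slots_step fs9 224908 249 225157 s9u757 s9c758 rfl
theorem s9u759 : ∀ v, 1 ≤ v → v ≤ 225403 → fs9 v = true := slots_step fs9 225157 246 225403 s9u758 s9c759 rfl
theorem s9u760 : ∀ v, 1 ≤ v → v ≤ 225655 → fs9 v = true := slots_step fs9 225403 252 225655 s9u759 s9c760 rfl
theorem s9u761 : ∀ v, 1 ≤ v → v ≤ 225901 → fs9 v = true := slots_step fs9 225655 246 225901 s9u760 s9c761 rfl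
theorem s9u762 : ∀ v, 1 ≤ v → v ≤ 226159 → fs9 v = true := slots_step fs9 225901 258 226159 s9u761 s9c762 rfl
theorem s9u763 : ∀ v, 1 ≤ v → v ≤ 226422 → fs9 v = true := slots_step fs9 226159 263 226422 s9u762 s9c763 rfl
theorem s9u764 : ∀ v, 1 ≤ v → v ≤ 226686 → fs9 v = true := slots_step fs9 226422 264 226686 s9u763 s9c764 rfl
theorem s9u765 : ∀ v, 1 ≤ v → v ≤ 226933 → fs9 v = true := slots_step fs9 226686 247 226933 s9u764 s9c765 rfl
theorem s9u766 : ∀ v, 1 ≤ v → v ≤ 227195 → fs9 v = true := slots_step fs9 226933 262 227195 s9u765 s9c766 rfl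
theorem s9u767 : ∀ v, 1 ≤ v → v ≤ 227455 → fs9 v = true := slots_step fs9 227195 260 227455 s9u766 s9c767 rfl
theorem s9u768 : ∀ v, 1 ≤ v → v ≤ 227706 → fs9 v = true := slots_step fs9 227455 251 227706 s9u767 s9c768 rfl
theorem s9u769 : ∀ v, 1 ≤ v → v ≤ 227973 → fs9 v = true := slots_step fs9 227706 267 227973 s9u768 s9c769 rfl
theorem s9u770 : ∀ v, 1 ≤ v → v ≤ 228229 → fs9 v = true := slots_step fs9 227973 256 228229 s9u769 s9c770 rfl
theorem s9u771 : ∀ v, 1 ≤ v → v ≤ 228480 → fs9 v = true := slots_step fs9 228229 251 228480 s9u770 s9c771 rfl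
theorem s9u772 : ∀ v, 1 ≤ v → v ≤ 228739 → fs9 v = true := slots_step fs9 228480 259 228739 s9u771 s9c772 rfl
theorem s9u773 : ∀ v, 1 ≤ v → v ≤ 228994 → fs9 v = true := slots_step fs9 228739 255 228994 s9u772 s9c773 rfl
theorem s9u774 : ∀ v, 1 ≤ v → v ≤ 229263 → fs9 v = true := slots_step fs9 228994 269 229263 s9u773 s9c774 rfl
theorem s9u775 : ∀ v, 1 ≤ v → v ≤ 229522 → fs9 v = true := slots_step fs9 229263 259 229522 s9u774 s9c775 rfl
theorem s9u776 : ∀ v, 1 ≤ v → v ≤ 229790 → fs9 v = true := slots_step fs9 229522 268 229790 s9u775 s9c776 rfl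
theorem s9u777 : ∀ v, 1 ≤ v → v ≤ 230052 → fs9 v = true := slots_step fs9 229790 262 230052 s9u776 s9c777 rfl
theorem s9u778 : ∀ v, 1 ≤ v → v ≤ 230308 → fs9 v = true := slots_step fs9 230052 256 230308 s9u777 s9c778 rfl
theorem s9u779 : ∀ v, 1 ≤ v → v ≤ 230554 → fs9 v = true := slots_step fs9 230308 246 230554 s9u778 s9c779 rfl
theorem s9u780 : ∀ v, 1 ≤ v → v ≤ 230804 → fs9 v = true := slots_step fs9 230554 250 230804 s9u779 s9c780 rfl
theorem s9u781 : ∀ v, 1 ≤ v → v ≤ 231043 → fs9 v = true := slots_step fs9 230804 239 231043 s9u780 s9c781 rfl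
theorem s9u782 : ∀ v, 1 ≤ v → v ≤ 231286 → fs9 v = true := slots_step fs9 231043 243 231286 s9u781 s9c782 rfl
theorem s9u783 : ∀ v, 1 ≤ v → v ≤ 231524 → fs9 v = true := slots_step fs9 231286 238 231524 s9u782 s9c783 rfl
theorem s9u784 : ∀ v, 1 ≤ v → v ≤ 231778 → fs9 v = true := slots_step fs9 231524 254 231778 s9u783 s9c784 rfl
theorem s9u785 : ∀ v, 1 ≤ v → v ≤ 232073 → fs9 v = true := slots_step fs9 231778 295 232073 s9u784 s9c785 rfl
theorem s9u786 : ∀ v, 1 ≤ v → v ≤ 232364 → fs9 v = true := slots_step fs9 232073 291 232364 s9u785 s9c786 rfl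
theorem s9u787 : ∀ v, 1 ≤ v → v ≤ 232669 → fs9 v = true := slots_step fs9 232364 305 232669 s9u786 s9c787 rfl
theorem s9u788 : ∀ v, 1 ≤ v → v ≤ 232967 → fs9 v = true := slots_step fs9 232669 298 232967 s9u787 s9c788 rfl
theorem s9u789 : ∀ v, 1 ≤ v → v ≤ 233258 → fs9 v = true := slots_step fs9 232967 291 233258 s9u788 s9c789 rfl
theorem s9u790 : ∀ v, 1 ≤ v → v ≤ 233546 → fs9 v = true := slots_step fs9 233258 288 233546 s9u789 s9c790 rfl
theorem s9u791 : ∀ v, 1 ≤ v → v ≤ 233835 → fs9 v = true := slots_step fs9 233546 289 233835 s9u790 s9c791 rfl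
theorem s9u792 : ∀ v, 1 ≤ v → v ≤ 234118 → fs9 v = true := slots_step fs9 233835 283 234118 s9u791 s9c792 rfl
theorem s9u793 : ∀ v, 1 ≤ v → v ≤ 234409 → fs9 v = true := slots_step fs9 234118 291 234409 s9u792 s9c793 rfl
theorem s9u794 : ∀ v, 1 ≤ v → v ≤ 234665 → fs9 v = true := slots_step fs9 234409 256 234665 s9u793 s9c794 rfl
theorem s9u795 : ∀ v, 1 ≤ v → v ≤ 234917 → fs9 v = true := slots_step fs9 234665 252 234917 s9u794 s9c795 rfl
theorem s9u796 : ∀ v, 1 ≤ v → v ≤ 235162 → fs9 v = true := slots_step fs9 234917 245 235162 s9u795 s9c796 rfl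
theorem s9u797 : ∀ v, 1 ≤ v → v ≤ 235427 → fs9 v = true := slots_step fs9 235162 265 235427 s9u796 s9c797 rfl
theorem s9u798 : ∀ v, 1 ≤ v → v ≤ 235699 → fs9 v = true := slots_step fs9 235427 272 235699 s9u797 s9c798 rfl
theorem s9u799 : ∀ v, 1 ≤ v → v ≤ 235962 → fs9 v = true := slots_step fs9 235699 263 235962 s9u798 s9c799 rfl
theorem s9u800 : ∀ v, 1 ≤ v → v ≤ 236222 → fs9 v = true := slots_step fs9 235962 260 236222 s9u799 s9c800 rfl
theorem s9u801 : ∀ v, 1 ≤ v → v ≤ 236486 → fs9 v = true := slots_step fs9 236222 264 236486 s9u800 s9c801 rfl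
theorem s9u802 : ∀ v, 1 ≤ v → v ≤ 236762 → fs9 v = true := slots_step fs9 236486 276 236762 s9u801 s9c802 rfl
theorem s9u803 : ∀ v, 1 ≤ v → v ≤ 237027 → fs9 v = true := slots_step fs9 236762 265 237027 s9u802 s9c803 rfl
theorem s9u804 : ∀ v, 1 ≤ v → v ≤ 237292 → fs9 v = true := slots_step fs9 237027 265 237292 s9u803 s9c804 rfl
theorem s9u805 : ∀ v, 1 ≤ v → v ≤ 237557 → fs9 v = true := slots_step fs9 237292 265 237557 s9u804 s9c805 rfl
theorem s9u806 : ∀ v, 1 ≤ v → v ≤ 237827 → fs9 v = true := slots_step fs9 237557 270 237827 s9u805 s9c806 rfl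
theorem s9u807 : ∀ v, 1 ≤ v → v ≤ 238083 → fs9 v = true := slots_step fs9 237827 256 238083 s9u806 s9c807 rfl
theorem s9u808 : ∀ v, 1 ≤ v → v ≤ 238344 → fs9 v = true := slots_step fs9 238083 261 238344 s9u807 s9c808 rfl
theorem s9u809 : ∀ v, 1 ≤ v → v ≤ 238615 → fs9 v = true := slots_step fs9 238344 271 238615 s9u808 s9c809 rfl
theorem s9u810 : ∀ v, 1 ≤ v → v ≤ 238883 → fs9 v = true := slots_step fs9 238615 268 238883 s9u809 s9c810 rfl
theorem s9u811 : ∀ v, 1 ≤ v → v ≤ 239136 → fs9 v = true := slots_step fs9 238883 253 239136 s9u810 s9c811 rfl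
theorem s9u812 : ∀ v, 1 ≤ v → v ≤ 239409 → fs9 v = true := slots_step fs9 239136 273 239409 s9u811 s9c812 rfl
theorem s9u813 : ∀ v, 1 ≤ v → v ≤ 239689 → fs9 v = true := slots_step fs9 239409 280 239689 s9u812 s9c813 rfl
theorem s9u814 : ∀ v, 1 ≤ v → v ≤ 239956 → fs9 v = true := slots_step fs9 239689 267 239956 s9u813 s9c814 rfl
theorem s9u815 : ∀ v, 1 ≤ v → v ≤ 240236 → fs9 v = true := slots_step fs9 239956 280 240236 s9u814 s9c815 rfl
theorem s9u816 : ∀ v, 1 ≤ v → v ≤ 240497 → fs9 v = true := slots_step fs9 240236 261 240497 s9u815 s9c816 rfl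
theorem s9u817 : ∀ v, 1 ≤ v → v ≤ 240772 → fs9 v = true := slots_step fs9 240497 275 240772 s9u816 s9c817 rfl
theorem s9u818 : ∀ v, 1 ≤ v → v ≤ 241047 → fs9 v = true := slots_step fs9 240772 275 241047 s9u817 s9c818 rfl
theorem s9u819 : ∀ v, 1 ≤ v → v ≤ 241330 → fs9 v = true := slots_step fs9 241047 283 241330 s9u818 s9c819 rfl
theorem s9u820 : ∀ v, 1 ≤ v → v ≤ 241605 → fs9 v = true := slots_step fs9 241330 275 241605 s9u819 s9c820 rfl
theorem s9u821 : ∀ v, 1 ≤ v → v ≤ 241884 → fs9 v = true := slots_step fs9 241605 279 241884 s9u820 s9c821 rfl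
theorem s9u822 : ∀ v, 1 ≤ v → v ≤ 242158 → fs9 v = true := slots_step fs9 241884 274 242158 s9u821 s9c822 rfl
theorem s9u823 : ∀ v, 1 ≤ v → v ≤ 242443 → fs9 v = true := slots_step fs9 242158 285 242443 s9u822 s9c823 rfl
theorem s9u824 : ∀ v, 1 ≤ v → v ≤ 242718 → fs9 v = true := slots_step fs9 242443 275 242718 s9u823 s9c824 rfl
theorem s9u825 : ∀ v, 1 ≤ v → v ≤ 243006 → fs9 v = true := slots_step fs9 242718 288 243006 s9u824 s9c825 rfl
theorem s9u826 : ∀ v, 1 ≤ v → v ≤ 243299 → fs9 v = true := slots_step fs9 243006 293 243299 s9u825 s9c826 rfl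
theorem s9u827 : ∀ v, 1 ≤ v → v ≤ 243580 → fs9 v = true := slots_step fs9 243299 281 243580 s9u826 s9c827 rfl
theorem s9u828 : ∀ v, 1 ≤ v → v ≤ 243882 → fs9 v = true := slots_step fs9 243580 302 243882 s9u827 s9c828 rfl
theorem s9u829 : ∀ v, 1 ≤ v → v ≤ 244183 → fs9 v = true := slots_step fs9 243882 301 244183 s9u828 s9c829 rfl
theorem s9u830 : ∀ v, 1 ≤ v → v ≤ 244486 → fs9 v = true := slots_step fs9 244183 303 244486 s9u829 s9c830 rfl
theorem s9u831 : ∀ v, 1 ≤ v → v ≤ 244790 → fs9 v = true := slots_step fs9 244486 304 244790 s9u830 s9c831 rfl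
theorem s9u832 : ∀ v, 1 ≤ v → v ≤ 245093 → fs9 v = true := slots_step fs9 244790 303 245093 s9u831 s9c832 rfl
theorem s9u833 : ∀ v, 1 ≤ v → v ≤ 245392 → fs9 v = true := slots_step fs9 245093 299 245392 s9u832 s9c833 rfl
theorem s9u834 : ∀ v, 1 ≤ v → v ≤ 245672 → fs9 v = true := slots_step fs9 245392 280 245672 s9u833 s9c834 rfl
theorem s9u835 : ∀ v, 1 ≤ v → v ≤ 245923 → fs9 v = true := slots_step fs9 245672 251 245923 s9u834 s9c835 rfl
theorem s9u836 : ∀ v, 1 ≤ v → v ≤ 246176 → fs9 v = true := slots_step fs9 245923 253 246176 s9u835 s9c836 rfl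
theorem s9u837 : ∀ v, 1 ≤ v → v ≤ 246433 → fs9 v = true := slots_step fs9 246176 257 246433 s9u836 s9c837 rfl
theorem s9u838 : ∀ v, 1 ≤ v → v ≤ 246691 → fs9 v = true := slots_step fs9 246433 258 246691 s9u837 s9c838 rfl
theorem s9u839 : ∀ v, 1 ≤ v → v ≤ 246946 → fs9 v = true := slots_step fs9 246691 255 246946 s9u838 s9c839 rfl
theorem s9u840 : ∀ v, 1 ≤ v → v ≤ 247177 → fs9 v = true := slots_step fs9 246946 231 247177 s9u839 s9c840 rfl
theorem s9u841 : ∀ v, 1 ≤ v → v ≤ 247407 → fs9 v = true := slots_step fs9 247177 230 247407 s9u840 s9c841 rfl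
theorem s9u842 : ∀ v, 1 ≤ v → v ≤ 247635 → fs9 v = true := slots_step fs9 247407 228 247635 s9u841 s9c842 rfl
theorem s9u843 : ∀ v, 1 ≤ v → v ≤ 247862 → fs9 v = true := slots_step fs9 247635 227 247862 s9u842 s9c843 rfl
theorem s9u844 : ∀ v, 1 ≤ v → v ≤ 248096 → fs9 v = true := slots_step fs9 247862 234 248096 s9u843 s9c844 rfl
theorem s9u845 : ∀ v, 1 ≤ v → v ≤ 248336 → fs9 v = true := slots_step fs9 248096 240 248336 s9u844 s9c845 rfl
theorem s9u846 : ∀ v, 1 ≤ v → v ≤ 248578 → fs9 v = true := slots_step fs9 248336 242 248578 s9u845 s9c846 rfl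
theorem s9u847 : ∀ v, 1 ≤ v → v ≤ 248813 → fs9 v = true := slots_step fs9 248578 235 248813 s9u846 s9c847 rfl
theorem s9u848 : ∀ v, 1 ≤ v → v ≤ 249050 → fs9 v = true := slots_step fs9 248813 237 249050 s9u847 s9c848 rfl
theorem s9u849 : ∀ v, 1 ≤ v → v ≤ 249287 → fs9 v = true := slots_step fs9 249050 237 249287 s9u848 s9c849 rfl
theorem s9u850 : ∀ v, 1 ≤ v → v ≤ 249536 → fs9 v = true := slots_step fs9 249287 249 249536 s9u849 s9c850 rfl
theorem s9u851 : ∀ v, 1 ≤ v → v ≤ 249781 → fs9 v = true := slots_step fs9 249536 245 249781 s9u850 s9c851 rfl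
theorem s9u852 : ∀ v, 1 ≤ v → v ≤ 250030 → fs9 v = true := slots_step fs9 249781 249 250030 s9u851 s9c852 rfl
theorem s9u853 : ∀ v, 1 ≤ v → v ≤ 250277 → fs9 v = true := slots_step fs9 250030 247 250277 s9u852 s9c853 rfl
theorem s9u854 : ∀ v, 1 ≤ v → v ≤ 250530 → fs9 v = true := slots_step fs9 250277 253 250530 s9u853 s9c854 rfl
theorem s9u855 : ∀ v, 1 ≤ v → v ≤ 250794 → fs9 v = true := slots_step fs9 250530 264 250794 s9u854 s9c855 rfl
theorem s9u856 : ∀ v, 1 ≤ v → v ≤ 251056 → fs9 v = true := slots_step fs9 250794 262 251056 s9u855 s9c856 rfl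
theorem s9u857 : ∀ v, 1 ≤ v → v ≤ 251315 → fs9 v = true := slots_step fs9 251056 259 251315 s9u856 s9c857 rfl
theorem s9u858 : ∀ v, 1 ≤ v → v ≤ 251556 → fs9 v = true := slots_step fs9 251315 241 251556 s9u857 s9c858 rfl
theorem s9u859 : ∀ v, 1 ≤ v → v ≤ 251818 → fs9 v = true := slots_step fs9 251556 262 251818 s9u858 s9c859 rfl
theorem s9u860 : ∀ v, 1 ≤ v → v ≤ 252080 → fs9 v = true := slots_step fs9 251818 262 252080 s9u859 s9c860 rfl
theorem s9u861 : ∀ v, 1 ≤ v → v ≤ 252331 → fs9 v = true := slots_step fs9 252080 251 252331 s9u860 s9c861 rfl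
theorem s9u862 : ∀ v, 1 ≤ v → v ≤ 252595 → fs9 v = true := slots_step fs9 252331 264 252595 s9u861 s9c862 rfl
theorem s9u863 : ∀ v, 1 ≤ v → v ≤ 252850 → fs9 v = true := slots_step fs9 252595 255 252850 s9u862 s9c863 rfl
theorem s9u864 : ∀ v, 1 ≤ v → v ≤ 253091 → fs9 v = true := slots_step fs9 252850 241 253091 s9u863 s9c864 rfl
theorem s9u865 : ∀ v, 1 ≤ v → v ≤ 253355 → fs9 v = true := slots_step fs9 253091 264 253355 s9u864 s9c865 rfl
theorem s9u866 : ∀ v, 1 ≤ v → v ≤ 253602 → fs9 v = true := slots_step fs9 253355 247 253602 s9u865 s9c866 rfl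
theorem s9u867 : ∀ v, 1 ≤ v → v ≤ 253875 → fs9 v = true := slots_step fs9 253602 273 253875 s9u866 s9c867 rfl
theorem s9u868 : ∀ v, 1 ≤ v → v ≤ 254129 → fs9 v = true := slots_step fs9 253875 254 254129 s9u867 s9c868 rfl
theorem s9u869 : ∀ v, 1 ≤ v → v ≤ 254395 → fs9 v = true := slots_step fs9 254129 266 254395 s9u868 s9c869 rfl
theorem s9u870 : ∀ v, 1 ≤ v → v ≤ 254656 → fs9 v = true := slots_step fs9 254395 261 254656 s9u869 s9c870 rfl
theorem s9u871 : ∀ v, 1 ≤ v → v ≤ 254920 → fs9 v = true := slots_step fs9 254656 264 254920 s9u870 s9c871 rfl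
theorem s9u872 : ∀ v, 1 ≤ v → v ≤ 255166 → fs9 v = true := slots_step fs9 254920 246 255166 s9u871 s9c872 rfl
theorem s9u873 : ∀ v, 1 ≤ v → v ≤ 255414 → fs9 v = true := slots_step fs9 255166 248 255414 s9u872 s9c873 rfl
theorem s9u874 : ∀ v, 1 ≤ v → v ≤ 255665 → fs9 v = true := slots_step fs9 255414 251 255665 s9u873 s9c874 rfl
theorem s9u875 : ∀ v, 1 ≤ v → v ≤ 255902 → fs9 v = true := slots_step fs9 255665 237 255902 s9u874 s9c875 rfl
theorem s9u876 : ∀ v, 1 ≤ v → v ≤ 256139 → fs9 v = true := slots_step fs9 255902 237 256139 s9u875 s9c876 rfl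
theorem s9u877 : ∀ v, 1 ≤ v → v ≤ 256382 → fs9 v = true := slots_step fs9 256139 243 256382 s9u876 s9c877 rfl
theorem s9u878 : ∀ v, 1 ≤ v → v ≤ 256637 → fs9 v = true := slots_step fs9 256382 255 256637 s9u877 s9c878 rfl
theorem s9u879 : ∀ v, 1 ≤ v → v ≤ 256927 → fs9 v = true := slots_step fs9 256637 290 256927 s9u878 s9c879 rfl
theorem s9u880 : ∀ v, 1 ≤ v → v ≤ 257208 → fs9 v = true := slots_step fs9 256927 281 257208 s9u879 s9c880 rfl
theorem s9u881 : ∀ v, 1 ≤ v → v ≤ 257511 → fs9 v = true := slots_step fs9 257208 303 257511 s9u880 s9c881 rfl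
theorem s9u882 : ∀ v, 1 ≤ v → v ≤ 257810 → fs9 v = true := slots_step fs9 257511 299 257810 s9u881 s9c882 rfl
theorem s9u883 : ∀ v, 1 ≤ v → v ≤ 258100 → fs9 v = true := slots_step fs9 257810 290 258100 s9u882 s9c883 rfl
theorem s9u884 : ∀ v, 1 ≤ v → v ≤ 258395 → fs9 v = true := slots_step fs9 258100 295 258395 s9u883 s9c884 rfl
theorem s9u885 : ∀ v, 1 ≤ v → v ≤ 258683 → fs9 v = true := slots_step fs9 258395 288 258683 s9u884 s9c885 rfl
theorem s9u886 : ∀ v, 1 ≤ v → v ≤ 258959 → fs9 v = true := slots_step fs9 258683 276 258959 s9u885 s9c886 rfl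
theorem s9u887 : ∀ v, 1 ≤ v → v ≤ 259251 → fs9 v = true := slots_step fs9 258959 292 259251 s9u886 s9c887 rfl
theorem s9u888 : ∀ v, 1 ≤ v → v ≤ 259511 → fs9 v = true := slots_step fs9 259251 260 259511 s9u887 s9c888 rfl
theorem s9u889 : ∀ v, 1 ≤ v → v ≤ 259766 → fs9 v = true := slots_step fs9 259511 255 259766 s9u888 s9c889 rfl
theorem s9u890 : ∀ v, 1 ≤ v → v ≤ 260013 → fs9 v = true := slots_step fs9 259766 247 260013 s9u889 s9c890 rfl
theorem s9u891 : ∀ v, 1 ≤ v → v ≤ 260251 → fs9 v = true := slots_step fs9 260013 238 260251 s9u890 s9c891 rfl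
theorem s9u892 : ∀ v, 1 ≤ v → v ≤ 260538 → fs9 v = true := slots_step fs9 260251 287 260538 s9u891 s9c892 rfl
theorem s9u893 : ∀ v, 1 ≤ v → v ≤ 260808 → fs9 v = true := slots_step fs9 260538 270 260808 s9u892 s9c893 rfl
theorem s9u894 : ∀ v, 1 ≤ v → v ≤ 261068 → fs9 v = true := slots_step fs9 260808 260 261068 s9u893 s9c894 rfl
theorem s9u895 : ∀ v, 1 ≤ v → v ≤ 261327 → fs9 v = true := slots_step fs9 261068 259 261327 s9u894 s9c895 rfl
theorem s9u896 : ∀ v, 1 ≤ v → v ≤ 261590 → fs9 v = true := slots_step fs9 261327 263 261590 s9u895 s9c896 rfl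
theorem s9u897 : ∀ v, 1 ≤ v → v ≤ 261859 → fs9 v = true := slots_step fs9 261590 269 261859 s9u896 s9c897 rfl
theorem s9u898 : ∀ v, 1 ≤ v → v ≤ 262142 → fs9 v = true := slots_step fs9 261859 283 262142 s9u897 s9c898 rfl
theorem s9u899 : ∀ v, 1 ≤ v → v ≤ 262400 → fs9 v = true := slots_step fs9 262142 258 262400 s9u898 s9c899 rfl
theorem s9u900 : ∀ v, 1 ≤ v → v ≤ 262669 → fs9 v = true := slots_step fs9 262400 269 262669 s9u899 s9c900 rfl
theorem s9u901 : ∀ v, 1 ≤ v → v ≤ 262927 → fs9 v = true := slots_step fs9 262669 258 262927 s9u900 s9c901 rfl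
theorem s9u902 : ∀ v, 1 ≤ v → v ≤ 263201 → fs9 v = true := slots_step fs9 262927 274 263201 s9u901 s9c902 rfl
theorem s9u903 : ∀ v, 1 ≤ v → v ≤ 263453 → fs9 v = true := slots_step fs9 263201 252 263453 s9u902 s9c903 rfl
theorem s9u904 : ∀ v, 1 ≤ v → v ≤ 263718 → fs9 v = true := slots_step fs9 263453 265 263718 s9u903 s9c904 rfl
theorem s9u905 : ∀ v, 1 ≤ v → v ≤ 263991 → fs9 v = true := slots_step fs9 263718 273 263991 s9u904 s9c905 rfl
theorem s9u906 : ∀ v, 1 ≤ v → v ≤ 264253 → fs9 v = true := slots_step fs9 263991 262 264253 s9u905 s9c906 rfl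
theorem s9u907 : ∀ v, 1 ≤ v → v ≤ 264507 → fs9 v = true := slots_step fs9 264253 254 264507 s9u906 s9c907 rfl
theorem s9u908 : ∀ v, 1 ≤ v → v ≤ 264787 → fs9 v = true := slots_step fs9 264507 280 264787 s9u907 s9c908 rfl
theorem s9u909 : ∀ v, 1 ≤ v → v ≤ 265067 → fs9 v = true := slots_step fs9 264787 280 265067 s9u908 s9c909 rfl
theorem s9u910 : ∀ v, 1 ≤ v → v ≤ 265340 → fs9 v = true := slots_step fs9 265067 273 265340 s9u909 s9c910 rfl
theorem s9u911 : ∀ v, 1 ≤ v → v ≤ 265617 → fs9 v = true := slots_step fs9 265340 277 265617 s9u910 s9c911 rfl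
theorem s9u912 : ∀ v, 1 ≤ v → v ≤ 265876 → fs9 v = true := slots_step fs9 265617 259 265876 s9u911 s9c912 rfl
theorem s9u913 : ∀ v, 1 ≤ v → v ≤ 266154 → fs9 v = true := slots_step fs9 265876 278 266154 s9u912 s9c913 rfl
theorem s9u914 : ∀ v, 1 ≤ v → v ≤ 266428 → fs9 v = true := slots_step fs9 266154 274 266428 s9u913 s9c914 rfl
theorem s9u915 : ∀ v, 1 ≤ v → v ≤ 266714 → fs9 v = true := slots_step fs9 266428 286 266714 s9u914 s9c915 rfl
theorem s9u916 : ∀ v, 1 ≤ v → v ≤ 266994 → fs9 v = true := slots_step fs9 266714 280 266994 s9u915 s9c916 rfl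
theorem s9u917 : ∀ v, 1 ≤ v → v ≤ 267267 → fs9 v = true := slots_step fs9 266994 273 267267 s9u916 s9c917 rfl
theorem s9u918 : ∀ v, 1 ≤ v → v ≤ 267547 → fs9 v = true := slots_step fs9 267267 280 267547 s9u917 s9c918 rfl
theorem s9u919 : ∀ v, 1 ≤ v → v ≤ 267829 → fs9 v = true := slots_step fs9 267547 282 267829 s9u918 s9c919 rfl
theorem s9u920 : ∀ v, 1 ≤ v → v ≤ 268117 → fs9 v = true := slots_step fs9 267829 288 268117 s9u919 s9c920 rfl
theorem s9u921 : ∀ v, 1 ≤ v → v ≤ 268399 → fs9 v = true := slots_step fs9 268117 282 268399 s9u920 s9c921 rfl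
theorem s9u922 : ∀ v, 1 ≤ v → v ≤ 268687 → fs9 v = true := slots_step fs9 268399 288 268687 s9u921 s9c922 rfl
theorem s9u923 : ∀ v, 1 ≤ v → v ≤ 268969 → fs9 v = true := slots_step fs9 268687 282 268969 s9u922 s9c923 rfl
theorem s9u924 : ∀ v, 1 ≤ v → v ≤ 269277 → fs9 v = true := slots_step fs9 268969 308 269277 s9u923 s9c924 rfl
theorem s9u925 : ∀ v, 1 ≤ v → v ≤ 269580 → fs9 v = true := slots_step fs9 269277 303 269580 s9u924 s9c925 rfl
theorem s9u926 : ∀ v, 1 ≤ v → v ≤ 269884 → fs9 v = true := slots_step fs9 269580 304 269884 s9u925 s9c926 rfl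
theorem s9u927 : ∀ v, 1 ≤ v → v ≤ 270193 → fs9 v = true := slots_step fs9 269884 309 270193 s9u926 s9c927 rfl
theorem s9u928 : ∀ v, 1 ≤ v → v ≤ 270493 → fs9 v = true := slots_step fs9 270193 300 270493 s9u927 s9c928 rfl
theorem s9u929 : ∀ v, 1 ≤ v → v ≤ 270775 → fs9 v = true := slots_step fs9 270493 282 270775 s9u928 s9c929 rfl
theorem s9u930 : ∀ v, 1 ≤ v → v ≤ 271029 → fs9 v = true := slots_step fs9 270775 254 271029 s9u929 s9c930 rfl
theorem s9u931 : ∀ v, 1 ≤ v → v ≤ 271272 → fs9 v = true := slots_step fs9 271029 243 271272 s9u930 s9c931 rfl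
theorem s9u932 : ∀ v, 1 ≤ v → v ≤ 271525 → fs9 v = true := slots_step fs9 271272 253 271525 s9u931 s9c932 rfl
theorem s9u933 : ∀ v, 1 ≤ v → v ≤ 271784 → fs9 v = true := slots_step fs9 271525 259 271784 s9u932 s9c933 rfl
theorem s9u934 : ∀ v, 1 ≤ v → v ≤ 272047 → fs9 v = true := slots_step fs9 271784 263 272047 s9u933 s9c934 rfl
theorem s9u935 : ∀ v, 1 ≤ v → v ≤ 272288 → fs9 v = true := slots_step fs9 272047 241 272288 s9u934 s9c935 rfl
theorem s9u936 : ∀ v, 1 ≤ v → v ≤ 272519 → fs9 v = true := slots_step fs9 272288 231 272519 s9u935 s9c936 rfl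
theorem s9u937 : ∀ v, 1 ≤ v → v ≤ 272747 → fs9 v = true := slots_step fs9 272519 228 272747 s9u936 s9c937 rfl
theorem s9u938 : ∀ v, 1 ≤ v → v ≤ 272975 → fs9 v = true := slots_step fs9 272747 228 272975 s9u937 s9c938 rfl
theorem s9u939 : ∀ v, 1 ≤ v → v ≤ 273201 → fs9 v = true := slots_step fs9 272975 226 273201 s9u938 s9c939 rfl
theorem s9u940 : ∀ v, 1 ≤ v → v ≤ 273433 → fs9 v = true := slots_step fs9 273201 232 273433 s9u939 s9c940 rfl
theorem s9u941 : ∀ v, 1 ≤ v → v ≤ 273671 → fs9 v = true := slots_step fs9 273433 238 273671 s9u940 s9c941 rfl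
theorem s9u942 : ∀ v, 1 ≤ v → v ≤ 273914 → fs9 v = true := slots_step fs9 273671 243 273914 s9u941 s9c942 rfl
theorem s9u943 : ∀ v, 1 ≤ v → v ≤ 274150 → fs9 v = true := slots_step fs9 273914 236 274150 s9u942 s9c943 rfl
theorem s9u944 : ∀ v, 1 ≤ v → v ≤ 274382 → fs9 v = true := slots_step fs9 274150 232 274382 s9u943 s9c944 rfl
theorem s9u945 : ∀ v, 1 ≤ v → v ≤ 274615 → fs9 v = true := slots_step fs9 274382 233 274615 s9u944 s9c945 rfl
theorem s9u946 : ∀ v, 1 ≤ v → v ≤ 274857 → fs9 v = true := slots_step fs9 274615 242 274857 s9u945 s9c946 rfl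
theorem s9u947 : ∀ v, 1 ≤ v → v ≤ 275099 → fs9 v = true := slots_step fs9 274857 242 275099 s9u946 s9c947 rfl
theorem s9u948 : ∀ v, 1 ≤ v → v ≤ 275347 → fs9 v = true := slots_step fs9 275099 248 275347 s9u947 s9c948 rfl
theorem s9u949 : ∀ v, 1 ≤ v → v ≤ 275582 → fs9 v = true := slots_step fs9 275347 235 275582 s9u948 s9c949 rfl
theorem s9u950 : ∀ v, 1 ≤ v → v ≤ 275836 → fs9 v = true := slots_step fs9 275582 254 275836 s9u949 s9c950 rfl
theorem s9u951 : ∀ v, 1 ≤ v → v ≤ 276089 → fs9 v = true := slots_step fs9 275836 253 276089 s9u950 s9c951 rfl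
theorem s9u952 : ∀ v, 1 ≤ v → v ≤ 276346 → fs9 v = true := slots_step fs9 276089 257 276346 s9u951 s9c952 rfl
theorem s9u953 : ∀ v, 1 ≤ v → v ≤ 276603 → fs9 v = true := slots_step fs9 276346 257 276603 s9u952 s9c953 rfl
theorem s9u954 : ∀ v, 1 ≤ v → v ≤ 276868 → fs9 v = true := slots_step fs9 276603 265 276868 s9u953 s9c954 rfl
theorem s9u955 : ∀ v, 1 ≤ v → v ≤ 277119 → fs9 v = true := slots_step fs9 276868 251 277119 s9u954 s9c955 rfl
theorem s9u956 : ∀ v, 1 ≤ v → v ≤ 277375 → fs9 v = true := slots_step fs9 277119 256 277375 s9u955 s9c956 rfl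
theorem s9u957 : ∀ v, 1 ≤ v → v ≤ 277632 → fs9 v = true := slots_step fs9 277375 257 277632 s9u956 s9c957 rfl
theorem s9u958 : ∀ v, 1 ≤ v → v ≤ 277882 → fs9 v = true := slots_step fs9 277632 250 277882 s9u957 s9c958 rfl
theorem s9u959 : ∀ v, 1 ≤ v → v ≤ 278137 → fs9 v = true := slots_step fs9 277882 255 278137 s9u958 s9c959 rfl
theorem s9u960 : ∀ v, 1 ≤ v → v ≤ 278408 → fs9 v = true := slots_step fs9 278137 271 278408 s9u959 s9c960 rfl
theorem s9u961 : ∀ v, 1 ≤ v → v ≤ 278641 → fs9 v = true := slots_step fs9 278408 233 278641 s9u960 s9c961 rfl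
theorem s9u962 : ∀ v, 1 ≤ v → v ≤ 278897 → fs9 v = true := slots_step fs9 278641 256 278897 s9u961 s9c962 rfl
theorem s9u963 : ∀ v, 1 ≤ v → v ≤ 279146 → fs9 v = true := slots_step fs9 278897 249 279146 s9u962 s9c963 rfl
theorem s9u964 : ∀ v, 1 ≤ v → v ≤ 279412 → fs9 v = true := slots_step fs9 279146 266 279412 s9u963 s9c964 rfl
theorem s9u965 : ∀ v, 1 ≤ v → v ≤ 279674 → fs9 v = true := slots_step fs9 279412 262 279674 s9u964 s9c965 rfl
theorem s9u966 : ∀ v, 1 ≤ v → v ≤ 279932 → fs9 v = true := slots_step fs9 279674 258 279932 s9u965 s9c966 rfl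
theorem s9u967 : ∀ v, 1 ≤ v → v ≤ 280192 → fs9 v = true := slots_step fs9 279932 260 280192 s9u966 s9c967 rfl
theorem s9u968 : ∀ v, 1 ≤ v → v ≤ 280455 → fs9 v = true := slots_step fs9 280192 263 280455 s9u967 s9c968 rfl
theorem s9u969 : ∀ v, 1 ≤ v → v ≤ 280708 → fs9 v = true := slots_step fs9 280455 253 280708 s9u968 s9c969 rfl
theorem s9u970 : ∀ v, 1 ≤ v → v ≤ 280953 → fs9 v = true := slots_step fs9 280708 245 280953 s9u969 s9c970 rfl
theorem s9u971 : ∀ v, 1 ≤ v → v ≤ 281202 → fs9 v = true := slots_step fs9 280953 249 281202 s9u970 s9c971 rfl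
theorem s9u972 : ∀ v, 1 ≤ v → v ≤ 281442 → fs9 v = true := slots_step fs9 281202 240 281442 s9u971 s9c972 rfl
theorem s9u973 : ∀ v, 1 ≤ v → v ≤ 281680 → fs9 v = true := slots_step fs9 281442 238 281680 s9u972 s9c973 rfl
theorem s9u974 : ∀ v, 1 ≤ v → v ≤ 281920 → fs9 v = true := slots_step fs9 281680 240 281920 s9u973 s9c974 rfl
theorem s9u975 : ∀ v, 1 ≤ v → v ≤ 282166 → fs9 v = true := slots_step fs9 281920 246 282166 s9u974 s9c975 rfl
theorem s9u976 : ∀ v, 1 ≤ v → v ≤ 282438 → fs9 v = true := slots_step fs9 282166 272 282438 s9u975 s9c976 rfl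
theorem s9u977 : ∀ v, 1 ≤ v → v ≤ 282701 → fs9 v = true := slots_step fs9 282438 263 282701 s9u976 s9c977 rfl
theorem s9u978 : ∀ v, 1 ≤ v → v ≤ 282998 → fs9 v = true := slots_step fs9 282701 297 282998 s9u977 s9c978 rfl
theorem s9u979 : ∀ v, 1 ≤ v → v ≤ 283295 → fs9 v = true := slots_step fs9 282998 297 283295 s9u978 s9c979 rfl
theorem s9u980 : ∀ v, 1 ≤ v → v ≤ 283591 → fs9 v = true := slots_step fs9 283295 296 283591 s9u979 s9c980 rfl
theorem s9u981 : ∀ v, 1 ≤ v → v ≤ 283876 → fs9 v = true := slots_step fs9 283591 285 283876 s9u980 s9c981 rfl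
theorem s9u982 : ∀ v, 1 ≤ v → v ≤ 284157 → fs9 v = true := slots_step fs9 283876 281 284157 s9u981 s9c982 rfl
theorem s9u983 : ∀ v, 1 ≤ v → v ≤ 284445 → fs9 v = true := slots_step fs9 284157 288 284445 s9u982 s9c983 rfl
theorem s9u984 : ∀ v, 1 ≤ v → v ≤ 284735 → fs9 v = true := slots_step fs9 284445 290 284735 s9u983 s9c984 rfl
theorem s9u985 : ∀ v, 1 ≤ v → v ≤ 285008 → fs9 v = true := slots_step fs9 284735 273 285008 s9u984 s9c985 rfl
theorem s9u986 : ∀ v, 1 ≤ v → v ≤ 285259 → fs9 v = true := slots_step fs9 285008 251 285259 s9u985 s9c986 rfl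
theorem s9u987 : ∀ v, 1 ≤ v → v ≤ 285502 → fs9 v = true := slots_step fs9 285259 243 285502 s9u986 s9c987 rfl
theorem s9u988 : ∀ v, 1 ≤ v → v ≤ 285739 → fs9 v = true := slots_step fs9 285502 237 285739 s9u987 s9c988 rfl
theorem s9u989 : ∀ v, 1 ≤ v → v ≤ 286006 → fs9 v = true := slots_step fs9 285739 267 286006 s9u988 s9c989 rfl
theorem s9u990 : ∀ v, 1 ≤ v → v ≤ 286291 → fs9 v = true := slots_step fs9 286006 285 286291 s9u989 s9c990 rfl
theorem s9u991 : ∀ v, 1 ≤ v → v ≤ 286547 → fs9 v = true := slots_step fs9 286291 256 286547 s9u990 s9c991 rfl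
theorem s9u992 : ∀ v, 1 ≤ v → v ≤ 286803 → fs9 v = true := slots_step fs9 286547 256 286803 s9u991 s9c992 rfl
theorem s9u993 : ∀ v, 1 ≤ v → v ≤ 287065 → fs9 v = true := slots_step fs9 286803 262 287065 s9u992 s9c993 rfl
theorem s9u994 : ∀ v, 1 ≤ v → v ≤ 287328 → fs9 v = true := slots_step fs9 287065 263 287328 s9u993 s9c994 rfl
theorem s9u995 : ∀ v, 1 ≤ v → v ≤ 287595 → fs9 v = true := slots_step fs9 287328 267 287595 s9u994 s9c995 rfl
theorem s9u996 : ∀ v, 1 ≤ v → v ≤ 287881 → fs9 v = true := slots_step fs9 287595 286 287881 s9u995 s9c996 rfl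
theorem s9u997 : ∀ v, 1 ≤ v → v ≤ 288139 → fs9 v = true := slots_step fs9 287881 258 288139 s9u996 s9c997 rfl
theorem s9u998 : ∀ v, 1 ≤ v → v ≤ 288404 → fs9 v = true := slots_step fs9 288139 265 288404 s9u997 s9c998 rfl
theorem s9u999 : ∀ v, 1 ≤ v → v ≤ 288667 → fs9 v = true := slots_step fs9 288404 263 288667 s9u998 s9c999 rfl
theorem s9u1000 : ∀ v, 1 ≤ v → v ≤ 288941 → fs9 v = true := slots_step fs9 288667 274 288941 s9u999 s9c1000 rfl
theorem s9u1001 : ∀ v, 1 ≤ v → v ≤ 289192 → fs9 v = true := slots_step fs9 288941 251 289192 s9u1000 s9c1001 rfl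
theorem s9u1002 : ∀ v, 1 ≤ v → v ≤ 289451 → fs9 v = true := slots_step fs9 289192 259 289451 s9u1001 s9c1002 rfl
theorem s9u1003 : ∀ v, 1 ≤ v → v ≤ 289721 → fs9 v = true := slots_step fs9 289451 270 289721 s9u1002 s9c1003 rfl
theorem s9u1004 : ∀ v, 1 ≤ v → v ≤ 289981 → fs9 v = true := slots_step fs9 289721 260 289981 s9u1003 s9c1004 rfl
theorem s9u1005 : ∀ v, 1 ≤ v → v ≤ 290238 → fs9 v = true := slots_step fs9 289981 257 290238 s9u1004 s9c1005 rfl
theorem s9u1006 : ∀ v, 1 ≤ v → v ≤ 290518 → fs9 v = true := slots_step fs9 290238 280 290518 s9u1005 s9c1006 rfl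
theorem s9u1007 : ∀ v, 1 ≤ v → v ≤ 290798 → fs9 v = true := slots_step fs9 290518 280 290798 s9u1006 s9c1007 rfl
theorem s9u1008 : ∀ v, 1 ≤ v → v ≤ 291082 → fs9 v = true := slots_step fs9 290798 284 291082 s9u1007 s9c1008 rfl
theorem s9u1009 : ∀ v, 1 ≤ v → v ≤ 291337 → fs9 v = true := slots_step fs9 291082 255 291337 s9u1008 s9c1009 rfl
theorem s9u1010 : ∀ v, 1 ≤ v → v ≤ 291607 → fs9 v = true := slots_step fs9 291337 270 291607 s9u1009 s9c1010 rfl
theorem s9u1011 : ∀ v, 1 ≤ v → v ≤ 291891 → fs9 v = true := slots_step fs9 291607 284 291891 s9u1010 s9c1011 rfl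
theorem s9u1012 : ∀ v, 1 ≤ v → v ≤ 292170 → fs9 v = true := slots_step fs9 291891 279 292170 s9u1011 s9c1012 rfl
theorem s9u1013 : ∀ v, 1 ≤ v → v ≤ 292459 → fs9 v = true := slots_step fs9 292170 289 292459 s9u1012 s9c1013 rfl
theorem s9u1014 : ∀ v, 1 ≤ v → v ≤ 292734 → fs9 v = true := slots_step fs9 292459 275 292734 s9u1013 s9c1014 rfl
theorem s9u1015 : ∀ v, 1 ≤ v → v ≤ 293018 → fs9 v = true := slots_step fs9 292734 284 293018 s9u1014 s9c1015 rfl
theorem s9u1016 : ∀ v, 1 ≤ v → v ≤ 293294 → fs9 v = true := slots_step fs9 293018 276 293294 s9u1015 s9c1016 rfl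
theorem s9u1017 : ∀ v, 1 ≤ v → v ≤ 293586 → fs9 v = true := slots_step fs9 293294 292 293586 s9u1016 s9c1017 rfl
theorem s9u1018 : ∀ v, 1 ≤ v → v ≤ 293869 → fs9 v = true := slots_step fs9 293586 283 293869 s9u1017 s9c1018 rfl
theorem s9u1019 : ∀ v, 1 ≤ v → v ≤ 294163 → fs9 v = true := slots_step fs9 293869 294 294163 s9u1018 s9c1019 rfl
theorem s9u1020 : ∀ v, 1 ≤ v → v ≤ 294467 → fs9 v = true := slots_step fs9 294163 304 294467 s9u1019 s9c1020 rfl
theorem s9u1021 : ∀ v, 1 ≤ v → v ≤ 294771 → fs9 v = true := slots_step fs9 294467 304 294771 s9u1020 s9c1021 rfl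
theorem s9u1022 : ∀ v, 1 ≤ v → v ≤ 295074 → fs9 v = true := slots_step fs9 294771 303 295074 s9u1021 s9c1022 rfl
theorem s9u1023 : ∀ v, 1 ≤ v → v ≤ 295388 → fs9 v = true := slots_step fs9 295074 314 295388 s9u1022 s9c1023 rfl
theorem s9u1024 : ∀ v, 1 ≤ v → v ≤ 295674 → fs9 v = true := slots_step fs9 295388 286 295674 s9u1023 s9c1024 rfl
theorem s9u1025 : ∀ v, 1 ≤ v → v ≤ 295925 → fs9 v = true := slots_step fs9 295674 251 295925 s9u1024 s9c1025 rfl
theorem s9u1026 : ∀ v, 1 ≤ v → v ≤ 296158 → fs9 v = true := slots_step fs9 295925 233 296158 s9u1025 s9c1026 rfl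
theorem s9u1027 : ∀ v, 1 ≤ v → v ≤ 296408 → fs9 v = true := slots_step fs9 296158 250 296408 s9u1026 s9c1027 rfl
theorem s9u1028 : ∀ v, 1 ≤ v → v ≤ 296669 → fs9 v = true := slots_step fs9 296408 261 296669 s9u1027 s9c1028 rfl
theorem s9u1029 : ∀ v, 1 ≤ v → v ≤ 296929 → fs9 v = true := slots_step fs9 296669 260 296929 s9u1028 s9c1029 rfl
theorem s9u1030 : ∀ v, 1 ≤ v → v ≤ 297186 → fs9 v = true := slots_step fs9 296929 257 297186 s9u1029 s9c1030 rfl
theorem s9u1031 : ∀ v, 1 ≤ v → v ≤ 297416 → fs9 v = true := slots_step fs9 297186 230 297416 s9u1030 s9c1031 rfl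
theorem s9u1032 : ∀ v, 1 ≤ v → v ≤ 297644 → fs9 v = true := slots_step fs9 297416 228 297644 s9u1031 s9c1032 rfl
theorem s9u1033 : ∀ v, 1 ≤ v → v ≤ 297872 → fs9 v = true := slots_step fs9 297644 228 297872 s9u1032 s9c1033 rfl
theorem s9u1034 : ∀ v, 1 ≤ v → v ≤ 298100 → fs9 v = true := slots_step fs9 297872 228 298100 s9u1033 s9c1034 rfl
theorem s9u1035 : ∀ v, 1 ≤ v → v ≤ 298326 → fs9 v = true := slots_step fs9 298100 226 298326 s9u1034 s9c1035 rfl
theorem s9u1036 : ∀ v, 1 ≤ v → v ≤ 298558 → fs9 v = true := slots_step fs9 298326 232 298558 s9u1035 s9c1036 rfl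
theorem s9u1037 : ∀ v, 1 ≤ v → v ≤ 298795 → fs9 v = true := slots_step fs9 298558 237 298795 s9u1036 s9c1037 rfl
theorem s9u1038 : ∀ v, 1 ≤ v → v ≤ 299037 → fs9 v = true := slots_step fs9 298795 242 299037 s9u1037 s9c1038 rfl
theorem s9u1039 : ∀ v, 1 ≤ v → v ≤ 299273 → fs9 v = true := slots_step fs9 299037 236 299273 s9u1038 s9c1039 rfl
theorem s9u1040 : ∀ v, 1 ≤ v → v ≤ 299503 → fs9 v = true := slots_step fs9 299273 230 299503 s9u1039 s9c1040 rfl
theorem s9u1041 : ∀ v, 1 ≤ v → v ≤ 299735 → fs9 v = true := slots_step fs9 299503 232 299735 s9u1040 s9c1041 rfl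
theorem s9u1042 : ∀ v, 1 ≤ v → v ≤ 299972 → fs9 v = true := slots_step fs9 299735 237 299972 s9u1041 s9c1042 rfl
theorem s9u1043 : ∀ v, 1 ≤ v → v ≤ 300207 → fs9 v = true := slots_step fs9 299972 235 300207 s9u1042 s9c1043 rfl
theorem s9u1044 : ∀ v, 1 ≤ v → v ≤ 300446 → fs9 v = true := slots_step fs9 300207 239 300446 s9u1043 s9c1044 rfl
theorem s9u1045 : ∀ v, 1 ≤ v → v ≤ 300685 → fs9 v = true := slots_step fs9 300446 239 300685 s9u1044 s9c1045 rfl
theorem s9u1046 : ∀ v, 1 ≤ v → v ≤ 300935 → fs9 v = true := slots_step fs9 300685 250 300935 s9u1045 s9c1046 rfl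
theorem s9u1047 : ∀ v, 1 ≤ v → v ≤ 301184 → fs9 v = true := slots_step fs9 300935 249 301184 s9u1046 s9c1047 rfl
theorem s9u1048 : ∀ v, 1 ≤ v → v ≤ 301437 → fs9 v = true := slots_step fs9 301184 253 301437 s9u1047 s9c1048 rfl
theorem s9u1049 : ∀ v, 1 ≤ v → v ≤ 301696 → fs9 v = true := slots_step fs9 301437 259 301696 s9u1048 s9c1049 rfl
theorem s9u1050 : ∀ v, 1 ≤ v → v ≤ 301959 → fs9 v = true := slots_step fs9 301696 263 301959 s9u1049 s9c1050 rfl
theorem s9u1051 : ∀ v, 1 ≤ v → v ≤ 302209 → fs9 v = true := slots_step fs9 301959 250 302209 s9u1050 s9c1051 rfl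
theorem s9u1052 : ∀ v, 1 ≤ v → v ≤ 302456 → fs9 v = true := slots_step fs9 302209 247 302456 s9u1051 s9c1052 rfl
theorem s9u1053 : ∀ v, 1 ≤ v → v ≤ 302711 → fs9 v = true := slots_step fs9 302456 255 302711 s9u1052 s9c1053 rfl
theorem s9u1054 : ∀ v, 1 ≤ v → v ≤ 302962 → fs9 v = true := slots_step fs9 302711 251 302962 s9u1053 s9c1054 rfl
theorem s9u1055 : ∀ v, 1 ≤ v → v ≤ 303214 → fs9 v = true := slots_step fs9 302962 252 303214 s9u1054 s9c1055 rfl
theorem s9u1056 : ∀ v, 1 ≤ v → v ≤ 303471 → fs9 v = true := slots_step fs9 303214 257 303471 s9u1055 s9c1056 rfl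
theorem s9u1057 : ∀ v, 1 ≤ v → v ≤ 303708 → fs9 v = true := slots_step fs9 303471 237 303708 s9u1056 s9c1057 rfl
theorem s9u1058 : ∀ v, 1 ≤ v → v ≤ 303960 → fs9 v = true := slots_step fs9 303708 252 303960 s9u1057 s9c1058 rfl
theorem s9u1059 : ∀ v, 1 ≤ v → v ≤ 304221 → fs9 v = true := slots_step fs9 303960 261 304221 s9u1058 s9c1059 rfl
theorem s9u1060 : ∀ v, 1 ≤ v → v ≤ 304486 → fs9 v = true := slots_step fs9 304221 265 304486 s9u1059 s9c1060 rfl
theorem s9u1061 : ∀ v, 1 ≤ v → v ≤ 304743 → fs9 v = true := slots_step fs9 304486 257 304743 s9u1060 s9c1061 rfl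
theorem s9u1062 : ∀ v, 1 ≤ v → v ≤ 304995 → fs9 v = true := slots_step fs9 304743 252 304995 s9u1061 s9c1062 rfl
theorem s9u1063 : ∀ v, 1 ≤ v → v ≤ 305257 → fs9 v = true := slots_step fs9 304995 262 305257 s9u1062 s9c1063 rfl
theorem s9u1064 : ∀ v, 1 ≤ v → v ≤ 305499 → fs9 v = true := slots_step fs9 305257 242 305499 s9u1063 s9c1064 rfl
theorem s9u1065 : ∀ v, 1 ≤ v → v ≤ 305740 → fs9 v = true := slots_step fs9 305499 241 305740 s9u1064 s9c1065 rfl
theorem s9u1066 : ∀ v, 1 ≤ v → v ≤ 305990 → fs9 v = true := slots_step fs9 305740 250 305990 s9u1065 s9c1066 rfl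
theorem s9u1067 : ∀ v, 1 ≤ v → v ≤ 306224 → fs9 v = true := slots_step fs9 305990 234 306224 s9u1066 s9c1067 rfl
theorem s9u1068 : ∀ v, 1 ≤ v → v ≤ 306462 → fs9 v = true := slots_step fs9 306224 238 306462 s9u1067 s9c1068 rfl
theorem s9u1069 : ∀ v, 1 ≤ v → v ≤ 306704 → fs9 v = true := slots_step fs9 306462 242 306704 s9u1068 s9c1069 rfl
theorem s9u1070 : ∀ v, 1 ≤ v → v ≤ 306959 → fs9 v = true := slots_step fs9 306704 255 306959 s9u1069 s9c1070 rfl
theorem s9u1071 : ∀ v, 1 ≤ v → v ≤ 307202 → fs9 v = true := slots_step fs9 306959 243 307202 s9u1070 s9c1071 rfl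
theorem s9u1072 : ∀ v, 1 ≤ v → v ≤ 307480 → fs9 v = true := slots_step fs9 307202 278 307480 s9u1071 s9c1072 rfl
theorem s9u1073 : ∀ v, 1 ≤ v → v ≤ 307783 → fs9 v = true := slots_step fs9 307480 303 307783 s9u1072 s9c1073 rfl
theorem s9u1074 : ∀ v, 1 ≤ v → v ≤ 308075 → fs9 v = true := slots_step fs9 307783 292 308075 s9u1073 s9c1074 rfl
theorem s9u1075 : ∀ v, 1 ≤ v → v ≤ 308363 → fs9 v = true := slots_step fs9 308075 288 308363 s9u1074 s9c1075 rfl
theorem s9u1076 : ∀ v, 1 ≤ v → v ≤ 308639 → fs9 v = true := slots_step fs9 308363 276 308639 s9u1075 s9c1076 rfl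
theorem s9u1077 : ∀ v, 1 ≤ v → v ≤ 308921 → fs9 v = true := slots_step fs9 308639 282 308921 s9u1076 s9c1077 rfl
theorem s9u1078 : ∀ v, 1 ≤ v → v ≤ 309218 → fs9 v = true := slots_step fs9 308921 297 309218 s9u1077 s9c1078 rfl
theorem s9u1079 : ∀ v, 1 ≤ v → v ≤ 309465 → fs9 v = true := slots_step fs9 309218 247 309465 s9u1078 s9c1079 rfl
theorem s9u1080 : ∀ v, 1 ≤ v → v ≤ 309701 → fs9 v = true := slots_step fs9 309465 236 309701 s9u1079 s9c1080 rfl
theorem s9u1081 : ∀ v, 1 ≤ v → v ≤ 309932 → fs9 v = true := slots_step fs9 309701 231 309932 s9u1080 s9c1081 rfl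
theorem s9u1082 : ∀ v, 1 ≤ v → v ≤ 310212 → fs9 v = true := slots_step fs9 309932 280 310212 s9u1081 s9c1082 rfl
theorem s9u1083 : ∀ v, 1 ≤ v → v ≤ 310494 → fs9 v = true := slots_step fs9 310212 282 310494 s9u1082 s9c1083 rfl
theorem s9u1084 : ∀ v, 1 ≤ v → v ≤ 310745 → fs9 v = true := slots_step fs9 310494 251 310745 s9u1083 s9c1084 rfl
theorem s9u1085 : ∀ v, 1 ≤ v → v ≤ 311005 → fs9 v = true := slots_step fs9 310745 260 311005 s9u1084 s9c1085 rfl
theorem s9u1086 : ∀ v, 1 ≤ v → v ≤ 311266 → fs9 v = true := slots_step fs9 311005 261 311266 s9u1085 s9c1086 rfl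
theorem s9u1087 : ∀ v, 1 ≤ v → v ≤ 311527 → fs9 v = true := slots_step fs9 311266 261 311527 s9u1086 s9c1087 rfl
theorem s9u1088 : ∀ v, 1 ≤ v → v ≤ 311803 → fs9 v = true := slots_step fs9 311527 276 311803 s9u1087 s9c1088 rfl
theorem s9u1089 : ∀ v, 1 ≤ v → v ≤ 312079 → fs9 v = true := slots_step fs9 311803 276 312079 s9u1088 s9c1089 rfl
theorem s9u1090 : ∀ v, 1 ≤ v → v ≤ 312335 → fs9 v = true := slots_step fs9 312079 256 312335 s9u1089 s9c1090 rfl
theorem s9u1091 : ∀ v, 1 ≤ v → v ≤ 312600 → fs9 v = true := slots_step fs9 312335 265 312600 s9u1090 s9c1091 rfl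
theorem s9u1092 : ∀ v, 1 ≤ v → v ≤ 312873 → fs9 v = true := slots_step fs9 312600 273 312873 s9u1091 s9c1092 rfl
theorem s9u1093 : ∀ v, 1 ≤ v → v ≤ 313120 → fs9 v = true := slots_step fs9 312873 247 313120 s9u1092 s9c1093 rfl
theorem s9u1094 : ∀ v, 1 ≤ v → v ≤ 313381 → fs9 v = true := slots_step fs9 313120 261 313381 s9u1093 s9c1094 rfl
theorem s9u1095 : ∀ v, 1 ≤ v → v ≤ 313635 → fs9 v = true := slots_step fs9 313381 254 313635 s9u1094 s9c1095 rfl
theorem s9u1096 : ∀ v, 1 ≤ v → v ≤ 313903 → fs9 v = true := slots_step fs9 313635 268 313903 s9u1095 s9c1096 rfl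
theorem s9u1097 : ∀ v, 1 ≤ v → v ≤ 314192 → fs9 v = true := slots_step fs9 313903 289 314192 s9u1096 s9c1097 rfl
theorem s9u1098 : ∀ v, 1 ≤ v → v ≤ 314468 → fs9 v = true := slots_step fs9 314192 276 314468 s9u1097 s9c1098 rfl
theorem s9u1099 : ∀ v, 1 ≤ v → v ≤ 314724 → fs9 v = true := slots_step fs9 314468 256 314724 s9u1098 s9c1099 rfl
theorem s9u1100 : ∀ v, 1 ≤ v → v ≤ 315005 → fs9 v = true := slots_step fs9 314724 281 315005 s9u1099 s9c1100 rfl
theorem s9u1101 : ∀ v, 1 ≤ v → v ≤ 315285 → fs9 v = true := slots_step fs9 315005 280 315285 s9u1100 s9c1101 rfl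
theorem s9u1102 : ∀ v, 1 ≤ v → v ≤ 315572 → fs9 v = true := slots_step fs9 315285 287 315572 s9u1101 s9c1102 rfl
theorem s9u1103 : ∀ v, 1 ≤ v → v ≤ 315852 → fs9 v = true := slots_step fs9 315572 280 315852 s9u1102 s9c1103 rfl
theorem s9u1104 : ∀ v, 1 ≤ v → v ≤ 316138 → fs9 v = true := slots_step fs9 315852 286 316138 s9u1103 s9c1104 rfl
theorem s9u1105 : ∀ v, 1 ≤ v → v ≤ 316426 → fs9 v = true := slots_step fs9 316138 288 316426 s9u1104 s9c1105 rfl
theorem s9u1106 : ∀ v, 1 ≤ v → v ≤ 316718 → fs9 v = true := slots_step fs9 316426 292 316718 s9u1105 s9c1106 rfl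
theorem s9u1107 : ∀ v, 1 ≤ v → v ≤ 317015 → fs9 v = true := slots_step fs9 316718 297 317015 s9u1106 s9c1107 rfl
theorem s9u1108 : ∀ v, 1 ≤ v → v ≤ 317322 → fs9 v = true := slots_step fs9 317015 307 317322 s9u1107 s9c1108 rfl
theorem s9u1109 : ∀ v, 1 ≤ v → v ≤ 317625 → fs9 v = true := slots_step fs9 317322 303 317625 s9u1108 s9c1109 rfl
theorem s9u1110 : ∀ v, 1 ≤ v → v ≤ 317940 → fs9 v = true := slots_step fs9 317625 315 317940 s9u1109 s9c1110 rfl
theorem s9u1111 : ∀ v, 1 ≤ v → v ≤ 318202 → fs9 v = true := slots_step fs9 317940 262 318202 s9u1110 s9c1111 rfl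
theorem s9u1112 : ∀ v, 1 ≤ v → v ≤ 318432 → fs9 v = true := slots_step fs9 318202 230 318432 s9u1111 s9c1112 rfl
theorem s9u1113 : ∀ v, 1 ≤ v → v ≤ 318675 → fs9 v = true := slots_step fs9 318432 243 318675 s9u1112 s9c1113 rfl
theorem s9u1114 : ∀ v, 1 ≤ v → v ≤ 318933 → fs9 v = true := slots_step fs9 318675 258 318933 s9u1113 s9c1114 rfl
theorem s9u1115 : ∀ v, 1 ≤ v → v ≤ 319192 → fs9 v = true := slots_step fs9 318933 259 319192 s9u1114 s9c1115 rfl
theorem s9u1116 : ∀ v, 1 ≤ v → v ≤ 319453 → fs9 v = true := slots_step fs9 319192 261 319453 s9u1115 s9c1116 rfl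
theorem s9u1117 : ∀ v, 1 ≤ v → v ≤ 319685 → fs9 v = true := slots_step fs9 319453 232 319685 s9u1116 s9c1117 rfl
theorem s9u1118 : ∀ v, 1 ≤ v → v ≤ 319913 → fs9 v = true := slots_step fs9 319685 228 319913 s9u1117 s9c1118 rfl
theorem s9u1119 : ∀ v, 1 ≤ v → v ≤ 320141 → fs9 v = true := slots_step fs9 319913 228 320141 s9u1118 s9c1119 rfl
theorem s9u1120 : ∀ v, 1 ≤ v → v ≤ 320369 → fs9 v = true := slots_step fs9 320141 228 320369 s9u1119 s9c1120 rfl
theorem s9u1121 : ∀ v, 1 ≤ v → v ≤ 320595 → fs9 v = true := slots_step fs9 320369 226 320595 s9u1120 s9c1121 rfl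
theorem s9u1122 : ∀ v, 1 ≤ v → v ≤ 320826 → fs9 v = true := slots_step fs9 320595 231 320826 s9u1121 s9c1122 rfl
theorem s9u1123 : ∀ v, 1 ≤ v → v ≤ 321062 → fs9 v = true := slots_step fs9 320826 236 321062 s9u1122 s9c1123 rfl
theorem s9u1124 : ∀ v, 1 ≤ v → v ≤ 321300 → fs9 v = true := slots_step fs9 321062 238 321300 s9u1123 s9c1124 rfl
theorem s9u1125 : ∀ v, 1 ≤ v → v ≤ 321534 → fs9 v = true := slots_step fs9 321300 234 321534 s9u1124 s9c1125 rfl
theorem s9u1126 : ∀ v, 1 ≤ v → v ≤ 321763 → fs9 v = true := slots_step fs9 321534 229 321763 s9u1125 s9c1126 rfl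
theorem s9u1127 : ∀ v, 1 ≤ v → v ≤ 321997 → fs9 v = true := slots_step fs9 321763 234 321997 s9u1126 s9c1127 rfl
theorem s9u1128 : ∀ v, 1 ≤ v → v ≤ 322228 → fs9 v = true := slots_step fs9 321997 231 322228 s9u1127 s9c1128 rfl
theorem s9u1129 : ∀ v, 1 ≤ v → v ≤ 322460 → fs9 v = true := slots_step fs9 322228 232 322460 s9u1128 s9c1129 rfl
theorem s9u1130 : ∀ v, 1 ≤ v → v ≤ 322707 → fs9 v = true := slots_step fs9 322460 247 322707 s9u1129 s9c1130 rfl
theorem s9u1131 : ∀ v, 1 ≤ v → v ≤ 322953 → fs9 v = true := slots_step fs9 322707 246 322953 s9u1130 s9c1131 rfl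
theorem s9u1132 : ∀ v, 1 ≤ v → v ≤ 323198 → fs9 v = true := slots_step fs9 322953 245 323198 s9u1131 s9c1132 rfl
theorem s9u1133 : ∀ v, 1 ≤ v → v ≤ 323454 → fs9 v = true := slots_step fs9 323198 256 323454 s9u1132 s9c1133 rfl
theorem s9u1134 : ∀ v, 1 ≤ v → v ≤ 323712 → fs9 v = true := slots_step fs9 323454 258 323712 s9u1133 s9c1134 rfl
theorem s9u1135 : ∀ v, 1 ≤ v → v ≤ 323964 → fs9 v = true := slots_step fs9 323712 252 323964 s9u1134 s9c1135 rfl
theorem s9u1136 : ∀ v, 1 ≤ v → v ≤ 324206 → fs9 v = true := slots_step fs9 323964 242 324206 s9u1135 s9c1136 rfl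
theorem s9u1137 : ∀ v, 1 ≤ v → v ≤ 324459 → fs9 v = true := slots_step fs9 324206 253 324459 s9u1136 s9c1137 rfl
theorem s9u1138 : ∀ v, 1 ≤ v → v ≤ 324702 → fs9 v = true := slots_step fs9 324459 243 324702 s9u1137 s9c1138 rfl
theorem s9u1139 : ∀ v, 1 ≤ v → v ≤ 324945 → fs9 v = true := slots_step fs9 324702 243 324945 s9u1138 s9c1139 rfl
theorem s9u1140 : ∀ v, 1 ≤ v → v ≤ 325193 → fs9 v = true := slots_step fs9 324945 248 325193 s9u1139 s9c1140 rfl
theorem s9u1141 : ∀ v, 1 ≤ v → v ≤ 325446 → fs9 v = true := slots_step fs9 325193 253 325446 s9u1140 s9c1141 rfl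
theorem s9u1142 : ∀ v, 1 ≤ v → v ≤ 325708 → fs9 v = true := slots_step fs9 325446 262 325708 s9u1141 s9c1142 rfl
theorem s9u1143 : ∀ v, 1 ≤ v → v ≤ 325947 → fs9 v = true := slots_step fs9 325708 239 325947 s9u1142 s9c1143 rfl
theorem s9u1144 : ∀ v, 1 ≤ v → v ≤ 326202 → fs9 v = true := slots_step fs9 325947 255 326202 s9u1143 s9c1144 rfl
theorem s9u1145 : ∀ v, 1 ≤ v → v ≤ 326437 → fs9 v = true := slots_step fs9 326202 235 326437 s9u1144 s9c1145 rfl
theorem s9u1146 : ∀ v, 1 ≤ v → v ≤ 326684 → fs9 v = true := slots_step fs9 326437 247 326684 s9u1145 s9c1146 rfl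
theorem s9u1147 : ∀ v, 1 ≤ v → v ≤ 326921 → fs9 v = true := slots_step fs9 326684 237 326921 s9u1146 s9c1147 rfl
theorem s9u1148 : ∀ v, 1 ≤ v → v ≤ 327161 → fs9 v = true := slots_step fs9 326921 240 327161 s9u1147 s9c1148 rfl
theorem s9u1149 : ∀ v, 1 ≤ v → v ≤ 327398 → fs9 v = true := slots_step fs9 327161 237 327398 s9u1148 s9c1149 rfl
theorem s9u1150 : ∀ v, 1 ≤ v → v ≤ 327646 → fs9 v = true := slots_step fs9 327398 248 327646 s9u1149 s9c1150 rfl
theorem s9u1151 : ∀ v, 1 ≤ v → v ≤ 327895 → fs9 v = true := slots_step fs9 327646 249 327895 s9u1150 s9c1151 rfl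
theorem s9u1152 : ∀ v, 1 ≤ v → v ≤ 328197 → fs9 v = true := slots_step fs9 327895 302 328197 s9u1151 s9c1152 rfl
theorem s9u1153 : ∀ v, 1 ≤ v → v ≤ 328488 → fs9 v = true := slots_step fs9 328197 291 328488 s9u1152 s9c1153 rfl
theorem s9u1154 : ∀ v, 1 ≤ v → v ≤ 328760 → fs9 v = true := slots_step fs9 328488 272 328760 s9u1153 s9c1154 rfl
theorem s9u1155 : ∀ v, 1 ≤ v → v ≤ 329051 → fs9 v = true := slots_step fs9 328760 291 329051 s9u1154 s9c1155 rfl
theorem s9u1156 : ∀ v, 1 ≤ v → v ≤ 329316 → fs9 v = true := slots_step fs9 329051 265 329316 s9u1155 s9c1156 rfl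
theorem s9u1157 : ∀ v, 1 ≤ v → v ≤ 329550 → fs9 v = true := slots_step fs9 329316 234 329550 s9u1156 s9c1157 rfl
theorem s9u1158 : ∀ v, 1 ≤ v → v ≤ 329814 → fs9 v = true := slots_step fs9 329550 264 329814 s9u1157 s9c1158 rfl
theorem s9u1159 : ∀ v, 1 ≤ v → v ≤ 330097 → fs9 v = true := slots_step fs9 329814 283 330097 s9u1158 s9c1159 rfl
theorem s9u1160 : ∀ v, 1 ≤ v → v ≤ 330349 → fs9 v = true := slots_step fs9 330097 252 330349 s9u1159 s9c1160 rfl
theorem s9u1161 : ∀ v, 1 ≤ v → v ≤ 330604 → fs9 v = true := slots_step fs9 330349 255 330604 s9u1160 s9c1161 rfl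
theorem s9u1162 : ∀ v, 1 ≤ v → v ≤ 330870 → fs9 v = true := slots_step fs9 330604 266 330870 s9u1161 s9c1162 rfl
theorem s9u1163 : ∀ v, 1 ≤ v → v ≤ 331135 → fs9 v = true := slots_step fs9 330870 265 331135 s9u1162 s9c1163 rfl
theorem s9u1164 : ∀ v, 1 ≤ v → v ≤ 331410 → fs9 v = true := slots_step fs9 331135 275 331410 s9u1163 s9c1164 rfl
theorem s9u1165 : ∀ v, 1 ≤ v → v ≤ 331667 → fs9 v = true := slots_step fs9 331410 257 331667 s9u1164 s9c1165 rfl
theorem s9u1166 : ∀ v, 1 ≤ v → v ≤ 331932 → fs9 v = true := slots_step fs9 331667 265 331932 s9u1165 s9c1166 rfl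
theorem s9u1167 : ∀ v, 1 ≤ v → v ≤ 332186 → fs9 v = true := slots_step fs9 331932 254 332186 s9u1166 s9c1167 rfl
theorem s9u1168 : ∀ v, 1 ≤ v → v ≤ 332436 → fs9 v = true := slots_step fs9 332186 250 332436 s9u1167 s9c1168 rfl
theorem s9u1169 : ∀ v, 1 ≤ v → v ≤ 332721 → fs9 v = true := slots_step fs9 332436 285 332721 s9u1168 s9c1169 rfl
theorem s9u1170 : ∀ v, 1 ≤ v → v ≤ 332988 → fs9 v = true := slots_step fs9 332721 267 332988 s9u1169 s9c1170 rfl
theorem s9u1171 : ∀ v, 1 ≤ v → v ≤ 333256 → fs9 v = true := slots_step fs9 332988 268 333256 s9u1170 s9c1171 rfl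
theorem s9u1172 : ∀ v, 1 ≤ v → v ≤ 333534 → fs9 v = true := slots_step fs9 333256 278 333534 s9u1171 s9c1172 rfl
theorem s9u1173 : ∀ v, 1 ≤ v → v ≤ 333823 → fs9 v = true := slots_step fs9 333534 289 333823 s9u1172 s9c1173 rfl
theorem s9u1174 : ∀ v, 1 ≤ v → v ≤ 334107 → fs9 v = true := slots_step fs9 333823 284 334107 s9u1173 s9c1174 rfl
theorem s9u1175 : ∀ v, 1 ≤ v → v ≤ 334400 → fs9 v = true := slots_step fs9 334107 293 334400 s9u1174 s9c1175 rfl
theorem s9u1176 : ∀ v, 1 ≤ v → v ≤ 334706 → fs9 v = true := slots_step fs9 334400 306 334706 s9u1175 s9c1176 rfl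
theorem s9u1177 : ∀ v, 1 ≤ v → v ≤ 335013 → fs9 v = true := slots_step fs9 334706 307 335013 s9u1176 s9c1177 rfl
theorem s9u1178 : ∀ v, 1 ≤ v → v ≤ 335290 → fs9 v = true := slots_step fs9 335013 277 335290 s9u1177 s9c1178 rfl
theorem s9u1179 : ∀ v, 1 ≤ v → v ≤ 335516 → fs9 v = true := slots_step fs9 335290 226 335516 s9u1178 s9c1179 rfl
theorem s9u1180 : ∀ v, 1 ≤ v → v ≤ 335759 → fs9 v = true := slots_step fs9 335516 243 335759 s9u1179 s9c1180 rfl
theorem s9u1181 : ∀ v, 1 ≤ v → v ≤ 336019 → fs9 v = true := slots_step fs9 335759 260 336019 s9u1180 s9c1181 rfl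
theorem s9u1182 : ∀ v, 1 ≤ v → v ≤ 336281 → fs9 v = true := slots_step fs9 336019 262 336281 s9u1181 s9c1182 rfl
theorem s9u1183 : ∀ v, 1 ≤ v → v ≤ 336524 → fs9 v = true := slots_step fs9 336281 243 336524 s9u1182 s9c1183 rfl
theorem s9u1184 : ∀ v, 1 ≤ v → v ≤ 336752 → fs9 v = true := slots_step fs9 336524 228 336752 s9u1183 s9c1184 rfl
theorem s9u1185 : ∀ v, 1 ≤ v → v ≤ 336980 → fs9 v = true := slots_step fs9 336752 228 336980 s9u1184 s9c1185 rfl
theorem s9u1186 : ∀ v, 1 ≤ v → v ≤ 337207 → fs9 v = true := slots_step fs9 336980 227 337207 s9u1185 s9c1186 rfl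
theorem s9u1187 : ∀ v, 1 ≤ v → v ≤ 337433 → fs9 v = true := slots_step fs9 337207 226 337433 s9u1186 s9c1187 rfl
theorem s9u1188 : ∀ v, 1 ≤ v → v ≤ 337666 → fs9 v = true := slots_step fs9 337433 233 337666 s9u1187 s9c1188 rfl
theorem s9u1189 : ∀ v, 1 ≤ v → v ≤ 337865 → fs9 v = true := slots_step fs9 337666 199 337865 s9u1188 s9c1189 rfl
theorem s9u1190 : ∀ v, 1 ≤ v → v ≤ 338027 → fs9 v = true := slots_step fs9 337865 162 338027 s9u1189 s9c1190 rfl
theorem s9u1191 : ∀ v, 1 ≤ v → v ≤ 338256 → fs9 v = true := slots_step fs9 338027 229 338256 s9u1190 s9c1191 rfl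
theorem s9u1192 : ∀ v, 1 ≤ v → v ≤ 338485 → fs9 v = true := slots_step fs9 338256 229 338485 s9u1191 s9c1192 rfl
theorem s9u1193 : ∀ v, 1 ≤ v → v ≤ 338724 → fs9 v = true := slots_step fs9 338485 239 338724 s9u1192 s9c1193 rfl
theorem s9u1194 : ∀ v, 1 ≤ v → v ≤ 338962 → fs9 v = true := slots_step fs9 338724 238 338962 s9u1193 s9c1194 rfl
theorem s9u1195 : ∀ v, 1 ≤ v → v ≤ 339211 → fs9 v = true := slots_step fs9 338962 249 339211 s9u1194 s9c1195 rfl
theorem s9u1196 : ∀ v, 1 ≤ v → v ≤ 339461 → fs9 v = true := slots_step fs9 339211 250 339461 s9u1195 s9c1196 rfl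
theorem s9u1197 : ∀ v, 1 ≤ v → v ≤ 339706 → fs9 v = true := slots_step fs9 339461 245 339706 s9u1196 s9c1197 rfl
theorem s9u1198 : ∀ v, 1 ≤ v → v ≤ 339951 → fs9 v = true := slots_step fs9 339706 245 339951 s9u1197 s9c1198 rfl
theorem s9u1199 : ∀ v, 1 ≤ v → v ≤ 340195 → fs9 v = true := slots_step fs9 339951 244 340195 s9u1198 s9c1199 rfl
theorem s9u1200 : ∀ v, 1 ≤ v → v ≤ 340437 → fs9 v = true := slots_step fs9 340195 242 340437 s9u1199 s9c1200 rfl
theorem s9u1201 : ∀ v, 1 ≤ v → v ≤ 340697 → fs9 v = true := slots_step fs9 340437 260 340697 s9u1200 s9c1201 rfl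
theorem s9u1202 : ∀ v, 1 ≤ v → v ≤ 340941 → fs9 v = true := slots_step fs9 340697 244 340941 s9u1201 s9c1202 rfl
theorem s9u1203 : ∀ v, 1 ≤ v → v ≤ 341179 → fs9 v = true := slots_step fs9 340941 238 341179 s9u1202 s9c1203 rfl
theorem s9u1204 : ∀ v, 1 ≤ v → v ≤ 341420 → fs9 v = true := slots_step fs9 341179 241 341420 s9u1203 s9c1204 rfl
theorem s9u1205 : ∀ v, 1 ≤ v → v ≤ 341657 → fs9 v = true := slots_step fs9 341420 237 341657 s9u1204 s9c1205 rfl
theorem s9u1206 : ∀ v, 1 ≤ v → v ≤ 341898 → fs9 v = true := slots_step fs9 341657 241 341898 s9u1205 s9c1206 rfl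
theorem s9u1207 : ∀ v, 1 ≤ v → v ≤ 342166 → fs9 v = true := slots_step fs9 341898 268 342166 s9u1206 s9c1207 rfl
theorem s9u1208 : ∀ v, 1 ≤ v → v ≤ 342453 → fs9 v = true := slots_step fs9 342166 287 342453 s9u1207 s9c1208 rfl
theorem s9u1209 : ∀ v, 1 ≤ v → v ≤ 342733 → fs9 v = true := slots_step fs9 342453 280 342733 s9u1208 s9c1209 rfl
theorem s9u1210 : ∀ v, 1 ≤ v → v ≤ 343004 → fs9 v = true := slots_step fs9 342733 271 343004 s9u1209 s9c1210 rfl
theorem s9u1211 : ∀ v, 1 ≤ v → v ≤ 343252 → fs9 v = true := slots_step fs9 343004 248 343252 s9u1210 s9c1211 rfl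
theorem s9u1212 : ∀ v, 1 ≤ v → v ≤ 343530 → fs9 v = true := slots_step fs9 343252 278 343530 s9u1211 s9c1212 rfl
theorem s9u1213 : ∀ v, 1 ≤ v → v ≤ 343785 → fs9 v = true := slots_step fs9 343530 255 343785 s9u1212 s9c1213 rfl
theorem s9u1214 : ∀ v, 1 ≤ v → v ≤ 344048 → fs9 v = true := slots_step fs9 343785 263 344048 s9u1213 s9c1214 rfl
theorem s9u1215 : ∀ v, 1 ≤ v → v ≤ 344319 → fs9 v = true := slots_step fs9 344048 271 344319 s9u1214 s9c1215 rfl
theorem s9u1216 : ∀ v, 1 ≤ v → v ≤ 344572 → fs9 v = true := slots_step fs9 344319 253 344572 s9u1215 s9c1216 rfl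
theorem s9u1217 : ∀ v, 1 ≤ v → v ≤ 344836 → fs9 v = true := slots_step fs9 344572 264 344836 s9u1216 s9c1217 rfl
theorem s9u1218 : ∀ v, 1 ≤ v → v ≤ 345103 → fs9 v = true := slots_step fs9 344836 267 345103 s9u1217 s9c1218 rfl
theorem s9u1219 : ∀ v, 1 ≤ v → v ≤ 345371 → fs9 v = true := slots_step fs9 345103 268 345371 s9u1218 s9c1219 rfl
theorem s9u1220 : ∀ v, 1 ≤ v → v ≤ 345648 → fs9 v = true := slots_step fs9 345371 277 345648 s9u1219 s9c1220 rfl
theorem s9u1221 : ∀ v, 1 ≤ v → v ≤ 345944 → fs9 v = true := slots_step fs9 345648 296 345944 s9u1220 s9c1221 rfl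
theorem s9u1222 : ∀ v, 1 ≤ v → v ≤ 346246 → fs9 v = true := slots_step fs9 345944 302 346246 s9u1221 s9c1222 rfl
theorem s9u1223 : ∀ v, 1 ≤ v → v ≤ 346464 → fs9 v = true := slots_step fs9 346246 218 346464 s9u1222 s9c1223 rfl
theorem s9u1224 : ∀ v, 1 ≤ v → v ≤ 346705 → fs9 v = true := slots_step fs9 346464 241 346705 s9u1223 s9c1224 rfl
theorem s9u1225 : ∀ v, 1 ≤ v → v ≤ 346961 → fs9 v = true := slots_step fs9 346705 256 346961 s9u1224 s9c1225 rfl
theorem s9u1226 : ∀ v, 1 ≤ v → v ≤ 347220 → fs9 v = true := slots_step fs9 346961 259 347220 s9u1225 s9c1226 rfl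
theorem s9u1227 : ∀ v, 1 ≤ v → v ≤ 347448 → fs9 v = true := slots_step fs9 347220 228 347448 s9u1226 s9c1227 rfl
theorem s9u1228 : ∀ v, 1 ≤ v → v ≤ 347676 → fs9 v = true := slots_step fs9 347448 228 347676 s9u1227 s9c1228 rfl
theorem s9u1229 : ∀ v, 1 ≤ v → v ≤ 347903 → fs9 v = true := slots_step fs9 347676 227 347903 s9u1228 s9c1229 rfl
theorem s9u1230 : ∀ v, 1 ≤ v → v ≤ 348065 → fs9 v = true := slots_step fs9 347903 162 348065 s9u1229 s9c1230 rfl
theorem s9u1231 : ∀ v, 1 ≤ v → v ≤ 348228 → fs9 v = true := slots_step fs9 348065 163 348228 s9u1230 s9c1231 rfl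
theorem s9u1232 : ∀ v, 1 ≤ v → v ≤ 348458 → fs9 v = true := slots_step fs9 348228 230 348458 s9u1231 s9c1232 rfl
theorem s9u1233 : ∀ v, 1 ≤ v → v ≤ 348696 → fs9 v = true := slots_step fs9 348458 238 348696 s9u1232 s9c1233 rfl
theorem s9u1234 : ∀ v, 1 ≤ v → v ≤ 348942 → fs9 v = true := slots_step fs9 348696 246 348942 s9u1233 s9c1234 rfl
theorem s9u1235 : ∀ v, 1 ≤ v → v ≤ 349185 → fs9 v = true := slots_step fs9 348942 243 349185 s9u1234 s9c1235 rfl
theorem s9u1236 : ∀ v, 1 ≤ v → v ≤ 349434 → fs9 v = true := slots_step fs9 349185 249 349434 s9u1235 s9c1236 rfl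
theorem s9u1237 : ∀ v, 1 ≤ v → v ≤ 349682 → fs9 v = true := slots_step fs9 349434 248 349682 s9u1236 s9c1237 rfl
theorem s9u1238 : ∀ v, 1 ≤ v → v ≤ 349918 → fs9 v = true := slots_step fs9 349682 236 349918 s9u1237 s9c1238 rfl
theorem s9u1239 : ∀ v, 1 ≤ v → v ≤ 350156 → fs9 v = true := slots_step fs9 349918 238 350156 s9u1238 s9c1239 rfl
theorem s9u1240 : ∀ v, 1 ≤ v → v ≤ 350389 → fs9 v = true := slots_step fs9 350156 233 350389 s9u1239 s9c1240 rfl
theorem s9u1241 : ∀ v, 1 ≤ v → v ≤ 350651 → fs9 v = true := slots_step fs9 350389 262 350651 s9u1240 s9c1241 rfl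
theorem s9u1242 : ∀ v, 1 ≤ v → v ≤ 350927 → fs9 v = true := slots_step fs9 350651 276 350927 s9u1241 s9c1242 rfl
theorem s9u1243 : ∀ v, 1 ≤ v → v ≤ 351187 → fs9 v = true := slots_step fs9 350927 260 351187 s9u1242 s9c1243 rfl
theorem s9u1244 : ∀ v, 1 ≤ v → v ≤ 351448 → fs9 v = true := slots_step fs9 351187 261 351448 s9u1243 s9c1244 rfl
theorem s9u1245 : ∀ v, 1 ≤ v → v ≤ 351711 → fs9 v = true := slots_step fs9 351448 263 351711 s9u1244 s9c1245 rfl
theorem s9u1246 : ∀ v, 1 ≤ v → v ≤ 351969 → fs9 v = true := slots_step fs9 351711 258 351969 s9u1245 s9c1246 rfl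
theorem s9u1247 : ∀ v, 1 ≤ v → v ≤ 352196 → fs9 v = true := slots_step fs9 351969 227 352196 s9u1246 s9c1247 rfl
theorem s9u1248 : ∀ v, 1 ≤ v → v ≤ 352486 → fs9 v = true := slots_step fs9 352196 290 352486 s9u1247 s9c1248 rfl
theorem s9u1249 : ∀ v, 1 ≤ v → v ≤ 352705 → fs9 v = true := slots_step fs9 352486 219 352705 s9u1248 s9c1249 rfl
theorem s9u1250 : ∀ v, 1 ≤ v → v ≤ 352956 → fs9 v = true := slots_step fs9 352705 251 352956 s9u1249 s9c1250 rfl
theorem s9u1251 : ∀ v, 1 ≤ v → v ≤ 353210 → fs9 v = true := slots_step fs9 352956 254 353210 s9u1250 s9c1251 rfl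
theorem s9u1252 : ∀ v, 1 ≤ v → v ≤ 353403 → fs9 v = true := slots_step fs9 353210 193 353403 s9u1251 s9c1252 rfl
theorem s9u1253 : ∀ v, 1 ≤ v → v ≤ 353563 → fs9 v = true := slots_step fs9 353403 160 353563 s9u1252 s9c1253 rfl
theorem s9u1254 : ∀ v, 1 ≤ v → v ≤ 353691 → fs9 v = true := slots_step fs9 353563 128 353691 s9u1253 s9c1254 rfl
theorem s9u1255 : ∀ v, 1 ≤ v → v ≤ 353924 → fs9 v = true := slots_step fs9 353691 233 353924 s9u1254 s9c1255 rfl
theorem s9u1256 : ∀ v, 1 ≤ v → v ≤ 354066 → fs9 v = true := slots_step fs9 353924 142 354066 s9u1255 s9c1256 rfl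
theorem s9u1257 : ∀ v, 1 ≤ v → v ≤ 354273 → fs9 v = true := slots_step fs9 354066 207 354273 s9u1256 s9c1257 rfl
theorem s9u1258 : ∀ v, 1 ≤ v → v ≤ 354510 → fs9 v = true := slots_step fs9 354273 237 354510 s9u1257 s9c1258 rfl
theorem s9u1259 : ∀ v, 1 ≤ v → v ≤ 354735 → fs9 v = true := slots_step fs9 354510 225 354735 s9u1258 s9c1259 rfl
theorem s9u1260 : ∀ v, 1 ≤ v → v ≤ 355004 → fs9 v = true := slots_step fs9 354735 269 355004 s9u1259 s9c1260 rfl
theorem s9u1261 : ∀ v, 1 ≤ v → v ≤ 355258 → fs9 v = true := slots_step fs9 355004 254 355258 s9u1260 s9c1261 rfl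
theorem s9u1262 : ∀ v, 1 ≤ v → v ≤ 355515 → fs9 v = true := slots_step fs9 355258 257 355515 s9u1261 s9c1262 rfl
theorem s9u1263 : ∀ v, 1 ≤ v → v ≤ 355750 → fs9 v = true := slots_step fs9 355515 235 355750 s9u1262 s9c1263 rfl
theorem s9u1264 : ∀ v, 1 ≤ v → v ≤ 355976 → fs9 v = true := slots_step fs9 355750 226 355976 s9u1263 s9c1264 rfl
theorem s9u1265 : ∀ v, 1 ≤ v → v ≤ 356124 → fs9 v = true := slots_step fs9 355976 148 356124 s9u1264 s9c1265 rfl
theorem s9u1266 : ∀ v, 1 ≤ v → v ≤ 356262 → fs9 v = true := slots_step fs9 356124 138 356262 s9u1265 s9c1266 rfl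
theorem s9u1267 : ∀ v, 1 ≤ v → v ≤ 356459 → fs9 v = true := slots_step fs9 356262 197 356459 s9u1266 s9c1267 rfl
theorem s9u1268 : ∀ v, 1 ≤ v → v ≤ 356710 → fs9 v = true := slots_step fs9 356459 251 356710 s9u1267 s9c1268 rfl
theorem s9u1269 : ∀ v, 1 ≤ v → v ≤ 356954 → fs9 v = true := slots_step fs9 356710 244 356954 s9u1268 s9c1269 rfl
theorem s9u1270 : ∀ v, 1 ≤ v → v ≤ 357165 → fs9 v = true := slots_step fs9 356954 211 357165 s9u1269 s9c1270 rfl
theorem s9u1271 : ∀ v, 1 ≤ v → v ≤ 357409 → fs9 v = true := slots_step fs9 357165 244 357409 s9u1270 s9c1271 rfl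
theorem s9u1272 : ∀ v, 1 ≤ v → v ≤ 357465 → fs9 v = true := slots_step fs9 357409 56 357465 s9u1271 s9c1272 rfl
theorem s10u0 : ∀ v, 1 ≤ v → v ≤ 274 → fs10 v = true := slots_step fs10 0 274 274 (slots_zero fs10) s10c0 rfl
theorem s10u1 : ∀ v, 1 ≤ v → v ≤ 572 → fs10 v = true := slots_step fs10 274 298 572 s10u0 s10c1 rfl
theorem s10u2 : ∀ v, 1 ≤ v → v ≤ 865 → fs10 v = true := slots_step fs10 572 293 865 s10u1 s10c2 rfl
theorem s10u3 : ∀ v, 1 ≤ v → v ≤ 1152 → fs10 v = true := slots_step fs10 865 287 1152 s10u2 s10c3 rfl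
theorem s10u4 : ∀ v, 1 ≤ v → v ≤ 1443 → fs10 v = true := slots_step fs10 1152 291 1443 s10u3 s10c4 rfl
theorem s10u5 : ∀ v, 1 ≤ v → v ≤ 1725 → fs10 v = true := slots_step fs10 1443 282 1725 s10u4 s10c5 rfl
theorem s10u6 : ∀ v, 1 ≤ v → v ≤ 2006 → fs10 v = true := slots_step fs10 1725 281 2006 s10u5 s10c6 rfl
theorem s10u7 : ∀ v, 1 ≤ v → v ≤ 2276 → fs10 v = true := slots_step fs10 2006 270 2276 s10u6 s10c7 rfl
theorem s10u8 : ∀ v, 1 ≤ v → v ≤ 2554 → fs10 v = true := slots_step fs10 2276 278 2554 s10u7 s10c8 rfl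
theorem s10u9 : ∀ v, 1 ≤ v → v ≤ 2827 → fs10 v = true := slots_step fs10 2554 273 2827 s10u8 s10c9 rfl
theorem s10u10 : ∀ v, 1 ≤ v → v ≤ 3100 → fs10 v = true := slots_step fs10 2827 273 3100 s10u9 s10c10 rfl
theorem s10u11 : ∀ v, 1 ≤ v → v ≤ 3384 → fs10 v = true := slots_step fs10 3100 284 3384 s10u10 s10c11 rfl
theorem s10u12 : ∀ v, 1 ≤ v → v ≤ 3667 → fs10 v = true := slots_step fs10 3384 283 3667 s10u11 s10c12 rfl
theorem s10u13 : ∀ v, 1 ≤ v → v ≤ 3937 → fs10 v = true := slots_step fs10 3667 270 3937 s10u12 s10c13 rfl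
theorem s10u14 : ∀ v, 1 ≤ v → v ≤ 4214 → fs10 v = true := slots_step fs10 3937 277 4214 s10u13 s10c14 rfl
theorem s10u15 : ∀ v, 1 ≤ v → v ≤ 4504 → fs10 v = true := slots_step fs10 4214 290 4504 s10u14 s10c15 rfl
theorem s10u16 : ∀ v, 1 ≤ v → v ≤ 4789 → fs10 v = true := slots_step fs10 4504 285 4789 s10u15 s10c16 rfl
theorem s10u17 : ∀ v, 1 ≤ v → v ≤ 5084 → fs10 v = true := slots_step fs10 4789 295 5084 s10u16 s10c17 rfl
theorem s10u18 : ∀ v, 1 ≤ v → v ≤ 5360 → fs10 v = true := slots_step fs10 5084 276 5360 s10u17 s10c18 rfl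
theorem s10u19 : ∀ v, 1 ≤ v → v ≤ 5643 → fs10 v = true := slots_step fs10 5360 283 5643 s10u18 s10c19 rfl
theorem s10u20 : ∀ v, 1 ≤ v → v ≤ 5945 → fs10 v = true := slots_step fs10 5643 302 5945 s10u19 s10c20 rfl
theorem s10u21 : ∀ v, 1 ≤ v → v ≤ 6249 → fs10 v = true := slots_step fs10 5945 304 6249 s10u20 s10c21 rfl
theorem s10u22 : ∀ v, 1 ≤ v → v ≤ 6542 → fs10 v = true := slots_step fs10 6249 293 6542 s10u21 s10c22 rfl
theorem s10u23 : ∀ v, 1 ≤ v → v ≤ 6871 → fs10 v = true := slots_step fs10 6542 329 6871 s10u22 s10c23 rfl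
theorem s10u24 : ∀ v, 1 ≤ v → v ≤ 7171 → fs10 v = true := slots_step fs10 6871 300 7171 s10u23 s10c24 rfl
theorem s10u25 : ∀ v, 1 ≤ v → v ≤ 7461 → fs10 v = true := slots_step fs10 7171 290 7461 s10u24 s10c25 rfl
theorem s10u26 : ∀ v, 1 ≤ v → v ≤ 7767 → fs10 v = true := slots_step fs10 7461 306 7767 s10u25 s10c26 rfl
theorem s10u27 : ∀ v, 1 ≤ v → v ≤ 8059 → fs10 v = true := slots_step fs10 7767 292 8059 s10u26 s10c27 rfl
theorem s10u28 : ∀ v, 1 ≤ v → v ≤ 8387 → fs10 v = true := slots_step fs10 8059 328 8387 s10u27 s10c28 rfl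
theorem s10u29 : ∀ v, 1 ≤ v → v ≤ 8682 → fs10 v = true := slots_step fs10 8387 295 8682 s10u28 s10c29 rfl
theorem s10u30 : ∀ v, 1 ≤ v → v ≤ 8976 → fs10 v = true := slots_step fs10 8682 294 8976 s10u29 s10c30 rfl
theorem s10u31 : ∀ v, 1 ≤ v → v ≤ 9300 → fs10 v = true := slots_step fs10 8976 324 9300 s10u30 s10c31 rfl
theorem s10u32 : ∀ v, 1 ≤ v → v ≤ 9652 → fs10 v = true := slots_step fs10 9300 352 9652 s10u31 s10c32 rfl
theorem s10u33 : ∀ v, 1 ≤ v → v ≤ 9961 → fs10 v = true := slots_step fs10 9652 309 9961 s10u32 s10c33 rfl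
theorem s10u34 : ∀ v, 1 ≤ v → v ≤ 10265 → fs10 v = true := slots_step fs10 9961 304 10265 s10u33 s10c34 rfl
theorem s10u35 : ∀ v, 1 ≤ v → v ≤ 10566 → fs10 v = true := slots_step fs10 10265 301 10566 s10u34 s10c35 rfl
theorem s10u36 : ∀ v, 1 ≤ v → v ≤ 10858 → fs10 v = true := slots_step fs10 10566 292 10858 s10u35 s10c36 rfl
theorem s10u37 : ∀ v, 1 ≤ v → v ≤ 11164 → fs10 v = true := slots_step fs10 10858 306 11164 s10u36 s10c37 rfl
theorem s10u38 : ∀ v, 1 ≤ v → v ≤ 11437 → fs10 v = true := slots_step fs10 11164 273 11437 s10u37 s10c38 rfl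
theorem s10u39 : ∀ v, 1 ≤ v → v ≤ 11739 → fs10 v = true := slots_step fs10 11437 302 11739 s10u38 s10c39 rfl
theorem s10u40 : ∀ v, 1 ≤ v → v ≤ 12041 → fs10 v = true := slots_step fs10 11739 302 12041 s10u39 s10c40 rfl
theorem s10u41 : ∀ v, 1 ≤ v → v ≤ 12346 → fs10 v = true := slots_step fs10 12041 305 12346 s10u40 s10c41 rfl
theorem s10u42 : ∀ v, 1 ≤ v → v ≤ 12676 → fs10 v = true := slots_step fs10 12346 330 12676 s10u41 s10c42 rfl
theorem s10u43 : ∀ v, 1 ≤ v → v ≤ 12975 → fs10 v = true := slots_step fs10 12676 299 12975 s10u42 s10c43 rfl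
theorem s10u44 : ∀ v, 1 ≤ v → v ≤ 13281 → fs10 v = true := slots_step fs10 12975 306 13281 s10u43 s10c44 rfl
theorem s10u45 : ∀ v, 1 ≤ v → v ≤ 13585 → fs10 v = true := slots_step fs10 13281 304 13585 s10u44 s10c45 rfl
theorem s10u46 : ∀ v, 1 ≤ v → v ≤ 13891 → fs10 v = true := slots_step fs10 13585 306 13891 s10u45 s10c46 rfl
theorem s10u47 : ∀ v, 1 ≤ v → v ≤ 14195 → fs10 v = true := slots_step fs10 13891 304 14195 s10u46 s10c47 rfl
theorem s10u48 : ∀ v, 1 ≤ v → v ≤ 14520 → fs10 v = true := slots_step fs10 14195 325 14520 s10u47 s10c48 rfl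
theorem s10u49 : ∀ v, 1 ≤ v → v ≤ 14816 → fs10 v = true := slots_step fs10 14520 296 14816 s10u48 s10c49 rfl
theorem s10u50 : ∀ v, 1 ≤ v → v ≤ 15116 → fs10 v = true := slots_step fs10 14816 300 15116 s10u49 s10c50 rfl
theorem s10u51 : ∀ v, 1 ≤ v → v ≤ 15434 → fs10 v = true := slots_step fs10 15116 318 15434 s10u50 s10c51 rfl
theorem s10u52 : ∀ v, 1 ≤ v → v ≤ 15742 → fs10 v = true := slots_step fs10 15434 308 15742 s10u51 s10c52 rfl
theorem s10u53 : ∀ v, 1 ≤ v → v ≤ 16049 → fs10 v = true := slots_step fs10 15742 307 16049 s10u52 s10c53 rfl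
theorem s10u54 : ∀ v, 1 ≤ v → v ≤ 16398 → fs10 v = true := slots_step fs10 16049 349 16398 s10u53 s10c54 rfl
theorem s10u55 : ∀ v, 1 ≤ v → v ≤ 16732 → fs10 v = true := slots_step fs10 16398 334 16732 s10u54 s10c55 rfl
theorem s10u56 : ∀ v, 1 ≤ v → v ≤ 17055 → fs10 v = true := slots_step fs10 16732 323 17055 s10u55 s10c56 rfl
theorem s10u57 : ∀ v, 1 ≤ v → v ≤ 17380 → fs10 v = true := slots_step fs10 17055 325 17380 s10u56 s10c57 rfl
theorem s10u58 : ∀ v, 1 ≤ v → v ≤ 17685 → fs10 v = true := slots_step fs10 17380 305 17685 s10u57 s10c58 rfl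
theorem s10u59 : ∀ v, 1 ≤ v → v ≤ 17987 → fs10 v = true := slots_step fs10 17685 302 17987 s10u58 s10c59 rfl
theorem s10u60 : ∀ v, 1 ≤ v → v ≤ 18319 → fs10 v = true := slots_step fs10 17987 332 18319 s10u59 s10c60 rfl
theorem s10u61 : ∀ v, 1 ≤ v → v ≤ 18629 → fs10 v = true := slots_step fs10 18319 310 18629 s10u60 s10c61 rfl
theorem s10u62 : ∀ v, 1 ≤ v → v ≤ 18949 → fs10 v = true := slots_step fs10 18629 320 18949 s10u61 s10c62 rfl
theorem s10u63 : ∀ v, 1 ≤ v → v ≤ 19267 → fs10 v = true := slots_step fs10 18949 318 19267 s10u62 s10c63 rfl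
theorem s10u64 : ∀ v, 1 ≤ v → v ≤ 19579 → fs10 v = true := slots_step fs10 19267 312 19579 s10u63 s10c64 rfl
theorem s10u65 : ∀ v, 1 ≤ v → v ≤ 19871 → fs10 v = true := slots_step fs10 19579 292 19871 s10u64 s10c65 rfl
theorem s10u66 : ∀ v, 1 ≤ v → v ≤ 20198 → fs10 v = true := slots_step fs10 19871 327 20198 s10u65 s10c66 rfl
theorem s10u67 : ∀ v, 1 ≤ v → v ≤ 20533 → fs10 v = true := slots_step fs10 20198 335 20533 s10u66 s10c67 rfl
theorem s10u68 : ∀ v, 1 ≤ v → v ≤ 20832 → fs10 v = true := slots_step fs10 20533 299 20832 s10u67 s10c68 rfl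
theorem s10u69 : ∀ v, 1 ≤ v → v ≤ 21132 → fs10 v = true := slots_step fs10 20832 300 21132 s10u68 s10c69 rfl
theorem s10u70 : ∀ v, 1 ≤ v → v ≤ 21489 → fs10 v = true := slots_step fs10 21132 357 21489 s10u69 s10c70 rfl
theorem s10u71 : ∀ v, 1 ≤ v → v ≤ 21873 → fs10 v = true := slots_step fs10 21489 384 21873 s10u70 s10c71 rfl
theorem s10u72 : ∀ v, 1 ≤ v → v ≤ 22179 → fs10 v = true := slots_step fs10 21873 306 22179 s10u71 s10c72 rfl
theorem s10u73 : ∀ v, 1 ≤ v → v ≤ 22522 → fs10 v = true := slots_step fs10 22179 343 22522 s10u72 s10c73 rfl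
theorem s10u74 : ∀ v, 1 ≤ v → v ≤ 22845 → fs10 v = true := slots_step fs10 22522 323 22845 s10u73 s10c74 rfl
theorem s10u75 : ∀ v, 1 ≤ v → v ≤ 23181 → fs10 v = true := slots_step fs10 22845 336 23181 s10u74 s10c75 rfl
theorem s10u76 : ∀ v, 1 ≤ v → v ≤ 23477 → fs10 v = true := slots_step fs10 23181 296 23477 s10u75 s10c76 rfl
theorem s10u77 : ∀ v, 1 ≤ v → v ≤ 23779 → fs10 v = true := slots_step fs10 23477 302 23779 s10u76 s10c77 rfl
theorem s10u78 : ∀ v, 1 ≤ v → v ≤ 24103 → fs10 v = true := slots_step fs10 23779 324 24103 s10u77 s10c78 rfl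
theorem s10u79 : ∀ v, 1 ≤ v → v ≤ 24457 → fs10 v = true := slots_step fs10 24103 354 24457 s10u78 s10c79 rfl
theorem s10u80 : ∀ v, 1 ≤ v → v ≤ 24742 → fs10 v = true := slots_step fs10 24457 285 24742 s10u79 s10c80 rfl
theorem s10u81 : ∀ v, 1 ≤ v → v ≤ 25059 → fs10 v = true := slots_step fs10 24742 317 25059 s10u80 s10c81 rfl
theorem s10u82 : ∀ v, 1 ≤ v → v ≤ 25403 → fs10 v = true := slots_step fs10 25059 344 25403 s10u81 s10c82 rfl
theorem s10u83 : ∀ v, 1 ≤ v → v ≤ 25709 → fs10 v = true := slots_step fs10 25403 306 25709 s10u82 s10c83 rfl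
theorem s10u84 : ∀ v, 1 ≤ v → v ≤ 26015 → fs10 v = true := slots_step fs10 25709 306 26015 s10u83 s10c84 rfl
theorem s10u85 : ∀ v, 1 ≤ v → v ≤ 26317 → fs10 v = true := slots_step fs10 26015 302 26317 s10u84 s10c85 rfl
theorem s10u86 : ∀ v, 1 ≤ v → v ≤ 26617 → fs10 v = true := slots_step fs10 26317 300 26617 s10u85 s10c86 rfl
theorem s10u87 : ∀ v, 1 ≤ v → v ≤ 26949 → fs10 v = true := slots_step fs10 26617 332 26949 s10u86 s10c87 rfl
theorem s10u88 : ∀ v, 1 ≤ v → v ≤ 27282 → fs10 v = true := slots_step fs10 26949 333 27282 s10u87 s10c88 rfl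
theorem s10u89 : ∀ v, 1 ≤ v → v ≤ 27601 → fs10 v = true := slots_step fs10 27282 319 27601 s10u88 s10c89 rfl
theorem s10u90 : ∀ v, 1 ≤ v → v ≤ 27888 → fs10 v = true := slots_step fs10 27601 287 27888 s10u89 s10c90 rfl
theorem s10u91 : ∀ v, 1 ≤ v → v ≤ 28187 → fs10 v = true := slots_step fs10 27888 299 28187 s10u90 s10c91 rfl
theorem s10u92 : ∀ v, 1 ≤ v → v ≤ 28536 → fs10 v = true := slots_step fs10 28187 349 28536 s10u91 s10c92 rfl
theorem s10u93 : ∀ v, 1 ≤ v → v ≤ 28922 → fs10 v = true := slots_step fs10 28536 386 28922 s10u92 s10c93 rfl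
theorem s10u94 : ∀ v, 1 ≤ v → v ≤ 29283 → fs10 v = true := slots_step fs10 28922 361 29283 s10u93 s10c94 rfl
theorem s10u95 : ∀ v, 1 ≤ v → v ≤ 29600 → fs10 v = true := slots_step fs10 29283 317 29600 s10u94 s10c95 rfl
theorem s10u96 : ∀ v, 1 ≤ v → v ≤ 29933 → fs10 v = true := slots_step fs10 29600 333 29933 s10u95 s10c96 rfl
theorem s10u97 : ∀ v, 1 ≤ v → v ≤ 30295 → fs10 v = true := slots_step fs10 29933 362 30295 s10u96 s10c97 rfl
theorem s10u98 : ∀ v, 1 ≤ v → v ≤ 30579 → fs10 v = true := slots_step fs10 30295 284 30579 s10u97 s10c98 rfl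
theorem s10u99 : ∀ v, 1 ≤ v → v ≤ 30941 → fs10 v = true := slots_step fs10 30579 362 30941 s10u98 s10c99 rfl
theorem s10u100 : ∀ v, 1 ≤ v → v ≤ 31222 → fs10 v = true := slots_step fs10 30941 281 31222 s10u99 s10c100 rfl
theorem s10u101 : ∀ v, 1 ≤ v → v ≤ 31529 → fs10 v = true := slots_step fs10 31222 307 31529 s10u100 s10c101 rfl
theorem s10u102 : ∀ v, 1 ≤ v → v ≤ 31827 → fs10 v = true := slots_step fs10 31529 298 31827 s10u101 s10c102 rfl
theorem s10u103 : ∀ v, 1 ≤ v → v ≤ 32139 → fs10 v = true := slots_step fs10 31827 312 32139 s10u102 s10c103 rfl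
theorem s10u104 : ∀ v, 1 ≤ v → v ≤ 32486 → fs10 v = true := slots_step fs10 32139 347 32486 s10u103 s10c104 rfl
theorem s10u105 : ∀ v, 1 ≤ v → v ≤ 32843 → fs10 v = true := slots_step fs10 32486 357 32843 s10u104 s10c105 rfl
theorem s10u106 : ∀ v, 1 ≤ v → v ≤ 33116 → fs10 v = true := slots_step fs10 32843 273 33116 s10u105 s10c106 rfl
theorem s10u107 : ∀ v, 1 ≤ v → v ≤ 33395 → fs10 v = true := slots_step fs10 33116 279 33395 s10u106 s10c107 rfl
theorem s10u108 : ∀ v, 1 ≤ v → v ≤ 33742 → fs10 v = true := slots_step fs10 33395 347 33742 s10u107 s10c108 rfl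
theorem s10u109 : ∀ v, 1 ≤ v → v ≤ 34084 → fs10 v = true := slots_step fs10 33742 342 34084 s10u108 s10c109 rfl
theorem s10u110 : ∀ v, 1 ≤ v → v ≤ 34385 → fs10 v = true := slots_step fs10 34084 301 34385 s10u109 s10c110 rfl
theorem s10u111 : ∀ v, 1 ≤ v → v ≤ 34700 → fs10 v = true := slots_step fs10 34385 315 34700 s10u110 s10c111 rfl
theorem s10u112 : ∀ v, 1 ≤ v → v ≤ 35010 → fs10 v = true := slots_step fs10 34700 310 35010 s10u111 s10c112 rfl
theorem s10u113 : ∀ v, 1 ≤ v → v ≤ 35300 → fs10 v = true := slots_step fs10 35010 290 35300 s10u112 s10c113 rfl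
theorem s10u114 : ∀ v, 1 ≤ v → v ≤ 35583 → fs10 v = true := slots_step fs10 35300 283 35583 s10u113 s10c114 rfl
theorem s10u115 : ∀ v, 1 ≤ v → v ≤ 35907 → fs10 v = true := slots_step fs10 35583 324 35907 s10u114 s10c115 rfl
theorem s10u116 : ∀ v, 1 ≤ v → v ≤ 36255 → fs10 v = true := slots_step fs10 35907 348 36255 s10u115 s10c116 rfl
theorem s10u117 : ∀ v, 1 ≤ v → v ≤ 36588 → fs10 v = true := slots_step fs10 36255 333 36588 s10u116 s10c117 rfl
theorem s10u118 : ∀ v, 1 ≤ v → v ≤ 36948 → fs10 v = true := slots_step fs10 36588 360 36948 s10u117 s10c118 rfl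
theorem s10u119 : ∀ v, 1 ≤ v → v ≤ 37256 → fs10 v = true := slots_step fs10 36948 308 37256 s10u118 s10c119 rfl
theorem s10u120 : ∀ v, 1 ≤ v → v ≤ 37539 → fs10 v = true := slots_step fs10 37256 283 37539 s10u119 s10c120 rfl
theorem s10u121 : ∀ v, 1 ≤ v → v ≤ 37824 → fs10 v = true := slots_step fs10 37539 285 37824 s10u120 s10c121 rfl
theorem s10u122 : ∀ v, 1 ≤ v → v ≤ 38150 → fs10 v = true := slots_step fs10 37824 326 38150 s10u121 s10c122 rfl
theorem s10u123 : ∀ v, 1 ≤ v → v ≤ 38498 → fs10 v = true := slots_step fs10 38150 348 38498 s10u122 s10c123 rfl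
theorem s10u124 : ∀ v, 1 ≤ v → v ≤ 38865 → fs10 v = true := slots_step fs10 38498 367 38865 s10u123 s10c124 rfl
theorem s10u125 : ∀ v, 1 ≤ v → v ≤ 39275 → fs10 v = true := slots_step fs10 38865 410 39275 s10u124 s10c125 rfl
theorem s10u126 : ∀ v, 1 ≤ v → v ≤ 39585 → fs10 v = true := slots_step fs10 39275 310 39585 s10u125 s10c126 rfl
theorem s10u127 : ∀ v, 1 ≤ v → v ≤ 39889 → fs10 v = true := slots_step fs10 39585 304 39889 s10u126 s10c127 rfl
theorem s10u128 : ∀ v, 1 ≤ v → v ≤ 40208 → fs10 v = true := slots_step fs10 39889 319 40208 s10u127 s10c128 rfl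
theorem s10u129 : ∀ v, 1 ≤ v → v ≤ 40568 → fs10 v = true := slots_step fs10 40208 360 40568 s10u128 s10c129 rfl
theorem s10u130 : ∀ v, 1 ≤ v → v ≤ 40920 → fs10 v = true := slots_step fs10 40568 352 40920 s10u129 s10c130 rfl
theorem s10u131 : ∀ v, 1 ≤ v → v ≤ 41203 → fs10 v = true := slots_step fs10 40920 283 41203 s10u130 s10c131 rfl
theorem s10u132 : ∀ v, 1 ≤ v → v ≤ 41564 → fs10 v = true := slots_step fs10 41203 361 41564 s10u131 s10c132 rfl
theorem s10u133 : ∀ v, 1 ≤ v → v ≤ 41869 → fs10 v = true := slots_step fs10 41564 305 41869 s10u132 s10c133 rfl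
theorem s10u134 : ∀ v, 1 ≤ v → v ≤ 42156 → fs10 v = true := slots_step fs10 41869 287 42156 s10u133 s10c134 rfl
theorem s10u135 : ∀ v, 1 ≤ v → v ≤ 42467 → fs10 v = true := slots_step fs10 42156 311 42467 s10u134 s10c135 rfl
theorem s10u136 : ∀ v, 1 ≤ v → v ≤ 42755 → fs10 v = true := slots_step fs10 42467 288 42755 s10u135 s10c136 rfl
theorem s10u137 : ∀ v, 1 ≤ v → v ≤ 43043 → fs10 v = true := slots_step fs10 42755 288 43043 s10u136 s10c137 rfl
theorem s10u138 : ∀ v, 1 ≤ v → v ≤ 43362 → fs10 v = true := slots_step fs10 43043 319 43362 s10u137 s10c138 rfl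
theorem s10u139 : ∀ v, 1 ≤ v → v ≤ 43719 → fs10 v = true := slots_step fs10 43362 357 43719 s10u138 s10c139 rfl
theorem s10u140 : ∀ v, 1 ≤ v → v ≤ 44060 → fs10 v = true := slots_step fs10 43719 341 44060 s10u139 s10c140 rfl
theorem s10u141 : ∀ v, 1 ≤ v → v ≤ 44421 → fs10 v = true := slots_step fs10 44060 361 44421 s10u140 s10c141 rfl
theorem s10u142 : ∀ v, 1 ≤ v → v ≤ 44690 → fs10 v = true := slots_step fs10 44421 269 44690 s10u141 s10c142 rfl
theorem s10u143 : ∀ v, 1 ≤ v → v ≤ 44982 → fs10 v = true := slots_step fs10 44690 292 44982 s10u142 s10c143 rfl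
theorem s10u144 : ∀ v, 1 ≤ v → v ≤ 45288 → fs10 v = true := slots_step fs10 44982 306 45288 s10u143 s10c144 rfl
theorem s10u145 : ∀ v, 1 ≤ v → v ≤ 45644 → fs10 v = true := slots_step fs10 45288 356 45644 s10u144 s10c145 rfl
theorem s10u146 : ∀ v, 1 ≤ v → v ≤ 46013 → fs10 v = true := slots_step fs10 45644 369 46013 s10u145 s10c146 rfl
theorem s10u147 : ∀ v, 1 ≤ v → v ≤ 46313 → fs10 v = true := slots_step fs10 46013 300 46313 s10u146 s10c147 rfl
theorem s10u148 : ∀ v, 1 ≤ v → v ≤ 46600 → fs10 v = true := slots_step fs10 46313 287 46600 s10u147 s10c148 rfl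
theorem s10u149 : ∀ v, 1 ≤ v → v ≤ 46912 → fs10 v = true := slots_step fs10 46600 312 46912 s10u148 s10c149 rfl
theorem s10u150 : ∀ v, 1 ≤ v → v ≤ 47221 → fs10 v = true := slots_step fs10 46912 309 47221 s10u149 s10c150 rfl
theorem s10u151 : ∀ v, 1 ≤ v → v ≤ 47518 → fs10 v = true := slots_step fs10 47221 297 47518 s10u150 s10c151 rfl
theorem s10u152 : ∀ v, 1 ≤ v → v ≤ 47796 → fs10 v = true := slots_step fs10 47518 278 47796 s10u151 s10c152 rfl
theorem s10u153 : ∀ v, 1 ≤ v → v ≤ 48096 → fs10 v = true := slots_step fs10 47796 300 48096 s10u152 s10c153 rfl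
theorem s10u154 : ∀ v, 1 ≤ v → v ≤ 48361 → fs10 v = true := slots_step fs10 48096 265 48361 s10u153 s10c154 rfl
theorem s10u155 : ∀ v, 1 ≤ v → v ≤ 48703 → fs10 v = true := slots_step fs10 48361 342 48703 s10u154 s10c155 rfl
theorem s10u156 : ∀ v, 1 ≤ v → v ≤ 49069 → fs10 v = true := slots_step fs10 48703 366 49069 s10u155 s10c156 rfl
theorem s10u157 : ∀ v, 1 ≤ v → v ≤ 49393 → fs10 v = true := slots_step fs10 49069 324 49393 s10u156 s10c157 rfl
theorem s10u158 : ∀ v, 1 ≤ v → v ≤ 49729 → fs10 v = true := slots_step fs10 49393 336 49729 s10u157 s10c158 rfl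
theorem s10u159 : ∀ v, 1 ≤ v → v ≤ 50083 → fs10 v = true := slots_step fs10 49729 354 50083 s10u158 s10c159 rfl
theorem s10u160 : ∀ v, 1 ≤ v → v ≤ 50437 → fs10 v = true := slots_step fs10 50083 354 50437 s10u159 s10c160 rfl
theorem s10u161 : ∀ v, 1 ≤ v → v ≤ 50737 → fs10 v = true := slots_step fs10 50437 300 50737 s10u160 s10c161 rfl
theorem s10u162 : ∀ v, 1 ≤ v → v ≤ 51038 → fs10 v = true := slots_step fs10 50737 301 51038 s10u161 s10c162 rfl
theorem s10u163 : ∀ v, 1 ≤ v → v ≤ 51322 → fs10 v = true := slots_step fs10 51038 284 51322 s10u162 s10c163 rfl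
theorem s10u164 : ∀ v, 1 ≤ v → v ≤ 51655 → fs10 v = true := slots_step fs10 51322 333 51655 s10u163 s10c164 rfl
theorem s10u165 : ∀ v, 1 ≤ v → v ≤ 52014 → fs10 v = true := slots_step fs10 51655 359 52014 s10u164 s10c165 rfl
theorem s10u166 : ∀ v, 1 ≤ v → v ≤ 52363 → fs10 v = true := slots_step fs10 52014 349 52363 s10u165 s10c166 rfl
theorem s10u167 : ∀ v, 1 ≤ v → v ≤ 52744 → fs10 v = true := slots_step fs10 52363 381 52744 s10u166 s10c167 rfl
theorem s10u168 : ∀ v, 1 ≤ v → v ≤ 53153 → fs10 v = true := slots_step fs10 52744 409 53153 s10u167 s10c168 rfl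
theorem s10u169 : ∀ v, 1 ≤ v → v ≤ 53449 → fs10 v = true := slots_step fs10 53153 296 53449 s10u168 s10c169 rfl
theorem s10u170 : ∀ v, 1 ≤ v → v ≤ 53759 → fs10 v = true := slots_step fs10 53449 310 53759 s10u169 s10c170 rfl
theorem s10u171 : ∀ v, 1 ≤ v → v ≤ 54052 → fs10 v = true := slots_step fs10 53759 293 54052 s10u170 s10c171 rfl
theorem s10u172 : ∀ v, 1 ≤ v → v ≤ 54376 → fs10 v = true := slots_step fs10 54052 324 54376 s10u171 s10c172 rfl
theorem s10u173 : ∀ v, 1 ≤ v → v ≤ 54738 → fs10 v = true := slots_step fs10 54376 362 54738 s10u172 s10c173 rfl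
theorem s10u174 : ∀ v, 1 ≤ v → v ≤ 55108 → fs10 v = true := slots_step fs10 54738 370 55108 s10u173 s10c174 rfl
theorem s10u175 : ∀ v, 1 ≤ v → v ≤ 55426 → fs10 v = true := slots_step fs10 55108 318 55426 s10u174 s10c175 rfl
theorem s10u176 : ∀ v, 1 ≤ v → v ≤ 55722 → fs10 v = true := slots_step fs10 55426 296 55722 s10u175 s10c176 rfl
theorem s10u177 : ∀ v, 1 ≤ v → v ≤ 56114 → fs10 v = true := slots_step fs10 55722 392 56114 s10u176 s10c177 rfl
theorem s10u178 : ∀ v, 1 ≤ v → v ≤ 56433 → fs10 v = true := slots_step fs10 56114 319 56433 s10u177 s10c178 rfl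
theorem s10u179 : ∀ v, 1 ≤ v → v ≤ 56710 → fs10 v = true := slots_step fs10 56433 277 56710 s10u178 s10c179 rfl
theorem s10u180 : ∀ v, 1 ≤ v → v ≤ 56996 → fs10 v = true := slots_step fs10 56710 286 56996 s10u179 s10c180 rfl
theorem s10u181 : ∀ v, 1 ≤ v → v ≤ 57296 → fs10 v = true := slots_step fs10 56996 300 57296 s10u180 s10c181 rfl
theorem s10u182 : ∀ v, 1 ≤ v → v ≤ 57602 → fs10 v = true := slots_step fs10 57296 306 57602 s10u181 s10c182 rfl
theorem s10u183 : ∀ v, 1 ≤ v → v ≤ 57881 → fs10 v = true := slots_step fs10 57602 279 57881 s10u182 s10c183 rfl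
theorem s10u184 : ∀ v, 1 ≤ v → v ≤ 58176 → fs10 v = true := slots_step fs10 57881 295 58176 s10u183 s10c184 rfl
theorem s10u185 : ∀ v, 1 ≤ v → v ≤ 58450 → fs10 v = true := slots_step fs10 58176 274 58450 s10u184 s10c185 rfl
theorem s10u186 : ∀ v, 1 ≤ v → v ≤ 58803 → fs10 v = true := slots_step fs10 58450 353 58803 s10u185 s10c186 rfl
theorem s10u187 : ∀ v, 1 ≤ v → v ≤ 59168 → fs10 v = true := slots_step fs10 58803 365 59168 s10u186 s10c187 rfl
theorem s10u188 : ∀ v, 1 ≤ v → v ≤ 59510 → fs10 v = true := slots_step fs10 59168 342 59510 s10u187 s10c188 rfl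
theorem s10u189 : ∀ v, 1 ≤ v → v ≤ 59862 → fs10 v = true := slots_step fs10 59510 352 59862 s10u188 s10c189 rfl
theorem s10u190 : ∀ v, 1 ≤ v → v ≤ 60203 → fs10 v = true := slots_step fs10 59862 341 60203 s10u189 s10c190 rfl
theorem s10u191 : ∀ v, 1 ≤ v → v ≤ 60484 → fs10 v = true := slots_step fs10 60203 281 60484 s10u190 s10c191 rfl
theorem s10u192 : ∀ v, 1 ≤ v → v ≤ 60789 → fs10 v = true := slots_step fs10 60484 305 60789 s10u191 s10c192 rfl
theorem s10u193 : ∀ v, 1 ≤ v → v ≤ 61082 → fs10 v = true := slots_step fs10 60789 293 61082 s10u192 s10c193 rfl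
theorem s10u194 : ∀ v, 1 ≤ v → v ≤ 61454 → fs10 v = true := slots_step fs10 61082 372 61454 s10u193 s10c194 rfl
theorem s10u195 : ∀ v, 1 ≤ v → v ≤ 61847 → fs10 v = true := slots_step fs10 61454 393 61847 s10u194 s10c195 rfl
theorem s10u196 : ∀ v, 1 ≤ v → v ≤ 62186 → fs10 v = true := slots_step fs10 61847 339 62186 s10u195 s10c196 rfl
theorem s10u197 : ∀ v, 1 ≤ v → v ≤ 62503 → fs10 v = true := slots_step fs10 62186 317 62503 s10u196 s10c197 rfl
theorem s10u198 : ∀ v, 1 ≤ v → v ≤ 62789 → fs10 v = true := slots_step fs10 62503 286 62789 s10u197 s10c198 rfl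
theorem s10u199 : ∀ v, 1 ≤ v → v ≤ 63107 → fs10 v = true := slots_step fs10 62789 318 63107 s10u198 s10c199 rfl
theorem s10u200 : ∀ v, 1 ≤ v → v ≤ 63412 → fs10 v = true := slots_step fs10 63107 305 63412 s10u199 s10c200 rfl
theorem s10u201 : ∀ v, 1 ≤ v → v ≤ 63717 → fs10 v = true := slots_step fs10 63412 305 63717 s10u200 s10c201 rfl
theorem s10u202 : ∀ v, 1 ≤ v → v ≤ 64028 → fs10 v = true := slots_step fs10 63717 311 64028 s10u201 s10c202 rfl
theorem s10u203 : ∀ v, 1 ≤ v → v ≤ 64315 → fs10 v = true := slots_step fs10 64028 287 64315 s10u202 s10c203 rfl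
theorem s10u204 : ∀ v, 1 ≤ v → v ≤ 64601 → fs10 v = true := slots_step fs10 64315 286 64601 s10u203 s10c204 rfl
theorem s10u205 : ∀ v, 1 ≤ v → v ≤ 64882 → fs10 v = true := slots_step fs10 64601 281 64882 s10u204 s10c205 rfl
theorem s10u206 : ∀ v, 1 ≤ v → v ≤ 65184 → fs10 v = true := slots_step fs10 64882 302 65184 s10u205 s10c206 rfl
theorem s10u207 : ∀ v, 1 ≤ v → v ≤ 65460 → fs10 v = true := slots_step fs10 65184 276 65460 s10u206 s10c207 rfl
theorem s10u208 : ∀ v, 1 ≤ v → v ≤ 65777 → fs10 v = true := slots_step fs10 65460 317 65777 s10u207 s10c208 rfl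
theorem s10u209 : ∀ v, 1 ≤ v → v ≤ 66131 → fs10 v = true := slots_step fs10 65777 354 66131 s10u208 s10c209 rfl
theorem s10u210 : ∀ v, 1 ≤ v → v ≤ 66492 → fs10 v = true := slots_step fs10 66131 361 66492 s10u209 s10c210 rfl
theorem s10u211 : ∀ v, 1 ≤ v → v ≤ 66818 → fs10 v = true := slots_step fs10 66492 326 66818 s10u210 s10c211 rfl
theorem s10u212 : ∀ v, 1 ≤ v → v ≤ 67149 → fs10 v = true := slots_step fs10 66818 331 67149 s10u211 s10c212 rfl
theorem s10u213 : ∀ v, 1 ≤ v → v ≤ 67489 → fs10 v = true := slots_step fs10 67149 340 67489 s10u212 s10c213 rfl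
theorem s10u214 : ∀ v, 1 ≤ v → v ≤ 67862 → fs10 v = true := slots_step fs10 67489 373 67862 s10u213 s10c214 rfl
theorem s10u215 : ∀ v, 1 ≤ v → v ≤ 68237 → fs10 v = true := slots_step fs10 67862 375 68237 s10u214 s10c215 rfl
theorem s10u216 : ∀ v, 1 ≤ v → v ≤ 68569 → fs10 v = true := slots_step fs10 68237 332 68569 s10u215 s10c216 rfl
theorem s10u217 : ∀ v, 1 ≤ v → v ≤ 68876 → fs10 v = true := slots_step fs10 68569 307 68876 s10u216 s10c217 rfl
theorem s10u218 : ∀ v, 1 ≤ v → v ≤ 69168 → fs10 v = true := slots_step fs10 68876 292 69168 s10u217 s10c218 rfl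
theorem s10u219 : ∀ v, 1 ≤ v → v ≤ 69481 → fs10 v = true := slots_step fs10 69168 313 69481 s10u218 s10c219 rfl
theorem s10u220 : ∀ v, 1 ≤ v → v ≤ 69841 → fs10 v = true := slots_step fs10 69481 360 69841 s10u219 s10c220 rfl
theorem s10u221 : ∀ v, 1 ≤ v → v ≤ 70231 → fs10 v = true := slots_step fs10 69841 390 70231 s10u220 s10c221 rfl
theorem s10u222 : ∀ v, 1 ≤ v → v ≤ 70598 → fs10 v = true := slots_step fs10 70231 367 70598 s10u221 s10c222 rfl
theorem s10u223 : ∀ v, 1 ≤ v → v ≤ 70986 → fs10 v = true := slots_step fs10 70598 388 70986 s10u222 s10c223 rfl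
theorem s10u224 : ∀ v, 1 ≤ v → v ≤ 71406 → fs10 v = true := slots_step fs10 70986 420 71406 s10u223 s10c224 rfl
theorem s10u225 : ∀ v, 1 ≤ v → v ≤ 71697 → fs10 v = true := slots_step fs10 71406 291 71697 s10u224 s10c225 rfl
theorem s10u226 : ∀ v, 1 ≤ v → v ≤ 72001 → fs10 v = true := slots_step fs10 71697 304 72001 s10u225 s10c226 rfl
theorem s10u227 : ∀ v, 1 ≤ v → v ≤ 72301 → fs10 v = true := slots_step fs10 72001 300 72301 s10u226 s10c227 rfl
theorem s10u228 : ∀ v, 1 ≤ v → v ≤ 72590 → fs10 v = true := slots_step fs10 72301 289 72590 s10u227 s10c228 rfl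
theorem s10u229 : ∀ v, 1 ≤ v → v ≤ 72896 → fs10 v = true := slots_step fs10 72590 306 72896 s10u228 s10c229 rfl
theorem s10u230 : ∀ v, 1 ≤ v → v ≤ 73279 → fs10 v = true := slots_step fs10 72896 383 73279 s10u229 s10c230 rfl
theorem s10u231 : ∀ v, 1 ≤ v → v ≤ 73623 → fs10 v = true := slots_step fs10 73279 344 73623 s10u230 s10c231 rfl
theorem s10u232 : ∀ v, 1 ≤ v → v ≤ 74007 → fs10 v = true := slots_step fs10 73623 384 74007 s10u231 s10c232 rfl
theorem s10u233 : ∀ v, 1 ≤ v → v ≤ 74350 → fs10 v = true := slots_step fs10 74007 343 74350 s10u232 s10c233 rfl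
theorem s10u234 : ∀ v, 1 ≤ v → v ≤ 74656 → fs10 v = true := slots_step fs10 74350 306 74656 s10u233 s10c234 rfl
theorem s10u235 : ∀ v, 1 ≤ v → v ≤ 75045 → fs10 v = true := slots_step fs10 74656 389 75045 s10u234 s10c235 rfl
theorem s10u236 : ∀ v, 1 ≤ v → v ≤ 75427 → fs10 v = true := slots_step fs10 75045 382 75427 s10u235 s10c236 rfl
theorem s10u237 : ∀ v, 1 ≤ v → v ≤ 75701 → fs10 v = true := slots_step fs10 75427 274 75701 s10u236 s10c237 rfl
theorem s10u238 : ∀ v, 1 ≤ v → v ≤ 75999 → fs10 v = true := slots_step fs10 75701 298 75999 s10u237 s10c238 rfl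
theorem s10u239 : ∀ v, 1 ≤ v → v ≤ 76288 → fs10 v = true := slots_step fs10 75999 289 76288 s10u238 s10c239 rfl
theorem s10u240 : ∀ v, 1 ≤ v → v ≤ 76565 → fs10 v = true := slots_step fs10 76288 277 76565 s10u239 s10c240 rfl
theorem s10u241 : ∀ v, 1 ≤ v → v ≤ 76879 → fs10 v = true := slots_step fs10 76565 314 76879 s10u240 s10c241 rfl
theorem s10u242 : ∀ v, 1 ≤ v → v ≤ 77194 → fs10 v = true := slots_step fs10 76879 315 77194 s10u241 s10c242 rfl
theorem s10u243 : ∀ v, 1 ≤ v → v ≤ 77484 → fs10 v = true := slots_step fs10 77194 290 77484 s10u242 s10c243 rfl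
theorem s10u244 : ∀ v, 1 ≤ v → v ≤ 77769 → fs10 v = true := slots_step fs10 77484 285 77769 s10u243 s10c244 rfl
theorem s10u245 : ∀ v, 1 ≤ v → v ≤ 78074 → fs10 v = true := slots_step fs10 77769 305 78074 s10u244 s10c245 rfl
theorem s10u246 : ∀ v, 1 ≤ v → v ≤ 78369 → fs10 v = true := slots_step fs10 78074 295 78369 s10u245 s10c246 rfl
theorem s10u247 : ∀ v, 1 ≤ v → v ≤ 78709 → fs10 v = true := slots_step fs10 78369 340 78709 s10u246 s10c247 rfl
theorem s10u248 : ∀ v, 1 ≤ v → v ≤ 79073 → fs10 v = true := slots_step fs10 78709 364 79073 s10u247 s10c248 rfl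
theorem s10u249 : ∀ v, 1 ≤ v → v ≤ 79434 → fs10 v = true := slots_step fs10 79073 361 79434 s10u248 s10c249 rfl
theorem s10u250 : ∀ v, 1 ≤ v → v ≤ 79795 → fs10 v = true := slots_step fs10 79434 361 79795 s10u249 s10c250 rfl
theorem s10u251 : ∀ v, 1 ≤ v → v ≤ 80153 → fs10 v = true := slots_step fs10 79795 358 80153 s10u250 s10c251 rfl
theorem s10u252 : ∀ v, 1 ≤ v → v ≤ 80532 → fs10 v = true := slots_step fs10 80153 379 80532 s10u251 s10c252 rfl
theorem s10u253 : ∀ v, 1 ≤ v → v ≤ 80851 → fs10 v = true := slots_step fs10 80532 319 80851 s10u252 s10c253 rfl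
theorem s10u254 : ∀ v, 1 ≤ v → v ≤ 81164 → fs10 v = true := slots_step fs10 80851 313 81164 s10u253 s10c254 rfl
theorem s10u255 : ∀ v, 1 ≤ v → v ≤ 81477 → fs10 v = true := slots_step fs10 81164 313 81477 s10u254 s10c255 rfl
theorem s10u256 : ∀ v, 1 ≤ v → v ≤ 81805 → fs10 v = true := slots_step fs10 81477 328 81805 s10u255 s10c256 rfl
theorem s10u257 : ∀ v, 1 ≤ v → v ≤ 82206 → fs10 v = true := slots_step fs10 81805 401 82206 s10u256 s10c257 rfl
theorem s10u258 : ∀ v, 1 ≤ v → v ≤ 82629 → fs10 v = true := slots_step fs10 82206 423 82629 s10u257 s10c258 rfl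
theorem s10u259 : ∀ v, 1 ≤ v → v ≤ 82980 → fs10 v = true := slots_step fs10 82629 351 82980 s10u258 s10c259 rfl
theorem s10u260 : ∀ v, 1 ≤ v → v ≤ 83295 → fs10 v = true := slots_step fs10 82980 315 83295 s10u259 s10c260 rfl
theorem s10u261 : ∀ v, 1 ≤ v → v ≤ 83617 → fs10 v = true := slots_step fs10 83295 322 83617 s10u260 s10c261 rfl
theorem s10u262 : ∀ v, 1 ≤ v → v ≤ 83909 → fs10 v = true := slots_step fs10 83617 292 83909 s10u261 s10c262 rfl
theorem s10u263 : ∀ v, 1 ≤ v → v ≤ 84242 → fs10 v = true := slots_step fs10 83909 333 84242 s10u262 s10c263 rfl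
theorem s10u264 : ∀ v, 1 ≤ v → v ≤ 84561 → fs10 v = true := slots_step fs10 84242 319 84561 s10u263 s10c264 rfl
theorem s10u265 : ∀ v, 1 ≤ v → v ≤ 84850 → fs10 v = true := slots_step fs10 84561 289 84850 s10u264 s10c265 rfl
theorem s10u266 : ∀ v, 1 ≤ v → v ≤ 85155 → fs10 v = true := slots_step fs10 84850 305 85155 s10u265 s10c266 rfl
theorem s10u267 : ∀ v, 1 ≤ v → v ≤ 85471 → fs10 v = true := slots_step fs10 85155 316 85471 s10u266 s10c267 rfl
theorem s10u268 : ∀ v, 1 ≤ v → v ≤ 85783 → fs10 v = true := slots_step fs10 85471 312 85783 s10u267 s10c268 rfl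
theorem s10u269 : ∀ v, 1 ≤ v → v ≤ 86082 → fs10 v = true := slots_step fs10 85783 299 86082 s10u268 s10c269 rfl
theorem s10u270 : ∀ v, 1 ≤ v → v ≤ 86364 → fs10 v = true := slots_step fs10 86082 282 86364 s10u269 s10c270 rfl
theorem s10u271 : ∀ v, 1 ≤ v → v ≤ 86652 → fs10 v = true := slots_step fs10 86364 288 86652 s10u270 s10c271 rfl
theorem s10u272 : ∀ v, 1 ≤ v → v ≤ 86954 → fs10 v = true := slots_step fs10 86652 302 86954 s10u271 s10c272 rfl
theorem s10u273 : ∀ v, 1 ≤ v → v ≤ 87264 → fs10 v = true := slots_step fs10 86954 310 87264 s10u272 s10c273 rfl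
theorem s10u274 : ∀ v, 1 ≤ v → v ≤ 87562 → fs10 v = true := slots_step fs10 87264 298 87562 s10u273 s10c274 rfl
theorem s10u275 : ∀ v, 1 ≤ v → v ≤ 87864 → fs10 v = true := slots_step fs10 87562 302 87864 s10u274 s10c275 rfl
theorem s10u276 : ∀ v, 1 ≤ v → v ≤ 88216 → fs10 v = true := slots_step fs10 87864 352 88216 s10u275 s10c276 rfl
theorem s10u277 : ∀ v, 1 ≤ v → v ≤ 88585 → fs10 v = true := slots_step fs10 88216 369 88585 s10u276 s10c277 rfl
theorem s10u278 : ∀ v, 1 ≤ v → v ≤ 88952 → fs10 v = true := slots_step fs10 88585 367 88952 s10u277 s10c278 rfl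
theorem s10u279 : ∀ v, 1 ≤ v → v ≤ 89295 → fs10 v = true := slots_step fs10 88952 343 89295 s10u278 s10c279 rfl
theorem s10u280 : ∀ v, 1 ≤ v → v ≤ 89638 → fs10 v = true := slots_step fs10 89295 343 89638 s10u279 s10c280 rfl
theorem s10u281 : ∀ v, 1 ≤ v → v ≤ 89991 → fs10 v = true := slots_step fs10 89638 353 89991 s10u280 s10c281 rfl
theorem s10u282 : ∀ v, 1 ≤ v → v ≤ 90355 → fs10 v = true := slots_step fs10 89991 364 90355 s10u281 s10c282 rfl
theorem s10u283 : ∀ v, 1 ≤ v → v ≤ 90774 → fs10 v = true := slots_step fs10 90355 419 90774 s10u282 s10c283 rfl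
theorem s10u284 : ∀ v, 1 ≤ v → v ≤ 91119 → fs10 v = true := slots_step fs10 90774 345 91119 s10u283 s10c284 rfl
theorem s10u285 : ∀ v, 1 ≤ v → v ≤ 91457 → fs10 v = true := slots_step fs10 91119 338 91457 s10u284 s10c285 rfl
theorem s10u286 : ∀ v, 1 ≤ v → v ≤ 91775 → fs10 v = true := slots_step fs10 91457 318 91775 s10u285 s10c286 rfl
theorem s10u287 : ∀ v, 1 ≤ v → v ≤ 92091 → fs10 v = true := slots_step fs10 91775 316 92091 s10u286 s10c287 rfl
theorem s10u288 : ∀ v, 1 ≤ v → v ≤ 92409 → fs10 v = true := slots_step fs10 92091 318 92409 s10u287 s10c288 rfl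
theorem s10u289 : ∀ v, 1 ≤ v → v ≤ 92748 → fs10 v = true := slots_step fs10 92409 339 92748 s10u288 s10c289 rfl
theorem s10u290 : ∀ v, 1 ≤ v → v ≤ 93157 → fs10 v = true := slots_step fs10 92748 409 93157 s10u289 s10c290 rfl
theorem s10u291 : ∀ v, 1 ≤ v → v ≤ 93576 → fs10 v = true := slots_step fs10 93157 419 93576 s10u290 s10c291 rfl
theorem s10u292 : ∀ v, 1 ≤ v → v ≤ 94000 → fs10 v = true := slots_step fs10 93576 424 94000 s10u291 s10c292 rfl
theorem s10u293 : ∀ v, 1 ≤ v → v ≤ 94415 → fs10 v = true := slots_step fs10 94000 415 94415 s10u292 s10c293 rfl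
theorem s10u294 : ∀ v, 1 ≤ v → v ≤ 94716 → fs10 v = true := slots_step fs10 94415 301 94716 s10u293 s10c294 rfl
theorem s10u295 : ∀ v, 1 ≤ v → v ≤ 95007 → fs10 v = true := slots_step fs10 94716 291 95007 s10u294 s10c295 rfl
theorem s10u296 : ∀ v, 1 ≤ v → v ≤ 95326 → fs10 v = true := slots_step fs10 95007 319 95326 s10u295 s10c296 rfl
theorem s10u297 : ∀ v, 1 ≤ v → v ≤ 95625 → fs10 v = true := slots_step fs10 95326 299 95625 s10u296 s10c297 rfl
theorem s10u298 : ∀ v, 1 ≤ v → v ≤ 95932 → fs10 v = true := slots_step fs10 95625 307 95932 s10u297 s10c298 rfl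
theorem s10u299 : ∀ v, 1 ≤ v → v ≤ 96247 → fs10 v = true := slots_step fs10 95932 315 96247 s10u298 s10c299 rfl
theorem s10u300 : ∀ v, 1 ≤ v → v ≤ 96617 → fs10 v = true := slots_step fs10 96247 370 96617 s10u299 s10c300 rfl
theorem s10u301 : ∀ v, 1 ≤ v → v ≤ 97002 → fs10 v = true := slots_step fs10 96617 385 97002 s10u300 s10c301 rfl
theorem s10u302 : ∀ v, 1 ≤ v → v ≤ 97386 → fs10 v = true := slots_step fs10 97002 384 97386 s10u301 s10c302 rfl
theorem s10u303 : ∀ v, 1 ≤ v → v ≤ 97758 → fs10 v = true := slots_step fs10 97386 372 97758 s10u302 s10c303 rfl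
theorem s10u304 : ∀ v, 1 ≤ v → v ≤ 98075 → fs10 v = true := slots_step fs10 97758 317 98075 s10u303 s10c304 rfl
theorem s10u305 : ∀ v, 1 ≤ v → v ≤ 98466 → fs10 v = true := slots_step fs10 98075 391 98466 s10u304 s10c305 rfl
theorem s10u306 : ∀ v, 1 ≤ v → v ≤ 98892 → fs10 v = true := slots_step fs10 98466 426 98892 s10u305 s10c306 rfl
theorem s10u307 : ∀ v, 1 ≤ v → v ≤ 99181 → fs10 v = true := slots_step fs10 98892 289 99181 s10u306 s10c307 rfl
theorem s10u308 : ∀ v, 1 ≤ v → v ≤ 99472 → fs10 v = true := slots_step fs10 99181 291 99472 s10u307 s10c308 rfl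
theorem s10u309 : ∀ v, 1 ≤ v → v ≤ 99795 → fs10 v = true := slots_step fs10 99472 323 99795 s10u308 s10c309 rfl
theorem s10u310 : ∀ v, 1 ≤ v → v ≤ 100096 → fs10 v = true := slots_step fs10 99795 301 100096 s10u309 s10c310 rfl
theorem s10u311 : ∀ v, 1 ≤ v → v ≤ 100376 → fs10 v = true := slots_step fs10 100096 280 100376 s10u310 s10c311 rfl
theorem s10u312 : ∀ v, 1 ≤ v → v ≤ 100656 → fs10 v = true := slots_step fs10 100376 280 100656 s10u311 s10c312 rfl
theorem s10u313 : ∀ v, 1 ≤ v → v ≤ 100978 → fs10 v = true := slots_step fs10 100656 322 100978 s10u312 s10c313 rfl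
theorem s10u314 : ∀ v, 1 ≤ v → v ≤ 101284 → fs10 v = true := slots_step fs10 100978 306 101284 s10u313 s10c314 rfl
theorem s10u315 : ∀ v, 1 ≤ v → v ≤ 101598 → fs10 v = true := slots_step fs10 101284 314 101598 s10u314 s10c315 rfl
theorem s10u316 : ∀ v, 1 ≤ v → v ≤ 101893 → fs10 v = true := slots_step fs10 101598 295 101893 s10u315 s10c316 rfl
theorem s10u317 : ∀ v, 1 ≤ v → v ≤ 102190 → fs10 v = true := slots_step fs10 101893 297 102190 s10u316 s10c317 rfl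
theorem s10u318 : ∀ v, 1 ≤ v → v ≤ 102507 → fs10 v = true := slots_step fs10 102190 317 102507 s10u317 s10c318 rfl
theorem s10u319 : ∀ v, 1 ≤ v → v ≤ 102817 → fs10 v = true := slots_step fs10 102507 310 102817 s10u318 s10c319 rfl
theorem s10u320 : ∀ v, 1 ≤ v → v ≤ 103143 → fs10 v = true := slots_step fs10 102817 326 103143 s10u319 s10c320 rfl
theorem s10u321 : ∀ v, 1 ≤ v → v ≤ 103504 → fs10 v = true := slots_step fs10 103143 361 103504 s10u320 s10c321 rfl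
theorem s10u322 : ∀ v, 1 ≤ v → v ≤ 103889 → fs10 v = true := slots_step fs10 103504 385 103889 s10u321 s10c322 rfl
theorem s10u323 : ∀ v, 1 ≤ v → v ≤ 104258 → fs10 v = true := slots_step fs10 103889 369 104258 s10u322 s10c323 rfl
theorem s10u324 : ∀ v, 1 ≤ v → v ≤ 104659 → fs10 v = true := slots_step fs10 104258 401 104659 s10u323 s10c324 rfl
theorem s10u325 : ∀ v, 1 ≤ v → v ≤ 105063 → fs10 v = true := slots_step fs10 104659 404 105063 s10u324 s10c325 rfl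
theorem s10u326 : ∀ v, 1 ≤ v → v ≤ 105416 → fs10 v = true := slots_step fs10 105063 353 105416 s10u325 s10c326 rfl
theorem s10u327 : ∀ v, 1 ≤ v → v ≤ 105739 → fs10 v = true := slots_step fs10 105416 323 105739 s10u326 s10c327 rfl
theorem s10u328 : ∀ v, 1 ≤ v → v ≤ 106077 → fs10 v = true := slots_step fs10 105739 338 106077 s10u327 s10c328 rfl
theorem s10u329 : ∀ v, 1 ≤ v → v ≤ 106406 → fs10 v = true := slots_step fs10 106077 329 106406 s10u328 s10c329 rfl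
theorem s10u330 : ∀ v, 1 ≤ v → v ≤ 106760 → fs10 v = true := slots_step fs10 106406 354 106760 s10u329 s10c330 rfl
theorem s10u331 : ∀ v, 1 ≤ v → v ≤ 107196 → fs10 v = true := slots_step fs10 106760 436 107196 s10u330 s10c331 rfl
theorem s10u332 : ∀ v, 1 ≤ v → v ≤ 107601 → fs10 v = true := slots_step fs10 107196 405 107601 s10u331 s10c332 rfl
theorem s10u333 : ∀ v, 1 ≤ v → v ≤ 107911 → fs10 v = true := slots_step fs10 107601 310 107911 s10u332 s10c333 rfl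
theorem s10u334 : ∀ v, 1 ≤ v → v ≤ 108261 → fs10 v = true := slots_step fs10 107911 350 108261 s10u333 s10c334 rfl
theorem s10u335 : ∀ v, 1 ≤ v → v ≤ 108579 → fs10 v = true := slots_step fs10 108261 318 108579 s10u334 s10c335 rfl
theorem s10u336 : ∀ v, 1 ≤ v → v ≤ 108881 → fs10 v = true := slots_step fs10 108579 302 108881 s10u335 s10c336 rfl
theorem s10u337 : ∀ v, 1 ≤ v → v ≤ 109182 → fs10 v = true := slots_step fs10 108881 301 109182 s10u336 s10c337 rfl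
theorem s10u338 : ∀ v, 1 ≤ v → v ≤ 109535 → fs10 v = true := slots_step fs10 109182 353 109535 s10u337 s10c338 rfl
theorem s10u339 : ∀ v, 1 ≤ v → v ≤ 109855 → fs10 v = true := slots_step fs10 109535 320 109855 s10u338 s10c339 rfl
theorem s10u340 : ∀ v, 1 ≤ v → v ≤ 110148 → fs10 v = true := slots_step fs10 109855 293 110148 s10u339 s10c340 rfl
theorem s10u341 : ∀ v, 1 ≤ v → v ≤ 110441 → fs10 v = true := slots_step fs10 110148 293 110441 s10u340 s10c341 rfl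
theorem s10u342 : ∀ v, 1 ≤ v → v ≤ 110753 → fs10 v = true := slots_step fs10 110441 312 110753 s10u341 s10c342 rfl
theorem s10u343 : ∀ v, 1 ≤ v → v ≤ 111080 → fs10 v = true := slots_step fs10 110753 327 111080 s10u342 s10c343 rfl
theorem s10u344 : ∀ v, 1 ≤ v → v ≤ 111394 → fs10 v = true := slots_step fs10 111080 314 111394 s10u343 s10c344 rfl
theorem s10u345 : ∀ v, 1 ≤ v → v ≤ 111707 → fs10 v = true := slots_step fs10 111394 313 111707 s10u344 s10c345 rfl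
theorem s10u346 : ∀ v, 1 ≤ v → v ≤ 112010 → fs10 v = true := slots_step fs10 111707 303 112010 s10u345 s10c346 rfl
theorem s10u347 : ∀ v, 1 ≤ v → v ≤ 112294 → fs10 v = true := slots_step fs10 112010 284 112294 s10u346 s10c347 rfl
theorem s10u348 : ∀ v, 1 ≤ v → v ≤ 112598 → fs10 v = true := slots_step fs10 112294 304 112598 s10u347 s10c348 rfl
theorem s10u349 : ∀ v, 1 ≤ v → v ≤ 112887 → fs10 v = true := slots_step fs10 112598 289 112887 s10u348 s10c349 rfl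
theorem s10u350 : ∀ v, 1 ≤ v → v ≤ 113202 → fs10 v = true := slots_step fs10 112887 315 113202 s10u349 s10c350 rfl
theorem s10u351 : ∀ v, 1 ≤ v → v ≤ 113508 → fs10 v = true := slots_step fs10 113202 306 113508 s10u350 s10c351 rfl
theorem s10u352 : ∀ v, 1 ≤ v → v ≤ 113827 → fs10 v = true := slots_step fs10 113508 319 113827 s10u351 s10c352 rfl
theorem s10u353 : ∀ v, 1 ≤ v → v ≤ 114134 → fs10 v = true := slots_step fs10 113827 307 114134 s10u352 s10c353 rfl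
theorem s10u354 : ∀ v, 1 ≤ v → v ≤ 114455 → fs10 v = true := slots_step fs10 114134 321 114455 s10u353 s10c354 rfl
theorem s10u355 : ∀ v, 1 ≤ v → v ≤ 114795 → fs10 v = true := slots_step fs10 114455 340 114795 s10u354 s10c355 rfl
theorem s10u356 : ∀ v, 1 ≤ v → v ≤ 115151 → fs10 v = true := slots_step fs10 114795 356 115151 s10u355 s10c356 rfl
theorem s10u357 : ∀ v, 1 ≤ v → v ≤ 115520 → fs10 v = true := slots_step fs10 115151 369 115520 s10u356 s10c357 rfl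
theorem s10u358 : ∀ v, 1 ≤ v → v ≤ 115884 → fs10 v = true := slots_step fs10 115520 364 115884 s10u357 s10c358 rfl
theorem s10u359 : ∀ v, 1 ≤ v → v ≤ 116236 → fs10 v = true := slots_step fs10 115884 352 116236 s10u358 s10c359 rfl
theorem s10u360 : ∀ v, 1 ≤ v → v ≤ 116618 → fs10 v = true := slots_step fs10 116236 382 116618 s10u359 s10c360 rfl
theorem s10u361 : ∀ v, 1 ≤ v → v ≤ 116993 → fs10 v = true := slots_step fs10 116618 375 116993 s10u360 s10c361 rfl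
theorem s10u362 : ∀ v, 1 ≤ v → v ≤ 117407 → fs10 v = true := slots_step fs10 116993 414 117407 s10u361 s10c362 rfl
theorem s10u363 : ∀ v, 1 ≤ v → v ≤ 117754 → fs10 v = true := slots_step fs10 117407 347 117754 s10u362 s10c363 rfl
theorem s10u364 : ∀ v, 1 ≤ v → v ≤ 118110 → fs10 v = true := slots_step fs10 117754 356 118110 s10u363 s10c364 rfl
theorem s10u365 : ∀ v, 1 ≤ v → v ≤ 118427 → fs10 v = true := slots_step fs10 118110 317 118427 s10u364 s10c365 rfl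
theorem s10u366 : ∀ v, 1 ≤ v → v ≤ 118750 → fs10 v = true := slots_step fs10 118427 323 118750 s10u365 s10c366 rfl
theorem s10u367 : ∀ v, 1 ≤ v → v ≤ 119096 → fs10 v = true := slots_step fs10 118750 346 119096 s10u366 s10c367 rfl
theorem s10u368 : ∀ v, 1 ≤ v → v ≤ 119423 → fs10 v = true := slots_step fs10 119096 327 119423 s10u367 s10c368 rfl
theorem s10u369 : ∀ v, 1 ≤ v → v ≤ 119824 → fs10 v = true := slots_step fs10 119423 401 119824 s10u368 s10c369 rfl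
theorem s10u370 : ∀ v, 1 ≤ v → v ≤ 120269 → fs10 v = true := slots_step fs10 119824 445 120269 s10u369 s10c370 rfl
theorem s10u371 : ∀ v, 1 ≤ v → v ≤ 120641 → fs10 v = true := slots_step fs10 120269 372 120641 s10u370 s10c371 rfl
theorem s10u372 : ∀ v, 1 ≤ v → v ≤ 120954 → fs10 v = true := slots_step fs10 120641 313 120954 s10u371 s10c372 rfl
theorem s10u373 : ∀ v, 1 ≤ v → v ≤ 121237 → fs10 v = true := slots_step fs10 120954 283 121237 s10u372 s10c373 rfl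
theorem s10u374 : ∀ v, 1 ≤ v → v ≤ 121552 → fs10 v = true := slots_step fs10 121237 315 121552 s10u373 s10c374 rfl
theorem s10u375 : ∀ v, 1 ≤ v → v ≤ 121879 → fs10 v = true := slots_step fs10 121552 327 121879 s10u374 s10c375 rfl
theorem s10u376 : ∀ v, 1 ≤ v → v ≤ 122188 → fs10 v = true := slots_step fs10 121879 309 122188 s10u375 s10c376 rfl
theorem s10u377 : ∀ v, 1 ≤ v → v ≤ 122508 → fs10 v = true := slots_step fs10 122188 320 122508 s10u376 s10c377 rfl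
theorem s10u378 : ∀ v, 1 ≤ v → v ≤ 122831 → fs10 v = true := slots_step fs10 122508 323 122831 s10u377 s10c378 rfl
theorem s10u379 : ∀ v, 1 ≤ v → v ≤ 123217 → fs10 v = true := slots_step fs10 122831 386 123217 s10u378 s10c379 rfl
theorem s10u380 : ∀ v, 1 ≤ v → v ≤ 123607 → fs10 v = true := slots_step fs10 123217 390 123607 s10u379 s10c380 rfl
theorem s10u381 : ∀ v, 1 ≤ v → v ≤ 123996 → fs10 v = true := slots_step fs10 123607 389 123996 s10u380 s10c381 rfl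
theorem s10u382 : ∀ v, 1 ≤ v → v ≤ 124330 → fs10 v = true := slots_step fs10 123996 334 124330 s10u381 s10c382 rfl
theorem s10u383 : ∀ v, 1 ≤ v → v ≤ 124736 → fs10 v = true := slots_step fs10 124330 406 124736 s10u382 s10c383 rfl
theorem s10u384 : ∀ v, 1 ≤ v → v ≤ 125020 → fs10 v = true := slots_step fs10 124736 284 125020 s10u383 s10c384 rfl
theorem s10u385 : ∀ v, 1 ≤ v → v ≤ 125302 → fs10 v = true := slots_step fs10 125020 282 125302 s10u384 s10c385 rfl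
theorem s10u386 : ∀ v, 1 ≤ v → v ≤ 125584 → fs10 v = true := slots_step fs10 125302 282 125584 s10u385 s10c386 rfl
theorem s10u387 : ∀ v, 1 ≤ v → v ≤ 125840 → fs10 v = true := slots_step fs10 125584 256 125840 s10u386 s10c387 rfl
theorem s10u388 : ∀ v, 1 ≤ v → v ≤ 126118 → fs10 v = true := slots_step fs10 125840 278 126118 s10u387 s10c388 rfl
theorem s10u389 : ∀ v, 1 ≤ v → v ≤ 126399 → fs10 v = true := slots_step fs10 126118 281 126399 s10u388 s10c389 rfl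
theorem s10u390 : ∀ v, 1 ≤ v → v ≤ 126676 → fs10 v = true := slots_step fs10 126399 277 126676 s10u389 s10c390 rfl
theorem s10u391 : ∀ v, 1 ≤ v → v ≤ 126944 → fs10 v = true := slots_step fs10 126676 268 126944 s10u390 s10c391 rfl
theorem s10u392 : ∀ v, 1 ≤ v → v ≤ 127226 → fs10 v = true := slots_step fs10 126944 282 127226 s10u391 s10c392 rfl
theorem s10u393 : ∀ v, 1 ≤ v → v ≤ 127506 → fs10 v = true := slots_step fs10 127226 280 127506 s10u392 s10c393 rfl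
theorem s10u394 : ∀ v, 1 ≤ v → v ≤ 127790 → fs10 v = true := slots_step fs10 127506 284 127790 s10u393 s10c394 rfl
theorem s10u395 : ∀ v, 1 ≤ v → v ≤ 128088 → fs10 v = true := slots_step fs10 127790 298 128088 s10u394 s10c395 rfl
theorem s10u396 : ∀ v, 1 ≤ v → v ≤ 128372 → fs10 v = true := slots_step fs10 128088 284 128372 s10u395 s10c396 rfl
theorem s10u397 : ∀ v, 1 ≤ v → v ≤ 128659 → fs10 v = true := slots_step fs10 128372 287 128659 s10u396 s10c397 rfl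
theorem s10u398 : ∀ v, 1 ≤ v → v ≤ 128944 → fs10 v = true := slots_step fs10 128659 285 128944 s10u397 s10c398 rfl
theorem s10u399 : ∀ v, 1 ≤ v → v ≤ 129238 → fs10 v = true := slots_step fs10 128944 294 129238 s10u398 s10c399 rfl
theorem s10u400 : ∀ v, 1 ≤ v → v ≤ 129506 → fs10 v = true := slots_step fs10 129238 268 129506 s10u399 s10c400 rfl
theorem s10u401 : ∀ v, 1 ≤ v → v ≤ 129799 → fs10 v = true := slots_step fs10 129506 293 129799 s10u400 s10c401 rfl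
theorem s10u402 : ∀ v, 1 ≤ v → v ≤ 130088 → fs10 v = true := slots_step fs10 129799 289 130088 s10u401 s10c402 rfl
theorem s10u403 : ∀ v, 1 ≤ v → v ≤ 130394 → fs10 v = true := slots_step fs10 130088 306 130394 s10u402 s10c403 rfl
theorem s10u404 : ∀ v, 1 ≤ v → v ≤ 130693 → fs10 v = true := slots_step fs10 130394 299 130693 s10u403 s10c404 rfl
theorem s10u405 : ∀ v, 1 ≤ v → v ≤ 130974 → fs10 v = true := slots_step fs10 130693 281 130974 s10u404 s10c405 rfl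
theorem s10u406 : ∀ v, 1 ≤ v → v ≤ 131277 → fs10 v = true := slots_step fs10 130974 303 131277 s10u405 s10c406 rfl
theorem s10u407 : ∀ v, 1 ≤ v → v ≤ 131573 → fs10 v = true := slots_step fs10 131277 296 131573 s10u406 s10c407 rfl
theorem s10u408 : ∀ v, 1 ≤ v → v ≤ 131866 → fs10 v = true := slots_step fs10 131573 293 131866 s10u407 s10c408 rfl
theorem s10u409 : ∀ v, 1 ≤ v → v ≤ 132128 → fs10 v = true := slots_step fs10 131866 262 132128 s10u408 s10c409 rfl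
theorem s10u410 : ∀ v, 1 ≤ v → v ≤ 132399 → fs10 v = true := slots_step fs10 132128 271 132399 s10u409 s10c410 rfl
theorem s10u411 : ∀ v, 1 ≤ v → v ≤ 132696 → fs10 v = true := slots_step fs10 132399 297 132696 s10u410 s10c411 rfl
theorem s10u412 : ∀ v, 1 ≤ v → v ≤ 132988 → fs10 v = true := slots_step fs10 132696 292 132988 s10u411 s10c412 rfl
theorem s10u413 : ∀ v, 1 ≤ v → v ≤ 133285 → fs10 v = true := slots_step fs10 132988 297 133285 s10u412 s10c413 rfl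
theorem s10u414 : ∀ v, 1 ≤ v → v ≤ 133561 → fs10 v = true := slots_step fs10 133285 276 133561 s10u413 s10c414 rfl
theorem s10u415 : ∀ v, 1 ≤ v → v ≤ 133840 → fs10 v = true := slots_step fs10 133561 279 133840 s10u414 s10c415 rfl
theorem s10u416 : ∀ v, 1 ≤ v → v ≤ 134140 → fs10 v = true := slots_step fs10 133840 300 134140 s10u415 s10c416 rfl
theorem s10u417 : ∀ v, 1 ≤ v → v ≤ 134418 → fs10 v = true := slots_step fs10 134140 278 134418 s10u416 s10c417 rfl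
theorem s10u418 : ∀ v, 1 ≤ v → v ≤ 134717 → fs10 v = true := slots_step fs10 134418 299 134717 s10u417 s10c418 rfl
theorem s10u419 : ∀ v, 1 ≤ v → v ≤ 134998 → fs10 v = true := slots_step fs10 134717 281 134998 s10u418 s10c419 rfl
theorem s10u420 : ∀ v, 1 ≤ v → v ≤ 135294 → fs10 v = true := slots_step fs10 134998 296 135294 s10u419 s10c420 rfl
theorem s10u421 : ∀ v, 1 ≤ v → v ≤ 135586 → fs10 v = true := slots_step fs10 135294 292 135586 s10u420 s10c421 rfl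
theorem s10u422 : ∀ v, 1 ≤ v → v ≤ 135877 → fs10 v = true := slots_step fs10 135586 291 135877 s10u421 s10c422 rfl
theorem s10u423 : ∀ v, 1 ≤ v → v ≤ 136179 → fs10 v = true := slots_step fs10 135877 302 136179 s10u422 s10c423 rfl
theorem s10u424 : ∀ v, 1 ≤ v → v ≤ 136481 → fs10 v = true := slots_step fs10 136179 302 136481 s10u423 s10c424 rfl
theorem s10u425 : ∀ v, 1 ≤ v → v ≤ 136781 → fs10 v = true := slots_step fs10 136481 300 136781 s10u424 s10c425 rfl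
theorem s10u426 : ∀ v, 1 ≤ v → v ≤ 137076 → fs10 v = true := slots_step fs10 136781 295 137076 s10u425 s10c426 rfl
theorem s10u427 : ∀ v, 1 ≤ v → v ≤ 137383 → fs10 v = true := slots_step fs10 137076 307 137383 s10u426 s10c427 rfl
theorem s10u428 : ∀ v, 1 ≤ v → v ≤ 137666 → fs10 v = true := slots_step fs10 137383 283 137666 s10u427 s10c428 rfl
theorem s10u429 : ∀ v, 1 ≤ v → v ≤ 137954 → fs10 v = true := slots_step fs10 137666 288 137954 s10u428 s10c429 rfl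
theorem s10u430 : ∀ v, 1 ≤ v → v ≤ 138246 → fs10 v = true := slots_step fs10 137954 292 138246 s10u429 s10c430 rfl
theorem s10u431 : ∀ v, 1 ≤ v → v ≤ 138543 → fs10 v = true := slots_step fs10 138246 297 138543 s10u430 s10c431 rfl
theorem s10u432 : ∀ v, 1 ≤ v → v ≤ 138833 → fs10 v = true := slots_step fs10 138543 290 138833 s10u431 s10c432 rfl
theorem s10u433 : ∀ v, 1 ≤ v → v ≤ 139138 → fs10 v = true := slots_step fs10 138833 305 139138 s10u432 s10c433 rfl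
theorem s10u434 : ∀ v, 1 ≤ v → v ≤ 139406 → fs10 v = true := slots_step fs10 139138 268 139406 s10u433 s10c434 rfl
theorem s10u435 : ∀ v, 1 ≤ v → v ≤ 139682 → fs10 v = true := slots_step fs10 139406 276 139682 s10u434 s10c435 rfl
theorem s10u436 : ∀ v, 1 ≤ v → v ≤ 139964 → fs10 v = true := slots_step fs10 139682 282 139964 s10u435 s10c436 rfl
theorem s10u437 : ∀ v, 1 ≤ v → v ≤ 140257 → fs10 v = true := slots_step fs10 139964 293 140257 s10u436 s10c437 rfl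
theorem s10u438 : ∀ v, 1 ≤ v → v ≤ 140548 → fs10 v = true := slots_step fs10 140257 291 140548 s10u437 s10c438 rfl
theorem s10u439 : ∀ v, 1 ≤ v → v ≤ 140841 → fs10 v = true := slots_step fs10 140548 293 140841 s10u438 s10c439 rfl
theorem s10u440 : ∀ v, 1 ≤ v → v ≤ 141124 → fs10 v = true := slots_step fs10 140841 283 141124 s10u439 s10c440 rfl
theorem s10u441 : ∀ v, 1 ≤ v → v ≤ 141413 → fs10 v = true := slots_step fs10 141124 289 141413 s10u440 s10c441 rfl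
theorem s10u442 : ∀ v, 1 ≤ v → v ≤ 141702 → fs10 v = true := slots_step fs10 141413 289 141702 s10u441 s10c442 rfl
theorem s10u443 : ∀ v, 1 ≤ v → v ≤ 141983 → fs10 v = true := slots_step fs10 141702 281 141983 s10u442 s10c443 rfl
theorem s10u444 : ∀ v, 1 ≤ v → v ≤ 142260 → fs10 v = true := slots_step fs10 141983 277 142260 s10u443 s10c444 rfl
theorem s10u445 : ∀ v, 1 ≤ v → v ≤ 142514 → fs10 v = true := slots_step fs10 142260 254 142514 s10u444 s10c445 rfl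
theorem s10u446 : ∀ v, 1 ≤ v → v ≤ 142790 → fs10 v = true := slots_step fs10 142514 276 142790 s10u445 s10c446 rfl
theorem s10u447 : ∀ v, 1 ≤ v → v ≤ 143071 → fs10 v = true := slots_step fs10 142790 281 143071 s10u446 s10c447 rfl
theorem s10u448 : ∀ v, 1 ≤ v → v ≤ 143355 → fs10 v = true := slots_step fs10 143071 284 143355 s10u447 s10c448 rfl
theorem s10u449 : ∀ v, 1 ≤ v → v ≤ 143645 → fs10 v = true := slots_step fs10 143355 290 143645 s10u448 s10c449 rfl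
theorem s10u450 : ∀ v, 1 ≤ v → v ≤ 143919 → fs10 v = true := slots_step fs10 143645 274 143919 s10u449 s10c450 rfl
theorem s10u451 : ∀ v, 1 ≤ v → v ≤ 144210 → fs10 v = true := slots_step fs10 143919 291 144210 s10u450 s10c451 rfl
theorem s10u452 : ∀ v, 1 ≤ v → v ≤ 144495 → fs10 v = true := slots_step fs10 144210 285 144495 s10u451 s10c452 rfl
theorem s10u453 : ∀ v, 1 ≤ v → v ≤ 144787 → fs10 v = true := slots_step fs10 144495 292 144787 s10u452 s10c453 rfl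
theorem s10u454 : ∀ v, 1 ≤ v → v ≤ 145082 → fs10 v = true := slots_step fs10 144787 295 145082 s10u453 s10c454 rfl
theorem s10u455 : ∀ v, 1 ≤ v → v ≤ 145375 → fs10 v = true := slots_step fs10 145082 293 145375 s10u454 s10c455 rfl
theorem s10u456 : ∀ v, 1 ≤ v → v ≤ 145681 → fs10 v = true := slots_step fs10 145375 306 145681 s10u455 s10c456 rfl
theorem s10u457 : ∀ v, 1 ≤ v → v ≤ 145974 → fs10 v = true := slots_step fs10 145681 293 145974 s10u456 s10c457 rfl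
theorem s10u458 : ∀ v, 1 ≤ v → v ≤ 146258 → fs10 v = true := slots_step fs10 145974 284 146258 s10u457 s10c458 rfl
theorem s10u459 : ∀ v, 1 ≤ v → v ≤ 146557 → fs10 v = true := slots_step fs10 146258 299 146557 s10u458 s10c459 rfl
theorem s10u460 : ∀ v, 1 ≤ v → v ≤ 146822 → fs10 v = true := slots_step fs10 146557 265 146822 s10u459 s10c460 rfl
theorem s10u461 : ∀ v, 1 ≤ v → v ≤ 147121 → fs10 v = true := slots_step fs10 146822 299 147121 s10u460 s10c461 rfl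
theorem s10u462 : ∀ v, 1 ≤ v → v ≤ 147408 → fs10 v = true := slots_step fs10 147121 287 147408 s10u461 s10c462 rfl
theorem s10u463 : ∀ v, 1 ≤ v → v ≤ 147700 → fs10 v = true := slots_step fs10 147408 292 147700 s10u462 s10c463 rfl
theorem s10u464 : ∀ v, 1 ≤ v → v ≤ 147999 → fs10 v = true := slots_step fs10 147700 299 147999 s10u463 s10c464 rfl
theorem s10u465 : ∀ v, 1 ≤ v → v ≤ 148288 → fs10 v = true := slots_step fs10 147999 289 148288 s10u464 s10c465 rfl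
theorem s10u466 : ∀ v, 1 ≤ v → v ≤ 148587 → fs10 v = true := slots_step fs10 148288 299 148587 s10u465 s10c466 rfl
theorem s10u467 : ∀ v, 1 ≤ v → v ≤ 148880 → fs10 v = true := slots_step fs10 148587 293 148880 s10u466 s10c467 rfl
theorem s10u468 : ∀ v, 1 ≤ v → v ≤ 149178 → fs10 v = true := slots_step fs10 148880 298 149178 s10u467 s10c468 rfl
theorem s10u469 : ∀ v, 1 ≤ v → v ≤ 149452 → fs10 v = true := slots_step fs10 149178 274 149452 s10u468 s10c469 rfl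
theorem s10u470 : ∀ v, 1 ≤ v → v ≤ 149731 → fs10 v = true := slots_step fs10 149452 279 149731 s10u469 s10c470 rfl
theorem s10u471 : ∀ v, 1 ≤ v → v ≤ 150026 → fs10 v = true := slots_step fs10 149731 295 150026 s10u470 s10c471 rfl
theorem s10u472 : ∀ v, 1 ≤ v → v ≤ 150324 → fs10 v = true := slots_step fs10 150026 298 150324 s10u471 s10c472 rfl
theorem s10u473 : ∀ v, 1 ≤ v → v ≤ 150622 → fs10 v = true := slots_step fs10 150324 298 150622 s10u472 s10c473 rfl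
theorem s10u474 : ∀ v, 1 ≤ v → v ≤ 150926 → fs10 v = true := slots_step fs10 150622 304 150926 s10u473 s10c474 rfl
theorem s10u475 : ∀ v, 1 ≤ v → v ≤ 151208 → fs10 v = true := slots_step fs10 150926 282 151208 s10u474 s10c475 rfl
theorem s10u476 : ∀ v, 1 ≤ v → v ≤ 151492 → fs10 v = true := slots_step fs10 151208 284 151492 s10u475 s10c476 rfl
theorem s10u477 : ∀ v, 1 ≤ v → v ≤ 151785 → fs10 v = true := slots_step fs10 151492 293 151785 s10u476 s10c477 rfl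
theorem s10u478 : ∀ v, 1 ≤ v → v ≤ 152077 → fs10 v = true := slots_step fs10 151785 292 152077 s10u477 s10c478 rfl
theorem s10u479 : ∀ v, 1 ≤ v → v ≤ 152367 → fs10 v = true := slots_step fs10 152077 290 152367 s10u478 s10c479 rfl
theorem s10u480 : ∀ v, 1 ≤ v → v ≤ 152668 → fs10 v = true := slots_step fs10 152367 301 152668 s10u479 s10c480 rfl
theorem s10u481 : ∀ v, 1 ≤ v → v ≤ 152956 → fs10 v = true := slots_step fs10 152668 288 152956 s10u480 s10c481 rfl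
theorem s10u482 : ∀ v, 1 ≤ v → v ≤ 153251 → fs10 v = true := slots_step fs10 152956 295 153251 s10u481 s10c482 rfl
theorem s10u483 : ∀ v, 1 ≤ v → v ≤ 153547 → fs10 v = true := slots_step fs10 153251 296 153547 s10u482 s10c483 rfl
theorem s10u484 : ∀ v, 1 ≤ v → v ≤ 153847 → fs10 v = true := slots_step fs10 153547 300 153847 s10u483 s10c484 rfl
theorem s10u485 : ∀ v, 1 ≤ v → v ≤ 154134 → fs10 v = true := slots_step fs10 153847 287 154134 s10u484 s10c485 rfl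
theorem s10u486 : ∀ v, 1 ≤ v → v ≤ 154441 → fs10 v = true := slots_step fs10 154134 307 154441 s10u485 s10c486 rfl
theorem s10u487 : ∀ v, 1 ≤ v → v ≤ 154749 → fs10 v = true := slots_step fs10 154441 308 154749 s10u486 s10c487 rfl
theorem s10u488 : ∀ v, 1 ≤ v → v ≤ 155053 → fs10 v = true := slots_step fs10 154749 304 155053 s10u487 s10c488 rfl
theorem s10u489 : ∀ v, 1 ≤ v → v ≤ 155352 → fs10 v = true := slots_step fs10 155053 299 155352 s10u488 s10c489 rfl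
theorem s10u490 : ∀ v, 1 ≤ v → v ≤ 155663 → fs10 v = true := slots_step fs10 155352 311 155663 s10u489 s10c490 rfl
theorem s10u491 : ∀ v, 1 ≤ v → v ≤ 155950 → fs10 v = true := slots_step fs10 155663 287 155950 s10u490 s10c491 rfl
theorem s10u492 : ∀ v, 1 ≤ v → v ≤ 156231 → fs10 v = true := slots_step fs10 155950 281 156231 s10u491 s10c492 rfl
theorem s10u493 : ∀ v, 1 ≤ v → v ≤ 156518 → fs10 v = true := slots_step fs10 156231 287 156518 s10u492 s10c493 rfl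
theorem s10u494 : ∀ v, 1 ≤ v → v ≤ 156809 → fs10 v = true := slots_step fs10 156518 291 156809 s10u493 s10c494 rfl
theorem s10u495 : ∀ v, 1 ≤ v → v ≤ 157103 → fs10 v = true := slots_step fs10 156809 294 157103 s10u494 s10c495 rfl
theorem s10u496 : ∀ v, 1 ≤ v → v ≤ 157397 → fs10 v = true := slots_step fs10 157103 294 157397 s10u495 s10c496 rfl
theorem s10u497 : ∀ v, 1 ≤ v → v ≤ 157670 → fs10 v = true := slots_step fs10 157397 273 157670 s10u496 s10c497 rfl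
theorem s10u498 : ∀ v, 1 ≤ v → v ≤ 157961 → fs10 v = true := slots_step fs10 157670 291 157961 s10u497 s10c498 rfl
theorem s10u499 : ∀ v, 1 ≤ v → v ≤ 158244 → fs10 v = true := slots_step fs10 157961 283 158244 s10u498 s10c499 rfl
theorem s10u500 : ∀ v, 1 ≤ v → v ≤ 158543 → fs10 v = true := slots_step fs10 158244 299 158543 s10u499 s10c500 rfl
theorem s10u501 : ∀ v, 1 ≤ v → v ≤ 158846 → fs10 v = true := slots_step fs10 158543 303 158846 s10u500 s10c501 rfl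
theorem s10u502 : ∀ v, 1 ≤ v → v ≤ 159133 → fs10 v = true := slots_step fs10 158846 287 159133 s10u501 s10c502 rfl
theorem s10u503 : ∀ v, 1 ≤ v → v ≤ 159403 → fs10 v = true := slots_step fs10 159133 270 159403 s10u502 s10c503 rfl
theorem s10u504 : ∀ v, 1 ≤ v → v ≤ 159698 → fs10 v = true := slots_step fs10 159403 295 159698 s10u503 s10c504 rfl
theorem s10u505 : ∀ v, 1 ≤ v → v ≤ 159989 → fs10 v = true := slots_step fs10 159698 291 159989 s10u504 s10c505 rfl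
theorem s10u506 : ∀ v, 1 ≤ v → v ≤ 160283 → fs10 v = true := slots_step fs10 159989 294 160283 s10u505 s10c506 rfl
theorem s10u507 : ∀ v, 1 ≤ v → v ≤ 160551 → fs10 v = true := slots_step fs10 160283 268 160551 s10u506 s10c507 rfl
theorem s10u508 : ∀ v, 1 ≤ v → v ≤ 160816 → fs10 v = true := slots_step fs10 160551 265 160816 s10u507 s10c508 rfl
theorem s10u509 : ∀ v, 1 ≤ v → v ≤ 161089 → fs10 v = true := slots_step fs10 160816 273 161089 s10u508 s10c509 rfl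
theorem s10u510 : ∀ v, 1 ≤ v → v ≤ 161382 → fs10 v = true := slots_step fs10 161089 293 161382 s10u509 s10c510 rfl
theorem s10u511 : ∀ v, 1 ≤ v → v ≤ 161672 → fs10 v = true := slots_step fs10 161382 290 161672 s10u510 s10c511 rfl
theorem s10u512 : ∀ v, 1 ≤ v → v ≤ 161958 → fs10 v = true := slots_step fs10 161672 286 161958 s10u511 s10c512 rfl
theorem s10u513 : ∀ v, 1 ≤ v → v ≤ 162259 → fs10 v = true := slots_step fs10 161958 301 162259 s10u512 s10c513 rfl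
theorem s10u514 : ∀ v, 1 ≤ v → v ≤ 162535 → fs10 v = true := slots_step fs10 162259 276 162535 s10u513 s10c514 rfl
theorem s10u515 : ∀ v, 1 ≤ v → v ≤ 162830 → fs10 v = true := slots_step fs10 162535 295 162830 s10u514 s10c515 rfl
theorem s10u516 : ∀ v, 1 ≤ v → v ≤ 163118 → fs10 v = true := slots_step fs10 162830 288 163118 s10u515 s10c516 rfl
theorem s10u517 : ∀ v, 1 ≤ v → v ≤ 163425 → fs10 v = true := slots_step fs10 163118 307 163425 s10u516 s10c517 rfl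
theorem s10u518 : ∀ v, 1 ≤ v → v ≤ 163719 → fs10 v = true := slots_step fs10 163425 294 163719 s10u517 s10c518 rfl
theorem s10u519 : ∀ v, 1 ≤ v → v ≤ 164016 → fs10 v = true := slots_step fs10 163719 297 164016 s10u518 s10c519 rfl
theorem s10u520 : ∀ v, 1 ≤ v → v ≤ 164315 → fs10 v = true := slots_step fs10 164016 299 164315 s10u519 s10c520 rfl
theorem s10u521 : ∀ v, 1 ≤ v → v ≤ 164624 → fs10 v = true := slots_step fs10 164315 309 164624 s10u520 s10c521 rfl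
theorem s10u522 : ∀ v, 1 ≤ v → v ≤ 164926 → fs10 v = true := slots_step fs10 164624 302 164926 s10u521 s10c522 rfl
theorem s10u523 : ∀ v, 1 ≤ v → v ≤ 165198 → fs10 v = true := slots_step fs10 164926 272 165198 s10u522 s10c523 rfl
theorem s10u524 : ∀ v, 1 ≤ v → v ≤ 165493 → fs10 v = true := slots_step fs10 165198 295 165493 s10u523 s10c524 rfl
theorem s10u525 : ∀ v, 1 ≤ v → v ≤ 165775 → fs10 v = true := slots_step fs10 165493 282 165775 s10u524 s10c525 rfl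
theorem s10u526 : ∀ v, 1 ≤ v → v ≤ 166068 → fs10 v = true := slots_step fs10 165775 293 166068 s10u525 s10c526 rfl
theorem s10u527 : ∀ v, 1 ≤ v → v ≤ 166350 → fs10 v = true := slots_step fs10 166068 282 166350 s10u526 s10c527 rfl
theorem s10u528 : ∀ v, 1 ≤ v → v ≤ 166629 → fs10 v = true := slots_step fs10 166350 279 166629 s10u527 s10c528 rfl
theorem s10u529 : ∀ v, 1 ≤ v → v ≤ 166923 → fs10 v = true := slots_step fs10 166629 294 166923 s10u528 s10c529 rfl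
theorem s10u530 : ∀ v, 1 ≤ v → v ≤ 167216 → fs10 v = true := slots_step fs10 166923 293 167216 s10u529 s10c530 rfl
theorem s10u531 : ∀ v, 1 ≤ v → v ≤ 167512 → fs10 v = true := slots_step fs10 167216 296 167512 s10u530 s10c531 rfl
theorem s10u532 : ∀ v, 1 ≤ v → v ≤ 167804 → fs10 v = true := slots_step fs10 167512 292 167804 s10u531 s10c532 rfl
theorem s10u533 : ∀ v, 1 ≤ v → v ≤ 168106 → fs10 v = true := slots_step fs10 167804 302 168106 s10u532 s10c533 rfl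
theorem s10u534 : ∀ v, 1 ≤ v → v ≤ 168381 → fs10 v = true := slots_step fs10 168106 275 168381 s10u533 s10c534 rfl
theorem s10u535 : ∀ v, 1 ≤ v → v ≤ 168652 → fs10 v = true := slots_step fs10 168381 271 168652 s10u534 s10c535 rfl
theorem s10u536 : ∀ v, 1 ≤ v → v ≤ 168944 → fs10 v = true := slots_step fs10 168652 292 168944 s10u535 s10c536 rfl
theorem s10u537 : ∀ v, 1 ≤ v → v ≤ 169246 → fs10 v = true := slots_step fs10 168944 302 169246 s10u536 s10c537 rfl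
theorem s10u538 : ∀ v, 1 ≤ v → v ≤ 169542 → fs10 v = true := slots_step fs10 169246 296 169542 s10u537 s10c538 rfl
theorem s10u539 : ∀ v, 1 ≤ v → v ≤ 169842 → fs10 v = true := slots_step fs10 169542 300 169842 s10u538 s10c539 rfl
theorem s10u540 : ∀ v, 1 ≤ v → v ≤ 170151 → fs10 v = true := slots_step fs10 169842 309 170151 s10u539 s10c540 rfl
theorem s10u541 : ∀ v, 1 ≤ v → v ≤ 170443 → fs10 v = true := slots_step fs10 170151 292 170443 s10u540 s10c541 rfl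
theorem s10u542 : ∀ v, 1 ≤ v → v ≤ 170723 → fs10 v = true := slots_step fs10 170443 280 170723 s10u541 s10c542 rfl
theorem s10u543 : ∀ v, 1 ≤ v → v ≤ 171011 → fs10 v = true := slots_step fs10 170723 288 171011 s10u542 s10c543 rfl
theorem s10u544 : ∀ v, 1 ≤ v → v ≤ 171311 → fs10 v = true := slots_step fs10 171011 300 171311 s10u543 s10c544 rfl
theorem s10u545 : ∀ v, 1 ≤ v → v ≤ 171605 → fs10 v = true := slots_step fs10 171311 294 171605 s10u544 s10c545 rfl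
theorem s10u546 : ∀ v, 1 ≤ v → v ≤ 171894 → fs10 v = true := slots_step fs10 171605 289 171894 s10u545 s10c546 rfl
theorem s10u547 : ∀ v, 1 ≤ v → v ≤ 172203 → fs10 v = true := slots_step fs10 171894 309 172203 s10u546 s10c547 rfl
theorem s10u548 : ∀ v, 1 ≤ v → v ≤ 172501 → fs10 v = true := slots_step fs10 172203 298 172501 s10u547 s10c548 rfl
theorem s10u549 : ∀ v, 1 ≤ v → v ≤ 172794 → fs10 v = true := slots_step fs10 172501 293 172794 s10u548 s10c549 rfl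
theorem s10u550 : ∀ v, 1 ≤ v → v ≤ 173092 → fs10 v = true := slots_step fs10 172794 298 173092 s10u549 s10c550 rfl
theorem s10u551 : ∀ v, 1 ≤ v → v ≤ 173395 → fs10 v = true := slots_step fs10 173092 303 173395 s10u550 s10c551 rfl
theorem s10u552 : ∀ v, 1 ≤ v → v ≤ 173698 → fs10 v = true := slots_step fs10 173395 303 173698 s10u551 s10c552 rfl
theorem s10u553 : ∀ v, 1 ≤ v → v ≤ 173993 → fs10 v = true := slots_step fs10 173698 295 173993 s10u552 s10c553 rfl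
theorem s10u554 : ∀ v, 1 ≤ v → v ≤ 174296 → fs10 v = true := slots_step fs10 173993 303 174296 s10u553 s10c554 rfl
theorem s10u555 : ∀ v, 1 ≤ v → v ≤ 174620 → fs10 v = true := slots_step fs10 174296 324 174620 s10u554 s10c555 rfl
theorem s10u556 : ∀ v, 1 ≤ v → v ≤ 174920 → fs10 v = true := slots_step fs10 174620 300 174920 s10u555 s10c556 rfl
theorem s10u557 : ∀ v, 1 ≤ v → v ≤ 175221 → fs10 v = true := slots_step fs10 174920 301 175221 s10u556 s10c557 rfl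
theorem s10u558 : ∀ v, 1 ≤ v → v ≤ 175520 → fs10 v = true := slots_step fs10 175221 299 175520 s10u557 s10c558 rfl
theorem s10u559 : ∀ v, 1 ≤ v → v ≤ 175834 → fs10 v = true := slots_step fs10 175520 314 175834 s10u558 s10c559 rfl
theorem s10u560 : ∀ v, 1 ≤ v → v ≤ 176125 → fs10 v = true := slots_step fs10 175834 291 176125 s10u559 s10c560 rfl
theorem s10u561 : ∀ v, 1 ≤ v → v ≤ 176422 → fs10 v = true := slots_step fs10 176125 297 176422 s10u560 s10c561 rfl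
theorem s10u562 : ∀ v, 1 ≤ v → v ≤ 176693 → fs10 v = true := slots_step fs10 176422 271 176693 s10u561 s10c562 rfl
theorem s10u563 : ∀ v, 1 ≤ v → v ≤ 176982 → fs10 v = true := slots_step fs10 176693 289 176982 s10u562 s10c563 rfl
theorem s10u564 : ∀ v, 1 ≤ v → v ≤ 177267 → fs10 v = true := slots_step fs10 176982 285 177267 s10u563 s10c564 rfl
theorem s10u565 : ∀ v, 1 ≤ v → v ≤ 177542 → fs10 v = true := slots_step fs10 177267 275 177542 s10u564 s10c565 rfl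
theorem s10u566 : ∀ v, 1 ≤ v → v ≤ 177837 → fs10 v = true := slots_step fs10 177542 295 177837 s10u565 s10c566 rfl
theorem s10u567 : ∀ v, 1 ≤ v → v ≤ 178129 → fs10 v = true := slots_step fs10 177837 292 178129 s10u566 s10c567 rfl
theorem s10u568 : ∀ v, 1 ≤ v → v ≤ 178425 → fs10 v = true := slots_step fs10 178129 296 178425 s10u567 s10c568 rfl
theorem s10u569 : ∀ v, 1 ≤ v → v ≤ 178719 → fs10 v = true := slots_step fs10 178425 294 178719 s10u568 s10c569 rfl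
theorem s10u570 : ∀ v, 1 ≤ v → v ≤ 178998 → fs10 v = true := slots_step fs10 178719 279 178998 s10u569 s10c570 rfl
theorem s10u571 : ∀ v, 1 ≤ v → v ≤ 179293 → fs10 v = true := slots_step fs10 178998 295 179293 s10u570 s10c571 rfl
theorem s10u572 : ∀ v, 1 ≤ v → v ≤ 179583 → fs10 v = true := slots_step fs10 179293 290 179583 s10u571 s10c572 rfl
theorem s10u573 : ∀ v, 1 ≤ v → v ≤ 179878 → fs10 v = true := slots_step fs10 179583 295 179878 s10u572 s10c573 rfl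
theorem s10u574 : ∀ v, 1 ≤ v → v ≤ 180166 → fs10 v = true := slots_step fs10 179878 288 180166 s10u573 s10c574 rfl
theorem s10u575 : ∀ v, 1 ≤ v → v ≤ 180434 → fs10 v = true := slots_step fs10 180166 268 180434 s10u574 s10c575 rfl
theorem s10u576 : ∀ v, 1 ≤ v → v ≤ 180702 → fs10 v = true := slots_step fs10 180434 268 180702 s10u575 s10c576 rfl
theorem s10u577 : ∀ v, 1 ≤ v → v ≤ 180974 → fs10 v = true := slots_step fs10 180702 272 180974 s10u576 s10c577 rfl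
theorem s10u578 : ∀ v, 1 ≤ v → v ≤ 181264 → fs10 v = true := slots_step fs10 180974 290 181264 s10u577 s10c578 rfl
theorem s10u579 : ∀ v, 1 ≤ v → v ≤ 181547 → fs10 v = true := slots_step fs10 181264 283 181547 s10u578 s10c579 rfl
theorem s10u580 : ∀ v, 1 ≤ v → v ≤ 181845 → fs10 v = true := slots_step fs10 181547 298 181845 s10u579 s10c580 rfl
theorem s10u581 : ∀ v, 1 ≤ v → v ≤ 182138 → fs10 v = true := slots_step fs10 181845 293 182138 s10u580 s10c581 rfl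
theorem s10u582 : ∀ v, 1 ≤ v → v ≤ 182443 → fs10 v = true := slots_step fs10 182138 305 182443 s10u581 s10c582 rfl
theorem s10u583 : ∀ v, 1 ≤ v → v ≤ 182725 → fs10 v = true := slots_step fs10 182443 282 182725 s10u582 s10c583 rfl
theorem s10u584 : ∀ v, 1 ≤ v → v ≤ 183020 → fs10 v = true := slots_step fs10 182725 295 183020 s10u583 s10c584 rfl
theorem s10u585 : ∀ v, 1 ≤ v → v ≤ 183315 → fs10 v = true := slots_step fs10 183020 295 183315 s10u584 s10c585 rfl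
theorem s10u586 : ∀ v, 1 ≤ v → v ≤ 183628 → fs10 v = true := slots_step fs10 183315 313 183628 s10u585 s10c586 rfl
theorem s10u587 : ∀ v, 1 ≤ v → v ≤ 183924 → fs10 v = true := slots_step fs10 183628 296 183924 s10u586 s10c587 rfl
theorem s10u588 : ∀ v, 1 ≤ v → v ≤ 184222 → fs10 v = true := slots_step fs10 183924 298 184222 s10u587 s10c588 rfl
theorem s10u589 : ∀ v, 1 ≤ v → v ≤ 184527 → fs10 v = true := slots_step fs10 184222 305 184527 s10u588 s10c589 rfl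
theorem s10u590 : ∀ v, 1 ≤ v → v ≤ 184818 → fs10 v = true := slots_step fs10 184527 291 184818 s10u589 s10c590 rfl
theorem s10u591 : ∀ v, 1 ≤ v → v ≤ 185127 → fs10 v = true := slots_step fs10 184818 309 185127 s10u590 s10c591 rfl
theorem s10u592 : ∀ v, 1 ≤ v → v ≤ 185430 → fs10 v = true := slots_step fs10 185127 303 185430 s10u591 s10c592 rfl
theorem s10u593 : ∀ v, 1 ≤ v → v ≤ 185705 → fs10 v = true := slots_step fs10 185430 275 185705 s10u592 s10c593 rfl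
theorem s10u594 : ∀ v, 1 ≤ v → v ≤ 186000 → fs10 v = true := slots_step fs10 185705 295 186000 s10u593 s10c594 rfl
theorem s10u595 : ∀ v, 1 ≤ v → v ≤ 186291 → fs10 v = true := slots_step fs10 186000 291 186291 s10u594 s10c595 rfl
theorem s10u596 : ∀ v, 1 ≤ v → v ≤ 186574 → fs10 v = true := slots_step fs10 186291 283 186574 s10u595 s10c596 rfl
theorem s10u597 : ∀ v, 1 ≤ v → v ≤ 186835 → fs10 v = true := slots_step fs10 186574 261 186835 s10u596 s10c597 rfl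
theorem s10u598 : ∀ v, 1 ≤ v → v ≤ 187111 → fs10 v = true := slots_step fs10 186835 276 187111 s10u597 s10c598 rfl
theorem s10u599 : ∀ v, 1 ≤ v → v ≤ 187396 → fs10 v = true := slots_step fs10 187111 285 187396 s10u598 s10c599 rfl
theorem s10u600 : ∀ v, 1 ≤ v → v ≤ 187689 → fs10 v = true := slots_step fs10 187396 293 187689 s10u599 s10c600 rfl
theorem s10u601 : ∀ v, 1 ≤ v → v ≤ 187983 → fs10 v = true := slots_step fs10 187689 294 187983 s10u600 s10c601 rfl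
theorem s10u602 : ∀ v, 1 ≤ v → v ≤ 188273 → fs10 v = true := slots_step fs10 187983 290 188273 s10u601 s10c602 rfl
theorem s10u603 : ∀ v, 1 ≤ v → v ≤ 188569 → fs10 v = true := slots_step fs10 188273 296 188569 s10u602 s10c603 rfl
theorem s10u604 : ∀ v, 1 ≤ v → v ≤ 188844 → fs10 v = true := slots_step fs10 188569 275 188844 s10u603 s10c604 rfl
theorem s10u605 : ∀ v, 1 ≤ v → v ≤ 189123 → fs10 v = true := slots_step fs10 188844 279 189123 s10u604 s10c605 rfl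
theorem s10u606 : ∀ v, 1 ≤ v → v ≤ 189417 → fs10 v = true := slots_step fs10 189123 294 189417 s10u605 s10c606 rfl
theorem s10u607 : ∀ v, 1 ≤ v → v ≤ 189712 → fs10 v = true := slots_step fs10 189417 295 189712 s10u606 s10c607 rfl
theorem s10u608 : ∀ v, 1 ≤ v → v ≤ 190021 → fs10 v = true := slots_step fs10 189712 309 190021 s10u607 s10c608 rfl
theorem s10u609 : ∀ v, 1 ≤ v → v ≤ 190310 → fs10 v = true := slots_step fs10 190021 289 190310 s10u608 s10c609 rfl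
theorem s10u610 : ∀ v, 1 ≤ v → v ≤ 190607 → fs10 v = true := slots_step fs10 190310 297 190607 s10u609 s10c610 rfl
theorem s10u611 : ∀ v, 1 ≤ v → v ≤ 190892 → fs10 v = true := slots_step fs10 190607 285 190892 s10u610 s10c611 rfl
theorem s10u612 : ∀ v, 1 ≤ v → v ≤ 191191 → fs10 v = true := slots_step fs10 190892 299 191191 s10u611 s10c612 rfl
theorem s10u613 : ∀ v, 1 ≤ v → v ≤ 191485 → fs10 v = true := slots_step fs10 191191 294 191485 s10u612 s10c613 rfl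
theorem s10u614 : ∀ v, 1 ≤ v → v ≤ 191779 → fs10 v = true := slots_step fs10 191485 294 191779 s10u613 s10c614 rfl
theorem s10u615 : ∀ v, 1 ≤ v → v ≤ 192070 → fs10 v = true := slots_step fs10 191779 291 192070 s10u614 s10c615 rfl
theorem s10u616 : ∀ v, 1 ≤ v → v ≤ 192369 → fs10 v = true := slots_step fs10 192070 299 192369 s10u615 s10c616 rfl
theorem s10u617 : ∀ v, 1 ≤ v → v ≤ 192660 → fs10 v = true := slots_step fs10 192369 291 192660 s10u616 s10c617 rfl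
theorem s10u618 : ∀ v, 1 ≤ v → v ≤ 192969 → fs10 v = true := slots_step fs10 192660 309 192969 s10u617 s10c618 rfl
theorem s10u619 : ∀ v, 1 ≤ v → v ≤ 193281 → fs10 v = true := slots_step fs10 192969 312 193281 s10u618 s10c619 rfl
theorem s10u620 : ∀ v, 1 ≤ v → v ≤ 193576 → fs10 v = true := slots_step fs10 193281 295 193576 s10u619 s10c620 rfl
theorem s10u621 : ∀ v, 1 ≤ v → v ≤ 193878 → fs10 v = true := slots_step fs10 193576 302 193878 s10u620 s10c621 rfl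
theorem s10u622 : ∀ v, 1 ≤ v → v ≤ 194182 → fs10 v = true := slots_step fs10 193878 304 194182 s10u621 s10c622 rfl
theorem s10u623 : ∀ v, 1 ≤ v → v ≤ 194480 → fs10 v = true := slots_step fs10 194182 298 194480 s10u622 s10c623 rfl
theorem s10u624 : ∀ v, 1 ≤ v → v ≤ 194782 → fs10 v = true := slots_step fs10 194480 302 194782 s10u623 s10c624 rfl
theorem s10u625 : ∀ v, 1 ≤ v → v ≤ 195084 → fs10 v = true := slots_step fs10 194782 302 195084 s10u624 s10c625 rfl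
theorem s10u626 : ∀ v, 1 ≤ v → v ≤ 195373 → fs10 v = true := slots_step fs10 195084 289 195373 s10u625 s10c626 rfl
theorem s10u627 : ∀ v, 1 ≤ v → v ≤ 195684 → fs10 v = true := slots_step fs10 195373 311 195684 s10u626 s10c627 rfl
theorem s10u628 : ∀ v, 1 ≤ v → v ≤ 196006 → fs10 v = true := slots_step fs10 195684 322 196006 s10u627 s10c628 rfl
theorem s10u629 : ∀ v, 1 ≤ v → v ≤ 196315 → fs10 v = true := slots_step fs10 196006 309 196315 s10u628 s10c629 rfl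
theorem s10u630 : ∀ v, 1 ≤ v → v ≤ 196621 → fs10 v = true := slots_step fs10 196315 306 196621 s10u629 s10c630 rfl
theorem s10u631 : ∀ v, 1 ≤ v → v ≤ 196912 → fs10 v = true := slots_step fs10 196621 291 196912 s10u630 s10c631 rfl
theorem s10u632 : ∀ v, 1 ≤ v → v ≤ 197205 → fs10 v = true := slots_step fs10 196912 293 197205 s10u631 s10c632 rfl
theorem s10u633 : ∀ v, 1 ≤ v → v ≤ 197508 → fs10 v = true := slots_step fs10 197205 303 197508 s10u632 s10c633 rfl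
theorem s10u634 : ∀ v, 1 ≤ v → v ≤ 197818 → fs10 v = true := slots_step fs10 197508 310 197818 s10u633 s10c634 rfl
theorem s10u635 : ∀ v, 1 ≤ v → v ≤ 198091 → fs10 v = true := slots_step fs10 197818 273 198091 s10u634 s10c635 rfl
theorem s10u636 : ∀ v, 1 ≤ v → v ≤ 198369 → fs10 v = true := slots_step fs10 198091 278 198369 s10u635 s10c636 rfl
theorem s10u637 : ∀ v, 1 ≤ v → v ≤ 198646 → fs10 v = true := slots_step fs10 198369 277 198646 s10u636 s10c637 rfl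
theorem s10u638 : ∀ v, 1 ≤ v → v ≤ 198933 → fs10 v = true := slots_step fs10 198646 287 198933 s10u637 s10c638 rfl
theorem s10u639 : ∀ v, 1 ≤ v → v ≤ 199222 → fs10 v = true := slots_step fs10 198933 289 199222 s10u638 s10c639 rfl
theorem s10u640 : ∀ v, 1 ≤ v → v ≤ 199514 → fs10 v = true := slots_step fs10 199222 292 199514 s10u639 s10c640 rfl
theorem s10u641 : ∀ v, 1 ≤ v → v ≤ 199803 → fs10 v = true := slots_step fs10 199514 289 199803 s10u640 s10c641 rfl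
theorem s10u642 : ∀ v, 1 ≤ v → v ≤ 200094 → fs10 v = true := slots_step fs10 199803 291 200094 s10u641 s10c642 rfl
theorem s10u643 : ∀ v, 1 ≤ v → v ≤ 200390 → fs10 v = true := slots_step fs10 200094 296 200390 s10u642 s10c643 rfl
theorem s10u644 : ∀ v, 1 ≤ v → v ≤ 200679 → fs10 v = true := slots_step fs10 200390 289 200679 s10u643 s10c644 rfl
theorem s10u645 : ∀ v, 1 ≤ v → v ≤ 200966 → fs10 v = true := slots_step fs10 200679 287 200966 s10u644 s10c645 rfl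
theorem s10u646 : ∀ v, 1 ≤ v → v ≤ 201255 → fs10 v = true := slots_step fs10 200966 289 201255 s10u645 s10c646 rfl
theorem s10u647 : ∀ v, 1 ≤ v → v ≤ 201531 → fs10 v = true := slots_step fs10 201255 276 201531 s10u646 s10c647 rfl
theorem s10u648 : ∀ v, 1 ≤ v → v ≤ 201819 → fs10 v = true := slots_step fs10 201531 288 201819 s10u647 s10c648 rfl
theorem s10u649 : ∀ v, 1 ≤ v → v ≤ 202080 → fs10 v = true := slots_step fs10 201819 261 202080 s10u648 s10c649 rfl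
theorem s10u650 : ∀ v, 1 ≤ v → v ≤ 202361 → fs10 v = true := slots_step fs10 202080 281 202361 s10u649 s10c650 rfl
theorem s10u651 : ∀ v, 1 ≤ v → v ≤ 202647 → fs10 v = true := slots_step fs10 202361 286 202647 s10u650 s10c651 rfl
theorem s10u652 : ∀ v, 1 ≤ v → v ≤ 202935 → fs10 v = true := slots_step fs10 202647 288 202935 s10u651 s10c652 rfl
theorem s10u653 : ∀ v, 1 ≤ v → v ≤ 203222 → fs10 v = true := slots_step fs10 202935 287 203222 s10u652 s10c653 rfl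
theorem s10u654 : ∀ v, 1 ≤ v → v ≤ 203509 → fs10 v = true := slots_step fs10 203222 287 203509 s10u653 s10c654 rfl
theorem s10u655 : ∀ v, 1 ≤ v → v ≤ 203800 → fs10 v = true := slots_step fs10 203509 291 203800 s10u654 s10c655 rfl
theorem s10u656 : ∀ v, 1 ≤ v → v ≤ 204096 → fs10 v = true := slots_step fs10 203800 296 204096 s10u655 s10c656 rfl
theorem s10u657 : ∀ v, 1 ≤ v → v ≤ 204385 → fs10 v = true := slots_step fs10 204096 289 204385 s10u656 s10c657 rfl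
theorem s10u658 : ∀ v, 1 ≤ v → v ≤ 204695 → fs10 v = true := slots_step fs10 204385 310 204695 s10u657 s10c658 rfl
theorem s10u659 : ∀ v, 1 ≤ v → v ≤ 204986 → fs10 v = true := slots_step fs10 204695 291 204986 s10u658 s10c659 rfl
theorem s10u660 : ∀ v, 1 ≤ v → v ≤ 205294 → fs10 v = true := slots_step fs10 204986 308 205294 s10u659 s10c660 rfl
theorem s10u661 : ∀ v, 1 ≤ v → v ≤ 205583 → fs10 v = true := slots_step fs10 205294 289 205583 s10u660 s10c661 rfl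
theorem s10u662 : ∀ v, 1 ≤ v → v ≤ 205876 → fs10 v = true := slots_step fs10 205583 293 205876 s10u661 s10c662 rfl
theorem s10u663 : ∀ v, 1 ≤ v → v ≤ 206178 → fs10 v = true := slots_step fs10 205876 302 206178 s10u662 s10c663 rfl
theorem s10u664 : ∀ v, 1 ≤ v → v ≤ 206476 → fs10 v = true := slots_step fs10 206178 298 206476 s10u663 s10c664 rfl
theorem s10u665 : ∀ v, 1 ≤ v → v ≤ 206760 → fs10 v = true := slots_step fs10 206476 284 206760 s10u664 s10c665 rfl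
theorem s10u666 : ∀ v, 1 ≤ v → v ≤ 207066 → fs10 v = true := slots_step fs10 206760 306 207066 s10u665 s10c666 rfl
theorem s10u667 : ∀ v, 1 ≤ v → v ≤ 207366 → fs10 v = true := slots_step fs10 207066 300 207366 s10u666 s10c667 rfl
theorem s10u668 : ∀ v, 1 ≤ v → v ≤ 207651 → fs10 v = true := slots_step fs10 207366 285 207651 s10u667 s10c668 rfl
theorem s10u669 : ∀ v, 1 ≤ v → v ≤ 207941 → fs10 v = true := slots_step fs10 207651 290 207941 s10u668 s10c669 rfl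
theorem s10u670 : ∀ v, 1 ≤ v → v ≤ 208234 → fs10 v = true := slots_step fs10 207941 293 208234 s10u669 s10c670 rfl
theorem s10u671 : ∀ v, 1 ≤ v → v ≤ 208514 → fs10 v = true := slots_step fs10 208234 280 208514 s10u670 s10c671 rfl
theorem s10u672 : ∀ v, 1 ≤ v → v ≤ 208764 → fs10 v = true := slots_step fs10 208514 250 208764 s10u671 s10c672 rfl
theorem s10u673 : ∀ v, 1 ≤ v → v ≤ 209035 → fs10 v = true := slots_step fs10 208764 271 209035 s10u672 s10c673 rfl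
theorem s10u674 : ∀ v, 1 ≤ v → v ≤ 209319 → fs10 v = true := slots_step fs10 209035 284 209319 s10u673 s10c674 rfl
theorem s10u675 : ∀ v, 1 ≤ v → v ≤ 209606 → fs10 v = true := slots_step fs10 209319 287 209606 s10u674 s10c675 rfl
theorem s10u676 : ∀ v, 1 ≤ v → v ≤ 209895 → fs10 v = true := slots_step fs10 209606 289 209895 s10u675 s10c676 rfl
theorem s10u677 : ∀ v, 1 ≤ v → v ≤ 210183 → fs10 v = true := slots_step fs10 209895 288 210183 s10u676 s10c677 rfl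
theorem s10u678 : ∀ v, 1 ≤ v → v ≤ 210471 → fs10 v = true := slots_step fs10 210183 288 210471 s10u677 s10c678 rfl
theorem s10u679 : ∀ v, 1 ≤ v → v ≤ 210755 → fs10 v = true := slots_step fs10 210471 284 210755 s10u678 s10c679 rfl
theorem s10u680 : ∀ v, 1 ≤ v → v ≤ 211035 → fs10 v = true := slots_step fs10 210755 280 211035 s10u679 s10c680 rfl
theorem s10u681 : ∀ v, 1 ≤ v → v ≤ 211329 → fs10 v = true := slots_step fs10 211035 294 211329 s10u680 s10c681 rfl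
theorem s10u682 : ∀ v, 1 ≤ v → v ≤ 211615 → fs10 v = true := slots_step fs10 211329 286 211615 s10u681 s10c682 rfl
theorem s10u683 : ∀ v, 1 ≤ v → v ≤ 211919 → fs10 v = true := slots_step fs10 211615 304 211919 s10u682 s10c683 rfl
theorem s10u684 : ∀ v, 1 ≤ v → v ≤ 212224 → fs10 v = true := slots_step fs10 211919 305 212224 s10u683 s10c684 rfl
theorem s10u685 : ∀ v, 1 ≤ v → v ≤ 212509 → fs10 v = true := slots_step fs10 212224 285 212509 s10u684 s10c685 rfl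
theorem s10u686 : ∀ v, 1 ≤ v → v ≤ 212790 → fs10 v = true := slots_step fs10 212509 281 212790 s10u685 s10c686 rfl
theorem s10u687 : ∀ v, 1 ≤ v → v ≤ 213092 → fs10 v = true := slots_step fs10 212790 302 213092 s10u686 s10c687 rfl
theorem s10u688 : ∀ v, 1 ≤ v → v ≤ 213401 → fs10 v = true := slots_step fs10 213092 309 213401 s10u687 s10c688 rfl
theorem s10u689 : ∀ v, 1 ≤ v → v ≤ 213695 → fs10 v = true := slots_step fs10 213401 294 213695 s10u688 s10c689 rfl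
theorem s10u690 : ∀ v, 1 ≤ v → v ≤ 213992 → fs10 v = true := slots_step fs10 213695 297 213992 s10u689 s10c690 rfl
theorem s10u691 : ∀ v, 1 ≤ v → v ≤ 214296 → fs10 v = true := slots_step fs10 213992 304 214296 s10u690 s10c691 rfl
theorem s10u692 : ∀ v, 1 ≤ v → v ≤ 214595 → fs10 v = true := slots_step fs10 214296 299 214595 s10u691 s10c692 rfl
theorem s10u693 : ∀ v, 1 ≤ v → v ≤ 214875 → fs10 v = true := slots_step fs10 214595 280 214875 s10u692 s10c693 rfl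
theorem s10u694 : ∀ v, 1 ≤ v → v ≤ 215177 → fs10 v = true := slots_step fs10 214875 302 215177 s10u693 s10c694 rfl
theorem s10u695 : ∀ v, 1 ≤ v → v ≤ 215486 → fs10 v = true := slots_step fs10 215177 309 215486 s10u694 s10c695 rfl
theorem s10u696 : ∀ v, 1 ≤ v → v ≤ 215796 → fs10 v = true := slots_step fs10 215486 310 215796 s10u695 s10c696 rfl
theorem s10u697 : ∀ v, 1 ≤ v → v ≤ 216089 → fs10 v = true := slots_step fs10 215796 293 216089 s10u696 s10c697 rfl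
theorem s10u698 : ∀ v, 1 ≤ v → v ≤ 216395 → fs10 v = true := slots_step fs10 216089 306 216395 s10u697 s10c698 rfl
theorem s10u699 : ∀ v, 1 ≤ v → v ≤ 216706 → fs10 v = true := slots_step fs10 216395 311 216706 s10u698 s10c699 rfl
theorem s10u700 : ∀ v, 1 ≤ v → v ≤ 216992 → fs10 v = true := slots_step fs10 216706 286 216992 s10u699 s10c700 rfl
theorem s10u701 : ∀ v, 1 ≤ v → v ≤ 217297 → fs10 v = true := slots_step fs10 216992 305 217297 s10u700 s10c701 rfl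
theorem s10u702 : ∀ v, 1 ≤ v → v ≤ 217599 → fs10 v = true := slots_step fs10 217297 302 217599 s10u701 s10c702 rfl
theorem s10u703 : ∀ v, 1 ≤ v → v ≤ 217903 → fs10 v = true := slots_step fs10 217599 304 217903 s10u702 s10c703 rfl
theorem s10u704 : ∀ v, 1 ≤ v → v ≤ 218182 → fs10 v = true := slots_step fs10 217903 279 218182 s10u703 s10c704 rfl
theorem s10u705 : ∀ v, 1 ≤ v → v ≤ 218485 → fs10 v = true := slots_step fs10 218182 303 218485 s10u704 s10c705 rfl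
theorem s10u706 : ∀ v, 1 ≤ v → v ≤ 218789 → fs10 v = true := slots_step fs10 218485 304 218789 s10u705 s10c706 rfl
theorem s10u707 : ∀ v, 1 ≤ v → v ≤ 219096 → fs10 v = true := slots_step fs10 218789 307 219096 s10u706 s10c707 rfl
theorem s10u708 : ∀ v, 1 ≤ v → v ≤ 219390 → fs10 v = true := slots_step fs10 219096 294 219390 s10u707 s10c708 rfl
theorem s10u709 : ∀ v, 1 ≤ v → v ≤ 219688 → fs10 v = true := slots_step fs10 219390 298 219688 s10u708 s10c709 rfl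
theorem s10u710 : ∀ v, 1 ≤ v → v ≤ 219956 → fs10 v = true := slots_step fs10 219688 268 219956 s10u709 s10c710 rfl
theorem s10u711 : ∀ v, 1 ≤ v → v ≤ 220257 → fs10 v = true := slots_step fs10 219956 301 220257 s10u710 s10c711 rfl
theorem s10u712 : ∀ v, 1 ≤ v → v ≤ 220570 → fs10 v = true := slots_step fs10 220257 313 220570 s10u711 s10c712 rfl
theorem s10u713 : ∀ v, 1 ≤ v → v ≤ 220842 → fs10 v = true := slots_step fs10 220570 272 220842 s10u712 s10c713 rfl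
theorem s10u714 : ∀ v, 1 ≤ v → v ≤ 221106 → fs10 v = true := slots_step fs10 220842 264 221106 s10u713 s10c714 rfl
theorem s10u715 : ∀ v, 1 ≤ v → v ≤ 221386 → fs10 v = true := slots_step fs10 221106 280 221386 s10u714 s10c715 rfl
theorem s10u716 : ∀ v, 1 ≤ v → v ≤ 221673 → fs10 v = true := slots_step fs10 221386 287 221673 s10u715 s10c716 rfl
theorem s10u717 : ∀ v, 1 ≤ v → v ≤ 221956 → fs10 v = true := slots_step fs10 221673 283 221956 s10u716 s10c717 rfl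
theorem s10u718 : ∀ v, 1 ≤ v → v ≤ 222247 → fs10 v = true := slots_step fs10 221956 291 222247 s10u717 s10c718 rfl
theorem s10u719 : ∀ v, 1 ≤ v → v ≤ 222513 → fs10 v = true := slots_step fs10 222247 266 222513 s10u718 s10c719 rfl
theorem s10u720 : ∀ v, 1 ≤ v → v ≤ 222794 → fs10 v = true := slots_step fs10 222513 281 222794 s10u719 s10c720 rfl
theorem s10u721 : ∀ v, 1 ≤ v → v ≤ 223064 → fs10 v = true := slots_step fs10 222794 270 223064 s10u720 s10c721 rfl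
theorem s10u722 : ∀ v, 1 ≤ v → v ≤ 223348 → fs10 v = true := slots_step fs10 223064 284 223348 s10u721 s10c722 rfl
theorem s10u723 : ∀ v, 1 ≤ v → v ≤ 223634 → fs10 v = true := slots_step fs10 223348 286 223634 s10u722 s10c723 rfl
theorem s10u724 : ∀ v, 1 ≤ v → v ≤ 223917 → fs10 v = true := slots_step fs10 223634 283 223917 s10u723 s10c724 rfl
theorem s10u725 : ∀ v, 1 ≤ v → v ≤ 224202 → fs10 v = true := slots_step fs10 223917 285 224202 s10u724 s10c725 rfl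
theorem s10u726 : ∀ v, 1 ≤ v → v ≤ 224473 → fs10 v = true := slots_step fs10 224202 271 224473 s10u725 s10c726 rfl
theorem s10u727 : ∀ v, 1 ≤ v → v ≤ 224756 → fs10 v = true := slots_step fs10 224473 283 224756 s10u726 s10c727 rfl
theorem s10u728 : ∀ v, 1 ≤ v → v ≤ 225025 → fs10 v = true := slots_step fs10 224756 269 225025 s10u727 s10c728 rfl
theorem s10u729 : ∀ v, 1 ≤ v → v ≤ 225312 → fs10 v = true := slots_step fs10 225025 287 225312 s10u728 s10c729 rfl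
theorem s10u730 : ∀ v, 1 ≤ v → v ≤ 225597 → fs10 v = true := slots_step fs10 225312 285 225597 s10u729 s10c730 rfl
theorem s10u731 : ∀ v, 1 ≤ v → v ≤ 225882 → fs10 v = true := slots_step fs10 225597 285 225882 s10u730 s10c731 rfl
theorem s10u732 : ∀ v, 1 ≤ v → v ≤ 226172 → fs10 v = true := slots_step fs10 225882 290 226172 s10u731 s10c732 rfl
theorem s10u733 : ∀ v, 1 ≤ v → v ≤ 226462 → fs10 v = true := slots_step fs10 226172 290 226462 s10u732 s10c733 rfl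
theorem s10u734 : ∀ v, 1 ≤ v → v ≤ 226739 → fs10 v = true := slots_step fs10 226462 277 226739 s10u733 s10c734 rfl
theorem s10u735 : ∀ v, 1 ≤ v → v ≤ 227029 → fs10 v = true := slots_step fs10 226739 290 227029 s10u734 s10c735 rfl
theorem s10u736 : ∀ v, 1 ≤ v → v ≤ 227313 → fs10 v = true := slots_step fs10 227029 284 227313 s10u735 s10c736 rfl
theorem s10u737 : ∀ v, 1 ≤ v → v ≤ 227607 → fs10 v = true := slots_step fs10 227313 294 227607 s10u736 s10c737 rfl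
theorem s10u738 : ∀ v, 1 ≤ v → v ≤ 227914 → fs10 v = true := slots_step fs10 227607 307 227914 s10u737 s10c738 rfl
theorem s10u739 : ∀ v, 1 ≤ v → v ≤ 228195 → fs10 v = true := slots_step fs10 227914 281 228195 s10u738 s10c739 rfl
theorem s10u740 : ∀ v, 1 ≤ v → v ≤ 228489 → fs10 v = true := slots_step fs10 228195 294 228489 s10u739 s10c740 rfl
theorem s10u741 : ∀ v, 1 ≤ v → v ≤ 228774 → fs10 v = true := slots_step fs10 228489 285 228774 s10u740 s10c741 rfl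
theorem s10u742 : ∀ v, 1 ≤ v → v ≤ 229059 → fs10 v = true := slots_step fs10 228774 285 229059 s10u741 s10c742 rfl
theorem s10u743 : ∀ v, 1 ≤ v → v ≤ 229353 → fs10 v = true := slots_step fs10 229059 294 229353 s10u742 s10c743 rfl
theorem s10u744 : ∀ v, 1 ≤ v → v ≤ 229650 → fs10 v = true := slots_step fs10 229353 297 229650 s10u743 s10c744 rfl
theorem s10u745 : ∀ v, 1 ≤ v → v ≤ 229937 → fs10 v = true := slots_step fs10 229650 287 229937 s10u744 s10c745 rfl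
theorem s10u746 : ∀ v, 1 ≤ v → v ≤ 230211 → fs10 v = true := slots_step fs10 229937 274 230211 s10u745 s10c746 rfl
theorem s10u747 : ∀ v, 1 ≤ v → v ≤ 230504 → fs10 v = true := slots_step fs10 230211 293 230504 s10u746 s10c747 rfl
theorem s10u748 : ∀ v, 1 ≤ v → v ≤ 230793 → fs10 v = true := slots_step fs10 230504 289 230793 s10u747 s10c748 rfl
theorem s10u749 : ∀ v, 1 ≤ v → v ≤ 231086 → fs10 v = true := slots_step fs10 230793 293 231086 s10u748 s10c749 rfl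
theorem s10u750 : ∀ v, 1 ≤ v → v ≤ 231365 → fs10 v = true := slots_step fs10 231086 279 231365 s10u749 s10c750 rfl
theorem s10u751 : ∀ v, 1 ≤ v → v ≤ 231656 → fs10 v = true := slots_step fs10 231365 291 231656 s10u750 s10c751 rfl
theorem s10u752 : ∀ v, 1 ≤ v → v ≤ 231938 → fs10 v = true := slots_step fs10 231656 282 231938 s10u751 s10c752 rfl
theorem s10u753 : ∀ v, 1 ≤ v → v ≤ 232182 → fs10 v = true := slots_step fs10 231938 244 232182 s10u752 s10c753 rfl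
theorem s10u754 : ∀ v, 1 ≤ v → v ≤ 232440 → fs10 v = true := slots_step fs10 232182 258 232440 s10u753 s10c754 rfl
theorem s10u755 : ∀ v, 1 ≤ v → v ≤ 232722 → fs10 v = true := slots_step fs10 232440 282 232722 s10u754 s10c755 rfl
theorem s10u756 : ∀ v, 1 ≤ v → v ≤ 233005 → fs10 v = true := slots_step fs10 232722 283 233005 s10u755 s10c756 rfl
theorem s10u757 : ∀ v, 1 ≤ v → v ≤ 233290 → fs10 v = true := slots_step fs10 233005 285 233290 s10u756 s10c757 rfl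
theorem s10u758 : ∀ v, 1 ≤ v → v ≤ 233578 → fs10 v = true := slots_step fs10 233290 288 233578 s10u757 s10c758 rfl
theorem s10u759 : ∀ v, 1 ≤ v → v ≤ 233850 → fs10 v = true := slots_step fs10 233578 272 233850 s10u758 s10c759 rfl
theorem s10u760 : ∀ v, 1 ≤ v → v ≤ 234132 → fs10 v = true := slots_step fs10 233850 282 234132 s10u759 s10c760 rfl
theorem s10u761 : ∀ v, 1 ≤ v → v ≤ 234408 → fs10 v = true := slots_step fs10 234132 276 234408 s10u760 s10c761 rfl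
theorem s10u762 : ∀ v, 1 ≤ v → v ≤ 234695 → fs10 v = true := slots_step fs10 234408 287 234695 s10u761 s10c762 rfl
theorem s10u763 : ∀ v, 1 ≤ v → v ≤ 234976 → fs10 v = true := slots_step fs10 234695 281 234976 s10u762 s10c763 rfl
theorem s10u764 : ∀ v, 1 ≤ v → v ≤ 235265 → fs10 v = true := slots_step fs10 234976 289 235265 s10u763 s10c764 rfl
theorem s10u765 : ∀ v, 1 ≤ v → v ≤ 235556 → fs10 v = true := slots_step fs10 235265 291 235556 s10u764 s10c765 rfl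
theorem s10u766 : ∀ v, 1 ≤ v → v ≤ 235864 → fs10 v = true := slots_step fs10 235556 308 235864 s10u765 s10c766 rfl
theorem s10u767 : ∀ v, 1 ≤ v → v ≤ 236148 → fs10 v = true := slots_step fs10 235864 284 236148 s10u766 s10c767 rfl
theorem s10u768 : ∀ v, 1 ≤ v → v ≤ 236423 → fs10 v = true := slots_step fs10 236148 275 236423 s10u767 s10c768 rfl
theorem s10u769 : ∀ v, 1 ≤ v → v ≤ 236712 → fs10 v = true := slots_step fs10 236423 289 236712 s10u768 s10c769 rfl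
theorem s10u770 : ∀ v, 1 ≤ v → v ≤ 237008 → fs10 v = true := slots_step fs10 236712 296 237008 s10u769 s10c770 rfl
theorem s10u771 : ∀ v, 1 ≤ v → v ≤ 237305 → fs10 v = true := slots_step fs10 237008 297 237305 s10u770 s10c771 rfl
theorem s10u772 : ∀ v, 1 ≤ v → v ≤ 237601 → fs10 v = true := slots_step fs10 237305 296 237601 s10u771 s10c772 rfl
theorem s10u773 : ∀ v, 1 ≤ v → v ≤ 237893 → fs10 v = true := slots_step fs10 237601 292 237893 s10u772 s10c773 rfl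
theorem s10u774 : ∀ v, 1 ≤ v → v ≤ 238196 → fs10 v = true := slots_step fs10 237893 303 238196 s10u773 s10c774 rfl
theorem s10u775 : ∀ v, 1 ≤ v → v ≤ 238497 → fs10 v = true := slots_step fs10 238196 301 238497 s10u774 s10c775 rfl
theorem s10u776 : ∀ v, 1 ≤ v → v ≤ 238781 → fs10 v = true := slots_step fs10 238497 284 238781 s10u775 s10c776 rfl
theorem s10u777 : ∀ v, 1 ≤ v → v ≤ 239070 → fs10 v = true := slots_step fs10 238781 289 239070 s10u776 s10c777 rfl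
theorem s10u778 : ∀ v, 1 ≤ v → v ≤ 239371 → fs10 v = true := slots_step fs10 239070 301 239371 s10u777 s10c778 rfl
theorem s10u779 : ∀ v, 1 ≤ v → v ≤ 239663 → fs10 v = true := slots_step fs10 239371 292 239663 s10u778 s10c779 rfl
theorem s10u780 : ∀ v, 1 ≤ v → v ≤ 239963 → fs10 v = true := slots_step fs10 239663 300 239963 s10u779 s10c780 rfl
theorem s10u781 : ∀ v, 1 ≤ v → v ≤ 240248 → fs10 v = true := slots_step fs10 239963 285 240248 s10u780 s10c781 rfl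
theorem s10u782 : ∀ v, 1 ≤ v → v ≤ 240558 → fs10 v = true := slots_step fs10 240248 310 240558 s10u781 s10c782 rfl
theorem s10u783 : ∀ v, 1 ≤ v → v ≤ 240861 → fs10 v = true := slots_step fs10 240558 303 240861 s10u782 s10c783 rfl
theorem s10u784 : ∀ v, 1 ≤ v → v ≤ 241148 → fs10 v = true := slots_step fs10 240861 287 241148 s10u783 s10c784 rfl
theorem s10u785 : ∀ v, 1 ≤ v → v ≤ 241445 → fs10 v = true := slots_step fs10 241148 297 241445 s10u784 s10c785 rfl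
theorem s10u786 : ∀ v, 1 ≤ v → v ≤ 241751 → fs10 v = true := slots_step fs10 241445 306 241751 s10u785 s10c786 rfl
theorem s10u787 : ∀ v, 1 ≤ v → v ≤ 242049 → fs10 v = true := slots_step fs10 241751 298 242049 s10u786 s10c787 rfl
theorem s10u788 : ∀ v, 1 ≤ v → v ≤ 242330 → fs10 v = true := slots_step fs10 242049 281 242330 s10u787 s10c788 rfl
theorem s10u789 : ∀ v, 1 ≤ v → v ≤ 242608 → fs10 v = true := slots_step fs10 242330 278 242608 s10u788 s10c789 rfl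
theorem s10u790 : ∀ v, 1 ≤ v → v ≤ 242900 → fs10 v = true := slots_step fs10 242608 292 242900 s10u789 s10c790 rfl
theorem s10u791 : ∀ v, 1 ≤ v → v ≤ 243194 → fs10 v = true := slots_step fs10 242900 294 243194 s10u790 s10c791 rfl
theorem s10u792 : ∀ v, 1 ≤ v → v ≤ 243485 → fs10 v = true := slots_step fs10 243194 291 243485 s10u791 s10c792 rfl
theorem s10u793 : ∀ v, 1 ≤ v → v ≤ 243775 → fs10 v = true := slots_step fs10 243485 290 243775 s10u792 s10c793 rfl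
theorem s10u794 : ∀ v, 1 ≤ v → v ≤ 244072 → fs10 v = true := slots_step fs10 243775 297 244072 s10u793 s10c794 rfl
theorem s10u795 : ∀ v, 1 ≤ v → v ≤ 244336 → fs10 v = true := slots_step fs10 244072 264 244336 s10u794 s10c795 rfl
theorem s10u796 : ∀ v, 1 ≤ v → v ≤ 244627 → fs10 v = true := slots_step fs10 244336 291 244627 s10u795 s10c796 rfl
theorem s10u797 : ∀ v, 1 ≤ v → v ≤ 244934 → fs10 v = true := slots_step fs10 244627 307 244934 s10u796 s10c797 rfl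
theorem s10u798 : ∀ v, 1 ≤ v → v ≤ 245198 → fs10 v = true := slots_step fs10 244934 264 245198 s10u797 s10c798 rfl
theorem s10u799 : ∀ v, 1 ≤ v → v ≤ 245461 → fs10 v = true := slots_step fs10 245198 263 245461 s10u798 s10c799 rfl
theorem s10u800 : ∀ v, 1 ≤ v → v ≤ 245746 → fs10 v = true := slots_step fs10 245461 285 245746 s10u799 s10c800 rfl
theorem s10u801 : ∀ v, 1 ≤ v → v ≤ 246026 → fs10 v = true := slots_step fs10 245746 280 246026 s10u800 s10c801 rfl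
theorem s10u802 : ∀ v, 1 ≤ v → v ≤ 246304 → fs10 v = true := slots_step fs10 246026 278 246304 s10u801 s10c802 rfl
theorem s10u803 : ∀ v, 1 ≤ v → v ≤ 246577 → fs10 v = true := slots_step fs10 246304 273 246577 s10u802 s10c803 rfl
theorem s10u804 : ∀ v, 1 ≤ v → v ≤ 246849 → fs10 v = true := slots_step fs10 246577 272 246849 s10u803 s10c804 rfl
theorem s10u805 : ∀ v, 1 ≤ v → v ≤ 247126 → fs10 v = true := slots_step fs10 246849 277 247126 s10u804 s10c805 rfl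
theorem s10u806 : ∀ v, 1 ≤ v → v ≤ 247400 → fs10 v = true := slots_step fs10 247126 274 247400 s10u805 s10c806 rfl
theorem s10u807 : ∀ v, 1 ≤ v → v ≤ 247682 → fs10 v = true := slots_step fs10 247400 282 247682 s10u806 s10c807 rfl
theorem s10u808 : ∀ v, 1 ≤ v → v ≤ 247958 → fs10 v = true := slots_step fs10 247682 276 247958 s10u807 s10c808 rfl
theorem s10u809 : ∀ v, 1 ≤ v → v ≤ 248236 → fs10 v = true := slots_step fs10 247958 278 248236 s10u808 s10c809 rfl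
theorem s10u810 : ∀ v, 1 ≤ v → v ≤ 248522 → fs10 v = true := slots_step fs10 248236 286 248522 s10u809 s10c810 rfl
theorem s10u811 : ∀ v, 1 ≤ v → v ≤ 248779 → fs10 v = true := slots_step fs10 248522 257 248779 s10u810 s10c811 rfl
theorem s10u812 : ∀ v, 1 ≤ v → v ≤ 249054 → fs10 v = true := slots_step fs10 248779 275 249054 s10u811 s10c812 rfl
theorem s10u813 : ∀ v, 1 ≤ v → v ≤ 249329 → fs10 v = true := slots_step fs10 249054 275 249329 s10u812 s10c813 rfl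
theorem s10u814 : ∀ v, 1 ≤ v → v ≤ 249607 → fs10 v = true := slots_step fs10 249329 278 249607 s10u813 s10c814 rfl
theorem s10u815 : ∀ v, 1 ≤ v → v ≤ 249886 → fs10 v = true := slots_step fs10 249607 279 249886 s10u814 s10c815 rfl
theorem s10u816 : ∀ v, 1 ≤ v → v ≤ 250168 → fs10 v = true := slots_step fs10 249886 282 250168 s10u815 s10c816 rfl
theorem s10u817 : ∀ v, 1 ≤ v → v ≤ 250455 → fs10 v = true := slots_step fs10 250168 287 250455 s10u816 s10c817 rfl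
theorem s10u818 : ∀ v, 1 ≤ v → v ≤ 250745 → fs10 v = true := slots_step fs10 250455 290 250745 s10u817 s10c818 rfl
theorem s10u819 : ∀ v, 1 ≤ v → v ≤ 251019 → fs10 v = true := slots_step fs10 250745 274 251019 s10u818 s10c819 rfl
theorem s10u820 : ∀ v, 1 ≤ v → v ≤ 251286 → fs10 v = true := slots_step fs10 251019 267 251286 s10u819 s10c820 rfl
theorem s10u821 : ∀ v, 1 ≤ v → v ≤ 251564 → fs10 v = true := slots_step fs10 251286 278 251564 s10u820 s10c821 rfl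
theorem s10u822 : ∀ v, 1 ≤ v → v ≤ 251844 → fs10 v = true := slots_step fs10 251564 280 251844 s10u821 s10c822 rfl
theorem s10u823 : ∀ v, 1 ≤ v → v ≤ 252131 → fs10 v = true := slots_step fs10 251844 287 252131 s10u822 s10c823 rfl
theorem s10u824 : ∀ v, 1 ≤ v → v ≤ 252424 → fs10 v = true := slots_step fs10 252131 293 252424 s10u823 s10c824 rfl
theorem s10u825 : ∀ v, 1 ≤ v → v ≤ 252710 → fs10 v = true := slots_step fs10 252424 286 252710 s10u824 s10c825 rfl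
theorem s10u826 : ∀ v, 1 ≤ v → v ≤ 252979 → fs10 v = true := slots_step fs10 252710 269 252979 s10u825 s10c826 rfl
theorem s10u827 : ∀ v, 1 ≤ v → v ≤ 253258 → fs10 v = true := slots_step fs10 252979 279 253258 s10u826 s10c827 rfl
theorem s10u828 : ∀ v, 1 ≤ v → v ≤ 253528 → fs10 v = true := slots_step fs10 253258 270 253528 s10u827 s10c828 rfl
theorem s10u829 : ∀ v, 1 ≤ v → v ≤ 253806 → fs10 v = true := slots_step fs10 253528 278 253806 s10u828 s10c829 rfl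
theorem s10u830 : ∀ v, 1 ≤ v → v ≤ 254098 → fs10 v = true := slots_step fs10 253806 292 254098 s10u829 s10c830 rfl
theorem s10u831 : ∀ v, 1 ≤ v → v ≤ 254383 → fs10 v = true := slots_step fs10 254098 285 254383 s10u830 s10c831 rfl
theorem s10u832 : ∀ v, 1 ≤ v → v ≤ 254653 → fs10 v = true := slots_step fs10 254383 270 254653 s10u831 s10c832 rfl
theorem s10u833 : ∀ v, 1 ≤ v → v ≤ 254922 → fs10 v = true := slots_step fs10 254653 269 254922 s10u832 s10c833 rfl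
theorem s10u834 : ∀ v, 1 ≤ v → v ≤ 255199 → fs10 v = true := slots_step fs10 254922 277 255199 s10u833 s10c834 rfl
theorem s10u835 : ∀ v, 1 ≤ v → v ≤ 255487 → fs10 v = true := slots_step fs10 255199 288 255487 s10u834 s10c835 rfl
theorem s10u836 : ∀ v, 1 ≤ v → v ≤ 255770 → fs10 v = true := slots_step fs10 255487 283 255770 s10u835 s10c836 rfl
theorem s10u837 : ∀ v, 1 ≤ v → v ≤ 256052 → fs10 v = true := slots_step fs10 255770 282 256052 s10u836 s10c837 rfl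
theorem s10u838 : ∀ v, 1 ≤ v → v ≤ 256327 → fs10 v = true := slots_step fs10 256052 275 256327 s10u837 s10c838 rfl
theorem s10u839 : ∀ v, 1 ≤ v → v ≤ 256622 → fs10 v = true := slots_step fs10 256327 295 256622 s10u838 s10c839 rfl
theorem s10u840 : ∀ v, 1 ≤ v → v ≤ 256872 → fs10 v = true := slots_step fs10 256622 250 256872 s10u839 s10c840 rfl
theorem s10u841 : ∀ v, 1 ≤ v → v ≤ 257124 → fs10 v = true := slots_step fs10 256872 252 257124 s10u840 s10c841 rfl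
theorem s10u842 : ∀ v, 1 ≤ v → v ≤ 257397 → fs10 v = true := slots_step fs10 257124 273 257397 s10u841 s10c842 rfl
theorem s10u843 : ∀ v, 1 ≤ v → v ≤ 257679 → fs10 v = true := slots_step fs10 257397 282 257679 s10u842 s10c843 rfl
theorem s10u844 : ∀ v, 1 ≤ v → v ≤ 257953 → fs10 v = true := slots_step fs10 257679 274 257953 s10u843 s10c844 rfl
theorem s10u845 : ∀ v, 1 ≤ v → v ≤ 258225 → fs10 v = true := slots_step fs10 257953 272 258225 s10u844 s10c845 rfl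
theorem s10u846 : ∀ v, 1 ≤ v → v ≤ 258504 → fs10 v = true := slots_step fs10 258225 279 258504 s10u845 s10c846 rfl
theorem s10u847 : ∀ v, 1 ≤ v → v ≤ 258774 → fs10 v = true := slots_step fs10 258504 270 258774 s10u846 s10c847 rfl
theorem s10u848 : ∀ v, 1 ≤ v → v ≤ 259046 → fs10 v = true := slots_step fs10 258774 272 259046 s10u847 s10c848 rfl
theorem s10u849 : ∀ v, 1 ≤ v → v ≤ 259328 → fs10 v = true := slots_step fs10 259046 282 259328 s10u848 s10c849 rfl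
theorem s10u850 : ∀ v, 1 ≤ v → v ≤ 259605 → fs10 v = true := slots_step fs10 259328 277 259605 s10u849 s10c850 rfl
theorem s10u851 : ∀ v, 1 ≤ v → v ≤ 259881 → fs10 v = true := slots_step fs10 259605 276 259881 s10u850 s10c851 rfl
theorem s10u852 : ∀ v, 1 ≤ v → v ≤ 260163 → fs10 v = true := slots_step fs10 259881 282 260163 s10u851 s10c852 rfl
theorem s10u853 : ∀ v, 1 ≤ v → v ≤ 260454 → fs10 v = true := slots_step fs10 260163 291 260454 s10u852 s10c853 rfl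
theorem s10u854 : ∀ v, 1 ≤ v → v ≤ 260735 → fs10 v = true := slots_step fs10 260454 281 260735 s10u853 s10c854 rfl
theorem s10u855 : ∀ v, 1 ≤ v → v ≤ 261032 → fs10 v = true := slots_step fs10 260735 297 261032 s10u854 s10c855 rfl
theorem s10u856 : ∀ v, 1 ≤ v → v ≤ 261312 → fs10 v = true := slots_step fs10 261032 280 261312 s10u855 s10c856 rfl
theorem s10u857 : ∀ v, 1 ≤ v → v ≤ 261580 → fs10 v = true := slots_step fs10 261312 268 261580 s10u856 s10c857 rfl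
theorem s10u858 : ∀ v, 1 ≤ v → v ≤ 261862 → fs10 v = true := slots_step fs10 261580 282 261862 s10u857 s10c858 rfl
theorem s10u859 : ∀ v, 1 ≤ v → v ≤ 262136 → fs10 v = true := slots_step fs10 261862 274 262136 s10u858 s10c859 rfl
theorem s10u860 : ∀ v, 1 ≤ v → v ≤ 262413 → fs10 v = true := slots_step fs10 262136 277 262413 s10u859 s10c860 rfl
theorem s10u861 : ∀ v, 1 ≤ v → v ≤ 262700 → fs10 v = true := slots_step fs10 262413 287 262700 s10u860 s10c861 rfl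
theorem s10u862 : ∀ v, 1 ≤ v → v ≤ 262993 → fs10 v = true := slots_step fs10 262700 293 262993 s10u861 s10c862 rfl
theorem s10u863 : ∀ v, 1 ≤ v → v ≤ 263290 → fs10 v = true := slots_step fs10 262993 297 263290 s10u862 s10c863 rfl
theorem s10u864 : ∀ v, 1 ≤ v → v ≤ 263585 → fs10 v = true := slots_step fs10 263290 295 263585 s10u863 s10c864 rfl
theorem s10u865 : ∀ v, 1 ≤ v → v ≤ 263873 → fs10 v = true := slots_step fs10 263585 288 263873 s10u864 s10c865 rfl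
theorem s10u866 : ∀ v, 1 ≤ v → v ≤ 264146 → fs10 v = true := slots_step fs10 263873 273 264146 s10u865 s10c866 rfl
theorem s10u867 : ∀ v, 1 ≤ v → v ≤ 264424 → fs10 v = true := slots_step fs10 264146 278 264424 s10u866 s10c867 rfl
theorem s10u868 : ∀ v, 1 ≤ v → v ≤ 264716 → fs10 v = true := slots_step fs10 264424 292 264716 s10u867 s10c868 rfl
theorem s10u869 : ∀ v, 1 ≤ v → v ≤ 264999 → fs10 v = true := slots_step fs10 264716 283 264999 s10u868 s10c869 rfl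
theorem s10u870 : ∀ v, 1 ≤ v → v ≤ 265277 → fs10 v = true := slots_step fs10 264999 278 265277 s10u869 s10c870 rfl
theorem s10u871 : ∀ v, 1 ≤ v → v ≤ 265557 → fs10 v = true := slots_step fs10 265277 280 265557 s10u870 s10c871 rfl
theorem s10u872 : ∀ v, 1 ≤ v → v ≤ 265863 → fs10 v = true := slots_step fs10 265557 306 265863 s10u871 s10c872 rfl
theorem s10u873 : ∀ v, 1 ≤ v → v ≤ 266152 → fs10 v = true := slots_step fs10 265863 289 266152 s10u872 s10c873 rfl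
theorem s10u874 : ∀ v, 1 ≤ v → v ≤ 266446 → fs10 v = true := slots_step fs10 266152 294 266446 s10u873 s10c874 rfl
theorem s10u875 : ∀ v, 1 ≤ v → v ≤ 266727 → fs10 v = true := slots_step fs10 266446 281 266727 s10u874 s10c875 rfl
theorem s10u876 : ∀ v, 1 ≤ v → v ≤ 267022 → fs10 v = true := slots_step fs10 266727 295 267022 s10u875 s10c876 rfl
theorem s10u877 : ∀ v, 1 ≤ v → v ≤ 267311 → fs10 v = true := slots_step fs10 267022 289 267311 s10u876 s10c877 rfl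
theorem s10u878 : ∀ v, 1 ≤ v → v ≤ 267598 → fs10 v = true := slots_step fs10 267311 287 267598 s10u877 s10c878 rfl
theorem s10u879 : ∀ v, 1 ≤ v → v ≤ 267874 → fs10 v = true := slots_step fs10 267598 276 267874 s10u878 s10c879 rfl
theorem s10u880 : ∀ v, 1 ≤ v → v ≤ 268150 → fs10 v = true := slots_step fs10 267874 276 268150 s10u879 s10c880 rfl
theorem s10u881 : ∀ v, 1 ≤ v → v ≤ 268438 → fs10 v = true := slots_step fs10 268150 288 268438 s10u880 s10c881 rfl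
theorem s10u882 : ∀ v, 1 ≤ v → v ≤ 268719 → fs10 v = true := slots_step fs10 268438 281 268719 s10u881 s10c882 rfl
theorem s10u883 : ∀ v, 1 ≤ v → v ≤ 268995 → fs10 v = true := slots_step fs10 268719 276 268995 s10u882 s10c883 rfl
theorem s10u884 : ∀ v, 1 ≤ v → v ≤ 269279 → fs10 v = true := slots_step fs10 268995 284 269279 s10u883 s10c884 rfl
theorem s10u885 : ∀ v, 1 ≤ v → v ≤ 269569 → fs10 v = true := slots_step fs10 269279 290 269569 s10u884 s10c885 rfl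
theorem s10u886 : ∀ v, 1 ≤ v → v ≤ 269838 → fs10 v = true := slots_step fs10 269569 269 269838 s10u885 s10c886 rfl
theorem s10u887 : ∀ v, 1 ≤ v → v ≤ 270121 → fs10 v = true := slots_step fs10 269838 283 270121 s10u886 s10c887 rfl
theorem s10u888 : ∀ v, 1 ≤ v → v ≤ 270401 → fs10 v = true := slots_step fs10 270121 280 270401 s10u887 s10c888 rfl
theorem s10u889 : ∀ v, 1 ≤ v → v ≤ 270674 → fs10 v = true := slots_step fs10 270401 273 270674 s10u888 s10c889 rfl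
theorem s10u890 : ∀ v, 1 ≤ v → v ≤ 270947 → fs10 v = true := slots_step fs10 270674 273 270947 s10u889 s10c890 rfl
theorem s10u891 : ∀ v, 1 ≤ v → v ≤ 271226 → fs10 v = true := slots_step fs10 270947 279 271226 s10u890 s10c891 rfl
theorem s10u892 : ∀ v, 1 ≤ v → v ≤ 271489 → fs10 v = true := slots_step fs10 271226 263 271489 s10u891 s10c892 rfl
theorem s10u893 : ∀ v, 1 ≤ v → v ≤ 271761 → fs10 v = true := slots_step fs10 271489 272 271761 s10u892 s10c893 rfl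
theorem s10u894 : ∀ v, 1 ≤ v → v ≤ 272021 → fs10 v = true := slots_step fs10 271761 260 272021 s10u893 s10c894 rfl
theorem s10u895 : ∀ v, 1 ≤ v → v ≤ 272292 → fs10 v = true := slots_step fs10 272021 271 272292 s10u894 s10c895 rfl
theorem s10u896 : ∀ v, 1 ≤ v → v ≤ 272563 → fs10 v = true := slots_step fs10 272292 271 272563 s10u895 s10c896 rfl
theorem s10u897 : ∀ v, 1 ≤ v → v ≤ 272838 → fs10 v = true := slots_step fs10 272563 275 272838 s10u896 s10c897 rfl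
theorem s10u898 : ∀ v, 1 ≤ v → v ≤ 273110 → fs10 v = true := slots_step fs10 272838 272 273110 s10u897 s10c898 rfl
theorem s10u899 : ∀ v, 1 ≤ v → v ≤ 273377 → fs10 v = true := slots_step fs10 273110 267 273377 s10u898 s10c899 rfl
theorem s10u900 : ∀ v, 1 ≤ v → v ≤ 273647 → fs10 v = true := slots_step fs10 273377 270 273647 s10u899 s10c900 rfl
theorem s10u901 : ∀ v, 1 ≤ v → v ≤ 273917 → fs10 v = true := slots_step fs10 273647 270 273917 s10u900 s10c901 rfl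
theorem s10u902 : ∀ v, 1 ≤ v → v ≤ 274169 → fs10 v = true := slots_step fs10 273917 252 274169 s10u901 s10c902 rfl
theorem s10u903 : ∀ v, 1 ≤ v → v ≤ 274435 → fs10 v = true := slots_step fs10 274169 266 274435 s10u902 s10c903 rfl
theorem s10u904 : ∀ v, 1 ≤ v → v ≤ 274704 → fs10 v = true := slots_step fs10 274435 269 274704 s10u903 s10c904 rfl
theorem s10u905 : ∀ v, 1 ≤ v → v ≤ 274974 → fs10 v = true := slots_step fs10 274704 270 274974 s10u904 s10c905 rfl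
theorem s10u906 : ∀ v, 1 ≤ v → v ≤ 275247 → fs10 v = true := slots_step fs10 274974 273 275247 s10u905 s10c906 rfl
theorem s10u907 : ∀ v, 1 ≤ v → v ≤ 275516 → fs10 v = true := slots_step fs10 275247 269 275516 s10u906 s10c907 rfl
theorem s10u908 : ∀ v, 1 ≤ v → v ≤ 275798 → fs10 v = true := slots_step fs10 275516 282 275798 s10u907 s10c908 rfl
theorem s10u909 : ∀ v, 1 ≤ v → v ≤ 276060 → fs10 v = true := slots_step fs10 275798 262 276060 s10u908 s10c909 rfl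
theorem s10u910 : ∀ v, 1 ≤ v → v ≤ 276345 → fs10 v = true := slots_step fs10 276060 285 276345 s10u909 s10c910 rfl
theorem s10u911 : ∀ v, 1 ≤ v → v ≤ 276613 → fs10 v = true := slots_step fs10 276345 268 276613 s10u910 s10c911 rfl
theorem s10u912 : ∀ v, 1 ≤ v → v ≤ 276866 → fs10 v = true := slots_step fs10 276613 253 276866 s10u911 s10c912 rfl
theorem s10u913 : ∀ v, 1 ≤ v → v ≤ 277132 → fs10 v = true := slots_step fs10 276866 266 277132 s10u912 s10c913 rfl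
theorem s10u914 : ∀ v, 1 ≤ v → v ≤ 277397 → fs10 v = true := slots_step fs10 277132 265 277397 s10u913 s10c914 rfl
theorem s10u915 : ∀ v, 1 ≤ v → v ≤ 277662 → fs10 v = true := slots_step fs10 277397 265 277662 s10u914 s10c915 rfl
theorem s10u916 : ∀ v, 1 ≤ v → v ≤ 277943 → fs10 v = true := slots_step fs10 277662 281 277943 s10u915 s10c916 rfl
theorem s10u917 : ∀ v, 1 ≤ v → v ≤ 278218 → fs10 v = true := slots_step fs10 277943 275 278218 s10u916 s10c917 rfl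
theorem s10u918 : ∀ v, 1 ≤ v → v ≤ 278477 → fs10 v = true := slots_step fs10 278218 259 278477 s10u917 s10c918 rfl
theorem s10u919 : ∀ v, 1 ≤ v → v ≤ 278738 → fs10 v = true := slots_step fs10 278477 261 278738 s10u918 s10c919 rfl
theorem s10u920 : ∀ v, 1 ≤ v → v ≤ 279003 → fs10 v = true := slots_step fs10 278738 265 279003 s10u919 s10c920 rfl
theorem s10u921 : ∀ v, 1 ≤ v → v ≤ 279274 → fs10 v = true := slots_step fs10 279003 271 279274 s10u920 s10c921 rfl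
theorem s10u922 : ∀ v, 1 ≤ v → v ≤ 279546 → fs10 v = true := slots_step fs10 279274 272 279546 s10u921 s10c922 rfl
theorem s10u923 : ∀ v, 1 ≤ v → v ≤ 279824 → fs10 v = true := slots_step fs10 279546 278 279824 s10u922 s10c923 rfl
theorem s10u924 : ∀ v, 1 ≤ v → v ≤ 280098 → fs10 v = true := slots_step fs10 279824 274 280098 s10u923 s10c924 rfl
theorem s10u925 : ∀ v, 1 ≤ v → v ≤ 280356 → fs10 v = true := slots_step fs10 280098 258 280356 s10u924 s10c925 rfl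
theorem s10u926 : ∀ v, 1 ≤ v → v ≤ 280617 → fs10 v = true := slots_step fs10 280356 261 280617 s10u925 s10c926 rfl
theorem s10u927 : ∀ v, 1 ≤ v → v ≤ 280885 → fs10 v = true := slots_step fs10 280617 268 280885 s10u926 s10c927 rfl
theorem s10u928 : ∀ v, 1 ≤ v → v ≤ 281156 → fs10 v = true := slots_step fs10 280885 271 281156 s10u927 s10c928 rfl
theorem s10u929 : ∀ v, 1 ≤ v → v ≤ 281439 → fs10 v = true := slots_step fs10 281156 283 281439 s10u928 s10c929 rfl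
theorem s10u930 : ∀ v, 1 ≤ v → v ≤ 281713 → fs10 v = true := slots_step fs10 281439 274 281713 s10u929 s10c930 rfl
theorem s10u931 : ∀ v, 1 ≤ v → v ≤ 281983 → fs10 v = true := slots_step fs10 281713 270 281983 s10u930 s10c931 rfl
theorem s10u932 : ∀ v, 1 ≤ v → v ≤ 282269 → fs10 v = true := slots_step fs10 281983 286 282269 s10u931 s10c932 rfl
theorem s10u933 : ∀ v, 1 ≤ v → v ≤ 282521 → fs10 v = true := slots_step fs10 282269 252 282521 s10u932 s10c933 rfl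
theorem s10u934 : ∀ v, 1 ≤ v → v ≤ 282776 → fs10 v = true := slots_step fs10 282521 255 282776 s10u933 s10c934 rfl
theorem s10u935 : ∀ v, 1 ≤ v → v ≤ 283055 → fs10 v = true := slots_step fs10 282776 279 283055 s10u934 s10c935 rfl
theorem s10u936 : ∀ v, 1 ≤ v → v ≤ 283326 → fs10 v = true := slots_step fs10 283055 271 283326 s10u935 s10c936 rfl
theorem s10u937 : ∀ v, 1 ≤ v → v ≤ 283597 → fs10 v = true := slots_step fs10 283326 271 283597 s10u936 s10c937 rfl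
theorem s10u938 : ∀ v, 1 ≤ v → v ≤ 283859 → fs10 v = true := slots_step fs10 283597 262 283859 s10u937 s10c938 rfl
theorem s10u939 : ∀ v, 1 ≤ v → v ≤ 284122 → fs10 v = true := slots_step fs10 283859 263 284122 s10u938 s10c939 rfl
theorem s10u940 : ∀ v, 1 ≤ v → v ≤ 284391 → fs10 v = true := slots_step fs10 284122 269 284391 s10u939 s10c940 rfl
theorem s10u941 : ∀ v, 1 ≤ v → v ≤ 284654 → fs10 v = true := slots_step fs10 284391 263 284654 s10u940 s10c941 rfl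
theorem s10u942 : ∀ v, 1 ≤ v → v ≤ 284933 → fs10 v = true := slots_step fs10 284654 279 284933 s10u941 s10c942 rfl
theorem s10u943 : ∀ v, 1 ≤ v → v ≤ 285198 → fs10 v = true := slots_step fs10 284933 265 285198 s10u942 s10c943 rfl
theorem s10u944 : ∀ v, 1 ≤ v → v ≤ 285471 → fs10 v = true := slots_step fs10 285198 273 285471 s10u943 s10c944 rfl
theorem s10u945 : ∀ v, 1 ≤ v → v ≤ 285747 → fs10 v = true := slots_step fs10 285471 276 285747 s10u944 s10c945 rfl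
theorem s10u946 : ∀ v, 1 ≤ v → v ≤ 286029 → fs10 v = true := slots_step fs10 285747 282 286029 s10u945 s10c946 rfl
theorem s10u947 : ∀ v, 1 ≤ v → v ≤ 286305 → fs10 v = true := slots_step fs10 286029 276 286305 s10u946 s10c947 rfl
theorem s10u948 : ∀ v, 1 ≤ v → v ≤ 286592 → fs10 v = true := slots_step fs10 286305 287 286592 s10u947 s10c948 rfl
theorem s10u949 : ∀ v, 1 ≤ v → v ≤ 286869 → fs10 v = true := slots_step fs10 286592 277 286869 s10u948 s10c949 rfl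
theorem s10u950 : ∀ v, 1 ≤ v → v ≤ 287136 → fs10 v = true := slots_step fs10 286869 267 287136 s10u949 s10c950 rfl
theorem s10u951 : ∀ v, 1 ≤ v → v ≤ 287406 → fs10 v = true := slots_step fs10 287136 270 287406 s10u950 s10c951 rfl
theorem s10u952 : ∀ v, 1 ≤ v → v ≤ 287679 → fs10 v = true := slots_step fs10 287406 273 287679 s10u951 s10c952 rfl
theorem s10u953 : ∀ v, 1 ≤ v → v ≤ 287953 → fs10 v = true := slots_step fs10 287679 274 287953 s10u952 s10c953 rfl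
theorem s10u954 : ∀ v, 1 ≤ v → v ≤ 288213 → fs10 v = true := slots_step fs10 287953 260 288213 s10u953 s10c954 rfl
theorem s10u955 : ∀ v, 1 ≤ v → v ≤ 288495 → fs10 v = true := slots_step fs10 288213 282 288495 s10u954 s10c955 rfl
theorem s10u956 : ∀ v, 1 ≤ v → v ≤ 288773 → fs10 v = true := slots_step fs10 288495 278 288773 s10u955 s10c956 rfl
theorem s10u957 : ∀ v, 1 ≤ v → v ≤ 289058 → fs10 v = true := slots_step fs10 288773 285 289058 s10u956 s10c957 rfl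
theorem s10u958 : ∀ v, 1 ≤ v → v ≤ 289339 → fs10 v = true := slots_step fs10 289058 281 289339 s10u957 s10c958 rfl
theorem s10u959 : ∀ v, 1 ≤ v → v ≤ 289612 → fs10 v = true := slots_step fs10 289339 273 289612 s10u958 s10c959 rfl
theorem s10u960 : ∀ v, 1 ≤ v → v ≤ 289879 → fs10 v = true := slots_step fs10 289612 267 289879 s10u959 s10c960 rfl
theorem s10u961 : ∀ v, 1 ≤ v → v ≤ 290144 → fs10 v = true := slots_step fs10 289879 265 290144 s10u960 s10c961 rfl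
theorem s10u962 : ∀ v, 1 ≤ v → v ≤ 290419 → fs10 v = true := slots_step fs10 290144 275 290419 s10u961 s10c962 rfl
theorem s10u963 : ∀ v, 1 ≤ v → v ≤ 290692 → fs10 v = true := slots_step fs10 290419 273 290692 s10u962 s10c963 rfl
theorem s10u964 : ∀ v, 1 ≤ v → v ≤ 290956 → fs10 v = true := slots_step fs10 290692 264 290956 s10u963 s10c964 rfl
theorem s10u965 : ∀ v, 1 ≤ v → v ≤ 291231 → fs10 v = true := slots_step fs10 290956 275 291231 s10u964 s10c965 rfl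
theorem s10u966 : ∀ v, 1 ≤ v → v ≤ 291518 → fs10 v = true := slots_step fs10 291231 287 291518 s10u965 s10c966 rfl
theorem s10u967 : ∀ v, 1 ≤ v → v ≤ 291799 → fs10 v = true := slots_step fs10 291518 281 291799 s10u966 s10c967 rfl
theorem s10u968 : ∀ v, 1 ≤ v → v ≤ 292085 → fs10 v = true := slots_step fs10 291799 286 292085 s10u967 s10c968 rfl
theorem s10u969 : ∀ v, 1 ≤ v → v ≤ 292359 → fs10 v = true := slots_step fs10 292085 274 292359 s10u968 s10c969 rfl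
theorem s10u970 : ∀ v, 1 ≤ v → v ≤ 292641 → fs10 v = true := slots_step fs10 292359 282 292641 s10u969 s10c970 rfl
theorem s10u971 : ∀ v, 1 ≤ v → v ≤ 292916 → fs10 v = true := slots_step fs10 292641 275 292916 s10u970 s10c971 rfl
theorem s10u972 : ∀ v, 1 ≤ v → v ≤ 293188 → fs10 v = true := slots_step fs10 292916 272 293188 s10u971 s10c972 rfl
theorem s10u973 : ∀ v, 1 ≤ v → v ≤ 293457 → fs10 v = true := slots_step fs10 293188 269 293457 s10u972 s10c973 rfl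
theorem s10u974 : ∀ v, 1 ≤ v → v ≤ 293734 → fs10 v = true := slots_step fs10 293457 277 293734 s10u973 s10c974 rfl
theorem s10u975 : ∀ v, 1 ≤ v → v ≤ 294010 → fs10 v = true := slots_step fs10 293734 276 294010 s10u974 s10c975 rfl
theorem s10u976 : ∀ v, 1 ≤ v → v ≤ 294277 → fs10 v = true := slots_step fs10 294010 267 294277 s10u975 s10c976 rfl
theorem s10u977 : ∀ v, 1 ≤ v → v ≤ 294552 → fs10 v = true := slots_step fs10 294277 275 294552 s10u976 s10c977 rfl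
theorem s10u978 : ∀ v, 1 ≤ v → v ≤ 294828 → fs10 v = true := slots_step fs10 294552 276 294828 s10u977 s10c978 rfl
theorem s10u979 : ∀ v, 1 ≤ v → v ≤ 295095 → fs10 v = true := slots_step fs10 294828 267 295095 s10u978 s10c979 rfl
theorem s10u980 : ∀ v, 1 ≤ v → v ≤ 295373 → fs10 v = true := slots_step fs10 295095 278 295373 s10u979 s10c980 rfl
theorem s10u981 : ∀ v, 1 ≤ v → v ≤ 295640 → fs10 v = true := slots_step fs10 295373 267 295640 s10u980 s10c981 rfl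
theorem s10u982 : ∀ v, 1 ≤ v → v ≤ 295907 → fs10 v = true := slots_step fs10 295640 267 295907 s10u981 s10c982 rfl
theorem s10u983 : ∀ v, 1 ≤ v → v ≤ 296181 → fs10 v = true := slots_step fs10 295907 274 296181 s10u982 s10c983 rfl
theorem s10u984 : ∀ v, 1 ≤ v → v ≤ 296434 → fs10 v = true := slots_step fs10 296181 253 296434 s10u983 s10c984 rfl
theorem s10u985 : ∀ v, 1 ≤ v → v ≤ 296700 → fs10 v = true := slots_step fs10 296434 266 296700 s10u984 s10c985 rfl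
theorem s10u986 : ∀ v, 1 ≤ v → v ≤ 296960 → fs10 v = true := slots_step fs10 296700 260 296960 s10u985 s10c986 rfl
theorem s10u987 : ∀ v, 1 ≤ v → v ≤ 297223 → fs10 v = true := slots_step fs10 296960 263 297223 s10u986 s10c987 rfl
theorem s10u988 : ∀ v, 1 ≤ v → v ≤ 297493 → fs10 v = true := slots_step fs10 297223 270 297493 s10u987 s10c988 rfl
theorem s10u989 : ∀ v, 1 ≤ v → v ≤ 297747 → fs10 v = true := slots_step fs10 297493 254 297747 s10u988 s10c989 rfl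
theorem s10u990 : ∀ v, 1 ≤ v → v ≤ 298015 → fs10 v = true := slots_step fs10 297747 268 298015 s10u989 s10c990 rfl
theorem s10u991 : ∀ v, 1 ≤ v → v ≤ 298279 → fs10 v = true := slots_step fs10 298015 264 298279 s10u990 s10c991 rfl
theorem s10u992 : ∀ v, 1 ≤ v → v ≤ 298541 → fs10 v = true := slots_step fs10 298279 262 298541 s10u991 s10c992 rfl
theorem s10u993 : ∀ v, 1 ≤ v → v ≤ 298799 → fs10 v = true := slots_step fs10 298541 258 298799 s10u992 s10c993 rfl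
theorem s10u994 : ∀ v, 1 ≤ v → v ≤ 299063 → fs10 v = true := slots_step fs10 298799 264 299063 s10u993 s10c994 rfl
theorem s10u995 : ∀ v, 1 ≤ v → v ≤ 299310 → fs10 v = true := slots_step fs10 299063 247 299310 s10u994 s10c995 rfl
theorem s10u996 : ∀ v, 1 ≤ v → v ≤ 299564 → fs10 v = true := slots_step fs10 299310 254 299564 s10u995 s10c996 rfl
theorem s10u997 : ∀ v, 1 ≤ v → v ≤ 299822 → fs10 v = true := slots_step fs10 299564 258 299822 s10u996 s10c997 rfl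
theorem s10u998 : ∀ v, 1 ≤ v → v ≤ 300073 → fs10 v = true := slots_step fs10 299822 251 300073 s10u997 s10c998 rfl
theorem s10u999 : ∀ v, 1 ≤ v → v ≤ 300334 → fs10 v = true := slots_step fs10 300073 261 300334 s10u998 s10c999 rfl
theorem s10u1000 : ∀ v, 1 ≤ v → v ≤ 300599 → fs10 v = true := slots_step fs10 300334 265 300599 s10u999 s10c1000 rfl
theorem s10u1001 : ∀ v, 1 ≤ v → v ≤ 300875 → fs10 v = true := slots_step fs10 300599 276 300875 s10u1000 s10c1001 rfl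
theorem s10u1002 : ∀ v, 1 ≤ v → v ≤ 301132 → fs10 v = true := slots_step fs10 300875 257 301132 s10u1001 s10c1002 rfl
theorem s10u1003 : ∀ v, 1 ≤ v → v ≤ 301400 → fs10 v = true := slots_step fs10 301132 268 301400 s10u1002 s10c1003 rfl
theorem s10u1004 : ∀ v, 1 ≤ v → v ≤ 301661 → fs10 v = true := slots_step fs10 301400 261 301661 s10u1003 s10c1004 rfl
theorem s10u1005 : ∀ v, 1 ≤ v → v ≤ 301925 → fs10 v = true := slots_step fs10 301661 264 301925 s10u1004 s10c1005 rfl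
theorem s10u1006 : ∀ v, 1 ≤ v → v ≤ 302175 → fs10 v = true := slots_step fs10 301925 250 302175 s10u1005 s10c1006 rfl
theorem s10u1007 : ∀ v, 1 ≤ v → v ≤ 302435 → fs10 v = true := slots_step fs10 302175 260 302435 s10u1006 s10c1007 rfl
theorem s10u1008 : ∀ v, 1 ≤ v → v ≤ 302703 → fs10 v = true := slots_step fs10 302435 268 302703 s10u1007 s10c1008 rfl
theorem s10u1009 : ∀ v, 1 ≤ v → v ≤ 302968 → fs10 v = true := slots_step fs10 302703 265 302968 s10u1008 s10c1009 rfl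
theorem s10u1010 : ∀ v, 1 ≤ v → v ≤ 303228 → fs10 v = true := slots_step fs10 302968 260 303228 s10u1009 s10c1010 rfl
theorem s10u1011 : ∀ v, 1 ≤ v → v ≤ 303479 → fs10 v = true := slots_step fs10 303228 251 303479 s10u1010 s10c1011 rfl
theorem s10u1012 : ∀ v, 1 ≤ v → v ≤ 303731 → fs10 v = true := slots_step fs10 303479 252 303731 s10u1011 s10c1012 rfl
theorem s10u1013 : ∀ v, 1 ≤ v → v ≤ 303987 → fs10 v = true := slots_step fs10 303731 256 303987 s10u1012 s10c1013 rfl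
theorem s10u1014 : ∀ v, 1 ≤ v → v ≤ 304253 → fs10 v = true := slots_step fs10 303987 266 304253 s10u1013 s10c1014 rfl
theorem s10u1015 : ∀ v, 1 ≤ v → v ≤ 304523 → fs10 v = true := slots_step fs10 304253 270 304523 s10u1014 s10c1015 rfl
theorem s10u1016 : ∀ v, 1 ≤ v → v ≤ 304775 → fs10 v = true := slots_step fs10 304523 252 304775 s10u1015 s10c1016 rfl
theorem s10u1017 : ∀ v, 1 ≤ v → v ≤ 305030 → fs10 v = true := slots_step fs10 304775 255 305030 s10u1016 s10c1017 rfl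
theorem s10u1018 : ∀ v, 1 ≤ v → v ≤ 305287 → fs10 v = true := slots_step fs10 305030 257 305287 s10u1017 s10c1018 rfl
theorem s10u1019 : ∀ v, 1 ≤ v → v ≤ 305554 → fs10 v = true := slots_step fs10 305287 267 305554 s10u1018 s10c1019 rfl
theorem s10u1020 : ∀ v, 1 ≤ v → v ≤ 305810 → fs10 v = true := slots_step fs10 305554 256 305810 s10u1019 s10c1020 rfl
theorem s10u1021 : ∀ v, 1 ≤ v → v ≤ 306091 → fs10 v = true := slots_step fs10 305810 281 306091 s10u1020 s10c1021 rfl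
theorem s10u1022 : ∀ v, 1 ≤ v → v ≤ 306353 → fs10 v = true := slots_step fs10 306091 262 306353 s10u1021 s10c1022 rfl
theorem s10u1023 : ∀ v, 1 ≤ v → v ≤ 306614 → fs10 v = true := slots_step fs10 306353 261 306614 s10u1022 s10c1023 rfl
theorem s10u1024 : ∀ v, 1 ≤ v → v ≤ 306882 → fs10 v = true := slots_step fs10 306614 268 306882 s10u1023 s10c1024 rfl
theorem s10u1025 : ∀ v, 1 ≤ v → v ≤ 307136 → fs10 v = true := slots_step fs10 306882 254 307136 s10u1024 s10c1025 rfl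
theorem s10u1026 : ∀ v, 1 ≤ v → v ≤ 307393 → fs10 v = true := slots_step fs10 307136 257 307393 s10u1025 s10c1026 rfl
theorem s10u1027 : ∀ v, 1 ≤ v → v ≤ 307665 → fs10 v = true := slots_step fs10 307393 272 307665 s10u1026 s10c1027 rfl
theorem s10u1028 : ∀ v, 1 ≤ v → v ≤ 307932 → fs10 v = true := slots_step fs10 307665 267 307932 s10u1027 s10c1028 rfl
theorem s10u1029 : ∀ v, 1 ≤ v → v ≤ 308192 → fs10 v = true := slots_step fs10 307932 260 308192 s10u1028 s10c1029 rfl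
theorem s10u1030 : ∀ v, 1 ≤ v → v ≤ 308453 → fs10 v = true := slots_step fs10 308192 261 308453 s10u1029 s10c1030 rfl
theorem s10u1031 : ∀ v, 1 ≤ v → v ≤ 308717 → fs10 v = true := slots_step fs10 308453 264 308717 s10u1030 s10c1031 rfl
theorem s10u1032 : ∀ v, 1 ≤ v → v ≤ 308977 → fs10 v = true := slots_step fs10 308717 260 308977 s10u1031 s10c1032 rfl
theorem s10u1033 : ∀ v, 1 ≤ v → v ≤ 309248 → fs10 v = true := slots_step fs10 308977 271 309248 s10u1032 s10c1033 rfl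
theorem s10u1034 : ∀ v, 1 ≤ v → v ≤ 309507 → fs10 v = true := slots_step fs10 309248 259 309507 s10u1033 s10c1034 rfl
theorem s10u1035 : ∀ v, 1 ≤ v → v ≤ 309762 → fs10 v = true := slots_step fs10 309507 255 309762 s10u1034 s10c1035 rfl
theorem s10u1036 : ∀ v, 1 ≤ v → v ≤ 310031 → fs10 v = true := slots_step fs10 309762 269 310031 s10u1035 s10c1036 rfl
theorem s10u1037 : ∀ v, 1 ≤ v → v ≤ 310306 → fs10 v = true := slots_step fs10 310031 275 310306 s10u1036 s10c1037 rfl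
theorem s10u1038 : ∀ v, 1 ≤ v → v ≤ 310581 → fs10 v = true := slots_step fs10 310306 275 310581 s10u1037 s10c1038 rfl
theorem s10u1039 : ∀ v, 1 ≤ v → v ≤ 310847 → fs10 v = true := slots_step fs10 310581 266 310847 s10u1038 s10c1039 rfl
theorem s10u1040 : ∀ v, 1 ≤ v → v ≤ 311107 → fs10 v = true := slots_step fs10 310847 260 311107 s10u1039 s10c1040 rfl
theorem s10u1041 : ∀ v, 1 ≤ v → v ≤ 311377 → fs10 v = true := slots_step fs10 311107 270 311377 s10u1040 s10c1041 rfl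
theorem s10u1042 : ∀ v, 1 ≤ v → v ≤ 311643 → fs10 v = true := slots_step fs10 311377 266 311643 s10u1041 s10c1042 rfl
theorem s10u1043 : ∀ v, 1 ≤ v → v ≤ 311911 → fs10 v = true := slots_step fs10 311643 268 311911 s10u1042 s10c1043 rfl
theorem s10u1044 : ∀ v, 1 ≤ v → v ≤ 312157 → fs10 v = true := slots_step fs10 311911 246 312157 s10u1043 s10c1044 rfl
theorem s10u1045 : ∀ v, 1 ≤ v → v ≤ 312417 → fs10 v = true := slots_step fs10 312157 260 312417 s10u1044 s10c1045 rfl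
theorem s10u1046 : ∀ v, 1 ≤ v → v ≤ 312689 → fs10 v = true := slots_step fs10 312417 272 312689 s10u1045 s10c1046 rfl
theorem s10u1047 : ∀ v, 1 ≤ v → v ≤ 312958 → fs10 v = true := slots_step fs10 312689 269 312958 s10u1046 s10c1047 rfl
theorem s10u1048 : ∀ v, 1 ≤ v → v ≤ 313215 → fs10 v = true := slots_step fs10 312958 257 313215 s10u1047 s10c1048 rfl
theorem s10u1049 : ∀ v, 1 ≤ v → v ≤ 313470 → fs10 v = true := slots_step fs10 313215 255 313470 s10u1048 s10c1049 rfl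
theorem s10u1050 : ∀ v, 1 ≤ v → v ≤ 313730 → fs10 v = true := slots_step fs10 313470 260 313730 s10u1049 s10c1050 rfl
theorem s10u1051 : ∀ v, 1 ≤ v → v ≤ 313999 → fs10 v = true := slots_step fs10 313730 269 313999 s10u1050 s10c1051 rfl
theorem s10u1052 : ∀ v, 1 ≤ v → v ≤ 314253 → fs10 v = true := slots_step fs10 313999 254 314253 s10u1051 s10c1052 rfl
theorem s10u1053 : ∀ v, 1 ≤ v → v ≤ 314516 → fs10 v = true := slots_step fs10 314253 263 314516 s10u1052 s10c1053 rfl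
theorem s10u1054 : ∀ v, 1 ≤ v → v ≤ 314803 → fs10 v = true := slots_step fs10 314516 287 314803 s10u1053 s10c1054 rfl
theorem s10u1055 : ∀ v, 1 ≤ v → v ≤ 315077 → fs10 v = true := slots_step fs10 314803 274 315077 s10u1054 s10c1055 rfl
theorem s10u1056 : ∀ v, 1 ≤ v → v ≤ 315344 → fs10 v = true := slots_step fs10 315077 267 315344 s10u1055 s10c1056 rfl
theorem s10u1057 : ∀ v, 1 ≤ v → v ≤ 315613 → fs10 v = true := slots_step fs10 315344 269 315613 s10u1056 s10c1057 rfl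
theorem s10u1058 : ∀ v, 1 ≤ v → v ≤ 315877 → fs10 v = true := slots_step fs10 315613 264 315877 s10u1057 s10c1058 rfl
theorem s10u1059 : ∀ v, 1 ≤ v → v ≤ 316137 → fs10 v = true := slots_step fs10 315877 260 316137 s10u1058 s10c1059 rfl
theorem s10u1060 : ∀ v, 1 ≤ v → v ≤ 316400 → fs10 v = true := slots_step fs10 316137 263 316400 s10u1059 s10c1060 rfl
theorem s10u1061 : ∀ v, 1 ≤ v → v ≤ 316670 → fs10 v = true := slots_step fs10 316400 270 316670 s10u1060 s10c1061 rfl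
theorem s10u1062 : ∀ v, 1 ≤ v → v ≤ 316929 → fs10 v = true := slots_step fs10 316670 259 316929 s10u1061 s10c1062 rfl
theorem s10u1063 : ∀ v, 1 ≤ v → v ≤ 317199 → fs10 v = true := slots_step fs10 316929 270 317199 s10u1062 s10c1063 rfl
theorem s10u1064 : ∀ v, 1 ≤ v → v ≤ 317463 → fs10 v = true := slots_step fs10 317199 264 317463 s10u1063 s10c1064 rfl
theorem s10u1065 : ∀ v, 1 ≤ v → v ≤ 317728 → fs10 v = true := slots_step fs10 317463 265 317728 s10u1064 s10c1065 rfl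
theorem s10u1066 : ∀ v, 1 ≤ v → v ≤ 317995 → fs10 v = true := slots_step fs10 317728 267 317995 s10u1065 s10c1066 rfl
theorem s10u1067 : ∀ v, 1 ≤ v → v ≤ 318264 → fs10 v = true := slots_step fs10 317995 269 318264 s10u1066 s10c1067 rfl
theorem s10u1068 : ∀ v, 1 ≤ v → v ≤ 318532 → fs10 v = true := slots_step fs10 318264 268 318532 s10u1067 s10c1068 rfl
theorem s10u1069 : ∀ v, 1 ≤ v → v ≤ 318781 → fs10 v = true := slots_step fs10 318532 249 318781 s10u1068 s10c1069 rfl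
theorem s10u1070 : ∀ v, 1 ≤ v → v ≤ 319049 → fs10 v = true := slots_step fs10 318781 268 319049 s10u1069 s10c1070 rfl
theorem s10u1071 : ∀ v, 1 ≤ v → v ≤ 319312 → fs10 v = true := slots_step fs10 319049 263 319312 s10u1070 s10c1071 rfl
theorem s10u1072 : ∀ v, 1 ≤ v → v ≤ 319577 → fs10 v = true := slots_step fs10 319312 265 319577 s10u1071 s10c1072 rfl
theorem s10u1073 : ∀ v, 1 ≤ v → v ≤ 319837 → fs10 v = true := slots_step fs10 319577 260 319837 s10u1072 s10c1073 rfl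
theorem s10u1074 : ∀ v, 1 ≤ v → v ≤ 320095 → fs10 v = true := slots_step fs10 319837 258 320095 s10u1073 s10c1074 rfl
theorem s10u1075 : ∀ v, 1 ≤ v → v ≤ 320348 → fs10 v = true := slots_step fs10 320095 253 320348 s10u1074 s10c1075 rfl
theorem s10u1076 : ∀ v, 1 ≤ v → v ≤ 320593 → fs10 v = true := slots_step fs10 320348 245 320593 s10u1075 s10c1076 rfl
theorem s10u1077 : ∀ v, 1 ≤ v → v ≤ 320849 → fs10 v = true := slots_step fs10 320593 256 320849 s10u1076 s10c1077 rfl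
theorem s10u1078 : ∀ v, 1 ≤ v → v ≤ 321101 → fs10 v = true := slots_step fs10 320849 252 321101 s10u1077 s10c1078 rfl
theorem s10u1079 : ∀ v, 1 ≤ v → v ≤ 321339 → fs10 v = true := slots_step fs10 321101 238 321339 s10u1078 s10c1079 rfl
theorem s10u1080 : ∀ v, 1 ≤ v → v ≤ 321584 → fs10 v = true := slots_step fs10 321339 245 321584 s10u1079 s10c1080 rfl
theorem s10u1081 : ∀ v, 1 ≤ v → v ≤ 321827 → fs10 v = true := slots_step fs10 321584 243 321827 s10u1080 s10c1081 rfl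
theorem s10u1082 : ∀ v, 1 ≤ v → v ≤ 322071 → fs10 v = true := slots_step fs10 321827 244 322071 s10u1081 s10c1082 rfl
theorem s10u1083 : ∀ v, 1 ≤ v → v ≤ 322316 → fs10 v = true := slots_step fs10 322071 245 322316 s10u1082 s10c1083 rfl
theorem s10u1084 : ∀ v, 1 ≤ v → v ≤ 322577 → fs10 v = true := slots_step fs10 322316 261 322577 s10u1083 s10c1084 rfl
theorem s10u1085 : ∀ v, 1 ≤ v → v ≤ 322834 → fs10 v = true := slots_step fs10 322577 257 322834 s10u1084 s10c1085 rfl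
theorem s10u1086 : ∀ v, 1 ≤ v → v ≤ 323090 → fs10 v = true := slots_step fs10 322834 256 323090 s10u1085 s10c1086 rfl
theorem s10u1087 : ∀ v, 1 ≤ v → v ≤ 323342 → fs10 v = true := slots_step fs10 323090 252 323342 s10u1086 s10c1087 rfl
theorem s10u1088 : ∀ v, 1 ≤ v → v ≤ 323588 → fs10 v = true := slots_step fs10 323342 246 323588 s10u1087 s10c1088 rfl
theorem s10u1089 : ∀ v, 1 ≤ v → v ≤ 323843 → fs10 v = true := slots_step fs10 323588 255 323843 s10u1088 s10c1089 rfl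
theorem s10u1090 : ∀ v, 1 ≤ v → v ≤ 324098 → fs10 v = true := slots_step fs10 323843 255 324098 s10u1089 s10c1090 rfl
theorem s10u1091 : ∀ v, 1 ≤ v → v ≤ 324354 → fs10 v = true := slots_step fs10 324098 256 324354 s10u1090 s10c1091 rfl
theorem s10u1092 : ∀ v, 1 ≤ v → v ≤ 324606 → fs10 v = true := slots_step fs10 324354 252 324606 s10u1091 s10c1092 rfl
theorem s10u1093 : ∀ v, 1 ≤ v → v ≤ 324844 → fs10 v = true := slots_step fs10 324606 238 324844 s10u1092 s10c1093 rfl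
theorem s10u1094 : ∀ v, 1 ≤ v → v ≤ 325090 → fs10 v = true := slots_step fs10 324844 246 325090 s10u1093 s10c1094 rfl
theorem s10u1095 : ∀ v, 1 ≤ v → v ≤ 325339 → fs10 v = true := slots_step fs10 325090 249 325339 s10u1094 s10c1095 rfl
theorem s10u1096 : ∀ v, 1 ≤ v → v ≤ 325602 → fs10 v = true := slots_step fs10 325339 263 325602 s10u1095 s10c1096 rfl
theorem s10u1097 : ∀ v, 1 ≤ v → v ≤ 325847 → fs10 v = true := slots_step fs10 325602 245 325847 s10u1096 s10c1097 rfl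
theorem s10u1098 : ∀ v, 1 ≤ v → v ≤ 326089 → fs10 v = true := slots_step fs10 325847 242 326089 s10u1097 s10c1098 rfl
theorem s10u1099 : ∀ v, 1 ≤ v → v ≤ 326342 → fs10 v = true := slots_step fs10 326089 253 326342 s10u1098 s10c1099 rfl
theorem s10u1100 : ∀ v, 1 ≤ v → v ≤ 326590 → fs10 v = true := slots_step fs10 326342 248 326590 s10u1099 s10c1100 rfl
theorem s10u1101 : ∀ v, 1 ≤ v → v ≤ 326862 → fs10 v = true := slots_step fs10 326590 272 326862 s10u1100 s10c1101 rfl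
theorem s10u1102 : ∀ v, 1 ≤ v → v ≤ 327108 → fs10 v = true := slots_step fs10 326862 246 327108 s10u1101 s10c1102 rfl
theorem s10u1103 : ∀ v, 1 ≤ v → v ≤ 327368 → fs10 v = true := slots_step fs10 327108 260 327368 s10u1102 s10c1103 rfl
theorem s10u1104 : ∀ v, 1 ≤ v → v ≤ 327625 → fs10 v = true := slots_step fs10 327368 257 327625 s10u1103 s10c1104 rfl
theorem s10u1105 : ∀ v, 1 ≤ v → v ≤ 327875 → fs10 v = true := slots_step fs10 327625 250 327875 s10u1104 s10c1105 rfl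
theorem s10u1106 : ∀ v, 1 ≤ v → v ≤ 328140 → fs10 v = true := slots_step fs10 327875 265 328140 s10u1105 s10c1106 rfl
theorem s10u1107 : ∀ v, 1 ≤ v → v ≤ 328403 → fs10 v = true := slots_step fs10 328140 263 328403 s10u1106 s10c1107 rfl
theorem s10u1108 : ∀ v, 1 ≤ v → v ≤ 328664 → fs10 v = true := slots_step fs10 328403 261 328664 s10u1107 s10c1108 rfl
theorem s10u1109 : ∀ v, 1 ≤ v → v ≤ 328929 → fs10 v = true := slots_step fs10 328664 265 328929 s10u1108 s10c1109 rfl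
theorem s10u1110 : ∀ v, 1 ≤ v → v ≤ 329190 → fs10 v = true := slots_step fs10 328929 261 329190 s10u1109 s10c1110 rfl
theorem s10u1111 : ∀ v, 1 ≤ v → v ≤ 329437 → fs10 v = true := slots_step fs10 329190 247 329437 s10u1110 s10c1111 rfl
theorem s10u1112 : ∀ v, 1 ≤ v → v ≤ 329698 → fs10 v = true := slots_step fs10 329437 261 329698 s10u1111 s10c1112 rfl
theorem s10u1113 : ∀ v, 1 ≤ v → v ≤ 329964 → fs10 v = true := slots_step fs10 329698 266 329964 s10u1112 s10c1113 rfl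
theorem s10u1114 : ∀ v, 1 ≤ v → v ≤ 330234 → fs10 v = true := slots_step fs10 329964 270 330234 s10u1113 s10c1114 rfl
theorem s10u1115 : ∀ v, 1 ≤ v → v ≤ 330488 → fs10 v = true := slots_step fs10 330234 254 330488 s10u1114 s10c1115 rfl
theorem s10u1116 : ∀ v, 1 ≤ v → v ≤ 330737 → fs10 v = true := slots_step fs10 330488 249 330737 s10u1115 s10c1116 rfl
theorem s10u1117 : ∀ v, 1 ≤ v → v ≤ 331002 → fs10 v = true := slots_step fs10 330737 265 331002 s10u1116 s10c1117 rfl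
theorem s10u1118 : ∀ v, 1 ≤ v → v ≤ 331266 → fs10 v = true := slots_step fs10 331002 264 331266 s10u1117 s10c1118 rfl
theorem s10u1119 : ∀ v, 1 ≤ v → v ≤ 331505 → fs10 v = true := slots_step fs10 331266 239 331505 s10u1118 s10c1119 rfl
theorem s10u1120 : ∀ v, 1 ≤ v → v ≤ 331757 → fs10 v = true := slots_step fs10 331505 252 331757 s10u1119 s10c1120 rfl
theorem s10u1121 : ∀ v, 1 ≤ v → v ≤ 332017 → fs10 v = true := slots_step fs10 331757 260 332017 s10u1120 s10c1121 rfl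
theorem s10u1122 : ∀ v, 1 ≤ v → v ≤ 332254 → fs10 v = true := slots_step fs10 332017 237 332254 s10u1121 s10c1122 rfl
theorem s10u1123 : ∀ v, 1 ≤ v → v ≤ 332506 → fs10 v = true := slots_step fs10 332254 252 332506 s10u1122 s10c1123 rfl
theorem s10u1124 : ∀ v, 1 ≤ v → v ≤ 332759 → fs10 v = true := slots_step fs10 332506 253 332759 s10u1123 s10c1124 rfl
theorem s10u1125 : ∀ v, 1 ≤ v → v ≤ 333012 → fs10 v = true := slots_step fs10 332759 253 333012 s10u1124 s10c1125 rfl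
theorem s10u1126 : ∀ v, 1 ≤ v → v ≤ 333272 → fs10 v = true := slots_step fs10 333012 260 333272 s10u1125 s10c1126 rfl
theorem s10u1127 : ∀ v, 1 ≤ v → v ≤ 333533 → fs10 v = true := slots_step fs10 333272 261 333533 s10u1126 s10c1127 rfl
theorem s10u1128 : ∀ v, 1 ≤ v → v ≤ 333793 → fs10 v = true := slots_step fs10 333533 260 333793 s10u1127 s10c1128 rfl
theorem s10u1129 : ∀ v, 1 ≤ v → v ≤ 334049 → fs10 v = true := slots_step fs10 333793 256 334049 s10u1128 s10c1129 rfl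
theorem s10u1130 : ∀ v, 1 ≤ v → v ≤ 334309 → fs10 v = true := slots_step fs10 334049 260 334309 s10u1129 s10c1130 rfl
theorem s10u1131 : ∀ v, 1 ≤ v → v ≤ 334568 → fs10 v = true := slots_step fs10 334309 259 334568 s10u1130 s10c1131 rfl
theorem s10u1132 : ∀ v, 1 ≤ v → v ≤ 334828 → fs10 v = true := slots_step fs10 334568 260 334828 s10u1131 s10c1132 rfl
theorem s10u1133 : ∀ v, 1 ≤ v → v ≤ 335092 → fs10 v = true := slots_step fs10 334828 264 335092 s10u1132 s10c1133 rfl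
theorem s10u1134 : ∀ v, 1 ≤ v → v ≤ 335367 → fs10 v = true := slots_step fs10 335092 275 335367 s10u1133 s10c1134 rfl
theorem s10u1135 : ∀ v, 1 ≤ v → v ≤ 335635 → fs10 v = true := slots_step fs10 335367 268 335635 s10u1134 s10c1135 rfl
theorem s10u1136 : ∀ v, 1 ≤ v → v ≤ 335893 → fs10 v = true := slots_step fs10 335635 258 335893 s10u1135 s10c1136 rfl
theorem s10u1137 : ∀ v, 1 ≤ v → v ≤ 336160 → fs10 v = true := slots_step fs10 335893 267 336160 s10u1136 s10c1137 rfl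
theorem s10u1138 : ∀ v, 1 ≤ v → v ≤ 336426 → fs10 v = true := slots_step fs10 336160 266 336426 s10u1137 s10c1138 rfl
theorem s10u1139 : ∀ v, 1 ≤ v → v ≤ 336665 → fs10 v = true := slots_step fs10 336426 239 336665 s10u1138 s10c1139 rfl
theorem s10u1140 : ∀ v, 1 ≤ v → v ≤ 336920 → fs10 v = true := slots_step fs10 336665 255 336920 s10u1139 s10c1140 rfl
theorem s10u1141 : ∀ v, 1 ≤ v → v ≤ 337165 → fs10 v = true := slots_step fs10 336920 245 337165 s10u1140 s10c1141 rfl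
theorem s10u1142 : ∀ v, 1 ≤ v → v ≤ 337373 → fs10 v = true := slots_step fs10 337165 208 337373 s10u1141 s10c1142 rfl
theorem s10u1143 : ∀ v, 1 ≤ v → v ≤ 337618 → fs10 v = true := slots_step fs10 337373 245 337618 s10u1142 s10c1143 rfl
theorem s10u1144 : ∀ v, 1 ≤ v → v ≤ 337852 → fs10 v = true := slots_step fs10 337618 234 337852 s10u1143 s10c1144 rfl
theorem s10u1145 : ∀ v, 1 ≤ v → v ≤ 338085 → fs10 v = true := slots_step fs10 337852 233 338085 s10u1144 s10c1145 rfl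
theorem s10u1146 : ∀ v, 1 ≤ v → v ≤ 338322 → fs10 v = true := slots_step fs10 338085 237 338322 s10u1145 s10c1146 rfl
theorem s10u1147 : ∀ v, 1 ≤ v → v ≤ 338564 → fs10 v = true := slots_step fs10 338322 242 338564 s10u1146 s10c1147 rfl
theorem s10u1148 : ∀ v, 1 ≤ v → v ≤ 338801 → fs10 v = true := slots_step fs10 338564 237 338801 s10u1147 s10c1148 rfl
theorem s10u1149 : ∀ v, 1 ≤ v → v ≤ 339049 → fs10 v = true := slots_step fs10 338801 248 339049 s10u1148 s10c1149 rfl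
theorem s10u1150 : ∀ v, 1 ≤ v → v ≤ 339294 → fs10 v = true := slots_step fs10 339049 245 339294 s10u1149 s10c1150 rfl
theorem s10u1151 : ∀ v, 1 ≤ v → v ≤ 339536 → fs10 v = true := slots_step fs10 339294 242 339536 s10u1150 s10c1151 rfl
theorem s10u1152 : ∀ v, 1 ≤ v → v ≤ 339782 → fs10 v = true := slots_step fs10 339536 246 339782 s10u1151 s10c1152 rfl
theorem s10u1153 : ∀ v, 1 ≤ v → v ≤ 340024 → fs10 v = true := slots_step fs10 339782 242 340024 s10u1152 s10c1153 rfl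
theorem s10u1154 : ∀ v, 1 ≤ v → v ≤ 340264 → fs10 v = true := slots_step fs10 340024 240 340264 s10u1153 s10c1154 rfl
theorem s10u1155 : ∀ v, 1 ≤ v → v ≤ 340514 → fs10 v = true := slots_step fs10 340264 250 340514 s10u1154 s10c1155 rfl
theorem s10u1156 : ∀ v, 1 ≤ v → v ≤ 340753 → fs10 v = true := slots_step fs10 340514 239 340753 s10u1155 s10c1156 rfl
theorem s10u1157 : ∀ v, 1 ≤ v → v ≤ 340997 → fs10 v = true := slots_step fs10 340753 244 340997 s10u1156 s10c1157 rfl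
theorem s10u1158 : ∀ v, 1 ≤ v → v ≤ 341254 → fs10 v = true := slots_step fs10 340997 257 341254 s10u1157 s10c1158 rfl
theorem s10u1159 : ∀ v, 1 ≤ v → v ≤ 341496 → fs10 v = true := slots_step fs10 341254 242 341496 s10u1158 s10c1159 rfl
theorem s10u1160 : ∀ v, 1 ≤ v → v ≤ 341748 → fs10 v = true := slots_step fs10 341496 252 341748 s10u1159 s10c1160 rfl
theorem s10u1161 : ∀ v, 1 ≤ v → v ≤ 342008 → fs10 v = true := slots_step fs10 341748 260 342008 s10u1160 s10c1161 rfl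
theorem s10u1162 : ∀ v, 1 ≤ v → v ≤ 342281 → fs10 v = true := slots_step fs10 342008 273 342281 s10u1161 s10c1162 rfl
theorem s10u1163 : ∀ v, 1 ≤ v → v ≤ 342547 → fs10 v = true := slots_step fs10 342281 266 342547 s10u1162 s10c1163 rfl
theorem s10u1164 : ∀ v, 1 ≤ v → v ≤ 342805 → fs10 v = true := slots_step fs10 342547 258 342805 s10u1163 s10c1164 rfl
theorem s10u1165 : ∀ v, 1 ≤ v → v ≤ 343050 → fs10 v = true := slots_step fs10 342805 245 343050 s10u1164 s10c1165 rfl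
theorem s10u1166 : ∀ v, 1 ≤ v → v ≤ 343302 → fs10 v = true := slots_step fs10 343050 252 343302 s10u1165 s10c1166 rfl
theorem s10u1167 : ∀ v, 1 ≤ v → v ≤ 343561 → fs10 v = true := slots_step fs10 343302 259 343561 s10u1166 s10c1167 rfl
theorem s10u1168 : ∀ v, 1 ≤ v → v ≤ 343814 → fs10 v = true := slots_step fs10 343561 253 343814 s10u1167 s10c1168 rfl
theorem s10u1169 : ∀ v, 1 ≤ v → v ≤ 344069 → fs10 v = true := slots_step fs10 343814 255 344069 s10u1168 s10c1169 rfl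
theorem s10u1170 : ∀ v, 1 ≤ v → v ≤ 344312 → fs10 v = true := slots_step fs10 344069 243 344312 s10u1169 s10c1170 rfl
theorem s10u1171 : ∀ v, 1 ≤ v → v ≤ 344548 → fs10 v = true := slots_step fs10 344312 236 344548 s10u1170 s10c1171 rfl
theorem s10u1172 : ∀ v, 1 ≤ v → v ≤ 344800 → fs10 v = true := slots_step fs10 344548 252 344800 s10u1171 s10c1172 rfl
theorem s10u1173 : ∀ v, 1 ≤ v → v ≤ 345042 → fs10 v = true := slots_step fs10 344800 242 345042 s10u1172 s10c1173 rfl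
theorem s10u1174 : ∀ v, 1 ≤ v → v ≤ 345296 → fs10 v = true := slots_step fs10 345042 254 345296 s10u1173 s10c1174 rfl
theorem s10u1175 : ∀ v, 1 ≤ v → v ≤ 345558 → fs10 v = true := slots_step fs10 345296 262 345558 s10u1174 s10c1175 rfl
theorem s10u1176 : ∀ v, 1 ≤ v → v ≤ 345816 → fs10 v = true := slots_step fs10 345558 258 345816 s10u1175 s10c1176 rfl
theorem s10u1177 : ∀ v, 1 ≤ v → v ≤ 346079 → fs10 v = true := slots_step fs10 345816 263 346079 s10u1176 s10c1177 rfl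
theorem s10u1178 : ∀ v, 1 ≤ v → v ≤ 346354 → fs10 v = true := slots_step fs10 346079 275 346354 s10u1177 s10c1178 rfl
theorem s10u1179 : ∀ v, 1 ≤ v → v ≤ 346614 → fs10 v = true := slots_step fs10 346354 260 346614 s10u1178 s10c1179 rfl
theorem s10u1180 : ∀ v, 1 ≤ v → v ≤ 346862 → fs10 v = true := slots_step fs10 346614 248 346862 s10u1179 s10c1180 rfl
theorem s10u1181 : ∀ v, 1 ≤ v → v ≤ 347121 → fs10 v = true := slots_step fs10 346862 259 347121 s10u1180 s10c1181 rfl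
theorem s10u1182 : ∀ v, 1 ≤ v → v ≤ 347363 → fs10 v = true := slots_step fs10 347121 242 347363 s10u1181 s10c1182 rfl
theorem s10u1183 : ∀ v, 1 ≤ v → v ≤ 347572 → fs10 v = true := slots_step fs10 347363 209 347572 s10u1182 s10c1183 rfl
theorem s10u1184 : ∀ v, 1 ≤ v → v ≤ 347801 → fs10 v = true := slots_step fs10 347572 229 347801 s10u1183 s10c1184 rfl
theorem s10u1185 : ∀ v, 1 ≤ v → v ≤ 348042 → fs10 v = true := slots_step fs10 347801 241 348042 s10u1184 s10c1185 rfl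
theorem s10u1186 : ∀ v, 1 ≤ v → v ≤ 348263 → fs10 v = true := slots_step fs10 348042 221 348263 s10u1185 s10c1186 rfl
theorem s10u1187 : ∀ v, 1 ≤ v → v ≤ 348498 → fs10 v = true := slots_step fs10 348263 235 348498 s10u1186 s10c1187 rfl
theorem s10u1188 : ∀ v, 1 ≤ v → v ≤ 348742 → fs10 v = true := slots_step fs10 348498 244 348742 s10u1187 s10c1188 rfl
theorem s10u1189 : ∀ v, 1 ≤ v → v ≤ 348978 → fs10 v = true := slots_step fs10 348742 236 348978 s10u1188 s10c1189 rfl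
theorem s10u1190 : ∀ v, 1 ≤ v → v ≤ 349212 → fs10 v = true := slots_step fs10 348978 234 349212 s10u1189 s10c1190 rfl
theorem s10u1191 : ∀ v, 1 ≤ v → v ≤ 349461 → fs10 v = true := slots_step fs10 349212 249 349461 s10u1190 s10c1191 rfl
theorem s10u1192 : ∀ v, 1 ≤ v → v ≤ 349696 → fs10 v = true := slots_step fs10 349461 235 349696 s10u1191 s10c1192 rfl
theorem s10u1193 : ∀ v, 1 ≤ v → v ≤ 349935 → fs10 v = true := slots_step fs10 349696 239 349935 s10u1192 s10c1193 rfl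
theorem s10u1194 : ∀ v, 1 ≤ v → v ≤ 350179 → fs10 v = true := slots_step fs10 349935 244 350179 s10u1193 s10c1194 rfl
theorem s10u1195 : ∀ v, 1 ≤ v → v ≤ 350437 → fs10 v = true := slots_step fs10 350179 258 350437 s10u1194 s10c1195 rfl
theorem s10u1196 : ∀ v, 1 ≤ v → v ≤ 350711 → fs10 v = true := slots_step fs10 350437 274 350711 s10u1195 s10c1196 rfl
theorem s10u1197 : ∀ v, 1 ≤ v → v ≤ 350964 → fs10 v = true := slots_step fs10 350711 253 350964 s10u1196 s10c1197 rfl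
theorem s10u1198 : ∀ v, 1 ≤ v → v ≤ 351212 → fs10 v = true := slots_step fs10 350964 248 351212 s10u1197 s10c1198 rfl
theorem s10u1199 : ∀ v, 1 ≤ v → v ≤ 351463 → fs10 v = true := slots_step fs10 351212 251 351463 s10u1198 s10c1199 rfl
theorem s10u1200 : ∀ v, 1 ≤ v → v ≤ 351702 → fs10 v = true := slots_step fs10 351463 239 351702 s10u1199 s10c1200 rfl
theorem s10u1201 : ∀ v, 1 ≤ v → v ≤ 351953 → fs10 v = true := slots_step fs10 351702 251 351953 s10u1200 s10c1201 rfl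
theorem s10u1202 : ∀ v, 1 ≤ v → v ≤ 352208 → fs10 v = true := slots_step fs10 351953 255 352208 s10u1201 s10c1202 rfl
theorem s10u1203 : ∀ v, 1 ≤ v → v ≤ 352475 → fs10 v = true := slots_step fs10 352208 267 352475 s10u1202 s10c1203 rfl
theorem s10u1204 : ∀ v, 1 ≤ v → v ≤ 352735 → fs10 v = true := slots_step fs10 352475 260 352735 s10u1203 s10c1204 rfl
theorem s10u1205 : ∀ v, 1 ≤ v → v ≤ 352995 → fs10 v = true := slots_step fs10 352735 260 352995 s10u1204 s10c1205 rfl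
theorem s10u1206 : ∀ v, 1 ≤ v → v ≤ 353246 → fs10 v = true := slots_step fs10 352995 251 353246 s10u1205 s10c1206 rfl
theorem s10u1207 : ∀ v, 1 ≤ v → v ≤ 353431 → fs10 v = true := slots_step fs10 353246 185 353431 s10u1206 s10c1207 rfl
theorem s10u1208 : ∀ v, 1 ≤ v → v ≤ 353628 → fs10 v = true := slots_step fs10 353431 197 353628 s10u1207 s10c1208 rfl
theorem s10u1209 : ∀ v, 1 ≤ v → v ≤ 353842 → fs10 v = true := slots_step fs10 353628 214 353842 s10u1208 s10c1209 rfl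
theorem s10u1210 : ∀ v, 1 ≤ v → v ≤ 354081 → fs10 v = true := slots_step fs10 353842 239 354081 s10u1209 s10c1210 rfl
theorem s10u1211 : ∀ v, 1 ≤ v → v ≤ 354328 → fs10 v = true := slots_step fs10 354081 247 354328 s10u1210 s10c1211 rfl
theorem s10u1212 : ∀ v, 1 ≤ v → v ≤ 354561 → fs10 v = true := slots_step fs10 354328 233 354561 s10u1211 s10c1212 rfl
theorem s10u1213 : ∀ v, 1 ≤ v → v ≤ 354827 → fs10 v = true := slots_step fs10 354561 266 354827 s10u1212 s10c1213 rfl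
theorem s10u1214 : ∀ v, 1 ≤ v → v ≤ 355084 → fs10 v = true := slots_step fs10 354827 257 355084 s10u1213 s10c1214 rfl
theorem s10u1215 : ∀ v, 1 ≤ v → v ≤ 355326 → fs10 v = true := slots_step fs10 355084 242 355326 s10u1214 s10c1215 rfl
theorem s10u1216 : ∀ v, 1 ≤ v → v ≤ 355585 → fs10 v = true := slots_step fs10 355326 259 355585 s10u1215 s10c1216 rfl
theorem s10u1217 : ∀ v, 1 ≤ v → v ≤ 355818 → fs10 v = true := slots_step fs10 355585 233 355818 s10u1216 s10c1217 rfl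
theorem s10u1218 : ∀ v, 1 ≤ v → v ≤ 356071 → fs10 v = true := slots_step fs10 355818 253 356071 s10u1217 s10c1218 rfl
theorem s10u1219 : ∀ v, 1 ≤ v → v ≤ 356289 → fs10 v = true := slots_step fs10 356071 218 356289 s10u1218 s10c1219 rfl
theorem s10u1220 : ∀ v, 1 ≤ v → v ≤ 356538 → fs10 v = true := slots_step fs10 356289 249 356538 s10u1219 s10c1220 rfl
theorem s10u1221 : ∀ v, 1 ≤ v → v ≤ 356804 → fs10 v = true := slots_step fs10 356538 266 356804 s10u1220 s10c1221 rfl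
theorem s10u1222 : ∀ v, 1 ≤ v → v ≤ 357052 → fs10 v = true := slots_step fs10 356804 248 357052 s10u1221 s10c1222 rfl
theorem s10u1223 : ∀ v, 1 ≤ v → v ≤ 357267 → fs10 v = true := slots_step fs10 357052 215 357267 s10u1222 s10c1223 rfl
theorem s10u1224 : ∀ v, 1 ≤ v → v ≤ 357465 → fs10 v = true := slots_step fs10 357267 198 357465 s10u1223 s10c1224 rfl
theorem s11u0 : ∀ v, 1 ≤ v → v ≤ 302 → fs11 v = true := slots_step fs11 0 302 302 (slots_zero fs11) s11c0 rfl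
theorem s11u1 : ∀ v, 1 ≤ v → v ≤ 590 → fs11 v = true := slots_step fs11 302 288 590 s11u0 s11c1 rfl
theorem s11u2 : ∀ v, 1 ≤ v → v ≤ 864 → fs11 v = true := slots_step fs11 590 274 864 s11u1 s11c2 rfl
theorem s11u3 : ∀ v, 1 ≤ v → v ≤ 1133 → fs11 v = true := slots_step fs11 864 269 1133 s11u2 s11c3 rfl
theorem s11u4 : ∀ v, 1 ≤ v → v ≤ 1409 → fs11 v = true := slots_step fs11 1133 276 1409 s11u3 s11c4 rfl
theorem s11u5 : ∀ v, 1 ≤ v → v ≤ 1676 → fs11 v = true := slots_step fs11 1409 267 1676 s11u4 s11c5 rfl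
theorem s11u6 : ∀ v, 1 ≤ v → v ≤ 1964 → fs11 v = true := slots_step fs11 1676 288 1964 s11u5 s11c6 rfl
theorem s11u7 : ∀ v, 1 ≤ v → v ≤ 2223 → fs11 v = true := slots_step fs11 1964 259 2223 s11u6 s11c7 rfl
theorem s11u8 : ∀ v, 1 ≤ v → v ≤ 2505 → fs11 v = true := slots_step fs11 2223 282 2505 s11u7 s11c8 rfl
theorem s11u9 : ∀ v, 1 ≤ v → v ≤ 2784 → fs11 v = true := slots_step fs11 2505 279 2784 s11u8 s11c9 rfl
theorem s11u10 : ∀ v, 1 ≤ v → v ≤ 3046 → fs11 v = true := slots_step fs11 2784 262 3046 s11u9 s11c10 rfl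
theorem s11u11 : ∀ v, 1 ≤ v → v ≤ 3328 → fs11 v = true := slots_step fs11 3046 282 3328 s11u10 s11c11 rfl
theorem s11u12 : ∀ v, 1 ≤ v → v ≤ 3638 → fs11 v = true := slots_step fs11 3328 310 3638 s11u11 s11c12 rfl
theorem s11u13 : ∀ v, 1 ≤ v → v ≤ 3895 → fs11 v = true := slots_step fs11 3638 257 3895 s11u12 s11c13 rfl
theorem s11u14 : ∀ v, 1 ≤ v → v ≤ 4164 → fs11 v = true := slots_step fs11 3895 269 4164 s11u13 s11c14 rfl
theorem s11u15 : ∀ v, 1 ≤ v → v ≤ 4466 → fs11 v = true := slots_step fs11 4164 302 4466 s11u14 s11c15 rfl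
theorem s11u16 : ∀ v, 1 ≤ v → v ≤ 4752 → fs11 v = true := slots_step fs11 4466 286 4752 s11u15 s11c16 rfl
theorem s11u17 : ∀ v, 1 ≤ v → v ≤ 5068 → fs11 v = true := slots_step fs11 4752 316 5068 s11u16 s11c17 rfl
theorem s11u18 : ∀ v, 1 ≤ v → v ≤ 5335 → fs11 v = true := slots_step fs11 5068 267 5335 s11u17 s11c18 rfl
theorem s11u19 : ∀ v, 1 ≤ v → v ≤ 5610 → fs11 v = true := slots_step fs11 5335 275 5610 s11u18 s11c19 rfl
theorem s11u20 : ∀ v, 1 ≤ v → v ≤ 5892 → fs11 v = true := slots_step fs11 5610 282 5892 s11u19 s11c20 rfl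
theorem s11u21 : ∀ v, 1 ≤ v → v ≤ 6213 → fs11 v = true := slots_step fs11 5892 321 6213 s11u20 s11c21 rfl
theorem s11u22 : ∀ v, 1 ≤ v → v ≤ 6510 → fs11 v = true := slots_step fs11 6213 297 6510 s11u21 s11c22 rfl
theorem s11u23 : ∀ v, 1 ≤ v → v ≤ 6835 → fs11 v = true := slots_step fs11 6510 325 6835 s11u22 s11c23 rfl
theorem s11u24 : ∀ v, 1 ≤ v → v ≤ 7152 → fs11 v = true := slots_step fs11 6835 317 7152 s11u23 s11c24 rfl
theorem s11u25 : ∀ v, 1 ≤ v → v ≤ 7426 → fs11 v = true := slots_step fs11 7152 274 7426 s11u24 s11c25 rfl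
theorem s11u26 : ∀ v, 1 ≤ v → v ≤ 7719 → fs11 v = true := slots_step fs11 7426 293 7719 s11u25 s11c26 rfl
theorem s11u27 : ∀ v, 1 ≤ v → v ≤ 7998 → fs11 v = true := slots_step fs11 7719 279 7998 s11u26 s11c27 rfl
theorem s11u28 : ∀ v, 1 ≤ v → v ≤ 8321 → fs11 v = true := slots_step fs11 7998 323 8321 s11u27 s11c28 rfl
theorem s11u29 : ∀ v, 1 ≤ v → v ≤ 8626 → fs11 v = true := slots_step fs11 8321 305 8626 s11u28 s11c29 rfl
theorem s11u30 : ∀ v, 1 ≤ v → v ≤ 8915 → fs11 v = true := slots_step fs11 8626 289 8915 s11u29 s11c30 rfl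
theorem s11u31 : ∀ v, 1 ≤ v → v ≤ 9250 → fs11 v = true := slots_step fs11 8915 335 9250 s11u30 s11c31 rfl
theorem s11u32 : ∀ v, 1 ≤ v → v ≤ 9621 → fs11 v = true := slots_step fs11 9250 371 9621 s11u31 s11c32 rfl
theorem s11u33 : ∀ v, 1 ≤ v → v ≤ 9915 → fs11 v = true := slots_step fs11 9621 294 9915 s11u32 s11c33 rfl
theorem s11u34 : ∀ v, 1 ≤ v → v ≤ 10196 → fs11 v = true := slots_step fs11 9915 281 10196 s11u33 s11c34 rfl
theorem s11u35 : ∀ v, 1 ≤ v → v ≤ 10484 → fs11 v = true := slots_step fs11 10196 288 10484 s11u34 s11c35 rfl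
theorem s11u36 : ∀ v, 1 ≤ v → v ≤ 10766 → fs11 v = true := slots_step fs11 10484 282 10766 s11u35 s11c36 rfl
theorem s11u37 : ∀ v, 1 ≤ v → v ≤ 11040 → fs11 v = true := slots_step fs11 10766 274 11040 s11u36 s11c37 rfl
theorem s11u38 : ∀ v, 1 ≤ v → v ≤ 11339 → fs11 v = true := slots_step fs11 11040 299 11339 s11u37 s11c38 rfl
theorem s11u39 : ∀ v, 1 ≤ v → v ≤ 11630 → fs11 v = true := slots_step fs11 11339 291 11630 s11u38 s11c39 rfl
theorem s11u40 : ∀ v, 1 ≤ v → v ≤ 11917 → fs11 v = true := slots_step fs11 11630 287 11917 s11u39 s11c40 rfl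
theorem s11u41 : ∀ v, 1 ≤ v → v ≤ 12223 → fs11 v = true := slots_step fs11 11917 306 12223 s11u40 s11c41 rfl
theorem s11u42 : ∀ v, 1 ≤ v → v ≤ 12557 → fs11 v = true := slots_step fs11 12223 334 12557 s11u41 s11c42 rfl
theorem s11u43 : ∀ v, 1 ≤ v → v ≤ 12853 → fs11 v = true := slots_step fs11 12557 296 12853 s11u42 s11c43 rfl
theorem s11u44 : ∀ v, 1 ≤ v → v ≤ 13139 → fs11 v = true := slots_step fs11 12853 286 13139 s11u43 s11c44 rfl
theorem s11u45 : ∀ v, 1 ≤ v → v ≤ 13435 → fs11 v = true := slots_step fs11 13139 296 13435 s11u44 s11c45 rfl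
theorem s11u46 : ∀ v, 1 ≤ v → v ≤ 13707 → fs11 v = true := slots_step fs11 13435 272 13707 s11u45 s11c46 rfl
theorem s11u47 : ∀ v, 1 ≤ v → v ≤ 14005 → fs11 v = true := slots_step fs11 13707 298 14005 s11u46 s11c47 rfl
theorem s11u48 : ∀ v, 1 ≤ v → v ≤ 14289 → fs11 v = true := slots_step fs11 14005 284 14289 s11u47 s11c48 rfl
theorem s11u49 : ∀ v, 1 ≤ v → v ≤ 14627 → fs11 v = true := slots_step fs11 14289 338 14627 s11u48 s11c49 rfl
theorem s11u50 : ∀ v, 1 ≤ v → v ≤ 14921 → fs11 v = true := slots_step fs11 14627 294 14921 s11u49 s11c50 rfl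
theorem s11u51 : ∀ v, 1 ≤ v → v ≤ 15225 → fs11 v = true := slots_step fs11 14921 304 15225 s11u50 s11c51 rfl
theorem s11u52 : ∀ v, 1 ≤ v → v ≤ 15532 → fs11 v = true := slots_step fs11 15225 307 15532 s11u51 s11c52 rfl
theorem s11u53 : ∀ v, 1 ≤ v → v ≤ 15855 → fs11 v = true := slots_step fs11 15532 323 15855 s11u52 s11c53 rfl
theorem s11u54 : ∀ v, 1 ≤ v → v ≤ 16191 → fs11 v = true := slots_step fs11 15855 336 16191 s11u53 s11c54 rfl
theorem s11u55 : ∀ v, 1 ≤ v → v ≤ 16560 → fs11 v = true := slots_step fs11 16191 369 16560 s11u54 s11c55 rfl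
theorem s11u56 : ∀ v, 1 ≤ v → v ≤ 16837 → fs11 v = true := slots_step fs11 16560 277 16837 s11u55 s11c56 rfl
theorem s11u57 : ∀ v, 1 ≤ v → v ≤ 17152 → fs11 v = true := slots_step fs11 16837 315 17152 s11u56 s11c57 rfl
theorem s11u58 : ∀ v, 1 ≤ v → v ≤ 17483 → fs11 v = true := slots_step fs11 17152 331 17483 s11u57 s11c58 rfl
theorem s11u59 : ∀ v, 1 ≤ v → v ≤ 17751 → fs11 v = true := slots_step fs11 17483 268 17751 s11u58 s11c59 rfl
theorem s11u60 : ∀ v, 1 ≤ v → v ≤ 18054 → fs11 v = true := slots_step fs11 17751 303 18054 s11u59 s11c60 rfl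
theorem s11u61 : ∀ v, 1 ≤ v → v ≤ 18375 → fs11 v = true := slots_step fs11 18054 321 18375 s11u60 s11c61 rfl
theorem s11u62 : ∀ v, 1 ≤ v → v ≤ 18678 → fs11 v = true := slots_step fs11 18375 303 18678 s11u61 s11c62 rfl
theorem s11u63 : ∀ v, 1 ≤ v → v ≤ 19036 → fs11 v = true := slots_step fs11 18678 358 19036 s11u62 s11c63 rfl
theorem s11u64 : ∀ v, 1 ≤ v → v ≤ 19355 → fs11 v = true := slots_step fs11 19036 319 19355 s11u63 s11c64 rfl
theorem s11u65 : ∀ v, 1 ≤ v → v ≤ 19663 → fs11 v = true := slots_step fs11 19355 308 19663 s11u64 s11c65 rfl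
theorem s11u66 : ∀ v, 1 ≤ v → v ≤ 19970 → fs11 v = true := slots_step fs11 19663 307 19970 s11u65 s11c66 rfl
theorem s11u67 : ∀ v, 1 ≤ v → v ≤ 20297 → fs11 v = true := slots_step fs11 19970 327 20297 s11u66 s11c67 rfl
theorem s11u68 : ∀ v, 1 ≤ v → v ≤ 20641 → fs11 v = true := slots_step fs11 20297 344 20641 s11u67 s11c68 rfl
theorem s11u69 : ∀ v, 1 ≤ v → v ≤ 20960 → fs11 v = true := slots_step fs11 20641 319 20960 s11u68 s11c69 rfl
theorem s11u70 : ∀ v, 1 ≤ v → v ≤ 21327 → fs11 v = true := slots_step fs11 20960 367 21327 s11u69 s11c70 rfl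
theorem s11u71 : ∀ v, 1 ≤ v → v ≤ 21726 → fs11 v = true := slots_step fs11 21327 399 21726 s11u70 s11c71 rfl
theorem s11u72 : ∀ v, 1 ≤ v → v ≤ 22032 → fs11 v = true := slots_step fs11 21726 306 22032 s11u71 s11c72 rfl
theorem s11u73 : ∀ v, 1 ≤ v → v ≤ 22357 → fs11 v = true := slots_step fs11 22032 325 22357 s11u72 s11c73 rfl
theorem s11u74 : ∀ v, 1 ≤ v → v ≤ 22687 → fs11 v = true := slots_step fs11 22357 330 22687 s11u73 s11c74 rfl
theorem s11u75 : ∀ v, 1 ≤ v → v ≤ 23046 → fs11 v = true := slots_step fs11 22687 359 23046 s11u74 s11c75 rfl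
theorem s11u76 : ∀ v, 1 ≤ v → v ≤ 23327 → fs11 v = true := slots_step fs11 23046 281 23327 s11u75 s11c76 rfl
theorem s11u77 : ∀ v, 1 ≤ v → v ≤ 23632 → fs11 v = true := slots_step fs11 23327 305 23632 s11u76 s11c77 rfl
theorem s11u78 : ∀ v, 1 ≤ v → v ≤ 23956 → fs11 v = true := slots_step fs11 23632 324 23956 s11u77 s11c78 rfl
theorem s11u79 : ∀ v, 1 ≤ v → v ≤ 24293 → fs11 v = true := slots_step fs11 23956 337 24293 s11u78 s11c79 rfl
theorem s11u80 : ∀ v, 1 ≤ v → v ≤ 24614 → fs11 v = true := slots_step fs11 24293 321 24614 s11u79 s11c80 rfl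
theorem s11u81 : ∀ v, 1 ≤ v → v ≤ 24957 → fs11 v = true := slots_step fs11 24614 343 24957 s11u80 s11c81 rfl
theorem s11u82 : ∀ v, 1 ≤ v → v ≤ 25329 → fs11 v = true := slots_step fs11 24957 372 25329 s11u81 s11c82 rfl
theorem s11u83 : ∀ v, 1 ≤ v → v ≤ 25662 → fs11 v = true := slots_step fs11 25329 333 25662 s11u82 s11c83 rfl
theorem s11u84 : ∀ v, 1 ≤ v → v ≤ 25976 → fs11 v = true := slots_step fs11 25662 314 25976 s11u83 s11c84 rfl
theorem s11u85 : ∀ v, 1 ≤ v → v ≤ 26292 → fs11 v = true := slots_step fs11 25976 316 26292 s11u84 s11c85 rfl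
theorem s11u86 : ∀ v, 1 ≤ v → v ≤ 26621 → fs11 v = true := slots_step fs11 26292 329 26621 s11u85 s11c86 rfl
theorem s11u87 : ∀ v, 1 ≤ v → v ≤ 26961 → fs11 v = true := slots_step fs11 26621 340 26961 s11u86 s11c87 rfl
theorem s11u88 : ∀ v, 1 ≤ v → v ≤ 27312 → fs11 v = true := slots_step fs11 26961 351 27312 s11u87 s11c88 rfl
theorem s11u89 : ∀ v, 1 ≤ v → v ≤ 27672 → fs11 v = true := slots_step fs11 27312 360 27672 s11u88 s11c89 rfl
theorem s11u90 : ∀ v, 1 ≤ v → v ≤ 28006 → fs11 v = true := slots_step fs11 27672 334 28006 s11u89 s11c90 rfl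
theorem s11u91 : ∀ v, 1 ≤ v → v ≤ 28372 → fs11 v = true := slots_step fs11 28006 366 28372 s11u90 s11c91 rfl
theorem s11u92 : ∀ v, 1 ≤ v → v ≤ 28783 → fs11 v = true := slots_step fs11 28372 411 28783 s11u91 s11c92 rfl
theorem s11u93 : ∀ v, 1 ≤ v → v ≤ 29179 → fs11 v = true := slots_step fs11 28783 396 29179 s11u92 s11c93 rfl
theorem s11u94 : ∀ v, 1 ≤ v → v ≤ 29474 → fs11 v = true := slots_step fs11 29179 295 29474 s11u93 s11c94 rfl
theorem s11u95 : ∀ v, 1 ≤ v → v ≤ 29806 → fs11 v = true := slots_step fs11 29474 332 29806 s11u94 s11c95 rfl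
theorem s11u96 : ∀ v, 1 ≤ v → v ≤ 30169 → fs11 v = true := slots_step fs11 29806 363 30169 s11u95 s11c96 rfl
theorem s11u97 : ∀ v, 1 ≤ v → v ≤ 30519 → fs11 v = true := slots_step fs11 30169 350 30519 s11u96 s11c97 rfl
theorem s11u98 : ∀ v, 1 ≤ v → v ≤ 30898 → fs11 v = true := slots_step fs11 30519 379 30898 s11u97 s11c98 rfl
theorem s11u99 : ∀ v, 1 ≤ v → v ≤ 31184 → fs11 v = true := slots_step fs11 30898 286 31184 s11u98 s11c99 rfl
theorem s11u100 : ∀ v, 1 ≤ v → v ≤ 31492 → fs11 v = true := slots_step fs11 31184 308 31492 s11u99 s11c100 rfl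
theorem s11u101 : ∀ v, 1 ≤ v → v ≤ 31803 → fs11 v = true := slots_step fs11 31492 311 31803 s11u100 s11c101 rfl
theorem s11u102 : ∀ v, 1 ≤ v → v ≤ 32167 → fs11 v = true := slots_step fs11 31803 364 32167 s11u101 s11c102 rfl
theorem s11u103 : ∀ v, 1 ≤ v → v ≤ 32510 → fs11 v = true := slots_step fs11 32167 343 32510 s11u102 s11c103 rfl
theorem s11u104 : ∀ v, 1 ≤ v → v ≤ 32860 → fs11 v = true := slots_step fs11 32510 350 32860 s11u103 s11c104 rfl
theorem s11u105 : ∀ v, 1 ≤ v → v ≤ 33193 → fs11 v = true := slots_step fs11 32860 333 33193 s11u104 s11c105 rfl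
theorem s11u106 : ∀ v, 1 ≤ v → v ≤ 33546 → fs11 v = true := slots_step fs11 33193 353 33546 s11u105 s11c106 rfl
theorem s11u107 : ∀ v, 1 ≤ v → v ≤ 33938 → fs11 v = true := slots_step fs11 33546 392 33938 s11u106 s11c107 rfl
theorem s11u108 : ∀ v, 1 ≤ v → v ≤ 34282 → fs11 v = true := slots_step fs11 33938 344 34282 s11u107 s11c108 rfl
theorem s11u109 : ∀ v, 1 ≤ v → v ≤ 34624 → fs11 v = true := slots_step fs11 34282 342 34624 s11u108 s11c109 rfl
theorem s11u110 : ∀ v, 1 ≤ v → v ≤ 34946 → fs11 v = true := slots_step fs11 34624 322 34946 s11u109 s11c110 rfl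
theorem s11u111 : ∀ v, 1 ≤ v → v ≤ 35270 → fs11 v = true := slots_step fs11 34946 324 35270 s11u110 s11c111 rfl
theorem s11u112 : ∀ v, 1 ≤ v → v ≤ 35590 → fs11 v = true := slots_step fs11 35270 320 35590 s11u111 s11c112 rfl
theorem s11u113 : ∀ v, 1 ≤ v → v ≤ 35948 → fs11 v = true := slots_step fs11 35590 358 35948 s11u112 s11c113 rfl
theorem s11u114 : ∀ v, 1 ≤ v → v ≤ 36295 → fs11 v = true := slots_step fs11 35948 347 36295 s11u113 s11c114 rfl
theorem s11u115 : ∀ v, 1 ≤ v → v ≤ 36650 → fs11 v = true := slots_step fs11 36295 355 36650 s11u114 s11c115 rfl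
theorem s11u116 : ∀ v, 1 ≤ v → v ≤ 37039 → fs11 v = true := slots_step fs11 36650 389 37039 s11u115 s11c116 rfl
theorem s11u117 : ∀ v, 1 ≤ v → v ≤ 37382 → fs11 v = true := slots_step fs11 37039 343 37382 s11u116 s11c117 rfl
theorem s11u118 : ∀ v, 1 ≤ v → v ≤ 37722 → fs11 v = true := slots_step fs11 37382 340 37722 s11u117 s11c118 rfl
theorem s11u119 : ∀ v, 1 ≤ v → v ≤ 38067 → fs11 v = true := slots_step fs11 37722 345 38067 s11u118 s11c119 rfl
theorem s11u120 : ∀ v, 1 ≤ v → v ≤ 38444 → fs11 v = true := slots_step fs11 38067 377 38444 s11u119 s11c120 rfl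
theorem s11u121 : ∀ v, 1 ≤ v → v ≤ 38875 → fs11 v = true := slots_step fs11 38444 431 38875 s11u120 s11c121 rfl
theorem s11u122 : ∀ v, 1 ≤ v → v ≤ 39284 → fs11 v = true := slots_step fs11 38875 409 39284 s11u121 s11c122 rfl
theorem s11u123 : ∀ v, 1 ≤ v → v ≤ 39577 → fs11 v = true := slots_step fs11 39284 293 39577 s11u122 s11c123 rfl
theorem s11u124 : ∀ v, 1 ≤ v → v ≤ 39909 → fs11 v = true := slots_step fs11 39577 332 39909 s11u123 s11c124 rfl
theorem s11u125 : ∀ v, 1 ≤ v → v ≤ 40285 → fs11 v = true := slots_step fs11 39909 376 40285 s11u124 s11c125 rfl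
theorem s11u126 : ∀ v, 1 ≤ v → v ≤ 40654 → fs11 v = true := slots_step fs11 40285 369 40654 s11u125 s11c126 rfl
theorem s11u127 : ∀ v, 1 ≤ v → v ≤ 41035 → fs11 v = true := slots_step fs11 40654 381 41035 s11u126 s11c127 rfl
theorem s11u128 : ∀ v, 1 ≤ v → v ≤ 41408 → fs11 v = true := slots_step fs11 41035 373 41408 s11u127 s11c128 rfl
theorem s11u129 : ∀ v, 1 ≤ v → v ≤ 41761 → fs11 v = true := slots_step fs11 41408 353 41761 s11u128 s11c129 rfl
theorem s11u130 : ∀ v, 1 ≤ v → v ≤ 42066 → fs11 v = true := slots_step fs11 41761 305 42066 s11u129 s11c130 rfl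
theorem s11u131 : ∀ v, 1 ≤ v → v ≤ 42374 → fs11 v = true := slots_step fs11 42066 308 42374 s11u130 s11c131 rfl
theorem s11u132 : ∀ v, 1 ≤ v → v ≤ 42709 → fs11 v = true := slots_step fs11 42374 335 42709 s11u131 s11c132 rfl
theorem s11u133 : ∀ v, 1 ≤ v → v ≤ 43032 → fs11 v = true := slots_step fs11 42709 323 43032 s11u132 s11c133 rfl
theorem s11u134 : ∀ v, 1 ≤ v → v ≤ 43391 → fs11 v = true := slots_step fs11 43032 359 43391 s11u133 s11c134 rfl
theorem s11u135 : ∀ v, 1 ≤ v → v ≤ 43757 → fs11 v = true := slots_step fs11 43391 366 43757 s11u134 s11c135 rfl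
theorem s11u136 : ∀ v, 1 ≤ v → v ≤ 44116 → fs11 v = true := slots_step fs11 43757 359 44116 s11u135 s11c136 rfl
theorem s11u137 : ∀ v, 1 ≤ v → v ≤ 44480 → fs11 v = true := slots_step fs11 44116 364 44480 s11u136 s11c137 rfl
theorem s11u138 : ∀ v, 1 ≤ v → v ≤ 44822 → fs11 v = true := slots_step fs11 44480 342 44822 s11u137 s11c138 rfl
theorem s11u139 : ∀ v, 1 ≤ v → v ≤ 45162 → fs11 v = true := slots_step fs11 44822 340 45162 s11u138 s11c139 rfl
theorem s11u140 : ∀ v, 1 ≤ v → v ≤ 45527 → fs11 v = true := slots_step fs11 45162 365 45527 s11u139 s11c140 rfl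
theorem s11u141 : ∀ v, 1 ≤ v → v ≤ 45929 → fs11 v = true := slots_step fs11 45527 402 45929 s11u140 s11c141 rfl
theorem s11u142 : ∀ v, 1 ≤ v → v ≤ 46280 → fs11 v = true := slots_step fs11 45929 351 46280 s11u141 s11c142 rfl
theorem s11u143 : ∀ v, 1 ≤ v → v ≤ 46623 → fs11 v = true := slots_step fs11 46280 343 46623 s11u142 s11c143 rfl
theorem s11u144 : ∀ v, 1 ≤ v → v ≤ 46959 → fs11 v = true := slots_step fs11 46623 336 46959 s11u143 s11c144 rfl
theorem s11u145 : ∀ v, 1 ≤ v → v ≤ 47302 → fs11 v = true := slots_step fs11 46959 343 47302 s11u144 s11c145 rfl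
theorem s11u146 : ∀ v, 1 ≤ v → v ≤ 47624 → fs11 v = true := slots_step fs11 47302 322 47624 s11u145 s11c146 rfl
theorem s11u147 : ∀ v, 1 ≤ v → v ≤ 47950 → fs11 v = true := slots_step fs11 47624 326 47950 s11u146 s11c147 rfl
theorem s11u148 : ∀ v, 1 ≤ v → v ≤ 48271 → fs11 v = true := slots_step fs11 47950 321 48271 s11u147 s11c148 rfl
theorem s11u149 : ∀ v, 1 ≤ v → v ≤ 48624 → fs11 v = true := slots_step fs11 48271 353 48624 s11u148 s11c149 rfl
theorem s11u150 : ∀ v, 1 ≤ v → v ≤ 48979 → fs11 v = true := slots_step fs11 48624 355 48979 s11u149 s11c150 rfl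
theorem s11u151 : ∀ v, 1 ≤ v → v ≤ 49338 → fs11 v = true := slots_step fs11 48979 359 49338 s11u150 s11c151 rfl
theorem s11u152 : ∀ v, 1 ≤ v → v ≤ 49704 → fs11 v = true := slots_step fs11 49338 366 49704 s11u151 s11c152 rfl
theorem s11u153 : ∀ v, 1 ≤ v → v ≤ 50090 → fs11 v = true := slots_step fs11 49704 386 50090 s11u152 s11c153 rfl
theorem s11u154 : ∀ v, 1 ≤ v → v ≤ 50454 → fs11 v = true := slots_step fs11 50090 364 50454 s11u153 s11c154 rfl
theorem s11u155 : ∀ v, 1 ≤ v → v ≤ 50802 → fs11 v = true := slots_step fs11 50454 348 50802 s11u154 s11c155 rfl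
theorem s11u156 : ∀ v, 1 ≤ v → v ≤ 51128 → fs11 v = true := slots_step fs11 50802 326 51128 s11u155 s11c156 rfl
theorem s11u157 : ∀ v, 1 ≤ v → v ≤ 51462 → fs11 v = true := slots_step fs11 51128 334 51462 s11u156 s11c157 rfl
theorem s11u158 : ∀ v, 1 ≤ v → v ≤ 51821 → fs11 v = true := slots_step fs11 51462 359 51821 s11u157 s11c158 rfl
theorem s11u159 : ∀ v, 1 ≤ v → v ≤ 52200 → fs11 v = true := slots_step fs11 51821 379 52200 s11u158 s11c159 rfl
theorem s11u160 : ∀ v, 1 ≤ v → v ≤ 52648 → fs11 v = true := slots_step fs11 52200 448 52648 s11u159 s11c160 rfl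
theorem s11u161 : ∀ v, 1 ≤ v → v ≤ 53078 → fs11 v = true := slots_step fs11 52648 430 53078 s11u160 s11c161 rfl
theorem s11u162 : ∀ v, 1 ≤ v → v ≤ 53384 → fs11 v = true := slots_step fs11 53078 306 53384 s11u161 s11c162 rfl
theorem s11u163 : ∀ v, 1 ≤ v → v ≤ 53730 → fs11 v = true := slots_step fs11 53384 346 53730 s11u162 s11c163 rfl
theorem s11u164 : ∀ v, 1 ≤ v → v ≤ 54067 → fs11 v = true := slots_step fs11 53730 337 54067 s11u163 s11c164 rfl
theorem s11u165 : ∀ v, 1 ≤ v → v ≤ 54446 → fs11 v = true := slots_step fs11 54067 379 54446 s11u164 s11c165 rfl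
theorem s11u166 : ∀ v, 1 ≤ v → v ≤ 54826 → fs11 v = true := slots_step fs11 54446 380 54826 s11u165 s11c166 rfl
theorem s11u167 : ∀ v, 1 ≤ v → v ≤ 55230 → fs11 v = true := slots_step fs11 54826 404 55230 s11u166 s11c167 rfl
theorem s11u168 : ∀ v, 1 ≤ v → v ≤ 55591 → fs11 v = true := slots_step fs11 55230 361 55591 s11u167 s11c168 rfl
theorem s11u169 : ∀ v, 1 ≤ v → v ≤ 55970 → fs11 v = true := slots_step fs11 55591 379 55970 s11u168 s11c169 rfl
theorem s11u170 : ∀ v, 1 ≤ v → v ≤ 56335 → fs11 v = true := slots_step fs11 55970 365 56335 s11u169 s11c170 rfl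
theorem s11u171 : ∀ v, 1 ≤ v → v ≤ 56649 → fs11 v = true := slots_step fs11 56335 314 56649 s11u170 s11c171 rfl
theorem s11u172 : ∀ v, 1 ≤ v → v ≤ 56964 → fs11 v = true := slots_step fs11 56649 315 56964 s11u171 s11c172 rfl
theorem s11u173 : ∀ v, 1 ≤ v → v ≤ 57286 → fs11 v = true := slots_step fs11 56964 322 57286 s11u172 s11c173 rfl
theorem s11u174 : ∀ v, 1 ≤ v → v ≤ 57628 → fs11 v = true := slots_step fs11 57286 342 57628 s11u173 s11c174 rfl
theorem s11u175 : ∀ v, 1 ≤ v → v ≤ 57952 → fs11 v = true := slots_step fs11 57628 324 57952 s11u174 s11c175 rfl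
theorem s11u176 : ∀ v, 1 ≤ v → v ≤ 58278 → fs11 v = true := slots_step fs11 57952 326 58278 s11u175 s11c176 rfl
theorem s11u177 : ∀ v, 1 ≤ v → v ≤ 58618 → fs11 v = true := slots_step fs11 58278 340 58618 s11u176 s11c177 rfl
theorem s11u178 : ∀ v, 1 ≤ v → v ≤ 58995 → fs11 v = true := slots_step fs11 58618 377 58995 s11u177 s11c178 rfl
theorem s11u179 : ∀ v, 1 ≤ v → v ≤ 59362 → fs11 v = true := slots_step fs11 58995 367 59362 s11u178 s11c179 rfl
theorem s11u180 : ∀ v, 1 ≤ v → v ≤ 59741 → fs11 v = true := slots_step fs11 59362 379 59741 s11u179 s11c180 rfl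
theorem s11u181 : ∀ v, 1 ≤ v → v ≤ 60118 → fs11 v = true := slots_step fs11 59741 377 60118 s11u180 s11c181 rfl
theorem s11u182 : ∀ v, 1 ≤ v → v ≤ 60433 → fs11 v = true := slots_step fs11 60118 315 60433 s11u181 s11c182 rfl
theorem s11u183 : ∀ v, 1 ≤ v → v ≤ 60785 → fs11 v = true := slots_step fs11 60433 352 60785 s11u182 s11c183 rfl
theorem s11u184 : ∀ v, 1 ≤ v → v ≤ 61121 → fs11 v = true := slots_step fs11 60785 336 61121 s11u183 s11c184 rfl
theorem s11u185 : ∀ v, 1 ≤ v → v ≤ 61494 → fs11 v = true := slots_step fs11 61121 373 61494 s11u184 s11c185 rfl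
theorem s11u186 : ∀ v, 1 ≤ v → v ≤ 61885 → fs11 v = true := slots_step fs11 61494 391 61885 s11u185 s11c186 rfl
theorem s11u187 : ∀ v, 1 ≤ v → v ≤ 62261 → fs11 v = true := slots_step fs11 61885 376 62261 s11u186 s11c187 rfl
theorem s11u188 : ∀ v, 1 ≤ v → v ≤ 62615 → fs11 v = true := slots_step fs11 62261 354 62615 s11u187 s11c188 rfl
theorem s11u189 : ∀ v, 1 ≤ v → v ≤ 62941 → fs11 v = true := slots_step fs11 62615 326 62941 s11u188 s11c189 rfl
theorem s11u190 : ∀ v, 1 ≤ v → v ≤ 63296 → fs11 v = true := slots_step fs11 62941 355 63296 s11u189 s11c190 rfl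
theorem s11u191 : ∀ v, 1 ≤ v → v ≤ 63624 → fs11 v = true := slots_step fs11 63296 328 63624 s11u190 s11c191 rfl
theorem s11u192 : ∀ v, 1 ≤ v → v ≤ 63967 → fs11 v = true := slots_step fs11 63624 343 63967 s11u191 s11c192 rfl
theorem s11u193 : ∀ v, 1 ≤ v → v ≤ 64311 → fs11 v = true := slots_step fs11 63967 344 64311 s11u192 s11c193 rfl
theorem s11u194 : ∀ v, 1 ≤ v → v ≤ 64629 → fs11 v = true := slots_step fs11 64311 318 64629 s11u193 s11c194 rfl
theorem s11u195 : ∀ v, 1 ≤ v → v ≤ 64955 → fs11 v = true := slots_step fs11 64629 326 64955 s11u194 s11c195 rfl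
theorem s11u196 : ∀ v, 1 ≤ v → v ≤ 65281 → fs11 v = true := slots_step fs11 64955 326 65281 s11u195 s11c196 rfl
theorem s11u197 : ∀ v, 1 ≤ v → v ≤ 65597 → fs11 v = true := slots_step fs11 65281 316 65597 s11u196 s11c197 rfl
theorem s11u198 : ∀ v, 1 ≤ v → v ≤ 65947 → fs11 v = true := slots_step fs11 65597 350 65947 s11u197 s11c198 rfl
theorem s11u199 : ∀ v, 1 ≤ v → v ≤ 66307 → fs11 v = true := slots_step fs11 65947 360 66307 s11u198 s11c199 rfl
theorem s11u200 : ∀ v, 1 ≤ v → v ≤ 66680 → fs11 v = true := slots_step fs11 66307 373 66680 s11u199 s11c200 rfl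
theorem s11u201 : ∀ v, 1 ≤ v → v ≤ 67049 → fs11 v = true := slots_step fs11 66680 369 67049 s11u200 s11c201 rfl
theorem s11u202 : ∀ v, 1 ≤ v → v ≤ 67440 → fs11 v = true := slots_step fs11 67049 391 67440 s11u201 s11c202 rfl
theorem s11u203 : ∀ v, 1 ≤ v → v ≤ 67835 → fs11 v = true := slots_step fs11 67440 395 67835 s11u202 s11c203 rfl
theorem s11u204 : ∀ v, 1 ≤ v → v ≤ 68201 → fs11 v = true := slots_step fs11 67835 366 68201 s11u203 s11c204 rfl
theorem s11u205 : ∀ v, 1 ≤ v → v ≤ 68514 → fs11 v = true := slots_step fs11 68201 313 68514 s11u204 s11c205 rfl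
theorem s11u206 : ∀ v, 1 ≤ v → v ≤ 68853 → fs11 v = true := slots_step fs11 68514 339 68853 s11u205 s11c206 rfl
theorem s11u207 : ∀ v, 1 ≤ v → v ≤ 69180 → fs11 v = true := slots_step fs11 68853 327 69180 s11u206 s11c207 rfl
theorem s11u208 : ∀ v, 1 ≤ v → v ≤ 69501 → fs11 v = true := slots_step fs11 69180 321 69501 s11u207 s11c208 rfl
theorem s11u209 : ∀ v, 1 ≤ v → v ≤ 69824 → fs11 v = true := slots_step fs11 69501 323 69824 s11u208 s11c209 rfl
theorem s11u210 : ∀ v, 1 ≤ v → v ≤ 70213 → fs11 v = true := slots_step fs11 69824 389 70213 s11u209 s11c210 rfl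
theorem s11u211 : ∀ v, 1 ≤ v → v ≤ 70597 → fs11 v = true := slots_step fs11 70213 384 70597 s11u210 s11c211 rfl
theorem s11u212 : ∀ v, 1 ≤ v → v ≤ 71051 → fs11 v = true := slots_step fs11 70597 454 71051 s11u211 s11c212 rfl
theorem s11u213 : ∀ v, 1 ≤ v → v ≤ 71470 → fs11 v = true := slots_step fs11 71051 419 71470 s11u212 s11c213 rfl
theorem s11u214 : ∀ v, 1 ≤ v → v ≤ 71781 → fs11 v = true := slots_step fs11 71470 311 71781 s11u213 s11c214 rfl
theorem s11u215 : ∀ v, 1 ≤ v → v ≤ 72137 → fs11 v = true := slots_step fs11 71781 356 72137 s11u214 s11c215 rfl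
theorem s11u216 : ∀ v, 1 ≤ v → v ≤ 72471 → fs11 v = true := slots_step fs11 72137 334 72471 s11u215 s11c216 rfl
theorem s11u217 : ∀ v, 1 ≤ v → v ≤ 72824 → fs11 v = true := slots_step fs11 72471 353 72824 s11u216 s11c217 rfl
theorem s11u218 : ∀ v, 1 ≤ v → v ≤ 73201 → fs11 v = true := slots_step fs11 72824 377 73201 s11u217 s11c218 rfl
theorem s11u219 : ∀ v, 1 ≤ v → v ≤ 73594 → fs11 v = true := slots_step fs11 73201 393 73594 s11u218 s11c219 rfl
theorem s11u220 : ∀ v, 1 ≤ v → v ≤ 74001 → fs11 v = true := slots_step fs11 73594 407 74001 s11u219 s11c220 rfl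
theorem s11u221 : ∀ v, 1 ≤ v → v ≤ 74383 → fs11 v = true := slots_step fs11 74001 382 74383 s11u220 s11c221 rfl
theorem s11u222 : ∀ v, 1 ≤ v → v ≤ 74731 → fs11 v = true := slots_step fs11 74383 348 74731 s11u221 s11c222 rfl
theorem s11u223 : ∀ v, 1 ≤ v → v ≤ 75120 → fs11 v = true := slots_step fs11 74731 389 75120 s11u222 s11c223 rfl
theorem s11u224 : ∀ v, 1 ≤ v → v ≤ 75491 → fs11 v = true := slots_step fs11 75120 371 75491 s11u223 s11c224 rfl
theorem s11u225 : ∀ v, 1 ≤ v → v ≤ 75807 → fs11 v = true := slots_step fs11 75491 316 75807 s11u224 s11c225 rfl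
theorem s11u226 : ∀ v, 1 ≤ v → v ≤ 76134 → fs11 v = true := slots_step fs11 75807 327 76134 s11u225 s11c226 rfl
theorem s11u227 : ∀ v, 1 ≤ v → v ≤ 76444 → fs11 v = true := slots_step fs11 76134 310 76444 s11u226 s11c227 rfl
theorem s11u228 : ∀ v, 1 ≤ v → v ≤ 76773 → fs11 v = true := slots_step fs11 76444 329 76773 s11u227 s11c228 rfl
theorem s11u229 : ∀ v, 1 ≤ v → v ≤ 77124 → fs11 v = true := slots_step fs11 76773 351 77124 s11u228 s11c229 rfl
theorem s11u230 : ∀ v, 1 ≤ v → v ≤ 77452 → fs11 v = true := slots_step fs11 77124 328 77452 s11u229 s11c230 rfl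
theorem s11u231 : ∀ v, 1 ≤ v → v ≤ 77779 → fs11 v = true := slots_step fs11 77452 327 77779 s11u230 s11c231 rfl
theorem s11u232 : ∀ v, 1 ≤ v → v ≤ 78112 → fs11 v = true := slots_step fs11 77779 333 78112 s11u231 s11c232 rfl
theorem s11u233 : ∀ v, 1 ≤ v → v ≤ 78437 → fs11 v = true := slots_step fs11 78112 325 78437 s11u232 s11c233 rfl
theorem s11u234 : ∀ v, 1 ≤ v → v ≤ 78792 → fs11 v = true := slots_step fs11 78437 355 78792 s11u233 s11c234 rfl
theorem s11u235 : ∀ v, 1 ≤ v → v ≤ 79179 → fs11 v = true := slots_step fs11 78792 387 79179 s11u234 s11c235 rfl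
theorem s11u236 : ∀ v, 1 ≤ v → v ≤ 79562 → fs11 v = true := slots_step fs11 79179 383 79562 s11u235 s11c236 rfl
theorem s11u237 : ∀ v, 1 ≤ v → v ≤ 79929 → fs11 v = true := slots_step fs11 79562 367 79929 s11u236 s11c237 rfl
theorem s11u238 : ∀ v, 1 ≤ v → v ≤ 80322 → fs11 v = true := slots_step fs11 79929 393 80322 s11u237 s11c238 rfl
theorem s11u239 : ∀ v, 1 ≤ v → v ≤ 80661 → fs11 v = true := slots_step fs11 80322 339 80661 s11u238 s11c239 rfl
theorem s11u240 : ∀ v, 1 ≤ v → v ≤ 80980 → fs11 v = true := slots_step fs11 80661 319 80980 s11u239 s11c240 rfl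
theorem s11u241 : ∀ v, 1 ≤ v → v ≤ 81336 → fs11 v = true := slots_step fs11 80980 356 81336 s11u240 s11c241 rfl
theorem s11u242 : ∀ v, 1 ≤ v → v ≤ 81656 → fs11 v = true := slots_step fs11 81336 320 81656 s11u241 s11c242 rfl
theorem s11u243 : ∀ v, 1 ≤ v → v ≤ 82001 → fs11 v = true := slots_step fs11 81656 345 82001 s11u242 s11c243 rfl
theorem s11u244 : ∀ v, 1 ≤ v → v ≤ 82410 → fs11 v = true := slots_step fs11 82001 409 82410 s11u243 s11c244 rfl
theorem s11u245 : ∀ v, 1 ≤ v → v ≤ 82834 → fs11 v = true := slots_step fs11 82410 424 82834 s11u244 s11c245 rfl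
theorem s11u246 : ∀ v, 1 ≤ v → v ≤ 83159 → fs11 v = true := slots_step fs11 82834 325 83159 s11u245 s11c246 rfl
theorem s11u247 : ∀ v, 1 ≤ v → v ≤ 83515 → fs11 v = true := slots_step fs11 83159 356 83515 s11u246 s11c247 rfl
theorem s11u248 : ∀ v, 1 ≤ v → v ≤ 83835 → fs11 v = true := slots_step fs11 83515 320 83835 s11u247 s11c248 rfl
theorem s11u249 : ∀ v, 1 ≤ v → v ≤ 84162 → fs11 v = true := slots_step fs11 83835 327 84162 s11u248 s11c249 rfl
theorem s11u250 : ∀ v, 1 ≤ v → v ≤ 84505 → fs11 v = true := slots_step fs11 84162 343 84505 s11u249 s11c250 rfl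
theorem s11u251 : ∀ v, 1 ≤ v → v ≤ 84831 → fs11 v = true := slots_step fs11 84505 326 84831 s11u250 s11c251 rfl
theorem s11u252 : ∀ v, 1 ≤ v → v ≤ 85167 → fs11 v = true := slots_step fs11 84831 336 85167 s11u251 s11c252 rfl
theorem s11u253 : ∀ v, 1 ≤ v → v ≤ 85512 → fs11 v = true := slots_step fs11 85167 345 85512 s11u252 s11c253 rfl
theorem s11u254 : ∀ v, 1 ≤ v → v ≤ 85846 → fs11 v = true := slots_step fs11 85512 334 85846 s11u253 s11c254 rfl
theorem s11u255 : ∀ v, 1 ≤ v → v ≤ 86163 → fs11 v = true := slots_step fs11 85846 317 86163 s11u254 s11c255 rfl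
theorem s11u256 : ∀ v, 1 ≤ v → v ≤ 86492 → fs11 v = true := slots_step fs11 86163 329 86492 s11u255 s11c256 rfl
theorem s11u257 : ∀ v, 1 ≤ v → v ≤ 86805 → fs11 v = true := slots_step fs11 86492 313 86805 s11u256 s11c257 rfl
theorem s11u258 : ∀ v, 1 ≤ v → v ≤ 87125 → fs11 v = true := slots_step fs11 86805 320 87125 s11u257 s11c258 rfl
theorem s11u259 : ∀ v, 1 ≤ v → v ≤ 87468 → fs11 v = true := slots_step fs11 87125 343 87468 s11u258 s11c259 rfl
theorem s11u260 : ∀ v, 1 ≤ v → v ≤ 87777 → fs11 v = true := slots_step fs11 87468 309 87777 s11u259 s11c260 rfl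
theorem s11u261 : ∀ v, 1 ≤ v → v ≤ 88103 → fs11 v = true := slots_step fs11 87777 326 88103 s11u260 s11c261 rfl
theorem s11u262 : ∀ v, 1 ≤ v → v ≤ 88480 → fs11 v = true := slots_step fs11 88103 377 88480 s11u261 s11c262 rfl
theorem s11u263 : ∀ v, 1 ≤ v → v ≤ 88850 → fs11 v = true := slots_step fs11 88480 370 88850 s11u262 s11c263 rfl
theorem s11u264 : ∀ v, 1 ≤ v → v ≤ 89228 → fs11 v = true := slots_step fs11 88850 378 89228 s11u263 s11c264 rfl
theorem s11u265 : ∀ v, 1 ≤ v → v ≤ 89598 → fs11 v = true := slots_step fs11 89228 370 89598 s11u264 s11c265 rfl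
theorem s11u266 : ∀ v, 1 ≤ v → v ≤ 89975 → fs11 v = true := slots_step fs11 89598 377 89975 s11u265 s11c266 rfl
theorem s11u267 : ∀ v, 1 ≤ v → v ≤ 90365 → fs11 v = true := slots_step fs11 89975 390 90365 s11u266 s11c267 rfl
theorem s11u268 : ∀ v, 1 ≤ v → v ≤ 90772 → fs11 v = true := slots_step fs11 90365 407 90772 s11u267 s11c268 rfl
theorem s11u269 : ∀ v, 1 ≤ v → v ≤ 91089 → fs11 v = true := slots_step fs11 90772 317 91089 s11u268 s11c269 rfl
theorem s11u270 : ∀ v, 1 ≤ v → v ≤ 91419 → fs11 v = true := slots_step fs11 91089 330 91419 s11u269 s11c270 rfl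
theorem s11u271 : ∀ v, 1 ≤ v → v ≤ 91761 → fs11 v = true := slots_step fs11 91419 342 91761 s11u270 s11c271 rfl
theorem s11u272 : ∀ v, 1 ≤ v → v ≤ 92083 → fs11 v = true := slots_step fs11 91761 322 92083 s11u271 s11c272 rfl
theorem s11u273 : ∀ v, 1 ≤ v → v ≤ 92402 → fs11 v = true := slots_step fs11 92083 319 92402 s11u272 s11c273 rfl
theorem s11u274 : ∀ v, 1 ≤ v → v ≤ 92712 → fs11 v = true := slots_step fs11 92402 310 92712 s11u273 s11c274 rfl
theorem s11u275 : ∀ v, 1 ≤ v → v ≤ 93074 → fs11 v = true := slots_step fs11 92712 362 93074 s11u274 s11c275 rfl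
theorem s11u276 : ∀ v, 1 ≤ v → v ≤ 93465 → fs11 v = true := slots_step fs11 93074 391 93465 s11u275 s11c276 rfl
theorem s11u277 : ∀ v, 1 ≤ v → v ≤ 93922 → fs11 v = true := slots_step fs11 93465 457 93922 s11u276 s11c277 rfl
theorem s11u278 : ∀ v, 1 ≤ v → v ≤ 94362 → fs11 v = true := slots_step fs11 93922 440 94362 s11u277 s11c278 rfl
theorem s11u279 : ∀ v, 1 ≤ v → v ≤ 94688 → fs11 v = true := slots_step fs11 94362 326 94688 s11u278 s11c279 rfl
theorem s11u280 : ∀ v, 1 ≤ v → v ≤ 95015 → fs11 v = true := slots_step fs11 94688 327 95015 s11u279 s11c280 rfl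
theorem s11u281 : ∀ v, 1 ≤ v → v ≤ 95386 → fs11 v = true := slots_step fs11 95015 371 95386 s11u280 s11c281 rfl
theorem s11u282 : ∀ v, 1 ≤ v → v ≤ 95718 → fs11 v = true := slots_step fs11 95386 332 95718 s11u281 s11c282 rfl
theorem s11u283 : ∀ v, 1 ≤ v → v ≤ 96061 → fs11 v = true := slots_step fs11 95718 343 96061 s11u282 s11c283 rfl
theorem s11u284 : ∀ v, 1 ≤ v → v ≤ 96382 → fs11 v = true := slots_step fs11 96061 321 96382 s11u283 s11c284 rfl
theorem s11u285 : ∀ v, 1 ≤ v → v ≤ 96803 → fs11 v = true := slots_step fs11 96382 421 96803 s11u284 s11c285 rfl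
theorem s11u286 : ∀ v, 1 ≤ v → v ≤ 97186 → fs11 v = true := slots_step fs11 96803 383 97186 s11u285 s11c286 rfl
theorem s11u287 : ∀ v, 1 ≤ v → v ≤ 97594 → fs11 v = true := slots_step fs11 97186 408 97594 s11u286 s11c287 rfl
theorem s11u288 : ∀ v, 1 ≤ v → v ≤ 97974 → fs11 v = true := slots_step fs11 97594 380 97974 s11u287 s11c288 rfl
theorem s11u289 : ∀ v, 1 ≤ v → v ≤ 98304 → fs11 v = true := slots_step fs11 97974 330 98304 s11u288 s11c289 rfl
theorem s11u290 : ∀ v, 1 ≤ v → v ≤ 98737 → fs11 v = true := slots_step fs11 98304 433 98737 s11u289 s11c290 rfl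
theorem s11u291 : ∀ v, 1 ≤ v → v ≤ 99086 → fs11 v = true := slots_step fs11 98737 349 99086 s11u290 s11c291 rfl
theorem s11u292 : ∀ v, 1 ≤ v → v ≤ 99404 → fs11 v = true := slots_step fs11 99086 318 99404 s11u291 s11c292 rfl
theorem s11u293 : ∀ v, 1 ≤ v → v ≤ 99735 → fs11 v = true := slots_step fs11 99404 331 99735 s11u292 s11c293 rfl
theorem s11u294 : ∀ v, 1 ≤ v → v ≤ 100070 → fs11 v = true := slots_step fs11 99735 335 100070 s11u293 s11c294 rfl
theorem s11u295 : ∀ v, 1 ≤ v → v ≤ 100385 → fs11 v = true := slots_step fs11 100070 315 100385 s11u294 s11c295 rfl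
theorem s11u296 : ∀ v, 1 ≤ v → v ≤ 100711 → fs11 v = true := slots_step fs11 100385 326 100711 s11u295 s11c296 rfl
theorem s11u297 : ∀ v, 1 ≤ v → v ≤ 101062 → fs11 v = true := slots_step fs11 100711 351 101062 s11u296 s11c297 rfl
theorem s11u298 : ∀ v, 1 ≤ v → v ≤ 101425 → fs11 v = true := slots_step fs11 101062 363 101425 s11u297 s11c298 rfl
theorem s11u299 : ∀ v, 1 ≤ v → v ≤ 101743 → fs11 v = true := slots_step fs11 101425 318 101743 s11u298 s11c299 rfl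
theorem s11u300 : ∀ v, 1 ≤ v → v ≤ 102065 → fs11 v = true := slots_step fs11 101743 322 102065 s11u299 s11c300 rfl
theorem s11u301 : ∀ v, 1 ≤ v → v ≤ 102403 → fs11 v = true := slots_step fs11 102065 338 102403 s11u300 s11c301 rfl
theorem s11u302 : ∀ v, 1 ≤ v → v ≤ 102741 → fs11 v = true := slots_step fs11 102403 338 102741 s11u301 s11c302 rfl
theorem s11u303 : ∀ v, 1 ≤ v → v ≤ 103056 → fs11 v = true := slots_step fs11 102741 315 103056 s11u302 s11c303 rfl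
theorem s11u304 : ∀ v, 1 ≤ v → v ≤ 103380 → fs11 v = true := slots_step fs11 103056 324 103380 s11u303 s11c304 rfl
theorem s11u305 : ∀ v, 1 ≤ v → v ≤ 103779 → fs11 v = true := slots_step fs11 103380 399 103779 s11u304 s11c305 rfl
theorem s11u306 : ∀ v, 1 ≤ v → v ≤ 104185 → fs11 v = true := slots_step fs11 103779 406 104185 s11u305 s11c306 rfl
theorem s11u307 : ∀ v, 1 ≤ v → v ≤ 104581 → fs11 v = true := slots_step fs11 104185 396 104581 s11u306 s11c307 rfl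
theorem s11u308 : ∀ v, 1 ≤ v → v ≤ 104985 → fs11 v = true := slots_step fs11 104581 404 104985 s11u307 s11c308 rfl
theorem s11u309 : ∀ v, 1 ≤ v → v ≤ 105367 → fs11 v = true := slots_step fs11 104985 382 105367 s11u308 s11c309 rfl
theorem s11u310 : ∀ v, 1 ≤ v → v ≤ 105700 → fs11 v = true := slots_step fs11 105367 333 105700 s11u309 s11c310 rfl
theorem s11u311 : ∀ v, 1 ≤ v → v ≤ 106067 → fs11 v = true := slots_step fs11 105700 367 106067 s11u310 s11c311 rfl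
theorem s11u312 : ∀ v, 1 ≤ v → v ≤ 106385 → fs11 v = true := slots_step fs11 106067 318 106385 s11u311 s11c312 rfl
theorem s11u313 : ∀ v, 1 ≤ v → v ≤ 106709 → fs11 v = true := slots_step fs11 106385 324 106709 s11u312 s11c313 rfl
theorem s11u314 : ∀ v, 1 ≤ v → v ≤ 107115 → fs11 v = true := slots_step fs11 106709 406 107115 s11u313 s11c314 rfl
theorem s11u315 : ∀ v, 1 ≤ v → v ≤ 107577 → fs11 v = true := slots_step fs11 107115 462 107577 s11u314 s11c315 rfl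
theorem s11u316 : ∀ v, 1 ≤ v → v ≤ 107911 → fs11 v = true := slots_step fs11 107577 334 107911 s11u315 s11c316 rfl
theorem s11u317 : ∀ v, 1 ≤ v → v ≤ 108249 → fs11 v = true := slots_step fs11 107911 338 108249 s11u316 s11c317 rfl
theorem s11u318 : ∀ v, 1 ≤ v → v ≤ 108578 → fs11 v = true := slots_step fs11 108249 329 108578 s11u317 s11c318 rfl
theorem s11u319 : ∀ v, 1 ≤ v → v ≤ 108889 → fs11 v = true := slots_step fs11 108578 311 108889 s11u318 s11c319 rfl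
theorem s11u320 : ∀ v, 1 ≤ v → v ≤ 109181 → fs11 v = true := slots_step fs11 108889 292 109181 s11u319 s11c320 rfl
theorem s11u321 : ∀ v, 1 ≤ v → v ≤ 109548 → fs11 v = true := slots_step fs11 109181 367 109548 s11u320 s11c321 rfl
theorem s11u322 : ∀ v, 1 ≤ v → v ≤ 109886 → fs11 v = true := slots_step fs11 109548 338 109886 s11u321 s11c322 rfl
theorem s11u323 : ∀ v, 1 ≤ v → v ≤ 110207 → fs11 v = true := slots_step fs11 109886 321 110207 s11u322 s11c323 rfl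
theorem s11u324 : ∀ v, 1 ≤ v → v ≤ 110530 → fs11 v = true := slots_step fs11 110207 323 110530 s11u323 s11c324 rfl
theorem s11u325 : ∀ v, 1 ≤ v → v ≤ 110875 → fs11 v = true := slots_step fs11 110530 345 110875 s11u324 s11c325 rfl
theorem s11u326 : ∀ v, 1 ≤ v → v ≤ 111209 → fs11 v = true := slots_step fs11 110875 334 111209 s11u325 s11c326 rfl
theorem s11u327 : ∀ v, 1 ≤ v → v ≤ 111544 → fs11 v = true := slots_step fs11 111209 335 111544 s11u326 s11c327 rfl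
theorem s11u328 : ∀ v, 1 ≤ v → v ≤ 111863 → fs11 v = true := slots_step fs11 111544 319 111863 s11u327 s11c328 rfl
theorem s11u329 : ∀ v, 1 ≤ v → v ≤ 112175 → fs11 v = true := slots_step fs11 111863 312 112175 s11u328 s11c329 rfl
theorem s11u330 : ∀ v, 1 ≤ v → v ≤ 112503 → fs11 v = true := slots_step fs11 112175 328 112503 s11u329 s11c330 rfl
theorem s11u331 : ∀ v, 1 ≤ v → v ≤ 112802 → fs11 v = true := slots_step fs11 112503 299 112802 s11u330 s11c331 rfl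
theorem s11u332 : ∀ v, 1 ≤ v → v ≤ 113128 → fs11 v = true := slots_step fs11 112802 326 113128 s11u331 s11c332 rfl
theorem s11u333 : ∀ v, 1 ≤ v → v ≤ 113447 → fs11 v = true := slots_step fs11 113128 319 113447 s11u332 s11c333 rfl
theorem s11u334 : ∀ v, 1 ≤ v → v ≤ 113793 → fs11 v = true := slots_step fs11 113447 346 113793 s11u333 s11c334 rfl
theorem s11u335 : ∀ v, 1 ≤ v → v ≤ 114098 → fs11 v = true := slots_step fs11 113793 305 114098 s11u334 s11c335 rfl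
theorem s11u336 : ∀ v, 1 ≤ v → v ≤ 114408 → fs11 v = true := slots_step fs11 114098 310 114408 s11u335 s11c336 rfl
theorem s11u337 : ∀ v, 1 ≤ v → v ≤ 114742 → fs11 v = true := slots_step fs11 114408 334 114742 s11u336 s11c337 rfl
theorem s11u338 : ∀ v, 1 ≤ v → v ≤ 115111 → fs11 v = true := slots_step fs11 114742 369 115111 s11u337 s11c338 rfl
theorem s11u339 : ∀ v, 1 ≤ v → v ≤ 115485 → fs11 v = true := slots_step fs11 115111 374 115485 s11u338 s11c339 rfl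
theorem s11u340 : ∀ v, 1 ≤ v → v ≤ 115852 → fs11 v = true := slots_step fs11 115485 367 115852 s11u339 s11c340 rfl
theorem s11u341 : ∀ v, 1 ≤ v → v ≤ 116213 → fs11 v = true := slots_step fs11 115852 361 116213 s11u340 s11c341 rfl
theorem s11u342 : ∀ v, 1 ≤ v → v ≤ 116610 → fs11 v = true := slots_step fs11 116213 397 116610 s11u341 s11c342 rfl
theorem s11u343 : ∀ v, 1 ≤ v → v ≤ 116986 → fs11 v = true := slots_step fs11 116610 376 116986 s11u342 s11c343 rfl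
theorem s11u344 : ∀ v, 1 ≤ v → v ≤ 117405 → fs11 v = true := slots_step fs11 116986 419 117405 s11u343 s11c344 rfl
theorem s11u345 : ∀ v, 1 ≤ v → v ≤ 117749 → fs11 v = true := slots_step fs11 117405 344 117749 s11u344 s11c345 rfl
theorem s11u346 : ∀ v, 1 ≤ v → v ≤ 118126 → fs11 v = true := slots_step fs11 117749 377 118126 s11u345 s11c346 rfl
theorem s11u347 : ∀ v, 1 ≤ v → v ≤ 118476 → fs11 v = true := slots_step fs11 118126 350 118476 s11u346 s11c347 rfl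
theorem s11u348 : ∀ v, 1 ≤ v → v ≤ 118792 → fs11 v = true := slots_step fs11 118476 316 118792 s11u347 s11c348 rfl
theorem s11u349 : ∀ v, 1 ≤ v → v ≤ 119101 → fs11 v = true := slots_step fs11 118792 309 119101 s11u348 s11c349 rfl
theorem s11u350 : ∀ v, 1 ≤ v → v ≤ 119400 → fs11 v = true := slots_step fs11 119101 299 119400 s11u349 s11c350 rfl
theorem s11u351 : ∀ v, 1 ≤ v → v ≤ 119735 → fs11 v = true := slots_step fs11 119400 335 119735 s11u350 s11c351 rfl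
theorem s11u352 : ∀ v, 1 ≤ v → v ≤ 120209 → fs11 v = true := slots_step fs11 119735 474 120209 s11u351 s11c352 rfl
theorem s11u353 : ∀ v, 1 ≤ v → v ≤ 120620 → fs11 v = true := slots_step fs11 120209 411 120620 s11u352 s11c353 rfl
theorem s11u354 : ∀ v, 1 ≤ v → v ≤ 120949 → fs11 v = true := slots_step fs11 120620 329 120949 s11u353 s11c354 rfl
theorem s11u355 : ∀ v, 1 ≤ v → v ≤ 121277 → fs11 v = true := slots_step fs11 120949 328 121277 s11u354 s11c355 rfl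
theorem s11u356 : ∀ v, 1 ≤ v → v ≤ 121626 → fs11 v = true := slots_step fs11 121277 349 121626 s11u355 s11c356 rfl
theorem s11u357 : ∀ v, 1 ≤ v → v ≤ 121964 → fs11 v = true := slots_step fs11 121626 338 121964 s11u356 s11c357 rfl
theorem s11u358 : ∀ v, 1 ≤ v → v ≤ 122293 → fs11 v = true := slots_step fs11 121964 329 122293 s11u357 s11c358 rfl
theorem s11u359 : ∀ v, 1 ≤ v → v ≤ 122630 → fs11 v = true := slots_step fs11 122293 337 122630 s11u358 s11c359 rfl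
theorem s11u360 : ∀ v, 1 ≤ v → v ≤ 122953 → fs11 v = true := slots_step fs11 122630 323 122953 s11u359 s11c360 rfl
theorem s11u361 : ∀ v, 1 ≤ v → v ≤ 123358 → fs11 v = true := slots_step fs11 122953 405 123358 s11u360 s11c361 rfl
theorem s11u362 : ∀ v, 1 ≤ v → v ≤ 123770 → fs11 v = true := slots_step fs11 123358 412 123770 s11u361 s11c362 rfl
theorem s11u363 : ∀ v, 1 ≤ v → v ≤ 124165 → fs11 v = true := slots_step fs11 123770 395 124165 s11u362 s11c363 rfl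
theorem s11u364 : ∀ v, 1 ≤ v → v ≤ 124495 → fs11 v = true := slots_step fs11 124165 330 124495 s11u363 s11c364 rfl
theorem s11u365 : ∀ v, 1 ≤ v → v ≤ 124886 → fs11 v = true := slots_step fs11 124495 391 124886 s11u364 s11c365 rfl
theorem s11u366 : ∀ v, 1 ≤ v → v ≤ 125188 → fs11 v = true := slots_step fs11 124886 302 125188 s11u365 s11c366 rfl
theorem s11u367 : ∀ v, 1 ≤ v → v ≤ 125487 → fs11 v = true := slots_step fs11 125188 299 125487 s11u366 s11c367 rfl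
theorem s11u368 : ∀ v, 1 ≤ v → v ≤ 125764 → fs11 v = true := slots_step fs11 125487 277 125764 s11u367 s11c368 rfl
theorem s11u369 : ∀ v, 1 ≤ v → v ≤ 126066 → fs11 v = true := slots_step fs11 125764 302 126066 s11u368 s11c369 rfl
theorem s11u370 : ∀ v, 1 ≤ v → v ≤ 126373 → fs11 v = true := slots_step fs11 126066 307 126373 s11u369 s11c370 rfl
theorem s11u371 : ∀ v, 1 ≤ v → v ≤ 126682 → fs11 v = true := slots_step fs11 126373 309 126682 s11u370 s11c371 rfl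
theorem s11u372 : ∀ v, 1 ≤ v → v ≤ 126981 → fs11 v = true := slots_step fs11 126682 299 126981 s11u371 s11c372 rfl
theorem s11u373 : ∀ v, 1 ≤ v → v ≤ 127296 → fs11 v = true := slots_step fs11 126981 315 127296 s11u372 s11c373 rfl
theorem s11u374 : ∀ v, 1 ≤ v → v ≤ 127602 → fs11 v = true := slots_step fs11 127296 306 127602 s11u373 s11c374 rfl
theorem s11u375 : ∀ v, 1 ≤ v → v ≤ 127927 → fs11 v = true := slots_step fs11 127602 325 127927 s11u374 s11c375 rfl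
theorem s11u376 : ∀ v, 1 ≤ v → v ≤ 128234 → fs11 v = true := slots_step fs11 127927 307 128234 s11u375 s11c376 rfl
theorem s11u377 : ∀ v, 1 ≤ v → v ≤ 128557 → fs11 v = true := slots_step fs11 128234 323 128557 s11u376 s11c377 rfl
theorem s11u378 : ∀ v, 1 ≤ v → v ≤ 128860 → fs11 v = true := slots_step fs11 128557 303 128860 s11u377 s11c378 rfl
theorem s11u379 : ∀ v, 1 ≤ v → v ≤ 129134 → fs11 v = true := slots_step fs11 128860 274 129134 s11u378 s11c379 rfl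
theorem s11u380 : ∀ v, 1 ≤ v → v ≤ 129446 → fs11 v = true := slots_step fs11 129134 312 129446 s11u379 s11c380 rfl
theorem s11u381 : ∀ v, 1 ≤ v → v ≤ 129741 → fs11 v = true := slots_step fs11 129446 295 129741 s11u380 s11c381 rfl
theorem s11u382 : ∀ v, 1 ≤ v → v ≤ 130014 → fs11 v = true := slots_step fs11 129741 273 130014 s11u381 s11c382 rfl
theorem s11u383 : ∀ v, 1 ≤ v → v ≤ 130291 → fs11 v = true := slots_step fs11 130014 277 130291 s11u382 s11c383 rfl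
theorem s11u384 : ∀ v, 1 ≤ v → v ≤ 130589 → fs11 v = true := slots_step fs11 130291 298 130589 s11u383 s11c384 rfl
theorem s11u385 : ∀ v, 1 ≤ v → v ≤ 130883 → fs11 v = true := slots_step fs11 130589 294 130883 s11u384 s11c385 rfl
theorem s11u386 : ∀ v, 1 ≤ v → v ≤ 131170 → fs11 v = true := slots_step fs11 130883 287 131170 s11u385 s11c386 rfl
theorem s11u387 : ∀ v, 1 ≤ v → v ≤ 131478 → fs11 v = true := slots_step fs11 131170 308 131478 s11u386 s11c387 rfl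
theorem s11u388 : ∀ v, 1 ≤ v → v ≤ 131767 → fs11 v = true := slots_step fs11 131478 289 131767 s11u387 s11c388 rfl
theorem s11u389 : ∀ v, 1 ≤ v → v ≤ 132042 → fs11 v = true := slots_step fs11 131767 275 132042 s11u388 s11c389 rfl
theorem s11u390 : ∀ v, 1 ≤ v → v ≤ 132324 → fs11 v = true := slots_step fs11 132042 282 132324 s11u389 s11c390 rfl
theorem s11u391 : ∀ v, 1 ≤ v → v ≤ 132627 → fs11 v = true := slots_step fs11 132324 303 132627 s11u390 s11c391 rfl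
theorem s11u392 : ∀ v, 1 ≤ v → v ≤ 132938 → fs11 v = true := slots_step fs11 132627 311 132938 s11u391 s11c392 rfl
theorem s11u393 : ∀ v, 1 ≤ v → v ≤ 133254 → fs11 v = true := slots_step fs11 132938 316 133254 s11u392 s11c393 rfl
theorem s11u394 : ∀ v, 1 ≤ v → v ≤ 133550 → fs11 v = true := slots_step fs11 133254 296 133550 s11u393 s11c394 rfl
theorem s11u395 : ∀ v, 1 ≤ v → v ≤ 133863 → fs11 v = true := slots_step fs11 133550 313 133863 s11u394 s11c395 rfl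
theorem s11u396 : ∀ v, 1 ≤ v → v ≤ 134184 → fs11 v = true := slots_step fs11 133863 321 134184 s11u395 s11c396 rfl
theorem s11u397 : ∀ v, 1 ≤ v → v ≤ 134492 → fs11 v = true := slots_step fs11 134184 308 134492 s11u396 s11c397 rfl
theorem s11u398 : ∀ v, 1 ≤ v → v ≤ 134805 → fs11 v = true := slots_step fs11 134492 313 134805 s11u397 s11c398 rfl
theorem s11u399 : ∀ v, 1 ≤ v → v ≤ 135118 → fs11 v = true := slots_step fs11 134805 313 135118 s11u398 s11c399 rfl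
theorem s11u400 : ∀ v, 1 ≤ v → v ≤ 135442 → fs11 v = true := slots_step fs11 135118 324 135442 s11u399 s11c400 rfl
theorem s11u401 : ∀ v, 1 ≤ v → v ≤ 135745 → fs11 v = true := slots_step fs11 135442 303 135745 s11u400 s11c401 rfl
theorem s11u402 : ∀ v, 1 ≤ v → v ≤ 136074 → fs11 v = true := slots_step fs11 135745 329 136074 s11u401 s11c402 rfl
theorem s11u403 : ∀ v, 1 ≤ v → v ≤ 136391 → fs11 v = true := slots_step fs11 136074 317 136391 s11u402 s11c403 rfl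
theorem s11u404 : ∀ v, 1 ≤ v → v ≤ 136700 → fs11 v = true := slots_step fs11 136391 309 136700 s11u403 s11c404 rfl
theorem s11u405 : ∀ v, 1 ≤ v → v ≤ 136985 → fs11 v = true := slots_step fs11 136700 285 136985 s11u404 s11c405 rfl
theorem s11u406 : ∀ v, 1 ≤ v → v ≤ 137259 → fs11 v = true := slots_step fs11 136985 274 137259 s11u405 s11c406 rfl
theorem s11u407 : ∀ v, 1 ≤ v → v ≤ 137557 → fs11 v = true := slots_step fs11 137259 298 137557 s11u406 s11c407 rfl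
theorem s11u408 : ∀ v, 1 ≤ v → v ≤ 137882 → fs11 v = true := slots_step fs11 137557 325 137882 s11u407 s11c408 rfl
theorem s11u409 : ∀ v, 1 ≤ v → v ≤ 138173 → fs11 v = true := slots_step fs11 137882 291 138173 s11u408 s11c409 rfl
theorem s11u410 : ∀ v, 1 ≤ v → v ≤ 138452 → fs11 v = true := slots_step fs11 138173 279 138452 s11u409 s11c410 rfl
theorem s11u411 : ∀ v, 1 ≤ v → v ≤ 138745 → fs11 v = true := slots_step fs11 138452 293 138745 s11u410 s11c411 rfl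
theorem s11u412 : ∀ v, 1 ≤ v → v ≤ 139050 → fs11 v = true := slots_step fs11 138745 305 139050 s11u411 s11c412 rfl
theorem s11u413 : ∀ v, 1 ≤ v → v ≤ 139330 → fs11 v = true := slots_step fs11 139050 280 139330 s11u412 s11c413 rfl
theorem s11u414 : ∀ v, 1 ≤ v → v ≤ 139635 → fs11 v = true := slots_step fs11 139330 305 139635 s11u413 s11c414 rfl
theorem s11u415 : ∀ v, 1 ≤ v → v ≤ 139931 → fs11 v = true := slots_step fs11 139635 296 139931 s11u414 s11c415 rfl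
theorem s11u416 : ∀ v, 1 ≤ v → v ≤ 140235 → fs11 v = true := slots_step fs11 139931 304 140235 s11u415 s11c416 rfl
theorem s11u417 : ∀ v, 1 ≤ v → v ≤ 140536 → fs11 v = true := slots_step fs11 140235 301 140536 s11u416 s11c417 rfl
theorem s11u418 : ∀ v, 1 ≤ v → v ≤ 140831 → fs11 v = true := slots_step fs11 140536 295 140831 s11u417 s11c418 rfl
theorem s11u419 : ∀ v, 1 ≤ v → v ≤ 141094 → fs11 v = true := slots_step fs11 140831 263 141094 s11u418 s11c419 rfl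
theorem s11u420 : ∀ v, 1 ≤ v → v ≤ 141396 → fs11 v = true := slots_step fs11 141094 302 141396 s11u419 s11c420 rfl
theorem s11u421 : ∀ v, 1 ≤ v → v ≤ 141696 → fs11 v = true := slots_step fs11 141396 300 141696 s11u420 s11c421 rfl
theorem s11u422 : ∀ v, 1 ≤ v → v ≤ 141985 → fs11 v = true := slots_step fs11 141696 289 141985 s11u421 s11c422 rfl
theorem s11u423 : ∀ v, 1 ≤ v → v ≤ 142256 → fs11 v = true := slots_step fs11 141985 271 142256 s11u422 s11c423 rfl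
theorem s11u424 : ∀ v, 1 ≤ v → v ≤ 142531 → fs11 v = true := slots_step fs11 142256 275 142531 s11u423 s11c424 rfl
theorem s11u425 : ∀ v, 1 ≤ v → v ≤ 142842 → fs11 v = true := slots_step fs11 142531 311 142842 s11u424 s11c425 rfl
theorem s11u426 : ∀ v, 1 ≤ v → v ≤ 143141 → fs11 v = true := slots_step fs11 142842 299 143141 s11u425 s11c426 rfl
theorem s11u427 : ∀ v, 1 ≤ v → v ≤ 143447 → fs11 v = true := slots_step fs11 143141 306 143447 s11u426 s11c427 rfl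
theorem s11u428 : ∀ v, 1 ≤ v → v ≤ 143743 → fs11 v = true := slots_step fs11 143447 296 143743 s11u427 s11c428 rfl
theorem s11u429 : ∀ v, 1 ≤ v → v ≤ 144052 → fs11 v = true := slots_step fs11 143743 309 144052 s11u428 s11c429 rfl
theorem s11u430 : ∀ v, 1 ≤ v → v ≤ 144353 → fs11 v = true := slots_step fs11 144052 301 144353 s11u429 s11c430 rfl
theorem s11u431 : ∀ v, 1 ≤ v → v ≤ 144663 → fs11 v = true := slots_step fs11 144353 310 144663 s11u430 s11c431 rfl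
theorem s11u432 : ∀ v, 1 ≤ v → v ≤ 144974 → fs11 v = true := slots_step fs11 144663 311 144974 s11u431 s11c432 rfl
theorem s11u433 : ∀ v, 1 ≤ v → v ≤ 145296 → fs11 v = true := slots_step fs11 144974 322 145296 s11u432 s11c433 rfl
theorem s11u434 : ∀ v, 1 ≤ v → v ≤ 145604 → fs11 v = true := slots_step fs11 145296 308 145604 s11u433 s11c434 rfl
theorem s11u435 : ∀ v, 1 ≤ v → v ≤ 145913 → fs11 v = true := slots_step fs11 145604 309 145913 s11u434 s11c435 rfl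
theorem s11u436 : ∀ v, 1 ≤ v → v ≤ 146201 → fs11 v = true := slots_step fs11 145913 288 146201 s11u435 s11c436 rfl
theorem s11u437 : ∀ v, 1 ≤ v → v ≤ 146473 → fs11 v = true := slots_step fs11 146201 272 146473 s11u436 s11c437 rfl
theorem s11u438 : ∀ v, 1 ≤ v → v ≤ 146771 → fs11 v = true := slots_step fs11 146473 298 146771 s11u437 s11c438 rfl
theorem s11u439 : ∀ v, 1 ≤ v → v ≤ 147063 → fs11 v = true := slots_step fs11 146771 292 147063 s11u438 s11c439 rfl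
theorem s11u440 : ∀ v, 1 ≤ v → v ≤ 147328 → fs11 v = true := slots_step fs11 147063 265 147328 s11u439 s11c440 rfl
theorem s11u441 : ∀ v, 1 ≤ v → v ≤ 147601 → fs11 v = true := slots_step fs11 147328 273 147601 s11u440 s11c441 rfl
theorem s11u442 : ∀ v, 1 ≤ v → v ≤ 147895 → fs11 v = true := slots_step fs11 147601 294 147895 s11u441 s11c442 rfl
theorem s11u443 : ∀ v, 1 ≤ v → v ≤ 148173 → fs11 v = true := slots_step fs11 147895 278 148173 s11u442 s11c443 rfl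
theorem s11u444 : ∀ v, 1 ≤ v → v ≤ 148474 → fs11 v = true := slots_step fs11 148173 301 148474 s11u443 s11c444 rfl
theorem s11u445 : ∀ v, 1 ≤ v → v ≤ 148782 → fs11 v = true := slots_step fs11 148474 308 148782 s11u444 s11c445 rfl
theorem s11u446 : ∀ v, 1 ≤ v → v ≤ 149069 → fs11 v = true := slots_step fs11 148782 287 149069 s11u445 s11c446 rfl
theorem s11u447 : ∀ v, 1 ≤ v → v ≤ 149345 → fs11 v = true := slots_step fs11 149069 276 149345 s11u446 s11c447 rfl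
theorem s11u448 : ∀ v, 1 ≤ v → v ≤ 149624 → fs11 v = true := slots_step fs11 149345 279 149624 s11u447 s11c448 rfl
theorem s11u449 : ∀ v, 1 ≤ v → v ≤ 149923 → fs11 v = true := slots_step fs11 149624 299 149923 s11u448 s11c449 rfl
theorem s11u450 : ∀ v, 1 ≤ v → v ≤ 150239 → fs11 v = true := slots_step fs11 149923 316 150239 s11u449 s11c450 rfl
theorem s11u451 : ∀ v, 1 ≤ v → v ≤ 150542 → fs11 v = true := slots_step fs11 150239 303 150542 s11u450 s11c451 rfl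
theorem s11u452 : ∀ v, 1 ≤ v → v ≤ 150855 → fs11 v = true := slots_step fs11 150542 313 150855 s11u451 s11c452 rfl
theorem s11u453 : ∀ v, 1 ≤ v → v ≤ 151153 → fs11 v = true := slots_step fs11 150855 298 151153 s11u452 s11c453 rfl
theorem s11u454 : ∀ v, 1 ≤ v → v ≤ 151454 → fs11 v = true := slots_step fs11 151153 301 151454 s11u453 s11c454 rfl
theorem s11u455 : ∀ v, 1 ≤ v → v ≤ 151778 → fs11 v = true := slots_step fs11 151454 324 151778 s11u454 s11c455 rfl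
theorem s11u456 : ∀ v, 1 ≤ v → v ≤ 152083 → fs11 v = true := slots_step fs11 151778 305 152083 s11u455 s11c456 rfl
theorem s11u457 : ∀ v, 1 ≤ v → v ≤ 152394 → fs11 v = true := slots_step fs11 152083 311 152394 s11u456 s11c457 rfl
theorem s11u458 : ∀ v, 1 ≤ v → v ≤ 152697 → fs11 v = true := slots_step fs11 152394 303 152697 s11u457 s11c458 rfl
theorem s11u459 : ∀ v, 1 ≤ v → v ≤ 153014 → fs11 v = true := slots_step fs11 152697 317 153014 s11u458 s11c459 rfl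
theorem s11u460 : ∀ v, 1 ≤ v → v ≤ 153321 → fs11 v = true := slots_step fs11 153014 307 153321 s11u459 s11c460 rfl
theorem s11u461 : ∀ v, 1 ≤ v → v ≤ 153649 → fs11 v = true := slots_step fs11 153321 328 153649 s11u460 s11c461 rfl
theorem s11u462 : ∀ v, 1 ≤ v → v ≤ 153944 → fs11 v = true := slots_step fs11 153649 295 153944 s11u461 s11c462 rfl
theorem s11u463 : ∀ v, 1 ≤ v → v ≤ 154267 → fs11 v = true := slots_step fs11 153944 323 154267 s11u462 s11c463 rfl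
theorem s11u464 : ∀ v, 1 ≤ v → v ≤ 154591 → fs11 v = true := slots_step fs11 154267 324 154591 s11u463 s11c464 rfl
theorem s11u465 : ∀ v, 1 ≤ v → v ≤ 154893 → fs11 v = true := slots_step fs11 154591 302 154893 s11u464 s11c465 rfl
theorem s11u466 : ∀ v, 1 ≤ v → v ≤ 155184 → fs11 v = true := slots_step fs11 154893 291 155184 s11u465 s11c466 rfl
theorem s11u467 : ∀ v, 1 ≤ v → v ≤ 155457 → fs11 v = true := slots_step fs11 155184 273 155457 s11u466 s11c467 rfl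
theorem s11u468 : ∀ v, 1 ≤ v → v ≤ 155729 → fs11 v = true := slots_step fs11 155457 272 155729 s11u467 s11c468 rfl
theorem s11u469 : ∀ v, 1 ≤ v → v ≤ 156046 → fs11 v = true := slots_step fs11 155729 317 156046 s11u468 s11c469 rfl
theorem s11u470 : ∀ v, 1 ≤ v → v ≤ 156353 → fs11 v = true := slots_step fs11 156046 307 156353 s11u469 s11c470 rfl
theorem s11u471 : ∀ v, 1 ≤ v → v ≤ 156625 → fs11 v = true := slots_step fs11 156353 272 156625 s11u470 s11c471 rfl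
theorem s11u472 : ∀ v, 1 ≤ v → v ≤ 156909 → fs11 v = true := slots_step fs11 156625 284 156909 s11u471 s11c472 rfl
theorem s11u473 : ∀ v, 1 ≤ v → v ≤ 157201 → fs11 v = true := slots_step fs11 156909 292 157201 s11u472 s11c473 rfl
theorem s11u474 : ∀ v, 1 ≤ v → v ≤ 157479 → fs11 v = true := slots_step fs11 157201 278 157479 s11u473 s11c474 rfl
theorem s11u475 : ∀ v, 1 ≤ v → v ≤ 157781 → fs11 v = true := slots_step fs11 157479 302 157781 s11u474 s11c475 rfl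
theorem s11u476 : ∀ v, 1 ≤ v → v ≤ 158063 → fs11 v = true := slots_step fs11 157781 282 158063 s11u475 s11c476 rfl
theorem s11u477 : ∀ v, 1 ≤ v → v ≤ 158356 → fs11 v = true := slots_step fs11 158063 293 158356 s11u476 s11c477 rfl
theorem s11u478 : ∀ v, 1 ≤ v → v ≤ 158653 → fs11 v = true := slots_step fs11 158356 297 158653 s11u477 s11c478 rfl
theorem s11u479 : ∀ v, 1 ≤ v → v ≤ 158940 → fs11 v = true := slots_step fs11 158653 287 158940 s11u478 s11c479 rfl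
theorem s11u480 : ∀ v, 1 ≤ v → v ≤ 159210 → fs11 v = true := slots_step fs11 158940 270 159210 s11u479 s11c480 rfl
theorem s11u481 : ∀ v, 1 ≤ v → v ≤ 159497 → fs11 v = true := slots_step fs11 159210 287 159497 s11u480 s11c481 rfl
theorem s11u482 : ∀ v, 1 ≤ v → v ≤ 159794 → fs11 v = true := slots_step fs11 159497 297 159794 s11u481 s11c482 rfl
theorem s11u483 : ∀ v, 1 ≤ v → v ≤ 160091 → fs11 v = true := slots_step fs11 159794 297 160091 s11u482 s11c483 rfl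
theorem s11u484 : ∀ v, 1 ≤ v → v ≤ 160376 → fs11 v = true := slots_step fs11 160091 285 160376 s11u483 s11c484 rfl
theorem s11u485 : ∀ v, 1 ≤ v → v ≤ 160645 → fs11 v = true := slots_step fs11 160376 269 160645 s11u484 s11c485 rfl
theorem s11u486 : ∀ v, 1 ≤ v → v ≤ 160922 → fs11 v = true := slots_step fs11 160645 277 160922 s11u485 s11c486 rfl
theorem s11u487 : ∀ v, 1 ≤ v → v ≤ 161227 → fs11 v = true := slots_step fs11 160922 305 161227 s11u486 s11c487 rfl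
theorem s11u488 : ∀ v, 1 ≤ v → v ≤ 161531 → fs11 v = true := slots_step fs11 161227 304 161531 s11u487 s11c488 rfl
theorem s11u489 : ∀ v, 1 ≤ v → v ≤ 161830 → fs11 v = true := slots_step fs11 161531 299 161830 s11u488 s11c489 rfl
theorem s11u490 : ∀ v, 1 ≤ v → v ≤ 162135 → fs11 v = true := slots_step fs11 161830 305 162135 s11u489 s11c490 rfl
theorem s11u491 : ∀ v, 1 ≤ v → v ≤ 162419 → fs11 v = true := slots_step fs11 162135 284 162419 s11u490 s11c491 rfl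
theorem s11u492 : ∀ v, 1 ≤ v → v ≤ 162731 → fs11 v = true := slots_step fs11 162419 312 162731 s11u491 s11c492 rfl
theorem s11u493 : ∀ v, 1 ≤ v → v ≤ 163029 → fs11 v = true := slots_step fs11 162731 298 163029 s11u492 s11c493 rfl
theorem s11u494 : ∀ v, 1 ≤ v → v ≤ 163335 → fs11 v = true := slots_step fs11 163029 306 163335 s11u493 s11c494 rfl
theorem s11u495 : ∀ v, 1 ≤ v → v ≤ 163634 → fs11 v = true := slots_step fs11 163335 299 163634 s11u494 s11c495 rfl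
theorem s11u496 : ∀ v, 1 ≤ v → v ≤ 163947 → fs11 v = true := slots_step fs11 163634 313 163947 s11u495 s11c496 rfl
theorem s11u497 : ∀ v, 1 ≤ v → v ≤ 164259 → fs11 v = true := slots_step fs11 163947 312 164259 s11u496 s11c497 rfl
theorem s11u498 : ∀ v, 1 ≤ v → v ≤ 164550 → fs11 v = true := slots_step fs11 164259 291 164550 s11u497 s11c498 rfl
theorem s11u499 : ∀ v, 1 ≤ v → v ≤ 164856 → fs11 v = true := slots_step fs11 164550 306 164856 s11u498 s11c499 rfl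
theorem s11u500 : ∀ v, 1 ≤ v → v ≤ 165148 → fs11 v = true := slots_step fs11 164856 292 165148 s11u499 s11c500 rfl
theorem s11u501 : ∀ v, 1 ≤ v → v ≤ 165421 → fs11 v = true := slots_step fs11 165148 273 165421 s11u500 s11c501 rfl
theorem s11u502 : ∀ v, 1 ≤ v → v ≤ 165697 → fs11 v = true := slots_step fs11 165421 276 165697 s11u501 s11c502 rfl
theorem s11u503 : ∀ v, 1 ≤ v → v ≤ 165995 → fs11 v = true := slots_step fs11 165697 298 165995 s11u502 s11c503 rfl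
theorem s11u504 : ∀ v, 1 ≤ v → v ≤ 166248 → fs11 v = true := slots_step fs11 165995 253 166248 s11u503 s11c504 rfl
theorem s11u505 : ∀ v, 1 ≤ v → v ≤ 166515 → fs11 v = true := slots_step fs11 166248 267 166515 s11u504 s11c505 rfl
theorem s11u506 : ∀ v, 1 ≤ v → v ≤ 166799 → fs11 v = true := slots_step fs11 166515 284 166799 s11u505 s11c506 rfl
theorem s11u507 : ∀ v, 1 ≤ v → v ≤ 167088 → fs11 v = true := slots_step fs11 166799 289 167088 s11u506 s11c507 rfl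
theorem s11u508 : ∀ v, 1 ≤ v → v ≤ 167390 → fs11 v = true := slots_step fs11 167088 302 167390 s11u507 s11c508 rfl
theorem s11u509 : ∀ v, 1 ≤ v → v ≤ 167694 → fs11 v = true := slots_step fs11 167390 304 167694 s11u508 s11c509 rfl
theorem s11u510 : ∀ v, 1 ≤ v → v ≤ 167979 → fs11 v = true := slots_step fs11 167694 285 167979 s11u509 s11c510 rfl
theorem s11u511 : ∀ v, 1 ≤ v → v ≤ 168259 → fs11 v = true := slots_step fs11 167979 280 168259 s11u510 s11c511 rfl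
theorem s11u512 : ∀ v, 1 ≤ v → v ≤ 168536 → fs11 v = true := slots_step fs11 168259 277 168536 s11u511 s11c512 rfl
theorem s11u513 : ∀ v, 1 ≤ v → v ≤ 168833 → fs11 v = true := slots_step fs11 168536 297 168833 s11u512 s11c513 rfl
theorem s11u514 : ∀ v, 1 ≤ v → v ≤ 169132 → fs11 v = true := slots_step fs11 168833 299 169132 s11u513 s11c514 rfl
theorem s11u515 : ∀ v, 1 ≤ v → v ≤ 169450 → fs11 v = true := slots_step fs11 169132 318 169450 s11u514 s11c515 rfl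
theorem s11u516 : ∀ v, 1 ≤ v → v ≤ 169742 → fs11 v = true := slots_step fs11 169450 292 169742 s11u515 s11c516 rfl
theorem s11u517 : ∀ v, 1 ≤ v → v ≤ 170053 → fs11 v = true := slots_step fs11 169742 311 170053 s11u516 s11c517 rfl
theorem s11u518 : ∀ v, 1 ≤ v → v ≤ 170349 → fs11 v = true := slots_step fs11 170053 296 170349 s11u517 s11c518 rfl
theorem s11u519 : ∀ v, 1 ≤ v → v ≤ 170630 → fs11 v = true := slots_step fs11 170349 281 170630 s11u518 s11c519 rfl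
theorem s11u520 : ∀ v, 1 ≤ v → v ≤ 170951 → fs11 v = true := slots_step fs11 170630 321 170951 s11u519 s11c520 rfl
theorem s11u521 : ∀ v, 1 ≤ v → v ≤ 171270 → fs11 v = true := slots_step fs11 170951 319 171270 s11u520 s11c521 rfl
theorem s11u522 : ∀ v, 1 ≤ v → v ≤ 171569 → fs11 v = true := slots_step fs11 171270 299 171569 s11u521 s11c522 rfl
theorem s11u523 : ∀ v, 1 ≤ v → v ≤ 171880 → fs11 v = true := slots_step fs11 171569 311 171880 s11u522 s11c523 rfl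
theorem s11u524 : ∀ v, 1 ≤ v → v ≤ 172185 → fs11 v = true := slots_step fs11 171880 305 172185 s11u523 s11c524 rfl
theorem s11u525 : ∀ v, 1 ≤ v → v ≤ 172480 → fs11 v = true := slots_step fs11 172185 295 172480 s11u524 s11c525 rfl
theorem s11u526 : ∀ v, 1 ≤ v → v ≤ 172804 → fs11 v = true := slots_step fs11 172480 324 172804 s11u525 s11c526 rfl
theorem s11u527 : ∀ v, 1 ≤ v → v ≤ 173109 → fs11 v = true := slots_step fs11 172804 305 173109 s11u526 s11c527 rfl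
theorem s11u528 : ∀ v, 1 ≤ v → v ≤ 173429 → fs11 v = true := slots_step fs11 173109 320 173429 s11u527 s11c528 rfl
theorem s11u529 : ∀ v, 1 ≤ v → v ≤ 173730 → fs11 v = true := slots_step fs11 173429 301 173730 s11u528 s11c529 rfl
theorem s11u530 : ∀ v, 1 ≤ v → v ≤ 174026 → fs11 v = true := slots_step fs11 173730 296 174026 s11u529 s11c530 rfl
theorem s11u531 : ∀ v, 1 ≤ v → v ≤ 174346 → fs11 v = true := slots_step fs11 174026 320 174346 s11u530 s11c531 rfl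
theorem s11u532 : ∀ v, 1 ≤ v → v ≤ 174662 → fs11 v = true := slots_step fs11 174346 316 174662 s11u531 s11c532 rfl
theorem s11u533 : ∀ v, 1 ≤ v → v ≤ 174961 → fs11 v = true := slots_step fs11 174662 299 174961 s11u532 s11c533 rfl
theorem s11u534 : ∀ v, 1 ≤ v → v ≤ 175248 → fs11 v = true := slots_step fs11 174961 287 175248 s11u533 s11c534 rfl
theorem s11u535 : ∀ v, 1 ≤ v → v ≤ 175524 → fs11 v = true := slots_step fs11 175248 276 175524 s11u534 s11c535 rfl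
theorem s11u536 : ∀ v, 1 ≤ v → v ≤ 175798 → fs11 v = true := slots_step fs11 175524 274 175798 s11u535 s11c536 rfl
theorem s11u537 : ∀ v, 1 ≤ v → v ≤ 176108 → fs11 v = true := slots_step fs11 175798 310 176108 s11u536 s11c537 rfl
theorem s11u538 : ∀ v, 1 ≤ v → v ≤ 176397 → fs11 v = true := slots_step fs11 176108 289 176397 s11u537 s11c538 rfl
theorem s11u539 : ∀ v, 1 ≤ v → v ≤ 176667 → fs11 v = true := slots_step fs11 176397 270 176667 s11u538 s11c539 rfl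
theorem s11u540 : ∀ v, 1 ≤ v → v ≤ 176936 → fs11 v = true := slots_step fs11 176667 269 176936 s11u539 s11c540 rfl
theorem s11u541 : ∀ v, 1 ≤ v → v ≤ 177212 → fs11 v = true := slots_step fs11 176936 276 177212 s11u540 s11c541 rfl
theorem s11u542 : ∀ v, 1 ≤ v → v ≤ 177502 → fs11 v = true := slots_step fs11 177212 290 177502 s11u541 s11c542 rfl
theorem s11u543 : ∀ v, 1 ≤ v → v ≤ 177787 → fs11 v = true := slots_step fs11 177502 285 177787 s11u542 s11c543 rfl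
theorem s11u544 : ∀ v, 1 ≤ v → v ≤ 178066 → fs11 v = true := slots_step fs11 177787 279 178066 s11u543 s11c544 rfl
theorem s11u545 : ∀ v, 1 ≤ v → v ≤ 178347 → fs11 v = true := slots_step fs11 178066 281 178347 s11u544 s11c545 rfl
theorem s11u546 : ∀ v, 1 ≤ v → v ≤ 178632 → fs11 v = true := slots_step fs11 178347 285 178632 s11u545 s11c546 rfl
theorem s11u547 : ∀ v, 1 ≤ v → v ≤ 178904 → fs11 v = true := slots_step fs11 178632 272 178904 s11u546 s11c547 rfl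
theorem s11u548 : ∀ v, 1 ≤ v → v ≤ 179192 → fs11 v = true := slots_step fs11 178904 288 179192 s11u547 s11c548 rfl
theorem s11u549 : ∀ v, 1 ≤ v → v ≤ 179481 → fs11 v = true := slots_step fs11 179192 289 179481 s11u548 s11c549 rfl
theorem s11u550 : ∀ v, 1 ≤ v → v ≤ 179788 → fs11 v = true := slots_step fs11 179481 307 179788 s11u549 s11c550 rfl
theorem s11u551 : ∀ v, 1 ≤ v → v ≤ 180071 → fs11 v = true := slots_step fs11 179788 283 180071 s11u550 s11c551 rfl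
theorem s11u552 : ∀ v, 1 ≤ v → v ≤ 180347 → fs11 v = true := slots_step fs11 180071 276 180347 s11u551 s11c552 rfl
theorem s11u553 : ∀ v, 1 ≤ v → v ≤ 180604 → fs11 v = true := slots_step fs11 180347 257 180604 s11u552 s11c553 rfl
theorem s11u554 : ∀ v, 1 ≤ v → v ≤ 180890 → fs11 v = true := slots_step fs11 180604 286 180890 s11u553 s11c554 rfl
theorem s11u555 : ∀ v, 1 ≤ v → v ≤ 181188 → fs11 v = true := slots_step fs11 180890 298 181188 s11u554 s11c555 rfl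
theorem s11u556 : ∀ v, 1 ≤ v → v ≤ 181488 → fs11 v = true := slots_step fs11 181188 300 181488 s11u555 s11c556 rfl
theorem s11u557 : ∀ v, 1 ≤ v → v ≤ 181789 → fs11 v = true := slots_step fs11 181488 301 181789 s11u556 s11c557 rfl
theorem s11u558 : ∀ v, 1 ≤ v → v ≤ 182077 → fs11 v = true := slots_step fs11 181789 288 182077 s11u557 s11c558 rfl
theorem s11u559 : ∀ v, 1 ≤ v → v ≤ 182370 → fs11 v = true := slots_step fs11 182077 293 182370 s11u558 s11c559 rfl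
theorem s11u560 : ∀ v, 1 ≤ v → v ≤ 182648 → fs11 v = true := slots_step fs11 182370 278 182648 s11u559 s11c560 rfl
theorem s11u561 : ∀ v, 1 ≤ v → v ≤ 182962 → fs11 v = true := slots_step fs11 182648 314 182962 s11u560 s11c561 rfl
theorem s11u562 : ∀ v, 1 ≤ v → v ≤ 183253 → fs11 v = true := slots_step fs11 182962 291 183253 s11u561 s11c562 rfl
theorem s11u563 : ∀ v, 1 ≤ v → v ≤ 183552 → fs11 v = true := slots_step fs11 183253 299 183552 s11u562 s11c563 rfl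
theorem s11u564 : ∀ v, 1 ≤ v → v ≤ 183835 → fs11 v = true := slots_step fs11 183552 283 183835 s11u563 s11c564 rfl
theorem s11u565 : ∀ v, 1 ≤ v → v ≤ 184138 → fs11 v = true := slots_step fs11 183835 303 184138 s11u564 s11c565 rfl
theorem s11u566 : ∀ v, 1 ≤ v → v ≤ 184455 → fs11 v = true := slots_step fs11 184138 317 184455 s11u565 s11c566 rfl
theorem s11u567 : ∀ v, 1 ≤ v → v ≤ 184747 → fs11 v = true := slots_step fs11 184455 292 184747 s11u566 s11c567 rfl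
theorem s11u568 : ∀ v, 1 ≤ v → v ≤ 185032 → fs11 v = true := slots_step fs11 184747 285 185032 s11u567 s11c568 rfl
theorem s11u569 : ∀ v, 1 ≤ v → v ≤ 185336 → fs11 v = true := slots_step fs11 185032 304 185336 s11u568 s11c569 rfl
theorem s11u570 : ∀ v, 1 ≤ v → v ≤ 185632 → fs11 v = true := slots_step fs11 185336 296 185632 s11u569 s11c570 rfl
theorem s11u571 : ∀ v, 1 ≤ v → v ≤ 185904 → fs11 v = true := slots_step fs11 185632 272 185904 s11u570 s11c571 rfl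
theorem s11u572 : ∀ v, 1 ≤ v → v ≤ 186178 → fs11 v = true := slots_step fs11 185904 274 186178 s11u571 s11c572 rfl
theorem s11u573 : ∀ v, 1 ≤ v → v ≤ 186469 → fs11 v = true := slots_step fs11 186178 291 186469 s11u572 s11c573 rfl
theorem s11u574 : ∀ v, 1 ≤ v → v ≤ 186715 → fs11 v = true := slots_step fs11 186469 246 186715 s11u573 s11c574 rfl
theorem s11u575 : ∀ v, 1 ≤ v → v ≤ 186979 → fs11 v = true := slots_step fs11 186715 264 186979 s11u574 s11c575 rfl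
theorem s11u576 : ∀ v, 1 ≤ v → v ≤ 187259 → fs11 v = true := slots_step fs11 186979 280 187259 s11u575 s11c576 rfl
theorem s11u577 : ∀ v, 1 ≤ v → v ≤ 187552 → fs11 v = true := slots_step fs11 187259 293 187552 s11u576 s11c577 rfl
theorem s11u578 : ∀ v, 1 ≤ v → v ≤ 187851 → fs11 v = true := slots_step fs11 187552 299 187851 s11u577 s11c578 rfl
theorem s11u579 : ∀ v, 1 ≤ v → v ≤ 188146 → fs11 v = true := slots_step fs11 187851 295 188146 s11u578 s11c579 rfl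
theorem s11u580 : ∀ v, 1 ≤ v → v ≤ 188428 → fs11 v = true := slots_step fs11 188146 282 188428 s11u579 s11c580 rfl
theorem s11u581 : ∀ v, 1 ≤ v → v ≤ 188710 → fs11 v = true := slots_step fs11 188428 282 188710 s11u580 s11c581 rfl
theorem s11u582 : ∀ v, 1 ≤ v → v ≤ 188989 → fs11 v = true := slots_step fs11 188710 279 188989 s11u581 s11c582 rfl
theorem s11u583 : ∀ v, 1 ≤ v → v ≤ 189282 → fs11 v = true := slots_step fs11 188989 293 189282 s11u582 s11c583 rfl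
theorem s11u584 : ∀ v, 1 ≤ v → v ≤ 189564 → fs11 v = true := slots_step fs11 189282 282 189564 s11u583 s11c584 rfl
theorem s11u585 : ∀ v, 1 ≤ v → v ≤ 189880 → fs11 v = true := slots_step fs11 189564 316 189880 s11u584 s11c585 rfl
theorem s11u586 : ∀ v, 1 ≤ v → v ≤ 190183 → fs11 v = true := slots_step fs11 189880 303 190183 s11u585 s11c586 rfl
theorem s11u587 : ∀ v, 1 ≤ v → v ≤ 190470 → fs11 v = true := slots_step fs11 190183 287 190470 s11u586 s11c587 rfl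
theorem s11u588 : ∀ v, 1 ≤ v → v ≤ 190772 → fs11 v = true := slots_step fs11 190470 302 190772 s11u587 s11c588 rfl
theorem s11u589 : ∀ v, 1 ≤ v → v ≤ 191070 → fs11 v = true := slots_step fs11 190772 298 191070 s11u588 s11c589 rfl
theorem s11u590 : ∀ v, 1 ≤ v → v ≤ 191359 → fs11 v = true := slots_step fs11 191070 289 191359 s11u589 s11c590 rfl
theorem s11u591 : ∀ v, 1 ≤ v → v ≤ 191658 → fs11 v = true := slots_step fs11 191359 299 191658 s11u590 s11c591 rfl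
theorem s11u592 : ∀ v, 1 ≤ v → v ≤ 191974 → fs11 v = true := slots_step fs11 191658 316 191974 s11u591 s11c592 rfl
theorem s11u593 : ∀ v, 1 ≤ v → v ≤ 192274 → fs11 v = true := slots_step fs11 191974 300 192274 s11u592 s11c593 rfl
theorem s11u594 : ∀ v, 1 ≤ v → v ≤ 192566 → fs11 v = true := slots_step fs11 192274 292 192566 s11u593 s11c594 rfl
theorem s11u595 : ∀ v, 1 ≤ v → v ≤ 192871 → fs11 v = true := slots_step fs11 192566 305 192871 s11u594 s11c595 rfl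
theorem s11u596 : ∀ v, 1 ≤ v → v ≤ 193176 → fs11 v = true := slots_step fs11 192871 305 193176 s11u595 s11c596 rfl
theorem s11u597 : ∀ v, 1 ≤ v → v ≤ 193456 → fs11 v = true := slots_step fs11 193176 280 193456 s11u596 s11c597 rfl
theorem s11u598 : ∀ v, 1 ≤ v → v ≤ 193774 → fs11 v = true := slots_step fs11 193456 318 193774 s11u597 s11c598 rfl
theorem s11u599 : ∀ v, 1 ≤ v → v ≤ 194089 → fs11 v = true := slots_step fs11 193774 315 194089 s11u598 s11c599 rfl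
theorem s11u600 : ∀ v, 1 ≤ v → v ≤ 194383 → fs11 v = true := slots_step fs11 194089 294 194383 s11u599 s11c600 rfl
theorem s11u601 : ∀ v, 1 ≤ v → v ≤ 194697 → fs11 v = true := slots_step fs11 194383 314 194697 s11u600 s11c601 rfl
theorem s11u602 : ∀ v, 1 ≤ v → v ≤ 194996 → fs11 v = true := slots_step fs11 194697 299 194996 s11u601 s11c602 rfl
theorem s11u603 : ∀ v, 1 ≤ v → v ≤ 195284 → fs11 v = true := slots_step fs11 194996 288 195284 s11u602 s11c603 rfl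
theorem s11u604 : ∀ v, 1 ≤ v → v ≤ 195577 → fs11 v = true := slots_step fs11 195284 293 195577 s11u603 s11c604 rfl
theorem s11u605 : ∀ v, 1 ≤ v → v ≤ 195890 → fs11 v = true := slots_step fs11 195577 313 195890 s11u604 s11c605 rfl
theorem s11u606 : ∀ v, 1 ≤ v → v ≤ 196198 → fs11 v = true := slots_step fs11 195890 308 196198 s11u605 s11c606 rfl
theorem s11u607 : ∀ v, 1 ≤ v → v ≤ 196494 → fs11 v = true := slots_step fs11 196198 296 196494 s11u606 s11c607 rfl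
theorem s11u608 : ∀ v, 1 ≤ v → v ≤ 196778 → fs11 v = true := slots_step fs11 196494 284 196778 s11u607 s11c608 rfl
theorem s11u609 : ∀ v, 1 ≤ v → v ≤ 197056 → fs11 v = true := slots_step fs11 196778 278 197056 s11u608 s11c609 rfl
theorem s11u610 : ∀ v, 1 ≤ v → v ≤ 197328 → fs11 v = true := slots_step fs11 197056 272 197328 s11u609 s11c610 rfl
theorem s11u611 : ∀ v, 1 ≤ v → v ≤ 197634 → fs11 v = true := slots_step fs11 197328 306 197634 s11u610 s11c611 rfl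
theorem s11u612 : ∀ v, 1 ≤ v → v ≤ 197907 → fs11 v = true := slots_step fs11 197634 273 197907 s11u611 s11c612 rfl
theorem s11u613 : ∀ v, 1 ≤ v → v ≤ 198165 → fs11 v = true := slots_step fs11 197907 258 198165 s11u612 s11c613 rfl
theorem s11u614 : ∀ v, 1 ≤ v → v ≤ 198435 → fs11 v = true := slots_step fs11 198165 270 198435 s11u613 s11c614 rfl
theorem s11u615 : ∀ v, 1 ≤ v → v ≤ 198707 → fs11 v = true := slots_step fs11 198435 272 198707 s11u614 s11c615 rfl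
theorem s11u616 : ∀ v, 1 ≤ v → v ≤ 198994 → fs11 v = true := slots_step fs11 198707 287 198994 s11u615 s11c616 rfl
theorem s11u617 : ∀ v, 1 ≤ v → v ≤ 199269 → fs11 v = true := slots_step fs11 198994 275 199269 s11u616 s11c617 rfl
theorem s11u618 : ∀ v, 1 ≤ v → v ≤ 199547 → fs11 v = true := slots_step fs11 199269 278 199547 s11u617 s11c618 rfl
theorem s11u619 : ∀ v, 1 ≤ v → v ≤ 199827 → fs11 v = true := slots_step fs11 199547 280 199827 s11u618 s11c619 rfl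
theorem s11u620 : ∀ v, 1 ≤ v → v ≤ 200105 → fs11 v = true := slots_step fs11 199827 278 200105 s11u619 s11c620 rfl
theorem s11u621 : ∀ v, 1 ≤ v → v ≤ 200389 → fs11 v = true := slots_step fs11 200105 284 200389 s11u620 s11c621 rfl
theorem s11u622 : ∀ v, 1 ≤ v → v ≤ 200679 → fs11 v = true := slots_step fs11 200389 290 200679 s11u621 s11c622 rfl
theorem s11u623 : ∀ v, 1 ≤ v → v ≤ 200970 → fs11 v = true := slots_step fs11 200679 291 200970 s11u622 s11c623 rfl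
theorem s11u624 : ∀ v, 1 ≤ v → v ≤ 201271 → fs11 v = true := slots_step fs11 200970 301 201271 s11u623 s11c624 rfl
theorem s11u625 : ∀ v, 1 ≤ v → v ≤ 201542 → fs11 v = true := slots_step fs11 201271 271 201542 s11u624 s11c625 rfl
theorem s11u626 : ∀ v, 1 ≤ v → v ≤ 201810 → fs11 v = true := slots_step fs11 201542 268 201810 s11u625 s11c626 rfl
theorem s11u627 : ∀ v, 1 ≤ v → v ≤ 202068 → fs11 v = true := slots_step fs11 201810 258 202068 s11u626 s11c627 rfl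
theorem s11u628 : ∀ v, 1 ≤ v → v ≤ 202352 → fs11 v = true := slots_step fs11 202068 284 202352 s11u627 s11c628 rfl
theorem s11u629 : ∀ v, 1 ≤ v → v ≤ 202639 → fs11 v = true := slots_step fs11 202352 287 202639 s11u628 s11c629 rfl
theorem s11u630 : ∀ v, 1 ≤ v → v ≤ 202936 → fs11 v = true := slots_step fs11 202639 297 202936 s11u629 s11c630 rfl
theorem s11u631 : ∀ v, 1 ≤ v → v ≤ 203237 → fs11 v = true := slots_step fs11 202936 301 203237 s11u630 s11c631 rfl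
theorem s11u632 : ∀ v, 1 ≤ v → v ≤ 203521 → fs11 v = true := slots_step fs11 203237 284 203521 s11u631 s11c632 rfl
theorem s11u633 : ∀ v, 1 ≤ v → v ≤ 203797 → fs11 v = true := slots_step fs11 203521 276 203797 s11u632 s11c633 rfl
theorem s11u634 : ∀ v, 1 ≤ v → v ≤ 204086 → fs11 v = true := slots_step fs11 203797 289 204086 s11u633 s11c634 rfl
theorem s11u635 : ∀ v, 1 ≤ v → v ≤ 204365 → fs11 v = true := slots_step fs11 204086 279 204365 s11u634 s11c635 rfl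
theorem s11u636 : ∀ v, 1 ≤ v → v ≤ 204677 → fs11 v = true := slots_step fs11 204365 312 204677 s11u635 s11c636 rfl
theorem s11u637 : ∀ v, 1 ≤ v → v ≤ 204961 → fs11 v = true := slots_step fs11 204677 284 204961 s11u636 s11c637 rfl
theorem s11u638 : ∀ v, 1 ≤ v → v ≤ 205248 → fs11 v = true := slots_step fs11 204961 287 205248 s11u637 s11c638 rfl
theorem s11u639 : ∀ v, 1 ≤ v → v ≤ 205527 → fs11 v = true := slots_step fs11 205248 279 205527 s11u638 s11c639 rfl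
theorem s11u640 : ∀ v, 1 ≤ v → v ≤ 205820 → fs11 v = true := slots_step fs11 205527 293 205820 s11u639 s11c640 rfl
theorem s11u641 : ∀ v, 1 ≤ v → v ≤ 206120 → fs11 v = true := slots_step fs11 205820 300 206120 s11u640 s11c641 rfl
theorem s11u642 : ∀ v, 1 ≤ v → v ≤ 206427 → fs11 v = true := slots_step fs11 206120 307 206427 s11u641 s11c642 rfl
theorem s11u643 : ∀ v, 1 ≤ v → v ≤ 206700 → fs11 v = true := slots_step fs11 206427 273 206700 s11u642 s11c643 rfl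
theorem s11u644 : ∀ v, 1 ≤ v → v ≤ 206989 → fs11 v = true := slots_step fs11 206700 289 206989 s11u643 s11c644 rfl
theorem s11u645 : ∀ v, 1 ≤ v → v ≤ 207295 → fs11 v = true := slots_step fs11 206989 306 207295 s11u644 s11c645 rfl
theorem s11u646 : ∀ v, 1 ≤ v → v ≤ 207584 → fs11 v = true := slots_step fs11 207295 289 207584 s11u645 s11c646 rfl
theorem s11u647 : ∀ v, 1 ≤ v → v ≤ 207861 → fs11 v = true := slots_step fs11 207584 277 207861 s11u646 s11c647 rfl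
theorem s11u648 : ∀ v, 1 ≤ v → v ≤ 208137 → fs11 v = true := slots_step fs11 207861 276 208137 s11u647 s11c648 rfl
theorem s11u649 : ∀ v, 1 ≤ v → v ≤ 208419 → fs11 v = true := slots_step fs11 208137 282 208419 s11u648 s11c649 rfl
theorem s11u650 : ∀ v, 1 ≤ v → v ≤ 208662 → fs11 v = true := slots_step fs11 208419 243 208662 s11u649 s11c650 rfl
theorem s11u651 : ∀ v, 1 ≤ v → v ≤ 208924 → fs11 v = true := slots_step fs11 208662 262 208924 s11u650 s11c651 rfl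
theorem s11u652 : ∀ v, 1 ≤ v → v ≤ 209204 → fs11 v = true := slots_step fs11 208924 280 209204 s11u651 s11c652 rfl
theorem s11u653 : ∀ v, 1 ≤ v → v ≤ 209495 → fs11 v = true := slots_step fs11 209204 291 209495 s11u652 s11c653 rfl
theorem s11u654 : ∀ v, 1 ≤ v → v ≤ 209783 → fs11 v = true := slots_step fs11 209495 288 209783 s11u653 s11c654 rfl
theorem s11u655 : ∀ v, 1 ≤ v → v ≤ 210074 → fs11 v = true := slots_step fs11 209783 291 210074 s11u654 s11c655 rfl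
theorem s11u656 : ∀ v, 1 ≤ v → v ≤ 210344 → fs11 v = true := slots_step fs11 210074 270 210344 s11u655 s11c656 rfl
theorem s11u657 : ∀ v, 1 ≤ v → v ≤ 210633 → fs11 v = true := slots_step fs11 210344 289 210633 s11u656 s11c657 rfl
theorem s11u658 : ∀ v, 1 ≤ v → v ≤ 210903 → fs11 v = true := slots_step fs11 210633 270 210903 s11u657 s11c658 rfl
theorem s11u659 : ∀ v, 1 ≤ v → v ≤ 211180 → fs11 v = true := slots_step fs11 210903 277 211180 s11u658 s11c659 rfl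
theorem s11u660 : ∀ v, 1 ≤ v → v ≤ 211461 → fs11 v = true := slots_step fs11 211180 281 211461 s11u659 s11c660 rfl
theorem s11u661 : ∀ v, 1 ≤ v → v ≤ 211749 → fs11 v = true := slots_step fs11 211461 288 211749 s11u660 s11c661 rfl
theorem s11u662 : ∀ v, 1 ≤ v → v ≤ 212052 → fs11 v = true := slots_step fs11 211749 303 212052 s11u661 s11c662 rfl
theorem s11u663 : ∀ v, 1 ≤ v → v ≤ 212350 → fs11 v = true := slots_step fs11 212052 298 212350 s11u662 s11c663 rfl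
theorem s11u664 : ∀ v, 1 ≤ v → v ≤ 212626 → fs11 v = true := slots_step fs11 212350 276 212626 s11u663 s11c664 rfl
theorem s11u665 : ∀ v, 1 ≤ v → v ≤ 212917 → fs11 v = true := slots_step fs11 212626 291 212917 s11u664 s11c665 rfl
theorem s11u666 : ∀ v, 1 ≤ v → v ≤ 213215 → fs11 v = true := slots_step fs11 212917 298 213215 s11u665 s11c666 rfl
theorem s11u667 : ∀ v, 1 ≤ v → v ≤ 213497 → fs11 v = true := slots_step fs11 213215 282 213497 s11u666 s11c667 rfl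
theorem s11u668 : ∀ v, 1 ≤ v → v ≤ 213786 → fs11 v = true := slots_step fs11 213497 289 213786 s11u667 s11c668 rfl
theorem s11u669 : ∀ v, 1 ≤ v → v ≤ 214079 → fs11 v = true := slots_step fs11 213786 293 214079 s11u668 s11c669 rfl
theorem s11u670 : ∀ v, 1 ≤ v → v ≤ 214390 → fs11 v = true := slots_step fs11 214079 311 214390 s11u669 s11c670 rfl
theorem s11u671 : ∀ v, 1 ≤ v → v ≤ 214682 → fs11 v = true := slots_step fs11 214390 292 214682 s11u670 s11c671 rfl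
theorem s11u672 : ∀ v, 1 ≤ v → v ≤ 214970 → fs11 v = true := slots_step fs11 214682 288 214970 s11u671 s11c672 rfl
theorem s11u673 : ∀ v, 1 ≤ v → v ≤ 215252 → fs11 v = true := slots_step fs11 214970 282 215252 s11u672 s11c673 rfl
theorem s11u674 : ∀ v, 1 ≤ v → v ≤ 215551 → fs11 v = true := slots_step fs11 215252 299 215551 s11u673 s11c674 rfl
theorem s11u675 : ∀ v, 1 ≤ v → v ≤ 215843 → fs11 v = true := slots_step fs11 215551 292 215843 s11u674 s11c675 rfl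
theorem s11u676 : ∀ v, 1 ≤ v → v ≤ 216127 → fs11 v = true := slots_step fs11 215843 284 216127 s11u675 s11c676 rfl
theorem s11u677 : ∀ v, 1 ≤ v → v ≤ 216444 → fs11 v = true := slots_step fs11 216127 317 216444 s11u676 s11c677 rfl
theorem s11u678 : ∀ v, 1 ≤ v → v ≤ 216741 → fs11 v = true := slots_step fs11 216444 297 216741 s11u677 s11c678 rfl
theorem s11u679 : ∀ v, 1 ≤ v → v ≤ 217033 → fs11 v = true := slots_step fs11 216741 292 217033 s11u678 s11c679 rfl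
theorem s11u680 : ∀ v, 1 ≤ v → v ≤ 217335 → fs11 v = true := slots_step fs11 217033 302 217335 s11u679 s11c680 rfl
theorem s11u681 : ∀ v, 1 ≤ v → v ≤ 217630 → fs11 v = true := slots_step fs11 217335 295 217630 s11u680 s11c681 rfl
theorem s11u682 : ∀ v, 1 ≤ v → v ≤ 217929 → fs11 v = true := slots_step fs11 217630 299 217929 s11u681 s11c682 rfl
theorem s11u683 : ∀ v, 1 ≤ v → v ≤ 218205 → fs11 v = true := slots_step fs11 217929 276 218205 s11u682 s11c683 rfl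
theorem s11u684 : ∀ v, 1 ≤ v → v ≤ 218495 → fs11 v = true := slots_step fs11 218205 290 218495 s11u683 s11c684 rfl
theorem s11u685 : ∀ v, 1 ≤ v → v ≤ 218796 → fs11 v = true := slots_step fs11 218495 301 218796 s11u684 s11c685 rfl
theorem s11u686 : ∀ v, 1 ≤ v → v ≤ 219094 → fs11 v = true := slots_step fs11 218796 298 219094 s11u685 s11c686 rfl
theorem s11u687 : ∀ v, 1 ≤ v → v ≤ 219391 → fs11 v = true := slots_step fs11 219094 297 219391 s11u686 s11c687 rfl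
theorem s11u688 : ∀ v, 1 ≤ v → v ≤ 219673 → fs11 v = true := slots_step fs11 219391 282 219673 s11u687 s11c688 rfl
theorem s11u689 : ∀ v, 1 ≤ v → v ≤ 219954 → fs11 v = true := slots_step fs11 219673 281 219954 s11u688 s11c689 rfl
theorem s11u690 : ∀ v, 1 ≤ v → v ≤ 220221 → fs11 v = true := slots_step fs11 219954 267 220221 s11u689 s11c690 rfl
theorem s11u691 : ∀ v, 1 ≤ v → v ≤ 220524 → fs11 v = true := slots_step fs11 220221 303 220524 s11u690 s11c691 rfl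
theorem s11u692 : ∀ v, 1 ≤ v → v ≤ 220795 → fs11 v = true := slots_step fs11 220524 271 220795 s11u691 s11c692 rfl
theorem s11u693 : ∀ v, 1 ≤ v → v ≤ 221056 → fs11 v = true := slots_step fs11 220795 261 221056 s11u692 s11c693 rfl
theorem s11u694 : ∀ v, 1 ≤ v → v ≤ 221336 → fs11 v = true := slots_step fs11 221056 280 221336 s11u693 s11c694 rfl
theorem s11u695 : ∀ v, 1 ≤ v → v ≤ 221600 → fs11 v = true := slots_step fs11 221336 264 221600 s11u694 s11c695 rfl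
theorem s11u696 : ∀ v, 1 ≤ v → v ≤ 221873 → fs11 v = true := slots_step fs11 221600 273 221873 s11u695 s11c696 rfl
theorem s11u697 : ∀ v, 1 ≤ v → v ≤ 222142 → fs11 v = true := slots_step fs11 221873 269 222142 s11u696 s11c697 rfl
theorem s11u698 : ∀ v, 1 ≤ v → v ≤ 222413 → fs11 v = true := slots_step fs11 222142 271 222413 s11u697 s11c698 rfl
theorem s11u699 : ∀ v, 1 ≤ v → v ≤ 222689 → fs11 v = true := slots_step fs11 222413 276 222689 s11u698 s11c699 rfl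
theorem s11u700 : ∀ v, 1 ≤ v → v ≤ 222961 → fs11 v = true := slots_step fs11 222689 272 222961 s11u699 s11c700 rfl
theorem s11u701 : ∀ v, 1 ≤ v → v ≤ 223236 → fs11 v = true := slots_step fs11 222961 275 223236 s11u700 s11c701 rfl
theorem s11u702 : ∀ v, 1 ≤ v → v ≤ 223510 → fs11 v = true := slots_step fs11 223236 274 223510 s11u701 s11c702 rfl
theorem s11u703 : ∀ v, 1 ≤ v → v ≤ 223797 → fs11 v = true := slots_step fs11 223510 287 223797 s11u702 s11c703 rfl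
theorem s11u704 : ∀ v, 1 ≤ v → v ≤ 224088 → fs11 v = true := slots_step fs11 223797 291 224088 s11u703 s11c704 rfl
theorem s11u705 : ∀ v, 1 ≤ v → v ≤ 224356 → fs11 v = true := slots_step fs11 224088 268 224356 s11u704 s11c705 rfl
theorem s11u706 : ∀ v, 1 ≤ v → v ≤ 224625 → fs11 v = true := slots_step fs11 224356 269 224625 s11u705 s11c706 rfl
theorem s11u707 : ∀ v, 1 ≤ v → v ≤ 224886 → fs11 v = true := slots_step fs11 224625 261 224886 s11u706 s11c707 rfl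
theorem s11u708 : ∀ v, 1 ≤ v → v ≤ 225152 → fs11 v = true := slots_step fs11 224886 266 225152 s11u707 s11c708 rfl
theorem s11u709 : ∀ v, 1 ≤ v → v ≤ 225420 → fs11 v = true := slots_step fs11 225152 268 225420 s11u708 s11c709 rfl
theorem s11u710 : ∀ v, 1 ≤ v → v ≤ 225691 → fs11 v = true := slots_step fs11 225420 271 225691 s11u709 s11c710 rfl
theorem s11u711 : ∀ v, 1 ≤ v → v ≤ 225993 → fs11 v = true := slots_step fs11 225691 302 225993 s11u710 s11c711 rfl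
theorem s11u712 : ∀ v, 1 ≤ v → v ≤ 226287 → fs11 v = true := slots_step fs11 225993 294 226287 s11u711 s11c712 rfl
theorem s11u713 : ∀ v, 1 ≤ v → v ≤ 226560 → fs11 v = true := slots_step fs11 226287 273 226560 s11u712 s11c713 rfl
theorem s11u714 : ∀ v, 1 ≤ v → v ≤ 226830 → fs11 v = true := slots_step fs11 226560 270 226830 s11u713 s11c714 rfl
theorem s11u715 : ∀ v, 1 ≤ v → v ≤ 227112 → fs11 v = true := slots_step fs11 226830 282 227112 s11u714 s11c715 rfl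
theorem s11u716 : ∀ v, 1 ≤ v → v ≤ 227391 → fs11 v = true := slots_step fs11 227112 279 227391 s11u715 s11c716 rfl
theorem s11u717 : ∀ v, 1 ≤ v → v ≤ 227669 → fs11 v = true := slots_step fs11 227391 278 227669 s11u716 s11c717 rfl
theorem s11u718 : ∀ v, 1 ≤ v → v ≤ 227967 → fs11 v = true := slots_step fs11 227669 298 227967 s11u717 s11c718 rfl
theorem s11u719 : ∀ v, 1 ≤ v → v ≤ 228241 → fs11 v = true := slots_step fs11 227967 274 228241 s11u718 s11c719 rfl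
theorem s11u720 : ∀ v, 1 ≤ v → v ≤ 228523 → fs11 v = true := slots_step fs11 228241 282 228523 s11u719 s11c720 rfl
theorem s11u721 : ∀ v, 1 ≤ v → v ≤ 228802 → fs11 v = true := slots_step fs11 228523 279 228802 s11u720 s11c721 rfl
theorem s11u722 : ∀ v, 1 ≤ v → v ≤ 229088 → fs11 v = true := slots_step fs11 228802 286 229088 s11u721 s11c722 rfl
theorem s11u723 : ∀ v, 1 ≤ v → v ≤ 229375 → fs11 v = true := slots_step fs11 229088 287 229375 s11u722 s11c723 rfl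
theorem s11u724 : ∀ v, 1 ≤ v → v ≤ 229672 → fs11 v = true := slots_step fs11 229375 297 229672 s11u723 s11c724 rfl
theorem s11u725 : ∀ v, 1 ≤ v → v ≤ 229953 → fs11 v = true := slots_step fs11 229672 281 229953 s11u724 s11c725 rfl
theorem s11u726 : ∀ v, 1 ≤ v → v ≤ 230211 → fs11 v = true := slots_step fs11 229953 258 230211 s11u725 s11c726 rfl
theorem s11u727 : ∀ v, 1 ≤ v → v ≤ 230498 → fs11 v = true := slots_step fs11 230211 287 230498 s11u726 s11c727 rfl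
theorem s11u728 : ∀ v, 1 ≤ v → v ≤ 230798 → fs11 v = true := slots_step fs11 230498 300 230798 s11u727 s11c728 rfl
theorem s11u729 : ∀ v, 1 ≤ v → v ≤ 231082 → fs11 v = true := slots_step fs11 230798 284 231082 s11u728 s11c729 rfl
theorem s11u730 : ∀ v, 1 ≤ v → v ≤ 231359 → fs11 v = true := slots_step fs11 231082 277 231359 s11u729 s11c730 rfl
theorem s11u731 : ∀ v, 1 ≤ v → v ≤ 231623 → fs11 v = true := slots_step fs11 231359 264 231623 s11u730 s11c731 rfl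
theorem s11u732 : ∀ v, 1 ≤ v → v ≤ 231899 → fs11 v = true := slots_step fs11 231623 276 231899 s11u731 s11c732 rfl
theorem s11u733 : ∀ v, 1 ≤ v → v ≤ 232147 → fs11 v = true := slots_step fs11 231899 248 232147 s11u732 s11c733 rfl
theorem s11u734 : ∀ v, 1 ≤ v → v ≤ 232412 → fs11 v = true := slots_step fs11 232147 265 232412 s11u733 s11c734 rfl
theorem s11u735 : ∀ v, 1 ≤ v → v ≤ 232692 → fs11 v = true := slots_step fs11 232412 280 232692 s11u734 s11c735 rfl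
theorem s11u736 : ∀ v, 1 ≤ v → v ≤ 232971 → fs11 v = true := slots_step fs11 232692 279 232971 s11u735 s11c736 rfl
theorem s11u737 : ∀ v, 1 ≤ v → v ≤ 233246 → fs11 v = true := slots_step fs11 232971 275 233246 s11u736 s11c737 rfl
theorem s11u738 : ∀ v, 1 ≤ v → v ≤ 233531 → fs11 v = true := slots_step fs11 233246 285 233531 s11u737 s11c738 rfl
theorem s11u739 : ∀ v, 1 ≤ v → v ≤ 233797 → fs11 v = true := slots_step fs11 233531 266 233797 s11u738 s11c739 rfl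
theorem s11u740 : ∀ v, 1 ≤ v → v ≤ 234077 → fs11 v = true := slots_step fs11 233797 280 234077 s11u739 s11c740 rfl
theorem s11u741 : ∀ v, 1 ≤ v → v ≤ 234345 → fs11 v = true := slots_step fs11 234077 268 234345 s11u740 s11c741 rfl
theorem s11u742 : ∀ v, 1 ≤ v → v ≤ 234614 → fs11 v = true := slots_step fs11 234345 269 234614 s11u741 s11c742 rfl
theorem s11u743 : ∀ v, 1 ≤ v → v ≤ 234889 → fs11 v = true := slots_step fs11 234614 275 234889 s11u742 s11c743 rfl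
theorem s11u744 : ∀ v, 1 ≤ v → v ≤ 235155 → fs11 v = true := slots_step fs11 234889 266 235155 s11u743 s11c744 rfl
theorem s11u745 : ∀ v, 1 ≤ v → v ≤ 235451 → fs11 v = true := slots_step fs11 235155 296 235451 s11u744 s11c745 rfl
theorem s11u746 : ∀ v, 1 ≤ v → v ≤ 235733 → fs11 v = true := slots_step fs11 235451 282 235733 s11u745 s11c746 rfl
theorem s11u747 : ∀ v, 1 ≤ v → v ≤ 236023 → fs11 v = true := slots_step fs11 235733 290 236023 s11u746 s11c747 rfl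
theorem s11u748 : ∀ v, 1 ≤ v → v ≤ 236298 → fs11 v = true := slots_step fs11 236023 275 236298 s11u747 s11c748 rfl
theorem s11u749 : ∀ v, 1 ≤ v → v ≤ 236575 → fs11 v = true := slots_step fs11 236298 277 236575 s11u748 s11c749 rfl
theorem s11u750 : ∀ v, 1 ≤ v → v ≤ 236858 → fs11 v = true := slots_step fs11 236575 283 236858 s11u749 s11c750 rfl
theorem s11u751 : ∀ v, 1 ≤ v → v ≤ 237143 → fs11 v = true := slots_step fs11 236858 285 237143 s11u750 s11c751 rfl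
theorem s11u752 : ∀ v, 1 ≤ v → v ≤ 237428 → fs11 v = true := slots_step fs11 237143 285 237428 s11u751 s11c752 rfl
theorem s11u753 : ∀ v, 1 ≤ v → v ≤ 237717 → fs11 v = true := slots_step fs11 237428 289 237717 s11u752 s11c753 rfl
theorem s11u754 : ∀ v, 1 ≤ v → v ≤ 238001 → fs11 v = true := slots_step fs11 237717 284 238001 s11u753 s11c754 rfl
theorem s11u755 : ∀ v, 1 ≤ v → v ≤ 238299 → fs11 v = true := slots_step fs11 238001 298 238299 s11u754 s11c755 rfl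
theorem s11u756 : ∀ v, 1 ≤ v → v ≤ 238585 → fs11 v = true := slots_step fs11 238299 286 238585 s11u755 s11c756 rfl
theorem s11u757 : ∀ v, 1 ≤ v → v ≤ 238862 → fs11 v = true := slots_step fs11 238585 277 238862 s11u756 s11c757 rfl
theorem s11u758 : ∀ v, 1 ≤ v → v ≤ 239142 → fs11 v = true := slots_step fs11 238862 280 239142 s11u757 s11c758 rfl
theorem s11u759 : ∀ v, 1 ≤ v → v ≤ 239433 → fs11 v = true := slots_step fs11 239142 291 239433 s11u758 s11c759 rfl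
theorem s11u760 : ∀ v, 1 ≤ v → v ≤ 239716 → fs11 v = true := slots_step fs11 239433 283 239716 s11u759 s11c760 rfl
theorem s11u761 : ∀ v, 1 ≤ v → v ≤ 240005 → fs11 v = true := slots_step fs11 239716 289 240005 s11u760 s11c761 rfl
theorem s11u762 : ∀ v, 1 ≤ v → v ≤ 240293 → fs11 v = true := slots_step fs11 240005 288 240293 s11u761 s11c762 rfl
theorem s11u763 : ∀ v, 1 ≤ v → v ≤ 240599 → fs11 v = true := slots_step fs11 240293 306 240599 s11u762 s11c763 rfl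
theorem s11u764 : ∀ v, 1 ≤ v → v ≤ 240895 → fs11 v = true := slots_step fs11 240599 296 240895 s11u763 s11c764 rfl
theorem s11u765 : ∀ v, 1 ≤ v → v ≤ 241175 → fs11 v = true := slots_step fs11 240895 280 241175 s11u764 s11c765 rfl
theorem s11u766 : ∀ v, 1 ≤ v → v ≤ 241465 → fs11 v = true := slots_step fs11 241175 290 241465 s11u765 s11c766 rfl
theorem s11u767 : ∀ v, 1 ≤ v → v ≤ 241758 → fs11 v = true := slots_step fs11 241465 293 241758 s11u766 s11c767 rfl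
theorem s11u768 : ∀ v, 1 ≤ v → v ≤ 242043 → fs11 v = true := slots_step fs11 241758 285 242043 s11u767 s11c768 rfl
theorem s11u769 : ∀ v, 1 ≤ v → v ≤ 242333 → fs11 v = true := slots_step fs11 242043 290 242333 s11u768 s11c769 rfl
theorem s11u770 : ∀ v, 1 ≤ v → v ≤ 242601 → fs11 v = true := slots_step fs11 242333 268 242601 s11u769 s11c770 rfl
theorem s11u771 : ∀ v, 1 ≤ v → v ≤ 242891 → fs11 v = true := slots_step fs11 242601 290 242891 s11u770 s11c771 rfl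
theorem s11u772 : ∀ v, 1 ≤ v → v ≤ 243191 → fs11 v = true := slots_step fs11 242891 300 243191 s11u771 s11c772 rfl
theorem s11u773 : ∀ v, 1 ≤ v → v ≤ 243480 → fs11 v = true := slots_step fs11 243191 289 243480 s11u772 s11c773 rfl
theorem s11u774 : ∀ v, 1 ≤ v → v ≤ 243773 → fs11 v = true := slots_step fs11 243480 293 243773 s11u773 s11c774 rfl
theorem s11u775 : ∀ v, 1 ≤ v → v ≤ 244050 → fs11 v = true := slots_step fs11 243773 277 244050 s11u774 s11c775 rfl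
theorem s11u776 : ∀ v, 1 ≤ v → v ≤ 244320 → fs11 v = true := slots_step fs11 244050 270 244320 s11u775 s11c776 rfl
theorem s11u777 : ∀ v, 1 ≤ v → v ≤ 244595 → fs11 v = true := slots_step fs11 244320 275 244595 s11u776 s11c777 rfl
theorem s11u778 : ∀ v, 1 ≤ v → v ≤ 244886 → fs11 v = true := slots_step fs11 244595 291 244886 s11u777 s11c778 rfl
theorem s11u779 : ∀ v, 1 ≤ v → v ≤ 245156 → fs11 v = true := slots_step fs11 244886 270 245156 s11u778 s11c779 rfl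
theorem s11u780 : ∀ v, 1 ≤ v → v ≤ 245426 → fs11 v = true := slots_step fs11 245156 270 245426 s11u779 s11c780 rfl
theorem s11u781 : ∀ v, 1 ≤ v → v ≤ 245709 → fs11 v = true := slots_step fs11 245426 283 245709 s11u780 s11c781 rfl
theorem s11u782 : ∀ v, 1 ≤ v → v ≤ 245962 → fs11 v = true := slots_step fs11 245709 253 245962 s11u781 s11c782 rfl
theorem s11u783 : ∀ v, 1 ≤ v → v ≤ 246223 → fs11 v = true := slots_step fs11 245962 261 246223 s11u782 s11c783 rfl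
theorem s11u784 : ∀ v, 1 ≤ v → v ≤ 246488 → fs11 v = true := slots_step fs11 246223 265 246488 s11u783 s11c784 rfl
theorem s11u785 : ∀ v, 1 ≤ v → v ≤ 246752 → fs11 v = true := slots_step fs11 246488 264 246752 s11u784 s11c785 rfl
theorem s11u786 : ∀ v, 1 ≤ v → v ≤ 247016 → fs11 v = true := slots_step fs11 246752 264 247016 s11u785 s11c786 rfl
theorem s11u787 : ∀ v, 1 ≤ v → v ≤ 247289 → fs11 v = true := slots_step fs11 247016 273 247289 s11u786 s11c787 rfl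
theorem s11u788 : ∀ v, 1 ≤ v → v ≤ 247561 → fs11 v = true := slots_step fs11 247289 272 247561 s11u787 s11c788 rfl
theorem s11u789 : ∀ v, 1 ≤ v → v ≤ 247829 → fs11 v = true := slots_step fs11 247561 268 247829 s11u788 s11c789 rfl
theorem s11u790 : ∀ v, 1 ≤ v → v ≤ 248108 → fs11 v = true := slots_step fs11 247829 279 248108 s11u789 s11c790 rfl
theorem s11u791 : ∀ v, 1 ≤ v → v ≤ 248379 → fs11 v = true := slots_step fs11 248108 271 248379 s11u790 s11c791 rfl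
theorem s11u792 : ∀ v, 1 ≤ v → v ≤ 248646 → fs11 v = true := slots_step fs11 248379 267 248646 s11u791 s11c792 rfl
theorem s11u793 : ∀ v, 1 ≤ v → v ≤ 248908 → fs11 v = true := slots_step fs11 248646 262 248908 s11u792 s11c793 rfl
theorem s11u794 : ∀ v, 1 ≤ v → v ≤ 249177 → fs11 v = true := slots_step fs11 248908 269 249177 s11u793 s11c794 rfl
theorem s11u795 : ∀ v, 1 ≤ v → v ≤ 249435 → fs11 v = true := slots_step fs11 249177 258 249435 s11u794 s11c795 rfl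
theorem s11u796 : ∀ v, 1 ≤ v → v ≤ 249689 → fs11 v = true := slots_step fs11 249435 254 249689 s11u795 s11c796 rfl
theorem s11u797 : ∀ v, 1 ≤ v → v ≤ 249959 → fs11 v = true := slots_step fs11 249689 270 249959 s11u796 s11c797 rfl
theorem s11u798 : ∀ v, 1 ≤ v → v ≤ 250231 → fs11 v = true := slots_step fs11 249959 272 250231 s11u797 s11c798 rfl
theorem s11u799 : ∀ v, 1 ≤ v → v ≤ 250511 → fs11 v = true := slots_step fs11 250231 280 250511 s11u798 s11c799 rfl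
theorem s11u800 : ∀ v, 1 ≤ v → v ≤ 250799 → fs11 v = true := slots_step fs11 250511 288 250799 s11u799 s11c800 rfl
theorem s11u801 : ∀ v, 1 ≤ v → v ≤ 251071 → fs11 v = true := slots_step fs11 250799 272 251071 s11u800 s11c801 rfl
theorem s11u802 : ∀ v, 1 ≤ v → v ≤ 251330 → fs11 v = true := slots_step fs11 251071 259 251330 s11u801 s11c802 rfl
theorem s11u803 : ∀ v, 1 ≤ v → v ≤ 251597 → fs11 v = true := slots_step fs11 251330 267 251597 s11u802 s11c803 rfl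
theorem s11u804 : ∀ v, 1 ≤ v → v ≤ 251871 → fs11 v = true := slots_step fs11 251597 274 251871 s11u803 s11c804 rfl
theorem s11u805 : ∀ v, 1 ≤ v → v ≤ 252149 → fs11 v = true := slots_step fs11 251871 278 252149 s11u804 s11c805 rfl
theorem s11u806 : ∀ v, 1 ≤ v → v ≤ 252418 → fs11 v = true := slots_step fs11 252149 269 252418 s11u805 s11c806 rfl
theorem s11u807 : ∀ v, 1 ≤ v → v ≤ 252705 → fs11 v = true := slots_step fs11 252418 287 252705 s11u806 s11c807 rfl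
theorem s11u808 : ∀ v, 1 ≤ v → v ≤ 252967 → fs11 v = true := slots_step fs11 252705 262 252967 s11u807 s11c808 rfl
theorem s11u809 : ∀ v, 1 ≤ v → v ≤ 253258 → fs11 v = true := slots_step fs11 252967 291 253258 s11u808 s11c809 rfl
theorem s11u810 : ∀ v, 1 ≤ v → v ≤ 253533 → fs11 v = true := slots_step fs11 253258 275 253533 s11u809 s11c810 rfl
theorem s11u811 : ∀ v, 1 ≤ v → v ≤ 253810 → fs11 v = true := slots_step fs11 253533 277 253810 s11u810 s11c811 rfl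
theorem s11u812 : ∀ v, 1 ≤ v → v ≤ 254084 → fs11 v = true := slots_step fs11 253810 274 254084 s11u811 s11c812 rfl
theorem s11u813 : ∀ v, 1 ≤ v → v ≤ 254366 → fs11 v = true := slots_step fs11 254084 282 254366 s11u812 s11c813 rfl
theorem s11u814 : ∀ v, 1 ≤ v → v ≤ 254645 → fs11 v = true := slots_step fs11 254366 279 254645 s11u813 s11c814 rfl
theorem s11u815 : ∀ v, 1 ≤ v → v ≤ 254912 → fs11 v = true := slots_step fs11 254645 267 254912 s11u814 s11c815 rfl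
theorem s11u816 : ∀ v, 1 ≤ v → v ≤ 255188 → fs11 v = true := slots_step fs11 254912 276 255188 s11u815 s11c816 rfl
theorem s11u817 : ∀ v, 1 ≤ v → v ≤ 255477 → fs11 v = true := slots_step fs11 255188 289 255477 s11u816 s11c817 rfl
theorem s11u818 : ∀ v, 1 ≤ v → v ≤ 255764 → fs11 v = true := slots_step fs11 255477 287 255764 s11u817 s11c818 rfl
theorem s11u819 : ∀ v, 1 ≤ v → v ≤ 256028 → fs11 v = true := slots_step fs11 255764 264 256028 s11u818 s11c819 rfl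
theorem s11u820 : ∀ v, 1 ≤ v → v ≤ 256293 → fs11 v = true := slots_step fs11 256028 265 256293 s11u819 s11c820 rfl
theorem s11u821 : ∀ v, 1 ≤ v → v ≤ 256564 → fs11 v = true := slots_step fs11 256293 271 256564 s11u820 s11c821 rfl
theorem s11u822 : ∀ v, 1 ≤ v → v ≤ 256818 → fs11 v = true := slots_step fs11 256564 254 256818 s11u821 s11c822 rfl
theorem s11u823 : ∀ v, 1 ≤ v → v ≤ 257079 → fs11 v = true := slots_step fs11 256818 261 257079 s11u822 s11c823 rfl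
theorem s11u824 : ∀ v, 1 ≤ v → v ≤ 257349 → fs11 v = true := slots_step fs11 257079 270 257349 s11u823 s11c824 rfl
theorem s11u825 : ∀ v, 1 ≤ v → v ≤ 257623 → fs11 v = true := slots_step fs11 257349 274 257623 s11u824 s11c825 rfl
theorem s11u826 : ∀ v, 1 ≤ v → v ≤ 257904 → fs11 v = true := slots_step fs11 257623 281 257904 s11u825 s11c826 rfl
theorem s11u827 : ∀ v, 1 ≤ v → v ≤ 258170 → fs11 v = true := slots_step fs11 257904 266 258170 s11u826 s11c827 rfl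
theorem s11u828 : ∀ v, 1 ≤ v → v ≤ 258446 → fs11 v = true := slots_step fs11 258170 276 258446 s11u827 s11c828 rfl
theorem s11u829 : ∀ v, 1 ≤ v → v ≤ 258706 → fs11 v = true := slots_step fs11 258446 260 258706 s11u828 s11c829 rfl
theorem s11u830 : ∀ v, 1 ≤ v → v ≤ 258987 → fs11 v = true := slots_step fs11 258706 281 258987 s11u829 s11c830 rfl
theorem s11u831 : ∀ v, 1 ≤ v → v ≤ 259257 → fs11 v = true := slots_step fs11 258987 270 259257 s11u830 s11c831 rfl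
theorem s11u832 : ∀ v, 1 ≤ v → v ≤ 259521 → fs11 v = true := slots_step fs11 259257 264 259521 s11u831 s11c832 rfl
theorem s11u833 : ∀ v, 1 ≤ v → v ≤ 259788 → fs11 v = true := slots_step fs11 259521 267 259788 s11u832 s11c833 rfl
theorem s11u834 : ∀ v, 1 ≤ v → v ≤ 260047 → fs11 v = true := slots_step fs11 259788 259 260047 s11u833 s11c834 rfl
theorem s11u835 : ∀ v, 1 ≤ v → v ≤ 260326 → fs11 v = true := slots_step fs11 260047 279 260326 s11u834 s11c835 rfl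
theorem s11u836 : ∀ v, 1 ≤ v → v ≤ 260602 → fs11 v = true := slots_step fs11 260326 276 260602 s11u835 s11c836 rfl
theorem s11u837 : ∀ v, 1 ≤ v → v ≤ 260892 → fs11 v = true := slots_step fs11 260602 290 260892 s11u836 s11c837 rfl
theorem s11u838 : ∀ v, 1 ≤ v → v ≤ 261168 → fs11 v = true := slots_step fs11 260892 276 261168 s11u837 s11c838 rfl
theorem s11u839 : ∀ v, 1 ≤ v → v ≤ 261443 → fs11 v = true := slots_step fs11 261168 275 261443 s11u838 s11c839 rfl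
theorem s11u840 : ∀ v, 1 ≤ v → v ≤ 261707 → fs11 v = true := slots_step fs11 261443 264 261707 s11u839 s11c840 rfl
theorem s11u841 : ∀ v, 1 ≤ v → v ≤ 261991 → fs11 v = true := slots_step fs11 261707 284 261991 s11u840 s11c841 rfl
theorem s11u842 : ∀ v, 1 ≤ v → v ≤ 262265 → fs11 v = true := slots_step fs11 261991 274 262265 s11u841 s11c842 rfl
theorem s11u843 : ∀ v, 1 ≤ v → v ≤ 262551 → fs11 v = true := slots_step fs11 262265 286 262551 s11u842 s11c843 rfl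
theorem s11u844 : ∀ v, 1 ≤ v → v ≤ 262839 → fs11 v = true := slots_step fs11 262551 288 262839 s11u843 s11c844 rfl
theorem s11u845 : ∀ v, 1 ≤ v → v ≤ 263111 → fs11 v = true := slots_step fs11 262839 272 263111 s11u844 s11c845 rfl
theorem s11u846 : ∀ v, 1 ≤ v → v ≤ 263383 → fs11 v = true := slots_step fs11 263111 272 263383 s11u845 s11c846 rfl
theorem s11u847 : ∀ v, 1 ≤ v → v ≤ 263672 → fs11 v = true := slots_step fs11 263383 289 263672 s11u846 s11c847 rfl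
theorem s11u848 : ∀ v, 1 ≤ v → v ≤ 263948 → fs11 v = true := slots_step fs11 263672 276 263948 s11u847 s11c848 rfl
theorem s11u849 : ∀ v, 1 ≤ v → v ≤ 264224 → fs11 v = true := slots_step fs11 263948 276 264224 s11u848 s11c849 rfl
theorem s11u850 : ∀ v, 1 ≤ v → v ≤ 264495 → fs11 v = true := slots_step fs11 264224 271 264495 s11u849 s11c850 rfl
theorem s11u851 : ∀ v, 1 ≤ v → v ≤ 264779 → fs11 v = true := slots_step fs11 264495 284 264779 s11u850 s11c851 rfl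
theorem s11u852 : ∀ v, 1 ≤ v → v ≤ 265067 → fs11 v = true := slots_step fs11 264779 288 265067 s11u851 s11c852 rfl
theorem s11u853 : ∀ v, 1 ≤ v → v ≤ 265351 → fs11 v = true := slots_step fs11 265067 284 265351 s11u852 s11c853 rfl
theorem s11u854 : ∀ v, 1 ≤ v → v ≤ 265634 → fs11 v = true := slots_step fs11 265351 283 265634 s11u853 s11c854 rfl
theorem s11u855 : ∀ v, 1 ≤ v → v ≤ 265931 → fs11 v = true := slots_step fs11 265634 297 265931 s11u854 s11c855 rfl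
theorem s11u856 : ∀ v, 1 ≤ v → v ≤ 266218 → fs11 v = true := slots_step fs11 265931 287 266218 s11u855 s11c856 rfl
theorem s11u857 : ∀ v, 1 ≤ v → v ≤ 266493 → fs11 v = true := slots_step fs11 266218 275 266493 s11u856 s11c857 rfl
theorem s11u858 : ∀ v, 1 ≤ v → v ≤ 266769 → fs11 v = true := slots_step fs11 266493 276 266769 s11u857 s11c858 rfl
theorem s11u859 : ∀ v, 1 ≤ v → v ≤ 267054 → fs11 v = true := slots_step fs11 266769 285 267054 s11u858 s11c859 rfl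
theorem s11u860 : ∀ v, 1 ≤ v → v ≤ 267340 → fs11 v = true := slots_step fs11 267054 286 267340 s11u859 s11c860 rfl
theorem s11u861 : ∀ v, 1 ≤ v → v ≤ 267617 → fs11 v = true := slots_step fs11 267340 277 267617 s11u860 s11c861 rfl
theorem s11u862 : ∀ v, 1 ≤ v → v ≤ 267899 → fs11 v = true := slots_step fs11 267617 282 267899 s11u861 s11c862 rfl
theorem s11u863 : ∀ v, 1 ≤ v → v ≤ 268163 → fs11 v = true := slots_step fs11 267899 264 268163 s11u862 s11c863 rfl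
theorem s11u864 : ∀ v, 1 ≤ v → v ≤ 268454 → fs11 v = true := slots_step fs11 268163 291 268454 s11u863 s11c864 rfl
theorem s11u865 : ∀ v, 1 ≤ v → v ≤ 268750 → fs11 v = true := slots_step fs11 268454 296 268750 s11u864 s11c865 rfl
theorem s11u866 : ∀ v, 1 ≤ v → v ≤ 269033 → fs11 v = true := slots_step fs11 268750 283 269033 s11u865 s11c866 rfl
theorem s11u867 : ∀ v, 1 ≤ v → v ≤ 269315 → fs11 v = true := slots_step fs11 269033 282 269315 s11u866 s11c867 rfl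
theorem s11u868 : ∀ v, 1 ≤ v → v ≤ 269584 → fs11 v = true := slots_step fs11 269315 269 269584 s11u867 s11c868 rfl
theorem s11u869 : ∀ v, 1 ≤ v → v ≤ 269856 → fs11 v = true := slots_step fs11 269584 272 269856 s11u868 s11c869 rfl
theorem s11u870 : ∀ v, 1 ≤ v → v ≤ 270128 → fs11 v = true := slots_step fs11 269856 272 270128 s11u869 s11c870 rfl
theorem s11u871 : ∀ v, 1 ≤ v → v ≤ 270411 → fs11 v = true := slots_step fs11 270128 283 270411 s11u870 s11c871 rfl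
theorem s11u872 : ∀ v, 1 ≤ v → v ≤ 270675 → fs11 v = true := slots_step fs11 270411 264 270675 s11u871 s11c872 rfl
theorem s11u873 : ∀ v, 1 ≤ v → v ≤ 270950 → fs11 v = true := slots_step fs11 270675 275 270950 s11u872 s11c873 rfl
theorem s11u874 : ∀ v, 1 ≤ v → v ≤ 271212 → fs11 v = true := slots_step fs11 270950 262 271212 s11u873 s11c874 rfl
theorem s11u875 : ∀ v, 1 ≤ v → v ≤ 271462 → fs11 v = true := slots_step fs11 271212 250 271462 s11u874 s11c875 rfl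
theorem s11u876 : ∀ v, 1 ≤ v → v ≤ 271721 → fs11 v = true := slots_step fs11 271462 259 271721 s11u875 s11c876 rfl
theorem s11u877 : ∀ v, 1 ≤ v → v ≤ 271980 → fs11 v = true := slots_step fs11 271721 259 271980 s11u876 s11c877 rfl
theorem s11u878 : ∀ v, 1 ≤ v → v ≤ 272247 → fs11 v = true := slots_step fs11 271980 267 272247 s11u877 s11c878 rfl
theorem s11u879 : ∀ v, 1 ≤ v → v ≤ 272513 → fs11 v = true := slots_step fs11 272247 266 272513 s11u878 s11c879 rfl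
theorem s11u880 : ∀ v, 1 ≤ v → v ≤ 272779 → fs11 v = true := slots_step fs11 272513 266 272779 s11u879 s11c880 rfl
theorem s11u881 : ∀ v, 1 ≤ v → v ≤ 273045 → fs11 v = true := slots_step fs11 272779 266 273045 s11u880 s11c881 rfl
theorem s11u882 : ∀ v, 1 ≤ v → v ≤ 273305 → fs11 v = true := slots_step fs11 273045 260 273305 s11u881 s11c882 rfl
theorem s11u883 : ∀ v, 1 ≤ v → v ≤ 273573 → fs11 v = true := slots_step fs11 273305 268 273573 s11u882 s11c883 rfl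
theorem s11u884 : ∀ v, 1 ≤ v → v ≤ 273842 → fs11 v = true := slots_step fs11 273573 269 273842 s11u883 s11c884 rfl
theorem s11u885 : ∀ v, 1 ≤ v → v ≤ 274093 → fs11 v = true := slots_step fs11 273842 251 274093 s11u884 s11c885 rfl
theorem s11u886 : ∀ v, 1 ≤ v → v ≤ 274361 → fs11 v = true := slots_step fs11 274093 268 274361 s11u885 s11c886 rfl
theorem s11u887 : ∀ v, 1 ≤ v → v ≤ 274624 → fs11 v = true := slots_step fs11 274361 263 274624 s11u886 s11c887 rfl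
theorem s11u888 : ∀ v, 1 ≤ v → v ≤ 274877 → fs11 v = true := slots_step fs11 274624 253 274877 s11u887 s11c888 rfl
theorem s11u889 : ∀ v, 1 ≤ v → v ≤ 275128 → fs11 v = true := slots_step fs11 274877 251 275128 s11u888 s11c889 rfl
theorem s11u890 : ∀ v, 1 ≤ v → v ≤ 275390 → fs11 v = true := slots_step fs11 275128 262 275390 s11u889 s11c890 rfl
theorem s11u891 : ∀ v, 1 ≤ v → v ≤ 275652 → fs11 v = true := slots_step fs11 275390 262 275652 s11u890 s11c891 rfl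
theorem s11u892 : ∀ v, 1 ≤ v → v ≤ 275924 → fs11 v = true := slots_step fs11 275652 272 275924 s11u891 s11c892 rfl
theorem s11u893 : ∀ v, 1 ≤ v → v ≤ 276193 → fs11 v = true := slots_step fs11 275924 269 276193 s11u892 s11c893 rfl
theorem s11u894 : ∀ v, 1 ≤ v → v ≤ 276471 → fs11 v = true := slots_step fs11 276193 278 276471 s11u893 s11c894 rfl
theorem s11u895 : ∀ v, 1 ≤ v → v ≤ 276734 → fs11 v = true := slots_step fs11 276471 263 276734 s11u894 s11c895 rfl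
theorem s11u896 : ∀ v, 1 ≤ v → v ≤ 276989 → fs11 v = true := slots_step fs11 276734 255 276989 s11u895 s11c896 rfl
theorem s11u897 : ∀ v, 1 ≤ v → v ≤ 277258 → fs11 v = true := slots_step fs11 276989 269 277258 s11u896 s11c897 rfl
theorem s11u898 : ∀ v, 1 ≤ v → v ≤ 277528 → fs11 v = true := slots_step fs11 277258 270 277528 s11u897 s11c898 rfl
theorem s11u899 : ∀ v, 1 ≤ v → v ≤ 277795 → fs11 v = true := slots_step fs11 277528 267 277795 s11u898 s11c899 rfl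
theorem s11u900 : ∀ v, 1 ≤ v → v ≤ 278055 → fs11 v = true := slots_step fs11 277795 260 278055 s11u899 s11c900 rfl
theorem s11u901 : ∀ v, 1 ≤ v → v ≤ 278330 → fs11 v = true := slots_step fs11 278055 275 278330 s11u900 s11c901 rfl
theorem s11u902 : ∀ v, 1 ≤ v → v ≤ 278596 → fs11 v = true := slots_step fs11 278330 266 278596 s11u901 s11c902 rfl
theorem s11u903 : ∀ v, 1 ≤ v → v ≤ 278881 → fs11 v = true := slots_step fs11 278596 285 278881 s11u902 s11c903 rfl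
theorem s11u904 : ∀ v, 1 ≤ v → v ≤ 279149 → fs11 v = true := slots_step fs11 278881 268 279149 s11u903 s11c904 rfl
theorem s11u905 : ∀ v, 1 ≤ v → v ≤ 279416 → fs11 v = true := slots_step fs11 279149 267 279416 s11u904 s11c905 rfl
theorem s11u906 : ∀ v, 1 ≤ v → v ≤ 279682 → fs11 v = true := slots_step fs11 279416 266 279682 s11u905 s11c906 rfl
theorem s11u907 : ∀ v, 1 ≤ v → v ≤ 279964 → fs11 v = true := slots_step fs11 279682 282 279964 s11u906 s11c907 rfl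
theorem s11u908 : ∀ v, 1 ≤ v → v ≤ 280225 → fs11 v = true := slots_step fs11 279964 261 280225 s11u907 s11c908 rfl
theorem s11u909 : ∀ v, 1 ≤ v → v ≤ 280490 → fs11 v = true := slots_step fs11 280225 265 280490 s11u908 s11c909 rfl
theorem s11u910 : ∀ v, 1 ≤ v → v ≤ 280764 → fs11 v = true := slots_step fs11 280490 274 280764 s11u909 s11c910 rfl
theorem s11u911 : ∀ v, 1 ≤ v → v ≤ 281038 → fs11 v = true := slots_step fs11 280764 274 281038 s11u910 s11c911 rfl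
theorem s11u912 : ∀ v, 1 ≤ v → v ≤ 281319 → fs11 v = true := slots_step fs11 281038 281 281319 s11u911 s11c912 rfl
theorem s11u913 : ∀ v, 1 ≤ v → v ≤ 281587 → fs11 v = true := slots_step fs11 281319 268 281587 s11u912 s11c913 rfl
theorem s11u914 : ∀ v, 1 ≤ v → v ≤ 281850 → fs11 v = true := slots_step fs11 281587 263 281850 s11u913 s11c914 rfl
theorem s11u915 : ∀ v, 1 ≤ v → v ≤ 282110 → fs11 v = true := slots_step fs11 281850 260 282110 s11u914 s11c915 rfl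
theorem s11u916 : ∀ v, 1 ≤ v → v ≤ 282366 → fs11 v = true := slots_step fs11 282110 256 282366 s11u915 s11c916 rfl
theorem s11u917 : ∀ v, 1 ≤ v → v ≤ 282620 → fs11 v = true := slots_step fs11 282366 254 282620 s11u916 s11c917 rfl
theorem s11u918 : ∀ v, 1 ≤ v → v ≤ 282886 → fs11 v = true := slots_step fs11 282620 266 282886 s11u917 s11c918 rfl
theorem s11u919 : ∀ v, 1 ≤ v → v ≤ 283165 → fs11 v = true := slots_step fs11 282886 279 283165 s11u918 s11c919 rfl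
theorem s11u920 : ∀ v, 1 ≤ v → v ≤ 283442 → fs11 v = true := slots_step fs11 283165 277 283442 s11u919 s11c920 rfl
theorem s11u921 : ∀ v, 1 ≤ v → v ≤ 283704 → fs11 v = true := slots_step fs11 283442 262 283704 s11u920 s11c921 rfl
theorem s11u922 : ∀ v, 1 ≤ v → v ≤ 283964 → fs11 v = true := slots_step fs11 283704 260 283964 s11u921 s11c922 rfl
theorem s11u923 : ∀ v, 1 ≤ v → v ≤ 284236 → fs11 v = true := slots_step fs11 283964 272 284236 s11u922 s11c923 rfl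
theorem s11u924 : ∀ v, 1 ≤ v → v ≤ 284500 → fs11 v = true := slots_step fs11 284236 264 284500 s11u923 s11c924 rfl
theorem s11u925 : ∀ v, 1 ≤ v → v ≤ 284779 → fs11 v = true := slots_step fs11 284500 279 284779 s11u924 s11c925 rfl
theorem s11u926 : ∀ v, 1 ≤ v → v ≤ 285046 → fs11 v = true := slots_step fs11 284779 267 285046 s11u925 s11c926 rfl
theorem s11u927 : ∀ v, 1 ≤ v → v ≤ 285300 → fs11 v = true := slots_step fs11 285046 254 285300 s11u926 s11c927 rfl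
theorem s11u928 : ∀ v, 1 ≤ v → v ≤ 285556 → fs11 v = true := slots_step fs11 285300 256 285556 s11u927 s11c928 rfl
theorem s11u929 : ∀ v, 1 ≤ v → v ≤ 285817 → fs11 v = true := slots_step fs11 285556 261 285817 s11u928 s11c929 rfl
theorem s11u930 : ∀ v, 1 ≤ v → v ≤ 286092 → fs11 v = true := slots_step fs11 285817 275 286092 s11u929 s11c930 rfl
theorem s11u931 : ∀ v, 1 ≤ v → v ≤ 286380 → fs11 v = true := slots_step fs11 286092 288 286380 s11u930 s11c931 rfl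
theorem s11u932 : ∀ v, 1 ≤ v → v ≤ 286648 → fs11 v = true := slots_step fs11 286380 268 286648 s11u931 s11c932 rfl
theorem s11u933 : ∀ v, 1 ≤ v → v ≤ 286915 → fs11 v = true := slots_step fs11 286648 267 286915 s11u932 s11c933 rfl
theorem s11u934 : ∀ v, 1 ≤ v → v ≤ 287185 → fs11 v = true := slots_step fs11 286915 270 287185 s11u933 s11c934 rfl
theorem s11u935 : ∀ v, 1 ≤ v → v ≤ 287442 → fs11 v = true := slots_step fs11 287185 257 287442 s11u934 s11c935 rfl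
theorem s11u936 : ∀ v, 1 ≤ v → v ≤ 287727 → fs11 v = true := slots_step fs11 287442 285 287727 s11u935 s11c936 rfl
theorem s11u937 : ∀ v, 1 ≤ v → v ≤ 288000 → fs11 v = true := slots_step fs11 287727 273 288000 s11u936 s11c937 rfl
theorem s11u938 : ∀ v, 1 ≤ v → v ≤ 288274 → fs11 v = true := slots_step fs11 288000 274 288274 s11u937 s11c938 rfl
theorem s11u939 : ∀ v, 1 ≤ v → v ≤ 288564 → fs11 v = true := slots_step fs11 288274 290 288564 s11u938 s11c939 rfl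
theorem s11u940 : ∀ v, 1 ≤ v → v ≤ 288837 → fs11 v = true := slots_step fs11 288564 273 288837 s11u939 s11c940 rfl
theorem s11u941 : ∀ v, 1 ≤ v → v ≤ 289097 → fs11 v = true := slots_step fs11 288837 260 289097 s11u940 s11c941 rfl
theorem s11u942 : ∀ v, 1 ≤ v → v ≤ 289371 → fs11 v = true := slots_step fs11 289097 274 289371 s11u941 s11c942 rfl
theorem s11u943 : ∀ v, 1 ≤ v → v ≤ 289635 → fs11 v = true := slots_step fs11 289371 264 289635 s11u942 s11c943 rfl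
theorem s11u944 : ∀ v, 1 ≤ v → v ≤ 289909 → fs11 v = true := slots_step fs11 289635 274 289909 s11u943 s11c944 rfl
theorem s11u945 : ∀ v, 1 ≤ v → v ≤ 290176 → fs11 v = true := slots_step fs11 289909 267 290176 s11u944 s11c945 rfl
theorem s11u946 : ∀ v, 1 ≤ v → v ≤ 290457 → fs11 v = true := slots_step fs11 290176 281 290457 s11u945 s11c946 rfl
theorem s11u947 : ∀ v, 1 ≤ v → v ≤ 290737 → fs11 v = true := slots_step fs11 290457 280 290737 s11u946 s11c947 rfl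
theorem s11u948 : ∀ v, 1 ≤ v → v ≤ 291018 → fs11 v = true := slots_step fs11 290737 281 291018 s11u947 s11c948 rfl
theorem s11u949 : ∀ v, 1 ≤ v → v ≤ 291296 → fs11 v = true := slots_step fs11 291018 278 291296 s11u948 s11c949 rfl
theorem s11u950 : ∀ v, 1 ≤ v → v ≤ 291579 → fs11 v = true := slots_step fs11 291296 283 291579 s11u949 s11c950 rfl
theorem s11u951 : ∀ v, 1 ≤ v → v ≤ 291864 → fs11 v = true := slots_step fs11 291579 285 291864 s11u950 s11c951 rfl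
theorem s11u952 : ∀ v, 1 ≤ v → v ≤ 292131 → fs11 v = true := slots_step fs11 291864 267 292131 s11u951 s11c952 rfl
theorem s11u953 : ∀ v, 1 ≤ v → v ≤ 292404 → fs11 v = true := slots_step fs11 292131 273 292404 s11u952 s11c953 rfl
theorem s11u954 : ∀ v, 1 ≤ v → v ≤ 292688 → fs11 v = true := slots_step fs11 292404 284 292688 s11u953 s11c954 rfl
theorem s11u955 : ∀ v, 1 ≤ v → v ≤ 292957 → fs11 v = true := slots_step fs11 292688 269 292957 s11u954 s11c955 rfl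
theorem s11u956 : ∀ v, 1 ≤ v → v ≤ 293227 → fs11 v = true := slots_step fs11 292957 270 293227 s11u955 s11c956 rfl
theorem s11u957 : ∀ v, 1 ≤ v → v ≤ 293498 → fs11 v = true := slots_step fs11 293227 271 293498 s11u956 s11c957 rfl
theorem s11u958 : ∀ v, 1 ≤ v → v ≤ 293781 → fs11 v = true := slots_step fs11 293498 283 293781 s11u957 s11c958 rfl
theorem s11u959 : ∀ v, 1 ≤ v → v ≤ 294072 → fs11 v = true := slots_step fs11 293781 291 294072 s11u958 s11c959 rfl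
theorem s11u960 : ∀ v, 1 ≤ v → v ≤ 294352 → fs11 v = true := slots_step fs11 294072 280 294352 s11u959 s11c960 rfl
theorem s11u961 : ∀ v, 1 ≤ v → v ≤ 294626 → fs11 v = true := slots_step fs11 294352 274 294626 s11u960 s11c961 rfl
theorem s11u962 : ∀ v, 1 ≤ v → v ≤ 294895 → fs11 v = true := slots_step fs11 294626 269 294895 s11u961 s11c962 rfl
theorem s11u963 : ∀ v, 1 ≤ v → v ≤ 295166 → fs11 v = true := slots_step fs11 294895 271 295166 s11u962 s11c963 rfl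
theorem s11u964 : ∀ v, 1 ≤ v → v ≤ 295448 → fs11 v = true := slots_step fs11 295166 282 295448 s11u963 s11c964 rfl
theorem s11u965 : ∀ v, 1 ≤ v → v ≤ 295710 → fs11 v = true := slots_step fs11 295448 262 295710 s11u964 s11c965 rfl
theorem s11u966 : ∀ v, 1 ≤ v → v ≤ 295981 → fs11 v = true := slots_step fs11 295710 271 295981 s11u965 s11c966 rfl
theorem s11u967 : ∀ v, 1 ≤ v → v ≤ 296248 → fs11 v = true := slots_step fs11 295981 267 296248 s11u966 s11c967 rfl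
theorem s11u968 : ∀ v, 1 ≤ v → v ≤ 296496 → fs11 v = true := slots_step fs11 296248 248 296496 s11u967 s11c968 rfl
theorem s11u969 : ∀ v, 1 ≤ v → v ≤ 296763 → fs11 v = true := slots_step fs11 296496 267 296763 s11u968 s11c969 rfl
theorem s11u970 : ∀ v, 1 ≤ v → v ≤ 297029 → fs11 v = true := slots_step fs11 296763 266 297029 s11u969 s11c970 rfl
theorem s11u971 : ∀ v, 1 ≤ v → v ≤ 297296 → fs11 v = true := slots_step fs11 297029 267 297296 s11u970 s11c971 rfl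
theorem s11u972 : ∀ v, 1 ≤ v → v ≤ 297555 → fs11 v = true := slots_step fs11 297296 259 297555 s11u971 s11c972 rfl
theorem s11u973 : ∀ v, 1 ≤ v → v ≤ 297819 → fs11 v = true := slots_step fs11 297555 264 297819 s11u972 s11c973 rfl
theorem s11u974 : ∀ v, 1 ≤ v → v ≤ 298084 → fs11 v = true := slots_step fs11 297819 265 298084 s11u973 s11c974 rfl
theorem s11u975 : ∀ v, 1 ≤ v → v ≤ 298341 → fs11 v = true := slots_step fs11 298084 257 298341 s11u974 s11c975 rfl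
theorem s11u976 : ∀ v, 1 ≤ v → v ≤ 298601 → fs11 v = true := slots_step fs11 298341 260 298601 s11u975 s11c976 rfl
theorem s11u977 : ∀ v, 1 ≤ v → v ≤ 298855 → fs11 v = true := slots_step fs11 298601 254 298855 s11u976 s11c977 rfl
theorem s11u978 : ∀ v, 1 ≤ v → v ≤ 299108 → fs11 v = true := slots_step fs11 298855 253 299108 s11u977 s11c978 rfl
theorem s11u979 : ∀ v, 1 ≤ v → v ≤ 299360 → fs11 v = true := slots_step fs11 299108 252 299360 s11u978 s11c979 rfl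
theorem s11u980 : ∀ v, 1 ≤ v → v ≤ 299628 → fs11 v = true := slots_step fs11 299360 268 299628 s11u979 s11c980 rfl
theorem s11u981 : ∀ v, 1 ≤ v → v ≤ 299881 → fs11 v = true := slots_step fs11 299628 253 299881 s11u980 s11c981 rfl
theorem s11u982 : ∀ v, 1 ≤ v → v ≤ 300125 → fs11 v = true := slots_step fs11 299881 244 300125 s11u981 s11c982 rfl
theorem s11u983 : ∀ v, 1 ≤ v → v ≤ 300383 → fs11 v = true := slots_step fs11 300125 258 300383 s11u982 s11c983 rfl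
theorem s11u984 : ∀ v, 1 ≤ v → v ≤ 300633 → fs11 v = true := slots_step fs11 300383 250 300633 s11u983 s11c984 rfl
theorem s11u985 : ∀ v, 1 ≤ v → v ≤ 300898 → fs11 v = true := slots_step fs11 300633 265 300898 s11u984 s11c985 rfl
theorem s11u986 : ∀ v, 1 ≤ v → v ≤ 301159 → fs11 v = true := slots_step fs11 300898 261 301159 s11u985 s11c986 rfl
theorem s11u987 : ∀ v, 1 ≤ v → v ≤ 301412 → fs11 v = true := slots_step fs11 301159 253 301412 s11u986 s11c987 rfl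
theorem s11u988 : ∀ v, 1 ≤ v → v ≤ 301673 → fs11 v = true := slots_step fs11 301412 261 301673 s11u987 s11c988 rfl
theorem s11u989 : ∀ v, 1 ≤ v → v ≤ 301939 → fs11 v = true := slots_step fs11 301673 266 301939 s11u988 s11c989 rfl
theorem s11u990 : ∀ v, 1 ≤ v → v ≤ 302199 → fs11 v = true := slots_step fs11 301939 260 302199 s11u989 s11c990 rfl
theorem s11u991 : ∀ v, 1 ≤ v → v ≤ 302467 → fs11 v = true := slots_step fs11 302199 268 302467 s11u990 s11c991 rfl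
theorem s11u992 : ∀ v, 1 ≤ v → v ≤ 302735 → fs11 v = true := slots_step fs11 302467 268 302735 s11u991 s11c992 rfl
theorem s11u993 : ∀ v, 1 ≤ v → v ≤ 302996 → fs11 v = true := slots_step fs11 302735 261 302996 s11u992 s11c993 rfl
theorem s11u994 : ∀ v, 1 ≤ v → v ≤ 303248 → fs11 v = true := slots_step fs11 302996 252 303248 s11u993 s11c994 rfl
theorem s11u995 : ∀ v, 1 ≤ v → v ≤ 303508 → fs11 v = true := slots_step fs11 303248 260 303508 s11u994 s11c995 rfl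
theorem s11u996 : ∀ v, 1 ≤ v → v ≤ 303782 → fs11 v = true := slots_step fs11 303508 274 303782 s11u995 s11c996 rfl
theorem s11u997 : ∀ v, 1 ≤ v → v ≤ 304040 → fs11 v = true := slots_step fs11 303782 258 304040 s11u996 s11c997 rfl
theorem s11u998 : ∀ v, 1 ≤ v → v ≤ 304306 → fs11 v = true := slots_step fs11 304040 266 304306 s11u997 s11c998 rfl
theorem s11u999 : ∀ v, 1 ≤ v → v ≤ 304577 → fs11 v = true := slots_step fs11 304306 271 304577 s11u998 s11c999 rfl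
theorem s11u1000 : ∀ v, 1 ≤ v → v ≤ 304847 → fs11 v = true := slots_step fs11 304577 270 304847 s11u999 s11c1000 rfl
theorem s11u1001 : ∀ v, 1 ≤ v → v ≤ 305105 → fs11 v = true := slots_step fs11 304847 258 305105 s11u1000 s11c1001 rfl
theorem s11u1002 : ∀ v, 1 ≤ v → v ≤ 305368 → fs11 v = true := slots_step fs11 305105 263 305368 s11u1001 s11c1002 rfl
theorem s11u1003 : ∀ v, 1 ≤ v → v ≤ 305641 → fs11 v = true := slots_step fs11 305368 273 305641 s11u1002 s11c1003 rfl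
theorem s11u1004 : ∀ v, 1 ≤ v → v ≤ 305912 → fs11 v = true := slots_step fs11 305641 271 305912 s11u1003 s11c1004 rfl
theorem s11u1005 : ∀ v, 1 ≤ v → v ≤ 306181 → fs11 v = true := slots_step fs11 305912 269 306181 s11u1004 s11c1005 rfl
theorem s11u1006 : ∀ v, 1 ≤ v → v ≤ 306436 → fs11 v = true := slots_step fs11 306181 255 306436 s11u1005 s11c1006 rfl
theorem s11u1007 : ∀ v, 1 ≤ v → v ≤ 306692 → fs11 v = true := slots_step fs11 306436 256 306692 s11u1006 s11c1007 rfl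
theorem s11u1008 : ∀ v, 1 ≤ v → v ≤ 306949 → fs11 v = true := slots_step fs11 306692 257 306949 s11u1007 s11c1008 rfl
theorem s11u1009 : ∀ v, 1 ≤ v → v ≤ 307200 → fs11 v = true := slots_step fs11 306949 251 307200 s11u1008 s11c1009 rfl
theorem s11u1010 : ∀ v, 1 ≤ v → v ≤ 307468 → fs11 v = true := slots_step fs11 307200 268 307468 s11u1009 s11c1010 rfl
theorem s11u1011 : ∀ v, 1 ≤ v → v ≤ 307739 → fs11 v = true := slots_step fs11 307468 271 307739 s11u1010 s11c1011 rfl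
theorem s11u1012 : ∀ v, 1 ≤ v → v ≤ 308011 → fs11 v = true := slots_step fs11 307739 272 308011 s11u1011 s11c1012 rfl
theorem s11u1013 : ∀ v, 1 ≤ v → v ≤ 308264 → fs11 v = true := slots_step fs11 308011 253 308264 s11u1012 s11c1013 rfl
theorem s11u1014 : ∀ v, 1 ≤ v → v ≤ 308520 → fs11 v = true := slots_step fs11 308264 256 308520 s11u1013 s11c1014 rfl
theorem s11u1015 : ∀ v, 1 ≤ v → v ≤ 308787 → fs11 v = true := slots_step fs11 308520 267 308787 s11u1014 s11c1015 rfl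
theorem s11u1016 : ∀ v, 1 ≤ v → v ≤ 309059 → fs11 v = true := slots_step fs11 308787 272 309059 s11u1015 s11c1016 rfl
theorem s11u1017 : ∀ v, 1 ≤ v → v ≤ 309325 → fs11 v = true := slots_step fs11 309059 266 309325 s11u1016 s11c1017 rfl
theorem s11u1018 : ∀ v, 1 ≤ v → v ≤ 309575 → fs11 v = true := slots_step fs11 309325 250 309575 s11u1017 s11c1018 rfl
theorem s11u1019 : ∀ v, 1 ≤ v → v ≤ 309825 → fs11 v = true := slots_step fs11 309575 250 309825 s11u1018 s11c1019 rfl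
theorem s11u1020 : ∀ v, 1 ≤ v → v ≤ 310092 → fs11 v = true := slots_step fs11 309825 267 310092 s11u1019 s11c1020 rfl
theorem s11u1021 : ∀ v, 1 ≤ v → v ≤ 310354 → fs11 v = true := slots_step fs11 310092 262 310354 s11u1020 s11c1021 rfl
theorem s11u1022 : ∀ v, 1 ≤ v → v ≤ 310642 → fs11 v = true := slots_step fs11 310354 288 310642 s11u1021 s11c1022 rfl
theorem s11u1023 : ∀ v, 1 ≤ v → v ≤ 310910 → fs11 v = true := slots_step fs11 310642 268 310910 s11u1022 s11c1023 rfl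
theorem s11u1024 : ∀ v, 1 ≤ v → v ≤ 311162 → fs11 v = true := slots_step fs11 310910 252 311162 s11u1023 s11c1024 rfl
theorem s11u1025 : ∀ v, 1 ≤ v → v ≤ 311426 → fs11 v = true := slots_step fs11 311162 264 311426 s11u1024 s11c1025 rfl
theorem s11u1026 : ∀ v, 1 ≤ v → v ≤ 311698 → fs11 v = true := slots_step fs11 311426 272 311698 s11u1025 s11c1026 rfl
theorem s11u1027 : ∀ v, 1 ≤ v → v ≤ 311981 → fs11 v = true := slots_step fs11 311698 283 311981 s11u1026 s11c1027 rfl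
theorem s11u1028 : ∀ v, 1 ≤ v → v ≤ 312249 → fs11 v = true := slots_step fs11 311981 268 312249 s11u1027 s11c1028 rfl
theorem s11u1029 : ∀ v, 1 ≤ v → v ≤ 312532 → fs11 v = true := slots_step fs11 312249 283 312532 s11u1028 s11c1029 rfl
theorem s11u1030 : ∀ v, 1 ≤ v → v ≤ 312801 → fs11 v = true := slots_step fs11 312532 269 312801 s11u1029 s11c1030 rfl
theorem s11u1031 : ∀ v, 1 ≤ v → v ≤ 313050 → fs11 v = true := slots_step fs11 312801 249 313050 s11u1030 s11c1031 rfl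
theorem s11u1032 : ∀ v, 1 ≤ v → v ≤ 313311 → fs11 v = true := slots_step fs11 313050 261 313311 s11u1031 s11c1032 rfl
theorem s11u1033 : ∀ v, 1 ≤ v → v ≤ 313493 → fs11 v = true := slots_step fs11 313311 182 313493 s11u1032 s11c1033 rfl
theorem s11u1034 : ∀ v, 1 ≤ v → v ≤ 313765 → fs11 v = true := slots_step fs11 313493 272 313765 s11u1033 s11c1034 rfl
theorem s11u1035 : ∀ v, 1 ≤ v → v ≤ 314042 → fs11 v = true := slots_step fs11 313765 277 314042 s11u1034 s11c1035 rfl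
theorem s11u1036 : ∀ v, 1 ≤ v → v ≤ 314320 → fs11 v = true := slots_step fs11 314042 278 314320 s11u1035 s11c1036 rfl
theorem s11u1037 : ∀ v, 1 ≤ v → v ≤ 314591 → fs11 v = true := slots_step fs11 314320 271 314591 s11u1036 s11c1037 rfl
theorem s11u1038 : ∀ v, 1 ≤ v → v ≤ 314865 → fs11 v = true := slots_step fs11 314591 274 314865 s11u1037 s11c1038 rfl
theorem s11u1039 : ∀ v, 1 ≤ v → v ≤ 315143 → fs11 v = true := slots_step fs11 314865 278 315143 s11u1038 s11c1039 rfl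
theorem s11u1040 : ∀ v, 1 ≤ v → v ≤ 315406 → fs11 v = true := slots_step fs11 315143 263 315406 s11u1039 s11c1040 rfl
theorem s11u1041 : ∀ v, 1 ≤ v → v ≤ 315682 → fs11 v = true := slots_step fs11 315406 276 315682 s11u1040 s11c1041 rfl
theorem s11u1042 : ∀ v, 1 ≤ v → v ≤ 315954 → fs11 v = true := slots_step fs11 315682 272 315954 s11u1041 s11c1042 rfl
theorem s11u1043 : ∀ v, 1 ≤ v → v ≤ 316217 → fs11 v = true := slots_step fs11 315954 263 316217 s11u1042 s11c1043 rfl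
theorem s11u1044 : ∀ v, 1 ≤ v → v ≤ 316488 → fs11 v = true := slots_step fs11 316217 271 316488 s11u1043 s11c1044 rfl
theorem s11u1045 : ∀ v, 1 ≤ v → v ≤ 316773 → fs11 v = true := slots_step fs11 316488 285 316773 s11u1044 s11c1045 rfl
theorem s11u1046 : ∀ v, 1 ≤ v → v ≤ 317047 → fs11 v = true := slots_step fs11 316773 274 317047 s11u1045 s11c1046 rfl
theorem s11u1047 : ∀ v, 1 ≤ v → v ≤ 317314 → fs11 v = true := slots_step fs11 317047 267 317314 s11u1046 s11c1047 rfl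
theorem s11u1048 : ∀ v, 1 ≤ v → v ≤ 317589 → fs11 v = true := slots_step fs11 317314 275 317589 s11u1047 s11c1048 rfl
theorem s11u1049 : ∀ v, 1 ≤ v → v ≤ 317863 → fs11 v = true := slots_step fs11 317589 274 317863 s11u1048 s11c1049 rfl
theorem s11u1050 : ∀ v, 1 ≤ v → v ≤ 318128 → fs11 v = true := slots_step fs11 317863 265 318128 s11u1049 s11c1050 rfl
theorem s11u1051 : ∀ v, 1 ≤ v → v ≤ 318402 → fs11 v = true := slots_step fs11 318128 274 318402 s11u1050 s11c1051 rfl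
theorem s11u1052 : ∀ v, 1 ≤ v → v ≤ 318653 → fs11 v = true := slots_step fs11 318402 251 318653 s11u1051 s11c1052 rfl
theorem s11u1053 : ∀ v, 1 ≤ v → v ≤ 318920 → fs11 v = true := slots_step fs11 318653 267 318920 s11u1052 s11c1053 rfl
theorem s11u1054 : ∀ v, 1 ≤ v → v ≤ 319188 → fs11 v = true := slots_step fs11 318920 268 319188 s11u1053 s11c1054 rfl
theorem s11u1055 : ∀ v, 1 ≤ v → v ≤ 319456 → fs11 v = true := slots_step fs11 319188 268 319456 s11u1054 s11c1055 rfl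
theorem s11u1056 : ∀ v, 1 ≤ v → v ≤ 319711 → fs11 v = true := slots_step fs11 319456 255 319711 s11u1055 s11c1056 rfl
theorem s11u1057 : ∀ v, 1 ≤ v → v ≤ 319964 → fs11 v = true := slots_step fs11 319711 253 319964 s11u1056 s11c1057 rfl
theorem s11u1058 : ∀ v, 1 ≤ v → v ≤ 320228 → fs11 v = true := slots_step fs11 319964 264 320228 s11u1057 s11c1058 rfl
theorem s11u1059 : ∀ v, 1 ≤ v → v ≤ 320488 → fs11 v = true := slots_step fs11 320228 260 320488 s11u1058 s11c1059 rfl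
theorem s11u1060 : ∀ v, 1 ≤ v → v ≤ 320701 → fs11 v = true := slots_step fs11 320488 213 320701 s11u1059 s11c1060 rfl
theorem s11u1061 : ∀ v, 1 ≤ v → v ≤ 320945 → fs11 v = true := slots_step fs11 320701 244 320945 s11u1060 s11c1061 rfl
theorem s11u1062 : ∀ v, 1 ≤ v → v ≤ 321192 → fs11 v = true := slots_step fs11 320945 247 321192 s11u1061 s11c1062 rfl
theorem s11u1063 : ∀ v, 1 ≤ v → v ≤ 321432 → fs11 v = true := slots_step fs11 321192 240 321432 s11u1062 s11c1063 rfl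
theorem s11u1064 : ∀ v, 1 ≤ v → v ≤ 321703 → fs11 v = true := slots_step fs11 321432 271 321703 s11u1063 s11c1064 rfl
theorem s11u1065 : ∀ v, 1 ≤ v → v ≤ 321955 → fs11 v = true := slots_step fs11 321703 252 321955 s11u1064 s11c1065 rfl
theorem s11u1066 : ∀ v, 1 ≤ v → v ≤ 322200 → fs11 v = true := slots_step fs11 321955 245 322200 s11u1065 s11c1066 rfl
theorem s11u1067 : ∀ v, 1 ≤ v → v ≤ 322414 → fs11 v = true := slots_step fs11 322200 214 322414 s11u1066 s11c1067 rfl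
theorem s11u1068 : ∀ v, 1 ≤ v → v ≤ 322627 → fs11 v = true := slots_step fs11 322414 213 322627 s11u1067 s11c1068 rfl
theorem s11u1069 : ∀ v, 1 ≤ v → v ≤ 322879 → fs11 v = true := slots_step fs11 322627 252 322879 s11u1068 s11c1069 rfl
theorem s11u1070 : ∀ v, 1 ≤ v → v ≤ 323130 → fs11 v = true := slots_step fs11 322879 251 323130 s11u1069 s11c1070 rfl
theorem s11u1071 : ∀ v, 1 ≤ v → v ≤ 323391 → fs11 v = true := slots_step fs11 323130 261 323391 s11u1070 s11c1071 rfl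
theorem s11u1072 : ∀ v, 1 ≤ v → v ≤ 323651 → fs11 v = true := slots_step fs11 323391 260 323651 s11u1071 s11c1072 rfl
theorem s11u1073 : ∀ v, 1 ≤ v → v ≤ 323905 → fs11 v = true := slots_step fs11 323651 254 323905 s11u1072 s11c1073 rfl
theorem s11u1074 : ∀ v, 1 ≤ v → v ≤ 324173 → fs11 v = true := slots_step fs11 323905 268 324173 s11u1073 s11c1074 rfl
theorem s11u1075 : ∀ v, 1 ≤ v → v ≤ 324443 → fs11 v = true := slots_step fs11 324173 270 324443 s11u1074 s11c1075 rfl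
theorem s11u1076 : ∀ v, 1 ≤ v → v ≤ 324692 → fs11 v = true := slots_step fs11 324443 249 324692 s11u1075 s11c1076 rfl
theorem s11u1077 : ∀ v, 1 ≤ v → v ≤ 324946 → fs11 v = true := slots_step fs11 324692 254 324946 s11u1076 s11c1077 rfl
theorem s11u1078 : ∀ v, 1 ≤ v → v ≤ 325209 → fs11 v = true := slots_step fs11 324946 263 325209 s11u1077 s11c1078 rfl
theorem s11u1079 : ∀ v, 1 ≤ v → v ≤ 325462 → fs11 v = true := slots_step fs11 325209 253 325462 s11u1078 s11c1079 rfl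
theorem s11u1080 : ∀ v, 1 ≤ v → v ≤ 325725 → fs11 v = true := slots_step fs11 325462 263 325725 s11u1079 s11c1080 rfl
theorem s11u1081 : ∀ v, 1 ≤ v → v ≤ 325948 → fs11 v = true := slots_step fs11 325725 223 325948 s11u1080 s11c1081 rfl
theorem s11u1082 : ∀ v, 1 ≤ v → v ≤ 326206 → fs11 v = true := slots_step fs11 325948 258 326206 s11u1081 s11c1082 rfl
theorem s11u1083 : ∀ v, 1 ≤ v → v ≤ 326466 → fs11 v = true := slots_step fs11 326206 260 326466 s11u1082 s11c1083 rfl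
theorem s11u1084 : ∀ v, 1 ≤ v → v ≤ 326737 → fs11 v = true := slots_step fs11 326466 271 326737 s11u1083 s11c1084 rfl
theorem s11u1085 : ∀ v, 1 ≤ v → v ≤ 326993 → fs11 v = true := slots_step fs11 326737 256 326993 s11u1084 s11c1085 rfl
theorem s11u1086 : ∀ v, 1 ≤ v → v ≤ 327240 → fs11 v = true := slots_step fs11 326993 247 327240 s11u1085 s11c1086 rfl
theorem s11u1087 : ∀ v, 1 ≤ v → v ≤ 327497 → fs11 v = true := slots_step fs11 327240 257 327497 s11u1086 s11c1087 rfl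
theorem s11u1088 : ∀ v, 1 ≤ v → v ≤ 327748 → fs11 v = true := slots_step fs11 327497 251 327748 s11u1087 s11c1088 rfl
theorem s11u1089 : ∀ v, 1 ≤ v → v ≤ 328020 → fs11 v = true := slots_step fs11 327748 272 328020 s11u1088 s11c1089 rfl
theorem s11u1090 : ∀ v, 1 ≤ v → v ≤ 328284 → fs11 v = true := slots_step fs11 328020 264 328284 s11u1089 s11c1090 rfl
theorem s11u1091 : ∀ v, 1 ≤ v → v ≤ 328532 → fs11 v = true := slots_step fs11 328284 248 328532 s11u1090 s11c1091 rfl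
theorem s11u1092 : ∀ v, 1 ≤ v → v ≤ 328747 → fs11 v = true := slots_step fs11 328532 215 328747 s11u1091 s11c1092 rfl
theorem s11u1093 : ∀ v, 1 ≤ v → v ≤ 329017 → fs11 v = true := slots_step fs11 328747 270 329017 s11u1092 s11c1093 rfl
theorem s11u1094 : ∀ v, 1 ≤ v → v ≤ 329287 → fs11 v = true := slots_step fs11 329017 270 329287 s11u1093 s11c1094 rfl
theorem s11u1095 : ∀ v, 1 ≤ v → v ≤ 329503 → fs11 v = true := slots_step fs11 329287 216 329503 s11u1094 s11c1095 rfl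
theorem s11u1096 : ∀ v, 1 ≤ v → v ≤ 329723 → fs11 v = true := slots_step fs11 329503 220 329723 s11u1095 s11c1096 rfl
theorem s11u1097 : ∀ v, 1 ≤ v → v ≤ 329949 → fs11 v = true := slots_step fs11 329723 226 329949 s11u1096 s11c1097 rfl
theorem s11u1098 : ∀ v, 1 ≤ v → v ≤ 330230 → fs11 v = true := slots_step fs11 329949 281 330230 s11u1097 s11c1098 rfl
theorem s11u1099 : ∀ v, 1 ≤ v → v ≤ 330454 → fs11 v = true := slots_step fs11 330230 224 330454 s11u1098 s11c1099 rfl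
theorem s11u1100 : ∀ v, 1 ≤ v → v ≤ 330708 → fs11 v = true := slots_step fs11 330454 254 330708 s11u1099 s11c1100 rfl
theorem s11u1101 : ∀ v, 1 ≤ v → v ≤ 330971 → fs11 v = true := slots_step fs11 330708 263 330971 s11u1100 s11c1101 rfl
theorem s11u1102 : ∀ v, 1 ≤ v → v ≤ 331254 → fs11 v = true := slots_step fs11 330971 283 331254 s11u1101 s11c1102 rfl
theorem s11u1103 : ∀ v, 1 ≤ v → v ≤ 331479 → fs11 v = true := slots_step fs11 331254 225 331479 s11u1102 s11c1103 rfl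
theorem s11u1104 : ∀ v, 1 ≤ v → v ≤ 331752 → fs11 v = true := slots_step fs11 331479 273 331752 s11u1103 s11c1104 rfl
theorem s11u1105 : ∀ v, 1 ≤ v → v ≤ 332014 → fs11 v = true := slots_step fs11 331752 262 332014 s11u1104 s11c1105 rfl
theorem s11u1106 : ∀ v, 1 ≤ v → v ≤ 332197 → fs11 v = true := slots_step fs11 332014 183 332197 s11u1105 s11c1106 rfl
theorem s11u1107 : ∀ v, 1 ≤ v → v ≤ 332412 → fs11 v = true := slots_step fs11 332197 215 332412 s11u1106 s11c1107 rfl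
theorem s11u1108 : ∀ v, 1 ≤ v → v ≤ 332681 → fs11 v = true := slots_step fs11 332412 269 332681 s11u1107 s11c1108 rfl
theorem s11u1109 : ∀ v, 1 ≤ v → v ≤ 332947 → fs11 v = true := slots_step fs11 332681 266 332947 s11u1108 s11c1109 rfl
theorem s11u1110 : ∀ v, 1 ≤ v → v ≤ 333216 → fs11 v = true := slots_step fs11 332947 269 333216 s11u1109 s11c1110 rfl
theorem s11u1111 : ∀ v, 1 ≤ v → v ≤ 333483 → fs11 v = true := slots_step fs11 333216 267 333483 s11u1110 s11c1111 rfl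
theorem s11u1112 : ∀ v, 1 ≤ v → v ≤ 333753 → fs11 v = true := slots_step fs11 333483 270 333753 s11u1111 s11c1112 rfl
theorem s11u1113 : ∀ v, 1 ≤ v → v ≤ 334020 → fs11 v = true := slots_step fs11 333753 267 334020 s11u1112 s11c1113 rfl
theorem s11u1114 : ∀ v, 1 ≤ v → v ≤ 334278 → fs11 v = true := slots_step fs11 334020 258 334278 s11u1113 s11c1114 rfl
theorem s11u1115 : ∀ v, 1 ≤ v → v ≤ 334509 → fs11 v = true := slots_step fs11 334278 231 334509 s11u1114 s11c1115 rfl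
theorem s11u1116 : ∀ v, 1 ≤ v → v ≤ 334777 → fs11 v = true := slots_step fs11 334509 268 334777 s11u1115 s11c1116 rfl
theorem s11u1117 : ∀ v, 1 ≤ v → v ≤ 335049 → fs11 v = true := slots_step fs11 334777 272 335049 s11u1116 s11c1117 rfl
theorem s11u1118 : ∀ v, 1 ≤ v → v ≤ 335319 → fs11 v = true := slots_step fs11 335049 270 335319 s11u1117 s11c1118 rfl
theorem s11u1119 : ∀ v, 1 ≤ v → v ≤ 335581 → fs11 v = true := slots_step fs11 335319 262 335581 s11u1118 s11c1119 rfl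
theorem s11u1120 : ∀ v, 1 ≤ v → v ≤ 335834 → fs11 v = true := slots_step fs11 335581 253 335834 s11u1119 s11c1120 rfl
theorem s11u1121 : ∀ v, 1 ≤ v → v ≤ 336106 → fs11 v = true := slots_step fs11 335834 272 336106 s11u1120 s11c1121 rfl
theorem s11u1122 : ∀ v, 1 ≤ v → v ≤ 336370 → fs11 v = true := slots_step fs11 336106 264 336370 s11u1121 s11c1122 rfl
theorem s11u1123 : ∀ v, 1 ≤ v → v ≤ 336620 → fs11 v = true := slots_step fs11 336370 250 336620 s11u1122 s11c1123 rfl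
theorem s11u1124 : ∀ v, 1 ≤ v → v ≤ 336872 → fs11 v = true := slots_step fs11 336620 252 336872 s11u1123 s11c1124 rfl
theorem s11u1125 : ∀ v, 1 ≤ v → v ≤ 337095 → fs11 v = true := slots_step fs11 336872 223 337095 s11u1124 s11c1125 rfl
theorem s11u1126 : ∀ v, 1 ≤ v → v ≤ 337346 → fs11 v = true := slots_step fs11 337095 251 337346 s11u1125 s11c1126 rfl
theorem s11u1127 : ∀ v, 1 ≤ v → v ≤ 337516 → fs11 v = true := slots_step fs11 337346 170 337516 s11u1126 s11c1127 rfl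
theorem s11u1128 : ∀ v, 1 ≤ v → v ≤ 337727 → fs11 v = true := slots_step fs11 337516 211 337727 s11u1127 s11c1128 rfl
theorem s11u1129 : ∀ v, 1 ≤ v → v ≤ 337978 → fs11 v = true := slots_step fs11 337727 251 337978 s11u1128 s11c1129 rfl
theorem s11u1130 : ∀ v, 1 ≤ v → v ≤ 338226 → fs11 v = true := slots_step fs11 337978 248 338226 s11u1129 s11c1130 rfl
theorem s11u1131 : ∀ v, 1 ≤ v → v ≤ 338434 → fs11 v = true := slots_step fs11 338226 208 338434 s11u1130 s11c1131 rfl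
theorem s11u1132 : ∀ v, 1 ≤ v → v ≤ 338605 → fs11 v = true := slots_step fs11 338434 171 338605 s11u1131 s11c1132 rfl
theorem s11u1133 : ∀ v, 1 ≤ v → v ≤ 338818 → fs11 v = true := slots_step fs11 338605 213 338818 s11u1132 s11c1133 rfl
theorem s11u1134 : ∀ v, 1 ≤ v → v ≤ 339010 → fs11 v = true := slots_step fs11 338818 192 339010 s11u1133 s11c1134 rfl
theorem s11u1135 : ∀ v, 1 ≤ v → v ≤ 339225 → fs11 v = true := slots_step fs11 339010 215 339225 s11u1134 s11c1135 rfl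
theorem s11u1136 : ∀ v, 1 ≤ v → v ≤ 339483 → fs11 v = true := slots_step fs11 339225 258 339483 s11u1135 s11c1136 rfl
theorem s11u1137 : ∀ v, 1 ≤ v → v ≤ 339745 → fs11 v = true := slots_step fs11 339483 262 339745 s11u1136 s11c1137 rfl
theorem s11u1138 : ∀ v, 1 ≤ v → v ≤ 340013 → fs11 v = true := slots_step fs11 339745 268 340013 s11u1137 s11c1138 rfl
theorem s11u1139 : ∀ v, 1 ≤ v → v ≤ 340185 → fs11 v = true := slots_step fs11 340013 172 340185 s11u1138 s11c1139 rfl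
theorem s11u1140 : ∀ v, 1 ≤ v → v ≤ 340437 → fs11 v = true := slots_step fs11 340185 252 340437 s11u1139 s11c1140 rfl
theorem s11u1141 : ∀ v, 1 ≤ v → v ≤ 340706 → fs11 v = true := slots_step fs11 340437 269 340706 s11u1140 s11c1141 rfl
theorem s11u1142 : ∀ v, 1 ≤ v → v ≤ 340970 → fs11 v = true := slots_step fs11 340706 264 340970 s11u1141 s11c1142 rfl
theorem s11u1143 : ∀ v, 1 ≤ v → v ≤ 341234 → fs11 v = true := slots_step fs11 340970 264 341234 s11u1142 s11c1143 rfl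
theorem s11u1144 : ∀ v, 1 ≤ v → v ≤ 341485 → fs11 v = true := slots_step fs11 341234 251 341485 s11u1143 s11c1144 rfl
theorem s11u1145 : ∀ v, 1 ≤ v → v ≤ 341734 → fs11 v = true := slots_step fs11 341485 249 341734 s11u1144 s11c1145 rfl
theorem s11u1146 : ∀ v, 1 ≤ v → v ≤ 341992 → fs11 v = true := slots_step fs11 341734 258 341992 s11u1145 s11c1146 rfl
theorem s11u1147 : ∀ v, 1 ≤ v → v ≤ 342261 → fs11 v = true := slots_step fs11 341992 269 342261 s11u1146 s11c1147 rfl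
theorem s11u1148 : ∀ v, 1 ≤ v → v ≤ 342526 → fs11 v = true := slots_step fs11 342261 265 342526 s11u1147 s11c1148 rfl
theorem s11u1149 : ∀ v, 1 ≤ v → v ≤ 342708 → fs11 v = true := slots_step fs11 342526 182 342708 s11u1148 s11c1149 rfl
theorem s11u1150 : ∀ v, 1 ≤ v → v ≤ 342939 → fs11 v = true := slots_step fs11 342708 231 342939 s11u1149 s11c1150 rfl
theorem s11u1151 : ∀ v, 1 ≤ v → v ≤ 343190 → fs11 v = true := slots_step fs11 342939 251 343190 s11u1150 s11c1151 rfl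
theorem s11u1152 : ∀ v, 1 ≤ v → v ≤ 343378 → fs11 v = true := slots_step fs11 343190 188 343378 s11u1151 s11c1152 rfl
theorem s11u1153 : ∀ v, 1 ≤ v → v ≤ 343649 → fs11 v = true := slots_step fs11 343378 271 343649 s11u1152 s11c1153 rfl
theorem s11u1154 : ∀ v, 1 ≤ v → v ≤ 343910 → fs11 v = true := slots_step fs11 343649 261 343910 s11u1153 s11c1154 rfl
theorem s11u1155 : ∀ v, 1 ≤ v → v ≤ 344177 → fs11 v = true := slots_step fs11 343910 267 344177 s11u1154 s11c1155 rfl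
theorem s11u1156 : ∀ v, 1 ≤ v → v ≤ 344309 → fs11 v = true := slots_step fs11 344177 132 344309 s11u1155 s11c1156 rfl
theorem s11u1157 : ∀ v, 1 ≤ v → v ≤ 344448 → fs11 v = true := slots_step fs11 344309 139 344448 s11u1156 s11c1157 rfl
theorem s11u1158 : ∀ v, 1 ≤ v → v ≤ 344713 → fs11 v = true := slots_step fs11 344448 265 344713 s11u1157 s11c1158 rfl
theorem s11u1159 : ∀ v, 1 ≤ v → v ≤ 344962 → fs11 v = true := slots_step fs11 344713 249 344962 s11u1158 s11c1159 rfl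
theorem s11u1160 : ∀ v, 1 ≤ v → v ≤ 345218 → fs11 v = true := slots_step fs11 344962 256 345218 s11u1159 s11c1160 rfl
theorem s11u1161 : ∀ v, 1 ≤ v → v ≤ 345487 → fs11 v = true := slots_step fs11 345218 269 345487 s11u1160 s11c1161 rfl
theorem s11u1162 : ∀ v, 1 ≤ v → v ≤ 345753 → fs11 v = true := slots_step fs11 345487 266 345753 s11u1161 s11c1162 rfl
theorem s11u1163 : ∀ v, 1 ≤ v → v ≤ 346020 → fs11 v = true := slots_step fs11 345753 267 346020 s11u1162 s11c1163 rfl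
theorem s11u1164 : ∀ v, 1 ≤ v → v ≤ 346291 → fs11 v = true := slots_step fs11 346020 271 346291 s11u1163 s11c1164 rfl
theorem s11u1165 : ∀ v, 1 ≤ v → v ≤ 346551 → fs11 v = true := slots_step fs11 346291 260 346551 s11u1164 s11c1165 rfl
theorem s11u1166 : ∀ v, 1 ≤ v → v ≤ 346804 → fs11 v = true := slots_step fs11 346551 253 346804 s11u1165 s11c1166 rfl
theorem s11u1167 : ∀ v, 1 ≤ v → v ≤ 347075 → fs11 v = true := slots_step fs11 346804 271 347075 s11u1166 s11c1167 rfl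
theorem s11u1168 : ∀ v, 1 ≤ v → v ≤ 347328 → fs11 v = true := slots_step fs11 347075 253 347328 s11u1167 s11c1168 rfl
theorem s11u1169 : ∀ v, 1 ≤ v → v ≤ 347467 → fs11 v = true := slots_step fs11 347328 139 347467 s11u1168 s11c1169 rfl
theorem s11u1170 : ∀ v, 1 ≤ v → v ≤ 347722 → fs11 v = true := slots_step fs11 347467 255 347722 s11u1169 s11c1170 rfl
theorem s11u1171 : ∀ v, 1 ≤ v → v ≤ 347965 → fs11 v = true := slots_step fs11 347722 243 347965 s11u1170 s11c1171 rfl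
theorem s11u1172 : ∀ v, 1 ≤ v → v ≤ 348214 → fs11 v = true := slots_step fs11 347965 249 348214 s11u1171 s11c1172 rfl
theorem s11u1173 : ∀ v, 1 ≤ v → v ≤ 348460 → fs11 v = true := slots_step fs11 348214 246 348460 s11u1172 s11c1173 rfl
theorem s11u1174 : ∀ v, 1 ≤ v → v ≤ 348667 → fs11 v = true := slots_step fs11 348460 207 348667 s11u1173 s11c1174 rfl
theorem s11u1175 : ∀ v, 1 ≤ v → v ≤ 348883 → fs11 v = true := slots_step fs11 348667 216 348883 s11u1174 s11c1175 rfl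
theorem s11u1176 : ∀ v, 1 ≤ v → v ≤ 349135 → fs11 v = true := slots_step fs11 348883 252 349135 s11u1175 s11c1176 rfl
theorem s11u1177 : ∀ v, 1 ≤ v → v ≤ 349396 → fs11 v = true := slots_step fs11 349135 261 349396 s11u1176 s11c1177 rfl
theorem s11u1178 : ∀ v, 1 ≤ v → v ≤ 349657 → fs11 v = true := slots_step fs11 349396 261 349657 s11u1177 s11c1178 rfl
theorem s11u1179 : ∀ v, 1 ≤ v → v ≤ 349877 → fs11 v = true := slots_step fs11 349657 220 349877 s11u1178 s11c1179 rfl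
theorem s11u1180 : ∀ v, 1 ≤ v → v ≤ 350125 → fs11 v = true := slots_step fs11 349877 248 350125 s11u1179 s11c1180 rfl
theorem s11u1181 : ∀ v, 1 ≤ v → v ≤ 350337 → fs11 v = true := slots_step fs11 350125 212 350337 s11u1180 s11c1181 rfl
theorem s11u1182 : ∀ v, 1 ≤ v → v ≤ 350604 → fs11 v = true := slots_step fs11 350337 267 350604 s11u1181 s11c1182 rfl
theorem s11u1183 : ∀ v, 1 ≤ v → v ≤ 350824 → fs11 v = true := slots_step fs11 350604 220 350824 s11u1182 s11c1183 rfl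
theorem s11u1184 : ∀ v, 1 ≤ v → v ≤ 351047 → fs11 v = true := slots_step fs11 350824 223 351047 s11u1183 s11c1184 rfl
theorem s11u1185 : ∀ v, 1 ≤ v → v ≤ 351267 → fs11 v = true := slots_step fs11 351047 220 351267 s11u1184 s11c1185 rfl
theorem s11u1186 : ∀ v, 1 ≤ v → v ≤ 351529 → fs11 v = true := slots_step fs11 351267 262 351529 s11u1185 s11c1186 rfl
theorem s11u1187 : ∀ v, 1 ≤ v → v ≤ 351750 → fs11 v = true := slots_step fs11 351529 221 351750 s11u1186 s11c1187 rfl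
theorem s11u1188 : ∀ v, 1 ≤ v → v ≤ 352002 → fs11 v = true := slots_step fs11 351750 252 352002 s11u1187 s11c1188 rfl
theorem s11u1189 : ∀ v, 1 ≤ v → v ≤ 352265 → fs11 v = true := slots_step fs11 352002 263 352265 s11u1188 s11c1189 rfl
theorem s11u1190 : ∀ v, 1 ≤ v → v ≤ 352536 → fs11 v = true := slots_step fs11 352265 271 352536 s11u1189 s11c1190 rfl
theorem s11u1191 : ∀ v, 1 ≤ v → v ≤ 352787 → fs11 v = true := slots_step fs11 352536 251 352787 s11u1190 s11c1191 rfl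
theorem s11u1192 : ∀ v, 1 ≤ v → v ≤ 353058 → fs11 v = true := slots_step fs11 352787 271 353058 s11u1191 s11c1192 rfl
theorem s11u1193 : ∀ v, 1 ≤ v → v ≤ 353315 → fs11 v = true := slots_step fs11 353058 257 353315 s11u1192 s11c1193 rfl
theorem s11u1194 : ∀ v, 1 ≤ v → v ≤ 353537 → fs11 v = true := slots_step fs11 353315 222 353537 s11u1193 s11c1194 rfl
theorem s11u1195 : ∀ v, 1 ≤ v → v ≤ 353702 → fs11 v = true := slots_step fs11 353537 165 353702 s11u1194 s11c1195 rfl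
theorem s11u1196 : ∀ v, 1 ≤ v → v ≤ 353941 → fs11 v = true := slots_step fs11 353702 239 353941 s11u1195 s11c1196 rfl
theorem s11u1197 : ∀ v, 1 ≤ v → v ≤ 354080 → fs11 v = true := slots_step fs11 353941 139 354080 s11u1196 s11c1197 rfl
theorem s11u1198 : ∀ v, 1 ≤ v → v ≤ 354332 → fs11 v = true := slots_step fs11 354080 252 354332 s11u1197 s11c1198 rfl
theorem s11u1199 : ∀ v, 1 ≤ v → v ≤ 354580 → fs11 v = true := slots_step fs11 354332 248 354580 s11u1198 s11c1199 rfl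
theorem s11u1200 : ∀ v, 1 ≤ v → v ≤ 354722 → fs11 v = true := slots_step fs11 354580 142 354722 s11u1199 s11c1200 rfl
theorem s11u1201 : ∀ v, 1 ≤ v → v ≤ 354979 → fs11 v = true := slots_step fs11 354722 257 354979 s11u1200 s11c1201 rfl
theorem s11u1202 : ∀ v, 1 ≤ v → v ≤ 355223 → fs11 v = true := slots_step fs11 354979 244 355223 s11u1201 s11c1202 rfl
theorem s11u1203 : ∀ v, 1 ≤ v → v ≤ 355476 → fs11 v = true := slots_step fs11 355223 253 355476 s11u1202 s11c1203 rfl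
theorem s11u1204 : ∀ v, 1 ≤ v → v ≤ 355724 → fs11 v = true := slots_step fs11 355476 248 355724 s11u1203 s11c1204 rfl
theorem s11u1205 : ∀ v, 1 ≤ v → v ≤ 355957 → fs11 v = true := slots_step fs11 355724 233 355957 s11u1204 s11c1205 rfl
theorem s11u1206 : ∀ v, 1 ≤ v → v ≤ 356160 → fs11 v = true := slots_step fs11 355957 203 356160 s11u1205 s11c1206 rfl
theorem s11u1207 : ∀ v, 1 ≤ v → v ≤ 356362 → fs11 v = true := slots_step fs11 356160 202 356362 s11u1206 s11c1207 rfl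
theorem s11u1208 : ∀ v, 1 ≤ v → v ≤ 356576 → fs11 v = true := slots_step fs11 356362 214 356576 s11u1207 s11c1208 rfl
theorem s11u1209 : ∀ v, 1 ≤ v → v ≤ 356778 → fs11 v = true := slots_step fs11 356576 202 356778 s11u1208 s11c1209 rfl
theorem s11u1210 : ∀ v, 1 ≤ v → v ≤ 357003 → fs11 v = true := slots_step fs11 356778 225 357003 s11u1209 s11c1210 rfl
theorem s11u1211 : ∀ v, 1 ≤ v → v ≤ 357238 → fs11 v = true := slots_step fs11 357003 235 357238 s11u1210 s11c1211 rfl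
theorem s11u1212 : ∀ v, 1 ≤ v → v ≤ 357465 → fs11 v = true := slots_step fs11 357238 227 357465 s11u1211 s11c1212 rfl
theorem s12u0 : ∀ v, 1 ≤ v → v ≤ 662 → fs12 v = true := slots_step fs12 0 662 662 (slots_zero fs12) s12c0 rfl
theorem s12u1 : ∀ v, 1 ≤ v → v ≤ 1343 → fs12 v = true := slots_step fs12 662 681 1343 s12u0 s12c1 rfl
theorem s12u2 : ∀ v, 1 ≤ v → v ≤ 1969 → fs12 v = true := slots_step fs12 1343 626 1969 s12u1 s12c2 rfl
theorem s12u3 : ∀ v, 1 ≤ v → v ≤ 2607 → fs12 v = true := slots_step fs12 1969 638 2607 s12u2 s12c3 rfl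
theorem s12u4 : ∀ v, 1 ≤ v → v ≤ 3250 → fs12 v = true := slots_step fs12 2607 643 3250 s12u3 s12c4 rfl
theorem s12u5 : ∀ v, 1 ≤ v → v ≤ 3860 → fs12 v = true := slots_step fs12 3250 610 3860 s12u4 s12c5 rfl
theorem s12u6 : ∀ v, 1 ≤ v → v ≤ 4420 → fs12 v = true := slots_step fs12 3860 560 4420 s12u5 s12c6 rfl
theorem s12u7 : ∀ v, 1 ≤ v → v ≤ 4972 → fs12 v = true := slots_step fs12 4420 552 4972 s12u6 s12c7 rfl
theorem s12u8 : ∀ v, 1 ≤ v → v ≤ 5560 → fs12 v = true := slots_step fs12 4972 588 5560 s12u7 s12c8 rfl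
theorem s12u9 : ∀ v, 1 ≤ v → v ≤ 6068 → fs12 v = true := slots_step fs12 5560 508 6068 s12u8 s12c9 rfl
theorem s12u10 : ∀ v, 1 ≤ v → v ≤ 6660 → fs12 v = true := slots_step fs12 6068 592 6660 s12u9 s12c10 rfl
theorem s12u11 : ∀ v, 1 ≤ v → v ≤ 7074 → fs12 v = true := slots_step fs12 6660 414 7074 s12u10 s12c11 rfl
theorem s12u12 : ∀ v, 1 ≤ v → v ≤ 7583 → fs12 v = true := slots_step fs12 7074 509 7583 s12u11 s12c12 rfl
theorem s12u13 : ∀ v, 1 ≤ v → v ≤ 8175 → fs12 v = true := slots_step fs12 7583 592 8175 s12u12 s12c13 rfl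
theorem s12u14 : ∀ v, 1 ≤ v → v ≤ 8635 → fs12 v = true := slots_step fs12 8175 460 8635 s12u13 s12c14 rfl
theorem s12u15 : ∀ v, 1 ≤ v → v ≤ 9197 → fs12 v = true := slots_step fs12 8635 562 9197 s12u14 s12c15 rfl
theorem s12u16 : ∀ v, 1 ≤ v → v ≤ 9547 → fs12 v = true := slots_step fs12 9197 350 9547 s12u15 s12c16 rfl
theorem s12u17 : ∀ v, 1 ≤ v → v ≤ 9964 → fs12 v = true := slots_step fs12 9547 417 9964 s12u16 s12c17 rfl
theorem s12u18 : ∀ v, 1 ≤ v → v ≤ 10455 → fs12 v = true := slots_step fs12 9964 491 10455 s12u17 s12c18 rfl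
theorem s12u19 : ∀ v, 1 ≤ v → v ≤ 11138 → fs12 v = true := slots_step fs12 10455 683 11138 s12u18 s12c19 rfl
theorem s12u20 : ∀ v, 1 ≤ v → v ≤ 11830 → fs12 v = true := slots_step fs12 11138 692 11830 s12u19 s12c20 rfl
theorem s12u21 : ∀ v, 1 ≤ v → v ≤ 12415 → fs12 v = true := slots_step fs12 11830 585 12415 s12u20 s12c21 rfl
theorem s12u22 : ∀ v, 1 ≤ v → v ≤ 12863 → fs12 v = true := slots_step fs12 12415 448 12863 s12u21 s12c22 rfl
theorem s12u23 : ∀ v, 1 ≤ v → v ≤ 13368 → fs12 v = true := slots_step fs12 12863 505 13368 s12u22 s12c23 rfl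
theorem s12u24 : ∀ v, 1 ≤ v → v ≤ 14018 → fs12 v = true := slots_step fs12 13368 650 14018 s12u23 s12c24 rfl
theorem s12u25 : ∀ v, 1 ≤ v → v ≤ 14510 → fs12 v = true := slots_step fs12 14018 492 14510 s12u24 s12c25 rfl
theorem s12u26 : ∀ v, 1 ≤ v → v ≤ 15197 → fs12 v = true := slots_step fs12 14510 687 15197 s12u25 s12c26 rfl
theorem s12u27 : ∀ v, 1 ≤ v → v ≤ 15808 → fs12 v = true := slots_step fs12 15197 611 15808 s12u26 s12c27 rfl
theorem s12u28 : ∀ v, 1 ≤ v → v ≤ 16246 → fs12 v = true := slots_step fs12 15808 438 16246 s12u27 s12c28 rfl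
theorem s12u29 : ∀ v, 1 ≤ v → v ≤ 16539 → fs12 v = true := slots_step fs12 16246 293 16539 s12u28 s12c29 rfl
theorem s12u30 : ∀ v, 1 ≤ v → v ≤ 17069 → fs12 v = true := slots_step fs12 16539 530 17069 s12u29 s12c30 rfl
theorem s12u31 : ∀ v, 1 ≤ v → v ≤ 17443 → fs12 v = true := slots_step fs12 17069 374 17443 s12u30 s12c31 rfl
theorem s12u32 : ∀ v, 1 ≤ v → v ≤ 18071 → fs12 v = true := slots_step fs12 17443 628 18071 s12u31 s12c32 rfl
theorem s12u33 : ∀ v, 1 ≤ v → v ≤ 18578 → fs12 v = true := slots_step fs12 18071 507 18578 s12u32 s12c33 rfl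
theorem s12u34 : ∀ v, 1 ≤ v → v ≤ 18991 → fs12 v = true := slots_step fs12 18578 413 18991 s12u33 s12c34 rfl
theorem s12u35 : ∀ v, 1 ≤ v → v ≤ 19644 → fs12 v = true := slots_step fs12 18991 653 19644 s12u34 s12c35 rfl
theorem s12u36 : ∀ v, 1 ≤ v → v ≤ 20213 → fs12 v = true := slots_step fs12 19644 569 20213 s12u35 s12c36 rfl
theorem s12u37 : ∀ v, 1 ≤ v → v ≤ 20730 → fs12 v = true := slots_step fs12 20213 517 20730 s12u36 s12c37 rfl
theorem s12u38 : ∀ v, 1 ≤ v → v ≤ 21205 → fs12 v = true := slots_step fs12 20730 475 21205 s12u37 s12c38 rfl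
theorem s12u39 : ∀ v, 1 ≤ v → v ≤ 21522 → fs12 v = true := slots_step fs12 21205 317 21522 s12u38 s12c39 rfl
theorem s12u40 : ∀ v, 1 ≤ v → v ≤ 21781 → fs12 v = true := slots_step fs12 21522 259 21781 s12u39 s12c40 rfl
theorem s12u41 : ∀ v, 1 ≤ v → v ≤ 22281 → fs12 v = true := slots_step fs12 21781 500 22281 s12u40 s12c41 rfl
theorem s12u42 : ∀ v, 1 ≤ v → v ≤ 22617 → fs12 v = true := slots_step fs12 22281 336 22617 s12u41 s12c42 rfl
theorem s12u43 : ∀ v, 1 ≤ v → v ≤ 22990 → fs12 v = true := slots_step fs12 22617 373 22990 s12u42 s12c43 rfl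
theorem s12u44 : ∀ v, 1 ≤ v → v ≤ 23465 → fs12 v = true := slots_step fs12 22990 475 23465 s12u43 s12c44 rfl
theorem s12u45 : ∀ v, 1 ≤ v → v ≤ 24009 → fs12 v = true := slots_step fs12 23465 544 24009 s12u44 s12c45 rfl
theorem s12u46 : ∀ v, 1 ≤ v → v ≤ 24429 → fs12 v = true := slots_step fs12 24009 420 24429 s12u45 s12c46 rfl
theorem s12u47 : ∀ v, 1 ≤ v → v ≤ 24946 → fs12 v = true := slots_step fs12 24429 517 24946 s12u46 s12c47 rfl
theorem s12u48 : ∀ v, 1 ≤ v → v ≤ 25231 → fs12 v = true := slots_step fs12 24946 285 25231 s12u47 s12c48 rfl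
theorem s12u49 : ∀ v, 1 ≤ v → v ≤ 25861 → fs12 v = true := slots_step fs12 25231 630 25861 s12u48 s12c49 rfl
theorem s12u50 : ∀ v, 1 ≤ v → v ≤ 26549 → fs12 v = true := slots_step fs12 25861 688 26549 s12u49 s12c50 rfl
theorem s12u51 : ∀ v, 1 ≤ v → v ≤ 26977 → fs12 v = true := slots_step fs12 26549 428 26977 s12u50 s12c51 rfl
theorem s12u52 : ∀ v, 1 ≤ v → v ≤ 27376 → fs12 v = true := slots_step fs12 26977 399 27376 s12u51 s12c52 rfl
theorem s12u53 : ∀ v, 1 ≤ v → v ≤ 27965 → fs12 v = true := slots_step fs12 27376 589 27965 s12u52 s12c53 rfl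
theorem s12u54 : ∀ v, 1 ≤ v → v ≤ 28305 → fs12 v = true := slots_step fs12 27965 340 28305 s12u53 s12c54 rfl
theorem s12u55 : ∀ v, 1 ≤ v → v ≤ 28619 → fs12 v = true := slots_step fs12 28305 314 28619 s12u54 s12c55 rfl
theorem s12u56 : ∀ v, 1 ≤ v → v ≤ 28878 → fs12 v = true := slots_step fs12 28619 259 28878 s12u55 s12c56 rfl
theorem s12u57 : ∀ v, 1 ≤ v → v ≤ 29104 → fs12 v = true := slots_step fs12 28878 226 29104 s12u56 s12c57 rfl
theorem s12u58 : ∀ v, 1 ≤ v → v ≤ 29632 → fs12 v = true := slots_step fs12 29104 528 29632 s12u57 s12c58 rfl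
theorem s12u59 : ∀ v, 1 ≤ v → v ≤ 29985 → fs12 v = true := slots_step fs12 29632 353 29985 s12u58 s12c59 rfl
theorem s12u60 : ∀ v, 1 ≤ v → v ≤ 30255 → fs12 v = true := slots_step fs12 29985 270 30255 s12u59 s12c60 rfl
theorem s12u61 : ∀ v, 1 ≤ v → v ≤ 30643 → fs12 v = true := slots_step fs12 30255 388 30643 s12u60 s12c61 rfl
theorem s12u62 : ∀ v, 1 ≤ v → v ≤ 30866 → fs12 v = true := slots_step fs12 30643 223 30866 s12u61 s12c62 rfl
theorem s12u63 : ∀ v, 1 ≤ v → v ≤ 31476 → fs12 v = true := slots_step fs12 30866 610 31476 s12u62 s12c63 rfl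
theorem s12u64 : ∀ v, 1 ≤ v → v ≤ 32063 → fs12 v = true := slots_step fs12 31476 587 32063 s12u63 s12c64 rfl
theorem s12u65 : ∀ v, 1 ≤ v → v ≤ 32432 → fs12 v = true := slots_step fs12 32063 369 32432 s12u64 s12c65 rfl
theorem s12u66 : ∀ v, 1 ≤ v → v ≤ 32778 → fs12 v = true := slots_step fs12 32432 346 32778 s12u65 s12c66 rfl
theorem s12u67 : ∀ v, 1 ≤ v → v ≤ 33306 → fs12 v = true := slots_step fs12 32778 528 33306 s12u66 s12c67 rfl
theorem s12u68 : ∀ v, 1 ≤ v → v ≤ 33609 → fs12 v = true := slots_step fs12 33306 303 33609 s12u67 s12c68 rfl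
theorem s12u69 : ∀ v, 1 ≤ v → v ≤ 33877 → fs12 v = true := slots_step fs12 33609 268 33877 s12u68 s12c69 rfl
theorem s12u70 : ∀ v, 1 ≤ v → v ≤ 34421 → fs12 v = true := slots_step fs12 33877 544 34421 s12u69 s12c70 rfl
theorem s12u71 : ∀ v, 1 ≤ v → v ≤ 35035 → fs12 v = true := slots_step fs12 34421 614 35035 s12u70 s12c71 rfl
theorem s12u72 : ∀ v, 1 ≤ v → v ≤ 35725 → fs12 v = true := slots_step fs12 35035 690 35725 s12u71 s12c72 rfl
theorem s12u73 : ∀ v, 1 ≤ v → v ≤ 36094 → fs12 v = true := slots_step fs12 35725 369 36094 s12u72 s12c73 rfl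
theorem s12u74 : ∀ v, 1 ≤ v → v ≤ 36519 → fs12 v = true := slots_step fs12 36094 425 36519 s12u73 s12c74 rfl
theorem s12u75 : ∀ v, 1 ≤ v → v ≤ 36874 → fs12 v = true := slots_step fs12 36519 355 36874 s12u74 s12c75 rfl
theorem s12u76 : ∀ v, 1 ≤ v → v ≤ 37240 → fs12 v = true := slots_step fs12 36874 366 37240 s12u75 s12c76 rfl
theorem s12u77 : ∀ v, 1 ≤ v → v ≤ 37838 → fs12 v = true := slots_step fs12 37240 598 37838 s12u76 s12c77 rfl
theorem s12u78 : ∀ v, 1 ≤ v → v ≤ 38124 → fs12 v = true := slots_step fs12 37838 286 38124 s12u77 s12c78 rfl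
theorem s12u79 : ∀ v, 1 ≤ v → v ≤ 38409 → fs12 v = true := slots_step fs12 38124 285 38409 s12u78 s12c79 rfl
theorem s12u80 : ∀ v, 1 ≤ v → v ≤ 38690 → fs12 v = true := slots_step fs12 38409 281 38690 s12u79 s12c80 rfl
theorem s12u81 : ∀ v, 1 ≤ v → v ≤ 38938 → fs12 v = true := slots_step fs12 38690 248 38938 s12u80 s12c81 rfl
theorem s12u82 : ∀ v, 1 ≤ v → v ≤ 39165 → fs12 v = true := slots_step fs12 38938 227 39165 s12u81 s12c82 rfl
theorem s12u83 : ∀ v, 1 ≤ v → v ≤ 39567 → fs12 v = true := slots_step fs12 39165 402 39567 s12u82 s12c83 rfl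
theorem s12u84 : ∀ v, 1 ≤ v → v ≤ 40082 → fs12 v = true := slots_step fs12 39567 515 40082 s12u83 s12c84 rfl
theorem s12u85 : ∀ v, 1 ≤ v → v ≤ 40355 → fs12 v = true := slots_step fs12 40082 273 40355 s12u84 s12c85 rfl
theorem s12u86 : ∀ v, 1 ≤ v → v ≤ 40631 → fs12 v = true := slots_step fs12 40355 276 40631 s12u85 s12c86 rfl
theorem s12u87 : ∀ v, 1 ≤ v → v ≤ 40942 → fs12 v = true := slots_step fs12 40631 311 40942 s12u86 s12c87 rfl
theorem s12u88 : ∀ v, 1 ≤ v → v ≤ 41265 → fs12 v = true := slots_step fs12 40942 323 41265 s12u87 s12c88 rfl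
theorem s12u89 : ∀ v, 1 ≤ v → v ≤ 41487 → fs12 v = true := slots_step fs12 41265 222 41487 s12u88 s12c89 rfl
theorem s12u90 : ∀ v, 1 ≤ v → v ≤ 41874 → fs12 v = true := slots_step fs12 41487 387 41874 s12u89 s12c90 rfl
theorem s12u91 : ∀ v, 1 ≤ v → v ≤ 42435 → fs12 v = true := slots_step fs12 41874 561 42435 s12u90 s12c91 rfl
theorem s12u92 : ∀ v, 1 ≤ v → v ≤ 43072 → fs12 v = true := slots_step fs12 42435 637 43072 s12u91 s12c92 rfl
theorem s12u93 : ∀ v, 1 ≤ v → v ≤ 43439 → fs12 v = true := slots_step fs12 43072 367 43439 s12u92 s12c93 rfl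
theorem s12u94 : ∀ v, 1 ≤ v → v ≤ 43757 → fs12 v = true := slots_step fs12 43439 318 43757 s12u93 s12c94 rfl
theorem s12u95 : ∀ v, 1 ≤ v → v ≤ 44106 → fs12 v = true := slots_step fs12 43757 349 44106 s12u94 s12c95 rfl
theorem s12u96 : ∀ v, 1 ≤ v → v ≤ 44411 → fs12 v = true := slots_step fs12 44106 305 44411 s12u95 s12c96 rfl
theorem s12u97 : ∀ v, 1 ≤ v → v ≤ 44887 → fs12 v = true := slots_step fs12 44411 476 44887 s12u96 s12c97 rfl
theorem s12u98 : ∀ v, 1 ≤ v → v ≤ 45281 → fs12 v = true := slots_step fs12 44887 394 45281 s12u97 s12c98 rfl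
theorem s12u99 : ∀ v, 1 ≤ v → v ≤ 45516 → fs12 v = true := slots_step fs12 45281 235 45516 s12u98 s12c99 rfl
theorem s12u100 : ∀ v, 1 ≤ v → v ≤ 45764 → fs12 v = true := slots_step fs12 45516 248 45764 s12u99 s12c100 rfl
theorem s12u101 : ∀ v, 1 ≤ v → v ≤ 46181 → fs12 v = true := slots_step fs12 45764 417 46181 s12u100 s12c101 rfl
theorem s12u102 : ∀ v, 1 ≤ v → v ≤ 46722 → fs12 v = true := slots_step fs12 46181 541 46722 s12u101 s12c102 rfl
theorem s12u103 : ∀ v, 1 ≤ v → v ≤ 47308 → fs12 v = true := slots_step fs12 46722 586 47308 s12u102 s12c103 rfl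
theorem s12u104 : ∀ v, 1 ≤ v → v ≤ 48055 → fs12 v = true := slots_step fs12 47308 747 48055 s12u103 s12c104 rfl
theorem s12u105 : ∀ v, 1 ≤ v → v ≤ 48546 → fs12 v = true := slots_step fs12 48055 491 48546 s12u104 s12c105 rfl
theorem s12u106 : ∀ v, 1 ≤ v → v ≤ 48885 → fs12 v = true := slots_step fs12 48546 339 48885 s12u105 s12c106 rfl
theorem s12u107 : ∀ v, 1 ≤ v → v ≤ 49267 → fs12 v = true := slots_step fs12 48885 382 49267 s12u106 s12c107 rfl
theorem s12u108 : ∀ v, 1 ≤ v → v ≤ 49654 → fs12 v = true := slots_step fs12 49267 387 49654 s12u107 s12c108 rfl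
theorem s12u109 : ∀ v, 1 ≤ v → v ≤ 49975 → fs12 v = true := slots_step fs12 49654 321 49975 s12u108 s12c109 rfl
theorem s12u110 : ∀ v, 1 ≤ v → v ≤ 50223 → fs12 v = true := slots_step fs12 49975 248 50223 s12u109 s12c110 rfl
theorem s12u111 : ∀ v, 1 ≤ v → v ≤ 50696 → fs12 v = true := slots_step fs12 50223 473 50696 s12u110 s12c111 rfl
theorem s12u112 : ∀ v, 1 ≤ v → v ≤ 51168 → fs12 v = true := slots_step fs12 50696 472 51168 s12u111 s12c112 rfl
theorem s12u113 : ∀ v, 1 ≤ v → v ≤ 51577 → fs12 v = true := slots_step fs12 51168 409 51577 s12u112 s12c113 rfl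
theorem s12u114 : ∀ v, 1 ≤ v → v ≤ 51806 → fs12 v = true := slots_step fs12 51577 229 51806 s12u113 s12c114 rfl
theorem s12u115 : ∀ v, 1 ≤ v → v ≤ 52072 → fs12 v = true := slots_step fs12 51806 266 52072 s12u114 s12c115 rfl
theorem s12u116 : ∀ v, 1 ≤ v → v ≤ 52350 → fs12 v = true := slots_step fs12 52072 278 52350 s12u115 s12c116 rfl
theorem s12u117 : ∀ v, 1 ≤ v → v ≤ 52599 → fs12 v = true := slots_step fs12 52350 249 52599 s12u116 s12c117 rfl
theorem s12u118 : ∀ v, 1 ≤ v → v ≤ 52824 → fs12 v = true := slots_step fs12 52599 225 52824 s12u117 s12c118 rfl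
theorem s12u119 : ∀ v, 1 ≤ v → v ≤ 53047 → fs12 v = true := slots_step fs12 52824 223 53047 s12u118 s12c119 rfl
theorem s12u120 : ∀ v, 1 ≤ v → v ≤ 53497 → fs12 v = true := slots_step fs12 53047 450 53497 s12u119 s12c120 rfl
theorem s12u121 : ∀ v, 1 ≤ v → v ≤ 53944 → fs12 v = true := slots_step fs12 53497 447 53944 s12u120 s12c121 rfl
theorem s12u122 : ∀ v, 1 ≤ v → v ≤ 54340 → fs12 v = true := slots_step fs12 53944 396 54340 s12u121 s12c122 rfl
theorem s12u123 : ∀ v, 1 ≤ v → v ≤ 54589 → fs12 v = true := slots_step fs12 54340 249 54589 s12u122 s12c123 rfl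
theorem s12u124 : ∀ v, 1 ≤ v → v ≤ 54848 → fs12 v = true := slots_step fs12 54589 259 54848 s12u123 s12c124 rfl
theorem s12u125 : ∀ v, 1 ≤ v → v ≤ 55099 → fs12 v = true := slots_step fs12 54848 251 55099 s12u124 s12c125 rfl
theorem s12u126 : ∀ v, 1 ≤ v → v ≤ 55399 → fs12 v = true := slots_step fs12 55099 300 55399 s12u125 s12c126 rfl
theorem s12u127 : ∀ v, 1 ≤ v → v ≤ 55697 → fs12 v = true := slots_step fs12 55399 298 55697 s12u126 s12c127 rfl
theorem s12u128 : ∀ v, 1 ≤ v → v ≤ 55932 → fs12 v = true := slots_step fs12 55697 235 55932 s12u127 s12c128 rfl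
theorem s12u129 : ∀ v, 1 ≤ v → v ≤ 56156 → fs12 v = true := slots_step fs12 55932 224 56156 s12u128 s12c129 rfl
theorem s12u130 : ∀ v, 1 ≤ v → v ≤ 56656 → fs12 v = true := slots_step fs12 56156 500 56656 s12u129 s12c130 rfl
theorem s12u131 : ∀ v, 1 ≤ v → v ≤ 57216 → fs12 v = true := slots_step fs12 56656 560 57216 s12u130 s12c131 rfl
theorem s12u132 : ∀ v, 1 ≤ v → v ≤ 57707 → fs12 v = true := slots_step fs12 57216 491 57707 s12u131 s12c132 rfl
theorem s12u133 : ∀ v, 1 ≤ v → v ≤ 58318 → fs12 v = true := slots_step fs12 57707 611 58318 s12u132 s12c133 rfl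
theorem s12u134 : ∀ v, 1 ≤ v → v ≤ 58689 → fs12 v = true := slots_step fs12 58318 371 58689 s12u133 s12c134 rfl
theorem s12u135 : ∀ v, 1 ≤ v → v ≤ 58977 → fs12 v = true := slots_step fs12 58689 288 58977 s12u134 s12c135 rfl
theorem s12u136 : ∀ v, 1 ≤ v → v ≤ 59290 → fs12 v = true := slots_step fs12 58977 313 59290 s12u135 s12c136 rfl
theorem s12u137 : ∀ v, 1 ≤ v → v ≤ 59614 → fs12 v = true := slots_step fs12 59290 324 59614 s12u136 s12c137 rfl
theorem s12u138 : ∀ v, 1 ≤ v → v ≤ 59896 → fs12 v = true := slots_step fs12 59614 282 59896 s12u137 s12c138 rfl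
theorem s12u139 : ∀ v, 1 ≤ v → v ≤ 60250 → fs12 v = true := slots_step fs12 59896 354 60250 s12u138 s12c139 rfl
theorem s12u140 : ∀ v, 1 ≤ v → v ≤ 60641 → fs12 v = true := slots_step fs12 60250 391 60641 s12u139 s12c140 rfl
theorem s12u141 : ∀ v, 1 ≤ v → v ≤ 61049 → fs12 v = true := slots_step fs12 60641 408 61049 s12u140 s12c141 rfl
theorem s12u142 : ∀ v, 1 ≤ v → v ≤ 61315 → fs12 v = true := slots_step fs12 61049 266 61315 s12u141 s12c142 rfl
theorem s12u143 : ∀ v, 1 ≤ v → v ≤ 61551 → fs12 v = true := slots_step fs12 61315 236 61551 s12u142 s12c143 rfl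
theorem s12u144 : ∀ v, 1 ≤ v → v ≤ 61795 → fs12 v = true := slots_step fs12 61551 244 61795 s12u143 s12c144 rfl
theorem s12u145 : ∀ v, 1 ≤ v → v ≤ 62125 → fs12 v = true := slots_step fs12 61795 330 62125 s12u144 s12c145 rfl
theorem s12u146 : ∀ v, 1 ≤ v → v ≤ 62679 → fs12 v = true := slots_step fs12 62125 554 62679 s12u145 s12c146 rfl
theorem s12u147 : ∀ v, 1 ≤ v → v ≤ 63140 → fs12 v = true := slots_step fs12 62679 461 63140 s12u146 s12c147 rfl
theorem s12u148 : ∀ v, 1 ≤ v → v ≤ 63747 → fs12 v = true := slots_step fs12 63140 607 63747 s12u147 s12c148 rfl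
theorem s12u149 : ∀ v, 1 ≤ v → v ≤ 64250 → fs12 v = true := slots_step fs12 63747 503 64250 s12u148 s12c149 rfl
theorem s12u150 : ∀ v, 1 ≤ v → v ≤ 64966 → fs12 v = true := slots_step fs12 64250 716 64966 s12u149 s12c150 rfl
theorem s12u151 : ∀ v, 1 ≤ v → v ≤ 65500 → fs12 v = true := slots_step fs12 64966 534 65500 s12u150 s12c151 rfl
theorem s12u152 : ∀ v, 1 ≤ v → v ≤ 65873 → fs12 v = true := slots_step fs12 65500 373 65873 s12u151 s12c152 rfl
theorem s12u153 : ∀ v, 1 ≤ v → v ≤ 66219 → fs12 v = true := slots_step fs12 65873 346 66219 s12u152 s12c153 rfl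
theorem s12u154 : ∀ v, 1 ≤ v → v ≤ 66535 → fs12 v = true := slots_step fs12 66219 316 66535 s12u153 s12c154 rfl
theorem s12u155 : ∀ v, 1 ≤ v → v ≤ 66916 → fs12 v = true := slots_step fs12 66535 381 66916 s12u154 s12c155 rfl
theorem s12u156 : ∀ v, 1 ≤ v → v ≤ 67243 → fs12 v = true := slots_step fs12 66916 327 67243 s12u155 s12c156 rfl
theorem s12u157 : ∀ v, 1 ≤ v → v ≤ 67548 → fs12 v = true := slots_step fs12 67243 305 67548 s12u156 s12c157 rfl
theorem s12u158 : ∀ v, 1 ≤ v → v ≤ 67811 → fs12 v = true := slots_step fs12 67548 263 67811 s12u157 s12c158 rfl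
theorem s12u159 : ∀ v, 1 ≤ v → v ≤ 68085 → fs12 v = true := slots_step fs12 67811 274 68085 s12u158 s12c159 rfl
theorem s12u160 : ∀ v, 1 ≤ v → v ≤ 68489 → fs12 v = true := slots_step fs12 68085 404 68489 s12u159 s12c160 rfl
theorem s12u161 : ∀ v, 1 ≤ v → v ≤ 68871 → fs12 v = true := slots_step fs12 68489 382 68871 s12u160 s12c161 rfl
theorem s12u162 : ∀ v, 1 ≤ v → v ≤ 69369 → fs12 v = true := slots_step fs12 68871 498 69369 s12u161 s12c162 rfl
theorem s12u163 : ∀ v, 1 ≤ v → v ≤ 69715 → fs12 v = true := slots_step fs12 69369 346 69715 s12u162 s12c163 rfl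
theorem s12u164 : ∀ v, 1 ≤ v → v ≤ 69938 → fs12 v = true := slots_step fs12 69715 223 69938 s12u163 s12c164 rfl
theorem s12u165 : ∀ v, 1 ≤ v → v ≤ 70190 → fs12 v = true := slots_step fs12 69938 252 70190 s12u164 s12c165 rfl
theorem s12u166 : ∀ v, 1 ≤ v → v ≤ 70447 → fs12 v = true := slots_step fs12 70190 257 70447 s12u165 s12c166 rfl
theorem s12u167 : ∀ v, 1 ≤ v → v ≤ 70690 → fs12 v = true := slots_step fs12 70447 243 70690 s12u166 s12c167 rfl
theorem s12u168 : ∀ v, 1 ≤ v → v ≤ 70927 → fs12 v = true := slots_step fs12 70690 237 70927 s12u167 s12c168 rfl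
theorem s12u169 : ∀ v, 1 ≤ v → v ≤ 71151 → fs12 v = true := slots_step fs12 70927 224 71151 s12u168 s12c169 rfl
theorem s12u170 : ∀ v, 1 ≤ v → v ≤ 71377 → fs12 v = true := slots_step fs12 71151 226 71377 s12u169 s12c170 rfl
theorem s12u171 : ∀ v, 1 ≤ v → v ≤ 71875 → fs12 v = true := slots_step fs12 71377 498 71875 s12u170 s12c171 rfl
theorem s12u172 : ∀ v, 1 ≤ v → v ≤ 72244 → fs12 v = true := slots_step fs12 71875 369 72244 s12u171 s12c172 rfl
theorem s12u173 : ∀ v, 1 ≤ v → v ≤ 72672 → fs12 v = true := slots_step fs12 72244 428 72672 s12u172 s12c173 rfl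
theorem s12u174 : ∀ v, 1 ≤ v → v ≤ 73038 → fs12 v = true := slots_step fs12 72672 366 73038 s12u173 s12c174 rfl
theorem s12u175 : ∀ v, 1 ≤ v → v ≤ 73285 → fs12 v = true := slots_step fs12 73038 247 73285 s12u174 s12c175 rfl
theorem s12u176 : ∀ v, 1 ≤ v → v ≤ 73525 → fs12 v = true := slots_step fs12 73285 240 73525 s12u175 s12c176 rfl
theorem s12u177 : ∀ v, 1 ≤ v → v ≤ 73776 → fs12 v = true := slots_step fs12 73525 251 73776 s12u176 s12c177 rfl
theorem s12u178 : ∀ v, 1 ≤ v → v ≤ 74016 → fs12 v = true := slots_step fs12 73776 240 74016 s12u177 s12c178 rfl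
theorem s12u179 : ∀ v, 1 ≤ v → v ≤ 74314 → fs12 v = true := slots_step fs12 74016 298 74314 s12u178 s12c179 rfl
theorem s12u180 : ∀ v, 1 ≤ v → v ≤ 74583 → fs12 v = true := slots_step fs12 74314 269 74583 s12u179 s12c180 rfl
theorem s12u181 : ∀ v, 1 ≤ v → v ≤ 74837 → fs12 v = true := slots_step fs12 74583 254 74837 s12u180 s12c181 rfl
theorem s12u182 : ∀ v, 1 ≤ v → v ≤ 75062 → fs12 v = true := slots_step fs12 74837 225 75062 s12u181 s12c182 rfl
theorem s12u183 : ∀ v, 1 ≤ v → v ≤ 75286 → fs12 v = true := slots_step fs12 75062 224 75286 s12u182 s12c183 rfl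
theorem s12u184 : ∀ v, 1 ≤ v → v ≤ 75833 → fs12 v = true := slots_step fs12 75286 547 75833 s12u183 s12c184 rfl
theorem s12u185 : ∀ v, 1 ≤ v → v ≤ 76334 → fs12 v = true := slots_step fs12 75833 501 76334 s12u184 s12c185 rfl
theorem s12u186 : ∀ v, 1 ≤ v → v ≤ 76842 → fs12 v = true := slots_step fs12 76334 508 76842 s12u185 s12c186 rfl
theorem s12u187 : ∀ v, 1 ≤ v → v ≤ 77311 → fs12 v = true := slots_step fs12 76842 469 77311 s12u186 s12c187 rfl
theorem s12u188 : ∀ v, 1 ≤ v → v ≤ 77872 → fs12 v = true := slots_step fs12 77311 561 77872 s12u187 s12c188 rfl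
theorem s12u189 : ∀ v, 1 ≤ v → v ≤ 78377 → fs12 v = true := slots_step fs12 77872 505 78377 s12u188 s12c189 rfl
theorem s12u190 : ∀ v, 1 ≤ v → v ≤ 78754 → fs12 v = true := slots_step fs12 78377 377 78754 s12u189 s12c190 rfl
theorem s12u191 : ∀ v, 1 ≤ v → v ≤ 79049 → fs12 v = true := slots_step fs12 78754 295 79049 s12u190 s12c191 rfl
theorem s12u192 : ∀ v, 1 ≤ v → v ≤ 79301 → fs12 v = true := slots_step fs12 79049 252 79301 s12u191 s12c192 rfl
theorem s12u193 : ∀ v, 1 ≤ v → v ≤ 79634 → fs12 v = true := slots_step fs12 79301 333 79634 s12u192 s12c193 rfl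
theorem s12u194 : ∀ v, 1 ≤ v → v ≤ 79931 → fs12 v = true := slots_step fs12 79634 297 79931 s12u193 s12c194 rfl
theorem s12u195 : ∀ v, 1 ≤ v → v ≤ 80202 → fs12 v = true := slots_step fs12 79931 271 80202 s12u194 s12c195 rfl
theorem s12u196 : ∀ v, 1 ≤ v → v ≤ 80458 → fs12 v = true := slots_step fs12 80202 256 80458 s12u195 s12c196 rfl
theorem s12u197 : ∀ v, 1 ≤ v → v ≤ 80926 → fs12 v = true := slots_step fs12 80458 468 80926 s12u196 s12c197 rfl
theorem s12u198 : ∀ v, 1 ≤ v → v ≤ 81226 → fs12 v = true := slots_step fs12 80926 300 81226 s12u197 s12c198 rfl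
theorem s12u199 : ∀ v, 1 ≤ v → v ≤ 81603 → fs12 v = true := slots_step fs12 81226 377 81603 s12u198 s12c199 rfl
theorem s12u200 : ∀ v, 1 ≤ v → v ≤ 81910 → fs12 v = true := slots_step fs12 81603 307 81910 s12u199 s12c200 rfl
theorem s12u201 : ∀ v, 1 ≤ v → v ≤ 82134 → fs12 v = true := slots_step fs12 81910 224 82134 s12u200 s12c201 rfl
theorem s12u202 : ∀ v, 1 ≤ v → v ≤ 82374 → fs12 v = true := slots_step fs12 82134 240 82374 s12u201 s12c202 rfl
theorem s12u203 : ∀ v, 1 ≤ v → v ≤ 82611 → fs12 v = true := slots_step fs12 82374 237 82611 s12u202 s12c203 rfl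
theorem s12u204 : ∀ v, 1 ≤ v → v ≤ 82977 → fs12 v = true := slots_step fs12 82611 366 82977 s12u203 s12c204 rfl
theorem s12u205 : ∀ v, 1 ≤ v → v ≤ 83410 → fs12 v = true := slots_step fs12 82977 433 83410 s12u204 s12c205 rfl
theorem s12u206 : ∀ v, 1 ≤ v → v ≤ 84048 → fs12 v = true := slots_step fs12 83410 638 84048 s12u205 s12c206 rfl
theorem s12u207 : ∀ v, 1 ≤ v → v ≤ 84418 → fs12 v = true := slots_step fs12 84048 370 84418 s12u206 s12c207 rfl
theorem s12u208 : ∀ v, 1 ≤ v → v ≤ 85081 → fs12 v = true := slots_step fs12 84418 663 85081 s12u207 s12c208 rfl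
theorem s12u209 : ∀ v, 1 ≤ v → v ≤ 85580 → fs12 v = true := slots_step fs12 85081 499 85580 s12u208 s12c209 rfl
theorem s12u210 : ∀ v, 1 ≤ v → v ≤ 86078 → fs12 v = true := slots_step fs12 85580 498 86078 s12u209 s12c210 rfl
theorem s12u211 : ∀ v, 1 ≤ v → v ≤ 86755 → fs12 v = true := slots_step fs12 86078 677 86755 s12u210 s12c211 rfl
theorem s12u212 : ∀ v, 1 ≤ v → v ≤ 87291 → fs12 v = true := slots_step fs12 86755 536 87291 s12u211 s12c212 rfl
theorem s12u213 : ∀ v, 1 ≤ v → v ≤ 87737 → fs12 v = true := slots_step fs12 87291 446 87737 s12u212 s12c213 rfl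
theorem s12u214 : ∀ v, 1 ≤ v → v ≤ 88114 → fs12 v = true := slots_step fs12 87737 377 88114 s12u213 s12c214 rfl
theorem s12u215 : ∀ v, 1 ≤ v → v ≤ 88417 → fs12 v = true := slots_step fs12 88114 303 88417 s12u214 s12c215 rfl
theorem s12u216 : ∀ v, 1 ≤ v → v ≤ 88709 → fs12 v = true := slots_step fs12 88417 292 88709 s12u215 s12c216 rfl
theorem s12u217 : ∀ v, 1 ≤ v → v ≤ 89035 → fs12 v = true := slots_step fs12 88709 326 89035 s12u216 s12c217 rfl
theorem s12u218 : ∀ v, 1 ≤ v → v ≤ 89397 → fs12 v = true := slots_step fs12 89035 362 89397 s12u217 s12c218 rfl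
theorem s12u219 : ∀ v, 1 ≤ v → v ≤ 89689 → fs12 v = true := slots_step fs12 89397 292 89689 s12u218 s12c219 rfl
theorem s12u220 : ∀ v, 1 ≤ v → v ≤ 90045 → fs12 v = true := slots_step fs12 89689 356 90045 s12u219 s12c220 rfl
theorem s12u221 : ∀ v, 1 ≤ v → v ≤ 90297 → fs12 v = true := slots_step fs12 90045 252 90297 s12u220 s12c221 rfl
theorem s12u222 : ∀ v, 1 ≤ v → v ≤ 90554 → fs12 v = true := slots_step fs12 90297 257 90554 s12u221 s12c222 rfl
theorem s12u223 : ∀ v, 1 ≤ v → v ≤ 90822 → fs12 v = true := slots_step fs12 90554 268 90822 s12u222 s12c223 rfl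
theorem s12u224 : ∀ v, 1 ≤ v → v ≤ 91194 → fs12 v = true := slots_step fs12 90822 372 91194 s12u223 s12c224 rfl
theorem s12u225 : ∀ v, 1 ≤ v → v ≤ 91612 → fs12 v = true := slots_step fs12 91194 418 91612 s12u224 s12c225 rfl
theorem s12u226 : ∀ v, 1 ≤ v → v ≤ 91934 → fs12 v = true := slots_step fs12 91612 322 91934 s12u225 s12c226 rfl
theorem s12u227 : ∀ v, 1 ≤ v → v ≤ 92342 → fs12 v = true := slots_step fs12 91934 408 92342 s12u226 s12c227 rfl
theorem s12u228 : ∀ v, 1 ≤ v → v ≤ 92698 → fs12 v = true := slots_step fs12 92342 356 92698 s12u227 s12c228 rfl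
theorem s12u229 : ∀ v, 1 ≤ v → v ≤ 92966 → fs12 v = true := slots_step fs12 92698 268 92966 s12u228 s12c229 rfl
theorem s12u230 : ∀ v, 1 ≤ v → v ≤ 93211 → fs12 v = true := slots_step fs12 92966 245 93211 s12u229 s12c230 rfl
theorem s12u231 : ∀ v, 1 ≤ v → v ≤ 93449 → fs12 v = true := slots_step fs12 93211 238 93449 s12u230 s12c231 rfl
theorem s12u232 : ∀ v, 1 ≤ v → v ≤ 93703 → fs12 v = true := slots_step fs12 93449 254 93703 s12u231 s12c232 rfl
theorem s12u233 : ∀ v, 1 ≤ v → v ≤ 93933 → fs12 v = true := slots_step fs12 93703 230 93933 s12u232 s12c233 rfl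
theorem s12u234 : ∀ v, 1 ≤ v → v ≤ 94156 → fs12 v = true := slots_step fs12 93933 223 94156 s12u233 s12c234 rfl
theorem s12u235 : ∀ v, 1 ≤ v → v ≤ 94415 → fs12 v = true := slots_step fs12 94156 259 94415 s12u234 s12c235 rfl
theorem s12u236 : ∀ v, 1 ≤ v → v ≤ 94903 → fs12 v = true := slots_step fs12 94415 488 94903 s12u235 s12c236 rfl
theorem s12u237 : ∀ v, 1 ≤ v → v ≤ 95267 → fs12 v = true := slots_step fs12 94903 364 95267 s12u236 s12c237 rfl
theorem s12u238 : ∀ v, 1 ≤ v → v ≤ 95636 → fs12 v = true := slots_step fs12 95267 369 95636 s12u237 s12c238 rfl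
theorem s12u239 : ∀ v, 1 ≤ v → v ≤ 96038 → fs12 v = true := slots_step fs12 95636 402 96038 s12u238 s12c239 rfl
theorem s12u240 : ∀ v, 1 ≤ v → v ≤ 96417 → fs12 v = true := slots_step fs12 96038 379 96417 s12u239 s12c240 rfl
theorem s12u241 : ∀ v, 1 ≤ v → v ≤ 96665 → fs12 v = true := slots_step fs12 96417 248 96665 s12u240 s12c241 rfl
theorem s12u242 : ∀ v, 1 ≤ v → v ≤ 96907 → fs12 v = true := slots_step fs12 96665 242 96907 s12u241 s12c242 rfl
theorem s12u243 : ∀ v, 1 ≤ v → v ≤ 97160 → fs12 v = true := slots_step fs12 96907 253 97160 s12u242 s12c243 rfl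
theorem s12u244 : ∀ v, 1 ≤ v → v ≤ 97402 → fs12 v = true := slots_step fs12 97160 242 97402 s12u243 s12c244 rfl
theorem s12u245 : ∀ v, 1 ≤ v → v ≤ 97665 → fs12 v = true := slots_step fs12 97402 263 97665 s12u244 s12c245 rfl
theorem s12u246 : ∀ v, 1 ≤ v → v ≤ 97926 → fs12 v = true := slots_step fs12 97665 261 97926 s12u245 s12c246 rfl
theorem s12u247 : ∀ v, 1 ≤ v → v ≤ 98201 → fs12 v = true := slots_step fs12 97926 275 98201 s12u246 s12c247 rfl
theorem s12u248 : ∀ v, 1 ≤ v → v ≤ 98431 → fs12 v = true := slots_step fs12 98201 230 98431 s12u247 s12c248 rfl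
theorem s12u249 : ∀ v, 1 ≤ v → v ≤ 98656 → fs12 v = true := slots_step fs12 98431 225 98656 s12u248 s12c249 rfl
theorem s12u250 : ∀ v, 1 ≤ v → v ≤ 98955 → fs12 v = true := slots_step fs12 98656 299 98955 s12u249 s12c250 rfl
theorem s12u251 : ∀ v, 1 ≤ v → v ≤ 99575 → fs12 v = true := slots_step fs12 98955 620 99575 s12u250 s12c251 rfl
theorem s12u252 : ∀ v, 1 ≤ v → v ≤ 100008 → fs12 v = true := slots_step fs12 99575 433 100008 s12u251 s12c252 rfl
theorem s12u253 : ∀ v, 1 ≤ v → v ≤ 100668 → fs12 v = true := slots_step fs12 100008 660 100668 s12u252 s12c253 rfl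
theorem s12u254 : ∀ v, 1 ≤ v → v ≤ 101041 → fs12 v = true := slots_step fs12 100668 373 101041 s12u253 s12c254 rfl
theorem s12u255 : ∀ v, 1 ≤ v → v ≤ 101460 → fs12 v = true := slots_step fs12 101041 419 101460 s12u254 s12c255 rfl
theorem s12u256 : ∀ v, 1 ≤ v → v ≤ 102045 → fs12 v = true := slots_step fs12 101460 585 102045 s12u255 s12c256 rfl
theorem s12u257 : ∀ v, 1 ≤ v → v ≤ 102572 → fs12 v = true := slots_step fs12 102045 527 102572 s12u256 s12c257 rfl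
theorem s12u258 : ∀ v, 1 ≤ v → v ≤ 103011 → fs12 v = true := slots_step fs12 102572 439 103011 s12u257 s12c258 rfl
theorem s12u259 : ∀ v, 1 ≤ v → v ≤ 103389 → fs12 v = true := slots_step fs12 103011 378 103389 s12u258 s12c259 rfl
theorem s12u260 : ∀ v, 1 ≤ v → v ≤ 103679 → fs12 v = true := slots_step fs12 103389 290 103679 s12u259 s12c260 rfl
theorem s12u261 : ∀ v, 1 ≤ v → v ≤ 103936 → fs12 v = true := slots_step fs12 103679 257 103936 s12u260 s12c261 rfl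
theorem s12u262 : ∀ v, 1 ≤ v → v ≤ 104237 → fs12 v = true := slots_step fs12 103936 301 104237 s12u261 s12c262 rfl
theorem s12u263 : ∀ v, 1 ≤ v → v ≤ 104530 → fs12 v = true := slots_step fs12 104237 293 104530 s12u262 s12c263 rfl
theorem s12u264 : ∀ v, 1 ≤ v → v ≤ 104820 → fs12 v = true := slots_step fs12 104530 290 104820 s12u263 s12c264 rfl
theorem s12u265 : ∀ v, 1 ≤ v → v ≤ 105084 → fs12 v = true := slots_step fs12 104820 264 105084 s12u264 s12c265 rfl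
theorem s12u266 : ∀ v, 1 ≤ v → v ≤ 105463 → fs12 v = true := slots_step fs12 105084 379 105463 s12u265 s12c266 rfl
theorem s12u267 : ∀ v, 1 ≤ v → v ≤ 105885 → fs12 v = true := slots_step fs12 105463 422 105885 s12u266 s12c267 rfl
theorem s12u268 : ∀ v, 1 ≤ v → v ≤ 106161 → fs12 v = true := slots_step fs12 105885 276 106161 s12u267 s12c268 rfl
theorem s12u269 : ∀ v, 1 ≤ v → v ≤ 106499 → fs12 v = true := slots_step fs12 106161 338 106499 s12u268 s12c269 rfl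
theorem s12u270 : ∀ v, 1 ≤ v → v ≤ 106803 → fs12 v = true := slots_step fs12 106499 304 106803 s12u269 s12c270 rfl
theorem s12u271 : ∀ v, 1 ≤ v → v ≤ 107041 → fs12 v = true := slots_step fs12 106803 238 107041 s12u270 s12c271 rfl
theorem s12u272 : ∀ v, 1 ≤ v → v ≤ 107281 → fs12 v = true := slots_step fs12 107041 240 107281 s12u271 s12c272 rfl
theorem s12u273 : ∀ v, 1 ≤ v → v ≤ 107563 → fs12 v = true := slots_step fs12 107281 282 107563 s12u272 s12c273 rfl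
theorem s12u274 : ∀ v, 1 ≤ v → v ≤ 108054 → fs12 v = true := slots_step fs12 107563 491 108054 s12u273 s12c274 rfl
theorem s12u275 : ∀ v, 1 ≤ v → v ≤ 108467 → fs12 v = true := slots_step fs12 108054 413 108467 s12u274 s12c275 rfl
theorem s12u276 : ∀ v, 1 ≤ v → v ≤ 109115 → fs12 v = true := slots_step fs12 108467 648 109115 s12u275 s12c276 rfl
theorem s12u277 : ∀ v, 1 ≤ v → v ≤ 109459 → fs12 v = true := slots_step fs12 109115 344 109459 s12u276 s12c277 rfl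
theorem s12u278 : ∀ v, 1 ≤ v → v ≤ 109963 → fs12 v = true := slots_step fs12 109459 504 109963 s12u277 s12c278 rfl
theorem s12u279 : ∀ v, 1 ≤ v → v ≤ 110608 → fs12 v = true := slots_step fs12 109963 645 110608 s12u278 s12c279 rfl
theorem s12u280 : ∀ v, 1 ≤ v → v ≤ 110979 → fs12 v = true := slots_step fs12 110608 371 110979 s12u279 s12c280 rfl
theorem s12u281 : ∀ v, 1 ≤ v → v ≤ 111494 → fs12 v = true := slots_step fs12 110979 515 111494 s12u280 s12c281 rfl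
theorem s12u282 : ∀ v, 1 ≤ v → v ≤ 112044 → fs12 v = true := slots_step fs12 111494 550 112044 s12u281 s12c282 rfl
theorem s12u283 : ∀ v, 1 ≤ v → v ≤ 112684 → fs12 v = true := slots_step fs12 112044 640 112684 s12u282 s12c283 rfl
theorem s12u284 : ∀ v, 1 ≤ v → v ≤ 113214 → fs12 v = true := slots_step fs12 112684 530 113214 s12u283 s12c284 rfl
theorem s12u285 : ∀ v, 1 ≤ v → v ≤ 113718 → fs12 v = true := slots_step fs12 113214 504 113718 s12u284 s12c285 rfl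
theorem s12u286 : ∀ v, 1 ≤ v → v ≤ 114178 → fs12 v = true := slots_step fs12 113718 460 114178 s12u285 s12c286 rfl
theorem s12u287 : ∀ v, 1 ≤ v → v ≤ 114593 → fs12 v = true := slots_step fs12 114178 415 114593 s12u286 s12c287 rfl
theorem s12u288 : ∀ v, 1 ≤ v → v ≤ 114845 → fs12 v = true := slots_step fs12 114593 252 114845 s12u287 s12c288 rfl
theorem s12u289 : ∀ v, 1 ≤ v → v ≤ 115174 → fs12 v = true := slots_step fs12 114845 329 115174 s12u288 s12c289 rfl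
theorem s12u290 : ∀ v, 1 ≤ v → v ≤ 115443 → fs12 v = true := slots_step fs12 115174 269 115443 s12u289 s12c290 rfl
theorem s12u291 : ∀ v, 1 ≤ v → v ≤ 115781 → fs12 v = true := slots_step fs12 115443 338 115781 s12u290 s12c291 rfl
theorem s12u292 : ∀ v, 1 ≤ v → v ≤ 116122 → fs12 v = true := slots_step fs12 115781 341 116122 s12u291 s12c292 rfl
theorem s12u293 : ∀ v, 1 ≤ v → v ≤ 116397 → fs12 v = true := slots_step fs12 116122 275 116397 s12u292 s12c293 rfl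
theorem s12u294 : ∀ v, 1 ≤ v → v ≤ 116720 → fs12 v = true := slots_step fs12 116397 323 116720 s12u293 s12c294 rfl
theorem s12u295 : ∀ v, 1 ≤ v → v ≤ 117009 → fs12 v = true := slots_step fs12 116720 289 117009 s12u294 s12c295 rfl
theorem s12u296 : ∀ v, 1 ≤ v → v ≤ 117264 → fs12 v = true := slots_step fs12 117009 255 117264 s12u295 s12c296 rfl
theorem s12u297 : ∀ v, 1 ≤ v → v ≤ 117547 → fs12 v = true := slots_step fs12 117264 283 117547 s12u296 s12c297 rfl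
theorem s12u298 : ∀ v, 1 ≤ v → v ≤ 117878 → fs12 v = true := slots_step fs12 117547 331 117878 s12u297 s12c298 rfl
theorem s12u299 : ∀ v, 1 ≤ v → v ≤ 118311 → fs12 v = true := slots_step fs12 117878 433 118311 s12u298 s12c299 rfl
theorem s12u300 : ∀ v, 1 ≤ v → v ≤ 118600 → fs12 v = true := slots_step fs12 118311 289 118600 s12u299 s12c300 rfl
theorem s12u301 : ∀ v, 1 ≤ v → v ≤ 119005 → fs12 v = true := slots_step fs12 118600 405 119005 s12u300 s12c301 rfl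
theorem s12u302 : ∀ v, 1 ≤ v → v ≤ 119379 → fs12 v = true := slots_step fs12 119005 374 119379 s12u301 s12c302 rfl
theorem s12u303 : ∀ v, 1 ≤ v → v ≤ 119658 → fs12 v = true := slots_step fs12 119379 279 119658 s12u302 s12c303 rfl
theorem s12u304 : ∀ v, 1 ≤ v → v ≤ 119892 → fs12 v = true := slots_step fs12 119658 234 119892 s12u303 s12c304 rfl
theorem s12u305 : ∀ v, 1 ≤ v → v ≤ 120137 → fs12 v = true := slots_step fs12 119892 245 120137 s12u304 s12c305 rfl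
theorem s12u306 : ∀ v, 1 ≤ v → v ≤ 120355 → fs12 v = true := slots_step fs12 120137 218 120355 s12u305 s12c306 rfl
theorem s12u307 : ∀ v, 1 ≤ v → v ≤ 120651 → fs12 v = true := slots_step fs12 120355 296 120651 s12u306 s12c307 rfl
theorem s12u308 : ∀ v, 1 ≤ v → v ≤ 121097 → fs12 v = true := slots_step fs12 120651 446 121097 s12u307 s12c308 rfl
theorem s12u309 : ∀ v, 1 ≤ v → v ≤ 121495 → fs12 v = true := slots_step fs12 121097 398 121495 s12u308 s12c309 rfl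
theorem s12u310 : ∀ v, 1 ≤ v → v ≤ 121820 → fs12 v = true := slots_step fs12 121495 325 121820 s12u309 s12c310 rfl
theorem s12u311 : ∀ v, 1 ≤ v → v ≤ 122281 → fs12 v = true := slots_step fs12 121820 461 122281 s12u310 s12c311 rfl
theorem s12u312 : ∀ v, 1 ≤ v → v ≤ 122646 → fs12 v = true := slots_step fs12 122281 365 122646 s12u311 s12c312 rfl
theorem s12u313 : ∀ v, 1 ≤ v → v ≤ 123031 → fs12 v = true := slots_step fs12 122646 385 123031 s12u312 s12c313 rfl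
theorem s12u314 : ∀ v, 1 ≤ v → v ≤ 123272 → fs12 v = true := slots_step fs12 123031 241 123272 s12u313 s12c314 rfl
theorem s12u315 : ∀ v, 1 ≤ v → v ≤ 123505 → fs12 v = true := slots_step fs12 123272 233 123505 s12u314 s12c315 rfl
theorem s12u316 : ∀ v, 1 ≤ v → v ≤ 123762 → fs12 v = true := slots_step fs12 123505 257 123762 s12u315 s12c316 rfl
theorem s12u317 : ∀ v, 1 ≤ v → v ≤ 124048 → fs12 v = true := slots_step fs12 123762 286 124048 s12u316 s12c317 rfl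
theorem s12u318 : ∀ v, 1 ≤ v → v ≤ 124300 → fs12 v = true := slots_step fs12 124048 252 124300 s12u317 s12c318 rfl
theorem s12u319 : ∀ v, 1 ≤ v → v ≤ 124542 → fs12 v = true := slots_step fs12 124300 242 124542 s12u318 s12c319 rfl
theorem s12u320 : ∀ v, 1 ≤ v → v ≤ 124910 → fs12 v = true := slots_step fs12 124542 368 124910 s12u319 s12c320 rfl
theorem s12u321 : ∀ v, 1 ≤ v → v ≤ 125708 → fs12 v = true := slots_step fs12 124910 798 125708 s12u320 s12c321 rfl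
theorem s12u322 : ∀ v, 1 ≤ v → v ≤ 126506 → fs12 v = true := slots_step fs12 125708 798 126506 s12u321 s12c322 rfl
theorem s12u323 : ∀ v, 1 ≤ v → v ≤ 127304 → fs12 v = true := slots_step fs12 126506 798 127304 s12u322 s12c323 rfl
theorem s12u324 : ∀ v, 1 ≤ v → v ≤ 128102 → fs12 v = true := slots_step fs12 127304 798 128102 s12u323 s12c324 rfl
theorem s12u325 : ∀ v, 1 ≤ v → v ≤ 128900 → fs12 v = true := slots_step fs12 128102 798 128900 s12u324 s12c325 rfl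
theorem s12u326 : ∀ v, 1 ≤ v → v ≤ 129698 → fs12 v = true := slots_step fs12 128900 798 129698 s12u325 s12c326 rfl
theorem s12u327 : ∀ v, 1 ≤ v → v ≤ 130496 → fs12 v = true := slots_step fs12 129698 798 130496 s12u326 s12c327 rfl
theorem s12u328 : ∀ v, 1 ≤ v → v ≤ 131267 → fs12 v = true := slots_step fs12 130496 771 131267 s12u327 s12c328 rfl
theorem s12u329 : ∀ v, 1 ≤ v → v ≤ 132056 → fs12 v = true := slots_step fs12 131267 789 132056 s12u328 s12c329 rfl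
theorem s12u330 : ∀ v, 1 ≤ v → v ≤ 132854 → fs12 v = true := slots_step fs12 132056 798 132854 s12u329 s12c330 rfl
theorem s12u331 : ∀ v, 1 ≤ v → v ≤ 133652 → fs12 v = true := slots_step fs12 132854 798 133652 s12u330 s12c331 rfl
theorem s12u332 : ∀ v, 1 ≤ v → v ≤ 134450 → fs12 v = true := slots_step fs12 133652 798 134450 s12u331 s12c332 rfl
theorem s12u333 : ∀ v, 1 ≤ v → v ≤ 135248 → fs12 v = true := slots_step fs12 134450 798 135248 s12u332 s12c333 rfl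
theorem s12u334 : ∀ v, 1 ≤ v → v ≤ 136046 → fs12 v = true := slots_step fs12 135248 798 136046 s12u333 s12c334 rfl
theorem s12u335 : ∀ v, 1 ≤ v → v ≤ 136844 → fs12 v = true := slots_step fs12 136046 798 136844 s12u334 s12c335 rfl
theorem s12u336 : ∀ v, 1 ≤ v → v ≤ 137642 → fs12 v = true := slots_step fs12 136844 798 137642 s12u335 s12c336 rfl
theorem s12u337 : ∀ v, 1 ≤ v → v ≤ 138440 → fs12 v = true := slots_step fs12 137642 798 138440 s12u336 s12c337 rfl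
theorem s12u338 : ∀ v, 1 ≤ v → v ≤ 139235 → fs12 v = true := slots_step fs12 138440 795 139235 s12u337 s12c338 rfl
theorem s12u339 : ∀ v, 1 ≤ v → v ≤ 140033 → fs12 v = true := slots_step fs12 139235 798 140033 s12u338 s12c339 rfl
theorem s12u340 : ∀ v, 1 ≤ v → v ≤ 140831 → fs12 v = true := slots_step fs12 140033 798 140831 s12u339 s12c340 rfl
theorem s12u341 : ∀ v, 1 ≤ v → v ≤ 141629 → fs12 v = true := slots_step fs12 140831 798 141629 s12u340 s12c341 rfl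
theorem s12u342 : ∀ v, 1 ≤ v → v ≤ 142427 → fs12 v = true := slots_step fs12 141629 798 142427 s12u341 s12c342 rfl
theorem s12u343 : ∀ v, 1 ≤ v → v ≤ 143225 → fs12 v = true := slots_step fs12 142427 798 143225 s12u342 s12c343 rfl
theorem s12u344 : ∀ v, 1 ≤ v → v ≤ 144023 → fs12 v = true := slots_step fs12 143225 798 144023 s12u343 s12c344 rfl
theorem s12u345 : ∀ v, 1 ≤ v → v ≤ 144821 → fs12 v = true := slots_step fs12 144023 798 144821 s12u344 s12c345 rfl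
theorem s12u346 : ∀ v, 1 ≤ v → v ≤ 145619 → fs12 v = true := slots_step fs12 144821 798 145619 s12u345 s12c346 rfl
theorem s12u347 : ∀ v, 1 ≤ v → v ≤ 146417 → fs12 v = true := slots_step fs12 145619 798 146417 s12u346 s12c347 rfl
theorem s12u348 : ∀ v, 1 ≤ v → v ≤ 147215 → fs12 v = true := slots_step fs12 146417 798 147215 s12u347 s12c348 rfl
theorem s12u349 : ∀ v, 1 ≤ v → v ≤ 148013 → fs12 v = true := slots_step fs12 147215 798 148013 s12u348 s12c349 rfl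
theorem s12u350 : ∀ v, 1 ≤ v → v ≤ 148811 → fs12 v = true := slots_step fs12 148013 798 148811 s12u349 s12c350 rfl
theorem s12u351 : ∀ v, 1 ≤ v → v ≤ 149609 → fs12 v = true := slots_step fs12 148811 798 149609 s12u350 s12c351 rfl
theorem s12u352 : ∀ v, 1 ≤ v → v ≤ 150407 → fs12 v = true := slots_step fs12 149609 798 150407 s12u351 s12c352 rfl
theorem s12u353 : ∀ v, 1 ≤ v → v ≤ 151205 → fs12 v = true := slots_step fs12 150407 798 151205 s12u352 s12c353 rfl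
theorem s12u354 : ∀ v, 1 ≤ v → v ≤ 152003 → fs12 v = true := slots_step fs12 151205 798 152003 s12u353 s12c354 rfl
theorem s12u355 : ∀ v, 1 ≤ v → v ≤ 152801 → fs12 v = true := slots_step fs12 152003 798 152801 s12u354 s12c355 rfl
theorem s12u356 : ∀ v, 1 ≤ v → v ≤ 153599 → fs12 v = true := slots_step fs12 152801 798 153599 s12u355 s12c356 rfl
theorem s12u357 : ∀ v, 1 ≤ v → v ≤ 154397 → fs12 v = true := slots_step fs12 153599 798 154397 s12u356 s12c357 rfl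
theorem s12u358 : ∀ v, 1 ≤ v → v ≤ 155195 → fs12 v = true := slots_step fs12 154397 798 155195 s12u357 s12c358 rfl
theorem s12u359 : ∀ v, 1 ≤ v → v ≤ 155993 → fs12 v = true := slots_step fs12 155195 798 155993 s12u358 s12c359 rfl
theorem s12u360 : ∀ v, 1 ≤ v → v ≤ 156791 → fs12 v = true := slots_step fs12 155993 798 156791 s12u359 s12c360 rfl
theorem s12u361 : ∀ v, 1 ≤ v → v ≤ 157589 → fs12 v = true := slots_step fs12 156791 798 157589 s12u360 s12c361 rfl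
theorem s12u362 : ∀ v, 1 ≤ v → v ≤ 158387 → fs12 v = true := slots_step fs12 157589 798 158387 s12u361 s12c362 rfl
theorem s12u363 : ∀ v, 1 ≤ v → v ≤ 159185 → fs12 v = true := slots_step fs12 158387 798 159185 s12u362 s12c363 rfl
theorem s12u364 : ∀ v, 1 ≤ v → v ≤ 159983 → fs12 v = true := slots_step fs12 159185 798 159983 s12u363 s12c364 rfl
theorem s12u365 : ∀ v, 1 ≤ v → v ≤ 160781 → fs12 v = true := slots_step fs12 159983 798 160781 s12u364 s12c365 rfl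
theorem s12u366 : ∀ v, 1 ≤ v → v ≤ 161579 → fs12 v = true := slots_step fs12 160781 798 161579 s12u365 s12c366 rfl
theorem s12u367 : ∀ v, 1 ≤ v → v ≤ 162377 → fs12 v = true := slots_step fs12 161579 798 162377 s12u366 s12c367 rfl
theorem s12u368 : ∀ v, 1 ≤ v → v ≤ 163175 → fs12 v = true := slots_step fs12 162377 798 163175 s12u367 s12c368 rfl
theorem s12u369 : ∀ v, 1 ≤ v → v ≤ 163973 → fs12 v = true := slots_step fs12 163175 798 163973 s12u368 s12c369 rfl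
theorem s12u370 : ∀ v, 1 ≤ v → v ≤ 164771 → fs12 v = true := slots_step fs12 163973 798 164771 s12u369 s12c370 rfl
theorem s12u371 : ∀ v, 1 ≤ v → v ≤ 165569 → fs12 v = true := slots_step fs12 164771 798 165569 s12u370 s12c371 rfl
theorem s12u372 : ∀ v, 1 ≤ v → v ≤ 166367 → fs12 v = true := slots_step fs12 165569 798 166367 s12u371 s12c372 rfl
theorem s12u373 : ∀ v, 1 ≤ v → v ≤ 167165 → fs12 v = true := slots_step fs12 166367 798 167165 s12u372 s12c373 rfl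
theorem s12u374 : ∀ v, 1 ≤ v → v ≤ 167963 → fs12 v = true := slots_step fs12 167165 798 167963 s12u373 s12c374 rfl
theorem s12u375 : ∀ v, 1 ≤ v → v ≤ 168761 → fs12 v = true := slots_step fs12 167963 798 168761 s12u374 s12c375 rfl
theorem s12u376 : ∀ v, 1 ≤ v → v ≤ 169559 → fs12 v = true := slots_step fs12 168761 798 169559 s12u375 s12c376 rfl
theorem s12u377 : ∀ v, 1 ≤ v → v ≤ 170357 → fs12 v = true := slots_step fs12 169559 798 170357 s12u376 s12c377 rfl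
theorem s12u378 : ∀ v, 1 ≤ v → v ≤ 171155 → fs12 v = true := slots_step fs12 170357 798 171155 s12u377 s12c378 rfl
theorem s12u379 : ∀ v, 1 ≤ v → v ≤ 171953 → fs12 v = true := slots_step fs12 171155 798 171953 s12u378 s12c379 rfl
theorem s12u380 : ∀ v, 1 ≤ v → v ≤ 172751 → fs12 v = true := slots_step fs12 171953 798 172751 s12u379 s12c380 rfl
theorem s12u381 : ∀ v, 1 ≤ v → v ≤ 173549 → fs12 v = true := slots_step fs12 172751 798 173549 s12u380 s12c381 rfl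
theorem s12u382 : ∀ v, 1 ≤ v → v ≤ 174347 → fs12 v = true := slots_step fs12 173549 798 174347 s12u381 s12c382 rfl
theorem s12u383 : ∀ v, 1 ≤ v → v ≤ 175145 → fs12 v = true := slots_step fs12 174347 798 175145 s12u382 s12c383 rfl
theorem s12u384 : ∀ v, 1 ≤ v → v ≤ 175943 → fs12 v = true := slots_step fs12 175145 798 175943 s12u383 s12c384 rfl
theorem s12u385 : ∀ v, 1 ≤ v → v ≤ 176741 → fs12 v = true := slots_step fs12 175943 798 176741 s12u384 s12c385 rfl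
theorem s12u386 : ∀ v, 1 ≤ v → v ≤ 177539 → fs12 v = true := slots_step fs12 176741 798 177539 s12u385 s12c386 rfl
theorem s12u387 : ∀ v, 1 ≤ v → v ≤ 178337 → fs12 v = true := slots_step fs12 177539 798 178337 s12u386 s12c387 rfl
theorem s12u388 : ∀ v, 1 ≤ v → v ≤ 179135 → fs12 v = true := slots_step fs12 178337 798 179135 s12u387 s12c388 rfl
theorem s12u389 : ∀ v, 1 ≤ v → v ≤ 179933 → fs12 v = true := slots_step fs12 179135 798 179933 s12u388 s12c389 rfl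
theorem s12u390 : ∀ v, 1 ≤ v → v ≤ 180731 → fs12 v = true := slots_step fs12 179933 798 180731 s12u389 s12c390 rfl
theorem s12u391 : ∀ v, 1 ≤ v → v ≤ 181529 → fs12 v = true := slots_step fs12 180731 798 181529 s12u390 s12c391 rfl
theorem s12u392 : ∀ v, 1 ≤ v → v ≤ 182327 → fs12 v = true := slots_step fs12 181529 798 182327 s12u391 s12c392 rfl
theorem s12u393 : ∀ v, 1 ≤ v → v ≤ 183125 → fs12 v = true := slots_step fs12 182327 798 183125 s12u392 s12c393 rfl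
theorem s12u394 : ∀ v, 1 ≤ v → v ≤ 183923 → fs12 v = true := slots_step fs12 183125 798 183923 s12u393 s12c394 rfl
theorem s12u395 : ∀ v, 1 ≤ v → v ≤ 184721 → fs12 v = true := slots_step fs12 183923 798 184721 s12u394 s12c395 rfl
theorem s12u396 : ∀ v, 1 ≤ v → v ≤ 185519 → fs12 v = true := slots_step fs12 184721 798 185519 s12u395 s12c396 rfl
theorem s12u397 : ∀ v, 1 ≤ v → v ≤ 186317 → fs12 v = true := slots_step fs12 185519 798 186317 s12u396 s12c397 rfl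
theorem s12u398 : ∀ v, 1 ≤ v → v ≤ 187115 → fs12 v = true := slots_step fs12 186317 798 187115 s12u397 s12c398 rfl
theorem s12u399 : ∀ v, 1 ≤ v → v ≤ 187913 → fs12 v = true := slots_step fs12 187115 798 187913 s12u398 s12c399 rfl
theorem s12u400 : ∀ v, 1 ≤ v → v ≤ 188711 → fs12 v = true := slots_step fs12 187913 798 188711 s12u399 s12c400 rfl
theorem s12u401 : ∀ v, 1 ≤ v → v ≤ 189509 → fs12 v = true := slots_step fs12 188711 798 189509 s12u400 s12c401 rfl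
theorem s12u402 : ∀ v, 1 ≤ v → v ≤ 190307 → fs12 v = true := slots_step fs12 189509 798 190307 s12u401 s12c402 rfl
theorem s12u403 : ∀ v, 1 ≤ v → v ≤ 191105 → fs12 v = true := slots_step fs12 190307 798 191105 s12u402 s12c403 rfl
theorem s12u404 : ∀ v, 1 ≤ v → v ≤ 191903 → fs12 v = true := slots_step fs12 191105 798 191903 s12u403 s12c404 rfl
theorem s12u405 : ∀ v, 1 ≤ v → v ≤ 192701 → fs12 v = true := slots_step fs12 191903 798 192701 s12u404 s12c405 rfl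
theorem s12u406 : ∀ v, 1 ≤ v → v ≤ 193499 → fs12 v = true := slots_step fs12 192701 798 193499 s12u405 s12c406 rfl
theorem s12u407 : ∀ v, 1 ≤ v → v ≤ 194297 → fs12 v = true := slots_step fs12 193499 798 194297 s12u406 s12c407 rfl
theorem s12u408 : ∀ v, 1 ≤ v → v ≤ 195095 → fs12 v = true := slots_step fs12 194297 798 195095 s12u407 s12c408 rfl
theorem s12u409 : ∀ v, 1 ≤ v → v ≤ 195893 → fs12 v = true := slots_step fs12 195095 798 195893 s12u408 s12c409 rfl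
theorem s12u410 : ∀ v, 1 ≤ v → v ≤ 196668 → fs12 v = true := slots_step fs12 195893 775 196668 s12u409 s12c410 rfl
theorem s12u411 : ∀ v, 1 ≤ v → v ≤ 197466 → fs12 v = true := slots_step fs12 196668 798 197466 s12u410 s12c411 rfl
theorem s12u412 : ∀ v, 1 ≤ v → v ≤ 198264 → fs12 v = true := slots_step fs12 197466 798 198264 s12u411 s12c412 rfl
theorem s12u413 : ∀ v, 1 ≤ v → v ≤ 199060 → fs12 v = true := slots_step fs12 198264 796 199060 s12u412 s12c413 rfl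
theorem s12u414 : ∀ v, 1 ≤ v → v ≤ 199858 → fs12 v = true := slots_step fs12 199060 798 199858 s12u413 s12c414 rfl
theorem s12u415 : ∀ v, 1 ≤ v → v ≤ 200656 → fs12 v = true := slots_step fs12 199858 798 200656 s12u414 s12c415 rfl
theorem s12u416 : ∀ v, 1 ≤ v → v ≤ 201454 → fs12 v = true := slots_step fs12 200656 798 201454 s12u415 s12c416 rfl
theorem s12u417 : ∀ v, 1 ≤ v → v ≤ 202252 → fs12 v = true := slots_step fs12 201454 798 202252 s12u416 s12c417 rfl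
theorem s12u418 : ∀ v, 1 ≤ v → v ≤ 203050 → fs12 v = true := slots_step fs12 202252 798 203050 s12u417 s12c418 rfl
theorem s12u419 : ∀ v, 1 ≤ v → v ≤ 203848 → fs12 v = true := slots_step fs12 203050 798 203848 s12u418 s12c419 rfl
theorem s12u420 : ∀ v, 1 ≤ v → v ≤ 204646 → fs12 v = true := slots_step fs12 203848 798 204646 s12u419 s12c420 rfl
theorem s12u421 : ∀ v, 1 ≤ v → v ≤ 205444 → fs12 v = true := slots_step fs12 204646 798 205444 s12u420 s12c421 rfl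
theorem s12u422 : ∀ v, 1 ≤ v → v ≤ 206242 → fs12 v = true := slots_step fs12 205444 798 206242 s12u421 s12c422 rfl
theorem s12u423 : ∀ v, 1 ≤ v → v ≤ 207040 → fs12 v = true := slots_step fs12 206242 798 207040 s12u422 s12c423 rfl
theorem s12u424 : ∀ v, 1 ≤ v → v ≤ 207813 → fs12 v = true := slots_step fs12 207040 773 207813 s12u423 s12c424 rfl
theorem s12u425 : ∀ v, 1 ≤ v → v ≤ 208611 → fs12 v = true := slots_step fs12 207813 798 208611 s12u424 s12c425 rfl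
theorem s12u426 : ∀ v, 1 ≤ v → v ≤ 209406 → fs12 v = true := slots_step fs12 208611 795 209406 s12u425 s12c426 rfl
theorem s12u427 : ∀ v, 1 ≤ v → v ≤ 210204 → fs12 v = true := slots_step fs12 209406 798 210204 s12u426 s12c427 rfl
theorem s12u428 : ∀ v, 1 ≤ v → v ≤ 210977 → fs12 v = true := slots_step fs12 210204 773 210977 s12u427 s12c428 rfl
theorem s12u429 : ∀ v, 1 ≤ v → v ≤ 211775 → fs12 v = true := slots_step fs12 210977 798 211775 s12u428 s12c429 rfl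
theorem s12u430 : ∀ v, 1 ≤ v → v ≤ 212573 → fs12 v = true := slots_step fs12 211775 798 212573 s12u429 s12c430 rfl
theorem s12u431 : ∀ v, 1 ≤ v → v ≤ 213371 → fs12 v = true := slots_step fs12 212573 798 213371 s12u430 s12c431 rfl
theorem s12u432 : ∀ v, 1 ≤ v → v ≤ 214169 → fs12 v = true := slots_step fs12 213371 798 214169 s12u431 s12c432 rfl
theorem s12u433 : ∀ v, 1 ≤ v → v ≤ 214967 → fs12 v = true := slots_step fs12 214169 798 214967 s12u432 s12c433 rfl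
theorem s12u434 : ∀ v, 1 ≤ v → v ≤ 215765 → fs12 v = true := slots_step fs12 214967 798 215765 s12u433 s12c434 rfl
theorem s12u435 : ∀ v, 1 ≤ v → v ≤ 216563 → fs12 v = true := slots_step fs12 215765 798 216563 s12u434 s12c435 rfl
theorem s12u436 : ∀ v, 1 ≤ v → v ≤ 217361 → fs12 v = true := slots_step fs12 216563 798 217361 s12u435 s12c436 rfl
theorem s12u437 : ∀ v, 1 ≤ v → v ≤ 218159 → fs12 v = true := slots_step fs12 217361 798 218159 s12u436 s12c437 rfl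
theorem s12u438 : ∀ v, 1 ≤ v → v ≤ 218957 → fs12 v = true := slots_step fs12 218159 798 218957 s12u437 s12c438 rfl
theorem s12u439 : ∀ v, 1 ≤ v → v ≤ 219755 → fs12 v = true := slots_step fs12 218957 798 219755 s12u438 s12c439 rfl
theorem s12u440 : ∀ v, 1 ≤ v → v ≤ 220553 → fs12 v = true := slots_step fs12 219755 798 220553 s12u439 s12c440 rfl
theorem s12u441 : ∀ v, 1 ≤ v → v ≤ 221351 → fs12 v = true := slots_step fs12 220553 798 221351 s12u440 s12c441 rfl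
theorem s12u442 : ∀ v, 1 ≤ v → v ≤ 222149 → fs12 v = true := slots_step fs12 221351 798 222149 s12u441 s12c442 rfl
theorem s12u443 : ∀ v, 1 ≤ v → v ≤ 222947 → fs12 v = true := slots_step fs12 222149 798 222947 s12u442 s12c443 rfl
theorem s12u444 : ∀ v, 1 ≤ v → v ≤ 223745 → fs12 v = true := slots_step fs12 222947 798 223745 s12u443 s12c444 rfl
theorem s12u445 : ∀ v, 1 ≤ v → v ≤ 224543 → fs12 v = true := slots_step fs12 223745 798 224543 s12u444 s12c445 rfl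
theorem s12u446 : ∀ v, 1 ≤ v → v ≤ 225341 → fs12 v = true := slots_step fs12 224543 798 225341 s12u445 s12c446 rfl
theorem s12u447 : ∀ v, 1 ≤ v → v ≤ 226139 → fs12 v = true := slots_step fs12 225341 798 226139 s12u446 s12c447 rfl
theorem s12u448 : ∀ v, 1 ≤ v → v ≤ 226937 → fs12 v = true := slots_step fs12 226139 798 226937 s12u447 s12c448 rfl
theorem s12u449 : ∀ v, 1 ≤ v → v ≤ 227735 → fs12 v = true := slots_step fs12 226937 798 227735 s12u448 s12c449 rfl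
theorem s12u450 : ∀ v, 1 ≤ v → v ≤ 228533 → fs12 v = true := slots_step fs12 227735 798 228533 s12u449 s12c450 rfl
theorem s12u451 : ∀ v, 1 ≤ v → v ≤ 229331 → fs12 v = true := slots_step fs12 228533 798 229331 s12u450 s12c451 rfl
theorem s12u452 : ∀ v, 1 ≤ v → v ≤ 230129 → fs12 v = true := slots_step fs12 229331 798 230129 s12u451 s12c452 rfl
theorem s12u453 : ∀ v, 1 ≤ v → v ≤ 230927 → fs12 v = true := slots_step fs12 230129 798 230927 s12u452 s12c453 rfl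
theorem s12u454 : ∀ v, 1 ≤ v → v ≤ 231725 → fs12 v = true := slots_step fs12 230927 798 231725 s12u453 s12c454 rfl
theorem s12u455 : ∀ v, 1 ≤ v → v ≤ 232523 → fs12 v = true := slots_step fs12 231725 798 232523 s12u454 s12c455 rfl
theorem s12u456 : ∀ v, 1 ≤ v → v ≤ 233321 → fs12 v = true := slots_step fs12 232523 798 233321 s12u455 s12c456 rfl
theorem s12u457 : ∀ v, 1 ≤ v → v ≤ 234119 → fs12 v = true := slots_step fs12 233321 798 234119 s12u456 s12c457 rfl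
theorem s12u458 : ∀ v, 1 ≤ v → v ≤ 234917 → fs12 v = true := slots_step fs12 234119 798 234917 s12u457 s12c458 rfl
theorem s12u459 : ∀ v, 1 ≤ v → v ≤ 235715 → fs12 v = true := slots_step fs12 234917 798 235715 s12u458 s12c459 rfl
theorem s12u460 : ∀ v, 1 ≤ v → v ≤ 236513 → fs12 v = true := slots_step fs12 235715 798 236513 s12u459 s12c460 rfl
theorem s12u461 : ∀ v, 1 ≤ v → v ≤ 237311 → fs12 v = true := slots_step fs12 236513 798 237311 s12u460 s12c461 rfl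
theorem s12u462 : ∀ v, 1 ≤ v → v ≤ 238109 → fs12 v = true := slots_step fs12 237311 798 238109 s12u461 s12c462 rfl
theorem s12u463 : ∀ v, 1 ≤ v → v ≤ 238907 → fs12 v = true := slots_step fs12 238109 798 238907 s12u462 s12c463 rfl
theorem s12u464 : ∀ v, 1 ≤ v → v ≤ 239705 → fs12 v = true := slots_step fs12 238907 798 239705 s12u463 s12c464 rfl
theorem s12u465 : ∀ v, 1 ≤ v → v ≤ 240503 → fs12 v = true := slots_step fs12 239705 798 240503 s12u464 s12c465 rfl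
theorem s12u466 : ∀ v, 1 ≤ v → v ≤ 241301 → fs12 v = true := slots_step fs12 240503 798 241301 s12u465 s12c466 rfl
theorem s12u467 : ∀ v, 1 ≤ v → v ≤ 242099 → fs12 v = true := slots_step fs12 241301 798 242099 s12u466 s12c467 rfl
theorem s12u468 : ∀ v, 1 ≤ v → v ≤ 242897 → fs12 v = true := slots_step fs12 242099 798 242897 s12u467 s12c468 rfl
theorem s12u469 : ∀ v, 1 ≤ v → v ≤ 243695 → fs12 v = true := slots_step fs12 242897 798 243695 s12u468 s12c469 rfl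
theorem s12u470 : ∀ v, 1 ≤ v → v ≤ 244493 → fs12 v = true := slots_step fs12 243695 798 244493 s12u469 s12c470 rfl
theorem s12u471 : ∀ v, 1 ≤ v → v ≤ 245291 → fs12 v = true := slots_step fs12 244493 798 245291 s12u470 s12c471 rfl
theorem s12u472 : ∀ v, 1 ≤ v → v ≤ 246089 → fs12 v = true := slots_step fs12 245291 798 246089 s12u471 s12c472 rfl
theorem s12u473 : ∀ v, 1 ≤ v → v ≤ 246887 → fs12 v = true := slots_step fs12 246089 798 246887 s12u472 s12c473 rfl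
theorem s12u474 : ∀ v, 1 ≤ v → v ≤ 247685 → fs12 v = true := slots_step fs12 246887 798 247685 s12u473 s12c474 rfl
theorem s12u475 : ∀ v, 1 ≤ v → v ≤ 248483 → fs12 v = true := slots_step fs12 247685 798 248483 s12u474 s12c475 rfl
theorem s12u476 : ∀ v, 1 ≤ v → v ≤ 249281 → fs12 v = true := slots_step fs12 248483 798 249281 s12u475 s12c476 rfl
theorem s12u477 : ∀ v, 1 ≤ v → v ≤ 250079 → fs12 v = true := slots_step fs12 249281 798 250079 s12u476 s12c477 rfl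
theorem s12u478 : ∀ v, 1 ≤ v → v ≤ 250877 → fs12 v = true := slots_step fs12 250079 798 250877 s12u477 s12c478 rfl
theorem s12u479 : ∀ v, 1 ≤ v → v ≤ 251675 → fs12 v = true := slots_step fs12 250877 798 251675 s12u478 s12c479 rfl
theorem s12u480 : ∀ v, 1 ≤ v → v ≤ 252473 → fs12 v = true := slots_step fs12 251675 798 252473 s12u479 s12c480 rfl
theorem s12u481 : ∀ v, 1 ≤ v → v ≤ 253271 → fs12 v = true := slots_step fs12 252473 798 253271 s12u480 s12c481 rfl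
theorem s12u482 : ∀ v, 1 ≤ v → v ≤ 254069 → fs12 v = true := slots_step fs12 253271 798 254069 s12u481 s12c482 rfl
theorem s12u483 : ∀ v, 1 ≤ v → v ≤ 254867 → fs12 v = true := slots_step fs12 254069 798 254867 s12u482 s12c483 rfl
theorem s12u484 : ∀ v, 1 ≤ v → v ≤ 255665 → fs12 v = true := slots_step fs12 254867 798 255665 s12u483 s12c484 rfl
theorem s12u485 : ∀ v, 1 ≤ v → v ≤ 256463 → fs12 v = true := slots_step fs12 255665 798 256463 s12u484 s12c485 rfl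
theorem s12u486 : ∀ v, 1 ≤ v → v ≤ 257261 → fs12 v = true := slots_step fs12 256463 798 257261 s12u485 s12c486 rfl
theorem s12u487 : ∀ v, 1 ≤ v → v ≤ 258059 → fs12 v = true := slots_step fs12 257261 798 258059 s12u486 s12c487 rfl
theorem s12u488 : ∀ v, 1 ≤ v → v ≤ 258857 → fs12 v = true := slots_step fs12 258059 798 258857 s12u487 s12c488 rfl
theorem s12u489 : ∀ v, 1 ≤ v → v ≤ 259655 → fs12 v = true := slots_step fs12 258857 798 259655 s12u488 s12c489 rfl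
theorem s12u490 : ∀ v, 1 ≤ v → v ≤ 260453 → fs12 v = true := slots_step fs12 259655 798 260453 s12u489 s12c490 rfl
theorem s12u491 : ∀ v, 1 ≤ v → v ≤ 261251 → fs12 v = true := slots_step fs12 260453 798 261251 s12u490 s12c491 rfl
theorem s12u492 : ∀ v, 1 ≤ v → v ≤ 262049 → fs12 v = true := slots_step fs12 261251 798 262049 s12u491 s12c492 rfl
theorem s12u493 : ∀ v, 1 ≤ v → v ≤ 262847 → fs12 v = true := slots_step fs12 262049 798 262847 s12u492 s12c493 rfl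
theorem s12u494 : ∀ v, 1 ≤ v → v ≤ 263645 → fs12 v = true := slots_step fs12 262847 798 263645 s12u493 s12c494 rfl
theorem s12u495 : ∀ v, 1 ≤ v → v ≤ 264443 → fs12 v = true := slots_step fs12 263645 798 264443 s12u494 s12c495 rfl
theorem s12u496 : ∀ v, 1 ≤ v → v ≤ 265241 → fs12 v = true := slots_step fs12 264443 798 265241 s12u495 s12c496 rfl
theorem s12u497 : ∀ v, 1 ≤ v → v ≤ 266039 → fs12 v = true := slots_step fs12 265241 798 266039 s12u496 s12c497 rfl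
theorem s12u498 : ∀ v, 1 ≤ v → v ≤ 266837 → fs12 v = true := slots_step fs12 266039 798 266837 s12u497 s12c498 rfl
theorem s12u499 : ∀ v, 1 ≤ v → v ≤ 267635 → fs12 v = true := slots_step fs12 266837 798 267635 s12u498 s12c499 rfl
theorem s12u500 : ∀ v, 1 ≤ v → v ≤ 268433 → fs12 v = true := slots_step fs12 267635 798 268433 s12u499 s12c500 rfl
theorem s12u501 : ∀ v, 1 ≤ v → v ≤ 269231 → fs12 v = true := slots_step fs12 268433 798 269231 s12u500 s12c501 rfl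
theorem s12u502 : ∀ v, 1 ≤ v → v ≤ 270029 → fs12 v = true := slots_step fs12 269231 798 270029 s12u501 s12c502 rfl
theorem s12u503 : ∀ v, 1 ≤ v → v ≤ 270827 → fs12 v = true := slots_step fs12 270029 798 270827 s12u502 s12c503 rfl
theorem s12u504 : ∀ v, 1 ≤ v → v ≤ 271625 → fs12 v = true := slots_step fs12 270827 798 271625 s12u503 s12c504 rfl
theorem s12u505 : ∀ v, 1 ≤ v → v ≤ 272423 → fs12 v = true := slots_step fs12 271625 798 272423 s12u504 s12c505 rfl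
theorem s12u506 : ∀ v, 1 ≤ v → v ≤ 273221 → fs12 v = true := slots_step fs12 272423 798 273221 s12u505 s12c506 rfl
theorem s12u507 : ∀ v, 1 ≤ v → v ≤ 274019 → fs12 v = true := slots_step fs12 273221 798 274019 s12u506 s12c507 rfl
theorem s12u508 : ∀ v, 1 ≤ v → v ≤ 274817 → fs12 v = true := slots_step fs12 274019 798 274817 s12u507 s12c508 rfl
theorem s12u509 : ∀ v, 1 ≤ v → v ≤ 275615 → fs12 v = true := slots_step fs12 274817 798 275615 s12u508 s12c509 rfl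
theorem s12u510 : ∀ v, 1 ≤ v → v ≤ 276413 → fs12 v = true := slots_step fs12 275615 798 276413 s12u509 s12c510 rfl
theorem s12u511 : ∀ v, 1 ≤ v → v ≤ 277211 → fs12 v = true := slots_step fs12 276413 798 277211 s12u510 s12c511 rfl
theorem s12u512 : ∀ v, 1 ≤ v → v ≤ 278009 → fs12 v = true := slots_step fs12 277211 798 278009 s12u511 s12c512 rfl
theorem s12u513 : ∀ v, 1 ≤ v → v ≤ 278807 → fs12 v = true := slots_step fs12 278009 798 278807 s12u512 s12c513 rfl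
theorem s12u514 : ∀ v, 1 ≤ v → v ≤ 279605 → fs12 v = true := slots_step fs12 278807 798 279605 s12u513 s12c514 rfl
theorem s12u515 : ∀ v, 1 ≤ v → v ≤ 280403 → fs12 v = true := slots_step fs12 279605 798 280403 s12u514 s12c515 rfl
theorem s12u516 : ∀ v, 1 ≤ v → v ≤ 281201 → fs12 v = true := slots_step fs12 280403 798 281201 s12u515 s12c516 rfl
theorem s12u517 : ∀ v, 1 ≤ v → v ≤ 281999 → fs12 v = true := slots_step fs12 281201 798 281999 s12u516 s12c517 rfl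
theorem s12u518 : ∀ v, 1 ≤ v → v ≤ 282797 → fs12 v = true := slots_step fs12 281999 798 282797 s12u517 s12c518 rfl
theorem s12u519 : ∀ v, 1 ≤ v → v ≤ 283595 → fs12 v = true := slots_step fs12 282797 798 283595 s12u518 s12c519 rfl
theorem s12u520 : ∀ v, 1 ≤ v → v ≤ 284393 → fs12 v = true := slots_step fs12 283595 798 284393 s12u519 s12c520 rfl
theorem s12u521 : ∀ v, 1 ≤ v → v ≤ 285191 → fs12 v = true := slots_step fs12 284393 798 285191 s12u520 s12c521 rfl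
theorem s12u522 : ∀ v, 1 ≤ v → v ≤ 285989 → fs12 v = true := slots_step fs12 285191 798 285989 s12u521 s12c522 rfl
theorem s12u523 : ∀ v, 1 ≤ v → v ≤ 286787 → fs12 v = true := slots_step fs12 285989 798 286787 s12u522 s12c523 rfl
theorem s12u524 : ∀ v, 1 ≤ v → v ≤ 287585 → fs12 v = true := slots_step fs12 286787 798 287585 s12u523 s12c524 rfl
theorem s12u525 : ∀ v, 1 ≤ v → v ≤ 288383 → fs12 v = true := slots_step fs12 287585 798 288383 s12u524 s12c525 rfl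
theorem s12u526 : ∀ v, 1 ≤ v → v ≤ 289181 → fs12 v = true := slots_step fs12 288383 798 289181 s12u525 s12c526 rfl
theorem s12u527 : ∀ v, 1 ≤ v → v ≤ 289979 → fs12 v = true := slots_step fs12 289181 798 289979 s12u526 s12c527 rfl
theorem s12u528 : ∀ v, 1 ≤ v → v ≤ 290777 → fs12 v = true := slots_step fs12 289979 798 290777 s12u527 s12c528 rfl
theorem s12u529 : ∀ v, 1 ≤ v → v ≤ 291575 → fs12 v = true := slots_step fs12 290777 798 291575 s12u528 s12c529 rfl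
theorem s12u530 : ∀ v, 1 ≤ v → v ≤ 292373 → fs12 v = true := slots_step fs12 291575 798 292373 s12u529 s12c530 rfl
theorem s12u531 : ∀ v, 1 ≤ v → v ≤ 293171 → fs12 v = true := slots_step fs12 292373 798 293171 s12u530 s12c531 rfl
theorem s12u532 : ∀ v, 1 ≤ v → v ≤ 293969 → fs12 v = true := slots_step fs12 293171 798 293969 s12u531 s12c532 rfl
theorem s12u533 : ∀ v, 1 ≤ v → v ≤ 294767 → fs12 v = true := slots_step fs12 293969 798 294767 s12u532 s12c533 rfl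
theorem s12u534 : ∀ v, 1 ≤ v → v ≤ 295565 → fs12 v = true := slots_step fs12 294767 798 295565 s12u533 s12c534 rfl
theorem s12u535 : ∀ v, 1 ≤ v → v ≤ 296363 → fs12 v = true := slots_step fs12 295565 798 296363 s12u534 s12c535 rfl
theorem s12u536 : ∀ v, 1 ≤ v → v ≤ 297161 → fs12 v = true := slots_step fs12 296363 798 297161 s12u535 s12c536 rfl
theorem s12u537 : ∀ v, 1 ≤ v → v ≤ 297959 → fs12 v = true := slots_step fs12 297161 798 297959 s12u536 s12c537 rfl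
theorem s12u538 : ∀ v, 1 ≤ v → v ≤ 298757 → fs12 v = true := slots_step fs12 297959 798 298757 s12u537 s12c538 rfl
theorem s12u539 : ∀ v, 1 ≤ v → v ≤ 299555 → fs12 v = true := slots_step fs12 298757 798 299555 s12u538 s12c539 rfl
theorem s12u540 : ∀ v, 1 ≤ v → v ≤ 300353 → fs12 v = true := slots_step fs12 299555 798 300353 s12u539 s12c540 rfl
theorem s12u541 : ∀ v, 1 ≤ v → v ≤ 301151 → fs12 v = true := slots_step fs12 300353 798 301151 s12u540 s12c541 rfl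
theorem s12u542 : ∀ v, 1 ≤ v → v ≤ 301949 → fs12 v = true := slots_step fs12 301151 798 301949 s12u541 s12c542 rfl
theorem s12u543 : ∀ v, 1 ≤ v → v ≤ 302747 → fs12 v = true := slots_step fs12 301949 798 302747 s12u542 s12c543 rfl
theorem s12u544 : ∀ v, 1 ≤ v → v ≤ 303545 → fs12 v = true := slots_step fs12 302747 798 303545 s12u543 s12c544 rfl
theorem s12u545 : ∀ v, 1 ≤ v → v ≤ 304343 → fs12 v = true := slots_step fs12 303545 798 304343 s12u544 s12c545 rfl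
theorem s12u546 : ∀ v, 1 ≤ v → v ≤ 305141 → fs12 v = true := slots_step fs12 304343 798 305141 s12u545 s12c546 rfl
theorem s12u547 : ∀ v, 1 ≤ v → v ≤ 305939 → fs12 v = true := slots_step fs12 305141 798 305939 s12u546 s12c547 rfl
theorem s12u548 : ∀ v, 1 ≤ v → v ≤ 306737 → fs12 v = true := slots_step fs12 305939 798 306737 s12u547 s12c548 rfl
theorem s12u549 : ∀ v, 1 ≤ v → v ≤ 307535 → fs12 v = true := slots_step fs12 306737 798 307535 s12u548 s12c549 rfl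
theorem s12u550 : ∀ v, 1 ≤ v → v ≤ 308333 → fs12 v = true := slots_step fs12 307535 798 308333 s12u549 s12c550 rfl
theorem s12u551 : ∀ v, 1 ≤ v → v ≤ 309131 → fs12 v = true := slots_step fs12 308333 798 309131 s12u550 s12c551 rfl
theorem s12u552 : ∀ v, 1 ≤ v → v ≤ 309929 → fs12 v = true := slots_step fs12 309131 798 309929 s12u551 s12c552 rfl
theorem s12u553 : ∀ v, 1 ≤ v → v ≤ 310727 → fs12 v = true := slots_step fs12 309929 798 310727 s12u552 s12c553 rfl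
theorem s12u554 : ∀ v, 1 ≤ v → v ≤ 311525 → fs12 v = true := slots_step fs12 310727 798 311525 s12u553 s12c554 rfl
theorem s12u555 : ∀ v, 1 ≤ v → v ≤ 312323 → fs12 v = true := slots_step fs12 311525 798 312323 s12u554 s12c555 rfl
theorem s12u556 : ∀ v, 1 ≤ v → v ≤ 313121 → fs12 v = true := slots_step fs12 312323 798 313121 s12u555 s12c556 rfl
theorem s12u557 : ∀ v, 1 ≤ v → v ≤ 313919 → fs12 v = true := slots_step fs12 313121 798 313919 s12u556 s12c557 rfl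
theorem s12u558 : ∀ v, 1 ≤ v → v ≤ 314717 → fs12 v = true := slots_step fs12 313919 798 314717 s12u557 s12c558 rfl
theorem s12u559 : ∀ v, 1 ≤ v → v ≤ 315515 → fs12 v = true := slots_step fs12 314717 798 315515 s12u558 s12c559 rfl
theorem s12u560 : ∀ v, 1 ≤ v → v ≤ 316313 → fs12 v = true := slots_step fs12 315515 798 316313 s12u559 s12c560 rfl
theorem s12u561 : ∀ v, 1 ≤ v → v ≤ 317111 → fs12 v = true := slots_step fs12 316313 798 317111 s12u560 s12c561 rfl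
theorem s12u562 : ∀ v, 1 ≤ v → v ≤ 317909 → fs12 v = true := slots_step fs12 317111 798 317909 s12u561 s12c562 rfl
theorem s12u563 : ∀ v, 1 ≤ v → v ≤ 318707 → fs12 v = true := slots_step fs12 317909 798 318707 s12u562 s12c563 rfl
theorem s12u564 : ∀ v, 1 ≤ v → v ≤ 319505 → fs12 v = true := slots_step fs12 318707 798 319505 s12u563 s12c564 rfl
theorem s12u565 : ∀ v, 1 ≤ v → v ≤ 320303 → fs12 v = true := slots_step fs12 319505 798 320303 s12u564 s12c565 rfl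
theorem s12u566 : ∀ v, 1 ≤ v → v ≤ 321101 → fs12 v = true := slots_step fs12 320303 798 321101 s12u565 s12c566 rfl
theorem s12u567 : ∀ v, 1 ≤ v → v ≤ 321899 → fs12 v = true := slots_step fs12 321101 798 321899 s12u566 s12c567 rfl
theorem s12u568 : ∀ v, 1 ≤ v → v ≤ 322697 → fs12 v = true := slots_step fs12 321899 798 322697 s12u567 s12c568 rfl
theorem s12u569 : ∀ v, 1 ≤ v → v ≤ 323495 → fs12 v = true := slots_step fs12 322697 798 323495 s12u568 s12c569 rfl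
theorem s12u570 : ∀ v, 1 ≤ v → v ≤ 324293 → fs12 v = true := slots_step fs12 323495 798 324293 s12u569 s12c570 rfl
theorem s12u571 : ∀ v, 1 ≤ v → v ≤ 325091 → fs12 v = true := slots_step fs12 324293 798 325091 s12u570 s12c571 rfl
theorem s12u572 : ∀ v, 1 ≤ v → v ≤ 325889 → fs12 v = true := slots_step fs12 325091 798 325889 s12u571 s12c572 rfl
theorem s12u573 : ∀ v, 1 ≤ v → v ≤ 326687 → fs12 v = true := slots_step fs12 325889 798 326687 s12u572 s12c573 rfl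
theorem s12u574 : ∀ v, 1 ≤ v → v ≤ 327485 → fs12 v = true := slots_step fs12 326687 798 327485 s12u573 s12c574 rfl
theorem s12u575 : ∀ v, 1 ≤ v → v ≤ 328283 → fs12 v = true := slots_step fs12 327485 798 328283 s12u574 s12c575 rfl
theorem s12u576 : ∀ v, 1 ≤ v → v ≤ 329081 → fs12 v = true := slots_step fs12 328283 798 329081 s12u575 s12c576 rfl
theorem s12u577 : ∀ v, 1 ≤ v → v ≤ 329879 → fs12 v = true := slots_step fs12 329081 798 329879 s12u576 s12c577 rfl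
theorem s12u578 : ∀ v, 1 ≤ v → v ≤ 330677 → fs12 v = true := slots_step fs12 329879 798 330677 s12u577 s12c578 rfl
theorem s12u579 : ∀ v, 1 ≤ v → v ≤ 331475 → fs12 v = true := slots_step fs12 330677 798 331475 s12u578 s12c579 rfl
theorem s12u580 : ∀ v, 1 ≤ v → v ≤ 332273 → fs12 v = true := slots_step fs12 331475 798 332273 s12u579 s12c580 rfl
theorem s12u581 : ∀ v, 1 ≤ v → v ≤ 333071 → fs12 v = true := slots_step fs12 332273 798 333071 s12u580 s12c581 rfl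
theorem s12u582 : ∀ v, 1 ≤ v → v ≤ 333869 → fs12 v = true := slots_step fs12 333071 798 333869 s12u581 s12c582 rfl
theorem s12u583 : ∀ v, 1 ≤ v → v ≤ 334667 → fs12 v = true := slots_step fs12 333869 798 334667 s12u582 s12c583 rfl
theorem s12u584 : ∀ v, 1 ≤ v → v ≤ 335465 → fs12 v = true := slots_step fs12 334667 798 335465 s12u583 s12c584 rfl
theorem s12u585 : ∀ v, 1 ≤ v → v ≤ 336263 → fs12 v = true := slots_step fs12 335465 798 336263 s12u584 s12c585 rfl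
theorem s12u586 : ∀ v, 1 ≤ v → v ≤ 337061 → fs12 v = true := slots_step fs12 336263 798 337061 s12u585 s12c586 rfl
theorem s12u587 : ∀ v, 1 ≤ v → v ≤ 337859 → fs12 v = true := slots_step fs12 337061 798 337859 s12u586 s12c587 rfl
theorem s12u588 : ∀ v, 1 ≤ v → v ≤ 338657 → fs12 v = true := slots_step fs12 337859 798 338657 s12u587 s12c588 rfl
theorem s12u589 : ∀ v, 1 ≤ v → v ≤ 339455 → fs12 v = true := slots_step fs12 338657 798 339455 s12u588 s12c589 rfl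
theorem s12u590 : ∀ v, 1 ≤ v → v ≤ 340253 → fs12 v = true := slots_step fs12 339455 798 340253 s12u589 s12c590 rfl
theorem s12u591 : ∀ v, 1 ≤ v → v ≤ 341051 → fs12 v = true := slots_step fs12 340253 798 341051 s12u590 s12c591 rfl
theorem s12u592 : ∀ v, 1 ≤ v → v ≤ 341849 → fs12 v = true := slots_step fs12 341051 798 341849 s12u591 s12c592 rfl
theorem s12u593 : ∀ v, 1 ≤ v → v ≤ 342647 → fs12 v = true := slots_step fs12 341849 798 342647 s12u592 s12c593 rfl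
theorem s12u594 : ∀ v, 1 ≤ v → v ≤ 343445 → fs12 v = true := slots_step fs12 342647 798 343445 s12u593 s12c594 rfl
theorem s12u595 : ∀ v, 1 ≤ v → v ≤ 344243 → fs12 v = true := slots_step fs12 343445 798 344243 s12u594 s12c595 rfl
theorem s12u596 : ∀ v, 1 ≤ v → v ≤ 345041 → fs12 v = true := slots_step fs12 344243 798 345041 s12u595 s12c596 rfl
theorem s12u597 : ∀ v, 1 ≤ v → v ≤ 345839 → fs12 v = true := slots_step fs12 345041 798 345839 s12u596 s12c597 rfl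
theorem s12u598 : ∀ v, 1 ≤ v → v ≤ 346637 → fs12 v = true := slots_step fs12 345839 798 346637 s12u597 s12c598 rfl
theorem s12u599 : ∀ v, 1 ≤ v → v ≤ 347435 → fs12 v = true := slots_step fs12 346637 798 347435 s12u598 s12c599 rfl
theorem s12u600 : ∀ v, 1 ≤ v → v ≤ 348233 → fs12 v = true := slots_step fs12 347435 798 348233 s12u599 s12c600 rfl
theorem s12u601 : ∀ v, 1 ≤ v → v ≤ 349031 → fs12 v = true := slots_step fs12 348233 798 349031 s12u600 s12c601 rfl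
theorem s12u602 : ∀ v, 1 ≤ v → v ≤ 349829 → fs12 v = true := slots_step fs12 349031 798 349829 s12u601 s12c602 rfl
theorem s12u603 : ∀ v, 1 ≤ v → v ≤ 350627 → fs12 v = true := slots_step fs12 349829 798 350627 s12u602 s12c603 rfl
theorem s12u604 : ∀ v, 1 ≤ v → v ≤ 351425 → fs12 v = true := slots_step fs12 350627 798 351425 s12u603 s12c604 rfl
theorem s12u605 : ∀ v, 1 ≤ v → v ≤ 352223 → fs12 v = true := slots_step fs12 351425 798 352223 s12u604 s12c605 rfl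
theorem s12u606 : ∀ v, 1 ≤ v → v ≤ 353021 → fs12 v = true := slots_step fs12 352223 798 353021 s12u605 s12c606 rfl
theorem s12u607 : ∀ v, 1 ≤ v → v ≤ 353819 → fs12 v = true := slots_step fs12 353021 798 353819 s12u606 s12c607 rfl
theorem s12u608 : ∀ v, 1 ≤ v → v ≤ 354617 → fs12 v = true := slots_step fs12 353819 798 354617 s12u607 s12c608 rfl
theorem s12u609 : ∀ v, 1 ≤ v → v ≤ 355415 → fs12 v = true := slots_step fs12 354617 798 355415 s12u608 s12c609 rfl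
theorem s12u610 : ∀ v, 1 ≤ v → v ≤ 356213 → fs12 v = true := slots_step fs12 355415 798 356213 s12u609 s12c610 rfl
theorem s12u611 : ∀ v, 1 ≤ v → v ≤ 357011 → fs12 v = true := slots_step fs12 356213 798 357011 s12u610 s12c611 rfl
theorem s12u612 : ∀ v, 1 ≤ v → v ≤ 357465 → fs12 v = true := slots_step fs12 357011 454 357465 s12u611 s12c612 rfl
theorem gz : countBelow gl 0 = 0 := rfl
theorem gn0 : countBelow gl 1597 = 1476 := countBelow_step gl 0 1597 1597 0 1476 1476 gz gk0 rfl rfl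
theorem gn1 : countBelow gl 3194 = 2905 := countBelow_step gl 1597 1597 3194 1476 1429 2905 gn0 gk1 rfl rfl
theorem gn2 : countBelow gl 4791 = 4287 := countBelow_step gl 3194 1597 4791 2905 1382 4287 gn1 gk2 rfl rfl
theorem gn3 : countBelow gl 6388 = 5605 := countBelow_step gl 4791 1597 6388 4287 1318 5605 gn2 gk3 rfl rfl
theorem gn4 : countBelow gl 7985 = 6829 := countBelow_step gl 6388 1597 7985 5605 1224 6829 gn3 gk4 rfl rfl
theorem gn5 : countBelow gl 9582 = 7963 := countBelow_step gl 7985 1597 9582 6829 1134 7963 gn4 gk5 rfl rfl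
theorem gn6 : countBelow gl 11179 = 9282 := countBelow_step gl 9582 1597 11179 7963 1319 9282 gn5 gk6 rfl rfl
theorem gn7 : countBelow gl 12776 = 10639 := countBelow_step gl 11179 1597 12776 9282 1357 10639 gn6 gk7 rfl rfl
theorem gn8 : countBelow gl 14373 = 12016 := countBelow_step gl 12776 1597 14373 10639 1377 12016 gn7 gk8 rfl rfl
theorem gn9 : countBelow gl 15970 = 13426 := countBelow_step gl 14373 1597 15970 12016 1410 13426 gn8 gk9 rfl rfl
theorem gn10 : countBelow gl 17567 = 14438 := countBelow_step gl 15970 1597 17567 13426 1012 14438 gn9 gk10 rfl rfl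
theorem gn11 : countBelow gl 19164 = 15708 := countBelow_step gl 17567 1597 19164 14438 1270 15708 gn10 gk11 rfl rfl
theorem gn12 : countBelow gl 20761 = 17084 := countBelow_step gl 19164 1597 20761 15708 1376 17084 gn11 gk12 rfl rfl
theorem gn13 : countBelow gl 22358 = 18026 := countBelow_step gl 20761 1597 22358 17084 942 18026 gn12 gk13 rfl rfl
theorem gn14 : countBelow gl 23955 = 19159 := countBelow_step gl 22358 1597 23955 18026 1133 19159 gn13 gk14 rfl rfl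
theorem gn15 : countBelow gl 25552 = 20256 := countBelow_step gl 23955 1597 25552 19159 1097 20256 gn14 gk15 rfl rfl
theorem gn16 : countBelow gl 27149 = 21594 := countBelow_step gl 25552 1597 27149 20256 1338 21594 gn15 gk16 rfl rfl
theorem gn17 : countBelow gl 28746 = 22550 := countBelow_step gl 27149 1597 28746 21594 956 22550 gn16 gk17 rfl rfl
theorem gn18 : countBelow gl 30343 = 23342 := countBelow_step gl 28746 1597 30343 22550 792 23342 gn17 gk18 rfl rfl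
theorem gn19 : countBelow gl 31940 = 24499 := countBelow_step gl 30343 1597 31940 23342 1157 24499 gn18 gk19 rfl rfl
theorem gn20 : countBelow gl 33537 = 25468 := countBelow_step gl 31940 1597 33537 24499 969 25468 gn19 gk20 rfl rfl
theorem gn21 : countBelow gl 35134 = 26647 := countBelow_step gl 33537 1597 35134 25468 1179 26647 gn20 gk21 rfl rfl
theorem gn22 : countBelow gl 36731 = 27833 := countBelow_step gl 35134 1597 36731 26647 1186 27833 gn21 gk22 rfl rfl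
theorem gn23 : countBelow gl 38328 = 28758 := countBelow_step gl 36731 1597 38328 27833 925 28758 gn22 gk23 rfl rfl
theorem gn24 : countBelow gl 39925 = 29442 := countBelow_step gl 38328 1597 39925 28758 684 29442 gn23 gk24 rfl rfl
theorem gn25 : countBelow gl 41522 = 29994 := countBelow_step gl 39925 1597 41522 29442 552 29994 gn24 gk25 rfl rfl
theorem gn26 : countBelow gl 43119 = 31303 := countBelow_step gl 41522 1597 43119 29994 1309 31303 gn25 gk26 rfl rfl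
theorem gn27 : countBelow gl 44716 = 32159 := countBelow_step gl 43119 1597 44716 31303 856 32159 gn26 gk27 rfl rfl
theorem gn28 : countBelow gl 46313 = 32964 := countBelow_step gl 44716 1597 46313 32159 805 32964 gn27 gk28 rfl rfl
theorem gn29 : countBelow gl 47910 = 34370 := countBelow_step gl 46313 1597 47910 32964 1406 34370 gn28 gk29 rfl rfl
theorem gn30 : countBelow gl 49507 = 35400 := countBelow_step gl 47910 1597 49507 34370 1030 35400 gn29 gk30 rfl rfl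
theorem gn31 : countBelow gl 51104 = 36323 := countBelow_step gl 49507 1597 51104 35400 923 36323 gn30 gk31 rfl rfl
theorem gn32 : countBelow gl 52701 = 36822 := countBelow_step gl 51104 1597 52701 36323 499 36822 gn31 gk32 rfl rfl
theorem gn33 : countBelow gl 54298 = 37677 := countBelow_step gl 52701 1597 54298 36822 855 37677 gn32 gk33 rfl rfl
theorem gn34 : countBelow gl 55895 = 38073 := countBelow_step gl 54298 1597 55895 37677 396 38073 gn33 gk34 rfl rfl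
theorem gn35 : countBelow gl 57492 = 39107 := countBelow_step gl 55895 1597 57492 38073 1034 39107 gn34 gk35 rfl rfl
theorem gn36 : countBelow gl 59089 = 40190 := countBelow_step gl 57492 1597 59089 39107 1083 40190 gn35 gk36 rfl rfl
theorem gn37 : countBelow gl 60686 = 40951 := countBelow_step gl 59089 1597 60686 40190 761 40951 gn36 gk37 rfl rfl
theorem gn38 : countBelow gl 62283 = 41589 := countBelow_step gl 60686 1597 62283 40951 638 41589 gn37 gk38 rfl rfl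
theorem gn39 : countBelow gl 63880 = 42872 := countBelow_step gl 62283 1597 63880 41589 1283 42872 gn38 gk39 rfl rfl
theorem gn40 : countBelow gl 65477 = 44265 := countBelow_step gl 63880 1597 65477 42872 1393 44265 gn39 gk40 rfl rfl
theorem gn41 : countBelow gl 67074 = 45061 := countBelow_step gl 65477 1597 67074 44265 796 45061 gn40 gk41 rfl rfl
theorem gn42 : countBelow gl 68671 = 45826 := countBelow_step gl 67074 1597 68671 45061 765 45826 gn41 gk42 rfl rfl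
theorem gn43 : countBelow gl 70268 = 46493 := countBelow_step gl 68671 1597 70268 45826 667 46493 gn42 gk43 rfl rfl
theorem gn44 : countBelow gl 71865 = 46966 := countBelow_step gl 70268 1597 71865 46493 473 46966 gn43 gk44 rfl rfl
theorem gn45 : countBelow gl 73462 = 47710 := countBelow_step gl 71865 1597 73462 46966 744 47710 gn44 gk45 rfl rfl
theorem gn46 : countBelow gl 75059 = 48014 := countBelow_step gl 73462 1597 75059 47710 304 48014 gn45 gk46 rfl rfl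
theorem gn47 : countBelow gl 76656 = 49159 := countBelow_step gl 75059 1597 76656 48014 1145 49159 gn46 gk47 rfl rfl
theorem gn48 : countBelow gl 78253 = 50375 := countBelow_step gl 76656 1597 78253 49159 1216 50375 gn47 gk48 rfl rfl
theorem gn49 : countBelow gl 79850 = 51017 := countBelow_step gl 78253 1597 79850 50375 642 51017 gn48 gk49 rfl rfl
theorem gn50 : countBelow gl 81447 = 51766 := countBelow_step gl 79850 1597 81447 51017 749 51766 gn49 gk50 rfl rfl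
theorem gn51 : countBelow gl 83044 = 52263 := countBelow_step gl 81447 1597 83044 51766 497 52263 gn50 gk51 rfl rfl
theorem gn52 : countBelow gl 84641 = 53492 := countBelow_step gl 83044 1597 84641 52263 1229 53492 gn51 gk52 rfl rfl
theorem gn53 : countBelow gl 86238 = 54805 := countBelow_step gl 84641 1597 86238 53492 1313 54805 gn52 gk53 rfl rfl
theorem gn54 : countBelow gl 87835 = 56091 := countBelow_step gl 86238 1597 87835 54805 1286 56091 gn53 gk54 rfl rfl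
theorem gn55 : countBelow gl 89432 = 56787 := countBelow_step gl 87835 1597 89432 56091 696 56787 gn54 gk55 rfl rfl
theorem gn56 : countBelow gl 91029 = 57329 := countBelow_step gl 89432 1597 91029 56787 542 57329 gn55 gk56 rfl rfl
theorem gn57 : countBelow gl 92626 = 58242 := countBelow_step gl 91029 1597 92626 57329 913 58242 gn56 gk57 rfl rfl
theorem gn58 : countBelow gl 94223 = 58411 := countBelow_step gl 92626 1597 94223 58242 169 58411 gn57 gk58 rfl rfl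
theorem gn59 : countBelow gl 95820 = 59349 := countBelow_step gl 94223 1597 95820 58411 938 59349 gn58 gk59 rfl rfl
theorem gn60 : countBelow gl 97417 = 59812 := countBelow_step gl 95820 1597 97417 59349 463 59812 gn59 gk60 rfl rfl
theorem gn61 : countBelow gl 99014 = 60162 := countBelow_step gl 97417 1597 99014 59812 350 60162 gn60 gk61 rfl rfl
theorem gn62 : countBelow gl 100611 = 61509 := countBelow_step gl 99014 1597 100611 60162 1347 61509 gn61 gk62 rfl rfl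
theorem gn63 : countBelow gl 102208 = 62669 := countBelow_step gl 100611 1597 102208 61509 1160 62669 gn62 gk63 rfl rfl
theorem gn64 : countBelow gl 103805 = 63607 := countBelow_step gl 102208 1597 103805 62669 938 63607 gn63 gk64 rfl rfl
theorem gn65 : countBelow gl 105402 = 64145 := countBelow_step gl 103805 1597 105402 63607 538 64145 gn64 gk65 rfl rfl
theorem gn66 : countBelow gl 106999 = 64834 := countBelow_step gl 105402 1597 106999 64145 689 64834 gn65 gk66 rfl rfl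
theorem gn67 : countBelow gl 108596 = 65700 := countBelow_step gl 106999 1597 108596 64834 866 65700 gn66 gk67 rfl rfl
theorem gn68 : countBelow gl 110193 = 66935 := countBelow_step gl 108596 1597 110193 65700 1235 66935 gn67 gk68 rfl rfl
theorem gn69 : countBelow gl 111790 = 68122 := countBelow_step gl 110193 1597 111790 66935 1187 68122 gn68 gk69 rfl rfl
theorem gn70 : countBelow gl 113387 = 69517 := countBelow_step gl 111790 1597 113387 68122 1395 69517 gn69 gk70 rfl rfl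
theorem gn71 : countBelow gl 114984 = 70437 := countBelow_step gl 113387 1597 114984 69517 920 70437 gn70 gk71 rfl rfl
theorem gn72 : countBelow gl 116581 = 71041 := countBelow_step gl 114984 1597 116581 70437 604 71041 gn71 gk72 rfl rfl
theorem gn73 : countBelow gl 118178 = 71683 := countBelow_step gl 116581 1597 118178 71041 642 71683 gn72 gk73 rfl rfl
theorem gn74 : countBelow gl 119775 = 72406 := countBelow_step gl 118178 1597 119775 71683 723 72406 gn73 gk74 rfl rfl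
theorem gn75 : countBelow gl 121372 = 73040 := countBelow_step gl 119775 1597 121372 72406 634 73040 gn74 gk75 rfl rfl
theorem gn76 : countBelow gl 122969 = 73961 := countBelow_step gl 121372 1597 122969 73040 921 73961 gn75 gk76 rfl rfl
theorem gn77 : countBelow gl 124566 = 74226 := countBelow_step gl 122969 1597 124566 73961 265 74226 gn76 gk77 rfl rfl
theorem gn78 : countBelow gl 126163 = 75676 := countBelow_step gl 124566 1597 126163 74226 1450 75676 gn77 gk78 rfl rfl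
theorem gn79 : countBelow gl 127760 = 77273 := countBelow_step gl 126163 1597 127760 75676 1597 77273 gn78 gk79 rfl rfl
theorem gn80 : countBelow gl 129357 = 78870 := countBelow_step gl 127760 1597 129357 77273 1597 78870 gn79 gk80 rfl rfl
theorem gn81 : countBelow gl 130954 = 80458 := countBelow_step gl 129357 1597 130954 78870 1588 80458 gn80 gk81 rfl rfl
theorem gn82 : countBelow gl 132551 = 82052 := countBelow_step gl 130954 1597 132551 80458 1594 82052 gn81 gk82 rfl rfl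
theorem gn83 : countBelow gl 134148 = 83649 := countBelow_step gl 132551 1597 134148 82052 1597 83649 gn82 gk83 rfl rfl
theorem gn84 : countBelow gl 135745 = 85246 := countBelow_step gl 134148 1597 135745 83649 1597 85246 gn83 gk84 rfl rfl
theorem gn85 : countBelow gl 137342 = 86843 := countBelow_step gl 135745 1597 137342 85246 1597 86843 gn84 gk85 rfl rfl
theorem gn86 : countBelow gl 138939 = 88440 := countBelow_step gl 137342 1597 138939 86843 1597 88440 gn85 gk86 rfl rfl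
theorem gn87 : countBelow gl 140536 = 90036 := countBelow_step gl 138939 1597 140536 88440 1596 90036 gn86 gk87 rfl rfl
theorem gn88 : countBelow gl 142133 = 91633 := countBelow_step gl 140536 1597 142133 90036 1597 91633 gn87 gk88 rfl rfl
theorem gn89 : countBelow gl 143730 = 93230 := countBelow_step gl 142133 1597 143730 91633 1597 93230 gn88 gk89 rfl rfl
theorem gn90 : countBelow gl 145327 = 94827 := countBelow_step gl 143730 1597 145327 93230 1597 94827 gn89 gk90 rfl rfl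
theorem gn91 : countBelow gl 146924 = 96424 := countBelow_step gl 145327 1597 146924 94827 1597 96424 gn90 gk91 rfl rfl
theorem gn92 : countBelow gl 148521 = 98021 := countBelow_step gl 146924 1597 148521 96424 1597 98021 gn91 gk92 rfl rfl
theorem gn93 : countBelow gl 150118 = 99618 := countBelow_step gl 148521 1597 150118 98021 1597 99618 gn92 gk93 rfl rfl
theorem gn94 : countBelow gl 151715 = 101215 := countBelow_step gl 150118 1597 151715 99618 1597 101215 gn93 gk94 rfl rfl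
theorem gn95 : countBelow gl 153312 = 102812 := countBelow_step gl 151715 1597 153312 101215 1597 102812 gn94 gk95 rfl rfl
theorem gn96 : countBelow gl 154909 = 104409 := countBelow_step gl 153312 1597 154909 102812 1597 104409 gn95 gk96 rfl rfl
theorem gn97 : countBelow gl 156506 = 106006 := countBelow_step gl 154909 1597 156506 104409 1597 106006 gn96 gk97 rfl rfl
theorem gn98 : countBelow gl 158103 = 107603 := countBelow_step gl 156506 1597 158103 106006 1597 107603 gn97 gk98 rfl rfl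
theorem gn99 : countBelow gl 159700 = 109200 := countBelow_step gl 158103 1597 159700 107603 1597 109200 gn98 gk99 rfl rfl
theorem gn100 : countBelow gl 161297 = 110797 := countBelow_step gl 159700 1597 161297 109200 1597 110797 gn99 gk100 rfl rfl
theorem gn101 : countBelow gl 162894 = 112394 := countBelow_step gl 161297 1597 162894 110797 1597 112394 gn100 gk101 rfl rfl
theorem gn102 : countBelow gl 164491 = 113991 := countBelow_step gl 162894 1597 164491 112394 1597 113991 gn101 gk102 rfl rfl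
theorem gn103 : countBelow gl 166088 = 115588 := countBelow_step gl 164491 1597 166088 113991 1597 115588 gn102 gk103 rfl rfl
theorem gn104 : countBelow gl 167685 = 117185 := countBelow_step gl 166088 1597 167685 115588 1597 117185 gn103 gk104 rfl rfl
theorem gn105 : countBelow gl 169282 = 118782 := countBelow_step gl 167685 1597 169282 117185 1597 118782 gn104 gk105 rfl rfl
theorem gn106 : countBelow gl 170879 = 120379 := countBelow_step gl 169282 1597 170879 118782 1597 120379 gn105 gk106 rfl rfl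
theorem gn107 : countBelow gl 172476 = 121976 := countBelow_step gl 170879 1597 172476 120379 1597 121976 gn106 gk107 rfl rfl
theorem gn108 : countBelow gl 174073 = 123573 := countBelow_step gl 172476 1597 174073 121976 1597 123573 gn107 gk108 rfl rfl
theorem gn109 : countBelow gl 175670 = 125170 := countBelow_step gl 174073 1597 175670 123573 1597 125170 gn108 gk109 rfl rfl
theorem gn110 : countBelow gl 177267 = 126767 := countBelow_step gl 175670 1597 177267 125170 1597 126767 gn109 gk110 rfl rfl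
theorem gn111 : countBelow gl 178864 = 128364 := countBelow_step gl 177267 1597 178864 126767 1597 128364 gn110 gk111 rfl rfl
theorem gn112 : countBelow gl 180461 = 129961 := countBelow_step gl 178864 1597 180461 128364 1597 129961 gn111 gk112 rfl rfl
theorem gn113 : countBelow gl 182058 = 131558 := countBelow_step gl 180461 1597 182058 129961 1597 131558 gn112 gk113 rfl rfl
theorem gn114 : countBelow gl 183655 = 133155 := countBelow_step gl 182058 1597 183655 131558 1597 133155 gn113 gk114 rfl rfl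
theorem gn115 : countBelow gl 185252 = 134752 := countBelow_step gl 183655 1597 185252 133155 1597 134752 gn114 gk115 rfl rfl
theorem gn116 : countBelow gl 186849 = 136349 := countBelow_step gl 185252 1597 186849 134752 1597 136349 gn115 gk116 rfl rfl
theorem gn117 : countBelow gl 188446 = 137946 := countBelow_step gl 186849 1597 188446 136349 1597 137946 gn116 gk117 rfl rfl
theorem gn118 : countBelow gl 190043 = 139543 := countBelow_step gl 188446 1597 190043 137946 1597 139543 gn117 gk118 rfl rfl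
theorem gn119 : countBelow gl 191640 = 141140 := countBelow_step gl 190043 1597 191640 139543 1597 141140 gn118 gk119 rfl rfl
theorem gn120 : countBelow gl 193237 = 142737 := countBelow_step gl 191640 1597 193237 141140 1597 142737 gn119 gk120 rfl rfl
theorem gn121 : countBelow gl 194834 = 144334 := countBelow_step gl 193237 1597 194834 142737 1597 144334 gn120 gk121 rfl rfl
theorem gn122 : countBelow gl 196431 = 145923 := countBelow_step gl 194834 1597 196431 144334 1589 145923 gn121 gk122 rfl rfl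
theorem gn123 : countBelow gl 198028 = 147519 := countBelow_step gl 196431 1597 198028 145923 1596 147519 gn122 gk123 rfl rfl
theorem gn124 : countBelow gl 199625 = 149115 := countBelow_step gl 198028 1597 199625 147519 1596 149115 gn123 gk124 rfl rfl
theorem gn125 : countBelow gl 201222 = 150712 := countBelow_step gl 199625 1597 201222 149115 1597 150712 gn124 gk125 rfl rfl
theorem gn126 : countBelow gl 202819 = 152309 := countBelow_step gl 201222 1597 202819 150712 1597 152309 gn125 gk126 rfl rfl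
theorem gn127 : countBelow gl 204416 = 153906 := countBelow_step gl 202819 1597 204416 152309 1597 153906 gn126 gk127 rfl rfl
theorem gn128 : countBelow gl 206013 = 155503 := countBelow_step gl 204416 1597 206013 153906 1597 155503 gn127 gk128 rfl rfl
theorem gn129 : countBelow gl 207610 = 157091 := countBelow_step gl 206013 1597 207610 155503 1588 157091 gn128 gk129 rfl rfl
theorem gn130 : countBelow gl 209207 = 158687 := countBelow_step gl 207610 1597 209207 157091 1596 158687 gn129 gk130 rfl rfl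
theorem gn131 : countBelow gl 210804 = 160275 := countBelow_step gl 209207 1597 210804 158687 1588 160275 gn130 gk131 rfl rfl
theorem gn132 : countBelow gl 212401 = 161872 := countBelow_step gl 210804 1597 212401 160275 1597 161872 gn131 gk132 rfl rfl
theorem gn133 : countBelow gl 213998 = 163469 := countBelow_step gl 212401 1597 213998 161872 1597 163469 gn132 gk133 rfl rfl
theorem gn134 : countBelow gl 215595 = 165066 := countBelow_step gl 213998 1597 215595 163469 1597 165066 gn133 gk134 rfl rfl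
theorem gn135 : countBelow gl 217192 = 166663 := countBelow_step gl 215595 1597 217192 165066 1597 166663 gn134 gk135 rfl rfl
theorem gn136 : countBelow gl 218789 = 168260 := countBelow_step gl 217192 1597 218789 166663 1597 168260 gn135 gk136 rfl rfl
theorem gn137 : countBelow gl 220386 = 169857 := countBelow_step gl 218789 1597 220386 168260 1597 169857 gn136 gk137 rfl rfl
theorem gn138 : countBelow gl 221983 = 171454 := countBelow_step gl 220386 1597 221983 169857 1597 171454 gn137 gk138 rfl rfl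
theorem gn139 : countBelow gl 223580 = 173051 := countBelow_step gl 221983 1597 223580 171454 1597 173051 gn138 gk139 rfl rfl
theorem gn140 : countBelow gl 225177 = 174648 := countBelow_step gl 223580 1597 225177 173051 1597 174648 gn139 gk140 rfl rfl
theorem gn141 : countBelow gl 226774 = 176245 := countBelow_step gl 225177 1597 226774 174648 1597 176245 gn140 gk141 rfl rfl
theorem gn142 : countBelow gl 228371 = 177842 := countBelow_step gl 226774 1597 228371 176245 1597 177842 gn141 gk142 rfl rfl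
theorem gn143 : countBelow gl 229968 = 179439 := countBelow_step gl 228371 1597 229968 177842 1597 179439 gn142 gk143 rfl rfl
theorem gn144 : countBelow gl 231565 = 181036 := countBelow_step gl 229968 1597 231565 179439 1597 181036 gn143 gk144 rfl rfl
theorem gn145 : countBelow gl 233162 = 182633 := countBelow_step gl 231565 1597 233162 181036 1597 182633 gn144 gk145 rfl rfl
theorem gn146 : countBelow gl 234759 = 184230 := countBelow_step gl 233162 1597 234759 182633 1597 184230 gn145 gk146 rfl rfl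
theorem gn147 : countBelow gl 236356 = 185827 := countBelow_step gl 234759 1597 236356 184230 1597 185827 gn146 gk147 rfl rfl
theorem gn148 : countBelow gl 237953 = 187424 := countBelow_step gl 236356 1597 237953 185827 1597 187424 gn147 gk148 rfl rfl
theorem gn149 : countBelow gl 239550 = 189021 := countBelow_step gl 237953 1597 239550 187424 1597 189021 gn148 gk149 rfl rfl
theorem gn150 : countBelow gl 241147 = 190618 := countBelow_step gl 239550 1597 241147 189021 1597 190618 gn149 gk150 rfl rfl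
theorem gn151 : countBelow gl 242744 = 192215 := countBelow_step gl 241147 1597 242744 190618 1597 192215 gn150 gk151 rfl rfl
theorem gn152 : countBelow gl 244341 = 193812 := countBelow_step gl 242744 1597 244341 192215 1597 193812 gn151 gk152 rfl rfl
theorem gn153 : countBelow gl 245938 = 195409 := countBelow_step gl 244341 1597 245938 193812 1597 195409 gn152 gk153 rfl rfl
theorem gn154 : countBelow gl 247535 = 197006 := countBelow_step gl 245938 1597 247535 195409 1597 197006 gn153 gk154 rfl rfl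
theorem gn155 : countBelow gl 249132 = 198603 := countBelow_step gl 247535 1597 249132 197006 1597 198603 gn154 gk155 rfl rfl
theorem gn156 : countBelow gl 250729 = 200200 := countBelow_step gl 249132 1597 250729 198603 1597 200200 gn155 gk156 rfl rfl
theorem gn157 : countBelow gl 252326 = 201797 := countBelow_step gl 250729 1597 252326 200200 1597 201797 gn156 gk157 rfl rfl
theorem gn158 : countBelow gl 253923 = 203394 := countBelow_step gl 252326 1597 253923 201797 1597 203394 gn157 gk158 rfl rfl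
theorem gn159 : countBelow gl 255520 = 204991 := countBelow_step gl 253923 1597 255520 203394 1597 204991 gn158 gk159 rfl rfl
theorem gn160 : countBelow gl 257117 = 206588 := countBelow_step gl 255520 1597 257117 204991 1597 206588 gn159 gk160 rfl rfl
theorem gn161 : countBelow gl 258714 = 208185 := countBelow_step gl 257117 1597 258714 206588 1597 208185 gn160 gk161 rfl rfl
theorem gn162 : countBelow gl 260311 = 209782 := countBelow_step gl 258714 1597 260311 208185 1597 209782 gn161 gk162 rfl rfl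
theorem gn163 : countBelow gl 261908 = 211379 := countBelow_step gl 260311 1597 261908 209782 1597 211379 gn162 gk163 rfl rfl
theorem gn164 : countBelow gl 263505 = 212976 := countBelow_step gl 261908 1597 263505 211379 1597 212976 gn163 gk164 rfl rfl
theorem gn165 : countBelow gl 265102 = 214573 := countBelow_step gl 263505 1597 265102 212976 1597 214573 gn164 gk165 rfl rfl
theorem gn166 : countBelow gl 266699 = 216170 := countBelow_step gl 265102 1597 266699 214573 1597 216170 gn165 gk166 rfl rfl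
theorem gn167 : countBelow gl 268296 = 217767 := countBelow_step gl 266699 1597 268296 216170 1597 217767 gn166 gk167 rfl rfl
theorem gn168 : countBelow gl 269893 = 219364 := countBelow_step gl 268296 1597 269893 217767 1597 219364 gn167 gk168 rfl rfl
theorem gn169 : countBelow gl 271490 = 220961 := countBelow_step gl 269893 1597 271490 219364 1597 220961 gn168 gk169 rfl rfl
theorem gn170 : countBelow gl 273087 = 222558 := countBelow_step gl 271490 1597 273087 220961 1597 222558 gn169 gk170 rfl rfl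
theorem gn171 : countBelow gl 274684 = 224155 := countBelow_step gl 273087 1597 274684 222558 1597 224155 gn170 gk171 rfl rfl
theorem gn172 : countBelow gl 276281 = 225752 := countBelow_step gl 274684 1597 276281 224155 1597 225752 gn171 gk172 rfl rfl
theorem gn173 : countBelow gl 277878 = 227349 := countBelow_step gl 276281 1597 277878 225752 1597 227349 gn172 gk173 rfl rfl
theorem gn174 : countBelow gl 279475 = 228946 := countBelow_step gl 277878 1597 279475 227349 1597 228946 gn173 gk174 rfl rfl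
theorem gn175 : countBelow gl 281072 = 230543 := countBelow_step gl 279475 1597 281072 228946 1597 230543 gn174 gk175 rfl rfl
theorem gn176 : countBelow gl 282669 = 232140 := countBelow_step gl 281072 1597 282669 230543 1597 232140 gn175 gk176 rfl rfl
theorem gn177 : countBelow gl 284266 = 233737 := countBelow_step gl 282669 1597 284266 232140 1597 233737 gn176 gk177 rfl rfl
theorem gn178 : countBelow gl 285863 = 235334 := countBelow_step gl 284266 1597 285863 233737 1597 235334 gn177 gk178 rfl rfl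
theorem gn179 : countBelow gl 287460 = 236931 := countBelow_step gl 285863 1597 287460 235334 1597 236931 gn178 gk179 rfl rfl
theorem gn180 : countBelow gl 289057 = 238528 := countBelow_step gl 287460 1597 289057 236931 1597 238528 gn179 gk180 rfl rfl
theorem gn181 : countBelow gl 290654 = 240125 := countBelow_step gl 289057 1597 290654 238528 1597 240125 gn180 gk181 rfl rfl
theorem gn182 : countBelow gl 292251 = 241722 := countBelow_step gl 290654 1597 292251 240125 1597 241722 gn181 gk182 rfl rfl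
theorem gn183 : countBelow gl 293848 = 243319 := countBelow_step gl 292251 1597 293848 241722 1597 243319 gn182 gk183 rfl rfl
theorem gn184 : countBelow gl 295445 = 244916 := countBelow_step gl 293848 1597 295445 243319 1597 244916 gn183 gk184 rfl rfl
theorem gn185 : countBelow gl 297042 = 246513 := countBelow_step gl 295445 1597 297042 244916 1597 246513 gn184 gk185 rfl rfl
theorem gn186 : countBelow gl 298639 = 248110 := countBelow_step gl 297042 1597 298639 246513 1597 248110 gn185 gk186 rfl rfl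
theorem gn187 : countBelow gl 300236 = 249707 := countBelow_step gl 298639 1597 300236 248110 1597 249707 gn186 gk187 rfl rfl
theorem gn188 : countBelow gl 301833 = 251304 := countBelow_step gl 300236 1597 301833 249707 1597 251304 gn187 gk188 rfl rfl
theorem gn189 : countBelow gl 303430 = 252901 := countBelow_step gl 301833 1597 303430 251304 1597 252901 gn188 gk189 rfl rfl
theorem gn190 : countBelow gl 305027 = 254498 := countBelow_step gl 303430 1597 305027 252901 1597 254498 gn189 gk190 rfl rfl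
theorem gn191 : countBelow gl 306624 = 256095 := countBelow_step gl 305027 1597 306624 254498 1597 256095 gn190 gk191 rfl rfl
theorem gn192 : countBelow gl 308221 = 257692 := countBelow_step gl 306624 1597 308221 256095 1597 257692 gn191 gk192 rfl rfl
theorem gn193 : countBelow gl 309818 = 259289 := countBelow_step gl 308221 1597 309818 257692 1597 259289 gn192 gk193 rfl rfl
theorem gn194 : countBelow gl 311415 = 260886 := countBelow_step gl 309818 1597 311415 259289 1597 260886 gn193 gk194 rfl rfl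
theorem gn195 : countBelow gl 313012 = 262483 := countBelow_step gl 311415 1597 313012 260886 1597 262483 gn194 gk195 rfl rfl
theorem gn196 : countBelow gl 314609 = 264080 := countBelow_step gl 313012 1597 314609 262483 1597 264080 gn195 gk196 rfl rfl
theorem gn197 : countBelow gl 316206 = 265677 := countBelow_step gl 314609 1597 316206 264080 1597 265677 gn196 gk197 rfl rfl
theorem gn198 : countBelow gl 317803 = 267274 := countBelow_step gl 316206 1597 317803 265677 1597 267274 gn197 gk198 rfl rfl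
theorem gn199 : countBelow gl 319400 = 268871 := countBelow_step gl 317803 1597 319400 267274 1597 268871 gn198 gk199 rfl rfl
theorem gn200 : countBelow gl 320997 = 270468 := countBelow_step gl 319400 1597 320997 268871 1597 270468 gn199 gk200 rfl rfl
theorem gn201 : countBelow gl 322594 = 272065 := countBelow_step gl 320997 1597 322594 270468 1597 272065 gn200 gk201 rfl rfl
theorem gn202 : countBelow gl 324191 = 273662 := countBelow_step gl 322594 1597 324191 272065 1597 273662 gn201 gk202 rfl rfl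
theorem gn203 : countBelow gl 325788 = 275259 := countBelow_step gl 324191 1597 325788 273662 1597 275259 gn202 gk203 rfl rfl
theorem gn204 : countBelow gl 327385 = 276856 := countBelow_step gl 325788 1597 327385 275259 1597 276856 gn203 gk204 rfl rfl
theorem gn205 : countBelow gl 328982 = 278453 := countBelow_step gl 327385 1597 328982 276856 1597 278453 gn204 gk205 rfl rfl
theorem gn206 : countBelow gl 330579 = 280050 := countBelow_step gl 328982 1597 330579 278453 1597 280050 gn205 gk206 rfl rfl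
theorem gn207 : countBelow gl 332176 = 281647 := countBelow_step gl 330579 1597 332176 280050 1597 281647 gn206 gk207 rfl rfl
theorem gn208 : countBelow gl 333773 = 283244 := countBelow_step gl 332176 1597 333773 281647 1597 283244 gn207 gk208 rfl rfl
theorem gn209 : countBelow gl 335370 = 284841 := countBelow_step gl 333773 1597 335370 283244 1597 284841 gn208 gk209 rfl rfl
theorem gn210 : countBelow gl 336967 = 286438 := countBelow_step gl 335370 1597 336967 284841 1597 286438 gn209 gk210 rfl rfl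
theorem gn211 : countBelow gl 338564 = 288035 := countBelow_step gl 336967 1597 338564 286438 1597 288035 gn210 gk211 rfl rfl
theorem gn212 : countBelow gl 340161 = 289632 := countBelow_step gl 338564 1597 340161 288035 1597 289632 gn211 gk212 rfl rfl
theorem gn213 : countBelow gl 341758 = 291229 := countBelow_step gl 340161 1597 341758 289632 1597 291229 gn212 gk213 rfl rfl
theorem gn214 : countBelow gl 343355 = 292826 := countBelow_step gl 341758 1597 343355 291229 1597 292826 gn213 gk214 rfl rfl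
theorem gn215 : countBelow gl 344952 = 294423 := countBelow_step gl 343355 1597 344952 292826 1597 294423 gn214 gk215 rfl rfl
theorem gn216 : countBelow gl 346549 = 296020 := countBelow_step gl 344952 1597 346549 294423 1597 296020 gn215 gk216 rfl rfl
theorem gn217 : countBelow gl 348146 = 297617 := countBelow_step gl 346549 1597 348146 296020 1597 297617 gn216 gk217 rfl rfl
theorem gn218 : countBelow gl 349743 = 299214 := countBelow_step gl 348146 1597 349743 297617 1597 299214 gn217 gk218 rfl rfl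
theorem gn219 : countBelow gl 351340 = 300811 := countBelow_step gl 349743 1597 351340 299214 1597 300811 gn218 gk219 rfl rfl
theorem gn220 : countBelow gl 352937 = 302408 := countBelow_step gl 351340 1597 352937 300811 1597 302408 gn219 gk220 rfl rfl
theorem gn221 : countBelow gl 354534 = 304005 := countBelow_step gl 352937 1597 354534 302408 1597 304005 gn220 gk221 rfl rfl
theorem gn222 : countBelow gl 356131 = 305602 := countBelow_step gl 354534 1597 356131 304005 1597 305602 gn221 gk222 rfl rfl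
theorem gn223 : countBelow gl 357465 = 306936 := countBelow_step gl 356131 1334 357465 305602 1334 306936 gn222 gk223 rfl rfl
theorem tchk0 : treeChk PresFi24.cc.inv 12 (fullBases 12 PresFi24.cc.inv PresFi24.R) (fullSub PresFi24.cc.inv S) 0 tree0 = true := by decide +kernel
theorem tchk1 : treeChk PresFi24.cc.inv 12 (fullBases 12 PresFi24.cc.inv PresFi24.R) (fullSub PresFi24.cc.inv S) 1 tree1 = true := by decide +kernel
theorem tchk2 : treeChk PresFi24.cc.inv 12 (fullBases 12 PresFi24.cc.inv PresFi24.R) (fullSub PresFi24.cc.inv S) 2 tree2 = true := by decide +kernel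
theorem tchk3 : treeChk PresFi24.cc.inv 12 (fullBases 12 PresFi24.cc.inv PresFi24.R) (fullSub PresFi24.cc.inv S) 3 tree3 = true := by decide +kernel
theorem tchk4 : treeChk PresFi24.cc.inv 12 (fullBases 12 PresFi24.cc.inv PresFi24.R) (fullSub PresFi24.cc.inv S) 4 tree4 = true := by decide +kernel
theorem tchk5 : treeChk PresFi24.cc.inv 12 (fullBases 12 PresFi24.cc.inv PresFi24.R) (fullSub PresFi24.cc.inv S) 5 tree5 = true := by decide +kernel
theorem tchk6 : treeChk PresFi24.cc.inv 12 (fullBases 12 PresFi24.cc.inv PresFi24.R) (fullSub PresFi24.cc.inv S) 6 tree6 = true := by decide +kernel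
theorem tchk7 : treeChk PresFi24.cc.inv 12 (fullBases 12 PresFi24.cc.inv PresFi24.R) (fullSub PresFi24.cc.inv S) 7 tree7 = true := by decide +kernel
theorem tchk8 : treeChk PresFi24.cc.inv 12 (fullBases 12 PresFi24.cc.inv PresFi24.R) (fullSub PresFi24.cc.inv S) 8 tree8 = true := by decide +kernel
theorem tchk9 : treeChk PresFi24.cc.inv 12 (fullBases 12 PresFi24.cc.inv PresFi24.R) (fullSub PresFi24.cc.inv S) 9 tree9 = true := by decide +kernel
theorem tchk10 : treeChk PresFi24.cc.inv 12 (fullBases 12 PresFi24.cc.inv PresFi24.R) (fullSub PresFi24.cc.inv S) 10 tree10 = true := by decide +kernel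
theorem tchk11 : treeChk PresFi24.cc.inv 12 (fullBases 12 PresFi24.cc.inv PresFi24.R) (fullSub PresFi24.cc.inv S) 11 tree11 = true := by decide +kernel
theorem tchk12 : treeChk PresFi24.cc.inv 12 (fullBases 12 PresFi24.cc.inv PresFi24.R) (fullSub PresFi24.cc.inv S) 12 tree12 = true := by decide +kernel

noncomputable def certData2 : CertData2 PresFi24.cc.C PresFi24.cc.inv PresFi24.R S 306936 where
  P := par
  hP := ⟨by decide +kernel, by decide +kernel, by decide +kernel, by decide +kernel, by decide +kernel⟩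
  tabs := tabs
  N := 357465
  st := st
  hst := hst
  trees := trees
  je := je
  pe := pe
  rb := 8
  mR := 255
  cK := 16
  hcK := by decide +kernel
  htree := by
    intro l hl
    have hl' : l ≤ 12 := hl
    interval_cases l
    exacts [tchk0, tchk1, tchk2, tchk3, tchk4, tchk5, tchk6, tchk7, tchk8, tchk9, tchk10, tchk11, tchk12]
  hN := by decide +kernel
  hN1 := by decide +kernel
  hlo := by
    intro l hl
    have hl' : l ≤ 12 := hl
    interval_cases l <;> decide +kernel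
  hhi := by
    intro l hl
    have hl' : l ≤ 12 := hl
    interval_cases l <;> decide +kernel
  hz := by
    intro l hl
    have hl' : 12 < l := hl
    obtain ⟨k, rfl⟩ : ∃ k, l = k + 13 := ⟨l - 13, by omega⟩
    rfl
  hcol := by
    intro l hl
    have hl' : l < 12 := hl
    interval_cases l
    exacts [s0u1256, s1u1265, s2u1267, s3u1261, s4u1259, s5u1270, s6u1247, s7u1260, s8u1271, s9u1272, s10u1224, s11u1212]
  heps := s12u612
  hcount := gn223

noncomputable def certData : CertData PresFi24.cc.C PresFi24.cc.inv PresFi24.R S 306936 := certData2.toCertData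

end Cfsg.Agent.Lib.Helper35.Fi24a
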