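import Cfsg.Agent.Lib.Helper35.Fi24a.Data

set_option Elab.async false

namespace Cfsg.Agent.Lib.Helper35.Fi24a

open Cfsg.Agent.Lib.Helper35

theorem s0c0 : allBelow (fun k => fs0 (Nat.add (Nat.succ 0) k)) 262 = true := by decide +kernel
theorem s0c1 : allBelow (fun k => fs0 (Nat.add (Nat.succ 262) k)) 277 = true := by decide +kernel
theorem s0c2 : allBelow (fun k => fs0 (Nat.add (Nat.succ 539) k)) 264 = true := by decide +kernel
theorem s0c3 : allBelow (fun k => fs0 (Nat.add (Nat.succ 803) k)) 269 = true := by decide +kernel
theorem s0c4 : allBelow (fun k => fs0 (Nat.add (Nat.succ 1072) k)) 254 = true := by decide +kernel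
theorem s0c5 : allBelow (fun k => fs0 (Nat.add (Nat.succ 1326) k)) 266 = true := by decide +kernel
theorem s0c6 : allBelow (fun k => fs0 (Nat.add (Nat.succ 1592) k)) 290 = true := by decide +kernel
theorem s0c7 : allBelow (fun k => fs0 (Nat.add (Nat.succ 1882) k)) 257 = true := by decide +kernel
theorem s0c8 : allBelow (fun k => fs0 (Nat.add (Nat.succ 2139) k)) 273 = true := by decide +kernel
theorem s0c9 : allBelow (fun k => fs0 (Nat.add (Nat.succ 2412) k)) 311 = true := by decide +kernel
theorem s0c10 : allBelow (fun k => fs0 (Nat.add (Nat.succ 2723) k)) 236 = true := by decide +kernel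
theorem s0c11 : allBelow (fun k => fs0 (Nat.add (Nat.succ 2959) k)) 277 = true := by decide +kernel
theorem s0c12 : allBelow (fun k => fs0 (Nat.add (Nat.succ 3236) k)) 348 = true := by decide +kernel
theorem s0c13 : allBelow (fun k => fs0 (Nat.add (Nat.succ 3584) k)) 250 = true := by decide +kernel
theorem s0c14 : allBelow (fun k => fs0 (Nat.add (Nat.succ 3834) k)) 248 = true := by decide +kernel
theorem s0c15 : allBelow (fun k => fs0 (Nat.add (Nat.succ 4082) k)) 272 = true := by decide +kernel
theorem s0c16 : allBelow (fun k => fs0 (Nat.add (Nat.succ 4354) k)) 335 = true := by decide +kernel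
theorem s0c17 : allBelow (fun k => fs0 (Nat.add (Nat.succ 4689) k)) 352 = true := by decide +kernel
theorem s0c18 : allBelow (fun k => fs0 (Nat.add (Nat.succ 5041) k)) 247 = true := by decide +kernel
theorem s0c19 : allBelow (fun k => fs0 (Nat.add (Nat.succ 5288) k)) 267 = true := by decide +kernel
theorem s0c20 : allBelow (fun k => fs0 (Nat.add (Nat.succ 5555) k)) 253 = true := by decide +kernel
theorem s0c21 : allBelow (fun k => fs0 (Nat.add (Nat.succ 5808) k)) 300 = true := by decide +kernel
theorem s0c22 : allBelow (fun k => fs0 (Nat.add (Nat.succ 6108) k)) 327 = true := by decide +kernel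
theorem s0c23 : allBelow (fun k => fs0 (Nat.add (Nat.succ 6435) k)) 360 = true := by decide +kernel
theorem s0c24 : allBelow (fun k => fs0 (Nat.add (Nat.succ 6795) k)) 337 = true := by decide +kernel
theorem s0c25 : allBelow (fun k => fs0 (Nat.add (Nat.succ 7132) k)) 240 = true := by decide +kernel
theorem s0c26 : allBelow (fun k => fs0 (Nat.add (Nat.succ 7372) k)) 296 = true := by decide +kernel
theorem s0c27 : allBelow (fun k => fs0 (Nat.add (Nat.succ 7668) k)) 240 = true := by decide +kernel
theorem s0c28 : allBelow (fun k => fs0 (Nat.add (Nat.succ 7908) k)) 267 = true := by decide +kernel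
theorem s0c29 : allBelow (fun k => fs0 (Nat.add (Nat.succ 8175) k)) 333 = true := by decide +kernel
theorem s0c30 : allBelow (fun k => fs0 (Nat.add (Nat.succ 8508) k)) 323 = true := by decide +kernel
theorem s0c31 : allBelow (fun k => fs0 (Nat.add (Nat.succ 8831) k)) 349 = true := by decide +kernel
theorem s0c32 : allBelow (fun k => fs0 (Nat.add (Nat.succ 9180) k)) 418 = true := by decide +kernel
theorem s0c33 : allBelow (fun k => fs0 (Nat.add (Nat.succ 9598) k)) 287 = true := by decide +kernel
theorem s0c34 : allBelow (fun k => fs0 (Nat.add (Nat.succ 9885) k)) 256 = true := by decide +kernel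
theorem s0c35 : allBelow (fun k => fs0 (Nat.add (Nat.succ 10141) k)) 294 = true := by decide +kernel
theorem s0c36 : allBelow (fun k => fs0 (Nat.add (Nat.succ 10435) k)) 235 = true := by decide +kernel
theorem s0c37 : allBelow (fun k => fs0 (Nat.add (Nat.succ 10670) k)) 241 = true := by decide +kernel
theorem s0c38 : allBelow (fun k => fs0 (Nat.add (Nat.succ 10911) k)) 246 = true := by decide +kernel
theorem s0c39 : allBelow (fun k => fs0 (Nat.add (Nat.succ 11157) k)) 292 = true := by decide +kernel
theorem s0c40 : allBelow (fun k => fs0 (Nat.add (Nat.succ 11449) k)) 323 = true := by decide +kernel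
theorem s0c41 : allBelow (fun k => fs0 (Nat.add (Nat.succ 11772) k)) 306 = true := by decide +kernel
theorem s0c42 : allBelow (fun k => fs0 (Nat.add (Nat.succ 12078) k)) 340 = true := by decide +kernel
theorem s0c43 : allBelow (fun k => fs0 (Nat.add (Nat.succ 12418) k)) 322 = true := by decide +kernel
theorem s0c44 : allBelow (fun k => fs0 (Nat.add (Nat.succ 12740) k)) 246 = true := by decide +kernel
theorem s0c45 : allBelow (fun k => fs0 (Nat.add (Nat.succ 12986) k)) 254 = true := by decide +kernel
theorem s0c46 : allBelow (fun k => fs0 (Nat.add (Nat.succ 13240) k)) 272 = true := by decide +kernel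
theorem s0c47 : allBelow (fun k => fs0 (Nat.add (Nat.succ 13512) k)) 238 = true := by decide +kernel
theorem s0c48 : allBelow (fun k => fs0 (Nat.add (Nat.succ 13750) k)) 242 = true := by decide +kernel
theorem s0c49 : allBelow (fun k => fs0 (Nat.add (Nat.succ 13992) k)) 243 = true := by decide +kernel
theorem s0c50 : allBelow (fun k => fs0 (Nat.add (Nat.succ 14235) k)) 282 = true := by decide +kernel
theorem s0c51 : allBelow (fun k => fs0 (Nat.add (Nat.succ 14517) k)) 301 = true := by decide +kernel
theorem s0c52 : allBelow (fun k => fs0 (Nat.add (Nat.succ 14818) k)) 315 = true := by decide +kernel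
theorem s0c53 : allBelow (fun k => fs0 (Nat.add (Nat.succ 15133) k)) 331 = true := by decide +kernel
theorem s0c54 : allBelow (fun k => fs0 (Nat.add (Nat.succ 15464) k)) 316 = true := by decide +kernel
theorem s0c55 : allBelow (fun k => fs0 (Nat.add (Nat.succ 15780) k)) 349 = true := by decide +kernel
theorem s0c56 : allBelow (fun k => fs0 (Nat.add (Nat.succ 16129) k)) 396 = true := by decide +kernel
theorem s0c57 : allBelow (fun k => fs0 (Nat.add (Nat.succ 16525) k)) 256 = true := by decide +kernel
theorem s0c58 : allBelow (fun k => fs0 (Nat.add (Nat.succ 16781) k)) 279 = true := by decide +kernel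
theorem s0c59 : allBelow (fun k => fs0 (Nat.add (Nat.succ 17060) k)) 285 = true := by decide +kernel
theorem s0c60 : allBelow (fun k => fs0 (Nat.add (Nat.succ 17345) k)) 291 = true := by decide +kernel
theorem s0c61 : allBelow (fun k => fs0 (Nat.add (Nat.succ 17636) k)) 236 = true := by decide +kernel
theorem s0c62 : allBelow (fun k => fs0 (Nat.add (Nat.succ 17872) k)) 255 = true := by decide +kernel
theorem s0c63 : allBelow (fun k => fs0 (Nat.add (Nat.succ 18127) k)) 263 = true := by decide +kernel
theorem s0c64 : allBelow (fun k => fs0 (Nat.add (Nat.succ 18390) k)) 246 = true := by decide +kernel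
theorem s0c65 : allBelow (fun k => fs0 (Nat.add (Nat.succ 18636) k)) 289 = true := by decide +kernel
theorem s0c66 : allBelow (fun k => fs0 (Nat.add (Nat.succ 18925) k)) 288 = true := by decide +kernel
theorem s0c67 : allBelow (fun k => fs0 (Nat.add (Nat.succ 19213) k)) 324 = true := by decide +kernel
theorem s0c68 : allBelow (fun k => fs0 (Nat.add (Nat.succ 19537) k)) 307 = true := by decide +kernel
theorem s0c69 : allBelow (fun k => fs0 (Nat.add (Nat.succ 19844) k)) 347 = true := by decide +kernel
theorem s0c70 : allBelow (fun k => fs0 (Nat.add (Nat.succ 20191) k)) 345 = true := by decide +kernel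
theorem s0c71 : allBelow (fun k => fs0 (Nat.add (Nat.succ 20536) k)) 316 = true := by decide +kernel
theorem s0c72 : allBelow (fun k => fs0 (Nat.add (Nat.succ 20852) k)) 367 = true := by decide +kernel
theorem s0c73 : allBelow (fun k => fs0 (Nat.add (Nat.succ 21219) k)) 409 = true := by decide +kernel
theorem s0c74 : allBelow (fun k => fs0 (Nat.add (Nat.succ 21628) k)) 376 = true := by decide +kernel
theorem s0c75 : allBelow (fun k => fs0 (Nat.add (Nat.succ 22004) k)) 246 = true := by decide +kernel
theorem s0c76 : allBelow (fun k => fs0 (Nat.add (Nat.succ 22250) k)) 342 = true := by decide +kernel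
theorem s0c77 : allBelow (fun k => fs0 (Nat.add (Nat.succ 22592) k)) 267 = true := by decide +kernel
theorem s0c78 : allBelow (fun k => fs0 (Nat.add (Nat.succ 22859) k)) 360 = true := by decide +kernel
theorem s0c79 : allBelow (fun k => fs0 (Nat.add (Nat.succ 23219) k)) 241 = true := by decide +kernel
theorem s0c80 : allBelow (fun k => fs0 (Nat.add (Nat.succ 23460) k)) 236 = true := by decide +kernel
theorem s0c81 : allBelow (fun k => fs0 (Nat.add (Nat.succ 23696) k)) 261 = true := by decide +kernel
theorem s0c82 : allBelow (fun k => fs0 (Nat.add (Nat.succ 23957) k)) 286 = true := by decide +kernel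
theorem s0c83 : allBelow (fun k => fs0 (Nat.add (Nat.succ 24243) k)) 284 = true := by decide +kernel
theorem s0c84 : allBelow (fun k => fs0 (Nat.add (Nat.succ 24527) k)) 245 = true := by decide +kernel
theorem s0c85 : allBelow (fun k => fs0 (Nat.add (Nat.succ 24772) k)) 305 = true := by decide +kernel
theorem s0c86 : allBelow (fun k => fs0 (Nat.add (Nat.succ 25077) k)) 293 = true := by decide +kernel
theorem s0c87 : allBelow (fun k => fs0 (Nat.add (Nat.succ 25370) k)) 323 = true := by decide +kernel
theorem s0c88 : allBelow (fun k => fs0 (Nat.add (Nat.succ 25693) k)) 322 = true := by decide +kernel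
theorem s0c89 : allBelow (fun k => fs0 (Nat.add (Nat.succ 26015) k)) 305 = true := by decide +kernel
theorem s0c90 : allBelow (fun k => fs0 (Nat.add (Nat.succ 26320) k)) 353 = true := by decide +kernel
theorem s0c91 : allBelow (fun k => fs0 (Nat.add (Nat.succ 26673) k)) 355 = true := by decide +kernel
theorem s0c92 : allBelow (fun k => fs0 (Nat.add (Nat.succ 27028) k)) 378 = true := by decide +kernel
theorem s0c93 : allBelow (fun k => fs0 (Nat.add (Nat.succ 27406) k)) 325 = true := by decide +kernel
theorem s0c94 : allBelow (fun k => fs0 (Nat.add (Nat.succ 27731) k)) 304 = true := by decide +kernel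
theorem s0c95 : allBelow (fun k => fs0 (Nat.add (Nat.succ 28035) k)) 433 = true := by decide +kernel
theorem s0c96 : allBelow (fun k => fs0 (Nat.add (Nat.succ 28468) k)) 495 = true := by decide +kernel
theorem s0c97 : allBelow (fun k => fs0 (Nat.add (Nat.succ 28963) k)) 371 = true := by decide +kernel
theorem s0c98 : allBelow (fun k => fs0 (Nat.add (Nat.succ 29334) k)) 248 = true := by decide +kernel
theorem s0c99 : allBelow (fun k => fs0 (Nat.add (Nat.succ 29582) k)) 328 = true := by decide +kernel
theorem s0c100 : allBelow (fun k => fs0 (Nat.add (Nat.succ 29910) k)) 386 = true := by decide +kernel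
theorem s0c101 : allBelow (fun k => fs0 (Nat.add (Nat.succ 30296) k)) 282 = true := by decide +kernel
theorem s0c102 : allBelow (fun k => fs0 (Nat.add (Nat.succ 30578) k)) 411 = true := by decide +kernel
theorem s0c103 : allBelow (fun k => fs0 (Nat.add (Nat.succ 30989) k)) 243 = true := by decide +kernel
theorem s0c104 : allBelow (fun k => fs0 (Nat.add (Nat.succ 31232) k)) 249 = true := by decide +kernel
theorem s0c105 : allBelow (fun k => fs0 (Nat.add (Nat.succ 31481) k)) 235 = true := by decide +kernel
theorem s0c106 : allBelow (fun k => fs0 (Nat.add (Nat.succ 31716) k)) 246 = true := by decide +kernel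
theorem s0c107 : allBelow (fun k => fs0 (Nat.add (Nat.succ 31962) k)) 328 = true := by decide +kernel
theorem s0c108 : allBelow (fun k => fs0 (Nat.add (Nat.succ 32290) k)) 297 = true := by decide +kernel
theorem s0c109 : allBelow (fun k => fs0 (Nat.add (Nat.succ 32587) k)) 308 = true := by decide +kernel
theorem s0c110 : allBelow (fun k => fs0 (Nat.add (Nat.succ 32895) k)) 260 = true := by decide +kernel
theorem s0c111 : allBelow (fun k => fs0 (Nat.add (Nat.succ 33155) k)) 256 = true := by decide +kernel
theorem s0c112 : allBelow (fun k => fs0 (Nat.add (Nat.succ 33411) k)) 369 = true := by decide +kernel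
theorem s0c113 : allBelow (fun k => fs0 (Nat.add (Nat.succ 33780) k)) 305 = true := by decide +kernel
theorem s0c114 : allBelow (fun k => fs0 (Nat.add (Nat.succ 34085) k)) 322 = true := by decide +kernel
theorem s0c115 : allBelow (fun k => fs0 (Nat.add (Nat.succ 34407) k)) 338 = true := by decide +kernel
theorem s0c116 : allBelow (fun k => fs0 (Nat.add (Nat.succ 34745) k)) 327 = true := by decide +kernel
theorem s0c117 : allBelow (fun k => fs0 (Nat.add (Nat.succ 35072) k)) 304 = true := by decide +kernel
theorem s0c118 : allBelow (fun k => fs0 (Nat.add (Nat.succ 35376) k)) 311 = true := by decide +kernel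
theorem s0c119 : allBelow (fun k => fs0 (Nat.add (Nat.succ 35687) k)) 404 = true := by decide +kernel
theorem s0c120 : allBelow (fun k => fs0 (Nat.add (Nat.succ 36091) k)) 362 = true := by decide +kernel
theorem s0c121 : allBelow (fun k => fs0 (Nat.add (Nat.succ 36453) k)) 386 = true := by decide +kernel
theorem s0c122 : allBelow (fun k => fs0 (Nat.add (Nat.succ 36839) k)) 379 = true := by decide +kernel
theorem s0c123 : allBelow (fun k => fs0 (Nat.add (Nat.succ 37218) k)) 344 = true := by decide +kernel
theorem s0c124 : allBelow (fun k => fs0 (Nat.add (Nat.succ 37562) k)) 312 = true := by decide +kernel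
theorem s0c125 : allBelow (fun k => fs0 (Nat.add (Nat.succ 37874) k)) 484 = true := by decide +kernel
theorem s0c126 : allBelow (fun k => fs0 (Nat.add (Nat.succ 38358) k)) 494 = true := by decide +kernel
theorem s0c127 : allBelow (fun k => fs0 (Nat.add (Nat.succ 38852) k)) 519 = true := by decide +kernel
theorem s0c128 : allBelow (fun k => fs0 (Nat.add (Nat.succ 39371) k)) 277 = true := by decide +kernel
theorem s0c129 : allBelow (fun k => fs0 (Nat.add (Nat.succ 39648) k)) 242 = true := by decide +kernel
theorem s0c130 : allBelow (fun k => fs0 (Nat.add (Nat.succ 39890) k)) 331 = true := by decide +kernel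
theorem s0c131 : allBelow (fun k => fs0 (Nat.add (Nat.succ 40221) k)) 446 = true := by decide +kernel
theorem s0c132 : allBelow (fun k => fs0 (Nat.add (Nat.succ 40667) k)) 387 = true := by decide +kernel
theorem s0c133 : allBelow (fun k => fs0 (Nat.add (Nat.succ 41054) k)) 426 = true := by decide +kernel
theorem s0c134 : allBelow (fun k => fs0 (Nat.add (Nat.succ 41480) k)) 336 = true := by decide +kernel
theorem s0c135 : allBelow (fun k => fs0 (Nat.add (Nat.succ 41816) k)) 255 = true := by decide +kernel
theorem s0c136 : allBelow (fun k => fs0 (Nat.add (Nat.succ 42071) k)) 245 = true := by decide +kernel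
theorem s0c137 : allBelow (fun k => fs0 (Nat.add (Nat.succ 42316) k)) 260 = true := by decide +kernel
theorem s0c138 : allBelow (fun k => fs0 (Nat.add (Nat.succ 42576) k)) 242 = true := by decide +kernel
theorem s0c139 : allBelow (fun k => fs0 (Nat.add (Nat.succ 42818) k)) 243 = true := by decide +kernel
theorem s0c140 : allBelow (fun k => fs0 (Nat.add (Nat.succ 43061) k)) 318 = true := by decide +kernel
theorem s0c141 : allBelow (fun k => fs0 (Nat.add (Nat.succ 43379) k)) 326 = true := by decide +kernel
theorem s0c142 : allBelow (fun k => fs0 (Nat.add (Nat.succ 43705) k)) 307 = true := by decide +kernel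
theorem s0c143 : allBelow (fun k => fs0 (Nat.add (Nat.succ 44012) k)) 381 = true := by decide +kernel
theorem s0c144 : allBelow (fun k => fs0 (Nat.add (Nat.succ 44393) k)) 255 = true := by decide +kernel
theorem s0c145 : allBelow (fun k => fs0 (Nat.add (Nat.succ 44648) k)) 271 = true := by decide +kernel
theorem s0c146 : allBelow (fun k => fs0 (Nat.add (Nat.succ 44919) k)) 278 = true := by decide +kernel
theorem s0c147 : allBelow (fun k => fs0 (Nat.add (Nat.succ 45197) k)) 421 = true := by decide +kernel
theorem s0c148 : allBelow (fun k => fs0 (Nat.add (Nat.succ 45618) k)) 362 = true := by decide +kernel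
theorem s0c149 : allBelow (fun k => fs0 (Nat.add (Nat.succ 45980) k)) 293 = true := by decide +kernel
theorem s0c150 : allBelow (fun k => fs0 (Nat.add (Nat.succ 46273) k)) 329 = true := by decide +kernel
theorem s0c151 : allBelow (fun k => fs0 (Nat.add (Nat.succ 46602) k)) 336 = true := by decide +kernel
theorem s0c152 : allBelow (fun k => fs0 (Nat.add (Nat.succ 46938) k)) 348 = true := by decide +kernel
theorem s0c153 : allBelow (fun k => fs0 (Nat.add (Nat.succ 47286) k)) 314 = true := by decide +kernel
theorem s0c154 : allBelow (fun k => fs0 (Nat.add (Nat.succ 47600) k)) 305 = true := by decide +kernel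
theorem s0c155 : allBelow (fun k => fs0 (Nat.add (Nat.succ 47905) k)) 314 = true := by decide +kernel
theorem s0c156 : allBelow (fun k => fs0 (Nat.add (Nat.succ 48219) k)) 360 = true := by decide +kernel
theorem s0c157 : allBelow (fun k => fs0 (Nat.add (Nat.succ 48579) k)) 422 = true := by decide +kernel
theorem s0c158 : allBelow (fun k => fs0 (Nat.add (Nat.succ 49001) k)) 369 = true := by decide +kernel
theorem s0c159 : allBelow (fun k => fs0 (Nat.add (Nat.succ 49370) k)) 399 = true := by decide +kernel
theorem s0c160 : allBelow (fun k => fs0 (Nat.add (Nat.succ 49769) k)) 483 = true := by decide +kernel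
theorem s0c161 : allBelow (fun k => fs0 (Nat.add (Nat.succ 50252) k)) 341 = true := by decide +kernel
theorem s0c162 : allBelow (fun k => fs0 (Nat.add (Nat.succ 50593) k)) 352 = true := by decide +kernel
theorem s0c163 : allBelow (fun k => fs0 (Nat.add (Nat.succ 50945) k)) 316 = true := by decide +kernel
theorem s0c164 : allBelow (fun k => fs0 (Nat.add (Nat.succ 51261) k)) 435 = true := by decide +kernel
theorem s0c165 : allBelow (fun k => fs0 (Nat.add (Nat.succ 51696) k)) 519 = true := by decide +kernel
theorem s0c166 : allBelow (fun k => fs0 (Nat.add (Nat.succ 52215) k)) 605 = true := by decide +kernel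
theorem s0c167 : allBelow (fun k => fs0 (Nat.add (Nat.succ 52820) k)) 443 = true := by decide +kernel
theorem s0c168 : allBelow (fun k => fs0 (Nat.add (Nat.succ 53263) k)) 272 = true := by decide +kernel
theorem s0c169 : allBelow (fun k => fs0 (Nat.add (Nat.succ 53535) k)) 292 = true := by decide +kernel
theorem s0c170 : allBelow (fun k => fs0 (Nat.add (Nat.succ 53827) k)) 275 = true := by decide +kernel
theorem s0c171 : allBelow (fun k => fs0 (Nat.add (Nat.succ 54102) k)) 396 = true := by decide +kernel
theorem s0c172 : allBelow (fun k => fs0 (Nat.add (Nat.succ 54498) k)) 522 = true := by decide +kernel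
theorem s0c173 : allBelow (fun k => fs0 (Nat.add (Nat.succ 55020) k)) 425 = true := by decide +kernel
theorem s0c174 : allBelow (fun k => fs0 (Nat.add (Nat.succ 55445) k)) 436 = true := by decide +kernel
theorem s0c175 : allBelow (fun k => fs0 (Nat.add (Nat.succ 55881) k)) 474 = true := by decide +kernel
theorem s0c176 : allBelow (fun k => fs0 (Nat.add (Nat.succ 56355) k)) 245 = true := by decide +kernel
theorem s0c177 : allBelow (fun k => fs0 (Nat.add (Nat.succ 56600) k)) 273 = true := by decide +kernel
theorem s0c178 : allBelow (fun k => fs0 (Nat.add (Nat.succ 56873) k)) 237 = true := by decide +kernel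
theorem s0c179 : allBelow (fun k => fs0 (Nat.add (Nat.succ 57110) k)) 270 = true := by decide +kernel
theorem s0c180 : allBelow (fun k => fs0 (Nat.add (Nat.succ 57380) k)) 263 = true := by decide +kernel
theorem s0c181 : allBelow (fun k => fs0 (Nat.add (Nat.succ 57643) k)) 238 = true := by decide +kernel
theorem s0c182 : allBelow (fun k => fs0 (Nat.add (Nat.succ 57881) k)) 248 = true := by decide +kernel
theorem s0c183 : allBelow (fun k => fs0 (Nat.add (Nat.succ 58129) k)) 289 = true := by decide +kernel
theorem s0c184 : allBelow (fun k => fs0 (Nat.add (Nat.succ 58418) k)) 322 = true := by decide +kernel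
theorem s0c185 : allBelow (fun k => fs0 (Nat.add (Nat.succ 58740) k)) 360 = true := by decide +kernel
theorem s0c186 : allBelow (fun k => fs0 (Nat.add (Nat.succ 59100) k)) 332 = true := by decide +kernel
theorem s0c187 : allBelow (fun k => fs0 (Nat.add (Nat.succ 59432) k)) 345 = true := by decide +kernel
theorem s0c188 : allBelow (fun k => fs0 (Nat.add (Nat.succ 59777) k)) 381 = true := by decide +kernel
theorem s0c189 : allBelow (fun k => fs0 (Nat.add (Nat.succ 60158) k)) 263 = true := by decide +kernel
theorem s0c190 : allBelow (fun k => fs0 (Nat.add (Nat.succ 60421) k)) 308 = true := by decide +kernel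
theorem s0c191 : allBelow (fun k => fs0 (Nat.add (Nat.succ 60729) k)) 270 = true := by decide +kernel
theorem s0c192 : allBelow (fun k => fs0 (Nat.add (Nat.succ 60999) k)) 443 = true := by decide +kernel
theorem s0c193 : allBelow (fun k => fs0 (Nat.add (Nat.succ 61442) k)) 418 = true := by decide +kernel
theorem s0c194 : allBelow (fun k => fs0 (Nat.add (Nat.succ 61860) k)) 316 = true := by decide +kernel
theorem s0c195 : allBelow (fun k => fs0 (Nat.add (Nat.succ 62176) k)) 321 = true := by decide +kernel
theorem s0c196 : allBelow (fun k => fs0 (Nat.add (Nat.succ 62497) k)) 305 = true := by decide +kernel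
theorem s0c197 : allBelow (fun k => fs0 (Nat.add (Nat.succ 62802) k)) 391 = true := by decide +kernel
theorem s0c198 : allBelow (fun k => fs0 (Nat.add (Nat.succ 63193) k)) 307 = true := by decide +kernel
theorem s0c199 : allBelow (fun k => fs0 (Nat.add (Nat.succ 63500) k)) 361 = true := by decide +kernel
theorem s0c200 : allBelow (fun k => fs0 (Nat.add (Nat.succ 63861) k)) 337 = true := by decide +kernel
theorem s0c201 : allBelow (fun k => fs0 (Nat.add (Nat.succ 64198) k)) 305 = true := by decide +kernel
theorem s0c202 : allBelow (fun k => fs0 (Nat.add (Nat.succ 64503) k)) 305 = true := by decide +kernel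
theorem s0c203 : allBelow (fun k => fs0 (Nat.add (Nat.succ 64808) k)) 319 = true := by decide +kernel
theorem s0c204 : allBelow (fun k => fs0 (Nat.add (Nat.succ 65127) k)) 323 = true := by decide +kernel
theorem s0c205 : allBelow (fun k => fs0 (Nat.add (Nat.succ 65450) k)) 404 = true := by decide +kernel
theorem s0c206 : allBelow (fun k => fs0 (Nat.add (Nat.succ 65854) k)) 449 = true := by decide +kernel
theorem s0c207 : allBelow (fun k => fs0 (Nat.add (Nat.succ 66303) k)) 384 = true := by decide +kernel
theorem s0c208 : allBelow (fun k => fs0 (Nat.add (Nat.succ 66687) k)) 409 = true := by decide +kernel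
theorem s0c209 : allBelow (fun k => fs0 (Nat.add (Nat.succ 67096) k)) 450 = true := by decide +kernel
theorem s0c210 : allBelow (fun k => fs0 (Nat.add (Nat.succ 67546) k)) 509 = true := by decide +kernel
theorem s0c211 : allBelow (fun k => fs0 (Nat.add (Nat.succ 68055) k)) 364 = true := by decide +kernel
theorem s0c212 : allBelow (fun k => fs0 (Nat.add (Nat.succ 68419) k)) 352 = true := by decide +kernel
theorem s0c213 : allBelow (fun k => fs0 (Nat.add (Nat.succ 68771) k)) 343 = true := by decide +kernel
theorem s0c214 : allBelow (fun k => fs0 (Nat.add (Nat.succ 69114) k)) 348 = true := by decide +kernel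
theorem s0c215 : allBelow (fun k => fs0 (Nat.add (Nat.succ 69462) k)) 528 = true := by decide +kernel
theorem s0c216 : allBelow (fun k => fs0 (Nat.add (Nat.succ 69990) k)) 523 = true := by decide +kernel
theorem s0c217 : allBelow (fun k => fs0 (Nat.add (Nat.succ 70513) k)) 656 = true := by decide +kernel
theorem s0c218 : allBelow (fun k => fs0 (Nat.add (Nat.succ 71169) k)) 409 = true := by decide +kernel
theorem s0c219 : allBelow (fun k => fs0 (Nat.add (Nat.succ 71578) k)) 262 = true := by decide +kernel
theorem s0c220 : allBelow (fun k => fs0 (Nat.add (Nat.succ 71840) k)) 346 = true := by decide +kernel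
theorem s0c221 : allBelow (fun k => fs0 (Nat.add (Nat.succ 72186) k)) 281 = true := by decide +kernel
theorem s0c222 : allBelow (fun k => fs0 (Nat.add (Nat.succ 72467) k)) 295 = true := by decide +kernel
theorem s0c223 : allBelow (fun k => fs0 (Nat.add (Nat.succ 72762) k)) 413 = true := by decide +kernel
theorem s0c224 : allBelow (fun k => fs0 (Nat.add (Nat.succ 73175) k)) 556 = true := by decide +kernel
theorem s0c225 : allBelow (fun k => fs0 (Nat.add (Nat.succ 73731) k)) 491 = true := by decide +kernel
theorem s0c226 : allBelow (fun k => fs0 (Nat.add (Nat.succ 74222) k)) 434 = true := by decide +kernel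
theorem s0c227 : allBelow (fun k => fs0 (Nat.add (Nat.succ 74656) k)) 645 = true := by decide +kernel
theorem s0c228 : allBelow (fun k => fs0 (Nat.add (Nat.succ 75301) k)) 277 = true := by decide +kernel
theorem s0c229 : allBelow (fun k => fs0 (Nat.add (Nat.succ 75578) k)) 249 = true := by decide +kernel
theorem s0c230 : allBelow (fun k => fs0 (Nat.add (Nat.succ 75827) k)) 297 = true := by decide +kernel
theorem s0c231 : allBelow (fun k => fs0 (Nat.add (Nat.succ 76124) k)) 243 = true := by decide +kernel
theorem s0c232 : allBelow (fun k => fs0 (Nat.add (Nat.succ 76367) k)) 239 = true := by decide +kernel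
theorem s0c233 : allBelow (fun k => fs0 (Nat.add (Nat.succ 76606) k)) 289 = true := by decide +kernel
theorem s0c234 : allBelow (fun k => fs0 (Nat.add (Nat.succ 76895) k)) 278 = true := by decide +kernel
theorem s0c235 : allBelow (fun k => fs0 (Nat.add (Nat.succ 77173) k)) 246 = true := by decide +kernel
theorem s0c236 : allBelow (fun k => fs0 (Nat.add (Nat.succ 77419) k)) 253 = true := by decide +kernel
theorem s0c237 : allBelow (fun k => fs0 (Nat.add (Nat.succ 77672) k)) 259 = true := by decide +kernel
theorem s0c238 : allBelow (fun k => fs0 (Nat.add (Nat.succ 77931) k)) 274 = true := by decide +kernel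
theorem s0c239 : allBelow (fun k => fs0 (Nat.add (Nat.succ 78205) k)) 284 = true := by decide +kernel
theorem s0c240 : allBelow (fun k => fs0 (Nat.add (Nat.succ 78489) k)) 352 = true := by decide +kernel
theorem s0c241 : allBelow (fun k => fs0 (Nat.add (Nat.succ 78841) k)) 401 = true := by decide +kernel
theorem s0c242 : allBelow (fun k => fs0 (Nat.add (Nat.succ 79242) k)) 344 = true := by decide +kernel
theorem s0c243 : allBelow (fun k => fs0 (Nat.add (Nat.succ 79586) k)) 346 = true := by decide +kernel
theorem s0c244 : allBelow (fun k => fs0 (Nat.add (Nat.succ 79932) k)) 460 = true := by decide +kernel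
theorem s0c245 : allBelow (fun k => fs0 (Nat.add (Nat.succ 80392) k)) 290 = true := by decide +kernel
theorem s0c246 : allBelow (fun k => fs0 (Nat.add (Nat.succ 80682) k)) 261 = true := by decide +kernel
theorem s0c247 : allBelow (fun k => fs0 (Nat.add (Nat.succ 80943) k)) 348 = true := by decide +kernel
theorem s0c248 : allBelow (fun k => fs0 (Nat.add (Nat.succ 81291) k)) 297 = true := by decide +kernel
theorem s0c249 : allBelow (fun k => fs0 (Nat.add (Nat.succ 81588) k)) 363 = true := by decide +kernel
theorem s0c250 : allBelow (fun k => fs0 (Nat.add (Nat.succ 81951) k)) 477 = true := by decide +kernel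
theorem s0c251 : allBelow (fun k => fs0 (Nat.add (Nat.succ 82428) k)) 420 = true := by decide +kernel
theorem s0c252 : allBelow (fun k => fs0 (Nat.add (Nat.succ 82848) k)) 255 = true := by decide +kernel
theorem s0c253 : allBelow (fun k => fs0 (Nat.add (Nat.succ 83103) k)) 368 = true := by decide +kernel
theorem s0c254 : allBelow (fun k => fs0 (Nat.add (Nat.succ 83471) k)) 299 = true := by decide +kernel
theorem s0c255 : allBelow (fun k => fs0 (Nat.add (Nat.succ 83770) k)) 360 = true := by decide +kernel
theorem s0c256 : allBelow (fun k => fs0 (Nat.add (Nat.succ 84130) k)) 389 = true := by decide +kernel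
theorem s0c257 : allBelow (fun k => fs0 (Nat.add (Nat.succ 84519) k)) 306 = true := by decide +kernel
theorem s0c258 : allBelow (fun k => fs0 (Nat.add (Nat.succ 84825) k)) 360 = true := by decide +kernel
theorem s0c259 : allBelow (fun k => fs0 (Nat.add (Nat.succ 85185) k)) 340 = true := by decide +kernel
theorem s0c260 : allBelow (fun k => fs0 (Nat.add (Nat.succ 85525) k)) 345 = true := by decide +kernel
theorem s0c261 : allBelow (fun k => fs0 (Nat.add (Nat.succ 85870) k)) 313 = true := by decide +kernel
theorem s0c262 : allBelow (fun k => fs0 (Nat.add (Nat.succ 86183) k)) 311 = true := by decide +kernel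
theorem s0c263 : allBelow (fun k => fs0 (Nat.add (Nat.succ 86494) k)) 302 = true := by decide +kernel
theorem s0c264 : allBelow (fun k => fs0 (Nat.add (Nat.succ 86796) k)) 337 = true := by decide +kernel
theorem s0c265 : allBelow (fun k => fs0 (Nat.add (Nat.succ 87133) k)) 351 = true := by decide +kernel
theorem s0c266 : allBelow (fun k => fs0 (Nat.add (Nat.succ 87484) k)) 355 = true := by decide +kernel
theorem s0c267 : allBelow (fun k => fs0 (Nat.add (Nat.succ 87839) k)) 453 = true := by decide +kernel
theorem s0c268 : allBelow (fun k => fs0 (Nat.add (Nat.succ 88292) k)) 432 = true := by decide +kernel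
theorem s0c269 : allBelow (fun k => fs0 (Nat.add (Nat.succ 88724) k)) 418 = true := by decide +kernel
theorem s0c270 : allBelow (fun k => fs0 (Nat.add (Nat.succ 89142) k)) 418 = true := by decide +kernel
theorem s0c271 : allBelow (fun k => fs0 (Nat.add (Nat.succ 89560) k)) 447 = true := by decide +kernel
theorem s0c272 : allBelow (fun k => fs0 (Nat.add (Nat.succ 90007) k)) 577 = true := by decide +kernel
theorem s0c273 : allBelow (fun k => fs0 (Nat.add (Nat.succ 90584) k)) 406 = true := by decide +kernel
theorem s0c274 : allBelow (fun k => fs0 (Nat.add (Nat.succ 90990) k)) 388 = true := by decide +kernel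
theorem s0c275 : allBelow (fun k => fs0 (Nat.add (Nat.succ 91378) k)) 410 = true := by decide +kernel
theorem s0c276 : allBelow (fun k => fs0 (Nat.add (Nat.succ 91788) k)) 336 = true := by decide +kernel
theorem s0c277 : allBelow (fun k => fs0 (Nat.add (Nat.succ 92124) k)) 358 = true := by decide +kernel
theorem s0c278 : allBelow (fun k => fs0 (Nat.add (Nat.succ 92482) k)) 478 = true := by decide +kernel
theorem s0c279 : allBelow (fun k => fs0 (Nat.add (Nat.succ 92960) k)) 557 = true := by decide +kernel
theorem s0c280 : allBelow (fun k => fs0 (Nat.add (Nat.succ 93517) k)) 677 = true := by decide +kernel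
theorem s0c281 : allBelow (fun k => fs0 (Nat.add (Nat.succ 94194) k)) 396 = true := by decide +kernel
theorem s0c282 : allBelow (fun k => fs0 (Nat.add (Nat.succ 94590) k)) 265 = true := by decide +kernel
theorem s0c283 : allBelow (fun k => fs0 (Nat.add (Nat.succ 94855) k)) 326 = true := by decide +kernel
theorem s0c284 : allBelow (fun k => fs0 (Nat.add (Nat.succ 95181) k)) 337 = true := by decide +kernel
theorem s0c285 : allBelow (fun k => fs0 (Nat.add (Nat.succ 95518) k)) 297 = true := by decide +kernel
theorem s0c286 : allBelow (fun k => fs0 (Nat.add (Nat.succ 95815) k)) 320 = true := by decide +kernel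
theorem s0c287 : allBelow (fun k => fs0 (Nat.add (Nat.succ 96135) k)) 351 = true := by decide +kernel
theorem s0c288 : allBelow (fun k => fs0 (Nat.add (Nat.succ 96486) k)) 611 = true := by decide +kernel
theorem s0c289 : allBelow (fun k => fs0 (Nat.add (Nat.succ 97097) k)) 534 = true := by decide +kernel
theorem s0c290 : allBelow (fun k => fs0 (Nat.add (Nat.succ 97631) k)) 456 = true := by decide +kernel
theorem s0c291 : allBelow (fun k => fs0 (Nat.add (Nat.succ 98087) k)) 607 = true := by decide +kernel
theorem s0c292 : allBelow (fun k => fs0 (Nat.add (Nat.succ 98694) k)) 327 = true := by decide +kernel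
theorem s0c293 : allBelow (fun k => fs0 (Nat.add (Nat.succ 99021) k)) 250 = true := by decide +kernel
theorem s0c294 : allBelow (fun k => fs0 (Nat.add (Nat.succ 99271) k)) 256 = true := by decide +kernel
theorem s0c295 : allBelow (fun k => fs0 (Nat.add (Nat.succ 99527) k)) 306 = true := by decide +kernel
theorem s0c296 : allBelow (fun k => fs0 (Nat.add (Nat.succ 99833) k)) 249 = true := by decide +kernel
theorem s0c297 : allBelow (fun k => fs0 (Nat.add (Nat.succ 100082) k)) 239 = true := by decide +kernel
theorem s0c298 : allBelow (fun k => fs0 (Nat.add (Nat.succ 100321) k)) 244 = true := by decide +kernel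
theorem s0c299 : allBelow (fun k => fs0 (Nat.add (Nat.succ 100565) k)) 276 = true := by decide +kernel
theorem s0c300 : allBelow (fun k => fs0 (Nat.add (Nat.succ 100841) k)) 266 = true := by decide +kernel
theorem s0c301 : allBelow (fun k => fs0 (Nat.add (Nat.succ 101107) k)) 297 = true := by decide +kernel
theorem s0c302 : allBelow (fun k => fs0 (Nat.add (Nat.succ 101404) k)) 248 = true := by decide +kernel
theorem s0c303 : allBelow (fun k => fs0 (Nat.add (Nat.succ 101652) k)) 258 = true := by decide +kernel
theorem s0c304 : allBelow (fun k => fs0 (Nat.add (Nat.succ 101910) k)) 241 = true := by decide +kernel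
theorem s0c305 : allBelow (fun k => fs0 (Nat.add (Nat.succ 102151) k)) 272 = true := by decide +kernel
theorem s0c306 : allBelow (fun k => fs0 (Nat.add (Nat.succ 102423) k)) 286 = true := by decide +kernel
theorem s0c307 : allBelow (fun k => fs0 (Nat.add (Nat.succ 102709) k)) 252 = true := by decide +kernel
theorem s0c308 : allBelow (fun k => fs0 (Nat.add (Nat.succ 102961) k)) 290 = true := by decide +kernel
theorem s0c309 : allBelow (fun k => fs0 (Nat.add (Nat.succ 103251) k)) 386 = true := by decide +kernel
theorem s0c310 : allBelow (fun k => fs0 (Nat.add (Nat.succ 103637) k)) 401 = true := by decide +kernel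
theorem s0c311 : allBelow (fun k => fs0 (Nat.add (Nat.succ 104038) k)) 316 = true := by decide +kernel
theorem s0c312 : allBelow (fun k => fs0 (Nat.add (Nat.succ 104354) k)) 365 = true := by decide +kernel
theorem s0c313 : allBelow (fun k => fs0 (Nat.add (Nat.succ 104719) k)) 437 = true := by decide +kernel
theorem s0c314 : allBelow (fun k => fs0 (Nat.add (Nat.succ 105156) k)) 285 = true := by decide +kernel
theorem s0c315 : allBelow (fun k => fs0 (Nat.add (Nat.succ 105441) k)) 279 = true := by decide +kernel
theorem s0c316 : allBelow (fun k => fs0 (Nat.add (Nat.succ 105720) k)) 331 = true := by decide +kernel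
theorem s0c317 : allBelow (fun k => fs0 (Nat.add (Nat.succ 106051) k)) 300 = true := by decide +kernel
theorem s0c318 : allBelow (fun k => fs0 (Nat.add (Nat.succ 106351) k)) 339 = true := by decide +kernel

end Cfsg.Agent.Lib.Helper35.Fi24a
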