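import Cfsg.Agent.Lib.Helper35.Fi24a.Data

set_option Elab.async false

namespace Cfsg.Agent.Lib.Helper35.Fi24a

open Cfsg.Agent.Lib.Helper35

theorem s2c667 : allBelow (fun k => fs2 (Nat.add (Nat.succ 201425) k)) 262 = true := by decide +kernel
theorem s2c668 : allBelow (fun k => fs2 (Nat.add (Nat.succ 201687) k)) 246 = true := by decide +kernel
theorem s2c669 : allBelow (fun k => fs2 (Nat.add (Nat.succ 201933) k)) 240 = true := by decide +kernel
theorem s2c670 : allBelow (fun k => fs2 (Nat.add (Nat.succ 202173) k)) 246 = true := by decide +kernel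
theorem s2c671 : allBelow (fun k => fs2 (Nat.add (Nat.succ 202419) k)) 254 = true := by decide +kernel
theorem s2c672 : allBelow (fun k => fs2 (Nat.add (Nat.succ 202673) k)) 264 = true := by decide +kernel
theorem s2c673 : allBelow (fun k => fs2 (Nat.add (Nat.succ 202937) k)) 275 = true := by decide +kernel
theorem s2c674 : allBelow (fun k => fs2 (Nat.add (Nat.succ 203212) k)) 263 = true := by decide +kernel
theorem s2c675 : allBelow (fun k => fs2 (Nat.add (Nat.succ 203475) k)) 262 = true := by decide +kernel
theorem s2c676 : allBelow (fun k => fs2 (Nat.add (Nat.succ 203737) k)) 274 = true := by decide +kernel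
theorem s2c677 : allBelow (fun k => fs2 (Nat.add (Nat.succ 204011) k)) 273 = true := by decide +kernel
theorem s2c678 : allBelow (fun k => fs2 (Nat.add (Nat.succ 204284) k)) 253 = true := by decide +kernel
theorem s2c679 : allBelow (fun k => fs2 (Nat.add (Nat.succ 204537) k)) 242 = true := by decide +kernel
theorem s2c680 : allBelow (fun k => fs2 (Nat.add (Nat.succ 204779) k)) 261 = true := by decide +kernel
theorem s2c681 : allBelow (fun k => fs2 (Nat.add (Nat.succ 205040) k)) 248 = true := by decide +kernel
theorem s2c682 : allBelow (fun k => fs2 (Nat.add (Nat.succ 205288) k)) 278 = true := by decide +kernel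
theorem s2c683 : allBelow (fun k => fs2 (Nat.add (Nat.succ 205566) k)) 269 = true := by decide +kernel
theorem s2c684 : allBelow (fun k => fs2 (Nat.add (Nat.succ 205835) k)) 268 = true := by decide +kernel
theorem s2c685 : allBelow (fun k => fs2 (Nat.add (Nat.succ 206103) k)) 282 = true := by decide +kernel
theorem s2c686 : allBelow (fun k => fs2 (Nat.add (Nat.succ 206385) k)) 270 = true := by decide +kernel
theorem s2c687 : allBelow (fun k => fs2 (Nat.add (Nat.succ 206655) k)) 269 = true := by decide +kernel
theorem s2c688 : allBelow (fun k => fs2 (Nat.add (Nat.succ 206924) k)) 284 = true := by decide +kernel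
theorem s2c689 : allBelow (fun k => fs2 (Nat.add (Nat.succ 207208) k)) 266 = true := by decide +kernel
theorem s2c690 : allBelow (fun k => fs2 (Nat.add (Nat.succ 207474) k)) 253 = true := by decide +kernel
theorem s2c691 : allBelow (fun k => fs2 (Nat.add (Nat.succ 207727) k)) 261 = true := by decide +kernel
theorem s2c692 : allBelow (fun k => fs2 (Nat.add (Nat.succ 207988) k)) 260 = true := by decide +kernel
theorem s2c693 : allBelow (fun k => fs2 (Nat.add (Nat.succ 208248) k)) 249 = true := by decide +kernel
theorem s2c694 : allBelow (fun k => fs2 (Nat.add (Nat.succ 208497) k)) 253 = true := by decide +kernel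
theorem s2c695 : allBelow (fun k => fs2 (Nat.add (Nat.succ 208750) k)) 278 = true := by decide +kernel
theorem s2c696 : allBelow (fun k => fs2 (Nat.add (Nat.succ 209028) k)) 266 = true := by decide +kernel
theorem s2c697 : allBelow (fun k => fs2 (Nat.add (Nat.succ 209294) k)) 262 = true := by decide +kernel
theorem s2c698 : allBelow (fun k => fs2 (Nat.add (Nat.succ 209556) k)) 267 = true := by decide +kernel
theorem s2c699 : allBelow (fun k => fs2 (Nat.add (Nat.succ 209823) k)) 291 = true := by decide +kernel
theorem s2c700 : allBelow (fun k => fs2 (Nat.add (Nat.succ 210114) k)) 269 = true := by decide +kernel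
theorem s2c701 : allBelow (fun k => fs2 (Nat.add (Nat.succ 210383) k)) 302 = true := by decide +kernel
theorem s2c702 : allBelow (fun k => fs2 (Nat.add (Nat.succ 210685) k)) 245 = true := by decide +kernel
theorem s2c703 : allBelow (fun k => fs2 (Nat.add (Nat.succ 210930) k)) 246 = true := by decide +kernel
theorem s2c704 : allBelow (fun k => fs2 (Nat.add (Nat.succ 211176) k)) 242 = true := by decide +kernel
theorem s2c705 : allBelow (fun k => fs2 (Nat.add (Nat.succ 211418) k)) 272 = true := by decide +kernel
theorem s2c706 : allBelow (fun k => fs2 (Nat.add (Nat.succ 211690) k)) 265 = true := by decide +kernel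
theorem s2c707 : allBelow (fun k => fs2 (Nat.add (Nat.succ 211955) k)) 293 = true := by decide +kernel
theorem s2c708 : allBelow (fun k => fs2 (Nat.add (Nat.succ 212248) k)) 258 = true := by decide +kernel
theorem s2c709 : allBelow (fun k => fs2 (Nat.add (Nat.succ 212506) k)) 278 = true := by decide +kernel
theorem s2c710 : allBelow (fun k => fs2 (Nat.add (Nat.succ 212784) k)) 284 = true := by decide +kernel
theorem s2c711 : allBelow (fun k => fs2 (Nat.add (Nat.succ 213068) k)) 280 = true := by decide +kernel
theorem s2c712 : allBelow (fun k => fs2 (Nat.add (Nat.succ 213348) k)) 268 = true := by decide +kernel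
theorem s2c713 : allBelow (fun k => fs2 (Nat.add (Nat.succ 213616) k)) 261 = true := by decide +kernel
theorem s2c714 : allBelow (fun k => fs2 (Nat.add (Nat.succ 213877) k)) 256 = true := by decide +kernel
theorem s2c715 : allBelow (fun k => fs2 (Nat.add (Nat.succ 214133) k)) 264 = true := by decide +kernel
theorem s2c716 : allBelow (fun k => fs2 (Nat.add (Nat.succ 214397) k)) 245 = true := by decide +kernel
theorem s2c717 : allBelow (fun k => fs2 (Nat.add (Nat.succ 214642) k)) 264 = true := by decide +kernel
theorem s2c718 : allBelow (fun k => fs2 (Nat.add (Nat.succ 214906) k)) 266 = true := by decide +kernel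
theorem s2c719 : allBelow (fun k => fs2 (Nat.add (Nat.succ 215172) k)) 266 = true := by decide +kernel
theorem s2c720 : allBelow (fun k => fs2 (Nat.add (Nat.succ 215438) k)) 250 = true := by decide +kernel
theorem s2c721 : allBelow (fun k => fs2 (Nat.add (Nat.succ 215688) k)) 257 = true := by decide +kernel
theorem s2c722 : allBelow (fun k => fs2 (Nat.add (Nat.succ 215945) k)) 267 = true := by decide +kernel
theorem s2c723 : allBelow (fun k => fs2 (Nat.add (Nat.succ 216212) k)) 260 = true := by decide +kernel
theorem s2c724 : allBelow (fun k => fs2 (Nat.add (Nat.succ 216472) k)) 285 = true := by decide +kernel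
theorem s2c725 : allBelow (fun k => fs2 (Nat.add (Nat.succ 216757) k)) 267 = true := by decide +kernel
theorem s2c726 : allBelow (fun k => fs2 (Nat.add (Nat.succ 217024) k)) 259 = true := by decide +kernel
theorem s2c727 : allBelow (fun k => fs2 (Nat.add (Nat.succ 217283) k)) 271 = true := by decide +kernel
theorem s2c728 : allBelow (fun k => fs2 (Nat.add (Nat.succ 217554) k)) 289 = true := by decide +kernel
theorem s2c729 : allBelow (fun k => fs2 (Nat.add (Nat.succ 217843) k)) 265 = true := by decide +kernel
theorem s2c730 : allBelow (fun k => fs2 (Nat.add (Nat.succ 218108) k)) 267 = true := by decide +kernel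
theorem s2c731 : allBelow (fun k => fs2 (Nat.add (Nat.succ 218375) k)) 276 = true := by decide +kernel
theorem s2c732 : allBelow (fun k => fs2 (Nat.add (Nat.succ 218651) k)) 288 = true := by decide +kernel
theorem s2c733 : allBelow (fun k => fs2 (Nat.add (Nat.succ 218939) k)) 284 = true := by decide +kernel
theorem s2c734 : allBelow (fun k => fs2 (Nat.add (Nat.succ 219223) k)) 265 = true := by decide +kernel
theorem s2c735 : allBelow (fun k => fs2 (Nat.add (Nat.succ 219488) k)) 257 = true := by decide +kernel
theorem s2c736 : allBelow (fun k => fs2 (Nat.add (Nat.succ 219745) k)) 267 = true := by decide +kernel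
theorem s2c737 : allBelow (fun k => fs2 (Nat.add (Nat.succ 220012) k)) 264 = true := by decide +kernel
theorem s2c738 : allBelow (fun k => fs2 (Nat.add (Nat.succ 220276) k)) 295 = true := by decide +kernel
theorem s2c739 : allBelow (fun k => fs2 (Nat.add (Nat.succ 220571) k)) 277 = true := by decide +kernel
theorem s2c740 : allBelow (fun k => fs2 (Nat.add (Nat.succ 220848) k)) 274 = true := by decide +kernel
theorem s2c741 : allBelow (fun k => fs2 (Nat.add (Nat.succ 221122) k)) 281 = true := by decide +kernel
theorem s2c742 : allBelow (fun k => fs2 (Nat.add (Nat.succ 221403) k)) 243 = true := by decide +kernel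
theorem s2c743 : allBelow (fun k => fs2 (Nat.add (Nat.succ 221646) k)) 250 = true := by decide +kernel
theorem s2c744 : allBelow (fun k => fs2 (Nat.add (Nat.succ 221896) k)) 252 = true := by decide +kernel
theorem s2c745 : allBelow (fun k => fs2 (Nat.add (Nat.succ 222148) k)) 257 = true := by decide +kernel
theorem s2c746 : allBelow (fun k => fs2 (Nat.add (Nat.succ 222405) k)) 270 = true := by decide +kernel
theorem s2c747 : allBelow (fun k => fs2 (Nat.add (Nat.succ 222675) k)) 251 = true := by decide +kernel
theorem s2c748 : allBelow (fun k => fs2 (Nat.add (Nat.succ 222926) k)) 246 = true := by decide +kernel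
theorem s2c749 : allBelow (fun k => fs2 (Nat.add (Nat.succ 223172) k)) 244 = true := by decide +kernel
theorem s2c750 : allBelow (fun k => fs2 (Nat.add (Nat.succ 223416) k)) 245 = true := by decide +kernel
theorem s2c751 : allBelow (fun k => fs2 (Nat.add (Nat.succ 223661) k)) 246 = true := by decide +kernel
theorem s2c752 : allBelow (fun k => fs2 (Nat.add (Nat.succ 223907) k)) 264 = true := by decide +kernel
theorem s2c753 : allBelow (fun k => fs2 (Nat.add (Nat.succ 224171) k)) 249 = true := by decide +kernel
theorem s2c754 : allBelow (fun k => fs2 (Nat.add (Nat.succ 224420) k)) 272 = true := by decide +kernel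
theorem s2c755 : allBelow (fun k => fs2 (Nat.add (Nat.succ 224692) k)) 242 = true := by decide +kernel
theorem s2c756 : allBelow (fun k => fs2 (Nat.add (Nat.succ 224934) k)) 237 = true := by decide +kernel
theorem s2c757 : allBelow (fun k => fs2 (Nat.add (Nat.succ 225171) k)) 244 = true := by decide +kernel
theorem s2c758 : allBelow (fun k => fs2 (Nat.add (Nat.succ 225415) k)) 260 = true := by decide +kernel
theorem s2c759 : allBelow (fun k => fs2 (Nat.add (Nat.succ 225675) k)) 256 = true := by decide +kernel
theorem s2c760 : allBelow (fun k => fs2 (Nat.add (Nat.succ 225931) k)) 264 = true := by decide +kernel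
theorem s2c761 : allBelow (fun k => fs2 (Nat.add (Nat.succ 226195) k)) 257 = true := by decide +kernel
theorem s2c762 : allBelow (fun k => fs2 (Nat.add (Nat.succ 226452) k)) 278 = true := by decide +kernel
theorem s2c763 : allBelow (fun k => fs2 (Nat.add (Nat.succ 226730) k)) 260 = true := by decide +kernel
theorem s2c764 : allBelow (fun k => fs2 (Nat.add (Nat.succ 226990) k)) 268 = true := by decide +kernel
theorem s2c765 : allBelow (fun k => fs2 (Nat.add (Nat.succ 227258) k)) 271 = true := by decide +kernel
theorem s2c766 : allBelow (fun k => fs2 (Nat.add (Nat.succ 227529) k)) 241 = true := by decide +kernel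
theorem s2c767 : allBelow (fun k => fs2 (Nat.add (Nat.succ 227770) k)) 239 = true := by decide +kernel
theorem s2c768 : allBelow (fun k => fs2 (Nat.add (Nat.succ 228009) k)) 249 = true := by decide +kernel
theorem s2c769 : allBelow (fun k => fs2 (Nat.add (Nat.succ 228258) k)) 251 = true := by decide +kernel
theorem s2c770 : allBelow (fun k => fs2 (Nat.add (Nat.succ 228509) k)) 268 = true := by decide +kernel
theorem s2c771 : allBelow (fun k => fs2 (Nat.add (Nat.succ 228777) k)) 268 = true := by decide +kernel
theorem s2c772 : allBelow (fun k => fs2 (Nat.add (Nat.succ 229045) k)) 262 = true := by decide +kernel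
theorem s2c773 : allBelow (fun k => fs2 (Nat.add (Nat.succ 229307) k)) 278 = true := by decide +kernel
theorem s2c774 : allBelow (fun k => fs2 (Nat.add (Nat.succ 229585) k)) 278 = true := by decide +kernel
theorem s2c775 : allBelow (fun k => fs2 (Nat.add (Nat.succ 229863) k)) 262 = true := by decide +kernel
theorem s2c776 : allBelow (fun k => fs2 (Nat.add (Nat.succ 230125) k)) 266 = true := by decide +kernel
theorem s2c777 : allBelow (fun k => fs2 (Nat.add (Nat.succ 230391) k)) 278 = true := by decide +kernel
theorem s2c778 : allBelow (fun k => fs2 (Nat.add (Nat.succ 230669) k)) 265 = true := by decide +kernel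
theorem s2c779 : allBelow (fun k => fs2 (Nat.add (Nat.succ 230934) k)) 254 = true := by decide +kernel
theorem s2c780 : allBelow (fun k => fs2 (Nat.add (Nat.succ 231188) k)) 257 = true := by decide +kernel
theorem s2c781 : allBelow (fun k => fs2 (Nat.add (Nat.succ 231445) k)) 260 = true := by decide +kernel
theorem s2c782 : allBelow (fun k => fs2 (Nat.add (Nat.succ 231705) k)) 251 = true := by decide +kernel
theorem s2c783 : allBelow (fun k => fs2 (Nat.add (Nat.succ 231956) k)) 256 = true := by decide +kernel
theorem s2c784 : allBelow (fun k => fs2 (Nat.add (Nat.succ 232212) k)) 283 = true := by decide +kernel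
theorem s2c785 : allBelow (fun k => fs2 (Nat.add (Nat.succ 232495) k)) 264 = true := by decide +kernel
theorem s2c786 : allBelow (fun k => fs2 (Nat.add (Nat.succ 232759) k)) 260 = true := by decide +kernel
theorem s2c787 : allBelow (fun k => fs2 (Nat.add (Nat.succ 233019) k)) 264 = true := by decide +kernel
theorem s2c788 : allBelow (fun k => fs2 (Nat.add (Nat.succ 233283) k)) 296 = true := by decide +kernel
theorem s2c789 : allBelow (fun k => fs2 (Nat.add (Nat.succ 233579) k)) 263 = true := by decide +kernel
theorem s2c790 : allBelow (fun k => fs2 (Nat.add (Nat.succ 233842) k)) 304 = true := by decide +kernel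
theorem s2c791 : allBelow (fun k => fs2 (Nat.add (Nat.succ 234146) k)) 252 = true := by decide +kernel
theorem s2c792 : allBelow (fun k => fs2 (Nat.add (Nat.succ 234398) k)) 243 = true := by decide +kernel
theorem s2c793 : allBelow (fun k => fs2 (Nat.add (Nat.succ 234641) k)) 241 = true := by decide +kernel
theorem s2c794 : allBelow (fun k => fs2 (Nat.add (Nat.succ 234882) k)) 260 = true := by decide +kernel
theorem s2c795 : allBelow (fun k => fs2 (Nat.add (Nat.succ 235142) k)) 271 = true := by decide +kernel
theorem s2c796 : allBelow (fun k => fs2 (Nat.add (Nat.succ 235413) k)) 278 = true := by decide +kernel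
theorem s2c797 : allBelow (fun k => fs2 (Nat.add (Nat.succ 235691) k)) 287 = true := by decide +kernel
theorem s2c798 : allBelow (fun k => fs2 (Nat.add (Nat.succ 235978) k)) 254 = true := by decide +kernel
theorem s2c799 : allBelow (fun k => fs2 (Nat.add (Nat.succ 236232) k)) 280 = true := by decide +kernel
theorem s2c800 : allBelow (fun k => fs2 (Nat.add (Nat.succ 236512) k)) 280 = true := by decide +kernel
theorem s2c801 : allBelow (fun k => fs2 (Nat.add (Nat.succ 236792) k)) 286 = true := by decide +kernel
theorem s2c802 : allBelow (fun k => fs2 (Nat.add (Nat.succ 237078) k)) 269 = true := by decide +kernel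
theorem s2c803 : allBelow (fun k => fs2 (Nat.add (Nat.succ 237347) k)) 266 = true := by decide +kernel
theorem s2c804 : allBelow (fun k => fs2 (Nat.add (Nat.succ 237613) k)) 256 = true := by decide +kernel
theorem s2c805 : allBelow (fun k => fs2 (Nat.add (Nat.succ 237869) k)) 254 = true := by decide +kernel
theorem s2c806 : allBelow (fun k => fs2 (Nat.add (Nat.succ 238123) k)) 263 = true := by decide +kernel
theorem s2c807 : allBelow (fun k => fs2 (Nat.add (Nat.succ 238386) k)) 246 = true := by decide +kernel
theorem s2c808 : allBelow (fun k => fs2 (Nat.add (Nat.succ 238632) k)) 269 = true := by decide +kernel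
theorem s2c809 : allBelow (fun k => fs2 (Nat.add (Nat.succ 238901) k)) 264 = true := by decide +kernel
theorem s2c810 : allBelow (fun k => fs2 (Nat.add (Nat.succ 239165) k)) 268 = true := by decide +kernel
theorem s2c811 : allBelow (fun k => fs2 (Nat.add (Nat.succ 239433) k)) 256 = true := by decide +kernel
theorem s2c812 : allBelow (fun k => fs2 (Nat.add (Nat.succ 239689) k)) 256 = true := by decide +kernel
theorem s2c813 : allBelow (fun k => fs2 (Nat.add (Nat.succ 239945) k)) 265 = true := by decide +kernel
theorem s2c814 : allBelow (fun k => fs2 (Nat.add (Nat.succ 240210) k)) 263 = true := by decide +kernel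
theorem s2c815 : allBelow (fun k => fs2 (Nat.add (Nat.succ 240473) k)) 270 = true := by decide +kernel
theorem s2c816 : allBelow (fun k => fs2 (Nat.add (Nat.succ 240743) k)) 279 = true := by decide +kernel
theorem s2c817 : allBelow (fun k => fs2 (Nat.add (Nat.succ 241022) k)) 264 = true := by decide +kernel
theorem s2c818 : allBelow (fun k => fs2 (Nat.add (Nat.succ 241286) k)) 259 = true := by decide +kernel
theorem s2c819 : allBelow (fun k => fs2 (Nat.add (Nat.succ 241545) k)) 272 = true := by decide +kernel
theorem s2c820 : allBelow (fun k => fs2 (Nat.add (Nat.succ 241817) k)) 297 = true := by decide +kernel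
theorem s2c821 : allBelow (fun k => fs2 (Nat.add (Nat.succ 242114) k)) 263 = true := by decide +kernel
theorem s2c822 : allBelow (fun k => fs2 (Nat.add (Nat.succ 242377) k)) 260 = true := by decide +kernel
theorem s2c823 : allBelow (fun k => fs2 (Nat.add (Nat.succ 242637) k)) 277 = true := by decide +kernel
theorem s2c824 : allBelow (fun k => fs2 (Nat.add (Nat.succ 242914) k)) 277 = true := by decide +kernel
theorem s2c825 : allBelow (fun k => fs2 (Nat.add (Nat.succ 243191) k)) 295 = true := by decide +kernel
theorem s2c826 : allBelow (fun k => fs2 (Nat.add (Nat.succ 243486) k)) 267 = true := by decide +kernel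
theorem s2c827 : allBelow (fun k => fs2 (Nat.add (Nat.succ 243753) k)) 263 = true := by decide +kernel
theorem s2c828 : allBelow (fun k => fs2 (Nat.add (Nat.succ 244016) k)) 263 = true := by decide +kernel
theorem s2c829 : allBelow (fun k => fs2 (Nat.add (Nat.succ 244279) k)) 271 = true := by decide +kernel
theorem s2c830 : allBelow (fun k => fs2 (Nat.add (Nat.succ 244550) k)) 285 = true := by decide +kernel
theorem s2c831 : allBelow (fun k => fs2 (Nat.add (Nat.succ 244835) k)) 283 = true := by decide +kernel
theorem s2c832 : allBelow (fun k => fs2 (Nat.add (Nat.succ 245118) k)) 278 = true := by decide +kernel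
theorem s2c833 : allBelow (fun k => fs2 (Nat.add (Nat.succ 245396) k)) 275 = true := by decide +kernel
theorem s2c834 : allBelow (fun k => fs2 (Nat.add (Nat.succ 245671) k)) 261 = true := by decide +kernel
theorem s2c835 : allBelow (fun k => fs2 (Nat.add (Nat.succ 245932) k)) 249 = true := by decide +kernel
theorem s2c836 : allBelow (fun k => fs2 (Nat.add (Nat.succ 246181) k)) 253 = true := by decide +kernel
theorem s2c837 : allBelow (fun k => fs2 (Nat.add (Nat.succ 246434) k)) 263 = true := by decide +kernel
theorem s2c838 : allBelow (fun k => fs2 (Nat.add (Nat.succ 246697) k)) 273 = true := by decide +kernel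
theorem s2c839 : allBelow (fun k => fs2 (Nat.add (Nat.succ 246970) k)) 228 = true := by decide +kernel
theorem s2c840 : allBelow (fun k => fs2 (Nat.add (Nat.succ 247198) k)) 253 = true := by decide +kernel
theorem s2c841 : allBelow (fun k => fs2 (Nat.add (Nat.succ 247451) k)) 241 = true := by decide +kernel
theorem s2c842 : allBelow (fun k => fs2 (Nat.add (Nat.succ 247692) k)) 241 = true := by decide +kernel
theorem s2c843 : allBelow (fun k => fs2 (Nat.add (Nat.succ 247933) k)) 247 = true := by decide +kernel
theorem s2c844 : allBelow (fun k => fs2 (Nat.add (Nat.succ 248180) k)) 273 = true := by decide +kernel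
theorem s2c845 : allBelow (fun k => fs2 (Nat.add (Nat.succ 248453) k)) 243 = true := by decide +kernel
theorem s2c846 : allBelow (fun k => fs2 (Nat.add (Nat.succ 248696) k)) 253 = true := by decide +kernel
theorem s2c847 : allBelow (fun k => fs2 (Nat.add (Nat.succ 248949) k)) 265 = true := by decide +kernel
theorem s2c848 : allBelow (fun k => fs2 (Nat.add (Nat.succ 249214) k)) 238 = true := by decide +kernel
theorem s2c849 : allBelow (fun k => fs2 (Nat.add (Nat.succ 249452) k)) 231 = true := by decide +kernel
theorem s2c850 : allBelow (fun k => fs2 (Nat.add (Nat.succ 249683) k)) 241 = true := by decide +kernel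
theorem s2c851 : allBelow (fun k => fs2 (Nat.add (Nat.succ 249924) k)) 261 = true := by decide +kernel
theorem s2c852 : allBelow (fun k => fs2 (Nat.add (Nat.succ 250185) k)) 253 = true := by decide +kernel
theorem s2c853 : allBelow (fun k => fs2 (Nat.add (Nat.succ 250438) k)) 261 = true := by decide +kernel
theorem s2c854 : allBelow (fun k => fs2 (Nat.add (Nat.succ 250699) k)) 260 = true := by decide +kernel
theorem s2c855 : allBelow (fun k => fs2 (Nat.add (Nat.succ 250959) k)) 264 = true := by decide +kernel
theorem s2c856 : allBelow (fun k => fs2 (Nat.add (Nat.succ 251223) k)) 258 = true := by decide +kernel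
theorem s2c857 : allBelow (fun k => fs2 (Nat.add (Nat.succ 251481) k)) 272 = true := by decide +kernel
theorem s2c858 : allBelow (fun k => fs2 (Nat.add (Nat.succ 251753) k)) 255 = true := by decide +kernel
theorem s2c859 : allBelow (fun k => fs2 (Nat.add (Nat.succ 252008) k)) 264 = true := by decide +kernel
theorem s2c860 : allBelow (fun k => fs2 (Nat.add (Nat.succ 252272) k)) 241 = true := by decide +kernel
theorem s2c861 : allBelow (fun k => fs2 (Nat.add (Nat.succ 252513) k)) 253 = true := by decide +kernel
theorem s2c862 : allBelow (fun k => fs2 (Nat.add (Nat.succ 252766) k)) 250 = true := by decide +kernel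
theorem s2c863 : allBelow (fun k => fs2 (Nat.add (Nat.succ 253016) k)) 253 = true := by decide +kernel
theorem s2c864 : allBelow (fun k => fs2 (Nat.add (Nat.succ 253269) k)) 273 = true := by decide +kernel
theorem s2c865 : allBelow (fun k => fs2 (Nat.add (Nat.succ 253542) k)) 263 = true := by decide +kernel
theorem s2c866 : allBelow (fun k => fs2 (Nat.add (Nat.succ 253805) k)) 261 = true := by decide +kernel
theorem s2c867 : allBelow (fun k => fs2 (Nat.add (Nat.succ 254066) k)) 273 = true := by decide +kernel
theorem s2c868 : allBelow (fun k => fs2 (Nat.add (Nat.succ 254339) k)) 280 = true := by decide +kernel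
theorem s2c869 : allBelow (fun k => fs2 (Nat.add (Nat.succ 254619) k)) 255 = true := by decide +kernel
theorem s2c870 : allBelow (fun k => fs2 (Nat.add (Nat.succ 254874) k)) 264 = true := by decide +kernel
theorem s2c871 : allBelow (fun k => fs2 (Nat.add (Nat.succ 255138) k)) 275 = true := by decide +kernel
theorem s2c872 : allBelow (fun k => fs2 (Nat.add (Nat.succ 255413) k)) 264 = true := by decide +kernel
theorem s2c873 : allBelow (fun k => fs2 (Nat.add (Nat.succ 255677) k)) 257 = true := by decide +kernel
theorem s2c874 : allBelow (fun k => fs2 (Nat.add (Nat.succ 255934) k)) 255 = true := by decide +kernel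
theorem s2c875 : allBelow (fun k => fs2 (Nat.add (Nat.succ 256189) k)) 259 = true := by decide +kernel
theorem s2c876 : allBelow (fun k => fs2 (Nat.add (Nat.succ 256448) k)) 257 = true := by decide +kernel
theorem s2c877 : allBelow (fun k => fs2 (Nat.add (Nat.succ 256705) k)) 248 = true := by decide +kernel
theorem s2c878 : allBelow (fun k => fs2 (Nat.add (Nat.succ 256953) k)) 277 = true := by decide +kernel
theorem s2c879 : allBelow (fun k => fs2 (Nat.add (Nat.succ 257230) k)) 269 = true := by decide +kernel
theorem s2c880 : allBelow (fun k => fs2 (Nat.add (Nat.succ 257499) k)) 259 = true := by decide +kernel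
theorem s2c881 : allBelow (fun k => fs2 (Nat.add (Nat.succ 257758) k)) 262 = true := by decide +kernel
theorem s2c882 : allBelow (fun k => fs2 (Nat.add (Nat.succ 258020) k)) 281 = true := by decide +kernel
theorem s2c883 : allBelow (fun k => fs2 (Nat.add (Nat.succ 258301) k)) 283 = true := by decide +kernel
theorem s2c884 : allBelow (fun k => fs2 (Nat.add (Nat.succ 258584) k)) 280 = true := by decide +kernel
theorem s2c885 : allBelow (fun k => fs2 (Nat.add (Nat.succ 258864) k)) 285 = true := by decide +kernel
theorem s2c886 : allBelow (fun k => fs2 (Nat.add (Nat.succ 259149) k)) 208 = true := by decide +kernel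
theorem s2c887 : allBelow (fun k => fs2 (Nat.add (Nat.succ 259357) k)) 241 = true := by decide +kernel
theorem s2c888 : allBelow (fun k => fs2 (Nat.add (Nat.succ 259598) k)) 245 = true := by decide +kernel
theorem s2c889 : allBelow (fun k => fs2 (Nat.add (Nat.succ 259843) k)) 256 = true := by decide +kernel
theorem s2c890 : allBelow (fun k => fs2 (Nat.add (Nat.succ 260099) k)) 275 = true := by decide +kernel
theorem s2c891 : allBelow (fun k => fs2 (Nat.add (Nat.succ 260374) k)) 276 = true := by decide +kernel
theorem s2c892 : allBelow (fun k => fs2 (Nat.add (Nat.succ 260650) k)) 285 = true := by decide +kernel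
theorem s2c893 : allBelow (fun k => fs2 (Nat.add (Nat.succ 260935) k)) 273 = true := by decide +kernel
theorem s2c894 : allBelow (fun k => fs2 (Nat.add (Nat.succ 261208) k)) 268 = true := by decide +kernel
theorem s2c895 : allBelow (fun k => fs2 (Nat.add (Nat.succ 261476) k)) 270 = true := by decide +kernel
theorem s2c896 : allBelow (fun k => fs2 (Nat.add (Nat.succ 261746) k)) 284 = true := by decide +kernel
theorem s2c897 : allBelow (fun k => fs2 (Nat.add (Nat.succ 262030) k)) 274 = true := by decide +kernel
theorem s2c898 : allBelow (fun k => fs2 (Nat.add (Nat.succ 262304) k)) 275 = true := by decide +kernel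
theorem s2c899 : allBelow (fun k => fs2 (Nat.add (Nat.succ 262579) k)) 262 = true := by decide +kernel
theorem s2c900 : allBelow (fun k => fs2 (Nat.add (Nat.succ 262841) k)) 254 = true := by decide +kernel
theorem s2c901 : allBelow (fun k => fs2 (Nat.add (Nat.succ 263095) k)) 253 = true := by decide +kernel
theorem s2c902 : allBelow (fun k => fs2 (Nat.add (Nat.succ 263348) k)) 261 = true := by decide +kernel
theorem s2c903 : allBelow (fun k => fs2 (Nat.add (Nat.succ 263609) k)) 252 = true := by decide +kernel
theorem s2c904 : allBelow (fun k => fs2 (Nat.add (Nat.succ 263861) k)) 254 = true := by decide +kernel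
theorem s2c905 : allBelow (fun k => fs2 (Nat.add (Nat.succ 264115) k)) 264 = true := by decide +kernel
theorem s2c906 : allBelow (fun k => fs2 (Nat.add (Nat.succ 264379) k)) 270 = true := by decide +kernel
theorem s2c907 : allBelow (fun k => fs2 (Nat.add (Nat.succ 264649) k)) 263 = true := by decide +kernel
theorem s2c908 : allBelow (fun k => fs2 (Nat.add (Nat.succ 264912) k)) 263 = true := by decide +kernel
theorem s2c909 : allBelow (fun k => fs2 (Nat.add (Nat.succ 265175) k)) 267 = true := by decide +kernel
theorem s2c910 : allBelow (fun k => fs2 (Nat.add (Nat.succ 265442) k)) 254 = true := by decide +kernel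
theorem s2c911 : allBelow (fun k => fs2 (Nat.add (Nat.succ 265696) k)) 262 = true := by decide +kernel
theorem s2c912 : allBelow (fun k => fs2 (Nat.add (Nat.succ 265958) k)) 269 = true := by decide +kernel
theorem s2c913 : allBelow (fun k => fs2 (Nat.add (Nat.succ 266227) k)) 278 = true := by decide +kernel
theorem s2c914 : allBelow (fun k => fs2 (Nat.add (Nat.succ 266505) k)) 267 = true := by decide +kernel
theorem s2c915 : allBelow (fun k => fs2 (Nat.add (Nat.succ 266772) k)) 263 = true := by decide +kernel
theorem s2c916 : allBelow (fun k => fs2 (Nat.add (Nat.succ 267035) k)) 273 = true := by decide +kernel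
theorem s2c917 : allBelow (fun k => fs2 (Nat.add (Nat.succ 267308) k)) 287 = true := by decide +kernel
theorem s2c918 : allBelow (fun k => fs2 (Nat.add (Nat.succ 267595) k)) 268 = true := by decide +kernel
theorem s2c919 : allBelow (fun k => fs2 (Nat.add (Nat.succ 267863) k)) 260 = true := by decide +kernel
theorem s2c920 : allBelow (fun k => fs2 (Nat.add (Nat.succ 268123) k)) 271 = true := by decide +kernel
theorem s2c921 : allBelow (fun k => fs2 (Nat.add (Nat.succ 268394) k)) 281 = true := by decide +kernel
theorem s2c922 : allBelow (fun k => fs2 (Nat.add (Nat.succ 268675) k)) 288 = true := by decide +kernel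
theorem s2c923 : allBelow (fun k => fs2 (Nat.add (Nat.succ 268963) k)) 270 = true := by decide +kernel
theorem s2c924 : allBelow (fun k => fs2 (Nat.add (Nat.succ 269233) k)) 258 = true := by decide +kernel
theorem s2c925 : allBelow (fun k => fs2 (Nat.add (Nat.succ 269491) k)) 275 = true := by decide +kernel
theorem s2c926 : allBelow (fun k => fs2 (Nat.add (Nat.succ 269766) k)) 274 = true := by decide +kernel
theorem s2c927 : allBelow (fun k => fs2 (Nat.add (Nat.succ 270040) k)) 299 = true := by decide +kernel
theorem s2c928 : allBelow (fun k => fs2 (Nat.add (Nat.succ 270339) k)) 270 = true := by decide +kernel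
theorem s2c929 : allBelow (fun k => fs2 (Nat.add (Nat.succ 270609) k)) 274 = true := by decide +kernel
theorem s2c930 : allBelow (fun k => fs2 (Nat.add (Nat.succ 270883) k)) 276 = true := by decide +kernel
theorem s2c931 : allBelow (fun k => fs2 (Nat.add (Nat.succ 271159) k)) 245 = true := by decide +kernel
theorem s2c932 : allBelow (fun k => fs2 (Nat.add (Nat.succ 271404) k)) 262 = true := by decide +kernel
theorem s2c933 : allBelow (fun k => fs2 (Nat.add (Nat.succ 271666) k)) 270 = true := by decide +kernel
theorem s2c934 : allBelow (fun k => fs2 (Nat.add (Nat.succ 271936) k)) 279 = true := by decide +kernel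
theorem s2c935 : allBelow (fun k => fs2 (Nat.add (Nat.succ 272215) k)) 229 = true := by decide +kernel
theorem s2c936 : allBelow (fun k => fs2 (Nat.add (Nat.succ 272444) k)) 249 = true := by decide +kernel
theorem s2c937 : allBelow (fun k => fs2 (Nat.add (Nat.succ 272693) k)) 244 = true := by decide +kernel
theorem s2c938 : allBelow (fun k => fs2 (Nat.add (Nat.succ 272937) k)) 242 = true := by decide +kernel
theorem s2c939 : allBelow (fun k => fs2 (Nat.add (Nat.succ 273179) k)) 245 = true := by decide +kernel
theorem s2c940 : allBelow (fun k => fs2 (Nat.add (Nat.succ 273424) k)) 245 = true := by decide +kernel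
theorem s2c941 : allBelow (fun k => fs2 (Nat.add (Nat.succ 273669) k)) 273 = true := by decide +kernel
theorem s2c942 : allBelow (fun k => fs2 (Nat.add (Nat.succ 273942) k)) 244 = true := by decide +kernel
theorem s2c943 : allBelow (fun k => fs2 (Nat.add (Nat.succ 274186) k)) 263 = true := by decide +kernel
theorem s2c944 : allBelow (fun k => fs2 (Nat.add (Nat.succ 274449) k)) 252 = true := by decide +kernel
theorem s2c945 : allBelow (fun k => fs2 (Nat.add (Nat.succ 274701) k)) 235 = true := by decide +kernel
theorem s2c946 : allBelow (fun k => fs2 (Nat.add (Nat.succ 274936) k)) 238 = true := by decide +kernel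
theorem s2c947 : allBelow (fun k => fs2 (Nat.add (Nat.succ 275174) k)) 247 = true := by decide +kernel
theorem s2c948 : allBelow (fun k => fs2 (Nat.add (Nat.succ 275421) k)) 255 = true := by decide +kernel
theorem s2c949 : allBelow (fun k => fs2 (Nat.add (Nat.succ 275676) k)) 245 = true := by decide +kernel
theorem s2c950 : allBelow (fun k => fs2 (Nat.add (Nat.succ 275921) k)) 252 = true := by decide +kernel
theorem s2c951 : allBelow (fun k => fs2 (Nat.add (Nat.succ 276173) k)) 267 = true := by decide +kernel
theorem s2c952 : allBelow (fun k => fs2 (Nat.add (Nat.succ 276440) k)) 245 = true := by decide +kernel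
theorem s2c953 : allBelow (fun k => fs2 (Nat.add (Nat.succ 276685) k)) 273 = true := by decide +kernel
theorem s2c954 : allBelow (fun k => fs2 (Nat.add (Nat.succ 276958) k)) 256 = true := by decide +kernel
theorem s2c955 : allBelow (fun k => fs2 (Nat.add (Nat.succ 277214) k)) 258 = true := by decide +kernel
theorem s2c956 : allBelow (fun k => fs2 (Nat.add (Nat.succ 277472) k)) 254 = true := by decide +kernel
theorem s2c957 : allBelow (fun k => fs2 (Nat.add (Nat.succ 277726) k)) 250 = true := by decide +kernel
theorem s2c958 : allBelow (fun k => fs2 (Nat.add (Nat.succ 277976) k)) 241 = true := by decide +kernel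
theorem s2c959 : allBelow (fun k => fs2 (Nat.add (Nat.succ 278217) k)) 249 = true := by decide +kernel
theorem s2c960 : allBelow (fun k => fs2 (Nat.add (Nat.succ 278466) k)) 252 = true := by decide +kernel
theorem s2c961 : allBelow (fun k => fs2 (Nat.add (Nat.succ 278718) k)) 261 = true := by decide +kernel
theorem s2c962 : allBelow (fun k => fs2 (Nat.add (Nat.succ 278979) k)) 266 = true := by decide +kernel
theorem s2c963 : allBelow (fun k => fs2 (Nat.add (Nat.succ 279245) k)) 262 = true := by decide +kernel
theorem s2c964 : allBelow (fun k => fs2 (Nat.add (Nat.succ 279507) k)) 262 = true := by decide +kernel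
theorem s2c965 : allBelow (fun k => fs2 (Nat.add (Nat.succ 279769) k)) 269 = true := by decide +kernel
theorem s2c966 : allBelow (fun k => fs2 (Nat.add (Nat.succ 280038) k)) 267 = true := by decide +kernel
theorem s2c967 : allBelow (fun k => fs2 (Nat.add (Nat.succ 280305) k)) 253 = true := by decide +kernel
theorem s2c968 : allBelow (fun k => fs2 (Nat.add (Nat.succ 280558) k)) 260 = true := by decide +kernel
theorem s2c969 : allBelow (fun k => fs2 (Nat.add (Nat.succ 280818) k)) 271 = true := by decide +kernel
theorem s2c970 : allBelow (fun k => fs2 (Nat.add (Nat.succ 281089) k)) 255 = true := by decide +kernel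
theorem s2c971 : allBelow (fun k => fs2 (Nat.add (Nat.succ 281344) k)) 257 = true := by decide +kernel
theorem s2c972 : allBelow (fun k => fs2 (Nat.add (Nat.succ 281601) k)) 259 = true := by decide +kernel
theorem s2c973 : allBelow (fun k => fs2 (Nat.add (Nat.succ 281860) k)) 257 = true := by decide +kernel
theorem s2c974 : allBelow (fun k => fs2 (Nat.add (Nat.succ 282117) k)) 252 = true := by decide +kernel
theorem s2c975 : allBelow (fun k => fs2 (Nat.add (Nat.succ 282369) k)) 250 = true := by decide +kernel
theorem s2c976 : allBelow (fun k => fs2 (Nat.add (Nat.succ 282619) k)) 290 = true := by decide +kernel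
theorem s2c977 : allBelow (fun k => fs2 (Nat.add (Nat.succ 282909) k)) 258 = true := by decide +kernel
theorem s2c978 : allBelow (fun k => fs2 (Nat.add (Nat.succ 283167) k)) 261 = true := by decide +kernel
theorem s2c979 : allBelow (fun k => fs2 (Nat.add (Nat.succ 283428) k)) 261 = true := by decide +kernel
theorem s2c980 : allBelow (fun k => fs2 (Nat.add (Nat.succ 283689) k)) 281 = true := by decide +kernel
theorem s2c981 : allBelow (fun k => fs2 (Nat.add (Nat.succ 283970) k)) 283 = true := by decide +kernel
theorem s2c982 : allBelow (fun k => fs2 (Nat.add (Nat.succ 284253) k)) 277 = true := by decide +kernel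
theorem s2c983 : allBelow (fun k => fs2 (Nat.add (Nat.succ 284530) k)) 270 = true := by decide +kernel
theorem s2c984 : allBelow (fun k => fs2 (Nat.add (Nat.succ 284800) k)) 239 = true := by decide +kernel
theorem s2c985 : allBelow (fun k => fs2 (Nat.add (Nat.succ 285039) k)) 241 = true := by decide +kernel

end Cfsg.Agent.Lib.Helper35.Fi24a
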