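import Cfsg.Agent.Lib.Helper35.Fi24a.Data

set_option Elab.async false

namespace Cfsg.Agent.Lib.Helper35.Fi24a

open Cfsg.Agent.Lib.Helper35

theorem s5c386 : allBelow (fun k => fs5 (Nat.add (Nat.succ 122355) k)) 323 = true := by decide +kernel
theorem s5c387 : allBelow (fun k => fs5 (Nat.add (Nat.succ 122678) k)) 319 = true := by decide +kernel
theorem s5c388 : allBelow (fun k => fs5 (Nat.add (Nat.succ 122997) k)) 432 = true := by decide +kernel
theorem s5c389 : allBelow (fun k => fs5 (Nat.add (Nat.succ 123429) k)) 425 = true := by decide +kernel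
theorem s5c390 : allBelow (fun k => fs5 (Nat.add (Nat.succ 123854) k)) 333 = true := by decide +kernel
theorem s5c391 : allBelow (fun k => fs5 (Nat.add (Nat.succ 124187) k)) 371 = true := by decide +kernel
theorem s5c392 : allBelow (fun k => fs5 (Nat.add (Nat.succ 124558) k)) 319 = true := by decide +kernel
theorem s5c393 : allBelow (fun k => fs5 (Nat.add (Nat.succ 124877) k)) 259 = true := by decide +kernel
theorem s5c394 : allBelow (fun k => fs5 (Nat.add (Nat.succ 125136) k)) 265 = true := by decide +kernel
theorem s5c395 : allBelow (fun k => fs5 (Nat.add (Nat.succ 125401) k)) 267 = true := by decide +kernel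
theorem s5c396 : allBelow (fun k => fs5 (Nat.add (Nat.succ 125668) k)) 257 = true := by decide +kernel
theorem s5c397 : allBelow (fun k => fs5 (Nat.add (Nat.succ 125925) k)) 266 = true := by decide +kernel
theorem s5c398 : allBelow (fun k => fs5 (Nat.add (Nat.succ 126191) k)) 267 = true := by decide +kernel
theorem s5c399 : allBelow (fun k => fs5 (Nat.add (Nat.succ 126458) k)) 264 = true := by decide +kernel
theorem s5c400 : allBelow (fun k => fs5 (Nat.add (Nat.succ 126722) k)) 262 = true := by decide +kernel
theorem s5c401 : allBelow (fun k => fs5 (Nat.add (Nat.succ 126984) k)) 270 = true := by decide +kernel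
theorem s5c402 : allBelow (fun k => fs5 (Nat.add (Nat.succ 127254) k)) 270 = true := by decide +kernel
theorem s5c403 : allBelow (fun k => fs5 (Nat.add (Nat.succ 127524) k)) 275 = true := by decide +kernel
theorem s5c404 : allBelow (fun k => fs5 (Nat.add (Nat.succ 127799) k)) 277 = true := by decide +kernel
theorem s5c405 : allBelow (fun k => fs5 (Nat.add (Nat.succ 128076) k)) 257 = true := by decide +kernel
theorem s5c406 : allBelow (fun k => fs5 (Nat.add (Nat.succ 128333) k)) 271 = true := by decide +kernel
theorem s5c407 : allBelow (fun k => fs5 (Nat.add (Nat.succ 128604) k)) 258 = true := by decide +kernel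
theorem s5c408 : allBelow (fun k => fs5 (Nat.add (Nat.succ 128862) k)) 280 = true := by decide +kernel
theorem s5c409 : allBelow (fun k => fs5 (Nat.add (Nat.succ 129142) k)) 253 = true := by decide +kernel
theorem s5c410 : allBelow (fun k => fs5 (Nat.add (Nat.succ 129395) k)) 271 = true := by decide +kernel
theorem s5c411 : allBelow (fun k => fs5 (Nat.add (Nat.succ 129666) k)) 251 = true := by decide +kernel
theorem s5c412 : allBelow (fun k => fs5 (Nat.add (Nat.succ 129917) k)) 253 = true := by decide +kernel
theorem s5c413 : allBelow (fun k => fs5 (Nat.add (Nat.succ 130170) k)) 264 = true := by decide +kernel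
theorem s5c414 : allBelow (fun k => fs5 (Nat.add (Nat.succ 130434) k)) 271 = true := by decide +kernel
theorem s5c415 : allBelow (fun k => fs5 (Nat.add (Nat.succ 130705) k)) 264 = true := by decide +kernel
theorem s5c416 : allBelow (fun k => fs5 (Nat.add (Nat.succ 130969) k)) 274 = true := by decide +kernel
theorem s5c417 : allBelow (fun k => fs5 (Nat.add (Nat.succ 131243) k)) 271 = true := by decide +kernel
theorem s5c418 : allBelow (fun k => fs5 (Nat.add (Nat.succ 131514) k)) 267 = true := by decide +kernel
theorem s5c419 : allBelow (fun k => fs5 (Nat.add (Nat.succ 131781) k)) 269 = true := by decide +kernel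
theorem s5c420 : allBelow (fun k => fs5 (Nat.add (Nat.succ 132050) k)) 260 = true := by decide +kernel
theorem s5c421 : allBelow (fun k => fs5 (Nat.add (Nat.succ 132310) k)) 268 = true := by decide +kernel
theorem s5c422 : allBelow (fun k => fs5 (Nat.add (Nat.succ 132578) k)) 273 = true := by decide +kernel
theorem s5c423 : allBelow (fun k => fs5 (Nat.add (Nat.succ 132851) k)) 278 = true := by decide +kernel
theorem s5c424 : allBelow (fun k => fs5 (Nat.add (Nat.succ 133129) k)) 267 = true := by decide +kernel
theorem s5c425 : allBelow (fun k => fs5 (Nat.add (Nat.succ 133396) k)) 262 = true := by decide +kernel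
theorem s5c426 : allBelow (fun k => fs5 (Nat.add (Nat.succ 133658) k)) 273 = true := by decide +kernel
theorem s5c427 : allBelow (fun k => fs5 (Nat.add (Nat.succ 133931) k)) 270 = true := by decide +kernel
theorem s5c428 : allBelow (fun k => fs5 (Nat.add (Nat.succ 134201) k)) 278 = true := by decide +kernel
theorem s5c429 : allBelow (fun k => fs5 (Nat.add (Nat.succ 134479) k)) 277 = true := by decide +kernel
theorem s5c430 : allBelow (fun k => fs5 (Nat.add (Nat.succ 134756) k)) 277 = true := by decide +kernel
theorem s5c431 : allBelow (fun k => fs5 (Nat.add (Nat.succ 135033) k)) 280 = true := by decide +kernel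
theorem s5c432 : allBelow (fun k => fs5 (Nat.add (Nat.succ 135313) k)) 273 = true := by decide +kernel
theorem s5c433 : allBelow (fun k => fs5 (Nat.add (Nat.succ 135586) k)) 277 = true := by decide +kernel
theorem s5c434 : allBelow (fun k => fs5 (Nat.add (Nat.succ 135863) k)) 271 = true := by decide +kernel
theorem s5c435 : allBelow (fun k => fs5 (Nat.add (Nat.succ 136134) k)) 276 = true := by decide +kernel
theorem s5c436 : allBelow (fun k => fs5 (Nat.add (Nat.succ 136410) k)) 270 = true := by decide +kernel
theorem s5c437 : allBelow (fun k => fs5 (Nat.add (Nat.succ 136680) k)) 292 = true := by decide +kernel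
theorem s5c438 : allBelow (fun k => fs5 (Nat.add (Nat.succ 136972) k)) 285 = true := by decide +kernel
theorem s5c439 : allBelow (fun k => fs5 (Nat.add (Nat.succ 137257) k)) 265 = true := by decide +kernel
theorem s5c440 : allBelow (fun k => fs5 (Nat.add (Nat.succ 137522) k)) 275 = true := by decide +kernel
theorem s5c441 : allBelow (fun k => fs5 (Nat.add (Nat.succ 137797) k)) 283 = true := by decide +kernel
theorem s5c442 : allBelow (fun k => fs5 (Nat.add (Nat.succ 138080) k)) 276 = true := by decide +kernel
theorem s5c443 : allBelow (fun k => fs5 (Nat.add (Nat.succ 138356) k)) 273 = true := by decide +kernel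
theorem s5c444 : allBelow (fun k => fs5 (Nat.add (Nat.succ 138629) k)) 276 = true := by decide +kernel
theorem s5c445 : allBelow (fun k => fs5 (Nat.add (Nat.succ 138905) k)) 285 = true := by decide +kernel
theorem s5c446 : allBelow (fun k => fs5 (Nat.add (Nat.succ 139190) k)) 241 = true := by decide +kernel
theorem s5c447 : allBelow (fun k => fs5 (Nat.add (Nat.succ 139431) k)) 263 = true := by decide +kernel
theorem s5c448 : allBelow (fun k => fs5 (Nat.add (Nat.succ 139694) k)) 259 = true := by decide +kernel
theorem s5c449 : allBelow (fun k => fs5 (Nat.add (Nat.succ 139953) k)) 253 = true := by decide +kernel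
theorem s5c450 : allBelow (fun k => fs5 (Nat.add (Nat.succ 140206) k)) 262 = true := by decide +kernel
theorem s5c451 : allBelow (fun k => fs5 (Nat.add (Nat.succ 140468) k)) 260 = true := by decide +kernel
theorem s5c452 : allBelow (fun k => fs5 (Nat.add (Nat.succ 140728) k)) 259 = true := by decide +kernel
theorem s5c453 : allBelow (fun k => fs5 (Nat.add (Nat.succ 140987) k)) 252 = true := by decide +kernel
theorem s5c454 : allBelow (fun k => fs5 (Nat.add (Nat.succ 141239) k)) 264 = true := by decide +kernel
theorem s5c455 : allBelow (fun k => fs5 (Nat.add (Nat.succ 141503) k)) 259 = true := by decide +kernel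
theorem s5c456 : allBelow (fun k => fs5 (Nat.add (Nat.succ 141762) k)) 258 = true := by decide +kernel
theorem s5c457 : allBelow (fun k => fs5 (Nat.add (Nat.succ 142020) k)) 275 = true := by decide +kernel
theorem s5c458 : allBelow (fun k => fs5 (Nat.add (Nat.succ 142295) k)) 250 = true := by decide +kernel
theorem s5c459 : allBelow (fun k => fs5 (Nat.add (Nat.succ 142545) k)) 257 = true := by decide +kernel
theorem s5c460 : allBelow (fun k => fs5 (Nat.add (Nat.succ 142802) k)) 265 = true := by decide +kernel
theorem s5c461 : allBelow (fun k => fs5 (Nat.add (Nat.succ 143067) k)) 260 = true := by decide +kernel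
theorem s5c462 : allBelow (fun k => fs5 (Nat.add (Nat.succ 143327) k)) 261 = true := by decide +kernel
theorem s5c463 : allBelow (fun k => fs5 (Nat.add (Nat.succ 143588) k)) 259 = true := by decide +kernel
theorem s5c464 : allBelow (fun k => fs5 (Nat.add (Nat.succ 143847) k)) 267 = true := by decide +kernel
theorem s5c465 : allBelow (fun k => fs5 (Nat.add (Nat.succ 144114) k)) 265 = true := by decide +kernel
theorem s5c466 : allBelow (fun k => fs5 (Nat.add (Nat.succ 144379) k)) 260 = true := by decide +kernel
theorem s5c467 : allBelow (fun k => fs5 (Nat.add (Nat.succ 144639) k)) 263 = true := by decide +kernel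
theorem s5c468 : allBelow (fun k => fs5 (Nat.add (Nat.succ 144902) k)) 262 = true := by decide +kernel
theorem s5c469 : allBelow (fun k => fs5 (Nat.add (Nat.succ 145164) k)) 244 = true := by decide +kernel
theorem s5c470 : allBelow (fun k => fs5 (Nat.add (Nat.succ 145408) k)) 267 = true := by decide +kernel
theorem s5c471 : allBelow (fun k => fs5 (Nat.add (Nat.succ 145675) k)) 273 = true := by decide +kernel
theorem s5c472 : allBelow (fun k => fs5 (Nat.add (Nat.succ 145948) k)) 248 = true := by decide +kernel
theorem s5c473 : allBelow (fun k => fs5 (Nat.add (Nat.succ 146196) k)) 279 = true := by decide +kernel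
theorem s5c474 : allBelow (fun k => fs5 (Nat.add (Nat.succ 146475) k)) 268 = true := by decide +kernel
theorem s5c475 : allBelow (fun k => fs5 (Nat.add (Nat.succ 146743) k)) 269 = true := by decide +kernel
theorem s5c476 : allBelow (fun k => fs5 (Nat.add (Nat.succ 147012) k)) 259 = true := by decide +kernel
theorem s5c477 : allBelow (fun k => fs5 (Nat.add (Nat.succ 147271) k)) 255 = true := by decide +kernel
theorem s5c478 : allBelow (fun k => fs5 (Nat.add (Nat.succ 147526) k)) 275 = true := by decide +kernel
theorem s5c479 : allBelow (fun k => fs5 (Nat.add (Nat.succ 147801) k)) 268 = true := by decide +kernel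
theorem s5c480 : allBelow (fun k => fs5 (Nat.add (Nat.succ 148069) k)) 273 = true := by decide +kernel
theorem s5c481 : allBelow (fun k => fs5 (Nat.add (Nat.succ 148342) k)) 273 = true := by decide +kernel
theorem s5c482 : allBelow (fun k => fs5 (Nat.add (Nat.succ 148615) k)) 271 = true := by decide +kernel
theorem s5c483 : allBelow (fun k => fs5 (Nat.add (Nat.succ 148886) k)) 277 = true := by decide +kernel
theorem s5c484 : allBelow (fun k => fs5 (Nat.add (Nat.succ 149163) k)) 276 = true := by decide +kernel
theorem s5c485 : allBelow (fun k => fs5 (Nat.add (Nat.succ 149439) k)) 264 = true := by decide +kernel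
theorem s5c486 : allBelow (fun k => fs5 (Nat.add (Nat.succ 149703) k)) 270 = true := by decide +kernel
theorem s5c487 : allBelow (fun k => fs5 (Nat.add (Nat.succ 149973) k)) 270 = true := by decide +kernel
theorem s5c488 : allBelow (fun k => fs5 (Nat.add (Nat.succ 150243) k)) 273 = true := by decide +kernel
theorem s5c489 : allBelow (fun k => fs5 (Nat.add (Nat.succ 150516) k)) 275 = true := by decide +kernel
theorem s5c490 : allBelow (fun k => fs5 (Nat.add (Nat.succ 150791) k)) 275 = true := by decide +kernel
theorem s5c491 : allBelow (fun k => fs5 (Nat.add (Nat.succ 151066) k)) 261 = true := by decide +kernel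
theorem s5c492 : allBelow (fun k => fs5 (Nat.add (Nat.succ 151327) k)) 271 = true := by decide +kernel
theorem s5c493 : allBelow (fun k => fs5 (Nat.add (Nat.succ 151598) k)) 269 = true := by decide +kernel
theorem s5c494 : allBelow (fun k => fs5 (Nat.add (Nat.succ 151867) k)) 281 = true := by decide +kernel
theorem s5c495 : allBelow (fun k => fs5 (Nat.add (Nat.succ 152148) k)) 276 = true := by decide +kernel
theorem s5c496 : allBelow (fun k => fs5 (Nat.add (Nat.succ 152424) k)) 271 = true := by decide +kernel
theorem s5c497 : allBelow (fun k => fs5 (Nat.add (Nat.succ 152695) k)) 277 = true := by decide +kernel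
theorem s5c498 : allBelow (fun k => fs5 (Nat.add (Nat.succ 152972) k)) 267 = true := by decide +kernel
theorem s5c499 : allBelow (fun k => fs5 (Nat.add (Nat.succ 153239) k)) 282 = true := by decide +kernel
theorem s5c500 : allBelow (fun k => fs5 (Nat.add (Nat.succ 153521) k)) 278 = true := by decide +kernel
theorem s5c501 : allBelow (fun k => fs5 (Nat.add (Nat.succ 153799) k)) 271 = true := by decide +kernel
theorem s5c502 : allBelow (fun k => fs5 (Nat.add (Nat.succ 154070) k)) 279 = true := by decide +kernel
theorem s5c503 : allBelow (fun k => fs5 (Nat.add (Nat.succ 154349) k)) 283 = true := by decide +kernel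
theorem s5c504 : allBelow (fun k => fs5 (Nat.add (Nat.succ 154632) k)) 282 = true := by decide +kernel
theorem s5c505 : allBelow (fun k => fs5 (Nat.add (Nat.succ 154914) k)) 283 = true := by decide +kernel
theorem s5c506 : allBelow (fun k => fs5 (Nat.add (Nat.succ 155197) k)) 286 = true := by decide +kernel
theorem s5c507 : allBelow (fun k => fs5 (Nat.add (Nat.succ 155483) k)) 278 = true := by decide +kernel
theorem s5c508 : allBelow (fun k => fs5 (Nat.add (Nat.succ 155761) k)) 285 = true := by decide +kernel
theorem s5c509 : allBelow (fun k => fs5 (Nat.add (Nat.succ 156046) k)) 279 = true := by decide +kernel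
theorem s5c510 : allBelow (fun k => fs5 (Nat.add (Nat.succ 156325) k)) 282 = true := by decide +kernel
theorem s5c511 : allBelow (fun k => fs5 (Nat.add (Nat.succ 156607) k)) 273 = true := by decide +kernel
theorem s5c512 : allBelow (fun k => fs5 (Nat.add (Nat.succ 156880) k)) 297 = true := by decide +kernel
theorem s5c513 : allBelow (fun k => fs5 (Nat.add (Nat.succ 157177) k)) 267 = true := by decide +kernel
theorem s5c514 : allBelow (fun k => fs5 (Nat.add (Nat.succ 157444) k)) 251 = true := by decide +kernel
theorem s5c515 : allBelow (fun k => fs5 (Nat.add (Nat.succ 157695) k)) 247 = true := by decide +kernel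
theorem s5c516 : allBelow (fun k => fs5 (Nat.add (Nat.succ 157942) k)) 252 = true := by decide +kernel
theorem s5c517 : allBelow (fun k => fs5 (Nat.add (Nat.succ 158194) k)) 266 = true := by decide +kernel
theorem s5c518 : allBelow (fun k => fs5 (Nat.add (Nat.succ 158460) k)) 262 = true := by decide +kernel
theorem s5c519 : allBelow (fun k => fs5 (Nat.add (Nat.succ 158722) k)) 258 = true := by decide +kernel
theorem s5c520 : allBelow (fun k => fs5 (Nat.add (Nat.succ 158980) k)) 265 = true := by decide +kernel
theorem s5c521 : allBelow (fun k => fs5 (Nat.add (Nat.succ 159245) k)) 249 = true := by decide +kernel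
theorem s5c522 : allBelow (fun k => fs5 (Nat.add (Nat.succ 159494) k)) 264 = true := by decide +kernel
theorem s5c523 : allBelow (fun k => fs5 (Nat.add (Nat.succ 159758) k)) 249 = true := by decide +kernel
theorem s5c524 : allBelow (fun k => fs5 (Nat.add (Nat.succ 160007) k)) 264 = true := by decide +kernel
theorem s5c525 : allBelow (fun k => fs5 (Nat.add (Nat.succ 160271) k)) 249 = true := by decide +kernel
theorem s5c526 : allBelow (fun k => fs5 (Nat.add (Nat.succ 160520) k)) 267 = true := by decide +kernel
theorem s5c527 : allBelow (fun k => fs5 (Nat.add (Nat.succ 160787) k)) 254 = true := by decide +kernel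
theorem s5c528 : allBelow (fun k => fs5 (Nat.add (Nat.succ 161041) k)) 250 = true := by decide +kernel
theorem s5c529 : allBelow (fun k => fs5 (Nat.add (Nat.succ 161291) k)) 263 = true := by decide +kernel
theorem s5c530 : allBelow (fun k => fs5 (Nat.add (Nat.succ 161554) k)) 256 = true := by decide +kernel
theorem s5c531 : allBelow (fun k => fs5 (Nat.add (Nat.succ 161810) k)) 263 = true := by decide +kernel
theorem s5c532 : allBelow (fun k => fs5 (Nat.add (Nat.succ 162073) k)) 267 = true := by decide +kernel
theorem s5c533 : allBelow (fun k => fs5 (Nat.add (Nat.succ 162340) k)) 256 = true := by decide +kernel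
theorem s5c534 : allBelow (fun k => fs5 (Nat.add (Nat.succ 162596) k)) 252 = true := by decide +kernel
theorem s5c535 : allBelow (fun k => fs5 (Nat.add (Nat.succ 162848) k)) 267 = true := by decide +kernel
theorem s5c536 : allBelow (fun k => fs5 (Nat.add (Nat.succ 163115) k)) 254 = true := by decide +kernel
theorem s5c537 : allBelow (fun k => fs5 (Nat.add (Nat.succ 163369) k)) 264 = true := by decide +kernel
theorem s5c538 : allBelow (fun k => fs5 (Nat.add (Nat.succ 163633) k)) 267 = true := by decide +kernel
theorem s5c539 : allBelow (fun k => fs5 (Nat.add (Nat.succ 163900) k)) 260 = true := by decide +kernel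
theorem s5c540 : allBelow (fun k => fs5 (Nat.add (Nat.succ 164160) k)) 257 = true := by decide +kernel
theorem s5c541 : allBelow (fun k => fs5 (Nat.add (Nat.succ 164417) k)) 280 = true := by decide +kernel
theorem s5c542 : allBelow (fun k => fs5 (Nat.add (Nat.succ 164697) k)) 278 = true := by decide +kernel
theorem s5c543 : allBelow (fun k => fs5 (Nat.add (Nat.succ 164975) k)) 261 = true := by decide +kernel
theorem s5c544 : allBelow (fun k => fs5 (Nat.add (Nat.succ 165236) k)) 272 = true := by decide +kernel
theorem s5c545 : allBelow (fun k => fs5 (Nat.add (Nat.succ 165508) k)) 275 = true := by decide +kernel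
theorem s5c546 : allBelow (fun k => fs5 (Nat.add (Nat.succ 165783) k)) 268 = true := by decide +kernel
theorem s5c547 : allBelow (fun k => fs5 (Nat.add (Nat.succ 166051) k)) 262 = true := by decide +kernel
theorem s5c548 : allBelow (fun k => fs5 (Nat.add (Nat.succ 166313) k)) 278 = true := by decide +kernel
theorem s5c549 : allBelow (fun k => fs5 (Nat.add (Nat.succ 166591) k)) 272 = true := by decide +kernel
theorem s5c550 : allBelow (fun k => fs5 (Nat.add (Nat.succ 166863) k)) 280 = true := by decide +kernel
theorem s5c551 : allBelow (fun k => fs5 (Nat.add (Nat.succ 167143) k)) 277 = true := by decide +kernel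
theorem s5c552 : allBelow (fun k => fs5 (Nat.add (Nat.succ 167420) k)) 277 = true := by decide +kernel
theorem s5c553 : allBelow (fun k => fs5 (Nat.add (Nat.succ 167697) k)) 277 = true := by decide +kernel
theorem s5c554 : allBelow (fun k => fs5 (Nat.add (Nat.succ 167974) k)) 281 = true := by decide +kernel
theorem s5c555 : allBelow (fun k => fs5 (Nat.add (Nat.succ 168255) k)) 274 = true := by decide +kernel
theorem s5c556 : allBelow (fun k => fs5 (Nat.add (Nat.succ 168529) k)) 266 = true := by decide +kernel
theorem s5c557 : allBelow (fun k => fs5 (Nat.add (Nat.succ 168795) k)) 267 = true := by decide +kernel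
theorem s5c558 : allBelow (fun k => fs5 (Nat.add (Nat.succ 169062) k)) 280 = true := by decide +kernel
theorem s5c559 : allBelow (fun k => fs5 (Nat.add (Nat.succ 169342) k)) 272 = true := by decide +kernel
theorem s5c560 : allBelow (fun k => fs5 (Nat.add (Nat.succ 169614) k)) 276 = true := by decide +kernel
theorem s5c561 : allBelow (fun k => fs5 (Nat.add (Nat.succ 169890) k)) 283 = true := by decide +kernel
theorem s5c562 : allBelow (fun k => fs5 (Nat.add (Nat.succ 170173) k)) 273 = true := by decide +kernel
theorem s5c563 : allBelow (fun k => fs5 (Nat.add (Nat.succ 170446) k)) 265 = true := by decide +kernel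
theorem s5c564 : allBelow (fun k => fs5 (Nat.add (Nat.succ 170711) k)) 263 = true := by decide +kernel
theorem s5c565 : allBelow (fun k => fs5 (Nat.add (Nat.succ 170974) k)) 279 = true := by decide +kernel
theorem s5c566 : allBelow (fun k => fs5 (Nat.add (Nat.succ 171253) k)) 277 = true := by decide +kernel
theorem s5c567 : allBelow (fun k => fs5 (Nat.add (Nat.succ 171530) k)) 265 = true := by decide +kernel
theorem s5c568 : allBelow (fun k => fs5 (Nat.add (Nat.succ 171795) k)) 274 = true := by decide +kernel
theorem s5c569 : allBelow (fun k => fs5 (Nat.add (Nat.succ 172069) k)) 285 = true := by decide +kernel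
theorem s5c570 : allBelow (fun k => fs5 (Nat.add (Nat.succ 172354) k)) 270 = true := by decide +kernel
theorem s5c571 : allBelow (fun k => fs5 (Nat.add (Nat.succ 172624) k)) 273 = true := by decide +kernel
theorem s5c572 : allBelow (fun k => fs5 (Nat.add (Nat.succ 172897) k)) 278 = true := by decide +kernel
theorem s5c573 : allBelow (fun k => fs5 (Nat.add (Nat.succ 173175) k)) 281 = true := by decide +kernel
theorem s5c574 : allBelow (fun k => fs5 (Nat.add (Nat.succ 173456) k)) 283 = true := by decide +kernel
theorem s5c575 : allBelow (fun k => fs5 (Nat.add (Nat.succ 173739) k)) 276 = true := by decide +kernel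
theorem s5c576 : allBelow (fun k => fs5 (Nat.add (Nat.succ 174015) k)) 292 = true := by decide +kernel
theorem s5c577 : allBelow (fun k => fs5 (Nat.add (Nat.succ 174307) k)) 290 = true := by decide +kernel
theorem s5c578 : allBelow (fun k => fs5 (Nat.add (Nat.succ 174597) k)) 286 = true := by decide +kernel
theorem s5c579 : allBelow (fun k => fs5 (Nat.add (Nat.succ 174883) k)) 293 = true := by decide +kernel
theorem s5c580 : allBelow (fun k => fs5 (Nat.add (Nat.succ 175176) k)) 287 = true := by decide +kernel
theorem s5c581 : allBelow (fun k => fs5 (Nat.add (Nat.succ 175463) k)) 276 = true := by decide +kernel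
theorem s5c582 : allBelow (fun k => fs5 (Nat.add (Nat.succ 175739) k)) 284 = true := by decide +kernel
theorem s5c583 : allBelow (fun k => fs5 (Nat.add (Nat.succ 176023) k)) 277 = true := by decide +kernel
theorem s5c584 : allBelow (fun k => fs5 (Nat.add (Nat.succ 176300) k)) 281 = true := by decide +kernel
theorem s5c585 : allBelow (fun k => fs5 (Nat.add (Nat.succ 176581) k)) 283 = true := by decide +kernel
theorem s5c586 : allBelow (fun k => fs5 (Nat.add (Nat.succ 176864) k)) 306 = true := by decide +kernel
theorem s5c587 : allBelow (fun k => fs5 (Nat.add (Nat.succ 177170) k)) 253 = true := by decide +kernel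
theorem s5c588 : allBelow (fun k => fs5 (Nat.add (Nat.succ 177423) k)) 262 = true := by decide +kernel
theorem s5c589 : allBelow (fun k => fs5 (Nat.add (Nat.succ 177685) k)) 248 = true := by decide +kernel
theorem s5c590 : allBelow (fun k => fs5 (Nat.add (Nat.succ 177933) k)) 272 = true := by decide +kernel
theorem s5c591 : allBelow (fun k => fs5 (Nat.add (Nat.succ 178205) k)) 267 = true := by decide +kernel
theorem s5c592 : allBelow (fun k => fs5 (Nat.add (Nat.succ 178472) k)) 255 = true := by decide +kernel
theorem s5c593 : allBelow (fun k => fs5 (Nat.add (Nat.succ 178727) k)) 253 = true := by decide +kernel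
theorem s5c594 : allBelow (fun k => fs5 (Nat.add (Nat.succ 178980) k)) 255 = true := by decide +kernel
theorem s5c595 : allBelow (fun k => fs5 (Nat.add (Nat.succ 179235) k)) 270 = true := by decide +kernel
theorem s5c596 : allBelow (fun k => fs5 (Nat.add (Nat.succ 179505) k)) 261 = true := by decide +kernel
theorem s5c597 : allBelow (fun k => fs5 (Nat.add (Nat.succ 179766) k)) 252 = true := by decide +kernel
theorem s5c598 : allBelow (fun k => fs5 (Nat.add (Nat.succ 180018) k)) 270 = true := by decide +kernel
theorem s5c599 : allBelow (fun k => fs5 (Nat.add (Nat.succ 180288) k)) 270 = true := by decide +kernel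
theorem s5c600 : allBelow (fun k => fs5 (Nat.add (Nat.succ 180558) k)) 247 = true := by decide +kernel
theorem s5c601 : allBelow (fun k => fs5 (Nat.add (Nat.succ 180805) k)) 240 = true := by decide +kernel
theorem s5c602 : allBelow (fun k => fs5 (Nat.add (Nat.succ 181045) k)) 265 = true := by decide +kernel
theorem s5c603 : allBelow (fun k => fs5 (Nat.add (Nat.succ 181310) k)) 239 = true := by decide +kernel
theorem s5c604 : allBelow (fun k => fs5 (Nat.add (Nat.succ 181549) k)) 267 = true := by decide +kernel
theorem s5c605 : allBelow (fun k => fs5 (Nat.add (Nat.succ 181816) k)) 270 = true := by decide +kernel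
theorem s5c606 : allBelow (fun k => fs5 (Nat.add (Nat.succ 182086) k)) 280 = true := by decide +kernel
theorem s5c607 : allBelow (fun k => fs5 (Nat.add (Nat.succ 182366) k)) 266 = true := by decide +kernel
theorem s5c608 : allBelow (fun k => fs5 (Nat.add (Nat.succ 182632) k)) 254 = true := by decide +kernel
theorem s5c609 : allBelow (fun k => fs5 (Nat.add (Nat.succ 182886) k)) 267 = true := by decide +kernel
theorem s5c610 : allBelow (fun k => fs5 (Nat.add (Nat.succ 183153) k)) 273 = true := by decide +kernel
theorem s5c611 : allBelow (fun k => fs5 (Nat.add (Nat.succ 183426) k)) 274 = true := by decide +kernel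
theorem s5c612 : allBelow (fun k => fs5 (Nat.add (Nat.succ 183700) k)) 262 = true := by decide +kernel
theorem s5c613 : allBelow (fun k => fs5 (Nat.add (Nat.succ 183962) k)) 267 = true := by decide +kernel
theorem s5c614 : allBelow (fun k => fs5 (Nat.add (Nat.succ 184229) k)) 252 = true := by decide +kernel
theorem s5c615 : allBelow (fun k => fs5 (Nat.add (Nat.succ 184481) k)) 275 = true := by decide +kernel
theorem s5c616 : allBelow (fun k => fs5 (Nat.add (Nat.succ 184756) k)) 285 = true := by decide +kernel
theorem s5c617 : allBelow (fun k => fs5 (Nat.add (Nat.succ 185041) k)) 291 = true := by decide +kernel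
theorem s5c618 : allBelow (fun k => fs5 (Nat.add (Nat.succ 185332) k)) 277 = true := by decide +kernel
theorem s5c619 : allBelow (fun k => fs5 (Nat.add (Nat.succ 185609) k)) 272 = true := by decide +kernel
theorem s5c620 : allBelow (fun k => fs5 (Nat.add (Nat.succ 185881) k)) 269 = true := by decide +kernel
theorem s5c621 : allBelow (fun k => fs5 (Nat.add (Nat.succ 186150) k)) 274 = true := by decide +kernel
theorem s5c622 : allBelow (fun k => fs5 (Nat.add (Nat.succ 186424) k)) 276 = true := by decide +kernel
theorem s5c623 : allBelow (fun k => fs5 (Nat.add (Nat.succ 186700) k)) 280 = true := by decide +kernel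
theorem s5c624 : allBelow (fun k => fs5 (Nat.add (Nat.succ 186980) k)) 282 = true := by decide +kernel
theorem s5c625 : allBelow (fun k => fs5 (Nat.add (Nat.succ 187262) k)) 282 = true := by decide +kernel
theorem s5c626 : allBelow (fun k => fs5 (Nat.add (Nat.succ 187544) k)) 273 = true := by decide +kernel
theorem s5c627 : allBelow (fun k => fs5 (Nat.add (Nat.succ 187817) k)) 284 = true := by decide +kernel
theorem s5c628 : allBelow (fun k => fs5 (Nat.add (Nat.succ 188101) k)) 284 = true := by decide +kernel
theorem s5c629 : allBelow (fun k => fs5 (Nat.add (Nat.succ 188385) k)) 292 = true := by decide +kernel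
theorem s5c630 : allBelow (fun k => fs5 (Nat.add (Nat.succ 188677) k)) 275 = true := by decide +kernel
theorem s5c631 : allBelow (fun k => fs5 (Nat.add (Nat.succ 188952) k)) 269 = true := by decide +kernel
theorem s5c632 : allBelow (fun k => fs5 (Nat.add (Nat.succ 189221) k)) 274 = true := by decide +kernel
theorem s5c633 : allBelow (fun k => fs5 (Nat.add (Nat.succ 189495) k)) 261 = true := by decide +kernel
theorem s5c634 : allBelow (fun k => fs5 (Nat.add (Nat.succ 189756) k)) 282 = true := by decide +kernel
theorem s5c635 : allBelow (fun k => fs5 (Nat.add (Nat.succ 190038) k)) 278 = true := by decide +kernel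
theorem s5c636 : allBelow (fun k => fs5 (Nat.add (Nat.succ 190316) k)) 279 = true := by decide +kernel
theorem s5c637 : allBelow (fun k => fs5 (Nat.add (Nat.succ 190595) k)) 287 = true := by decide +kernel
theorem s5c638 : allBelow (fun k => fs5 (Nat.add (Nat.succ 190882) k)) 279 = true := by decide +kernel
theorem s5c639 : allBelow (fun k => fs5 (Nat.add (Nat.succ 191161) k)) 278 = true := by decide +kernel
theorem s5c640 : allBelow (fun k => fs5 (Nat.add (Nat.succ 191439) k)) 257 = true := by decide +kernel
theorem s5c641 : allBelow (fun k => fs5 (Nat.add (Nat.succ 191696) k)) 268 = true := by decide +kernel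
theorem s5c642 : allBelow (fun k => fs5 (Nat.add (Nat.succ 191964) k)) 281 = true := by decide +kernel
theorem s5c643 : allBelow (fun k => fs5 (Nat.add (Nat.succ 192245) k)) 283 = true := by decide +kernel
theorem s5c644 : allBelow (fun k => fs5 (Nat.add (Nat.succ 192528) k)) 277 = true := by decide +kernel
theorem s5c645 : allBelow (fun k => fs5 (Nat.add (Nat.succ 192805) k)) 290 = true := by decide +kernel
theorem s5c646 : allBelow (fun k => fs5 (Nat.add (Nat.succ 193095) k)) 295 = true := by decide +kernel
theorem s5c647 : allBelow (fun k => fs5 (Nat.add (Nat.succ 193390) k)) 277 = true := by decide +kernel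
theorem s5c648 : allBelow (fun k => fs5 (Nat.add (Nat.succ 193667) k)) 273 = true := by decide +kernel
theorem s5c649 : allBelow (fun k => fs5 (Nat.add (Nat.succ 193940) k)) 286 = true := by decide +kernel
theorem s5c650 : allBelow (fun k => fs5 (Nat.add (Nat.succ 194226) k)) 281 = true := by decide +kernel
theorem s5c651 : allBelow (fun k => fs5 (Nat.add (Nat.succ 194507) k)) 287 = true := by decide +kernel
theorem s5c652 : allBelow (fun k => fs5 (Nat.add (Nat.succ 194794) k)) 294 = true := by decide +kernel
theorem s5c653 : allBelow (fun k => fs5 (Nat.add (Nat.succ 195088) k)) 281 = true := by decide +kernel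
theorem s5c654 : allBelow (fun k => fs5 (Nat.add (Nat.succ 195369) k)) 302 = true := by decide +kernel
theorem s5c655 : allBelow (fun k => fs5 (Nat.add (Nat.succ 195671) k)) 296 = true := by decide +kernel
theorem s5c656 : allBelow (fun k => fs5 (Nat.add (Nat.succ 195967) k)) 298 = true := by decide +kernel
theorem s5c657 : allBelow (fun k => fs5 (Nat.add (Nat.succ 196265) k)) 304 = true := by decide +kernel
theorem s5c658 : allBelow (fun k => fs5 (Nat.add (Nat.succ 196569) k)) 283 = true := by decide +kernel
theorem s5c659 : allBelow (fun k => fs5 (Nat.add (Nat.succ 196852) k)) 274 = true := by decide +kernel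
theorem s5c660 : allBelow (fun k => fs5 (Nat.add (Nat.succ 197126) k)) 280 = true := by decide +kernel
theorem s5c661 : allBelow (fun k => fs5 (Nat.add (Nat.succ 197406) k)) 278 = true := by decide +kernel
theorem s5c662 : allBelow (fun k => fs5 (Nat.add (Nat.succ 197684) k)) 275 = true := by decide +kernel
theorem s5c663 : allBelow (fun k => fs5 (Nat.add (Nat.succ 197959) k)) 298 = true := by decide +kernel
theorem s5c664 : allBelow (fun k => fs5 (Nat.add (Nat.succ 198257) k)) 288 = true := by decide +kernel
theorem s5c665 : allBelow (fun k => fs5 (Nat.add (Nat.succ 198545) k)) 253 = true := by decide +kernel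
theorem s5c666 : allBelow (fun k => fs5 (Nat.add (Nat.succ 198798) k)) 270 = true := by decide +kernel
theorem s5c667 : allBelow (fun k => fs5 (Nat.add (Nat.succ 199068) k)) 253 = true := by decide +kernel
theorem s5c668 : allBelow (fun k => fs5 (Nat.add (Nat.succ 199321) k)) 284 = true := by decide +kernel
theorem s5c669 : allBelow (fun k => fs5 (Nat.add (Nat.succ 199605) k)) 273 = true := by decide +kernel
theorem s5c670 : allBelow (fun k => fs5 (Nat.add (Nat.succ 199878) k)) 264 = true := by decide +kernel
theorem s5c671 : allBelow (fun k => fs5 (Nat.add (Nat.succ 200142) k)) 262 = true := by decide +kernel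
theorem s5c672 : allBelow (fun k => fs5 (Nat.add (Nat.succ 200404) k)) 277 = true := by decide +kernel
theorem s5c673 : allBelow (fun k => fs5 (Nat.add (Nat.succ 200681) k)) 242 = true := by decide +kernel
theorem s5c674 : allBelow (fun k => fs5 (Nat.add (Nat.succ 200923) k)) 262 = true := by decide +kernel
theorem s5c675 : allBelow (fun k => fs5 (Nat.add (Nat.succ 201185) k)) 247 = true := by decide +kernel
theorem s5c676 : allBelow (fun k => fs5 (Nat.add (Nat.succ 201432) k)) 278 = true := by decide +kernel
theorem s5c677 : allBelow (fun k => fs5 (Nat.add (Nat.succ 201710) k)) 261 = true := by decide +kernel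
theorem s5c678 : allBelow (fun k => fs5 (Nat.add (Nat.succ 201971) k)) 259 = true := by decide +kernel
theorem s5c679 : allBelow (fun k => fs5 (Nat.add (Nat.succ 202230) k)) 262 = true := by decide +kernel
theorem s5c680 : allBelow (fun k => fs5 (Nat.add (Nat.succ 202492) k)) 266 = true := by decide +kernel
theorem s5c681 : allBelow (fun k => fs5 (Nat.add (Nat.succ 202758) k)) 255 = true := by decide +kernel
theorem s5c682 : allBelow (fun k => fs5 (Nat.add (Nat.succ 203013) k)) 269 = true := by decide +kernel
theorem s5c683 : allBelow (fun k => fs5 (Nat.add (Nat.succ 203282) k)) 275 = true := by decide +kernel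
theorem s5c684 : allBelow (fun k => fs5 (Nat.add (Nat.succ 203557) k)) 278 = true := by decide +kernel
theorem s5c685 : allBelow (fun k => fs5 (Nat.add (Nat.succ 203835) k)) 284 = true := by decide +kernel
theorem s5c686 : allBelow (fun k => fs5 (Nat.add (Nat.succ 204119) k)) 263 = true := by decide +kernel
theorem s5c687 : allBelow (fun k => fs5 (Nat.add (Nat.succ 204382) k)) 257 = true := by decide +kernel
theorem s5c688 : allBelow (fun k => fs5 (Nat.add (Nat.succ 204639) k)) 274 = true := by decide +kernel
theorem s5c689 : allBelow (fun k => fs5 (Nat.add (Nat.succ 204913) k)) 287 = true := by decide +kernel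
theorem s5c690 : allBelow (fun k => fs5 (Nat.add (Nat.succ 205200) k)) 287 = true := by decide +kernel
theorem s5c691 : allBelow (fun k => fs5 (Nat.add (Nat.succ 205487) k)) 274 = true := by decide +kernel
theorem s5c692 : allBelow (fun k => fs5 (Nat.add (Nat.succ 205761) k)) 275 = true := by decide +kernel
theorem s5c693 : allBelow (fun k => fs5 (Nat.add (Nat.succ 206036) k)) 270 = true := by decide +kernel
theorem s5c694 : allBelow (fun k => fs5 (Nat.add (Nat.succ 206306) k)) 262 = true := by decide +kernel
theorem s5c695 : allBelow (fun k => fs5 (Nat.add (Nat.succ 206568) k)) 284 = true := by decide +kernel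
theorem s5c696 : allBelow (fun k => fs5 (Nat.add (Nat.succ 206852) k)) 290 = true := by decide +kernel
theorem s5c697 : allBelow (fun k => fs5 (Nat.add (Nat.succ 207142) k)) 293 = true := by decide +kernel
theorem s5c698 : allBelow (fun k => fs5 (Nat.add (Nat.succ 207435) k)) 266 = true := by decide +kernel
theorem s5c699 : allBelow (fun k => fs5 (Nat.add (Nat.succ 207701) k)) 272 = true := by decide +kernel
theorem s5c700 : allBelow (fun k => fs5 (Nat.add (Nat.succ 207973) k)) 272 = true := by decide +kernel
theorem s5c701 : allBelow (fun k => fs5 (Nat.add (Nat.succ 208245) k)) 270 = true := by decide +kernel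
theorem s5c702 : allBelow (fun k => fs5 (Nat.add (Nat.succ 208515) k)) 277 = true := by decide +kernel
theorem s5c703 : allBelow (fun k => fs5 (Nat.add (Nat.succ 208792) k)) 285 = true := by decide +kernel
theorem s5c704 : allBelow (fun k => fs5 (Nat.add (Nat.succ 209077) k)) 292 = true := by decide +kernel

end Cfsg.Agent.Lib.Helper35.Fi24a
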