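import Cfsg.Agent.Lib.Helper35.Fi24a.Data

set_option Elab.async false

namespace Cfsg.Agent.Lib.Helper35.Fi24a

open Cfsg.Agent.Lib.Helper35

theorem s8c115 : allBelow (fun k => fs8 (Nat.add (Nat.succ 34783) k)) 283 = true := by decide +kernel
theorem s8c116 : allBelow (fun k => fs8 (Nat.add (Nat.succ 35066) k)) 279 = true := by decide +kernel
theorem s8c117 : allBelow (fun k => fs8 (Nat.add (Nat.succ 35345) k)) 279 = true := by decide +kernel
theorem s8c118 : allBelow (fun k => fs8 (Nat.add (Nat.succ 35624) k)) 303 = true := by decide +kernel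
theorem s8c119 : allBelow (fun k => fs8 (Nat.add (Nat.succ 35927) k)) 320 = true := by decide +kernel
theorem s8c120 : allBelow (fun k => fs8 (Nat.add (Nat.succ 36247) k)) 300 = true := by decide +kernel
theorem s8c121 : allBelow (fun k => fs8 (Nat.add (Nat.succ 36547) k)) 304 = true := by decide +kernel
theorem s8c122 : allBelow (fun k => fs8 (Nat.add (Nat.succ 36851) k)) 344 = true := by decide +kernel
theorem s8c123 : allBelow (fun k => fs8 (Nat.add (Nat.succ 37195) k)) 311 = true := by decide +kernel
theorem s8c124 : allBelow (fun k => fs8 (Nat.add (Nat.succ 37506) k)) 288 = true := by decide +kernel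
theorem s8c125 : allBelow (fun k => fs8 (Nat.add (Nat.succ 37794) k)) 394 = true := by decide +kernel
theorem s8c126 : allBelow (fun k => fs8 (Nat.add (Nat.succ 38188) k)) 385 = true := by decide +kernel
theorem s8c127 : allBelow (fun k => fs8 (Nat.add (Nat.succ 38573) k)) 387 = true := by decide +kernel
theorem s8c128 : allBelow (fun k => fs8 (Nat.add (Nat.succ 38960) k)) 416 = true := by decide +kernel
theorem s8c129 : allBelow (fun k => fs8 (Nat.add (Nat.succ 39376) k)) 296 = true := by decide +kernel
theorem s8c130 : allBelow (fun k => fs8 (Nat.add (Nat.succ 39672) k)) 283 = true := by decide +kernel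
theorem s8c131 : allBelow (fun k => fs8 (Nat.add (Nat.succ 39955) k)) 322 = true := by decide +kernel
theorem s8c132 : allBelow (fun k => fs8 (Nat.add (Nat.succ 40277) k)) 333 = true := by decide +kernel
theorem s8c133 : allBelow (fun k => fs8 (Nat.add (Nat.succ 40610) k)) 353 = true := by decide +kernel
theorem s8c134 : allBelow (fun k => fs8 (Nat.add (Nat.succ 40963) k)) 375 = true := by decide +kernel
theorem s8c135 : allBelow (fun k => fs8 (Nat.add (Nat.succ 41338) k)) 413 = true := by decide +kernel
theorem s8c136 : allBelow (fun k => fs8 (Nat.add (Nat.succ 41751) k)) 293 = true := by decide +kernel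
theorem s8c137 : allBelow (fun k => fs8 (Nat.add (Nat.succ 42044) k)) 282 = true := by decide +kernel
theorem s8c138 : allBelow (fun k => fs8 (Nat.add (Nat.succ 42326) k)) 285 = true := by decide +kernel
theorem s8c139 : allBelow (fun k => fs8 (Nat.add (Nat.succ 42611) k)) 280 = true := by decide +kernel
theorem s8c140 : allBelow (fun k => fs8 (Nat.add (Nat.succ 42891) k)) 284 = true := by decide +kernel
theorem s8c141 : allBelow (fun k => fs8 (Nat.add (Nat.succ 43175) k)) 345 = true := by decide +kernel
theorem s8c142 : allBelow (fun k => fs8 (Nat.add (Nat.succ 43520) k)) 325 = true := by decide +kernel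
theorem s8c143 : allBelow (fun k => fs8 (Nat.add (Nat.succ 43845) k)) 313 = true := by decide +kernel
theorem s8c144 : allBelow (fun k => fs8 (Nat.add (Nat.succ 44158) k)) 326 = true := by decide +kernel
theorem s8c145 : allBelow (fun k => fs8 (Nat.add (Nat.succ 44484) k)) 316 = true := by decide +kernel
theorem s8c146 : allBelow (fun k => fs8 (Nat.add (Nat.succ 44800) k)) 302 = true := by decide +kernel
theorem s8c147 : allBelow (fun k => fs8 (Nat.add (Nat.succ 45102) k)) 395 = true := by decide +kernel
theorem s8c148 : allBelow (fun k => fs8 (Nat.add (Nat.succ 45497) k)) 424 = true := by decide +kernel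
theorem s8c149 : allBelow (fun k => fs8 (Nat.add (Nat.succ 45921) k)) 306 = true := by decide +kernel
theorem s8c150 : allBelow (fun k => fs8 (Nat.add (Nat.succ 46227) k)) 288 = true := by decide +kernel
theorem s8c151 : allBelow (fun k => fs8 (Nat.add (Nat.succ 46515) k)) 294 = true := by decide +kernel
theorem s8c152 : allBelow (fun k => fs8 (Nat.add (Nat.succ 46809) k)) 283 = true := by decide +kernel
theorem s8c153 : allBelow (fun k => fs8 (Nat.add (Nat.succ 47092) k)) 292 = true := by decide +kernel
theorem s8c154 : allBelow (fun k => fs8 (Nat.add (Nat.succ 47384) k)) 274 = true := by decide +kernel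
theorem s8c155 : allBelow (fun k => fs8 (Nat.add (Nat.succ 47658) k)) 285 = true := by decide +kernel
theorem s8c156 : allBelow (fun k => fs8 (Nat.add (Nat.succ 47943) k)) 279 = true := by decide +kernel
theorem s8c157 : allBelow (fun k => fs8 (Nat.add (Nat.succ 48222) k)) 301 = true := by decide +kernel
theorem s8c158 : allBelow (fun k => fs8 (Nat.add (Nat.succ 48523) k)) 326 = true := by decide +kernel
theorem s8c159 : allBelow (fun k => fs8 (Nat.add (Nat.succ 48849) k)) 311 = true := by decide +kernel
theorem s8c160 : allBelow (fun k => fs8 (Nat.add (Nat.succ 49160) k)) 316 = true := by decide +kernel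
theorem s8c161 : allBelow (fun k => fs8 (Nat.add (Nat.succ 49476) k)) 312 = true := by decide +kernel
theorem s8c162 : allBelow (fun k => fs8 (Nat.add (Nat.succ 49788) k)) 357 = true := by decide +kernel
theorem s8c163 : allBelow (fun k => fs8 (Nat.add (Nat.succ 50145) k)) 341 = true := by decide +kernel
theorem s8c164 : allBelow (fun k => fs8 (Nat.add (Nat.succ 50486) k)) 327 = true := by decide +kernel
theorem s8c165 : allBelow (fun k => fs8 (Nat.add (Nat.succ 50813) k)) 306 = true := by decide +kernel
theorem s8c166 : allBelow (fun k => fs8 (Nat.add (Nat.succ 51119) k)) 341 = true := by decide +kernel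
theorem s8c167 : allBelow (fun k => fs8 (Nat.add (Nat.succ 51460) k)) 420 = true := by decide +kernel
theorem s8c168 : allBelow (fun k => fs8 (Nat.add (Nat.succ 51880) k)) 399 = true := by decide +kernel
theorem s8c169 : allBelow (fun k => fs8 (Nat.add (Nat.succ 52279) k)) 400 = true := by decide +kernel
theorem s8c170 : allBelow (fun k => fs8 (Nat.add (Nat.succ 52679) k)) 471 = true := by decide +kernel
theorem s8c171 : allBelow (fun k => fs8 (Nat.add (Nat.succ 53150) k)) 283 = true := by decide +kernel
theorem s8c172 : allBelow (fun k => fs8 (Nat.add (Nat.succ 53433) k)) 308 = true := by decide +kernel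
theorem s8c173 : allBelow (fun k => fs8 (Nat.add (Nat.succ 53741) k)) 307 = true := by decide +kernel
theorem s8c174 : allBelow (fun k => fs8 (Nat.add (Nat.succ 54048) k)) 322 = true := by decide +kernel
theorem s8c175 : allBelow (fun k => fs8 (Nat.add (Nat.succ 54370) k)) 347 = true := by decide +kernel
theorem s8c176 : allBelow (fun k => fs8 (Nat.add (Nat.succ 54717) k)) 384 = true := by decide +kernel
theorem s8c177 : allBelow (fun k => fs8 (Nat.add (Nat.succ 55101) k)) 378 = true := by decide +kernel
theorem s8c178 : allBelow (fun k => fs8 (Nat.add (Nat.succ 55479) k)) 388 = true := by decide +kernel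
theorem s8c179 : allBelow (fun k => fs8 (Nat.add (Nat.succ 55867) k)) 448 = true := by decide +kernel
theorem s8c180 : allBelow (fun k => fs8 (Nat.add (Nat.succ 56315) k)) 278 = true := by decide +kernel
theorem s8c181 : allBelow (fun k => fs8 (Nat.add (Nat.succ 56593) k)) 297 = true := by decide +kernel
theorem s8c182 : allBelow (fun k => fs8 (Nat.add (Nat.succ 56890) k)) 265 = true := by decide +kernel
theorem s8c183 : allBelow (fun k => fs8 (Nat.add (Nat.succ 57155) k)) 310 = true := by decide +kernel
theorem s8c184 : allBelow (fun k => fs8 (Nat.add (Nat.succ 57465) k)) 277 = true := by decide +kernel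
theorem s8c185 : allBelow (fun k => fs8 (Nat.add (Nat.succ 57742) k)) 292 = true := by decide +kernel
theorem s8c186 : allBelow (fun k => fs8 (Nat.add (Nat.succ 58034) k)) 282 = true := by decide +kernel
theorem s8c187 : allBelow (fun k => fs8 (Nat.add (Nat.succ 58316) k)) 324 = true := by decide +kernel
theorem s8c188 : allBelow (fun k => fs8 (Nat.add (Nat.succ 58640) k)) 345 = true := by decide +kernel
theorem s8c189 : allBelow (fun k => fs8 (Nat.add (Nat.succ 58985) k)) 340 = true := by decide +kernel
theorem s8c190 : allBelow (fun k => fs8 (Nat.add (Nat.succ 59325) k)) 331 = true := by decide +kernel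
theorem s8c191 : allBelow (fun k => fs8 (Nat.add (Nat.succ 59656) k)) 375 = true := by decide +kernel
theorem s8c192 : allBelow (fun k => fs8 (Nat.add (Nat.succ 60031) k)) 286 = true := by decide +kernel
theorem s8c193 : allBelow (fun k => fs8 (Nat.add (Nat.succ 60317) k)) 339 = true := by decide +kernel
theorem s8c194 : allBelow (fun k => fs8 (Nat.add (Nat.succ 60656) k)) 321 = true := by decide +kernel
theorem s8c195 : allBelow (fun k => fs8 (Nat.add (Nat.succ 60977) k)) 402 = true := by decide +kernel
theorem s8c196 : allBelow (fun k => fs8 (Nat.add (Nat.succ 61379) k)) 437 = true := by decide +kernel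
theorem s8c197 : allBelow (fun k => fs8 (Nat.add (Nat.succ 61816) k)) 351 = true := by decide +kernel
theorem s8c198 : allBelow (fun k => fs8 (Nat.add (Nat.succ 62167) k)) 310 = true := by decide +kernel
theorem s8c199 : allBelow (fun k => fs8 (Nat.add (Nat.succ 62477) k)) 283 = true := by decide +kernel
theorem s8c200 : allBelow (fun k => fs8 (Nat.add (Nat.succ 62760) k)) 312 = true := by decide +kernel
theorem s8c201 : allBelow (fun k => fs8 (Nat.add (Nat.succ 63072) k)) 270 = true := by decide +kernel
theorem s8c202 : allBelow (fun k => fs8 (Nat.add (Nat.succ 63342) k)) 270 = true := by decide +kernel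
theorem s8c203 : allBelow (fun k => fs8 (Nat.add (Nat.succ 63612) k)) 304 = true := by decide +kernel
theorem s8c204 : allBelow (fun k => fs8 (Nat.add (Nat.succ 63916) k)) 305 = true := by decide +kernel
theorem s8c205 : allBelow (fun k => fs8 (Nat.add (Nat.succ 64221) k)) 275 = true := by decide +kernel
theorem s8c206 : allBelow (fun k => fs8 (Nat.add (Nat.succ 64496) k)) 281 = true := by decide +kernel
theorem s8c207 : allBelow (fun k => fs8 (Nat.add (Nat.succ 64777) k)) 293 = true := by decide +kernel
theorem s8c208 : allBelow (fun k => fs8 (Nat.add (Nat.succ 65070) k)) 288 = true := by decide +kernel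
theorem s8c209 : allBelow (fun k => fs8 (Nat.add (Nat.succ 65358) k)) 294 = true := by decide +kernel
theorem s8c210 : allBelow (fun k => fs8 (Nat.add (Nat.succ 65652) k)) 338 = true := by decide +kernel
theorem s8c211 : allBelow (fun k => fs8 (Nat.add (Nat.succ 65990) k)) 328 = true := by decide +kernel
theorem s8c212 : allBelow (fun k => fs8 (Nat.add (Nat.succ 66318) k)) 317 = true := by decide +kernel
theorem s8c213 : allBelow (fun k => fs8 (Nat.add (Nat.succ 66635) k)) 325 = true := by decide +kernel
theorem s8c214 : allBelow (fun k => fs8 (Nat.add (Nat.succ 66960) k)) 321 = true := by decide +kernel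
theorem s8c215 : allBelow (fun k => fs8 (Nat.add (Nat.succ 67281) k)) 378 = true := by decide +kernel
theorem s8c216 : allBelow (fun k => fs8 (Nat.add (Nat.succ 67659) k)) 404 = true := by decide +kernel
theorem s8c217 : allBelow (fun k => fs8 (Nat.add (Nat.succ 68063) k)) 356 = true := by decide +kernel
theorem s8c218 : allBelow (fun k => fs8 (Nat.add (Nat.succ 68419) k)) 306 = true := by decide +kernel
theorem s8c219 : allBelow (fun k => fs8 (Nat.add (Nat.succ 68725) k)) 337 = true := by decide +kernel
theorem s8c220 : allBelow (fun k => fs8 (Nat.add (Nat.succ 69062) k)) 324 = true := by decide +kernel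
theorem s8c221 : allBelow (fun k => fs8 (Nat.add (Nat.succ 69386) k)) 414 = true := by decide +kernel
theorem s8c222 : allBelow (fun k => fs8 (Nat.add (Nat.succ 69800) k)) 412 = true := by decide +kernel
theorem s8c223 : allBelow (fun k => fs8 (Nat.add (Nat.succ 70212) k)) 410 = true := by decide +kernel
theorem s8c224 : allBelow (fun k => fs8 (Nat.add (Nat.succ 70622) k)) 442 = true := by decide +kernel
theorem s8c225 : allBelow (fun k => fs8 (Nat.add (Nat.succ 71064) k)) 436 = true := by decide +kernel
theorem s8c226 : allBelow (fun k => fs8 (Nat.add (Nat.succ 71500) k)) 278 = true := by decide +kernel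
theorem s8c227 : allBelow (fun k => fs8 (Nat.add (Nat.succ 71778) k)) 329 = true := by decide +kernel
theorem s8c228 : allBelow (fun k => fs8 (Nat.add (Nat.succ 72107) k)) 310 = true := by decide +kernel
theorem s8c229 : allBelow (fun k => fs8 (Nat.add (Nat.succ 72417) k)) 317 = true := by decide +kernel
theorem s8c230 : allBelow (fun k => fs8 (Nat.add (Nat.succ 72734) k)) 335 = true := by decide +kernel
theorem s8c231 : allBelow (fun k => fs8 (Nat.add (Nat.succ 73069) k)) 373 = true := by decide +kernel
theorem s8c232 : allBelow (fun k => fs8 (Nat.add (Nat.succ 73442) k)) 417 = true := by decide +kernel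
theorem s8c233 : allBelow (fun k => fs8 (Nat.add (Nat.succ 73859) k)) 374 = true := by decide +kernel
theorem s8c234 : allBelow (fun k => fs8 (Nat.add (Nat.succ 74233) k)) 395 = true := by decide +kernel
theorem s8c235 : allBelow (fun k => fs8 (Nat.add (Nat.succ 74628) k)) 468 = true := by decide +kernel
theorem s8c236 : allBelow (fun k => fs8 (Nat.add (Nat.succ 75096) k)) 391 = true := by decide +kernel
theorem s8c237 : allBelow (fun k => fs8 (Nat.add (Nat.succ 75487) k)) 274 = true := by decide +kernel
theorem s8c238 : allBelow (fun k => fs8 (Nat.add (Nat.succ 75761) k)) 298 = true := by decide +kernel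
theorem s8c239 : allBelow (fun k => fs8 (Nat.add (Nat.succ 76059) k)) 281 = true := by decide +kernel
theorem s8c240 : allBelow (fun k => fs8 (Nat.add (Nat.succ 76340) k)) 265 = true := by decide +kernel
theorem s8c241 : allBelow (fun k => fs8 (Nat.add (Nat.succ 76605) k)) 317 = true := by decide +kernel
theorem s8c242 : allBelow (fun k => fs8 (Nat.add (Nat.succ 76922) k)) 302 = true := by decide +kernel
theorem s8c243 : allBelow (fun k => fs8 (Nat.add (Nat.succ 77224) k)) 283 = true := by decide +kernel
theorem s8c244 : allBelow (fun k => fs8 (Nat.add (Nat.succ 77507) k)) 293 = true := by decide +kernel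
theorem s8c245 : allBelow (fun k => fs8 (Nat.add (Nat.succ 77800) k)) 299 = true := by decide +kernel
theorem s8c246 : allBelow (fun k => fs8 (Nat.add (Nat.succ 78099) k)) 298 = true := by decide +kernel
theorem s8c247 : allBelow (fun k => fs8 (Nat.add (Nat.succ 78397) k)) 316 = true := by decide +kernel
theorem s8c248 : allBelow (fun k => fs8 (Nat.add (Nat.succ 78713) k)) 378 = true := by decide +kernel
theorem s8c249 : allBelow (fun k => fs8 (Nat.add (Nat.succ 79091) k)) 363 = true := by decide +kernel
theorem s8c250 : allBelow (fun k => fs8 (Nat.add (Nat.succ 79454) k)) 357 = true := by decide +kernel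
theorem s8c251 : allBelow (fun k => fs8 (Nat.add (Nat.succ 79811) k)) 375 = true := by decide +kernel
theorem s8c252 : allBelow (fun k => fs8 (Nat.add (Nat.succ 80186) k)) 344 = true := by decide +kernel
theorem s8c253 : allBelow (fun k => fs8 (Nat.add (Nat.succ 80530) k)) 303 = true := by decide +kernel
theorem s8c254 : allBelow (fun k => fs8 (Nat.add (Nat.succ 80833) k)) 366 = true := by decide +kernel
theorem s8c255 : allBelow (fun k => fs8 (Nat.add (Nat.succ 81199) k)) 344 = true := by decide +kernel
theorem s8c256 : allBelow (fun k => fs8 (Nat.add (Nat.succ 81543) k)) 356 = true := by decide +kernel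
theorem s8c257 : allBelow (fun k => fs8 (Nat.add (Nat.succ 81899) k)) 467 = true := by decide +kernel
theorem s8c258 : allBelow (fun k => fs8 (Nat.add (Nat.succ 82366) k)) 422 = true := by decide +kernel
theorem s8c259 : allBelow (fun k => fs8 (Nat.add (Nat.succ 82788) k)) 291 = true := by decide +kernel
theorem s8c260 : allBelow (fun k => fs8 (Nat.add (Nat.succ 83079) k)) 326 = true := by decide +kernel
theorem s8c261 : allBelow (fun k => fs8 (Nat.add (Nat.succ 83405) k)) 284 = true := by decide +kernel
theorem s8c262 : allBelow (fun k => fs8 (Nat.add (Nat.succ 83689) k)) 287 = true := by decide +kernel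
theorem s8c263 : allBelow (fun k => fs8 (Nat.add (Nat.succ 83976) k)) 328 = true := by decide +kernel
theorem s8c264 : allBelow (fun k => fs8 (Nat.add (Nat.succ 84304) k)) 275 = true := by decide +kernel
theorem s8c265 : allBelow (fun k => fs8 (Nat.add (Nat.succ 84579) k)) 269 = true := by decide +kernel
theorem s8c266 : allBelow (fun k => fs8 (Nat.add (Nat.succ 84848) k)) 278 = true := by decide +kernel
theorem s8c267 : allBelow (fun k => fs8 (Nat.add (Nat.succ 85126) k)) 318 = true := by decide +kernel
theorem s8c268 : allBelow (fun k => fs8 (Nat.add (Nat.succ 85444) k)) 308 = true := by decide +kernel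
theorem s8c269 : allBelow (fun k => fs8 (Nat.add (Nat.succ 85752) k)) 285 = true := by decide +kernel
theorem s8c270 : allBelow (fun k => fs8 (Nat.add (Nat.succ 86037) k)) 280 = true := by decide +kernel
theorem s8c271 : allBelow (fun k => fs8 (Nat.add (Nat.succ 86317) k)) 284 = true := by decide +kernel
theorem s8c272 : allBelow (fun k => fs8 (Nat.add (Nat.succ 86601) k)) 300 = true := by decide +kernel
theorem s8c273 : allBelow (fun k => fs8 (Nat.add (Nat.succ 86901) k)) 297 = true := by decide +kernel
theorem s8c274 : allBelow (fun k => fs8 (Nat.add (Nat.succ 87198) k)) 307 = true := by decide +kernel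
theorem s8c275 : allBelow (fun k => fs8 (Nat.add (Nat.succ 87505) k)) 301 = true := by decide +kernel
theorem s8c276 : allBelow (fun k => fs8 (Nat.add (Nat.succ 87806) k)) 324 = true := by decide +kernel
theorem s8c277 : allBelow (fun k => fs8 (Nat.add (Nat.succ 88130) k)) 354 = true := by decide +kernel
theorem s8c278 : allBelow (fun k => fs8 (Nat.add (Nat.succ 88484) k)) 353 = true := by decide +kernel
theorem s8c279 : allBelow (fun k => fs8 (Nat.add (Nat.succ 88837) k)) 351 = true := by decide +kernel
theorem s8c280 : allBelow (fun k => fs8 (Nat.add (Nat.succ 89188) k)) 345 = true := by decide +kernel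
theorem s8c281 : allBelow (fun k => fs8 (Nat.add (Nat.succ 89533) k)) 328 = true := by decide +kernel
theorem s8c282 : allBelow (fun k => fs8 (Nat.add (Nat.succ 89861) k)) 395 = true := by decide +kernel
theorem s8c283 : allBelow (fun k => fs8 (Nat.add (Nat.succ 90256) k)) 441 = true := by decide +kernel
theorem s8c284 : allBelow (fun k => fs8 (Nat.add (Nat.succ 90697) k)) 369 = true := by decide +kernel
theorem s8c285 : allBelow (fun k => fs8 (Nat.add (Nat.succ 91066) k)) 331 = true := by decide +kernel
theorem s8c286 : allBelow (fun k => fs8 (Nat.add (Nat.succ 91397) k)) 355 = true := by decide +kernel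
theorem s8c287 : allBelow (fun k => fs8 (Nat.add (Nat.succ 91752) k)) 331 = true := by decide +kernel
theorem s8c288 : allBelow (fun k => fs8 (Nat.add (Nat.succ 92083) k)) 342 = true := by decide +kernel
theorem s8c289 : allBelow (fun k => fs8 (Nat.add (Nat.succ 92425) k)) 396 = true := by decide +kernel
theorem s8c290 : allBelow (fun k => fs8 (Nat.add (Nat.succ 92821) k)) 449 = true := by decide +kernel
theorem s8c291 : allBelow (fun k => fs8 (Nat.add (Nat.succ 93270) k)) 432 = true := by decide +kernel
theorem s8c292 : allBelow (fun k => fs8 (Nat.add (Nat.succ 93702) k)) 510 = true := by decide +kernel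
theorem s8c293 : allBelow (fun k => fs8 (Nat.add (Nat.succ 94212) k)) 357 = true := by decide +kernel
theorem s8c294 : allBelow (fun k => fs8 (Nat.add (Nat.succ 94569) k)) 280 = true := by decide +kernel
theorem s8c295 : allBelow (fun k => fs8 (Nat.add (Nat.succ 94849) k)) 323 = true := by decide +kernel
theorem s8c296 : allBelow (fun k => fs8 (Nat.add (Nat.succ 95172) k)) 338 = true := by decide +kernel
theorem s8c297 : allBelow (fun k => fs8 (Nat.add (Nat.succ 95510) k)) 318 = true := by decide +kernel
theorem s8c298 : allBelow (fun k => fs8 (Nat.add (Nat.succ 95828) k)) 328 = true := by decide +kernel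
theorem s8c299 : allBelow (fun k => fs8 (Nat.add (Nat.succ 96156) k)) 352 = true := by decide +kernel
theorem s8c300 : allBelow (fun k => fs8 (Nat.add (Nat.succ 96508) k)) 423 = true := by decide +kernel
theorem s8c301 : allBelow (fun k => fs8 (Nat.add (Nat.succ 96931) k)) 474 = true := by decide +kernel
theorem s8c302 : allBelow (fun k => fs8 (Nat.add (Nat.succ 97405) k)) 355 = true := by decide +kernel
theorem s8c303 : allBelow (fun k => fs8 (Nat.add (Nat.succ 97760) k)) 412 = true := by decide +kernel
theorem s8c304 : allBelow (fun k => fs8 (Nat.add (Nat.succ 98172) k)) 461 = true := by decide +kernel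
theorem s8c305 : allBelow (fun k => fs8 (Nat.add (Nat.succ 98633) k)) 371 = true := by decide +kernel
theorem s8c306 : allBelow (fun k => fs8 (Nat.add (Nat.succ 99004) k)) 279 = true := by decide +kernel
theorem s8c307 : allBelow (fun k => fs8 (Nat.add (Nat.succ 99283) k)) 289 = true := by decide +kernel
theorem s8c308 : allBelow (fun k => fs8 (Nat.add (Nat.succ 99572) k)) 329 = true := by decide +kernel
theorem s8c309 : allBelow (fun k => fs8 (Nat.add (Nat.succ 99901) k)) 277 = true := by decide +kernel
theorem s8c310 : allBelow (fun k => fs8 (Nat.add (Nat.succ 100178) k)) 276 = true := by decide +kernel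
theorem s8c311 : allBelow (fun k => fs8 (Nat.add (Nat.succ 100454) k)) 281 = true := by decide +kernel
theorem s8c312 : allBelow (fun k => fs8 (Nat.add (Nat.succ 100735) k)) 332 = true := by decide +kernel
theorem s8c313 : allBelow (fun k => fs8 (Nat.add (Nat.succ 101067) k)) 327 = true := by decide +kernel
theorem s8c314 : allBelow (fun k => fs8 (Nat.add (Nat.succ 101394) k)) 295 = true := by decide +kernel
theorem s8c315 : allBelow (fun k => fs8 (Nat.add (Nat.succ 101689) k)) 294 = true := by decide +kernel
theorem s8c316 : allBelow (fun k => fs8 (Nat.add (Nat.succ 101983) k)) 303 = true := by decide +kernel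
theorem s8c317 : allBelow (fun k => fs8 (Nat.add (Nat.succ 102286) k)) 306 = true := by decide +kernel
theorem s8c318 : allBelow (fun k => fs8 (Nat.add (Nat.succ 102592) k)) 307 = true := by decide +kernel
theorem s8c319 : allBelow (fun k => fs8 (Nat.add (Nat.succ 102899) k)) 310 = true := by decide +kernel
theorem s8c320 : allBelow (fun k => fs8 (Nat.add (Nat.succ 103209) k)) 406 = true := by decide +kernel
theorem s8c321 : allBelow (fun k => fs8 (Nat.add (Nat.succ 103615) k)) 395 = true := by decide +kernel
theorem s8c322 : allBelow (fun k => fs8 (Nat.add (Nat.succ 104010) k)) 390 = true := by decide +kernel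
theorem s8c323 : allBelow (fun k => fs8 (Nat.add (Nat.succ 104400) k)) 391 = true := by decide +kernel
theorem s8c324 : allBelow (fun k => fs8 (Nat.add (Nat.succ 104791) k)) 406 = true := by decide +kernel
theorem s8c325 : allBelow (fun k => fs8 (Nat.add (Nat.succ 105197) k)) 314 = true := by decide +kernel
theorem s8c326 : allBelow (fun k => fs8 (Nat.add (Nat.succ 105511) k)) 303 = true := by decide +kernel
theorem s8c327 : allBelow (fun k => fs8 (Nat.add (Nat.succ 105814) k)) 402 = true := by decide +kernel
theorem s8c328 : allBelow (fun k => fs8 (Nat.add (Nat.succ 106216) k)) 356 = true := by decide +kernel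
theorem s8c329 : allBelow (fun k => fs8 (Nat.add (Nat.succ 106572) k)) 398 = true := by decide +kernel
theorem s8c330 : allBelow (fun k => fs8 (Nat.add (Nat.succ 106970) k)) 465 = true := by decide +kernel
theorem s8c331 : allBelow (fun k => fs8 (Nat.add (Nat.succ 107435) k)) 340 = true := by decide +kernel
theorem s8c332 : allBelow (fun k => fs8 (Nat.add (Nat.succ 107775) k)) 302 = true := by decide +kernel
theorem s8c333 : allBelow (fun k => fs8 (Nat.add (Nat.succ 108077) k)) 336 = true := by decide +kernel
theorem s8c334 : allBelow (fun k => fs8 (Nat.add (Nat.succ 108413) k)) 282 = true := by decide +kernel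
theorem s8c335 : allBelow (fun k => fs8 (Nat.add (Nat.succ 108695) k)) 292 = true := by decide +kernel
theorem s8c336 : allBelow (fun k => fs8 (Nat.add (Nat.succ 108987) k)) 339 = true := by decide +kernel
theorem s8c337 : allBelow (fun k => fs8 (Nat.add (Nat.succ 109326) k)) 319 = true := by decide +kernel
theorem s8c338 : allBelow (fun k => fs8 (Nat.add (Nat.succ 109645) k)) 284 = true := by decide +kernel
theorem s8c339 : allBelow (fun k => fs8 (Nat.add (Nat.succ 109929) k)) 269 = true := by decide +kernel
theorem s8c340 : allBelow (fun k => fs8 (Nat.add (Nat.succ 110198) k)) 267 = true := by decide +kernel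
theorem s8c341 : allBelow (fun k => fs8 (Nat.add (Nat.succ 110465) k)) 318 = true := by decide +kernel
theorem s8c342 : allBelow (fun k => fs8 (Nat.add (Nat.succ 110783) k)) 328 = true := by decide +kernel
theorem s8c343 : allBelow (fun k => fs8 (Nat.add (Nat.succ 111111) k)) 293 = true := by decide +kernel
theorem s8c344 : allBelow (fun k => fs8 (Nat.add (Nat.succ 111404) k)) 330 = true := by decide +kernel
theorem s8c345 : allBelow (fun k => fs8 (Nat.add (Nat.succ 111734) k)) 291 = true := by decide +kernel
theorem s8c346 : allBelow (fun k => fs8 (Nat.add (Nat.succ 112025) k)) 287 = true := by decide +kernel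
theorem s8c347 : allBelow (fun k => fs8 (Nat.add (Nat.succ 112312) k)) 299 = true := by decide +kernel
theorem s8c348 : allBelow (fun k => fs8 (Nat.add (Nat.succ 112611) k)) 291 = true := by decide +kernel
theorem s8c349 : allBelow (fun k => fs8 (Nat.add (Nat.succ 112902) k)) 312 = true := by decide +kernel
theorem s8c350 : allBelow (fun k => fs8 (Nat.add (Nat.succ 113214) k)) 297 = true := by decide +kernel
theorem s8c351 : allBelow (fun k => fs8 (Nat.add (Nat.succ 113511) k)) 356 = true := by decide +kernel
theorem s8c352 : allBelow (fun k => fs8 (Nat.add (Nat.succ 113867) k)) 287 = true := by decide +kernel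
theorem s8c353 : allBelow (fun k => fs8 (Nat.add (Nat.succ 114154) k)) 319 = true := by decide +kernel
theorem s8c354 : allBelow (fun k => fs8 (Nat.add (Nat.succ 114473) k)) 404 = true := by decide +kernel
theorem s8c355 : allBelow (fun k => fs8 (Nat.add (Nat.succ 114877) k)) 380 = true := by decide +kernel
theorem s8c356 : allBelow (fun k => fs8 (Nat.add (Nat.succ 115257) k)) 349 = true := by decide +kernel
theorem s8c357 : allBelow (fun k => fs8 (Nat.add (Nat.succ 115606) k)) 368 = true := by decide +kernel
theorem s8c358 : allBelow (fun k => fs8 (Nat.add (Nat.succ 115974) k)) 375 = true := by decide +kernel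
theorem s8c359 : allBelow (fun k => fs8 (Nat.add (Nat.succ 116349) k)) 342 = true := by decide +kernel
theorem s8c360 : allBelow (fun k => fs8 (Nat.add (Nat.succ 116691) k)) 413 = true := by decide +kernel
theorem s8c361 : allBelow (fun k => fs8 (Nat.add (Nat.succ 117104) k)) 465 = true := by decide +kernel
theorem s8c362 : allBelow (fun k => fs8 (Nat.add (Nat.succ 117569) k)) 376 = true := by decide +kernel
theorem s8c363 : allBelow (fun k => fs8 (Nat.add (Nat.succ 117945) k)) 303 = true := by decide +kernel
theorem s8c364 : allBelow (fun k => fs8 (Nat.add (Nat.succ 118248) k)) 384 = true := by decide +kernel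
theorem s8c365 : allBelow (fun k => fs8 (Nat.add (Nat.succ 118632) k)) 321 = true := by decide +kernel
theorem s8c366 : allBelow (fun k => fs8 (Nat.add (Nat.succ 118953) k)) 371 = true := by decide +kernel
theorem s8c367 : allBelow (fun k => fs8 (Nat.add (Nat.succ 119324) k)) 471 = true := by decide +kernel
theorem s8c368 : allBelow (fun k => fs8 (Nat.add (Nat.succ 119795) k)) 479 = true := by decide +kernel
theorem s8c369 : allBelow (fun k => fs8 (Nat.add (Nat.succ 120274) k)) 415 = true := by decide +kernel
theorem s8c370 : allBelow (fun k => fs8 (Nat.add (Nat.succ 120689) k)) 290 = true := by decide +kernel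
theorem s8c371 : allBelow (fun k => fs8 (Nat.add (Nat.succ 120979) k)) 276 = true := by decide +kernel
theorem s8c372 : allBelow (fun k => fs8 (Nat.add (Nat.succ 121255) k)) 363 = true := by decide +kernel
theorem s8c373 : allBelow (fun k => fs8 (Nat.add (Nat.succ 121618) k)) 360 = true := by decide +kernel
theorem s8c374 : allBelow (fun k => fs8 (Nat.add (Nat.succ 121978) k)) 323 = true := by decide +kernel
theorem s8c375 : allBelow (fun k => fs8 (Nat.add (Nat.succ 122301) k)) 356 = true := by decide +kernel
theorem s8c376 : allBelow (fun k => fs8 (Nat.add (Nat.succ 122657) k)) 328 = true := by decide +kernel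
theorem s8c377 : allBelow (fun k => fs8 (Nat.add (Nat.succ 122985) k)) 499 = true := by decide +kernel
theorem s8c378 : allBelow (fun k => fs8 (Nat.add (Nat.succ 123484) k)) 443 = true := by decide +kernel
theorem s8c379 : allBelow (fun k => fs8 (Nat.add (Nat.succ 123927) k)) 401 = true := by decide +kernel
theorem s8c380 : allBelow (fun k => fs8 (Nat.add (Nat.succ 124328) k)) 417 = true := by decide +kernel
theorem s8c381 : allBelow (fun k => fs8 (Nat.add (Nat.succ 124745) k)) 266 = true := by decide +kernel
theorem s8c382 : allBelow (fun k => fs8 (Nat.add (Nat.succ 125011) k)) 266 = true := by decide +kernel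
theorem s8c383 : allBelow (fun k => fs8 (Nat.add (Nat.succ 125277) k)) 272 = true := by decide +kernel
theorem s8c384 : allBelow (fun k => fs8 (Nat.add (Nat.succ 125549) k)) 255 = true := by decide +kernel
theorem s8c385 : allBelow (fun k => fs8 (Nat.add (Nat.succ 125804) k)) 260 = true := by decide +kernel
theorem s8c386 : allBelow (fun k => fs8 (Nat.add (Nat.succ 126064) k)) 258 = true := by decide +kernel
theorem s8c387 : allBelow (fun k => fs8 (Nat.add (Nat.succ 126322) k)) 258 = true := by decide +kernel
theorem s8c388 : allBelow (fun k => fs8 (Nat.add (Nat.succ 126580) k)) 252 = true := by decide +kernel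
theorem s8c389 : allBelow (fun k => fs8 (Nat.add (Nat.succ 126832) k)) 265 = true := by decide +kernel
theorem s8c390 : allBelow (fun k => fs8 (Nat.add (Nat.succ 127097) k)) 268 = true := by decide +kernel
theorem s8c391 : allBelow (fun k => fs8 (Nat.add (Nat.succ 127365) k)) 277 = true := by decide +kernel
theorem s8c392 : allBelow (fun k => fs8 (Nat.add (Nat.succ 127642) k)) 268 = true := by decide +kernel
theorem s8c393 : allBelow (fun k => fs8 (Nat.add (Nat.succ 127910) k)) 273 = true := by decide +kernel
theorem s8c394 : allBelow (fun k => fs8 (Nat.add (Nat.succ 128183) k)) 285 = true := by decide +kernel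
theorem s8c395 : allBelow (fun k => fs8 (Nat.add (Nat.succ 128468) k)) 270 = true := by decide +kernel
theorem s8c396 : allBelow (fun k => fs8 (Nat.add (Nat.succ 128738) k)) 253 = true := by decide +kernel
theorem s8c397 : allBelow (fun k => fs8 (Nat.add (Nat.succ 128991) k)) 252 = true := by decide +kernel
theorem s8c398 : allBelow (fun k => fs8 (Nat.add (Nat.succ 129243) k)) 256 = true := by decide +kernel
theorem s8c399 : allBelow (fun k => fs8 (Nat.add (Nat.succ 129499) k)) 250 = true := by decide +kernel
theorem s8c400 : allBelow (fun k => fs8 (Nat.add (Nat.succ 129749) k)) 254 = true := by decide +kernel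
theorem s8c401 : allBelow (fun k => fs8 (Nat.add (Nat.succ 130003) k)) 264 = true := by decide +kernel
theorem s8c402 : allBelow (fun k => fs8 (Nat.add (Nat.succ 130267) k)) 264 = true := by decide +kernel
theorem s8c403 : allBelow (fun k => fs8 (Nat.add (Nat.succ 130531) k)) 283 = true := by decide +kernel
theorem s8c404 : allBelow (fun k => fs8 (Nat.add (Nat.succ 130814) k)) 269 = true := by decide +kernel
theorem s8c405 : allBelow (fun k => fs8 (Nat.add (Nat.succ 131083) k)) 282 = true := by decide +kernel
theorem s8c406 : allBelow (fun k => fs8 (Nat.add (Nat.succ 131365) k)) 280 = true := by decide +kernel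
theorem s8c407 : allBelow (fun k => fs8 (Nat.add (Nat.succ 131645) k)) 275 = true := by decide +kernel
theorem s8c408 : allBelow (fun k => fs8 (Nat.add (Nat.succ 131920) k)) 257 = true := by decide +kernel
theorem s8c409 : allBelow (fun k => fs8 (Nat.add (Nat.succ 132177) k)) 259 = true := by decide +kernel
theorem s8c410 : allBelow (fun k => fs8 (Nat.add (Nat.succ 132436) k)) 257 = true := by decide +kernel
theorem s8c411 : allBelow (fun k => fs8 (Nat.add (Nat.succ 132693) k)) 260 = true := by decide +kernel
theorem s8c412 : allBelow (fun k => fs8 (Nat.add (Nat.succ 132953) k)) 263 = true := by decide +kernel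
theorem s8c413 : allBelow (fun k => fs8 (Nat.add (Nat.succ 133216) k)) 250 = true := by decide +kernel
theorem s8c414 : allBelow (fun k => fs8 (Nat.add (Nat.succ 133466) k)) 259 = true := by decide +kernel
theorem s8c415 : allBelow (fun k => fs8 (Nat.add (Nat.succ 133725) k)) 273 = true := by decide +kernel
theorem s8c416 : allBelow (fun k => fs8 (Nat.add (Nat.succ 133998) k)) 273 = true := by decide +kernel
theorem s8c417 : allBelow (fun k => fs8 (Nat.add (Nat.succ 134271) k)) 273 = true := by decide +kernel
theorem s8c418 : allBelow (fun k => fs8 (Nat.add (Nat.succ 134544) k)) 282 = true := by decide +kernel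
theorem s8c419 : allBelow (fun k => fs8 (Nat.add (Nat.succ 134826) k)) 278 = true := by decide +kernel
theorem s8c420 : allBelow (fun k => fs8 (Nat.add (Nat.succ 135104) k)) 272 = true := by decide +kernel
theorem s8c421 : allBelow (fun k => fs8 (Nat.add (Nat.succ 135376) k)) 279 = true := by decide +kernel
theorem s8c422 : allBelow (fun k => fs8 (Nat.add (Nat.succ 135655) k)) 277 = true := by decide +kernel
theorem s8c423 : allBelow (fun k => fs8 (Nat.add (Nat.succ 135932) k)) 284 = true := by decide +kernel
theorem s8c424 : allBelow (fun k => fs8 (Nat.add (Nat.succ 136216) k)) 293 = true := by decide +kernel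
theorem s8c425 : allBelow (fun k => fs8 (Nat.add (Nat.succ 136509) k)) 266 = true := by decide +kernel
theorem s8c426 : allBelow (fun k => fs8 (Nat.add (Nat.succ 136775) k)) 255 = true := by decide +kernel
theorem s8c427 : allBelow (fun k => fs8 (Nat.add (Nat.succ 137030) k)) 254 = true := by decide +kernel
theorem s8c428 : allBelow (fun k => fs8 (Nat.add (Nat.succ 137284) k)) 253 = true := by decide +kernel
theorem s8c429 : allBelow (fun k => fs8 (Nat.add (Nat.succ 137537) k)) 259 = true := by decide +kernel
theorem s8c430 : allBelow (fun k => fs8 (Nat.add (Nat.succ 137796) k)) 265 = true := by decide +kernel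
theorem s8c431 : allBelow (fun k => fs8 (Nat.add (Nat.succ 138061) k)) 284 = true := by decide +kernel
theorem s8c432 : allBelow (fun k => fs8 (Nat.add (Nat.succ 138345) k)) 270 = true := by decide +kernel
theorem s8c433 : allBelow (fun k => fs8 (Nat.add (Nat.succ 138615) k)) 281 = true := by decide +kernel

end Cfsg.Agent.Lib.Helper35.Fi24a
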