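import Cfsg.Agent.Lib.Helper35.Fi24a.Data

set_option Elab.async false

namespace Cfsg.Agent.Lib.Helper35.Fi24a

open Cfsg.Agent.Lib.Helper35

theorem s10c1079 : allBelow (fun k => fs10 (Nat.add (Nat.succ 321101) k)) 238 = true := by decide +kernel
theorem s10c1080 : allBelow (fun k => fs10 (Nat.add (Nat.succ 321339) k)) 245 = true := by decide +kernel
theorem s10c1081 : allBelow (fun k => fs10 (Nat.add (Nat.succ 321584) k)) 243 = true := by decide +kernel
theorem s10c1082 : allBelow (fun k => fs10 (Nat.add (Nat.succ 321827) k)) 244 = true := by decide +kernel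
theorem s10c1083 : allBelow (fun k => fs10 (Nat.add (Nat.succ 322071) k)) 245 = true := by decide +kernel
theorem s10c1084 : allBelow (fun k => fs10 (Nat.add (Nat.succ 322316) k)) 261 = true := by decide +kernel
theorem s10c1085 : allBelow (fun k => fs10 (Nat.add (Nat.succ 322577) k)) 257 = true := by decide +kernel
theorem s10c1086 : allBelow (fun k => fs10 (Nat.add (Nat.succ 322834) k)) 256 = true := by decide +kernel
theorem s10c1087 : allBelow (fun k => fs10 (Nat.add (Nat.succ 323090) k)) 252 = true := by decide +kernel
theorem s10c1088 : allBelow (fun k => fs10 (Nat.add (Nat.succ 323342) k)) 246 = true := by decide +kernel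
theorem s10c1089 : allBelow (fun k => fs10 (Nat.add (Nat.succ 323588) k)) 255 = true := by decide +kernel
theorem s10c1090 : allBelow (fun k => fs10 (Nat.add (Nat.succ 323843) k)) 255 = true := by decide +kernel
theorem s10c1091 : allBelow (fun k => fs10 (Nat.add (Nat.succ 324098) k)) 256 = true := by decide +kernel
theorem s10c1092 : allBelow (fun k => fs10 (Nat.add (Nat.succ 324354) k)) 252 = true := by decide +kernel
theorem s10c1093 : allBelow (fun k => fs10 (Nat.add (Nat.succ 324606) k)) 238 = true := by decide +kernel
theorem s10c1094 : allBelow (fun k => fs10 (Nat.add (Nat.succ 324844) k)) 246 = true := by decide +kernel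
theorem s10c1095 : allBelow (fun k => fs10 (Nat.add (Nat.succ 325090) k)) 249 = true := by decide +kernel
theorem s10c1096 : allBelow (fun k => fs10 (Nat.add (Nat.succ 325339) k)) 263 = true := by decide +kernel
theorem s10c1097 : allBelow (fun k => fs10 (Nat.add (Nat.succ 325602) k)) 245 = true := by decide +kernel
theorem s10c1098 : allBelow (fun k => fs10 (Nat.add (Nat.succ 325847) k)) 242 = true := by decide +kernel
theorem s10c1099 : allBelow (fun k => fs10 (Nat.add (Nat.succ 326089) k)) 253 = true := by decide +kernel
theorem s10c1100 : allBelow (fun k => fs10 (Nat.add (Nat.succ 326342) k)) 248 = true := by decide +kernel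
theorem s10c1101 : allBelow (fun k => fs10 (Nat.add (Nat.succ 326590) k)) 272 = true := by decide +kernel
theorem s10c1102 : allBelow (fun k => fs10 (Nat.add (Nat.succ 326862) k)) 246 = true := by decide +kernel
theorem s10c1103 : allBelow (fun k => fs10 (Nat.add (Nat.succ 327108) k)) 260 = true := by decide +kernel
theorem s10c1104 : allBelow (fun k => fs10 (Nat.add (Nat.succ 327368) k)) 257 = true := by decide +kernel
theorem s10c1105 : allBelow (fun k => fs10 (Nat.add (Nat.succ 327625) k)) 250 = true := by decide +kernel
theorem s10c1106 : allBelow (fun k => fs10 (Nat.add (Nat.succ 327875) k)) 265 = true := by decide +kernel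
theorem s10c1107 : allBelow (fun k => fs10 (Nat.add (Nat.succ 328140) k)) 263 = true := by decide +kernel
theorem s10c1108 : allBelow (fun k => fs10 (Nat.add (Nat.succ 328403) k)) 261 = true := by decide +kernel
theorem s10c1109 : allBelow (fun k => fs10 (Nat.add (Nat.succ 328664) k)) 265 = true := by decide +kernel
theorem s10c1110 : allBelow (fun k => fs10 (Nat.add (Nat.succ 328929) k)) 261 = true := by decide +kernel
theorem s10c1111 : allBelow (fun k => fs10 (Nat.add (Nat.succ 329190) k)) 247 = true := by decide +kernel
theorem s10c1112 : allBelow (fun k => fs10 (Nat.add (Nat.succ 329437) k)) 261 = true := by decide +kernel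
theorem s10c1113 : allBelow (fun k => fs10 (Nat.add (Nat.succ 329698) k)) 266 = true := by decide +kernel
theorem s10c1114 : allBelow (fun k => fs10 (Nat.add (Nat.succ 329964) k)) 270 = true := by decide +kernel
theorem s10c1115 : allBelow (fun k => fs10 (Nat.add (Nat.succ 330234) k)) 254 = true := by decide +kernel
theorem s10c1116 : allBelow (fun k => fs10 (Nat.add (Nat.succ 330488) k)) 249 = true := by decide +kernel
theorem s10c1117 : allBelow (fun k => fs10 (Nat.add (Nat.succ 330737) k)) 265 = true := by decide +kernel
theorem s10c1118 : allBelow (fun k => fs10 (Nat.add (Nat.succ 331002) k)) 264 = true := by decide +kernel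
theorem s10c1119 : allBelow (fun k => fs10 (Nat.add (Nat.succ 331266) k)) 239 = true := by decide +kernel
theorem s10c1120 : allBelow (fun k => fs10 (Nat.add (Nat.succ 331505) k)) 252 = true := by decide +kernel
theorem s10c1121 : allBelow (fun k => fs10 (Nat.add (Nat.succ 331757) k)) 260 = true := by decide +kernel
theorem s10c1122 : allBelow (fun k => fs10 (Nat.add (Nat.succ 332017) k)) 237 = true := by decide +kernel
theorem s10c1123 : allBelow (fun k => fs10 (Nat.add (Nat.succ 332254) k)) 252 = true := by decide +kernel
theorem s10c1124 : allBelow (fun k => fs10 (Nat.add (Nat.succ 332506) k)) 253 = true := by decide +kernel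
theorem s10c1125 : allBelow (fun k => fs10 (Nat.add (Nat.succ 332759) k)) 253 = true := by decide +kernel
theorem s10c1126 : allBelow (fun k => fs10 (Nat.add (Nat.succ 333012) k)) 260 = true := by decide +kernel
theorem s10c1127 : allBelow (fun k => fs10 (Nat.add (Nat.succ 333272) k)) 261 = true := by decide +kernel
theorem s10c1128 : allBelow (fun k => fs10 (Nat.add (Nat.succ 333533) k)) 260 = true := by decide +kernel
theorem s10c1129 : allBelow (fun k => fs10 (Nat.add (Nat.succ 333793) k)) 256 = true := by decide +kernel
theorem s10c1130 : allBelow (fun k => fs10 (Nat.add (Nat.succ 334049) k)) 260 = true := by decide +kernel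
theorem s10c1131 : allBelow (fun k => fs10 (Nat.add (Nat.succ 334309) k)) 259 = true := by decide +kernel
theorem s10c1132 : allBelow (fun k => fs10 (Nat.add (Nat.succ 334568) k)) 260 = true := by decide +kernel
theorem s10c1133 : allBelow (fun k => fs10 (Nat.add (Nat.succ 334828) k)) 264 = true := by decide +kernel
theorem s10c1134 : allBelow (fun k => fs10 (Nat.add (Nat.succ 335092) k)) 275 = true := by decide +kernel
theorem s10c1135 : allBelow (fun k => fs10 (Nat.add (Nat.succ 335367) k)) 268 = true := by decide +kernel
theorem s10c1136 : allBelow (fun k => fs10 (Nat.add (Nat.succ 335635) k)) 258 = true := by decide +kernel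
theorem s10c1137 : allBelow (fun k => fs10 (Nat.add (Nat.succ 335893) k)) 267 = true := by decide +kernel
theorem s10c1138 : allBelow (fun k => fs10 (Nat.add (Nat.succ 336160) k)) 266 = true := by decide +kernel
theorem s10c1139 : allBelow (fun k => fs10 (Nat.add (Nat.succ 336426) k)) 239 = true := by decide +kernel
theorem s10c1140 : allBelow (fun k => fs10 (Nat.add (Nat.succ 336665) k)) 255 = true := by decide +kernel
theorem s10c1141 : allBelow (fun k => fs10 (Nat.add (Nat.succ 336920) k)) 245 = true := by decide +kernel
theorem s10c1142 : allBelow (fun k => fs10 (Nat.add (Nat.succ 337165) k)) 208 = true := by decide +kernel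
theorem s10c1143 : allBelow (fun k => fs10 (Nat.add (Nat.succ 337373) k)) 245 = true := by decide +kernel
theorem s10c1144 : allBelow (fun k => fs10 (Nat.add (Nat.succ 337618) k)) 234 = true := by decide +kernel
theorem s10c1145 : allBelow (fun k => fs10 (Nat.add (Nat.succ 337852) k)) 233 = true := by decide +kernel
theorem s10c1146 : allBelow (fun k => fs10 (Nat.add (Nat.succ 338085) k)) 237 = true := by decide +kernel
theorem s10c1147 : allBelow (fun k => fs10 (Nat.add (Nat.succ 338322) k)) 242 = true := by decide +kernel
theorem s10c1148 : allBelow (fun k => fs10 (Nat.add (Nat.succ 338564) k)) 237 = true := by decide +kernel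
theorem s10c1149 : allBelow (fun k => fs10 (Nat.add (Nat.succ 338801) k)) 248 = true := by decide +kernel
theorem s10c1150 : allBelow (fun k => fs10 (Nat.add (Nat.succ 339049) k)) 245 = true := by decide +kernel
theorem s10c1151 : allBelow (fun k => fs10 (Nat.add (Nat.succ 339294) k)) 242 = true := by decide +kernel
theorem s10c1152 : allBelow (fun k => fs10 (Nat.add (Nat.succ 339536) k)) 246 = true := by decide +kernel
theorem s10c1153 : allBelow (fun k => fs10 (Nat.add (Nat.succ 339782) k)) 242 = true := by decide +kernel
theorem s10c1154 : allBelow (fun k => fs10 (Nat.add (Nat.succ 340024) k)) 240 = true := by decide +kernel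
theorem s10c1155 : allBelow (fun k => fs10 (Nat.add (Nat.succ 340264) k)) 250 = true := by decide +kernel
theorem s10c1156 : allBelow (fun k => fs10 (Nat.add (Nat.succ 340514) k)) 239 = true := by decide +kernel
theorem s10c1157 : allBelow (fun k => fs10 (Nat.add (Nat.succ 340753) k)) 244 = true := by decide +kernel
theorem s10c1158 : allBelow (fun k => fs10 (Nat.add (Nat.succ 340997) k)) 257 = true := by decide +kernel
theorem s10c1159 : allBelow (fun k => fs10 (Nat.add (Nat.succ 341254) k)) 242 = true := by decide +kernel
theorem s10c1160 : allBelow (fun k => fs10 (Nat.add (Nat.succ 341496) k)) 252 = true := by decide +kernel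
theorem s10c1161 : allBelow (fun k => fs10 (Nat.add (Nat.succ 341748) k)) 260 = true := by decide +kernel
theorem s10c1162 : allBelow (fun k => fs10 (Nat.add (Nat.succ 342008) k)) 273 = true := by decide +kernel
theorem s10c1163 : allBelow (fun k => fs10 (Nat.add (Nat.succ 342281) k)) 266 = true := by decide +kernel
theorem s10c1164 : allBelow (fun k => fs10 (Nat.add (Nat.succ 342547) k)) 258 = true := by decide +kernel
theorem s10c1165 : allBelow (fun k => fs10 (Nat.add (Nat.succ 342805) k)) 245 = true := by decide +kernel
theorem s10c1166 : allBelow (fun k => fs10 (Nat.add (Nat.succ 343050) k)) 252 = true := by decide +kernel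
theorem s10c1167 : allBelow (fun k => fs10 (Nat.add (Nat.succ 343302) k)) 259 = true := by decide +kernel
theorem s10c1168 : allBelow (fun k => fs10 (Nat.add (Nat.succ 343561) k)) 253 = true := by decide +kernel
theorem s10c1169 : allBelow (fun k => fs10 (Nat.add (Nat.succ 343814) k)) 255 = true := by decide +kernel
theorem s10c1170 : allBelow (fun k => fs10 (Nat.add (Nat.succ 344069) k)) 243 = true := by decide +kernel
theorem s10c1171 : allBelow (fun k => fs10 (Nat.add (Nat.succ 344312) k)) 236 = true := by decide +kernel
theorem s10c1172 : allBelow (fun k => fs10 (Nat.add (Nat.succ 344548) k)) 252 = true := by decide +kernel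
theorem s10c1173 : allBelow (fun k => fs10 (Nat.add (Nat.succ 344800) k)) 242 = true := by decide +kernel
theorem s10c1174 : allBelow (fun k => fs10 (Nat.add (Nat.succ 345042) k)) 254 = true := by decide +kernel
theorem s10c1175 : allBelow (fun k => fs10 (Nat.add (Nat.succ 345296) k)) 262 = true := by decide +kernel
theorem s10c1176 : allBelow (fun k => fs10 (Nat.add (Nat.succ 345558) k)) 258 = true := by decide +kernel
theorem s10c1177 : allBelow (fun k => fs10 (Nat.add (Nat.succ 345816) k)) 263 = true := by decide +kernel
theorem s10c1178 : allBelow (fun k => fs10 (Nat.add (Nat.succ 346079) k)) 275 = true := by decide +kernel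
theorem s10c1179 : allBelow (fun k => fs10 (Nat.add (Nat.succ 346354) k)) 260 = true := by decide +kernel
theorem s10c1180 : allBelow (fun k => fs10 (Nat.add (Nat.succ 346614) k)) 248 = true := by decide +kernel
theorem s10c1181 : allBelow (fun k => fs10 (Nat.add (Nat.succ 346862) k)) 259 = true := by decide +kernel
theorem s10c1182 : allBelow (fun k => fs10 (Nat.add (Nat.succ 347121) k)) 242 = true := by decide +kernel
theorem s10c1183 : allBelow (fun k => fs10 (Nat.add (Nat.succ 347363) k)) 209 = true := by decide +kernel
theorem s10c1184 : allBelow (fun k => fs10 (Nat.add (Nat.succ 347572) k)) 229 = true := by decide +kernel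
theorem s10c1185 : allBelow (fun k => fs10 (Nat.add (Nat.succ 347801) k)) 241 = true := by decide +kernel
theorem s10c1186 : allBelow (fun k => fs10 (Nat.add (Nat.succ 348042) k)) 221 = true := by decide +kernel
theorem s10c1187 : allBelow (fun k => fs10 (Nat.add (Nat.succ 348263) k)) 235 = true := by decide +kernel
theorem s10c1188 : allBelow (fun k => fs10 (Nat.add (Nat.succ 348498) k)) 244 = true := by decide +kernel
theorem s10c1189 : allBelow (fun k => fs10 (Nat.add (Nat.succ 348742) k)) 236 = true := by decide +kernel
theorem s10c1190 : allBelow (fun k => fs10 (Nat.add (Nat.succ 348978) k)) 234 = true := by decide +kernel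
theorem s10c1191 : allBelow (fun k => fs10 (Nat.add (Nat.succ 349212) k)) 249 = true := by decide +kernel
theorem s10c1192 : allBelow (fun k => fs10 (Nat.add (Nat.succ 349461) k)) 235 = true := by decide +kernel
theorem s10c1193 : allBelow (fun k => fs10 (Nat.add (Nat.succ 349696) k)) 239 = true := by decide +kernel
theorem s10c1194 : allBelow (fun k => fs10 (Nat.add (Nat.succ 349935) k)) 244 = true := by decide +kernel
theorem s10c1195 : allBelow (fun k => fs10 (Nat.add (Nat.succ 350179) k)) 258 = true := by decide +kernel
theorem s10c1196 : allBelow (fun k => fs10 (Nat.add (Nat.succ 350437) k)) 274 = true := by decide +kernel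
theorem s10c1197 : allBelow (fun k => fs10 (Nat.add (Nat.succ 350711) k)) 253 = true := by decide +kernel
theorem s10c1198 : allBelow (fun k => fs10 (Nat.add (Nat.succ 350964) k)) 248 = true := by decide +kernel
theorem s10c1199 : allBelow (fun k => fs10 (Nat.add (Nat.succ 351212) k)) 251 = true := by decide +kernel
theorem s10c1200 : allBelow (fun k => fs10 (Nat.add (Nat.succ 351463) k)) 239 = true := by decide +kernel
theorem s10c1201 : allBelow (fun k => fs10 (Nat.add (Nat.succ 351702) k)) 251 = true := by decide +kernel
theorem s10c1202 : allBelow (fun k => fs10 (Nat.add (Nat.succ 351953) k)) 255 = true := by decide +kernel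
theorem s10c1203 : allBelow (fun k => fs10 (Nat.add (Nat.succ 352208) k)) 267 = true := by decide +kernel
theorem s10c1204 : allBelow (fun k => fs10 (Nat.add (Nat.succ 352475) k)) 260 = true := by decide +kernel
theorem s10c1205 : allBelow (fun k => fs10 (Nat.add (Nat.succ 352735) k)) 260 = true := by decide +kernel
theorem s10c1206 : allBelow (fun k => fs10 (Nat.add (Nat.succ 352995) k)) 251 = true := by decide +kernel
theorem s10c1207 : allBelow (fun k => fs10 (Nat.add (Nat.succ 353246) k)) 185 = true := by decide +kernel
theorem s10c1208 : allBelow (fun k => fs10 (Nat.add (Nat.succ 353431) k)) 197 = true := by decide +kernel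
theorem s10c1209 : allBelow (fun k => fs10 (Nat.add (Nat.succ 353628) k)) 214 = true := by decide +kernel
theorem s10c1210 : allBelow (fun k => fs10 (Nat.add (Nat.succ 353842) k)) 239 = true := by decide +kernel
theorem s10c1211 : allBelow (fun k => fs10 (Nat.add (Nat.succ 354081) k)) 247 = true := by decide +kernel
theorem s10c1212 : allBelow (fun k => fs10 (Nat.add (Nat.succ 354328) k)) 233 = true := by decide +kernel
theorem s10c1213 : allBelow (fun k => fs10 (Nat.add (Nat.succ 354561) k)) 266 = true := by decide +kernel
theorem s10c1214 : allBelow (fun k => fs10 (Nat.add (Nat.succ 354827) k)) 257 = true := by decide +kernel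
theorem s10c1215 : allBelow (fun k => fs10 (Nat.add (Nat.succ 355084) k)) 242 = true := by decide +kernel
theorem s10c1216 : allBelow (fun k => fs10 (Nat.add (Nat.succ 355326) k)) 259 = true := by decide +kernel
theorem s10c1217 : allBelow (fun k => fs10 (Nat.add (Nat.succ 355585) k)) 233 = true := by decide +kernel
theorem s10c1218 : allBelow (fun k => fs10 (Nat.add (Nat.succ 355818) k)) 253 = true := by decide +kernel
theorem s10c1219 : allBelow (fun k => fs10 (Nat.add (Nat.succ 356071) k)) 218 = true := by decide +kernel
theorem s10c1220 : allBelow (fun k => fs10 (Nat.add (Nat.succ 356289) k)) 249 = true := by decide +kernel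
theorem s10c1221 : allBelow (fun k => fs10 (Nat.add (Nat.succ 356538) k)) 266 = true := by decide +kernel
theorem s10c1222 : allBelow (fun k => fs10 (Nat.add (Nat.succ 356804) k)) 248 = true := by decide +kernel
theorem s10c1223 : allBelow (fun k => fs10 (Nat.add (Nat.succ 357052) k)) 215 = true := by decide +kernel
theorem s10c1224 : allBelow (fun k => fs10 (Nat.add (Nat.succ 357267) k)) 198 = true := by decide +kernel
theorem s11c0 : allBelow (fun k => fs11 (Nat.add (Nat.succ 0) k)) 302 = true := by decide +kernel
theorem s11c1 : allBelow (fun k => fs11 (Nat.add (Nat.succ 302) k)) 288 = true := by decide +kernel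
theorem s11c2 : allBelow (fun k => fs11 (Nat.add (Nat.succ 590) k)) 274 = true := by decide +kernel
theorem s11c3 : allBelow (fun k => fs11 (Nat.add (Nat.succ 864) k)) 269 = true := by decide +kernel
theorem s11c4 : allBelow (fun k => fs11 (Nat.add (Nat.succ 1133) k)) 276 = true := by decide +kernel
theorem s11c5 : allBelow (fun k => fs11 (Nat.add (Nat.succ 1409) k)) 267 = true := by decide +kernel
theorem s11c6 : allBelow (fun k => fs11 (Nat.add (Nat.succ 1676) k)) 288 = true := by decide +kernel
theorem s11c7 : allBelow (fun k => fs11 (Nat.add (Nat.succ 1964) k)) 259 = true := by decide +kernel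
theorem s11c8 : allBelow (fun k => fs11 (Nat.add (Nat.succ 2223) k)) 282 = true := by decide +kernel
theorem s11c9 : allBelow (fun k => fs11 (Nat.add (Nat.succ 2505) k)) 279 = true := by decide +kernel
theorem s11c10 : allBelow (fun k => fs11 (Nat.add (Nat.succ 2784) k)) 262 = true := by decide +kernel
theorem s11c11 : allBelow (fun k => fs11 (Nat.add (Nat.succ 3046) k)) 282 = true := by decide +kernel
theorem s11c12 : allBelow (fun k => fs11 (Nat.add (Nat.succ 3328) k)) 310 = true := by decide +kernel
theorem s11c13 : allBelow (fun k => fs11 (Nat.add (Nat.succ 3638) k)) 257 = true := by decide +kernel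
theorem s11c14 : allBelow (fun k => fs11 (Nat.add (Nat.succ 3895) k)) 269 = true := by decide +kernel
theorem s11c15 : allBelow (fun k => fs11 (Nat.add (Nat.succ 4164) k)) 302 = true := by decide +kernel
theorem s11c16 : allBelow (fun k => fs11 (Nat.add (Nat.succ 4466) k)) 286 = true := by decide +kernel
theorem s11c17 : allBelow (fun k => fs11 (Nat.add (Nat.succ 4752) k)) 316 = true := by decide +kernel
theorem s11c18 : allBelow (fun k => fs11 (Nat.add (Nat.succ 5068) k)) 267 = true := by decide +kernel
theorem s11c19 : allBelow (fun k => fs11 (Nat.add (Nat.succ 5335) k)) 275 = true := by decide +kernel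
theorem s11c20 : allBelow (fun k => fs11 (Nat.add (Nat.succ 5610) k)) 282 = true := by decide +kernel
theorem s11c21 : allBelow (fun k => fs11 (Nat.add (Nat.succ 5892) k)) 321 = true := by decide +kernel
theorem s11c22 : allBelow (fun k => fs11 (Nat.add (Nat.succ 6213) k)) 297 = true := by decide +kernel
theorem s11c23 : allBelow (fun k => fs11 (Nat.add (Nat.succ 6510) k)) 325 = true := by decide +kernel
theorem s11c24 : allBelow (fun k => fs11 (Nat.add (Nat.succ 6835) k)) 317 = true := by decide +kernel
theorem s11c25 : allBelow (fun k => fs11 (Nat.add (Nat.succ 7152) k)) 274 = true := by decide +kernel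
theorem s11c26 : allBelow (fun k => fs11 (Nat.add (Nat.succ 7426) k)) 293 = true := by decide +kernel
theorem s11c27 : allBelow (fun k => fs11 (Nat.add (Nat.succ 7719) k)) 279 = true := by decide +kernel
theorem s11c28 : allBelow (fun k => fs11 (Nat.add (Nat.succ 7998) k)) 323 = true := by decide +kernel
theorem s11c29 : allBelow (fun k => fs11 (Nat.add (Nat.succ 8321) k)) 305 = true := by decide +kernel
theorem s11c30 : allBelow (fun k => fs11 (Nat.add (Nat.succ 8626) k)) 289 = true := by decide +kernel
theorem s11c31 : allBelow (fun k => fs11 (Nat.add (Nat.succ 8915) k)) 335 = true := by decide +kernel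
theorem s11c32 : allBelow (fun k => fs11 (Nat.add (Nat.succ 9250) k)) 371 = true := by decide +kernel
theorem s11c33 : allBelow (fun k => fs11 (Nat.add (Nat.succ 9621) k)) 294 = true := by decide +kernel
theorem s11c34 : allBelow (fun k => fs11 (Nat.add (Nat.succ 9915) k)) 281 = true := by decide +kernel
theorem s11c35 : allBelow (fun k => fs11 (Nat.add (Nat.succ 10196) k)) 288 = true := by decide +kernel
theorem s11c36 : allBelow (fun k => fs11 (Nat.add (Nat.succ 10484) k)) 282 = true := by decide +kernel
theorem s11c37 : allBelow (fun k => fs11 (Nat.add (Nat.succ 10766) k)) 274 = true := by decide +kernel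
theorem s11c38 : allBelow (fun k => fs11 (Nat.add (Nat.succ 11040) k)) 299 = true := by decide +kernel
theorem s11c39 : allBelow (fun k => fs11 (Nat.add (Nat.succ 11339) k)) 291 = true := by decide +kernel
theorem s11c40 : allBelow (fun k => fs11 (Nat.add (Nat.succ 11630) k)) 287 = true := by decide +kernel
theorem s11c41 : allBelow (fun k => fs11 (Nat.add (Nat.succ 11917) k)) 306 = true := by decide +kernel
theorem s11c42 : allBelow (fun k => fs11 (Nat.add (Nat.succ 12223) k)) 334 = true := by decide +kernel
theorem s11c43 : allBelow (fun k => fs11 (Nat.add (Nat.succ 12557) k)) 296 = true := by decide +kernel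
theorem s11c44 : allBelow (fun k => fs11 (Nat.add (Nat.succ 12853) k)) 286 = true := by decide +kernel
theorem s11c45 : allBelow (fun k => fs11 (Nat.add (Nat.succ 13139) k)) 296 = true := by decide +kernel
theorem s11c46 : allBelow (fun k => fs11 (Nat.add (Nat.succ 13435) k)) 272 = true := by decide +kernel
theorem s11c47 : allBelow (fun k => fs11 (Nat.add (Nat.succ 13707) k)) 298 = true := by decide +kernel
theorem s11c48 : allBelow (fun k => fs11 (Nat.add (Nat.succ 14005) k)) 284 = true := by decide +kernel
theorem s11c49 : allBelow (fun k => fs11 (Nat.add (Nat.succ 14289) k)) 338 = true := by decide +kernel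
theorem s11c50 : allBelow (fun k => fs11 (Nat.add (Nat.succ 14627) k)) 294 = true := by decide +kernel
theorem s11c51 : allBelow (fun k => fs11 (Nat.add (Nat.succ 14921) k)) 304 = true := by decide +kernel
theorem s11c52 : allBelow (fun k => fs11 (Nat.add (Nat.succ 15225) k)) 307 = true := by decide +kernel
theorem s11c53 : allBelow (fun k => fs11 (Nat.add (Nat.succ 15532) k)) 323 = true := by decide +kernel
theorem s11c54 : allBelow (fun k => fs11 (Nat.add (Nat.succ 15855) k)) 336 = true := by decide +kernel
theorem s11c55 : allBelow (fun k => fs11 (Nat.add (Nat.succ 16191) k)) 369 = true := by decide +kernel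
theorem s11c56 : allBelow (fun k => fs11 (Nat.add (Nat.succ 16560) k)) 277 = true := by decide +kernel
theorem s11c57 : allBelow (fun k => fs11 (Nat.add (Nat.succ 16837) k)) 315 = true := by decide +kernel
theorem s11c58 : allBelow (fun k => fs11 (Nat.add (Nat.succ 17152) k)) 331 = true := by decide +kernel
theorem s11c59 : allBelow (fun k => fs11 (Nat.add (Nat.succ 17483) k)) 268 = true := by decide +kernel
theorem s11c60 : allBelow (fun k => fs11 (Nat.add (Nat.succ 17751) k)) 303 = true := by decide +kernel
theorem s11c61 : allBelow (fun k => fs11 (Nat.add (Nat.succ 18054) k)) 321 = true := by decide +kernel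
theorem s11c62 : allBelow (fun k => fs11 (Nat.add (Nat.succ 18375) k)) 303 = true := by decide +kernel
theorem s11c63 : allBelow (fun k => fs11 (Nat.add (Nat.succ 18678) k)) 358 = true := by decide +kernel
theorem s11c64 : allBelow (fun k => fs11 (Nat.add (Nat.succ 19036) k)) 319 = true := by decide +kernel
theorem s11c65 : allBelow (fun k => fs11 (Nat.add (Nat.succ 19355) k)) 308 = true := by decide +kernel
theorem s11c66 : allBelow (fun k => fs11 (Nat.add (Nat.succ 19663) k)) 307 = true := by decide +kernel
theorem s11c67 : allBelow (fun k => fs11 (Nat.add (Nat.succ 19970) k)) 327 = true := by decide +kernel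
theorem s11c68 : allBelow (fun k => fs11 (Nat.add (Nat.succ 20297) k)) 344 = true := by decide +kernel
theorem s11c69 : allBelow (fun k => fs11 (Nat.add (Nat.succ 20641) k)) 319 = true := by decide +kernel
theorem s11c70 : allBelow (fun k => fs11 (Nat.add (Nat.succ 20960) k)) 367 = true := by decide +kernel
theorem s11c71 : allBelow (fun k => fs11 (Nat.add (Nat.succ 21327) k)) 399 = true := by decide +kernel
theorem s11c72 : allBelow (fun k => fs11 (Nat.add (Nat.succ 21726) k)) 306 = true := by decide +kernel
theorem s11c73 : allBelow (fun k => fs11 (Nat.add (Nat.succ 22032) k)) 325 = true := by decide +kernel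
theorem s11c74 : allBelow (fun k => fs11 (Nat.add (Nat.succ 22357) k)) 330 = true := by decide +kernel
theorem s11c75 : allBelow (fun k => fs11 (Nat.add (Nat.succ 22687) k)) 359 = true := by decide +kernel
theorem s11c76 : allBelow (fun k => fs11 (Nat.add (Nat.succ 23046) k)) 281 = true := by decide +kernel
theorem s11c77 : allBelow (fun k => fs11 (Nat.add (Nat.succ 23327) k)) 305 = true := by decide +kernel
theorem s11c78 : allBelow (fun k => fs11 (Nat.add (Nat.succ 23632) k)) 324 = true := by decide +kernel
theorem s11c79 : allBelow (fun k => fs11 (Nat.add (Nat.succ 23956) k)) 337 = true := by decide +kernel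
theorem s11c80 : allBelow (fun k => fs11 (Nat.add (Nat.succ 24293) k)) 321 = true := by decide +kernel
theorem s11c81 : allBelow (fun k => fs11 (Nat.add (Nat.succ 24614) k)) 343 = true := by decide +kernel
theorem s11c82 : allBelow (fun k => fs11 (Nat.add (Nat.succ 24957) k)) 372 = true := by decide +kernel
theorem s11c83 : allBelow (fun k => fs11 (Nat.add (Nat.succ 25329) k)) 333 = true := by decide +kernel
theorem s11c84 : allBelow (fun k => fs11 (Nat.add (Nat.succ 25662) k)) 314 = true := by decide +kernel
theorem s11c85 : allBelow (fun k => fs11 (Nat.add (Nat.succ 25976) k)) 316 = true := by decide +kernel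
theorem s11c86 : allBelow (fun k => fs11 (Nat.add (Nat.succ 26292) k)) 329 = true := by decide +kernel
theorem s11c87 : allBelow (fun k => fs11 (Nat.add (Nat.succ 26621) k)) 340 = true := by decide +kernel
theorem s11c88 : allBelow (fun k => fs11 (Nat.add (Nat.succ 26961) k)) 351 = true := by decide +kernel
theorem s11c89 : allBelow (fun k => fs11 (Nat.add (Nat.succ 27312) k)) 360 = true := by decide +kernel
theorem s11c90 : allBelow (fun k => fs11 (Nat.add (Nat.succ 27672) k)) 334 = true := by decide +kernel
theorem s11c91 : allBelow (fun k => fs11 (Nat.add (Nat.succ 28006) k)) 366 = true := by decide +kernel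
theorem s11c92 : allBelow (fun k => fs11 (Nat.add (Nat.succ 28372) k)) 411 = true := by decide +kernel
theorem s11c93 : allBelow (fun k => fs11 (Nat.add (Nat.succ 28783) k)) 396 = true := by decide +kernel
theorem s11c94 : allBelow (fun k => fs11 (Nat.add (Nat.succ 29179) k)) 295 = true := by decide +kernel
theorem s11c95 : allBelow (fun k => fs11 (Nat.add (Nat.succ 29474) k)) 332 = true := by decide +kernel
theorem s11c96 : allBelow (fun k => fs11 (Nat.add (Nat.succ 29806) k)) 363 = true := by decide +kernel
theorem s11c97 : allBelow (fun k => fs11 (Nat.add (Nat.succ 30169) k)) 350 = true := by decide +kernel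
theorem s11c98 : allBelow (fun k => fs11 (Nat.add (Nat.succ 30519) k)) 379 = true := by decide +kernel
theorem s11c99 : allBelow (fun k => fs11 (Nat.add (Nat.succ 30898) k)) 286 = true := by decide +kernel
theorem s11c100 : allBelow (fun k => fs11 (Nat.add (Nat.succ 31184) k)) 308 = true := by decide +kernel
theorem s11c101 : allBelow (fun k => fs11 (Nat.add (Nat.succ 31492) k)) 311 = true := by decide +kernel
theorem s11c102 : allBelow (fun k => fs11 (Nat.add (Nat.succ 31803) k)) 364 = true := by decide +kernel
theorem s11c103 : allBelow (fun k => fs11 (Nat.add (Nat.succ 32167) k)) 343 = true := by decide +kernel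
theorem s11c104 : allBelow (fun k => fs11 (Nat.add (Nat.succ 32510) k)) 350 = true := by decide +kernel
theorem s11c105 : allBelow (fun k => fs11 (Nat.add (Nat.succ 32860) k)) 333 = true := by decide +kernel
theorem s11c106 : allBelow (fun k => fs11 (Nat.add (Nat.succ 33193) k)) 353 = true := by decide +kernel
theorem s11c107 : allBelow (fun k => fs11 (Nat.add (Nat.succ 33546) k)) 392 = true := by decide +kernel
theorem s11c108 : allBelow (fun k => fs11 (Nat.add (Nat.succ 33938) k)) 344 = true := by decide +kernel
theorem s11c109 : allBelow (fun k => fs11 (Nat.add (Nat.succ 34282) k)) 342 = true := by decide +kernel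
theorem s11c110 : allBelow (fun k => fs11 (Nat.add (Nat.succ 34624) k)) 322 = true := by decide +kernel
theorem s11c111 : allBelow (fun k => fs11 (Nat.add (Nat.succ 34946) k)) 324 = true := by decide +kernel
theorem s11c112 : allBelow (fun k => fs11 (Nat.add (Nat.succ 35270) k)) 320 = true := by decide +kernel
theorem s11c113 : allBelow (fun k => fs11 (Nat.add (Nat.succ 35590) k)) 358 = true := by decide +kernel
theorem s11c114 : allBelow (fun k => fs11 (Nat.add (Nat.succ 35948) k)) 347 = true := by decide +kernel
theorem s11c115 : allBelow (fun k => fs11 (Nat.add (Nat.succ 36295) k)) 355 = true := by decide +kernel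
theorem s11c116 : allBelow (fun k => fs11 (Nat.add (Nat.succ 36650) k)) 389 = true := by decide +kernel
theorem s11c117 : allBelow (fun k => fs11 (Nat.add (Nat.succ 37039) k)) 343 = true := by decide +kernel
theorem s11c118 : allBelow (fun k => fs11 (Nat.add (Nat.succ 37382) k)) 340 = true := by decide +kernel
theorem s11c119 : allBelow (fun k => fs11 (Nat.add (Nat.succ 37722) k)) 345 = true := by decide +kernel
theorem s11c120 : allBelow (fun k => fs11 (Nat.add (Nat.succ 38067) k)) 377 = true := by decide +kernel
theorem s11c121 : allBelow (fun k => fs11 (Nat.add (Nat.succ 38444) k)) 431 = true := by decide +kernel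
theorem s11c122 : allBelow (fun k => fs11 (Nat.add (Nat.succ 38875) k)) 409 = true := by decide +kernel
theorem s11c123 : allBelow (fun k => fs11 (Nat.add (Nat.succ 39284) k)) 293 = true := by decide +kernel
theorem s11c124 : allBelow (fun k => fs11 (Nat.add (Nat.succ 39577) k)) 332 = true := by decide +kernel
theorem s11c125 : allBelow (fun k => fs11 (Nat.add (Nat.succ 39909) k)) 376 = true := by decide +kernel
theorem s11c126 : allBelow (fun k => fs11 (Nat.add (Nat.succ 40285) k)) 369 = true := by decide +kernel
theorem s11c127 : allBelow (fun k => fs11 (Nat.add (Nat.succ 40654) k)) 381 = true := by decide +kernel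
theorem s11c128 : allBelow (fun k => fs11 (Nat.add (Nat.succ 41035) k)) 373 = true := by decide +kernel
theorem s11c129 : allBelow (fun k => fs11 (Nat.add (Nat.succ 41408) k)) 353 = true := by decide +kernel
theorem s11c130 : allBelow (fun k => fs11 (Nat.add (Nat.succ 41761) k)) 305 = true := by decide +kernel
theorem s11c131 : allBelow (fun k => fs11 (Nat.add (Nat.succ 42066) k)) 308 = true := by decide +kernel
theorem s11c132 : allBelow (fun k => fs11 (Nat.add (Nat.succ 42374) k)) 335 = true := by decide +kernel
theorem s11c133 : allBelow (fun k => fs11 (Nat.add (Nat.succ 42709) k)) 323 = true := by decide +kernel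
theorem s11c134 : allBelow (fun k => fs11 (Nat.add (Nat.succ 43032) k)) 359 = true := by decide +kernel
theorem s11c135 : allBelow (fun k => fs11 (Nat.add (Nat.succ 43391) k)) 366 = true := by decide +kernel
theorem s11c136 : allBelow (fun k => fs11 (Nat.add (Nat.succ 43757) k)) 359 = true := by decide +kernel
theorem s11c137 : allBelow (fun k => fs11 (Nat.add (Nat.succ 44116) k)) 364 = true := by decide +kernel
theorem s11c138 : allBelow (fun k => fs11 (Nat.add (Nat.succ 44480) k)) 342 = true := by decide +kernel
theorem s11c139 : allBelow (fun k => fs11 (Nat.add (Nat.succ 44822) k)) 340 = true := by decide +kernel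
theorem s11c140 : allBelow (fun k => fs11 (Nat.add (Nat.succ 45162) k)) 365 = true := by decide +kernel
theorem s11c141 : allBelow (fun k => fs11 (Nat.add (Nat.succ 45527) k)) 402 = true := by decide +kernel
theorem s11c142 : allBelow (fun k => fs11 (Nat.add (Nat.succ 45929) k)) 351 = true := by decide +kernel
theorem s11c143 : allBelow (fun k => fs11 (Nat.add (Nat.succ 46280) k)) 343 = true := by decide +kernel
theorem s11c144 : allBelow (fun k => fs11 (Nat.add (Nat.succ 46623) k)) 336 = true := by decide +kernel
theorem s11c145 : allBelow (fun k => fs11 (Nat.add (Nat.succ 46959) k)) 343 = true := by decide +kernel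
theorem s11c146 : allBelow (fun k => fs11 (Nat.add (Nat.succ 47302) k)) 322 = true := by decide +kernel
theorem s11c147 : allBelow (fun k => fs11 (Nat.add (Nat.succ 47624) k)) 326 = true := by decide +kernel
theorem s11c148 : allBelow (fun k => fs11 (Nat.add (Nat.succ 47950) k)) 321 = true := by decide +kernel
theorem s11c149 : allBelow (fun k => fs11 (Nat.add (Nat.succ 48271) k)) 353 = true := by decide +kernel
theorem s11c150 : allBelow (fun k => fs11 (Nat.add (Nat.succ 48624) k)) 355 = true := by decide +kernel
theorem s11c151 : allBelow (fun k => fs11 (Nat.add (Nat.succ 48979) k)) 359 = true := by decide +kernel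
theorem s11c152 : allBelow (fun k => fs11 (Nat.add (Nat.succ 49338) k)) 366 = true := by decide +kernel
theorem s11c153 : allBelow (fun k => fs11 (Nat.add (Nat.succ 49704) k)) 386 = true := by decide +kernel
theorem s11c154 : allBelow (fun k => fs11 (Nat.add (Nat.succ 50090) k)) 364 = true := by decide +kernel
theorem s11c155 : allBelow (fun k => fs11 (Nat.add (Nat.succ 50454) k)) 348 = true := by decide +kernel
theorem s11c156 : allBelow (fun k => fs11 (Nat.add (Nat.succ 50802) k)) 326 = true := by decide +kernel
theorem s11c157 : allBelow (fun k => fs11 (Nat.add (Nat.succ 51128) k)) 334 = true := by decide +kernel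
theorem s11c158 : allBelow (fun k => fs11 (Nat.add (Nat.succ 51462) k)) 359 = true := by decide +kernel
theorem s11c159 : allBelow (fun k => fs11 (Nat.add (Nat.succ 51821) k)) 379 = true := by decide +kernel
theorem s11c160 : allBelow (fun k => fs11 (Nat.add (Nat.succ 52200) k)) 448 = true := by decide +kernel
theorem s11c161 : allBelow (fun k => fs11 (Nat.add (Nat.succ 52648) k)) 430 = true := by decide +kernel
theorem s11c162 : allBelow (fun k => fs11 (Nat.add (Nat.succ 53078) k)) 306 = true := by decide +kernel
theorem s11c163 : allBelow (fun k => fs11 (Nat.add (Nat.succ 53384) k)) 346 = true := by decide +kernel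
theorem s11c164 : allBelow (fun k => fs11 (Nat.add (Nat.succ 53730) k)) 337 = true := by decide +kernel
theorem s11c165 : allBelow (fun k => fs11 (Nat.add (Nat.succ 54067) k)) 379 = true := by decide +kernel
theorem s11c166 : allBelow (fun k => fs11 (Nat.add (Nat.succ 54446) k)) 380 = true := by decide +kernel
theorem s11c167 : allBelow (fun k => fs11 (Nat.add (Nat.succ 54826) k)) 404 = true := by decide +kernel
theorem s11c168 : allBelow (fun k => fs11 (Nat.add (Nat.succ 55230) k)) 361 = true := by decide +kernel
theorem s11c169 : allBelow (fun k => fs11 (Nat.add (Nat.succ 55591) k)) 379 = true := by decide +kernel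
theorem s11c170 : allBelow (fun k => fs11 (Nat.add (Nat.succ 55970) k)) 365 = true := by decide +kernel
theorem s11c171 : allBelow (fun k => fs11 (Nat.add (Nat.succ 56335) k)) 314 = true := by decide +kernel
theorem s11c172 : allBelow (fun k => fs11 (Nat.add (Nat.succ 56649) k)) 315 = true := by decide +kernel

end Cfsg.Agent.Lib.Helper35.Fi24a
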