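import Cfsg.Agent.Lib.Helper35.Fi24a.Tab0
import Cfsg.Agent.Lib.Helper35.Fi24a.Tab1
import Cfsg.Agent.Lib.Helper35.Fi24a.Tab2
import Cfsg.Agent.Lib.Helper35.Fi24a.Tab3
import Cfsg.Agent.Lib.Helper35.Fi24a.Tab4
import Cfsg.Agent.Lib.Helper35.Fi24a.Tab5
import Cfsg.Agent.Lib.Helper35.Fi24a.Tab6
import Cfsg.Agent.Lib.Helper35.Fi24a.Tab7
import Cfsg.Agent.Lib.Helper35.Fi24a.Tab8
import Cfsg.Agent.Lib.Helper35.PresFi24
import Cfsg.Agent.Lib.Helper35.TCFast

namespace Cfsg.Agent.Lib.Helper35.Fi24a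

open Cfsg.Agent.Lib.Helper35

set_option maxRecDepth 100000
noncomputable section
def par : Par := ⟨28, 19, 268435455, 524287, 268959743, 268435456⟩
def tabs : Nat → Nat
  | 0 => tA0
  | 1 => tA1
  | 2 => tA2
  | 3 => tA3
  | 4 => tA4
  | 5 => tA5
  | 6 => tA6
  | 7 => tA7
  | 8 => tA8
  | 9 => tA9
  | 10 => tA10
  | 11 => tA11
  | 12 => tA12
  | _ => 0
def pe (u : Nat) : Nat := Nat.land (Nat.shiftRight tP (Nat.mul u 23)) 8388607
def je0 (v : Nat) : Nat := Nat.land (Nat.shiftRight tJ0 (Nat.mul v 27)) 134217727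
def stp0 (off v : Nat) : Nat := Nat.land (Nat.add (Nat.land (Nat.shiftRight tA0 (Nat.mul v 28)) 268435455) off) 268959743
theorem stp0_eq : ∀ off v, stp0 off v = step par (tabs 0) off v := fun _ _ => rfl
attribute [irreducible] stp0
def je1 (v : Nat) : Nat := Nat.land (Nat.shiftRight tJ1 (Nat.mul v 27)) 134217727
def stp1 (off v : Nat) : Nat := Nat.land (Nat.add (Nat.land (Nat.shiftRight tA1 (Nat.mul v 28)) 268435455) off) 268959743
theorem stp1_eq : ∀ off v, stp1 off v = step par (tabs 1) off v := fun _ _ => rfl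
attribute [irreducible] stp1
def je2 (v : Nat) : Nat := Nat.land (Nat.shiftRight tJ2 (Nat.mul v 27)) 134217727
def stp2 (off v : Nat) : Nat := Nat.land (Nat.add (Nat.land (Nat.shiftRight tA2 (Nat.mul v 28)) 268435455) off) 268959743
theorem stp2_eq : ∀ off v, stp2 off v = step par (tabs 2) off v := fun _ _ => rfl
attribute [irreducible] stp2
def je3 (v : Nat) : Nat := Nat.land (Nat.shiftRight tJ3 (Nat.mul v 27)) 134217727
def stp3 (off v : Nat) : Nat := Nat.land (Nat.add (Nat.land (Nat.shiftRight tA3 (Nat.mul v 28)) 268435455) off) 268959743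
theorem stp3_eq : ∀ off v, stp3 off v = step par (tabs 3) off v := fun _ _ => rfl
attribute [irreducible] stp3
def je4 (v : Nat) : Nat := Nat.land (Nat.shiftRight tJ4 (Nat.mul v 27)) 134217727
def stp4 (off v : Nat) : Nat := Nat.land (Nat.add (Nat.land (Nat.shiftRight tA4 (Nat.mul v 28)) 268435455) off) 268959743
theorem stp4_eq : ∀ off v, stp4 off v = step par (tabs 4) off v := fun _ _ => rfl
attribute [irreducible] stp4
def je5 (v : Nat) : Nat := Nat.land (Nat.shiftRight tJ5 (Nat.mul v 27)) 134217727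
def stp5 (off v : Nat) : Nat := Nat.land (Nat.add (Nat.land (Nat.shiftRight tA5 (Nat.mul v 28)) 268435455) off) 268959743
theorem stp5_eq : ∀ off v, stp5 off v = step par (tabs 5) off v := fun _ _ => rfl
attribute [irreducible] stp5
def je6 (v : Nat) : Nat := Nat.land (Nat.shiftRight tJ6 (Nat.mul v 27)) 134217727
def stp6 (off v : Nat) : Nat := Nat.land (Nat.add (Nat.land (Nat.shiftRight tA6 (Nat.mul v 28)) 268435455) off) 268959743
theorem stp6_eq : ∀ off v, stp6 off v = step par (tabs 6) off v := fun _ _ => rfl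
attribute [irreducible] stp6
def je7 (v : Nat) : Nat := Nat.land (Nat.shiftRight tJ7 (Nat.mul v 27)) 134217727
def stp7 (off v : Nat) : Nat := Nat.land (Nat.add (Nat.land (Nat.shiftRight tA7 (Nat.mul v 28)) 268435455) off) 268959743
theorem stp7_eq : ∀ off v, stp7 off v = step par (tabs 7) off v := fun _ _ => rfl
attribute [irreducible] stp7
def je8 (v : Nat) : Nat := Nat.land (Nat.shiftRight tJ8 (Nat.mul v 27)) 134217727
def stp8 (off v : Nat) : Nat := Nat.land (Nat.add (Nat.land (Nat.shiftRight tA8 (Nat.mul v 28)) 268435455) off) 268959743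
theorem stp8_eq : ∀ off v, stp8 off v = step par (tabs 8) off v := fun _ _ => rfl
attribute [irreducible] stp8
def je9 (v : Nat) : Nat := Nat.land (Nat.shiftRight tJ9 (Nat.mul v 27)) 134217727
def stp9 (off v : Nat) : Nat := Nat.land (Nat.add (Nat.land (Nat.shiftRight tA9 (Nat.mul v 28)) 268435455) off) 268959743
theorem stp9_eq : ∀ off v, stp9 off v = step par (tabs 9) off v := fun _ _ => rfl
attribute [irreducible] stp9
def je10 (v : Nat) : Nat := Nat.land (Nat.shiftRight tJ10 (Nat.mul v 27)) 134217727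
def stp10 (off v : Nat) : Nat := Nat.land (Nat.add (Nat.land (Nat.shiftRight tA10 (Nat.mul v 28)) 268435455) off) 268959743
theorem stp10_eq : ∀ off v, stp10 off v = step par (tabs 10) off v := fun _ _ => rfl
attribute [irreducible] stp10
def je11 (v : Nat) : Nat := Nat.land (Nat.shiftRight tJ11 (Nat.mul v 27)) 134217727
def stp11 (off v : Nat) : Nat := Nat.land (Nat.add (Nat.land (Nat.shiftRight tA11 (Nat.mul v 28)) 268435455) off) 268959743
theorem stp11_eq : ∀ off v, stp11 off v = step par (tabs 11) off v := fun _ _ => rfl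
attribute [irreducible] stp11
def je12 (v : Nat) : Nat := Nat.land (Nat.shiftRight tJ12 (Nat.mul v 27)) 134217727
def stp12 (off v : Nat) : Nat := Nat.land (Nat.add (Nat.land (Nat.shiftRight tA12 (Nat.mul v 28)) 268435455) off) 268959743
theorem stp12_eq : ∀ off v, stp12 off v = step par (tabs 12) off v := fun _ _ => rfl
attribute [irreducible] stp12
def je : Nat → Nat → Nat
  | 0 => je0
  | 1 => je1
  | 2 => je2
  | 3 => je3
  | 4 => je4
  | 5 => je5
  | 6 => je6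
  | 7 => je7
  | 8 => je8
  | 9 => je9
  | 10 => je10
  | 11 => je11
  | 12 => je12
  | _ => fun _ => 0
def st : Nat → Nat → Nat → Nat
  | 0 => stp0
  | 1 => stp1
  | 2 => stp2
  | 3 => stp3
  | 4 => stp4
  | 5 => stp5
  | 6 => stp6
  | 7 => stp7
  | 8 => stp8
  | 9 => stp9
  | 10 => stp10
  | 11 => stp11
  | 12 => stp12
  | _ => fun off v => step par 0 off v
theorem hst : ∀ l off v, st l off v = step par (tabs l) off v := by
  intro l off v
  rcases Nat.lt_or_ge l 13 with h | h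
  · interval_cases l
    exacts [stp0_eq off v, stp1_eq off v, stp2_eq off v, stp3_eq off v, stp4_eq off v, stp5_eq off v, stp6_eq off v, stp7_eq off v, stp8_eq off v, stp9_eq off v, stp10_eq off v, stp11_eq off v, stp12_eq off v]
  · obtain ⟨k, rfl⟩ : ∃ k, l = k + 13 := ⟨l - 13, by omega⟩
    rfl
def SL : List (List (Cfsg.Spor.Fi24.Gen × Bool)) := [
  [(.a, true)],
  [(.b, true)],
  [(.c, true)],
  [(.d, true)],
  [(.e, true)],
  [(.f, true)],
  [(.g, true)],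
  [(.h, true)],
  [(.i, true)],
  [(.j, true)],
  [(.l, true)]]
def S : List (List Nat) := [[2],
  [3],
  [4],
  [5],
  [6],
  [7],
  [8],
  [10],
  [11],
  [9],
  [0]]
theorem hS : S = SL.map (List.map PresFi24.cc.colOf) := by decide +kernel
set_option maxRecDepth 100000
def lf0_0 : Leaf (walkS st) := ⟨[0], [], 0, 0, (fun off v => (stp0 off v)), (fun _ v => v), (fun _ u _ => u), fun _ _ => rfl, fun _ _ => rfl⟩
def lf0_1 : Leaf (walkS st) := ⟨[], [10, 0, 10], 21, 2, (fun _ v => v), (fun off v => (stp10 off (stp0 off (stp10 off v)))), (fun v _ _ => v), fun _ _ => rfl, fun _ _ => rfl⟩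
def lf0_2 : Leaf (walkS st) := ⟨[], [11, 0, 11], 22, 2, (fun _ v => v), (fun off v => (stp11 off (stp0 off (stp11 off v)))), (fun v _ _ => v), fun _ _ => rfl, fun _ _ => rfl⟩
def lf0_3 : Leaf (walkS st) := ⟨[], [5, 0, 5], 16, 2, (fun _ v => v), (fun off v => (stp5 off (stp0 off (stp5 off v)))), (fun v _ _ => v), fun _ _ => rfl, fun _ _ => rfl⟩
def lf0_4 : Leaf (walkS st) := ⟨[], [6, 0, 6], 17, 2, (fun _ v => v), (fun off v => (stp6 off (stp0 off (stp6 off v)))), (fun v _ _ => v), fun _ _ => rfl, fun _ _ => rfl⟩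
def lf0_5 : Leaf (walkS st) := ⟨[], [7, 0, 7], 18, 2, (fun _ v => v), (fun off v => (stp7 off (stp0 off (stp7 off v)))), (fun v _ _ => v), fun _ _ => rfl, fun _ _ => rfl⟩
def lf0_6 : Leaf (walkS st) := ⟨[], [4, 0, 4], 15, 2, (fun _ v => v), (fun off v => (stp4 off (stp0 off (stp4 off v)))), (fun v _ _ => v), fun _ _ => rfl, fun _ _ => rfl⟩
def lf0_7 : Leaf (walkS st) := ⟨[], [8, 0, 8], 19, 2, (fun _ v => v), (fun off v => (stp8 off (stp0 off (stp8 off v)))), (fun v _ _ => v), fun _ _ => rfl, fun _ _ => rfl⟩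
def lf0_8 : Leaf (walkS st) := ⟨[], [3, 0, 3], 14, 2, (fun _ v => v), (fun off v => (stp3 off (stp0 off (stp3 off v)))), (fun v _ _ => v), fun _ _ => rfl, fun _ _ => rfl⟩
def lf0_9 : Leaf (walkS st) := ⟨[], [9, 0, 9], 20, 2, (fun _ v => v), (fun off v => (stp9 off (stp0 off (stp9 off v)))), (fun v _ _ => v), fun _ _ => rfl, fun _ _ => rfl⟩
def lf0_10 : Leaf (walkS st) := ⟨[], [2, 0, 2], 13, 2, (fun _ v => v), (fun off v => (stp2 off (stp0 off (stp2 off v)))), (fun v _ _ => v), fun _ _ => rfl, fun _ _ => rfl⟩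
def lf0_12 : Leaf (walkS st) := ⟨[12], [0], 0, 0, (fun off v => (stp12 off v)), (fun off v => (stp0 off v)), (fun _ _ p => p), fun _ _ => rfl, fun _ _ => rfl⟩
def lf0_13 : Leaf (walkS st) := ⟨[0, 12], [], 0, 0, (fun off v => (stp12 off (stp0 off v))), (fun _ v => v), (fun _ u _ => u), fun _ _ => rfl, fun _ _ => rfl⟩
def lf0_14 : Leaf (walkS st) := ⟨[], [1, 0, 1, 0, 1], 12, 2, (fun _ v => v), (fun off v => (stp1 off (stp0 off (stp1 off (stp0 off (stp1 off v)))))), (fun v _ _ => v), fun _ _ => rfl, fun _ _ => rfl⟩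
def lf0_15 : Leaf (walkS st) := ⟨[], [12, 0], 0, 0, (fun _ v => v), (fun off v => (stp0 off (stp12 off v))), (fun v _ _ => v), fun _ _ => rfl, fun _ _ => rfl⟩
def lf0_16 : Leaf (walkS st) := ⟨[12, 12], [0], 0, 0, (fun off v => (stp12 off (stp12 off v))), (fun off v => (stp0 off v)), (fun _ _ p => p), fun _ _ => rfl, fun _ _ => rfl⟩
def lf0_17 : Leaf (walkS st) := ⟨[0, 12, 12], [], 0, 0, (fun off v => (stp12 off (stp12 off (stp0 off v)))), (fun _ v => v), (fun _ u _ => u), fun _ _ => rfl, fun _ _ => rfl⟩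
def lf0_18 : Leaf (walkS st) := ⟨[], [1, 2, 3, 4, 5, 11, 10, 5, 9, 8, 7, 6, 5, 0, 1, 2, 3, 4, 5, 11, 10, 5, 9, 8, 7, 6, 5, 0, 1, 2, 3, 4, 5, 11, 10, 5, 9, 8, 7, 6, 5, 0, 1, 2, 3, 4, 5, 11, 10, 5, 9, 8, 7, 6, 5, 0, 1, 2, 3, 4, 5, 11, 10, 5, 9, 8, 7, 6, 5, 0, 1, 2, 3, 4, 5, 11, 10, 5, 9, 8, 7, 6, 5, 0, 1, 2, 3, 4, 5, 11, 10, 5, 9, 8, 7, 6, 5, 0, 1, 2, 3, 4, 5, 11, 10, 5, 9, 8, 7, 6, 5, 0, 1, 2, 3, 4, 5, 11, 10, 5, 9, 8, 7, 6, 5, 0, 1, 2, 3, 4, 5, 11, 10, 5, 9, 8, 7, 6, 5, 0, 1, 2, 3, 4, 5, 11, 10, 5, 9, 8, 7, 6, 5, 0, 1, 2, 3, 4, 5, 11, 10, 5, 9, 8, 7, 6, 5, 0, 1, 2, 3, 4, 5, 11, 10, 5, 9, 8, 7, 6, 5, 0, 1, 2, 3, 4, 5, 11, 10, 5, 9, 8, 7, 6, 5, 0, 1, 2, 3, 4, 5, 11, 10, 5, 9, 8, 7, 6, 5, 0, 1, 2, 3, 4, 5, 11, 10, 5, 9, 8, 7, 6, 5, 0, 1, 2, 3, 4, 5, 11, 10, 5, 9, 8, 7, 6, 5], 79, 5, (fun _ v => v), (fun off v => (stp5 off (stp6 off (stp7 off (stp8 off (stp9 off (stp5 off (stp10 off (stp11 off (stp5 off (stp4 off (stp3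 off (stp2 off (stp1 off (stp0 off (stp5 off (stp6 off (stp7 off (stp8 off (stp9 off (stp5 off (stp10 off (stp11 off (stp5 off (stp4 off (stp3 off (stp2 off (stp1 off (stp0 off (stp5 off (stp6 off (stp7 off (stp8 off (stp9 off (stp5 off (stp10 off (stp11 off (stp5 off (stp4 off (stp3 off (stp2 off (stp1 off (stp0 off (stp5 off (stp6 off (stp7 off (stp8 off (stp9 off (stp5 off (stp10 off (stp11 off (stp5 off (stp4 off (stp3 off (stp2 off (stp1 off (stp0 off (stp5 off (stp6 off (stp7 off (stp8 off (stp9 off (stp5 off (stp10 off (stp11 off (stp5 off (stp4 off (stp3 off (stp2 off (stp1 off (stp0 off (stp5 off (stp6 off (stp7 off (stp8 off (stp9 off (stp5 off (stp10 off (stp11 off (stp5 off (stp4 off (stp3 off (stp2 off (stp1 off (stp0 off (stp5 off (stp6 off (stp7 off (stp8 off (stp9 off (stp5 off (stp10 off (stp11 off (stp5 off (stp4 off (stp3 off (stp2 off (stp1 off (stp0 off (stp5 off (stp6 off (stp7 off (stp8 off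 (stp9 off (stp5 off (stp10 off (stp11 off (stp5 off (stp4 off (stp3 off (stp2 off (stp1 off (stp0 off (stp5 off (stp6 off (stp7 off (stp8 off (stp9 off (stp5 off (stp10 off (stp11 off (stp5 off (stp4 off (stp3 off (stp2 off (stp1 off (stp0 off (stp5 off (stp6 off (stp7 off (stp8 off (stp9 off (stp5 off (stp10 off (stp11 off (stp5 off (stp4 off (stp3 off (stp2 off (stp1 off (stp0 off (stp5 off (stp6 off (stp7 off (stp8 off (stp9 off (stp5 off (stp10 off (stp11 off (stp5 off (stp4 off (stp3 off (stp2 off (stp1 off (stp0 off (stp5 off (stp6 off (stp7 off (stp8 off (stp9 off (stp5 off (stp10 off (stp11 off (stp5 off (stp4 off (stp3 off (stp2 off (stp1 off (stp0 off (stp5 off (stp6 off (stp7 off (stp8 off (stp9 off (stp5 off (stp10 off (stp11 off (stp5 off (stp4 off (stp3 off (stp2 off (stp1 off (stp0 off (stp5 off (stp6 off (stp7 off (stp8 off (stp9 off (stp5 off (stp10 off (stp11 off (stp5 off (stp4 off (stp3 off (stp2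 off (stp1 off (stp0 off (stp5 off (stp6 off (stp7 off (stp8 off (stp9 off (stp5 off (stp10 off (stp11 off (stp5 off (stp4 off (stp3 off (stp2 off (stp1 off (stp0 off (stp5 off (stp6 off (stp7 off (stp8 off (stp9 off (stp5 off (stp10 off (stp11 off (stp5 off (stp4 off (stp3 off (stp2 off (stp1 off (stp0 off (stp5 off (stp6 off (stp7 off (stp8 off (stp9 off (stp5 off (stp10 off (stp11 off (stp5 off (stp4 off (stp3 off (stp2 off (stp1 off v)))))))))))))))))))))))))))))))))))))))))))))))))))))))))))))))))))))))))))))))))))))))))))))))))))))))))))))))))))))))))))))))))))))))))))))))))))))))))))))))))))))))))))))))))))))))))))))))))))))))))))))))))))))))))))))))))))))))))))))), (fun v _ _ => v), fun _ _ => rfl, fun _ _ => rfl⟩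
def lf0_19 : Leaf (walkS st) := ⟨[], [], 10, 0, (fun _ v => v), (fun _ v => v), (fun _ _ _ => 1), fun _ _ => rfl, fun _ _ => rfl⟩
def tree0 : RTree (walkS st) :=
  (.node 1 (.fork lf0_0) (.node 4 (.node 2 (.fork lf0_1) (.node 3 (.fork lf0_2) (.fork lf0_3))) (.node 6 (.node 5 (.fork lf0_4) (.fork lf0_5)) (.node 8 (.node 7 (.fork lf0_6) (.fork lf0_7)) (.node 9 (.fork lf0_8) (.node 10 (.fork lf0_9) (.node 11 (.fork lf0_10) (.node 12 .tleaf (.node 13 (.fork lf0_12) (.node 14 (.fork lf0_13) (.node 15 (.fork lf0_14) (.node 16 (.fork lf0_15) (.node 17 (.fork lf0_16) (.node 18 (.fork lf0_17) (.node 19 (.fork lf0_18) (.sub lf0_19))))))))))))))))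
def lf1_0 : Leaf (walkS st) := ⟨[1], [], 1, 0, (fun off v => (stp1 off v)), (fun _ v => v), (fun _ u _ => u), fun _ _ => rfl, fun _ _ => rfl⟩
def lf1_1 : Leaf (walkS st) := ⟨[], [10, 1, 10], 31, 2, (fun _ v => v), (fun off v => (stp10 off (stp1 off (stp10 off v)))), (fun v _ _ => v), fun _ _ => rfl, fun _ _ => rfl⟩
def lf1_2 : Leaf (walkS st) := ⟨[], [11, 1, 11], 32, 2, (fun _ v => v), (fun off v => (stp11 off (stp1 off (stp11 off v)))), (fun v _ _ => v), fun _ _ => rfl, fun _ _ => rfl⟩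
def lf1_3 : Leaf (walkS st) := ⟨[], [5, 1, 5], 26, 2, (fun _ v => v), (fun off v => (stp5 off (stp1 off (stp5 off v)))), (fun v _ _ => v), fun _ _ => rfl, fun _ _ => rfl⟩
def lf1_4 : Leaf (walkS st) := ⟨[], [6, 1, 6], 27, 2, (fun _ v => v), (fun off v => (stp6 off (stp1 off (stp6 off v)))), (fun v _ _ => v), fun _ _ => rfl, fun _ _ => rfl⟩
def lf1_5 : Leaf (walkS st) := ⟨[], [7, 1, 7], 28, 2, (fun _ v => v), (fun off v => (stp7 off (stp1 off (stp7 off v)))), (fun v _ _ => v), fun _ _ => rfl, fun _ _ => rfl⟩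
def lf1_6 : Leaf (walkS st) := ⟨[], [4, 1, 4], 25, 2, (fun _ v => v), (fun off v => (stp4 off (stp1 off (stp4 off v)))), (fun v _ _ => v), fun _ _ => rfl, fun _ _ => rfl⟩
def lf1_7 : Leaf (walkS st) := ⟨[], [8, 1, 8], 29, 2, (fun _ v => v), (fun off v => (stp8 off (stp1 off (stp8 off v)))), (fun v _ _ => v), fun _ _ => rfl, fun _ _ => rfl⟩
def lf1_8 : Leaf (walkS st) := ⟨[], [3, 1, 3], 24, 2, (fun _ v => v), (fun off v => (stp3 off (stp1 off (stp3 off v)))), (fun v _ _ => v), fun _ _ => rfl, fun _ _ => rfl⟩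
def lf1_9 : Leaf (walkS st) := ⟨[], [9, 1, 9], 30, 2, (fun _ v => v), (fun off v => (stp9 off (stp1 off (stp9 off v)))), (fun v _ _ => v), fun _ _ => rfl, fun _ _ => rfl⟩
def lf1_11 : Leaf (walkS st) := ⟨[], [2, 1, 2, 1, 2], 23, 2, (fun _ v => v), (fun off v => (stp2 off (stp1 off (stp2 off (stp1 off (stp2 off v)))))), (fun v _ _ => v), fun _ _ => rfl, fun _ _ => rfl⟩
def lf1_12 : Leaf (walkS st) := ⟨[12], [1], 1, 0, (fun off v => (stp12 off v)), (fun off v => (stp1 off v)), (fun _ _ p => p), fun _ _ => rfl, fun _ _ => rfl⟩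
def lf1_13 : Leaf (walkS st) := ⟨[], [0, 1, 0, 1, 0], 12, 1, (fun _ v => v), (fun off v => (stp0 off (stp1 off (stp0 off (stp1 off (stp0 off v)))))), (fun v _ _ => v), fun _ _ => rfl, fun _ _ => rfl⟩
def lf1_14 : Leaf (walkS st) := ⟨[1, 12], [], 1, 0, (fun off v => (stp12 off (stp1 off v))), (fun _ v => v), (fun _ u _ => u), fun _ _ => rfl, fun _ _ => rfl⟩
def lf1_15 : Leaf (walkS st) := ⟨[], [12, 1], 1, 0, (fun _ v => v), (fun off v => (stp1 off (stp12 off v))), (fun v _ _ => v), fun _ _ => rfl, fun _ _ => rfl⟩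
def lf1_16 : Leaf (walkS st) := ⟨[12, 12], [1], 1, 0, (fun off v => (stp12 off (stp12 off v))), (fun off v => (stp1 off v)), (fun _ _ p => p), fun _ _ => rfl, fun _ _ => rfl⟩
def lf1_17 : Leaf (walkS st) := ⟨[], [2, 3, 4, 5, 11, 10, 5, 9, 8, 7, 6, 5, 0, 1, 2, 3, 4, 5, 11, 10, 5, 9, 8, 7, 6, 5, 0, 1, 2, 3, 4, 5, 11, 10, 5, 9, 8, 7, 6, 5, 0, 1, 2, 3, 4, 5, 11, 10, 5, 9, 8, 7, 6, 5, 0, 1, 2, 3, 4, 5, 11, 10, 5, 9, 8, 7, 6, 5, 0, 1, 2, 3, 4, 5, 11, 10, 5, 9, 8, 7, 6, 5, 0, 1, 2, 3, 4, 5, 11, 10, 5, 9, 8, 7, 6, 5, 0, 1, 2, 3, 4, 5, 11, 10, 5, 9, 8, 7, 6, 5, 0, 1, 2, 3, 4, 5, 11, 10, 5, 9, 8, 7, 6, 5, 0, 1, 2, 3, 4, 5, 11, 10, 5, 9, 8, 7, 6, 5, 0, 1, 2, 3, 4, 5, 11, 10, 5, 9, 8, 7, 6, 5, 0, 1, 2, 3, 4, 5, 11, 10, 5, 9, 8, 7, 6, 5, 0, 1, 2, 3, 4, 5, 11, 10, 5, 9, 8, 7, 6, 5, 0, 1, 2, 3, 4, 5, 11, 10, 5, 9, 8, 7, 6, 5, 0, 1, 2, 3, 4, 5, 11, 10, 5, 9, 8, 7, 6, 5, 0, 1, 2, 3, 4, 5, 11, 10, 5, 9, 8, 7, 6, 5, 0, 1, 2, 3, 4,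 5, 11, 10, 5, 9, 8, 7, 6, 5, 0], 79, 4, (fun _ v => v), (fun off v => (stp0 off (stp5 off (stp6 off (stp7 off (stp8 off (stp9 off (stp5 off (stp10 off (stp11 off (stp5 off (stp4 off (stp3 off (stp2 off (stp1 off (stp0 off (stp5 off (stp6 off (stp7 off (stp8 off (stp9 off (stp5 off (stp10 off (stp11 off (stp5 off (stp4 off (stp3 off (stp2 off (stp1 off (stp0 off (stp5 off (stp6 off (stp7 off (stp8 off (stp9 off (stp5 off (stp10 off (stp11 off (stp5 off (stp4 off (stp3 off (stp2 off (stp1 off (stp0 off (stp5 off (stp6 off (stp7 off (stp8 off (stp9 off (stp5 off (stp10 off (stp11 off (stp5 off (stp4 off (stp3 off (stp2 off (stp1 off (stp0 off (stp5 off (stp6 off (stp7 off (stp8 off (stp9 off (stp5 off (stp10 off (stp11 off (stp5 off (stp4 off (stp3 off (stp2 off (stp1 off (stp0 off (stp5 off (stp6 off (stp7 off (stp8 off (stp9 off (stp5 off (stp10 off (stp11 off (stp5 off (stp4 off (stp3 off (stp2 off (stp1 off (stp0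 off (stp5 off (stp6 off (stp7 off (stp8 off (stp9 off (stp5 off (stp10 off (stp11 off (stp5 off (stp4 off (stp3 off (stp2 off (stp1 off (stp0 off (stp5 off (stp6 off (stp7 off (stp8 off (stp9 off (stp5 off (stp10 off (stp11 off (stp5 off (stp4 off (stp3 off (stp2 off (stp1 off (stp0 off (stp5 off (stp6 off (stp7 off (stp8 off (stp9 off (stp5 off (stp10 off (stp11 off (stp5 off (stp4 off (stp3 off (stp2 off (stp1 off (stp0 off (stp5 off (stp6 off (stp7 off (stp8 off (stp9 off (stp5 off (stp10 off (stp11 off (stp5 off (stp4 off (stp3 off (stp2 off (stp1 off (stp0 off (stp5 off (stp6 off (stp7 off (stp8 off (stp9 off (stp5 off (stp10 off (stp11 off (stp5 off (stp4 off (stp3 off (stp2 off (stp1 off (stp0 off (stp5 off (stp6 off (stp7 off (stp8 off (stp9 off (stp5 off (stp10 off (stp11 off (stp5 off (stp4 off (stp3 off (stp2 off (stp1 off (stp0 off (stp5 off (stp6 off (stp7 off (stp8 off (stp9 off (stp5 off (stp10 off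 (stp11 off (stp5 off (stp4 off (stp3 off (stp2 off (stp1 off (stp0 off (stp5 off (stp6 off (stp7 off (stp8 off (stp9 off (stp5 off (stp10 off (stp11 off (stp5 off (stp4 off (stp3 off (stp2 off (stp1 off (stp0 off (stp5 off (stp6 off (stp7 off (stp8 off (stp9 off (stp5 off (stp10 off (stp11 off (stp5 off (stp4 off (stp3 off (stp2 off (stp1 off (stp0 off (stp5 off (stp6 off (stp7 off (stp8 off (stp9 off (stp5 off (stp10 off (stp11 off (stp5 off (stp4 off (stp3 off (stp2 off (stp1 off (stp0 off (stp5 off (stp6 off (stp7 off (stp8 off (stp9 off (stp5 off (stp10 off (stp11 off (stp5 off (stp4 off (stp3 off (stp2 off v)))))))))))))))))))))))))))))))))))))))))))))))))))))))))))))))))))))))))))))))))))))))))))))))))))))))))))))))))))))))))))))))))))))))))))))))))))))))))))))))))))))))))))))))))))))))))))))))))))))))))))))))))))))))))))))))))))))))))))))), (fun v _ _ => v), fun _ _ => rfl, fun _ _ => rfl⟩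
def tree1 : RTree (walkS st) :=
  (.node 1 (.fork lf1_0) (.node 4 (.node 2 (.fork lf1_1) (.node 3 (.fork lf1_2) (.fork lf1_3))) (.node 6 (.node 5 (.fork lf1_4) (.fork lf1_5)) (.node 8 (.node 7 (.fork lf1_6) (.fork lf1_7)) (.node 9 (.fork lf1_8) (.node 10 (.fork lf1_9) (.node 11 .tleaf (.node 12 (.fork lf1_11) (.node 13 (.fork lf1_12) (.node 14 (.fork lf1_13) (.node 15 (.fork lf1_14) (.node 16 (.fork lf1_15) (.node 17 (.fork lf1_16) (.fork lf1_17))))))))))))))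
def lf2_0 : Leaf (walkS st) := ⟨[2], [], 2, 0, (fun off v => (stp2 off v)), (fun _ v => v), (fun _ u _ => u), fun _ _ => rfl, fun _ _ => rfl⟩
def lf2_1 : Leaf (walkS st) := ⟨[], [10, 2, 10], 40, 2, (fun _ v => v), (fun off v => (stp10 off (stp2 off (stp10 off v)))), (fun v _ _ => v), fun _ _ => rfl, fun _ _ => rfl⟩
def lf2_2 : Leaf (walkS st) := ⟨[], [11, 2, 11], 41, 2, (fun _ v => v), (fun off v => (stp11 off (stp2 off (stp11 off v)))), (fun v _ _ => v), fun _ _ => rfl, fun _ _ => rfl⟩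
def lf2_3 : Leaf (walkS st) := ⟨[], [5, 2, 5], 35, 2, (fun _ v => v), (fun off v => (stp5 off (stp2 off (stp5 off v)))), (fun v _ _ => v), fun _ _ => rfl, fun _ _ => rfl⟩
def lf2_4 : Leaf (walkS st) := ⟨[], [6, 2, 6], 36, 2, (fun _ v => v), (fun off v => (stp6 off (stp2 off (stp6 off v)))), (fun v _ _ => v), fun _ _ => rfl, fun _ _ => rfl⟩
def lf2_5 : Leaf (walkS st) := ⟨[], [7, 2, 7], 37, 2, (fun _ v => v), (fun off v => (stp7 off (stp2 off (stp7 off v)))), (fun v _ _ => v), fun _ _ => rfl, fun _ _ => rfl⟩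
def lf2_6 : Leaf (walkS st) := ⟨[], [4, 2, 4], 34, 2, (fun _ v => v), (fun off v => (stp4 off (stp2 off (stp4 off v)))), (fun v _ _ => v), fun _ _ => rfl, fun _ _ => rfl⟩
def lf2_7 : Leaf (walkS st) := ⟨[], [8, 2, 8], 38, 2, (fun _ v => v), (fun off v => (stp8 off (stp2 off (stp8 off v)))), (fun v _ _ => v), fun _ _ => rfl, fun _ _ => rfl⟩
def lf2_9 : Leaf (walkS st) := ⟨[], [9, 2, 9], 39, 2, (fun _ v => v), (fun off v => (stp9 off (stp2 off (stp9 off v)))), (fun v _ _ => v), fun _ _ => rfl, fun _ _ => rfl⟩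
def lf2_10 : Leaf (walkS st) := ⟨[], [3, 2, 3, 2, 3], 33, 2, (fun _ v => v), (fun off v => (stp3 off (stp2 off (stp3 off (stp2 off (stp3 off v)))))), (fun v _ _ => v), fun _ _ => rfl, fun _ _ => rfl⟩
def lf2_11 : Leaf (walkS st) := ⟨[], [1, 2, 1, 2, 1], 23, 1, (fun _ v => v), (fun off v => (stp1 off (stp2 off (stp1 off (stp2 off (stp1 off v)))))), (fun v _ _ => v), fun _ _ => rfl, fun _ _ => rfl⟩
def lf2_12 : Leaf (walkS st) := ⟨[], [0, 2, 0], 13, 1, (fun _ v => v), (fun off v => (stp0 off (stp2 off (stp0 off v)))), (fun v _ _ => v), fun _ _ => rfl, fun _ _ => rfl⟩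
def lf2_13 : Leaf (walkS st) := ⟨[12], [2], 2, 0, (fun off v => (stp12 off v)), (fun off v => (stp2 off v)), (fun _ _ p => p), fun _ _ => rfl, fun _ _ => rfl⟩
def lf2_14 : Leaf (walkS st) := ⟨[2, 12], [], 2, 0, (fun off v => (stp12 off (stp2 off v))), (fun _ v => v), (fun _ u _ => u), fun _ _ => rfl, fun _ _ => rfl⟩
def lf2_15 : Leaf (walkS st) := ⟨[], [12, 2], 2, 0, (fun _ v => v), (fun off v => (stp2 off (stp12 off v))), (fun v _ _ => v), fun _ _ => rfl, fun _ _ => rfl⟩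
def lf2_16 : Leaf (walkS st) := ⟨[], [3, 4, 5, 6, 7, 10, 0, 2, 3, 4, 5, 6, 7, 10, 2, 3, 4, 5, 6, 7, 10, 2, 3, 4, 5, 6, 7, 10, 2, 3, 4, 5, 6, 7, 10, 2, 3, 4, 5, 6, 7, 10, 2, 3, 4, 5, 6, 7, 10, 2, 3, 4, 5, 6, 7, 10, 2, 3, 4, 5, 6, 7, 10], 78, 7, (fun _ v => v), (fun off v => (stp10 off (stp7 off (stp6 off (stp5 off (stp4 off (stp3 off (stp2 off (stp10 off (stp7 off (stp6 off (stp5 off (stp4 off (stp3 off (stp2 off (stp10 off (stp7 off (stp6 off (stp5 off (stp4 off (stp3 off (stp2 off (stp10 off (stp7 off (stp6 off (stp5 off (stp4 off (stp3 off (stp2 off (stp10 off (stp7 off (stp6 off (stp5 off (stp4 off (stp3 off (stp2 off (stp10 off (stp7 off (stp6 off (stp5 off (stp4 off (stp3 off (stp2 off (stp10 off (stp7 off (stp6 off (stp5 off (stp4 off (stp3 off (stp2 off (stp10 off (stp7 off (stp6 off (stp5 off (stp4 off (stp3 off (stp2 off (stp0 off (stp10 off (stp7 off (stp6 off (stp5 off (stp4 off (stp3 off v)))))))))))))))))))))))))))))))))))))))))))))))))))))))))))))))),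 (fun v _ _ => v), fun _ _ => rfl, fun _ _ => rfl⟩
def lf2_17 : Leaf (walkS st) := ⟨[], [3, 4, 5, 11, 10, 5, 9, 8, 7, 6, 5, 0, 1, 2, 3, 4, 5, 11, 10, 5, 9, 8, 7, 6, 5, 0, 1, 2, 3, 4, 5, 11, 10, 5, 9, 8, 7, 6, 5, 0, 1, 2, 3, 4, 5, 11, 10, 5, 9, 8, 7, 6, 5, 0, 1, 2, 3, 4, 5, 11, 10, 5, 9, 8, 7, 6, 5, 0, 1, 2, 3, 4, 5, 11, 10, 5, 9, 8, 7, 6, 5, 0, 1, 2, 3, 4, 5, 11, 10, 5, 9, 8, 7, 6, 5, 0, 1, 2, 3, 4, 5, 11, 10, 5, 9, 8, 7, 6, 5, 0, 1, 2, 3, 4, 5, 11, 10, 5, 9, 8, 7, 6, 5, 0, 1, 2, 3, 4, 5, 11, 10, 5, 9, 8, 7, 6, 5, 0, 1, 2, 3, 4, 5, 11, 10, 5, 9, 8, 7, 6, 5, 0, 1, 2, 3, 4, 5, 11, 10, 5, 9, 8, 7, 6, 5, 0, 1, 2, 3, 4, 5, 11, 10, 5, 9, 8, 7, 6, 5, 0, 1, 2, 3, 4, 5, 11, 10, 5, 9, 8, 7, 6, 5, 0, 1, 2, 3, 4, 5, 11, 10, 5, 9, 8, 7, 6, 5, 0, 1, 2, 3, 4, 5, 11, 10, 5, 9, 8, 7, 6, 5, 0, 1, 2, 3, 4, 5, 11, 10, 5, 9, 8, 7, 6, 5, 0, 1], 79, 3, (fun _ v => v), (fun off v => (stp1 off (stp0 off (stp5 off (stp6 off (stp7 off (stp8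 off (stp9 off (stp5 off (stp10 off (stp11 off (stp5 off (stp4 off (stp3 off (stp2 off (stp1 off (stp0 off (stp5 off (stp6 off (stp7 off (stp8 off (stp9 off (stp5 off (stp10 off (stp11 off (stp5 off (stp4 off (stp3 off (stp2 off (stp1 off (stp0 off (stp5 off (stp6 off (stp7 off (stp8 off (stp9 off (stp5 off (stp10 off (stp11 off (stp5 off (stp4 off (stp3 off (stp2 off (stp1 off (stp0 off (stp5 off (stp6 off (stp7 off (stp8 off (stp9 off (stp5 off (stp10 off (stp11 off (stp5 off (stp4 off (stp3 off (stp2 off (stp1 off (stp0 off (stp5 off (stp6 off (stp7 off (stp8 off (stp9 off (stp5 off (stp10 off (stp11 off (stp5 off (stp4 off (stp3 off (stp2 off (stp1 off (stp0 off (stp5 off (stp6 off (stp7 off (stp8 off (stp9 off (stp5 off (stp10 off (stp11 off (stp5 off (stp4 off (stp3 off (stp2 off (stp1 off (stp0 off (stp5 off (stp6 off (stp7 off (stp8 off (stp9 off (stp5 off (stp10 off (stp11 off (stp5 off (stp4 off (stp3 off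 (stp2 off (stp1 off (stp0 off (stp5 off (stp6 off (stp7 off (stp8 off (stp9 off (stp5 off (stp10 off (stp11 off (stp5 off (stp4 off (stp3 off (stp2 off (stp1 off (stp0 off (stp5 off (stp6 off (stp7 off (stp8 off (stp9 off (stp5 off (stp10 off (stp11 off (stp5 off (stp4 off (stp3 off (stp2 off (stp1 off (stp0 off (stp5 off (stp6 off (stp7 off (stp8 off (stp9 off (stp5 off (stp10 off (stp11 off (stp5 off (stp4 off (stp3 off (stp2 off (stp1 off (stp0 off (stp5 off (stp6 off (stp7 off (stp8 off (stp9 off (stp5 off (stp10 off (stp11 off (stp5 off (stp4 off (stp3 off (stp2 off (stp1 off (stp0 off (stp5 off (stp6 off (stp7 off (stp8 off (stp9 off (stp5 off (stp10 off (stp11 off (stp5 off (stp4 off (stp3 off (stp2 off (stp1 off (stp0 off (stp5 off (stp6 off (stp7 off (stp8 off (stp9 off (stp5 off (stp10 off (stp11 off (stp5 off (stp4 off (stp3 off (stp2 off (stp1 off (stp0 off (stp5 off (stp6 off (stp7 off (stp8 off (stp9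 off (stp5 off (stp10 off (stp11 off (stp5 off (stp4 off (stp3 off (stp2 off (stp1 off (stp0 off (stp5 off (stp6 off (stp7 off (stp8 off (stp9 off (stp5 off (stp10 off (stp11 off (stp5 off (stp4 off (stp3 off (stp2 off (stp1 off (stp0 off (stp5 off (stp6 off (stp7 off (stp8 off (stp9 off (stp5 off (stp10 off (stp11 off (stp5 off (stp4 off (stp3 off (stp2 off (stp1 off (stp0 off (stp5 off (stp6 off (stp7 off (stp8 off (stp9 off (stp5 off (stp10 off (stp11 off (stp5 off (stp4 off (stp3 off v)))))))))))))))))))))))))))))))))))))))))))))))))))))))))))))))))))))))))))))))))))))))))))))))))))))))))))))))))))))))))))))))))))))))))))))))))))))))))))))))))))))))))))))))))))))))))))))))))))))))))))))))))))))))))))))))))))))))))))))), (fun v _ _ => v), fun _ _ => rfl, fun _ _ => rfl⟩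
def lf2_18 : Leaf (walkS st) := ⟨[], [3, 4, 5, 6, 7, 10, 2, 3, 4, 5, 6, 7, 10, 2, 3, 4, 5, 6, 7, 10, 2, 3, 4, 5, 6, 7, 10, 2, 3, 4, 5, 6, 7, 10, 2, 3, 4, 5, 6, 7, 10, 2, 3, 4, 5, 6, 7, 10, 2, 3, 4, 5, 6, 7, 10, 2, 3, 4, 5, 6, 7, 10, 0], 78, 63, (fun _ v => v), (fun off v => (stp0 off (stp10 off (stp7 off (stp6 off (stp5 off (stp4 off (stp3 off (stp2 off (stp10 off (stp7 off (stp6 off (stp5 off (stp4 off (stp3 off (stp2 off (stp10 off (stp7 off (stp6 off (stp5 off (stp4 off (stp3 off (stp2 off (stp10 off (stp7 off (stp6 off (stp5 off (stp4 off (stp3 off (stp2 off (stp10 off (stp7 off (stp6 off (stp5 off (stp4 off (stp3 off (stp2 off (stp10 off (stp7 off (stp6 off (stp5 off (stp4 off (stp3 off (stp2 off (stp10 off (stp7 off (stp6 off (stp5 off (stp4 off (stp3 off (stp2 off (stp10 off (stp7 off (stp6 off (stp5 off (stp4 off (stp3 off (stp2 off (stp10 off (stp7 off (stp6 off (stp5 off (stp4 off (stp3 off v)))))))))))))))))))))))))))))))))))))))))))))))))))))))))))))))),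 (fun v _ _ => v), fun _ _ => rfl, fun _ _ => rfl⟩
def lf2_19 : Leaf (walkS st) := ⟨[12, 12], [2], 2, 0, (fun off v => (stp12 off (stp12 off v))), (fun off v => (stp2 off v)), (fun _ _ p => p), fun _ _ => rfl, fun _ _ => rfl⟩
def lf2_20 : Leaf (walkS st) := ⟨[], [], 0, 0, (fun _ v => v), (fun _ v => v), (fun _ _ _ => 1), fun _ _ => rfl, fun _ _ => rfl⟩
def lf2_21 : Leaf (walkS st) := ⟨[], [0, 10, 7, 6, 5, 4, 3, 2, 10, 7, 6, 5, 4, 3, 2, 10, 7, 6, 5, 4, 3, 2, 10, 7, 6, 5, 4, 3, 2, 10, 7, 6, 5, 4, 3, 2, 10, 7, 6, 5, 4, 3, 2, 10, 7, 6, 5, 4, 3, 2, 10, 7, 6, 5, 4, 3, 2, 10, 7, 6, 5, 4, 3], 146, 0, (fun _ v => v), (fun off v => (stp3 off (stp4 off (stp5 off (stp6 off (stp7 off (stp10 off (stp2 off (stp3 off (stp4 off (stp5 off (stp6 off (stp7 off (stp10 off (stp2 off (stp3 off (stp4 off (stp5 off (stp6 off (stp7 off (stp10 off (stp2 off (stp3 off (stp4 off (stp5 off (stp6 off (stp7 off (stp10 off (stp2 off (stp3 off (stp4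 off (stp5 off (stp6 off (stp7 off (stp10 off (stp2 off (stp3 off (stp4 off (stp5 off (stp6 off (stp7 off (stp10 off (stp2 off (stp3 off (stp4 off (stp5 off (stp6 off (stp7 off (stp10 off (stp2 off (stp3 off (stp4 off (stp5 off (stp6 off (stp7 off (stp10 off (stp2 off (stp3 off (stp4 off (stp5 off (stp6 off (stp7 off (stp10 off (stp0 off v)))))))))))))))))))))))))))))))))))))))))))))))))))))))))))))))), (fun v _ _ => v), fun _ _ => rfl, fun _ _ => rfl⟩
def lf2_22 : Leaf (walkS st) := ⟨[], [3, 4, 5, 6, 7, 10, 2, 3, 4, 5, 6, 7, 10, 2, 3, 4, 5, 6, 7, 10, 2, 3, 4, 5, 6, 7, 10, 2, 3, 4, 5, 6, 7, 10, 2, 3, 4, 5, 6, 7, 10, 2, 3, 4, 5, 6, 7, 10, 0, 2, 3, 4, 5, 6, 7, 10, 2, 3, 4, 5, 6, 7, 10], 78, 49, (fun _ v => v), (fun off v => (stp10 off (stp7 off (stp6 off (stp5 off (stp4 off (stp3 off (stp2 off (stp10 off (stp7 off (stp6 off (stp5 off (stp4 off (stp3 off (stp2 off (stp0 off (stp10 off (stp7 off (stp6 off (stp5 off (stp4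 off (stp3 off (stp2 off (stp10 off (stp7 off (stp6 off (stp5 off (stp4 off (stp3 off (stp2 off (stp10 off (stp7 off (stp6 off (stp5 off (stp4 off (stp3 off (stp2 off (stp10 off (stp7 off (stp6 off (stp5 off (stp4 off (stp3 off (stp2 off (stp10 off (stp7 off (stp6 off (stp5 off (stp4 off (stp3 off (stp2 off (stp10 off (stp7 off (stp6 off (stp5 off (stp4 off (stp3 off (stp2 off (stp10 off (stp7 off (stp6 off (stp5 off (stp4 off (stp3 off v)))))))))))))))))))))))))))))))))))))))))))))))))))))))))))))))), (fun v _ _ => v), fun _ _ => rfl, fun _ _ => rfl⟩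
def lf2_23 : Leaf (walkS st) := ⟨[], [3, 4, 5, 6, 7, 10, 2, 3, 4, 5, 6, 7, 10, 2, 3, 4, 5, 6, 7, 10, 0, 2, 3, 4, 5, 6, 7, 10, 2, 3, 4, 5, 6, 7, 10, 2, 3, 4, 5, 6, 7, 10, 2, 3, 4, 5, 6, 7, 10, 2, 3, 4, 5, 6, 7, 10, 2, 3, 4, 5, 6, 7, 10], 78, 21, (fun _ v => v), (fun off v => (stp10 off (stp7 off (stp6 off (stp5 off (stp4 off (stp3 off (stp2 off (stp10 off (stp7 off (stp6 off (stp5 off (stp4 off (stp3 off (stp2 off (stp10 off (stp7 off (stp6 off (stp5 off (stp4 off (stp3 off (stp2 off (stp10 off (stp7 off (stp6 off (stp5 off (stp4 off (stp3 off (stp2 off (stp10 off (stp7 off (stp6 off (stp5 off (stp4 off (stp3 off (stp2 off (stp10 off (stp7 off (stp6 off (stp5 off (stp4 off (stp3 off (stp2 off (stp0 off (stp10 off (stp7 off (stp6 off (stp5 off (stp4 off (stp3 off (stp2 off (stp10 off (stp7 off (stp6 off (stp5 off (stp4 off (stp3 off (stp2 off (stp10 off (stp7 off (stp6 off (stp5 off (stp4 off (stp3 off v)))))))))))))))))))))))))))))))))))))))))))))))))))))))))))))))),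 (fun v _ _ => v), fun _ _ => rfl, fun _ _ => rfl⟩
def lf2_24 : Leaf (walkS st) := ⟨[], [3, 4, 5, 6, 7, 10, 2, 3, 4, 5, 6, 7, 10, 2, 3, 4, 5, 6, 7, 10, 2, 3, 4, 5, 6, 7, 10, 0, 2, 3, 4, 5, 6, 7, 10, 2, 3, 4, 5, 6, 7, 10, 2, 3, 4, 5, 6, 7, 10, 2, 3, 4, 5, 6, 7, 10, 2, 3, 4, 5, 6, 7, 10], 78, 28, (fun _ v => v), (fun off v => (stp10 off (stp7 off (stp6 off (stp5 off (stp4 off (stp3 off (stp2 off (stp10 off (stp7 off (stp6 off (stp5 off (stp4 off (stp3 off (stp2 off (stp10 off (stp7 off (stp6 off (stp5 off (stp4 off (stp3 off (stp2 off (stp10 off (stp7 off (stp6 off (stp5 off (stp4 off (stp3 off (stp2 off (stp10 off (stp7 off (stp6 off (stp5 off (stp4 off (stp3 off (stp2 off (stp0 off (stp10 off (stp7 off (stp6 off (stp5 off (stp4 off (stp3 off (stp2 off (stp10 off (stp7 off (stp6 off (stp5 off (stp4 off (stp3 off (stp2 off (stp10 off (stp7 off (stp6 off (stp5 off (stp4 off (stp3 off (stp2 off (stp10 off (stp7 off (stp6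 off (stp5 off (stp4 off (stp3 off v)))))))))))))))))))))))))))))))))))))))))))))))))))))))))))))))), (fun v _ _ => v), fun _ _ => rfl, fun _ _ => rfl⟩
def tree2 : RTree (walkS st) :=
  (.node 1 (.fork lf2_0) (.node 4 (.node 2 (.fork lf2_1) (.node 3 (.fork lf2_2) (.fork lf2_3))) (.node 6 (.node 5 (.fork lf2_4) (.fork lf2_5)) (.node 8 (.node 7 (.fork lf2_6) (.fork lf2_7)) (.node 10 (.node 9 .tleaf (.fork lf2_9)) (.node 11 (.fork lf2_10) (.node 12 (.fork lf2_11) (.node 13 (.fork lf2_12) (.node 14 (.fork lf2_13) (.node 15 (.fork lf2_14) (.node 16 (.fork lf2_15) (.node 17 (.fork lf2_16) (.node 19 (.node 18 (.fork lf2_17) (.fork lf2_18)) (.node 21 (.node 20 (.fork lf2_19) (.sub lf2_20)) (.node 23 (.node 22 (.fork lf2_21) (.fork lf2_22)) (.node 24 (.fork lf2_23) (.fork lf2_24)))))))))))))))))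
def lf3_0 : Leaf (walkS st) := ⟨[3], [], 3, 0, (fun off v => (stp3 off v)), (fun _ v => v), (fun _ u _ => u), fun _ _ => rfl, fun _ _ => rfl⟩
def lf3_1 : Leaf (walkS st) := ⟨[], [10, 3, 10], 48, 2, (fun _ v => v), (fun off v => (stp10 off (stp3 off (stp10 off v)))), (fun v _ _ => v), fun _ _ => rfl, fun _ _ => rfl⟩
def lf3_2 : Leaf (walkS st) := ⟨[], [11, 3, 11], 49, 2, (fun _ v => v), (fun off v => (stp11 off (stp3 off (stp11 off v)))), (fun v _ _ => v), fun _ _ => rfl, fun _ _ => rfl⟩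
def lf3_3 : Leaf (walkS st) := ⟨[], [5, 3, 5], 43, 2, (fun _ v => v), (fun off v => (stp5 off (stp3 off (stp5 off v)))), (fun v _ _ => v), fun _ _ => rfl, fun _ _ => rfl⟩
def lf3_4 : Leaf (walkS st) := ⟨[], [6, 3, 6], 44, 2, (fun _ v => v), (fun off v => (stp6 off (stp3 off (stp6 off v)))), (fun v _ _ => v), fun _ _ => rfl, fun _ _ => rfl⟩
def lf3_5 : Leaf (walkS st) := ⟨[], [7, 3, 7], 45, 2, (fun _ v => v), (fun off v => (stp7 off (stp3 off (stp7 off v)))), (fun v _ _ => v), fun _ _ => rfl, fun _ _ => rfl⟩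
def lf3_7 : Leaf (walkS st) := ⟨[], [8, 3, 8], 46, 2, (fun _ v => v), (fun off v => (stp8 off (stp3 off (stp8 off v)))), (fun v _ _ => v), fun _ _ => rfl, fun _ _ => rfl⟩
def lf3_8 : Leaf (walkS st) := ⟨[], [4, 3, 4, 3, 4], 42, 2, (fun _ v => v), (fun off v => (stp4 off (stp3 off (stp4 off (stp3 off (stp4 off v)))))), (fun v _ _ => v), fun _ _ => rfl, fun _ _ => rfl⟩
def lf3_9 : Leaf (walkS st) := ⟨[], [9, 3, 9], 47, 2, (fun _ v => v), (fun off v => (stp9 off (stp3 off (stp9 off v)))), (fun v _ _ => v), fun _ _ => rfl, fun _ _ => rfl⟩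
def lf3_10 : Leaf (walkS st) := ⟨[], [2, 3, 2, 3, 2], 33, 1, (fun _ v => v), (fun off v => (stp2 off (stp3 off (stp2 off (stp3 off (stp2 off v)))))), (fun v _ _ => v), fun _ _ => rfl, fun _ _ => rfl⟩
def lf3_11 : Leaf (walkS st) := ⟨[], [1, 3, 1], 24, 1, (fun _ v => v), (fun off v => (stp1 off (stp3 off (stp1 off v)))), (fun v _ _ => v), fun _ _ => rfl, fun _ _ => rfl⟩
def lf3_12 : Leaf (walkS st) := ⟨[], [0, 3, 0], 14, 1, (fun _ v => v), (fun off v => (stp0 off (stp3 off (stp0 off v)))), (fun v _ _ => v), fun _ _ => rfl, fun _ _ => rfl⟩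
def lf3_13 : Leaf (walkS st) := ⟨[12], [3], 3, 0, (fun off v => (stp12 off v)), (fun off v => (stp3 off v)), (fun _ _ p => p), fun _ _ => rfl, fun _ _ => rfl⟩
def lf3_14 : Leaf (walkS st) := ⟨[], [12, 3], 3, 0, (fun _ v => v), (fun off v => (stp3 off (stp12 off v))), (fun v _ _ => v), fun _ _ => rfl, fun _ _ => rfl⟩
def lf3_15 : Leaf (walkS st) := ⟨[3, 12], [], 3, 0, (fun off v => (stp12 off (stp3 off v))), (fun _ v => v), (fun _ u _ => u), fun _ _ => rfl, fun _ _ => rfl⟩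
def lf3_16 : Leaf (walkS st) := ⟨[], [4, 5, 6, 7, 10, 0, 2, 3, 4, 5, 6, 7, 10, 2, 3, 4, 5, 6, 7, 10, 2, 3, 4, 5, 6, 7, 10, 2, 3, 4, 5, 6, 7, 10, 2, 3, 4, 5, 6, 7, 10, 2, 3, 4, 5, 6, 7, 10, 2, 3, 4, 5, 6, 7, 10, 2, 3, 4, 5, 6, 7, 10, 2], 78, 6, (fun _ v => v), (fun off v => (stp2 off (stp10 off (stp7 off (stp6 off (stp5 off (stp4 off (stp3 off (stp2 off (stp10 off (stp7 off (stp6 off (stp5 off (stp4 off (stp3 off (stp2 off (stp10 off (stp7 off (stp6 off (stp5 off (stp4 off (stp3 off (stp2 off (stp10 off (stp7 off (stp6 off (stp5 off (stp4 off (stp3 off (stp2 off (stp10 off (stp7 off (stp6 off (stp5 off (stp4 off (stp3 off (stp2 off (stp10 off (stp7 off (stp6 off (stp5 off (stp4 off (stp3 off (stp2 off (stp10 off (stp7 off (stp6 off (stp5 off (stp4 off (stp3 off (stp2 off (stp10 off (stp7 off (stp6 off (stp5 off (stp4 off (stp3 off (stp2 off (stp0 off (stp10 off (stp7 off (stp6 off (stp5 off (stp4 off v)))))))))))))))))))))))))))))))))))))))))))))))))))))))))))))))),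 (fun v _ _ => v), fun _ _ => rfl, fun _ _ => rfl⟩
def lf3_17 : Leaf (walkS st) := ⟨[], [4, 5, 6, 7, 10, 2, 3, 4, 5, 6, 7, 10, 2, 3, 4, 5, 6, 7, 10, 0, 2, 3, 4, 5, 6, 7, 10, 2, 3, 4, 5, 6, 7, 10, 2, 3, 4, 5, 6, 7, 10, 2, 3, 4, 5, 6, 7, 10, 2, 3, 4, 5, 6, 7, 10, 2, 3, 4, 5, 6, 7, 10, 2], 78, 20, (fun _ v => v), (fun off v => (stp2 off (stp10 off (stp7 off (stp6 off (stp5 off (stp4 off (stp3 off (stp2 off (stp10 off (stp7 off (stp6 off (stp5 off (stp4 off (stp3 off (stp2 off (stp10 off (stp7 off (stp6 off (stp5 off (stp4 off (stp3 off (stp2 off (stp10 off (stp7 off (stp6 off (stp5 off (stp4 off (stp3 off (stp2 off (stp10 off (stp7 off (stp6 off (stp5 off (stp4 off (stp3 off (stp2 off (stp10 off (stp7 off (stp6 off (stp5 off (stp4 off (stp3 off (stp2 off (stp0 off (stp10 off (stp7 off (stp6 off (stp5 off (stp4 off (stp3 off (stp2 off (stp10 off (stp7 off (stp6 off (stp5 off (stp4 off (stp3 off (stp2 off (stp10 off (stp7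 off (stp6 off (stp5 off (stp4 off v)))))))))))))))))))))))))))))))))))))))))))))))))))))))))))))))), (fun v _ _ => v), fun _ _ => rfl, fun _ _ => rfl⟩
def lf3_18 : Leaf (walkS st) := ⟨[3, 12, 12], [], 3, 0, (fun off v => (stp12 off (stp12 off (stp3 off v)))), (fun _ v => v), (fun _ u _ => u), fun _ _ => rfl, fun _ _ => rfl⟩
def lf3_19 : Leaf (walkS st) := ⟨[], [], 1, 0, (fun _ v => v), (fun _ v => v), (fun _ _ _ => 1), fun _ _ => rfl, fun _ _ => rfl⟩
def lf3_20 : Leaf (walkS st) := ⟨[], [4, 5, 6, 7, 10, 2, 3, 4, 5, 6, 7, 10, 2, 3, 4, 5, 6, 7, 10, 2, 3, 4, 5, 6, 7, 10, 0, 2, 3, 4, 5, 6, 7, 10, 2, 3, 4, 5, 6, 7, 10, 2, 3, 4, 5, 6, 7, 10, 2, 3, 4, 5, 6, 7, 10, 2, 3, 4, 5, 6, 7, 10, 2], 78, 27, (fun _ v => v), (fun off v => (stp2 off (stp10 off (stp7 off (stp6 off (stp5 off (stp4 off (stp3 off (stp2 off (stp10 off (stp7 off (stp6 off (stp5 off (stp4 off (stp3 off (stp2 off (stp10 off (stp7 off (stp6 off (stp5 off (stp4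 off (stp3 off (stp2 off (stp10 off (stp7 off (stp6 off (stp5 off (stp4 off (stp3 off (stp2 off (stp10 off (stp7 off (stp6 off (stp5 off (stp4 off (stp3 off (stp2 off (stp0 off (stp10 off (stp7 off (stp6 off (stp5 off (stp4 off (stp3 off (stp2 off (stp10 off (stp7 off (stp6 off (stp5 off (stp4 off (stp3 off (stp2 off (stp10 off (stp7 off (stp6 off (stp5 off (stp4 off (stp3 off (stp2 off (stp10 off (stp7 off (stp6 off (stp5 off (stp4 off v)))))))))))))))))))))))))))))))))))))))))))))))))))))))))))))))), (fun v _ _ => v), fun _ _ => rfl, fun _ _ => rfl⟩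
def lf3_21 : Leaf (walkS st) := ⟨[12, 12], [3], 3, 0, (fun off v => (stp12 off (stp12 off v))), (fun off v => (stp3 off v)), (fun _ _ p => p), fun _ _ => rfl, fun _ _ => rfl⟩
def lf3_22 : Leaf (walkS st) := ⟨[], [4, 5, 6, 7, 10, 2, 3, 4, 5, 6, 7, 10, 2, 3, 4, 5, 6, 7, 10, 2, 3, 4, 5, 6, 7, 10, 2, 3, 4, 5, 6, 7, 10, 2, 3, 4, 5, 6, 7, 10, 2, 3, 4, 5, 6, 7, 10, 0, 2, 3, 4, 5, 6, 7, 10, 2, 3, 4, 5, 6, 7, 10, 2], 78, 48, (fun _ v => v), (fun off v => (stp2 off (stp10 off (stp7 off (stp6 off (stp5 off (stp4 off (stp3 off (stp2 off (stp10 off (stp7 off (stp6 off (stp5 off (stp4 off (stp3 off (stp2 off (stp0 off (stp10 off (stp7 off (stp6 off (stp5 off (stp4 off (stp3 off (stp2 off (stp10 off (stp7 off (stp6 off (stp5 off (stp4 off (stp3 off (stp2 off (stp10 off (stp7 off (stp6 off (stp5 off (stp4 off (stp3 off (stp2 off (stp10 off (stp7 off (stp6 off (stp5 off (stp4 off (stp3 off (stp2 off (stp10 off (stp7 off (stp6 off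 (stp5 off (stp4 off (stp3 off (stp2 off (stp10 off (stp7 off (stp6 off (stp5 off (stp4 off (stp3 off (stp2 off (stp10 off (stp7 off (stp6 off (stp5 off (stp4 off v)))))))))))))))))))))))))))))))))))))))))))))))))))))))))))))))), (fun v _ _ => v), fun _ _ => rfl, fun _ _ => rfl⟩
def lf3_23 : Leaf (walkS st) := ⟨[], [4, 5, 6, 7, 10, 2, 3, 4, 5, 6, 7, 10, 2, 3, 4, 5, 6, 7, 10, 2, 3, 4, 5, 6, 7, 10, 2, 3, 4, 5, 6, 7, 10, 2, 3, 4, 5, 6, 7, 10, 2, 3, 4, 5, 6, 7, 10, 2, 3, 4, 5, 6, 7, 10, 2, 3, 4, 5, 6, 7, 10, 0, 2], 78, 62, (fun _ v => v), (fun off v => (stp2 off (stp0 off (stp10 off (stp7 off (stp6 off (stp5 off (stp4 off (stp3 off (stp2 off (stp10 off (stp7 off (stp6 off (stp5 off (stp4 off (stp3 off (stp2 off (stp10 off (stp7 off (stp6 off (stp5 off (stp4 off (stp3 off (stp2 off (stp10 off (stp7 off (stp6 off (stp5 off (stp4 off (stp3 off (stp2 off (stp10 off (stp7 off (stp6 off (stp5 off (stp4 off (stp3 off (stp2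 off (stp10 off (stp7 off (stp6 off (stp5 off (stp4 off (stp3 off (stp2 off (stp10 off (stp7 off (stp6 off (stp5 off (stp4 off (stp3 off (stp2 off (stp10 off (stp7 off (stp6 off (stp5 off (stp4 off (stp3 off (stp2 off (stp10 off (stp7 off (stp6 off (stp5 off (stp4 off v)))))))))))))))))))))))))))))))))))))))))))))))))))))))))))))))), (fun v _ _ => v), fun _ _ => rfl, fun _ _ => rfl⟩
def lf3_24 : Leaf (walkS st) := ⟨[], [4, 5, 6, 7, 10, 2, 3, 4, 5, 6, 7, 10, 0, 2, 3, 4, 5, 6, 7, 10, 2, 3, 4, 5, 6, 7, 10, 2, 3, 4, 5, 6, 7, 10, 2, 3, 4, 5, 6, 7, 10, 2, 3, 4, 5, 6, 7, 10, 2, 3, 4, 5, 6, 7, 10, 2, 3, 4, 5, 6, 7, 10, 2], 78, 13, (fun _ v => v), (fun off v => (stp2 off (stp10 off (stp7 off (stp6 off (stp5 off (stp4 off (stp3 off (stp2 off (stp10 off (stp7 off (stp6 off (stp5 off (stp4 off (stp3 off (stp2 off (stp10 off (stp7 off (stp6 off (stp5 off (stp4 off (stp3 off (stp2 off (stp10 off (stp7 off (stp6 off (stp5 off (stp4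 off (stp3 off (stp2 off (stp10 off (stp7 off (stp6 off (stp5 off (stp4 off (stp3 off (stp2 off (stp10 off (stp7 off (stp6 off (stp5 off (stp4 off (stp3 off (stp2 off (stp10 off (stp7 off (stp6 off (stp5 off (stp4 off (stp3 off (stp2 off (stp0 off (stp10 off (stp7 off (stp6 off (stp5 off (stp4 off (stp3 off (stp2 off (stp10 off (stp7 off (stp6 off (stp5 off (stp4 off v)))))))))))))))))))))))))))))))))))))))))))))))))))))))))))))))), (fun v _ _ => v), fun _ _ => rfl, fun _ _ => rfl⟩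
def tree3 : RTree (walkS st) :=
  (.node 1 (.fork lf3_0) (.node 4 (.node 2 (.fork lf3_1) (.node 3 (.fork lf3_2) (.fork lf3_3))) (.node 6 (.node 5 (.fork lf3_4) (.fork lf3_5)) (.node 8 (.node 7 .tleaf (.fork lf3_7)) (.node 9 (.fork lf3_8) (.node 10 (.fork lf3_9) (.node 11 (.fork lf3_10) (.node 12 (.fork lf3_11) (.node 13 (.fork lf3_12) (.node 14 (.fork lf3_13) (.node 15 (.fork lf3_14) (.node 16 (.fork lf3_15) (.node 17 (.fork lf3_16) (.node 19 (.node 18 (.fork lf3_17) (.fork lf3_18)) (.node 22 (.node 20 (.sub lf3_19) (.node 21 (.fork lf3_20) (.fork lf3_21))) (.node 23 (.fork lf3_22) (.node 24 (.fork lf3_23) (.fork lf3_24))))))))))))))))))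
def lf4_0 : Leaf (walkS st) := ⟨[4], [], 4, 0, (fun off v => (stp4 off v)), (fun _ v => v), (fun _ u _ => u), fun _ _ => rfl, fun _ _ => rfl⟩
def lf4_1 : Leaf (walkS st) := ⟨[], [10, 4, 10], 55, 2, (fun _ v => v), (fun off v => (stp10 off (stp4 off (stp10 off v)))), (fun v _ _ => v), fun _ _ => rfl, fun _ _ => rfl⟩
def lf4_2 : Leaf (walkS st) := ⟨[], [11, 4, 11], 56, 2, (fun _ v => v), (fun off v => (stp11 off (stp4 off (stp11 off v)))), (fun v _ _ => v), fun _ _ => rfl, fun _ _ => rfl⟩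
def lf4_4 : Leaf (walkS st) := ⟨[], [6, 4, 6], 51, 2, (fun _ v => v), (fun off v => (stp6 off (stp4 off (stp6 off v)))), (fun v _ _ => v), fun _ _ => rfl, fun _ _ => rfl⟩
def lf4_5 : Leaf (walkS st) := ⟨[], [7, 4, 7], 52, 2, (fun _ v => v), (fun off v => (stp7 off (stp4 off (stp7 off v)))), (fun v _ _ => v), fun _ _ => rfl, fun _ _ => rfl⟩
def lf4_6 : Leaf (walkS st) := ⟨[], [5, 4, 5, 4, 5], 50, 2, (fun _ v => v), (fun off v => (stp5 off (stp4 off (stp5 off (stp4 off (stp5 off v)))))), (fun v _ _ => v), fun _ _ => rfl, fun _ _ => rfl⟩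
def lf4_7 : Leaf (walkS st) := ⟨[], [8, 4, 8], 53, 2, (fun _ v => v), (fun off v => (stp8 off (stp4 off (stp8 off v)))), (fun v _ _ => v), fun _ _ => rfl, fun _ _ => rfl⟩
def lf4_8 : Leaf (walkS st) := ⟨[], [3, 4, 3, 4, 3], 42, 1, (fun _ v => v), (fun off v => (stp3 off (stp4 off (stp3 off (stp4 off (stp3 off v)))))), (fun v _ _ => v), fun _ _ => rfl, fun _ _ => rfl⟩
def lf4_9 : Leaf (walkS st) := ⟨[], [9, 4, 9], 54, 2, (fun _ v => v), (fun off v => (stp9 off (stp4 off (stp9 off v)))), (fun v _ _ => v), fun _ _ => rfl, fun _ _ => rfl⟩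
def lf4_10 : Leaf (walkS st) := ⟨[], [2, 4, 2], 34, 1, (fun _ v => v), (fun off v => (stp2 off (stp4 off (stp2 off v)))), (fun v _ _ => v), fun _ _ => rfl, fun _ _ => rfl⟩
def lf4_11 : Leaf (walkS st) := ⟨[], [1, 4, 1], 25, 1, (fun _ v => v), (fun off v => (stp1 off (stp4 off (stp1 off v)))), (fun v _ _ => v), fun _ _ => rfl, fun _ _ => rfl⟩
def lf4_12 : Leaf (walkS st) := ⟨[12], [4], 4, 0, (fun off v => (stp12 off v)), (fun off v => (stp4 off v)), (fun _ _ p => p), fun _ _ => rfl, fun _ _ => rfl⟩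
def lf4_13 : Leaf (walkS st) := ⟨[], [0, 4, 0], 15, 1, (fun _ v => v), (fun off v => (stp0 off (stp4 off (stp0 off v)))), (fun v _ _ => v), fun _ _ => rfl, fun _ _ => rfl⟩
def lf4_14 : Leaf (walkS st) := ⟨[], [12, 4], 4, 0, (fun _ v => v), (fun off v => (stp4 off (stp12 off v))), (fun v _ _ => v), fun _ _ => rfl, fun _ _ => rfl⟩
def lf4_15 : Leaf (walkS st) := ⟨[4, 12], [], 4, 0, (fun off v => (stp12 off (stp4 off v))), (fun _ v => v), (fun _ u _ => u), fun _ _ => rfl, fun _ _ => rfl⟩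
def lf4_16 : Leaf (walkS st) := ⟨[], [5, 6, 7, 10, 0, 2, 3, 4, 5, 6, 7, 10, 2, 3, 4, 5, 6, 7, 10, 2, 3, 4, 5, 6, 7, 10, 2, 3, 4, 5, 6, 7, 10, 2, 3, 4, 5, 6, 7, 10, 2, 3, 4, 5, 6, 7, 10, 2, 3, 4, 5, 6, 7, 10, 2, 3, 4, 5, 6, 7, 10, 2, 3], 78, 5, (fun _ v => v), (fun off v => (stp3 off (stp2 off (stp10 off (stp7 off (stp6 off (stp5 off (stp4 off (stp3 off (stp2 off (stp10 off (stp7 off (stp6 off (stp5 off (stp4 off (stp3 off (stp2 off (stp10 off (stp7 off (stp6 off (stp5 off (stp4 off (stp3 off (stp2 off (stp10 off (stp7 off (stp6 off (stp5 off (stp4 off (stp3 off (stp2 off (stp10 off (stp7 off (stp6 off (stp5 off (stp4 off (stp3 off (stp2 off (stp10 off (stp7 off (stp6 off (stp5 off (stp4 off (stp3 off (stp2 off (stp10 off (stp7 off (stp6 off (stp5 off (stp4 off (stp3 off (stp2 off (stp10 off (stp7 off (stp6 off (stp5 off (stp4 off (stp3 off (stp2 off (stp0 off (stp10 off (stp7 off (stp6 off (stp5 off v)))))))))))))))))))))))))))))))))))))))))))))))))))))))))))))))),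 (fun v _ _ => v), fun _ _ => rfl, fun _ _ => rfl⟩
def lf4_17 : Leaf (walkS st) := ⟨[12, 12], [4], 4, 0, (fun off v => (stp12 off (stp12 off v))), (fun off v => (stp4 off v)), (fun _ _ p => p), fun _ _ => rfl, fun _ _ => rfl⟩
def lf4_18 : Leaf (walkS st) := ⟨[], [5, 11, 10, 5, 9, 8, 7, 6, 5, 0, 1, 2, 3, 4, 5, 11, 10, 5, 9, 8, 7, 6, 5, 0, 1, 2, 3, 4, 5, 11, 10, 5, 9, 8, 7, 6, 5, 0, 1, 2, 3, 4, 5, 11, 10, 5, 9, 8, 7, 6, 5, 0, 1, 2, 3, 4, 5, 11, 10, 5, 9, 8, 7, 6, 5, 0, 1, 2, 3, 4, 5, 11, 10, 5, 9, 8, 7, 6, 5, 0, 1, 2, 3, 4, 5, 11, 10, 5, 9, 8, 7, 6, 5, 0, 1, 2, 3, 4, 5, 11, 10, 5, 9, 8, 7, 6, 5, 0, 1, 2, 3, 4, 5, 11, 10, 5, 9, 8, 7, 6, 5, 0, 1, 2, 3, 4, 5, 11, 10, 5, 9, 8, 7, 6, 5, 0, 1, 2, 3, 4, 5, 11, 10, 5, 9, 8, 7, 6, 5, 0, 1, 2, 3, 4, 5, 11, 10, 5, 9, 8, 7, 6, 5, 0, 1, 2, 3, 4, 5, 11, 10, 5, 9, 8, 7, 6, 5, 0, 1, 2, 3, 4, 5, 11, 10, 5, 9, 8, 7, 6, 5, 0, 1, 2, 3, 4, 5, 11, 10, 5, 9, 8, 7, 6, 5, 0, 1, 2, 3, 4, 5,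 11, 10, 5, 9, 8, 7, 6, 5, 0, 1, 2, 3, 4, 5, 11, 10, 5, 9, 8, 7, 6, 5, 0, 1, 2, 3], 79, 1, (fun _ v => v), (fun off v => (stp3 off (stp2 off (stp1 off (stp0 off (stp5 off (stp6 off (stp7 off (stp8 off (stp9 off (stp5 off (stp10 off (stp11 off (stp5 off (stp4 off (stp3 off (stp2 off (stp1 off (stp0 off (stp5 off (stp6 off (stp7 off (stp8 off (stp9 off (stp5 off (stp10 off (stp11 off (stp5 off (stp4 off (stp3 off (stp2 off (stp1 off (stp0 off (stp5 off (stp6 off (stp7 off (stp8 off (stp9 off (stp5 off (stp10 off (stp11 off (stp5 off (stp4 off (stp3 off (stp2 off (stp1 off (stp0 off (stp5 off (stp6 off (stp7 off (stp8 off (stp9 off (stp5 off (stp10 off (stp11 off (stp5 off (stp4 off (stp3 off (stp2 off (stp1 off (stp0 off (stp5 off (stp6 off (stp7 off (stp8 off (stp9 off (stp5 off (stp10 off (stp11 off (stp5 off (stp4 off (stp3 off (stp2 off (stp1 off (stp0 off (stp5 off (stp6 off (stp7 off (stp8 off (stp9 off (stp5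 off (stp10 off (stp11 off (stp5 off (stp4 off (stp3 off (stp2 off (stp1 off (stp0 off (stp5 off (stp6 off (stp7 off (stp8 off (stp9 off (stp5 off (stp10 off (stp11 off (stp5 off (stp4 off (stp3 off (stp2 off (stp1 off (stp0 off (stp5 off (stp6 off (stp7 off (stp8 off (stp9 off (stp5 off (stp10 off (stp11 off (stp5 off (stp4 off (stp3 off (stp2 off (stp1 off (stp0 off (stp5 off (stp6 off (stp7 off (stp8 off (stp9 off (stp5 off (stp10 off (stp11 off (stp5 off (stp4 off (stp3 off (stp2 off (stp1 off (stp0 off (stp5 off (stp6 off (stp7 off (stp8 off (stp9 off (stp5 off (stp10 off (stp11 off (stp5 off (stp4 off (stp3 off (stp2 off (stp1 off (stp0 off (stp5 off (stp6 off (stp7 off (stp8 off (stp9 off (stp5 off (stp10 off (stp11 off (stp5 off (stp4 off (stp3 off (stp2 off (stp1 off (stp0 off (stp5 off (stp6 off (stp7 off (stp8 off (stp9 off (stp5 off (stp10 off (stp11 off (stp5 off (stp4 off (stp3 off (stp2 off (stp1 off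 (stp0 off (stp5 off (stp6 off (stp7 off (stp8 off (stp9 off (stp5 off (stp10 off (stp11 off (stp5 off (stp4 off (stp3 off (stp2 off (stp1 off (stp0 off (stp5 off (stp6 off (stp7 off (stp8 off (stp9 off (stp5 off (stp10 off (stp11 off (stp5 off (stp4 off (stp3 off (stp2 off (stp1 off (stp0 off (stp5 off (stp6 off (stp7 off (stp8 off (stp9 off (stp5 off (stp10 off (stp11 off (stp5 off (stp4 off (stp3 off (stp2 off (stp1 off (stp0 off (stp5 off (stp6 off (stp7 off (stp8 off (stp9 off (stp5 off (stp10 off (stp11 off (stp5 off (stp4 off (stp3 off (stp2 off (stp1 off (stp0 off (stp5 off (stp6 off (stp7 off (stp8 off (stp9 off (stp5 off (stp10 off (stp11 off (stp5 off v)))))))))))))))))))))))))))))))))))))))))))))))))))))))))))))))))))))))))))))))))))))))))))))))))))))))))))))))))))))))))))))))))))))))))))))))))))))))))))))))))))))))))))))))))))))))))))))))))))))))))))))))))))))))))))))))))))))))))))))), (fun v _ _ =>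 v), fun _ _ => rfl, fun _ _ => rfl⟩
def lf4_19 : Leaf (walkS st) := ⟨[], [], 2, 0, (fun _ v => v), (fun _ v => v), (fun _ _ _ => 1), fun _ _ => rfl, fun _ _ => rfl⟩
def lf4_20 : Leaf (walkS st) := ⟨[], [3, 2, 0, 10, 7, 6, 5, 4, 3, 2, 10, 7, 6, 5, 4, 3, 2, 10, 7, 6, 5, 4, 3, 2, 10, 7, 6, 5, 4, 3, 2, 10, 7, 6, 5, 4, 3, 2, 10, 7, 6, 5, 4, 3, 2, 10, 7, 6, 5, 4, 3, 2, 10, 7, 6, 5, 4, 3, 2, 10, 7, 6, 5], 146, 2, (fun _ v => v), (fun off v => (stp5 off (stp6 off (stp7 off (stp10 off (stp2 off (stp3 off (stp4 off (stp5 off (stp6 off (stp7 off (stp10 off (stp2 off (stp3 off (stp4 off (stp5 off (stp6 off (stp7 off (stp10 off (stp2 off (stp3 off (stp4 off (stp5 off (stp6 off (stp7 off (stp10 off (stp2 off (stp3 off (stp4 off (stp5 off (stp6 off (stp7 off (stp10 off (stp2 off (stp3 off (stp4 off (stp5 off (stp6 off (stp7 off (stp10 off (stp2 off (stp3 off (stp4 off (stp5 off (stp6 off (stp7 off (stp10 off (stp2 off (stp3 off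 (stp4 off (stp5 off (stp6 off (stp7 off (stp10 off (stp2 off (stp3 off (stp4 off (stp5 off (stp6 off (stp7 off (stp10 off (stp0 off (stp2 off (stp3 off v)))))))))))))))))))))))))))))))))))))))))))))))))))))))))))))))), (fun v _ _ => v), fun _ _ => rfl, fun _ _ => rfl⟩
def lf4_21 : Leaf (walkS st) := ⟨[], [3, 2, 10, 7, 6, 5, 4, 3, 2, 0, 10, 7, 6, 5, 4, 3, 2, 10, 7, 6, 5, 4, 3, 2, 10, 7, 6, 5, 4, 3, 2, 10, 7, 6, 5, 4, 3, 2, 10, 7, 6, 5, 4, 3, 2, 10, 7, 6, 5, 4, 3, 2, 10, 7, 6, 5, 4, 3, 2, 10, 7, 6, 5], 146, 9, (fun _ v => v), (fun off v => (stp5 off (stp6 off (stp7 off (stp10 off (stp2 off (stp3 off (stp4 off (stp5 off (stp6 off (stp7 off (stp10 off (stp2 off (stp3 off (stp4 off (stp5 off (stp6 off (stp7 off (stp10 off (stp2 off (stp3 off (stp4 off (stp5 off (stp6 off (stp7 off (stp10 off (stp2 off (stp3 off (stp4 off (stp5 off (stp6 off (stp7 off (stp10 off (stp2 off (stp3 off (stp4 off (stp5 off (stp6 off (stp7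 off (stp10 off (stp2 off (stp3 off (stp4 off (stp5 off (stp6 off (stp7 off (stp10 off (stp2 off (stp3 off (stp4 off (stp5 off (stp6 off (stp7 off (stp10 off (stp0 off (stp2 off (stp3 off (stp4 off (stp5 off (stp6 off (stp7 off (stp10 off (stp2 off (stp3 off v)))))))))))))))))))))))))))))))))))))))))))))))))))))))))))))))), (fun v _ _ => v), fun _ _ => rfl, fun _ _ => rfl⟩
def lf4_22 : Leaf (walkS st) := ⟨[4, 12, 12], [], 4, 0, (fun off v => (stp12 off (stp12 off (stp4 off v)))), (fun _ v => v), (fun _ u _ => u), fun _ _ => rfl, fun _ _ => rfl⟩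
def lf4_23 : Leaf (walkS st) := ⟨[], [5, 6, 7, 10, 2, 3, 4, 5, 6, 7, 10, 2, 3, 4, 5, 6, 7, 10, 2, 3, 4, 5, 6, 7, 10, 2, 3, 4, 5, 6, 7, 10, 2, 3, 4, 5, 6, 7, 10, 2, 3, 4, 5, 6, 7, 10, 2, 3, 4, 5, 6, 7, 10, 2, 3, 4, 5, 6, 7, 10, 0, 2, 3], 78, 61, (fun _ v => v), (fun off v => (stp3 off (stp2 off (stp0 off (stp10 off (stp7 off (stp6 off (stp5 off (stp4 off (stp3 off (stp2 off (stp10 off (stp7 off (stp6 off (stp5 off (stp4 off (stp3 off (stp2 off (stp10 off (stp7 off (stp6 off (stp5 off (stp4 off (stp3 off (stp2 off (stp10 off (stp7 off (stp6 off (stp5 off (stp4 off (stp3 off (stp2 off (stp10 off (stp7 off (stp6 off (stp5 off (stp4 off (stp3 off (stp2 off (stp10 off (stp7 off (stp6 off (stp5 off (stp4 off (stp3 off (stp2 off (stp10 off (stp7 off (stp6 off (stp5 off (stp4 off (stp3 off (stp2 off (stp10 off (stp7 off (stp6 off (stp5 off (stp4 off (stp3 off (stp2 off (stp10 off (stp7 off (stp6 off (stp5 off v)))))))))))))))))))))))))))))))))))))))))))))))))))))))))))))))),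 (fun v _ _ => v), fun _ _ => rfl, fun _ _ => rfl⟩
def lf4_24 : Leaf (walkS st) := ⟨[], [5, 6, 7, 10, 2, 3, 4, 5, 6, 7, 10, 0, 2, 3, 4, 5, 6, 7, 10, 2, 3, 4, 5, 6, 7, 10, 2, 3, 4, 5, 6, 7, 10, 2, 3, 4, 5, 6, 7, 10, 2, 3, 4, 5, 6, 7, 10, 2, 3, 4, 5, 6, 7, 10, 2, 3, 4, 5, 6, 7, 10, 2, 3], 78, 12, (fun _ v => v), (fun off v => (stp3 off (stp2 off (stp10 off (stp7 off (stp6 off (stp5 off (stp4 off (stp3 off (stp2 off (stp10 off (stp7 off (stp6 off (stp5 off (stp4 off (stp3 off (stp2 off (stp10 off (stp7 off (stp6 off (stp5 off (stp4 off (stp3 off (stp2 off (stp10 off (stp7 off (stp6 off (stp5 off (stp4 off (stp3 off (stp2 off (stp10 off (stp7 off (stp6 off (stp5 off (stp4 off (stp3 off (stp2 off (stp10 off (stp7 off (stp6 off (stp5 off (stp4 off (stp3 off (stp2 off (stp10 off (stp7 off (stp6 off (stp5 off (stp4 off (stp3 off (stp2 off (stp0 off (stp10 off (stp7 off (stp6 off (stp5 off (stp4 off (stp3 off (stp2 off (stp10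 off (stp7 off (stp6 off (stp5 off v)))))))))))))))))))))))))))))))))))))))))))))))))))))))))))))))), (fun v _ _ => v), fun _ _ => rfl, fun _ _ => rfl⟩
def tree4 : RTree (walkS st) :=
  (.node 1 (.fork lf4_0) (.node 4 (.node 2 (.fork lf4_1) (.node 3 (.fork lf4_2) .tleaf)) (.node 6 (.node 5 (.fork lf4_4) (.fork lf4_5)) (.node 8 (.node 7 (.fork lf4_6) (.fork lf4_7)) (.node 9 (.fork lf4_8) (.node 10 (.fork lf4_9) (.node 11 (.fork lf4_10) (.node 12 (.fork lf4_11) (.node 13 (.fork lf4_12) (.node 14 (.fork lf4_13) (.node 15 (.fork lf4_14) (.node 16 (.fork lf4_15) (.node 17 (.fork lf4_16) (.node 19 (.node 18 (.fork lf4_17) (.fork lf4_18)) (.node 22 (.node 20 (.sub lf4_19) (.node 21 (.fork lf4_20) (.fork lf4_21))) (.node 23 (.fork lf4_22) (.node 24 (.fork lf4_23) (.fork lf4_24))))))))))))))))))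
def lf5_0 : Leaf (walkS st) := ⟨[5], [], 5, 0, (fun off v => (stp5 off v)), (fun _ v => v), (fun _ u _ => u), fun _ _ => rfl, fun _ _ => rfl⟩
def lf5_2 : Leaf (walkS st) := ⟨[], [11, 5, 11], 62, 2, (fun _ v => v), (fun off v => (stp11 off (stp5 off (stp11 off v)))), (fun v _ _ => v), fun _ _ => rfl, fun _ _ => rfl⟩
def lf5_3 : Leaf (walkS st) := ⟨[], [6, 5, 6, 5, 6], 57, 2, (fun _ v => v), (fun off v => (stp6 off (stp5 off (stp6 off (stp5 off (stp6 off v)))))), (fun v _ _ => v), fun _ _ => rfl, fun _ _ => rfl⟩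
def lf5_4 : Leaf (walkS st) := ⟨[], [10, 5, 10, 5, 10], 61, 2, (fun _ v => v), (fun off v => (stp10 off (stp5 off (stp10 off (stp5 off (stp10 off v)))))), (fun v _ _ => v), fun _ _ => rfl, fun _ _ => rfl⟩
def lf5_5 : Leaf (walkS st) := ⟨[], [7, 5, 7], 58, 2, (fun _ v => v), (fun off v => (stp7 off (stp5 off (stp7 off v)))), (fun v _ _ => v), fun _ _ => rfl, fun _ _ => rfl⟩
def lf5_6 : Leaf (walkS st) := ⟨[], [4, 5, 4, 5, 4], 50, 1, (fun _ v => v), (fun off v => (stp4 off (stp5 off (stp4 off (stp5 off (stp4 off v)))))), (fun v _ _ => v), fun _ _ => rfl, fun _ _ => rfl⟩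
def lf5_7 : Leaf (walkS st) := ⟨[], [8, 5, 8], 59, 2, (fun _ v => v), (fun off v => (stp8 off (stp5 off (stp8 off v)))), (fun v _ _ => v), fun _ _ => rfl, fun _ _ => rfl⟩
def lf5_8 : Leaf (walkS st) := ⟨[], [3, 5, 3], 43, 1, (fun _ v => v), (fun off v => (stp3 off (stp5 off (stp3 off v)))), (fun v _ _ => v), fun _ _ => rfl, fun _ _ => rfl⟩
def lf5_9 : Leaf (walkS st) := ⟨[], [9, 5, 9], 60, 2, (fun _ v => v), (fun off v => (stp9 off (stp5 off (stp9 off v)))), (fun v _ _ => v), fun _ _ => rfl, fun _ _ => rfl⟩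
def lf5_10 : Leaf (walkS st) := ⟨[], [2, 5, 2], 35, 1, (fun _ v => v), (fun off v => (stp2 off (stp5 off (stp2 off v)))), (fun v _ _ => v), fun _ _ => rfl, fun _ _ => rfl⟩
def lf5_11 : Leaf (walkS st) := ⟨[], [1, 5, 1], 26, 1, (fun _ v => v), (fun off v => (stp1 off (stp5 off (stp1 off v)))), (fun v _ _ => v), fun _ _ => rfl, fun _ _ => rfl⟩
def lf5_12 : Leaf (walkS st) := ⟨[], [12, 5], 5, 0, (fun _ v => v), (fun off v => (stp5 off (stp12 off v))), (fun v _ _ => v), fun _ _ => rfl, fun _ _ => rfl⟩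
def lf5_13 : Leaf (walkS st) := ⟨[], [0, 5, 0], 16, 1, (fun _ v => v), (fun off v => (stp0 off (stp5 off (stp0 off v)))), (fun v _ _ => v), fun _ _ => rfl, fun _ _ => rfl⟩
def lf5_14 : Leaf (walkS st) := ⟨[12], [5], 5, 0, (fun off v => (stp12 off v)), (fun off v => (stp5 off v)), (fun _ _ p => p), fun _ _ => rfl, fun _ _ => rfl⟩
def lf5_15 : Leaf (walkS st) := ⟨[5, 12], [], 5, 0, (fun off v => (stp12 off (stp5 off v))), (fun _ v => v), (fun _ u _ => u), fun _ _ => rfl, fun _ _ => rfl⟩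
def lf5_16 : Leaf (walkS st) := ⟨[], [6, 7, 10, 0, 2, 3, 4, 5, 6, 7, 10, 2, 3, 4, 5, 6, 7, 10, 2, 3, 4, 5, 6, 7, 10, 2, 3, 4, 5, 6, 7, 10, 2, 3, 4, 5, 6, 7, 10, 2, 3, 4, 5, 6, 7, 10, 2, 3, 4, 5, 6, 7, 10, 2, 3, 4, 5, 6, 7, 10, 2, 3, 4], 78, 4, (fun _ v => v), (fun off v => (stp4 off (stp3 off (stp2 off (stp10 off (stp7 off (stp6 off (stp5 off (stp4 off (stp3 off (stp2 off (stp10 off (stp7 off (stp6 off (stp5 off (stp4 off (stp3 off (stp2 off (stp10 off (stp7 off (stp6 off (stp5 off (stp4 off (stp3 off (stp2 off (stp10 off (stp7 off (stp6 off (stp5 off (stp4 off (stp3 off (stp2 off (stp10 off (stp7 off (stp6 off (stp5 off (stp4 off (stp3 off (stp2 off (stp10 off (stp7 off (stp6 off (stp5 off (stp4 off (stp3 off (stp2 off (stp10 off (stp7 off (stp6 off (stp5 off (stp4 off (stp3 off (stp2 off (stp10 off (stp7 off (stp6 off (stp5 off (stp4 off (stp3 off (stp2 off (stp0 off (stp10 off (stp7 off (stp6 off v)))))))))))))))))))))))))))))))))))))))))))))))))))))))))))))))),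 (fun v _ _ => v), fun _ _ => rfl, fun _ _ => rfl⟩
def lf5_17 : Leaf (walkS st) := ⟨[12, 12], [5], 5, 0, (fun off v => (stp12 off (stp12 off v))), (fun off v => (stp5 off v)), (fun _ _ p => p), fun _ _ => rfl, fun _ _ => rfl⟩
def lf5_18 : Leaf (walkS st) := ⟨[5, 12, 12], [], 5, 0, (fun off v => (stp12 off (stp12 off (stp5 off v)))), (fun _ v => v), (fun _ u _ => u), fun _ _ => rfl, fun _ _ => rfl⟩
def lf5_19 : Leaf (walkS st) := ⟨[], [10, 11, 5, 4, 3, 2, 1, 0, 5, 6, 7, 8, 9, 5, 10, 11, 5, 4, 3, 2, 1, 0, 5, 6, 7, 8, 9, 5, 10, 11, 5, 4, 3, 2, 1, 0, 5, 6, 7, 8, 9, 5, 10, 11, 5, 4, 3, 2, 1, 0, 5, 6, 7, 8, 9, 5, 10, 11, 5, 4, 3, 2, 1, 0, 5, 6, 7, 8, 9, 5, 10, 11, 5, 4, 3, 2, 1, 0, 5, 6, 7, 8, 9, 5, 10, 11, 5, 4, 3, 2, 1, 0, 5, 6, 7, 8, 9, 5, 10, 11, 5, 4, 3, 2, 1, 0, 5, 6, 7, 8, 9, 5, 10, 11, 5, 4, 3, 2, 1, 0, 5, 6, 7, 8, 9, 5, 10, 11, 5, 4, 3, 2, 1, 0, 5, 6, 7, 8, 9, 5, 10, 11, 5, 4, 3, 2, 1, 0, 5, 6, 7, 8, 9, 5, 10,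 11, 5, 4, 3, 2, 1, 0, 5, 6, 7, 8, 9, 5, 10, 11, 5, 4, 3, 2, 1, 0, 5, 6, 7, 8, 9, 5, 10, 11, 5, 4, 3, 2, 1, 0, 5, 6, 7, 8, 9, 5, 10, 11, 5, 4, 3, 2, 1, 0, 5, 6, 7, 8, 9, 5, 10, 11, 5, 4, 3, 2, 1, 0, 5, 6, 7, 8, 9, 5, 10, 11, 5, 4, 3, 2, 1, 0, 5, 6, 7, 8, 9], 147, 2, (fun _ v => v), (fun off v => (stp9 off (stp8 off (stp7 off (stp6 off (stp5 off (stp0 off (stp1 off (stp2 off (stp3 off (stp4 off (stp5 off (stp11 off (stp10 off (stp5 off (stp9 off (stp8 off (stp7 off (stp6 off (stp5 off (stp0 off (stp1 off (stp2 off (stp3 off (stp4 off (stp5 off (stp11 off (stp10 off (stp5 off (stp9 off (stp8 off (stp7 off (stp6 off (stp5 off (stp0 off (stp1 off (stp2 off (stp3 off (stp4 off (stp5 off (stp11 off (stp10 off (stp5 off (stp9 off (stp8 off (stp7 off (stp6 off (stp5 off (stp0 off (stp1 off (stp2 off (stp3 off (stp4 off (stp5 off (stp11 off (stp10 off (stp5 off (stp9 off (stp8 off (stp7 off (stp6 off (stp5 off (stp0 off (stp1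 off (stp2 off (stp3 off (stp4 off (stp5 off (stp11 off (stp10 off (stp5 off (stp9 off (stp8 off (stp7 off (stp6 off (stp5 off (stp0 off (stp1 off (stp2 off (stp3 off (stp4 off (stp5 off (stp11 off (stp10 off (stp5 off (stp9 off (stp8 off (stp7 off (stp6 off (stp5 off (stp0 off (stp1 off (stp2 off (stp3 off (stp4 off (stp5 off (stp11 off (stp10 off (stp5 off (stp9 off (stp8 off (stp7 off (stp6 off (stp5 off (stp0 off (stp1 off (stp2 off (stp3 off (stp4 off (stp5 off (stp11 off (stp10 off (stp5 off (stp9 off (stp8 off (stp7 off (stp6 off (stp5 off (stp0 off (stp1 off (stp2 off (stp3 off (stp4 off (stp5 off (stp11 off (stp10 off (stp5 off (stp9 off (stp8 off (stp7 off (stp6 off (stp5 off (stp0 off (stp1 off (stp2 off (stp3 off (stp4 off (stp5 off (stp11 off (stp10 off (stp5 off (stp9 off (stp8 off (stp7 off (stp6 off (stp5 off (stp0 off (stp1 off (stp2 off (stp3 off (stp4 off (stp5 off (stp11 off (stp10 off (stp5 off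 (stp9 off (stp8 off (stp7 off (stp6 off (stp5 off (stp0 off (stp1 off (stp2 off (stp3 off (stp4 off (stp5 off (stp11 off (stp10 off (stp5 off (stp9 off (stp8 off (stp7 off (stp6 off (stp5 off (stp0 off (stp1 off (stp2 off (stp3 off (stp4 off (stp5 off (stp11 off (stp10 off (stp5 off (stp9 off (stp8 off (stp7 off (stp6 off (stp5 off (stp0 off (stp1 off (stp2 off (stp3 off (stp4 off (stp5 off (stp11 off (stp10 off (stp5 off (stp9 off (stp8 off (stp7 off (stp6 off (stp5 off (stp0 off (stp1 off (stp2 off (stp3 off (stp4 off (stp5 off (stp11 off (stp10 off (stp5 off (stp9 off (stp8 off (stp7 off (stp6 off (stp5 off (stp0 off (stp1 off (stp2 off (stp3 off (stp4 off (stp5 off (stp11 off (stp10 off (stp5 off (stp9 off (stp8 off (stp7 off (stp6 off (stp5 off (stp0 off (stp1 off (stp2 off (stp3 off (stp4 off (stp5 off (stp11 off (stp10 off v)))))))))))))))))))))))))))))))))))))))))))))))))))))))))))))))))))))))))))))))))))))))))))))))))))))))))))))))))))))))))))))))))))))))))))))))))))))))))))))))))))))))))))))))))))))))))))))))))))))))))))))))))))))))))))))))))))))))))))))),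 (fun v _ _ => v), fun _ _ => rfl, fun _ _ => rfl⟩
def lf5_20 : Leaf (walkS st) := ⟨[], [6, 7, 8, 9, 5, 10, 11, 5, 4, 3, 2, 1, 0, 5, 6, 7, 8, 9, 5, 10, 11, 5, 4, 3, 2, 1, 0, 5, 6, 7, 8, 9, 5, 10, 11, 5, 4, 3, 2, 1, 0, 5, 6, 7, 8, 9, 5, 10, 11, 5, 4, 3, 2, 1, 0, 5, 6, 7, 8, 9, 5, 10, 11, 5, 4, 3, 2, 1, 0, 5, 6, 7, 8, 9, 5, 10, 11, 5, 4, 3, 2, 1, 0, 5, 6, 7, 8, 9, 5, 10, 11, 5, 4, 3, 2, 1, 0, 5, 6, 7, 8, 9, 5, 10, 11, 5, 4, 3, 2, 1, 0, 5, 6, 7, 8, 9, 5, 10, 11, 5, 4, 3, 2, 1, 0, 5, 6, 7, 8, 9, 5, 10, 11, 5, 4, 3, 2, 1, 0, 5, 6, 7, 8, 9, 5, 10, 11, 5, 4, 3, 2, 1, 0, 5, 6, 7, 8, 9, 5, 10, 11, 5, 4, 3, 2, 1, 0, 5, 6, 7, 8, 9, 5, 10, 11, 5, 4, 3, 2, 1, 0, 5, 6, 7, 8, 9, 5, 10, 11, 5, 4, 3, 2, 1, 0, 5, 6, 7, 8, 9, 5, 10, 11, 5, 4, 3, 2, 1, 0, 5, 6, 7, 8, 9, 5, 10, 11, 5, 4, 3, 2, 1, 0, 5, 6, 7, 8, 9, 5, 10, 11, 5, 4, 3, 2, 1, 0], 147, 7, (fun _ v => v), (fun off v => (stp0 off (stp1 off (stp2 off (stp3 off (stp4 off (stp5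 off (stp11 off (stp10 off (stp5 off (stp9 off (stp8 off (stp7 off (stp6 off (stp5 off (stp0 off (stp1 off (stp2 off (stp3 off (stp4 off (stp5 off (stp11 off (stp10 off (stp5 off (stp9 off (stp8 off (stp7 off (stp6 off (stp5 off (stp0 off (stp1 off (stp2 off (stp3 off (stp4 off (stp5 off (stp11 off (stp10 off (stp5 off (stp9 off (stp8 off (stp7 off (stp6 off (stp5 off (stp0 off (stp1 off (stp2 off (stp3 off (stp4 off (stp5 off (stp11 off (stp10 off (stp5 off (stp9 off (stp8 off (stp7 off (stp6 off (stp5 off (stp0 off (stp1 off (stp2 off (stp3 off (stp4 off (stp5 off (stp11 off (stp10 off (stp5 off (stp9 off (stp8 off (stp7 off (stp6 off (stp5 off (stp0 off (stp1 off (stp2 off (stp3 off (stp4 off (stp5 off (stp11 off (stp10 off (stp5 off (stp9 off (stp8 off (stp7 off (stp6 off (stp5 off (stp0 off (stp1 off (stp2 off (stp3 off (stp4 off (stp5 off (stp11 off (stp10 off (stp5 off (stp9 off (stp8 off (stp7 off (stp6 off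 (stp5 off (stp0 off (stp1 off (stp2 off (stp3 off (stp4 off (stp5 off (stp11 off (stp10 off (stp5 off (stp9 off (stp8 off (stp7 off (stp6 off (stp5 off (stp0 off (stp1 off (stp2 off (stp3 off (stp4 off (stp5 off (stp11 off (stp10 off (stp5 off (stp9 off (stp8 off (stp7 off (stp6 off (stp5 off (stp0 off (stp1 off (stp2 off (stp3 off (stp4 off (stp5 off (stp11 off (stp10 off (stp5 off (stp9 off (stp8 off (stp7 off (stp6 off (stp5 off (stp0 off (stp1 off (stp2 off (stp3 off (stp4 off (stp5 off (stp11 off (stp10 off (stp5 off (stp9 off (stp8 off (stp7 off (stp6 off (stp5 off (stp0 off (stp1 off (stp2 off (stp3 off (stp4 off (stp5 off (stp11 off (stp10 off (stp5 off (stp9 off (stp8 off (stp7 off (stp6 off (stp5 off (stp0 off (stp1 off (stp2 off (stp3 off (stp4 off (stp5 off (stp11 off (stp10 off (stp5 off (stp9 off (stp8 off (stp7 off (stp6 off (stp5 off (stp0 off (stp1 off (stp2 off (stp3 off (stp4 off (stp5 off (stp11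 off (stp10 off (stp5 off (stp9 off (stp8 off (stp7 off (stp6 off (stp5 off (stp0 off (stp1 off (stp2 off (stp3 off (stp4 off (stp5 off (stp11 off (stp10 off (stp5 off (stp9 off (stp8 off (stp7 off (stp6 off (stp5 off (stp0 off (stp1 off (stp2 off (stp3 off (stp4 off (stp5 off (stp11 off (stp10 off (stp5 off (stp9 off (stp8 off (stp7 off (stp6 off (stp5 off (stp0 off (stp1 off (stp2 off (stp3 off (stp4 off (stp5 off (stp11 off (stp10 off (stp5 off (stp9 off (stp8 off (stp7 off (stp6 off v)))))))))))))))))))))))))))))))))))))))))))))))))))))))))))))))))))))))))))))))))))))))))))))))))))))))))))))))))))))))))))))))))))))))))))))))))))))))))))))))))))))))))))))))))))))))))))))))))))))))))))))))))))))))))))))))))))))))))))))), (fun v _ _ => v), fun _ _ => rfl, fun _ _ => rfl⟩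
def lf5_21 : Leaf (walkS st) := ⟨[], [11, 10, 5, 9, 8, 7, 6, 5, 0, 1, 2, 3, 4, 5, 11, 10, 5, 9, 8, 7, 6, 5, 0, 1, 2, 3, 4, 5, 11, 10, 5, 9, 8, 7, 6, 5, 0, 1, 2, 3, 4, 5, 11, 10, 5, 9, 8, 7, 6, 5, 0, 1, 2, 3, 4, 5, 11, 10, 5, 9, 8, 7, 6, 5, 0, 1, 2, 3, 4, 5, 11, 10, 5, 9, 8, 7, 6, 5, 0, 1, 2, 3, 4, 5, 11, 10, 5, 9, 8, 7, 6, 5, 0, 1, 2, 3, 4, 5, 11, 10, 5, 9, 8, 7, 6, 5, 0, 1, 2, 3, 4, 5, 11, 10, 5, 9, 8, 7, 6, 5, 0, 1, 2, 3, 4, 5, 11, 10, 5, 9, 8, 7, 6, 5, 0, 1, 2, 3, 4, 5, 11, 10, 5, 9, 8, 7, 6, 5, 0, 1, 2, 3, 4, 5, 11, 10, 5, 9, 8, 7, 6, 5, 0, 1, 2, 3, 4, 5, 11, 10, 5, 9, 8, 7, 6, 5, 0, 1, 2, 3, 4, 5, 11, 10, 5, 9, 8, 7, 6, 5, 0, 1, 2, 3, 4, 5, 11, 10, 5, 9, 8, 7, 6, 5, 0, 1, 2, 3, 4, 5, 11, 10, 5, 9, 8, 7, 6, 5, 0, 1, 2, 3, 4, 5, 11, 10, 5, 9, 8, 7, 6, 5, 0, 1, 2, 3, 4], 79, 14, (fun _ v => v), (fun off v => (stp4 off (stp3 off (stp2 off (stp1 off (stp0 off (stp5 off (stp6 off (stp7 off (stp8 off (stp9 off (stp5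 off (stp10 off (stp11 off (stp5 off (stp4 off (stp3 off (stp2 off (stp1 off (stp0 off (stp5 off (stp6 off (stp7 off (stp8 off (stp9 off (stp5 off (stp10 off (stp11 off (stp5 off (stp4 off (stp3 off (stp2 off (stp1 off (stp0 off (stp5 off (stp6 off (stp7 off (stp8 off (stp9 off (stp5 off (stp10 off (stp11 off (stp5 off (stp4 off (stp3 off (stp2 off (stp1 off (stp0 off (stp5 off (stp6 off (stp7 off (stp8 off (stp9 off (stp5 off (stp10 off (stp11 off (stp5 off (stp4 off (stp3 off (stp2 off (stp1 off (stp0 off (stp5 off (stp6 off (stp7 off (stp8 off (stp9 off (stp5 off (stp10 off (stp11 off (stp5 off (stp4 off (stp3 off (stp2 off (stp1 off (stp0 off (stp5 off (stp6 off (stp7 off (stp8 off (stp9 off (stp5 off (stp10 off (stp11 off (stp5 off (stp4 off (stp3 off (stp2 off (stp1 off (stp0 off (stp5 off (stp6 off (stp7 off (stp8 off (stp9 off (stp5 off (stp10 off (stp11 off (stp5 off (stp4 off (stp3 off (stp2 off (stp1 off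 (stp0 off (stp5 off (stp6 off (stp7 off (stp8 off (stp9 off (stp5 off (stp10 off (stp11 off (stp5 off (stp4 off (stp3 off (stp2 off (stp1 off (stp0 off (stp5 off (stp6 off (stp7 off (stp8 off (stp9 off (stp5 off (stp10 off (stp11 off (stp5 off (stp4 off (stp3 off (stp2 off (stp1 off (stp0 off (stp5 off (stp6 off (stp7 off (stp8 off (stp9 off (stp5 off (stp10 off (stp11 off (stp5 off (stp4 off (stp3 off (stp2 off (stp1 off (stp0 off (stp5 off (stp6 off (stp7 off (stp8 off (stp9 off (stp5 off (stp10 off (stp11 off (stp5 off (stp4 off (stp3 off (stp2 off (stp1 off (stp0 off (stp5 off (stp6 off (stp7 off (stp8 off (stp9 off (stp5 off (stp10 off (stp11 off (stp5 off (stp4 off (stp3 off (stp2 off (stp1 off (stp0 off (stp5 off (stp6 off (stp7 off (stp8 off (stp9 off (stp5 off (stp10 off (stp11 off (stp5 off (stp4 off (stp3 off (stp2 off (stp1 off (stp0 off (stp5 off (stp6 off (stp7 off (stp8 off (stp9 off (stp5 off (stp10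 off (stp11 off (stp5 off (stp4 off (stp3 off (stp2 off (stp1 off (stp0 off (stp5 off (stp6 off (stp7 off (stp8 off (stp9 off (stp5 off (stp10 off (stp11 off (stp5 off (stp4 off (stp3 off (stp2 off (stp1 off (stp0 off (stp5 off (stp6 off (stp7 off (stp8 off (stp9 off (stp5 off (stp10 off (stp11 off (stp5 off (stp4 off (stp3 off (stp2 off (stp1 off (stp0 off (stp5 off (stp6 off (stp7 off (stp8 off (stp9 off (stp5 off (stp10 off (stp11 off v)))))))))))))))))))))))))))))))))))))))))))))))))))))))))))))))))))))))))))))))))))))))))))))))))))))))))))))))))))))))))))))))))))))))))))))))))))))))))))))))))))))))))))))))))))))))))))))))))))))))))))))))))))))))))))))))))))))))))))))), (fun v _ _ => v), fun _ _ => rfl, fun _ _ => rfl⟩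
def lf5_22 : Leaf (walkS st) := ⟨[], [6, 7, 10, 2, 3, 4, 5, 6, 7, 10, 0, 2, 3, 4, 5, 6, 7, 10, 2, 3, 4, 5, 6, 7, 10, 2, 3, 4, 5, 6, 7, 10, 2, 3, 4, 5, 6, 7, 10, 2, 3, 4, 5, 6, 7, 10, 2, 3, 4, 5, 6, 7, 10, 2, 3, 4, 5, 6, 7, 10, 2, 3, 4], 78, 11, (fun _ v => v), (fun off v => (stp4 off (stp3 off (stp2 off (stp10 off (stp7 off (stp6 off (stp5 off (stp4 off (stp3 off (stp2 off (stp10 off (stp7 off (stp6 off (stp5 off (stp4 off (stp3 off (stp2 off (stp10 off (stp7 off (stp6 off (stp5 off (stp4 off (stp3 off (stp2 off (stp10 off (stp7 off (stp6 off (stp5 off (stp4 off (stp3 off (stp2 off (stp10 off (stp7 off (stp6 off (stp5 off (stp4 off (stp3 off (stp2 off (stp10 off (stp7 off (stp6 off (stp5 off (stp4 off (stp3 off (stp2 off (stp10 off (stp7 off (stp6 off (stp5 off (stp4 off (stp3 off (stp2 off (stp0 off (stp10 off (stp7 off (stp6 off (stp5 off (stp4 off (stp3 off (stp2 off (stp10 off (stp7 off (stp6 off v)))))))))))))))))))))))))))))))))))))))))))))))))))))))))))))))),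 (fun v _ _ => v), fun _ _ => rfl, fun _ _ => rfl⟩
def lf5_23 : Leaf (walkS st) := ⟨[], [], 3, 0, (fun _ v => v), (fun _ v => v), (fun _ _ _ => 1), fun _ _ => rfl, fun _ _ => rfl⟩
def lf5_24 : Leaf (walkS st) := ⟨[], [6, 7, 10, 2, 3, 4, 5, 6, 7, 10, 2, 3, 4, 5, 6, 7, 10, 2, 3, 4, 5, 6, 7, 10, 2, 3, 4, 5, 6, 7, 10, 0, 2, 3, 4, 5, 6, 7, 10, 2, 3, 4, 5, 6, 7, 10, 2, 3, 4, 5, 6, 7, 10, 2, 3, 4, 5, 6, 7, 10, 2, 3, 4], 78, 32, (fun _ v => v), (fun off v => (stp4 off (stp3 off (stp2 off (stp10 off (stp7 off (stp6 off (stp5 off (stp4 off (stp3 off (stp2 off (stp10 off (stp7 off (stp6 off (stp5 off (stp4 off (stp3 off (stp2 off (stp10 off (stp7 off (stp6 off (stp5 off (stp4 off (stp3 off (stp2 off (stp10 off (stp7 off (stp6 off (stp5 off (stp4 off (stp3 off (stp2 off (stp0 off (stp10 off (stp7 off (stp6 off (stp5 off (stp4 off (stp3 off (stp2 off (stp10 off (stp7 off (stp6 off (stp5 off (stp4 off (stp3 off (stp2 off (stp10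 off (stp7 off (stp6 off (stp5 off (stp4 off (stp3 off (stp2 off (stp10 off (stp7 off (stp6 off (stp5 off (stp4 off (stp3 off (stp2 off (stp10 off (stp7 off (stp6 off v)))))))))))))))))))))))))))))))))))))))))))))))))))))))))))))))), (fun v _ _ => v), fun _ _ => rfl, fun _ _ => rfl⟩
def lf5_25 : Leaf (walkS st) := ⟨[], [4, 3, 2, 1, 0, 5, 6, 7, 8, 9, 5, 10, 11, 5, 4, 3, 2, 1, 0, 5, 6, 7, 8, 9, 5, 10, 11, 5, 4, 3, 2, 1, 0, 5, 6, 7, 8, 9, 5, 10, 11, 5, 4, 3, 2, 1, 0, 5, 6, 7, 8, 9, 5, 10, 11, 5, 4, 3, 2, 1, 0, 5, 6, 7, 8, 9, 5, 10, 11, 5, 4, 3, 2, 1, 0, 5, 6, 7, 8, 9, 5, 10, 11, 5, 4, 3, 2, 1, 0, 5, 6, 7, 8, 9, 5, 10, 11, 5, 4, 3, 2, 1, 0, 5, 6, 7, 8, 9, 5, 10, 11, 5, 4, 3, 2, 1, 0, 5, 6, 7, 8, 9, 5, 10, 11, 5, 4, 3, 2, 1, 0, 5, 6, 7, 8, 9, 5, 10, 11, 5, 4, 3, 2, 1, 0, 5, 6, 7, 8, 9, 5, 10, 11, 5, 4, 3, 2, 1, 0, 5, 6, 7, 8, 9, 5, 10, 11, 5, 4, 3, 2, 1, 0, 5, 6, 7, 8, 9, 5, 10, 11, 5, 4, 3, 2, 1, 0, 5, 6, 7, 8, 9, 5,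 10, 11, 5, 4, 3, 2, 1, 0, 5, 6, 7, 8, 9, 5, 10, 11, 5, 4, 3, 2, 1, 0, 5, 6, 7, 8, 9, 5, 10, 11, 5, 4, 3, 2, 1, 0, 5, 6, 7, 8, 9, 5, 10, 11], 147, 237, (fun _ v => v), (fun off v => (stp11 off (stp10 off (stp5 off (stp9 off (stp8 off (stp7 off (stp6 off (stp5 off (stp0 off (stp1 off (stp2 off (stp3 off (stp4 off (stp5 off (stp11 off (stp10 off (stp5 off (stp9 off (stp8 off (stp7 off (stp6 off (stp5 off (stp0 off (stp1 off (stp2 off (stp3 off (stp4 off (stp5 off (stp11 off (stp10 off (stp5 off (stp9 off (stp8 off (stp7 off (stp6 off (stp5 off (stp0 off (stp1 off (stp2 off (stp3 off (stp4 off (stp5 off (stp11 off (stp10 off (stp5 off (stp9 off (stp8 off (stp7 off (stp6 off (stp5 off (stp0 off (stp1 off (stp2 off (stp3 off (stp4 off (stp5 off (stp11 off (stp10 off (stp5 off (stp9 off (stp8 off (stp7 off (stp6 off (stp5 off (stp0 off (stp1 off (stp2 off (stp3 off (stp4 off (stp5 off (stp11 off (stp10 off (stp5 off (stp9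 off (stp8 off (stp7 off (stp6 off (stp5 off (stp0 off (stp1 off (stp2 off (stp3 off (stp4 off (stp5 off (stp11 off (stp10 off (stp5 off (stp9 off (stp8 off (stp7 off (stp6 off (stp5 off (stp0 off (stp1 off (stp2 off (stp3 off (stp4 off (stp5 off (stp11 off (stp10 off (stp5 off (stp9 off (stp8 off (stp7 off (stp6 off (stp5 off (stp0 off (stp1 off (stp2 off (stp3 off (stp4 off (stp5 off (stp11 off (stp10 off (stp5 off (stp9 off (stp8 off (stp7 off (stp6 off (stp5 off (stp0 off (stp1 off (stp2 off (stp3 off (stp4 off (stp5 off (stp11 off (stp10 off (stp5 off (stp9 off (stp8 off (stp7 off (stp6 off (stp5 off (stp0 off (stp1 off (stp2 off (stp3 off (stp4 off (stp5 off (stp11 off (stp10 off (stp5 off (stp9 off (stp8 off (stp7 off (stp6 off (stp5 off (stp0 off (stp1 off (stp2 off (stp3 off (stp4 off (stp5 off (stp11 off (stp10 off (stp5 off (stp9 off (stp8 off (stp7 off (stp6 off (stp5 off (stp0 off (stp1 off (stp2 off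 (stp3 off (stp4 off (stp5 off (stp11 off (stp10 off (stp5 off (stp9 off (stp8 off (stp7 off (stp6 off (stp5 off (stp0 off (stp1 off (stp2 off (stp3 off (stp4 off (stp5 off (stp11 off (stp10 off (stp5 off (stp9 off (stp8 off (stp7 off (stp6 off (stp5 off (stp0 off (stp1 off (stp2 off (stp3 off (stp4 off (stp5 off (stp11 off (stp10 off (stp5 off (stp9 off (stp8 off (stp7 off (stp6 off (stp5 off (stp0 off (stp1 off (stp2 off (stp3 off (stp4 off (stp5 off (stp11 off (stp10 off (stp5 off (stp9 off (stp8 off (stp7 off (stp6 off (stp5 off (stp0 off (stp1 off (stp2 off (stp3 off (stp4 off (stp5 off (stp11 off (stp10 off (stp5 off (stp9 off (stp8 off (stp7 off (stp6 off (stp5 off (stp0 off (stp1 off (stp2 off (stp3 off (stp4 off v)))))))))))))))))))))))))))))))))))))))))))))))))))))))))))))))))))))))))))))))))))))))))))))))))))))))))))))))))))))))))))))))))))))))))))))))))))))))))))))))))))))))))))))))))))))))))))))))))))))))))))))))))))))))))))))))))))))))))))))),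 (fun v _ _ => v), fun _ _ => rfl, fun _ _ => rfl⟩
def tree5 : RTree (walkS st) :=
  (.node 1 (.fork lf5_0) (.node 3 (.node 2 .tleaf (.fork lf5_2)) (.node 6 (.node 4 (.fork lf5_3) (.node 5 (.fork lf5_4) (.fork lf5_5))) (.node 8 (.node 7 (.fork lf5_6) (.fork lf5_7)) (.node 9 (.fork lf5_8) (.node 10 (.fork lf5_9) (.node 11 (.fork lf5_10) (.node 13 (.node 12 (.fork lf5_11) (.fork lf5_12)) (.node 14 (.fork lf5_13) (.node 15 (.fork lf5_14) (.node 16 (.fork lf5_15) (.node 17 (.fork lf5_16) (.node 19 (.node 18 (.fork lf5_17) (.fork lf5_18)) (.node 21 (.node 20 (.fork lf5_19) (.fork lf5_20)) (.node 22 (.fork lf5_21) (.node 23 (.fork lf5_22) (.node 24 (.sub lf5_23) (.node 25 (.fork lf5_24) (.fork lf5_25)))))))))))))))))))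
def lf6_0 : Leaf (walkS st) := ⟨[6], [], 6, 0, (fun off v => (stp6 off v)), (fun _ v => v), (fun _ u _ => u), fun _ _ => rfl, fun _ _ => rfl⟩
def lf6_2 : Leaf (walkS st) := ⟨[], [10, 6, 10], 66, 2, (fun _ v => v), (fun off v => (stp10 off (stp6 off (stp10 off v)))), (fun v _ _ => v), fun _ _ => rfl, fun _ _ => rfl⟩
def lf6_3 : Leaf (walkS st) := ⟨[], [11, 6, 11], 67, 2, (fun _ v => v), (fun off v => (stp11 off (stp6 off (stp11 off v)))), (fun v _ _ => v), fun _ _ => rfl, fun _ _ => rfl⟩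
def lf6_4 : Leaf (walkS st) := ⟨[], [5, 6, 5, 6, 5], 57, 1, (fun _ v => v), (fun off v => (stp5 off (stp6 off (stp5 off (stp6 off (stp5 off v)))))), (fun v _ _ => v), fun _ _ => rfl, fun _ _ => rfl⟩
def lf6_5 : Leaf (walkS st) := ⟨[], [7, 6, 7, 6, 7], 63, 2, (fun _ v => v), (fun off v => (stp7 off (stp6 off (stp7 off (stp6 off (stp7 off v)))))), (fun v _ _ => v), fun _ _ => rfl, fun _ _ => rfl⟩
def lf6_6 : Leaf (walkS st) := ⟨[], [8, 6, 8], 64, 2, (fun _ v => v), (fun off v => (stp8 off (stp6 off (stp8 off v)))), (fun v _ _ => v), fun _ _ => rfl, fun _ _ => rfl⟩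
def lf6_7 : Leaf (walkS st) := ⟨[], [4, 6, 4], 51, 1, (fun _ v => v), (fun off v => (stp4 off (stp6 off (stp4 off v)))), (fun v _ _ => v), fun _ _ => rfl, fun _ _ => rfl⟩
def lf6_8 : Leaf (walkS st) := ⟨[], [9, 6, 9], 65, 2, (fun _ v => v), (fun off v => (stp9 off (stp6 off (stp9 off v)))), (fun v _ _ => v), fun _ _ => rfl, fun _ _ => rfl⟩
def lf6_9 : Leaf (walkS st) := ⟨[], [3, 6, 3], 44, 1, (fun _ v => v), (fun off v => (stp3 off (stp6 off (stp3 off v)))), (fun v _ _ => v), fun _ _ => rfl, fun _ _ => rfl⟩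
def lf6_10 : Leaf (walkS st) := ⟨[], [2, 6, 2], 36, 1, (fun _ v => v), (fun off v => (stp2 off (stp6 off (stp2 off v)))), (fun v _ _ => v), fun _ _ => rfl, fun _ _ => rfl⟩
def lf6_11 : Leaf (walkS st) := ⟨[], [1, 6, 1], 27, 1, (fun _ v => v), (fun off v => (stp1 off (stp6 off (stp1 off v)))), (fun v _ _ => v), fun _ _ => rfl, fun _ _ => rfl⟩
def lf6_12 : Leaf (walkS st) := ⟨[12], [6], 6, 0, (fun off v => (stp12 off v)), (fun off v => (stp6 off v)), (fun _ _ p => p), fun _ _ => rfl, fun _ _ => rfl⟩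
def lf6_13 : Leaf (walkS st) := ⟨[], [12, 6], 6, 0, (fun _ v => v), (fun off v => (stp6 off (stp12 off v))), (fun v _ _ => v), fun _ _ => rfl, fun _ _ => rfl⟩
def lf6_14 : Leaf (walkS st) := ⟨[], [0, 6, 0], 17, 1, (fun _ v => v), (fun off v => (stp0 off (stp6 off (stp0 off v)))), (fun v _ _ => v), fun _ _ => rfl, fun _ _ => rfl⟩
def lf6_15 : Leaf (walkS st) := ⟨[6, 12], [], 6, 0, (fun off v => (stp12 off (stp6 off v))), (fun _ v => v), (fun _ u _ => u), fun _ _ => rfl, fun _ _ => rfl⟩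
def lf6_16 : Leaf (walkS st) := ⟨[], [5, 4, 3, 2, 0, 10, 7, 6, 5, 4, 3, 2, 10, 7, 6, 5, 4, 3, 2, 10, 7, 6, 5, 4, 3, 2, 10, 7, 6, 5, 4, 3, 2, 10, 7, 6, 5, 4, 3, 2, 10, 7, 6, 5, 4, 3, 2, 10, 7, 6, 5, 4, 3, 2, 10, 7, 6, 5, 4, 3, 2, 10, 7], 146, 4, (fun _ v => v), (fun off v => (stp7 off (stp10 off (stp2 off (stp3 off (stp4 off (stp5 off (stp6 off (stp7 off (stp10 off (stp2 off (stp3 off (stp4 off (stp5 off (stp6 off (stp7 off (stp10 off (stp2 off (stp3 off (stp4 off (stp5 off (stp6 off (stp7 off (stp10 off (stp2 off (stp3 off (stp4 off (stp5 off (stp6 off (stp7 off (stp10 off (stp2 off (stp3 off (stp4 off (stp5 off (stp6 off (stp7 off (stp10 off (stp2 off (stp3 off (stp4 off (stp5 off (stp6 off (stp7 off (stp10 off (stp2 off (stp3 off (stp4 off (stp5 off (stp6 off (stp7 off (stp10 off (stp2 off (stp3 off (stp4 off (stp5 off (stp6 off (stp7 off (stp10 off (stp0 off (stp2 off (stp3 off (stp4 off (stp5 off v)))))))))))))))))))))))))))))))))))))))))))))))))))))))))))))))),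 (fun v _ _ => v), fun _ _ => rfl, fun _ _ => rfl⟩
def lf6_17 : Leaf (walkS st) := ⟨[], [7, 10, 0, 2, 3, 4, 5, 6, 7, 10, 2, 3, 4, 5, 6, 7, 10, 2, 3, 4, 5, 6, 7, 10, 2, 3, 4, 5, 6, 7, 10, 2, 3, 4, 5, 6, 7, 10, 2, 3, 4, 5, 6, 7, 10, 2, 3, 4, 5, 6, 7, 10, 2, 3, 4, 5, 6, 7, 10, 2, 3, 4, 5], 78, 3, (fun _ v => v), (fun off v => (stp5 off (stp4 off (stp3 off (stp2 off (stp10 off (stp7 off (stp6 off (stp5 off (stp4 off (stp3 off (stp2 off (stp10 off (stp7 off (stp6 off (stp5 off (stp4 off (stp3 off (stp2 off (stp10 off (stp7 off (stp6 off (stp5 off (stp4 off (stp3 off (stp2 off (stp10 off (stp7 off (stp6 off (stp5 off (stp4 off (stp3 off (stp2 off (stp10 off (stp7 off (stp6 off (stp5 off (stp4 off (stp3 off (stp2 off (stp10 off (stp7 off (stp6 off (stp5 off (stp4 off (stp3 off (stp2 off (stp10 off (stp7 off (stp6 off (stp5 off (stp4 off (stp3 off (stp2 off (stp10 off (stp7 off (stp6 off (stp5 off (stp4 off (stp3 off (stp2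 off (stp0 off (stp10 off (stp7 off v)))))))))))))))))))))))))))))))))))))))))))))))))))))))))))))))), (fun v _ _ => v), fun _ _ => rfl, fun _ _ => rfl⟩
def lf6_18 : Leaf (walkS st) := ⟨[], [7, 8, 9, 5, 10, 11, 5, 4, 3, 2, 1, 0, 5, 6, 7, 8, 9, 5, 10, 11, 5, 4, 3, 2, 1, 0, 5, 6, 7, 8, 9, 5, 10, 11, 5, 4, 3, 2, 1, 0, 5, 6, 7, 8, 9, 5, 10, 11, 5, 4, 3, 2, 1, 0, 5, 6, 7, 8, 9, 5, 10, 11, 5, 4, 3, 2, 1, 0, 5, 6, 7, 8, 9, 5, 10, 11, 5, 4, 3, 2, 1, 0, 5, 6, 7, 8, 9, 5, 10, 11, 5, 4, 3, 2, 1, 0, 5, 6, 7, 8, 9, 5, 10, 11, 5, 4, 3, 2, 1, 0, 5, 6, 7, 8, 9, 5, 10, 11, 5, 4, 3, 2, 1, 0, 5, 6, 7, 8, 9, 5, 10, 11, 5, 4, 3, 2, 1, 0, 5, 6, 7, 8, 9, 5, 10, 11, 5, 4, 3, 2, 1, 0, 5, 6, 7, 8, 9, 5, 10, 11, 5, 4, 3, 2, 1, 0, 5, 6, 7, 8, 9, 5, 10, 11, 5, 4, 3, 2, 1, 0, 5, 6, 7, 8, 9, 5, 10, 11, 5, 4, 3, 2, 1, 0, 5, 6, 7, 8, 9, 5, 10, 11, 5, 4, 3, 2, 1, 0, 5, 6, 7, 8, 9, 5, 10, 11, 5, 4, 3, 2, 1, 0, 5, 6, 7, 8, 9, 5, 10, 11, 5, 4, 3, 2,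 1, 0, 5], 147, 6, (fun _ v => v), (fun off v => (stp5 off (stp0 off (stp1 off (stp2 off (stp3 off (stp4 off (stp5 off (stp11 off (stp10 off (stp5 off (stp9 off (stp8 off (stp7 off (stp6 off (stp5 off (stp0 off (stp1 off (stp2 off (stp3 off (stp4 off (stp5 off (stp11 off (stp10 off (stp5 off (stp9 off (stp8 off (stp7 off (stp6 off (stp5 off (stp0 off (stp1 off (stp2 off (stp3 off (stp4 off (stp5 off (stp11 off (stp10 off (stp5 off (stp9 off (stp8 off (stp7 off (stp6 off (stp5 off (stp0 off (stp1 off (stp2 off (stp3 off (stp4 off (stp5 off (stp11 off (stp10 off (stp5 off (stp9 off (stp8 off (stp7 off (stp6 off (stp5 off (stp0 off (stp1 off (stp2 off (stp3 off (stp4 off (stp5 off (stp11 off (stp10 off (stp5 off (stp9 off (stp8 off (stp7 off (stp6 off (stp5 off (stp0 off (stp1 off (stp2 off (stp3 off (stp4 off (stp5 off (stp11 off (stp10 off (stp5 off (stp9 off (stp8 off (stp7 off (stp6 off (stp5 off (stp0 off (stp1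 off (stp2 off (stp3 off (stp4 off (stp5 off (stp11 off (stp10 off (stp5 off (stp9 off (stp8 off (stp7 off (stp6 off (stp5 off (stp0 off (stp1 off (stp2 off (stp3 off (stp4 off (stp5 off (stp11 off (stp10 off (stp5 off (stp9 off (stp8 off (stp7 off (stp6 off (stp5 off (stp0 off (stp1 off (stp2 off (stp3 off (stp4 off (stp5 off (stp11 off (stp10 off (stp5 off (stp9 off (stp8 off (stp7 off (stp6 off (stp5 off (stp0 off (stp1 off (stp2 off (stp3 off (stp4 off (stp5 off (stp11 off (stp10 off (stp5 off (stp9 off (stp8 off (stp7 off (stp6 off (stp5 off (stp0 off (stp1 off (stp2 off (stp3 off (stp4 off (stp5 off (stp11 off (stp10 off (stp5 off (stp9 off (stp8 off (stp7 off (stp6 off (stp5 off (stp0 off (stp1 off (stp2 off (stp3 off (stp4 off (stp5 off (stp11 off (stp10 off (stp5 off (stp9 off (stp8 off (stp7 off (stp6 off (stp5 off (stp0 off (stp1 off (stp2 off (stp3 off (stp4 off (stp5 off (stp11 off (stp10 off (stp5 off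 (stp9 off (stp8 off (stp7 off (stp6 off (stp5 off (stp0 off (stp1 off (stp2 off (stp3 off (stp4 off (stp5 off (stp11 off (stp10 off (stp5 off (stp9 off (stp8 off (stp7 off (stp6 off (stp5 off (stp0 off (stp1 off (stp2 off (stp3 off (stp4 off (stp5 off (stp11 off (stp10 off (stp5 off (stp9 off (stp8 off (stp7 off (stp6 off (stp5 off (stp0 off (stp1 off (stp2 off (stp3 off (stp4 off (stp5 off (stp11 off (stp10 off (stp5 off (stp9 off (stp8 off (stp7 off (stp6 off (stp5 off (stp0 off (stp1 off (stp2 off (stp3 off (stp4 off (stp5 off (stp11 off (stp10 off (stp5 off (stp9 off (stp8 off (stp7 off v)))))))))))))))))))))))))))))))))))))))))))))))))))))))))))))))))))))))))))))))))))))))))))))))))))))))))))))))))))))))))))))))))))))))))))))))))))))))))))))))))))))))))))))))))))))))))))))))))))))))))))))))))))))))))))))))))))))))))))))), (fun v _ _ => v), fun _ _ => rfl, fun _ _ => rfl⟩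
def lf6_19 : Leaf (walkS st) := ⟨[], [7, 10, 2, 3, 4, 5, 6, 7, 10, 0, 2, 3, 4, 5, 6, 7, 10, 2, 3, 4, 5, 6, 7, 10, 2, 3, 4, 5, 6, 7, 10, 2, 3, 4, 5, 6, 7, 10, 2, 3, 4, 5, 6, 7, 10, 2, 3, 4, 5, 6, 7, 10, 2, 3, 4, 5, 6, 7, 10, 2, 3, 4, 5], 78, 10, (fun _ v => v), (fun off v => (stp5 off (stp4 off (stp3 off (stp2 off (stp10 off (stp7 off (stp6 off (stp5 off (stp4 off (stp3 off (stp2 off (stp10 off (stp7 off (stp6 off (stp5 off (stp4 off (stp3 off (stp2 off (stp10 off (stp7 off (stp6 off (stp5 off (stp4 off (stp3 off (stp2 off (stp10 off (stp7 off (stp6 off (stp5 off (stp4 off (stp3 off (stp2 off (stp10 off (stp7 off (stp6 off (stp5 off (stp4 off (stp3 off (stp2 off (stp10 off (stp7 off (stp6 off (stp5 off (stp4 off (stp3 off (stp2 off (stp10 off (stp7 off (stp6 off (stp5 off (stp4 off (stp3 off (stp2 off (stp0 off (stp10 off (stp7 off (stp6 off (stp5 off (stp4 off (stp3 off (stp2 off (stp10 off (stp7 off v)))))))))))))))))))))))))))))))))))))))))))))))))))))))))))))))),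 (fun v _ _ => v), fun _ _ => rfl, fun _ _ => rfl⟩
def lf6_20 : Leaf (walkS st) := ⟨[12, 12], [6], 6, 0, (fun off v => (stp12 off (stp12 off v))), (fun off v => (stp6 off v)), (fun _ _ p => p), fun _ _ => rfl, fun _ _ => rfl⟩
def lf6_21 : Leaf (walkS st) := ⟨[], [5, 4, 3, 2, 10, 7, 6, 5, 4, 3, 2, 10, 7, 6, 5, 4, 3, 2, 10, 7, 6, 5, 4, 3, 2, 10, 7, 6, 5, 4, 3, 2, 10, 7, 6, 5, 4, 3, 2, 10, 7, 6, 5, 4, 3, 2, 10, 7, 6, 5, 4, 3, 2, 0, 10, 7, 6, 5, 4, 3, 2, 10, 7], 146, 53, (fun _ v => v), (fun off v => (stp7 off (stp10 off (stp2 off (stp3 off (stp4 off (stp5 off (stp6 off (stp7 off (stp10 off (stp0 off (stp2 off (stp3 off (stp4 off (stp5 off (stp6 off (stp7 off (stp10 off (stp2 off (stp3 off (stp4 off (stp5 off (stp6 off (stp7 off (stp10 off (stp2 off (stp3 off (stp4 off (stp5 off (stp6 off (stp7 off (stp10 off (stp2 off (stp3 off (stp4 off (stp5 off (stp6 off (stp7 off (stp10 off (stp2 off (stp3 off (stp4 off (stp5 off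 (stp6 off (stp7 off (stp10 off (stp2 off (stp3 off (stp4 off (stp5 off (stp6 off (stp7 off (stp10 off (stp2 off (stp3 off (stp4 off (stp5 off (stp6 off (stp7 off (stp10 off (stp2 off (stp3 off (stp4 off (stp5 off v)))))))))))))))))))))))))))))))))))))))))))))))))))))))))))))))), (fun v _ _ => v), fun _ _ => rfl, fun _ _ => rfl⟩
def lf6_22 : Leaf (walkS st) := ⟨[], [5, 4, 3, 2, 10, 7, 6, 5, 4, 3, 2, 10, 7, 6, 5, 4, 3, 2, 10, 7, 6, 5, 4, 3, 2, 10, 7, 6, 5, 4, 3, 2, 10, 7, 6, 5, 4, 3, 2, 10, 7, 6, 5, 4, 3, 2, 10, 7, 6, 5, 4, 3, 2, 10, 7, 6, 5, 4, 3, 2, 0, 10, 7], 146, 60, (fun _ v => v), (fun off v => (stp7 off (stp10 off (stp0 off (stp2 off (stp3 off (stp4 off (stp5 off (stp6 off (stp7 off (stp10 off (stp2 off (stp3 off (stp4 off (stp5 off (stp6 off (stp7 off (stp10 off (stp2 off (stp3 off (stp4 off (stp5 off (stp6 off (stp7 off (stp10 off (stp2 off (stp3 off (stp4 off (stp5 off (stp6 off (stp7 off (stp10 off (stp2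 off (stp3 off (stp4 off (stp5 off (stp6 off (stp7 off (stp10 off (stp2 off (stp3 off (stp4 off (stp5 off (stp6 off (stp7 off (stp10 off (stp2 off (stp3 off (stp4 off (stp5 off (stp6 off (stp7 off (stp10 off (stp2 off (stp3 off (stp4 off (stp5 off (stp6 off (stp7 off (stp10 off (stp2 off (stp3 off (stp4 off (stp5 off v)))))))))))))))))))))))))))))))))))))))))))))))))))))))))))))))), (fun v _ _ => v), fun _ _ => rfl, fun _ _ => rfl⟩
def lf6_23 : Leaf (walkS st) := ⟨[], [5, 4, 3, 2, 10, 7, 6, 5, 4, 3, 2, 10, 7, 6, 5, 4, 3, 2, 0, 10, 7, 6, 5, 4, 3, 2, 10, 7, 6, 5, 4, 3, 2, 10, 7, 6, 5, 4, 3, 2, 10, 7, 6, 5, 4, 3, 2, 10, 7, 6, 5, 4, 3, 2, 10, 7, 6, 5, 4, 3, 2, 10, 7], 146, 18, (fun _ v => v), (fun off v => (stp7 off (stp10 off (stp2 off (stp3 off (stp4 off (stp5 off (stp6 off (stp7 off (stp10 off (stp2 off (stp3 off (stp4 off (stp5 off (stp6 off (stp7 off (stp10 off (stp2 off (stp3 off (stp4 off (stp5 off (stp6 off (stp7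 off (stp10 off (stp2 off (stp3 off (stp4 off (stp5 off (stp6 off (stp7 off (stp10 off (stp2 off (stp3 off (stp4 off (stp5 off (stp6 off (stp7 off (stp10 off (stp2 off (stp3 off (stp4 off (stp5 off (stp6 off (stp7 off (stp10 off (stp0 off (stp2 off (stp3 off (stp4 off (stp5 off (stp6 off (stp7 off (stp10 off (stp2 off (stp3 off (stp4 off (stp5 off (stp6 off (stp7 off (stp10 off (stp2 off (stp3 off (stp4 off (stp5 off v)))))))))))))))))))))))))))))))))))))))))))))))))))))))))))))))), (fun v _ _ => v), fun _ _ => rfl, fun _ _ => rfl⟩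
def lf6_24 : Leaf (walkS st) := ⟨[], [7, 10, 2, 3, 4, 5, 6, 7, 10, 2, 3, 4, 5, 6, 7, 10, 2, 3, 4, 5, 6, 7, 10, 2, 3, 4, 5, 6, 7, 10, 2, 3, 4, 5, 6, 7, 10, 2, 3, 4, 5, 6, 7, 10, 2, 3, 4, 5, 6, 7, 10, 2, 3, 4, 5, 6, 7, 10, 0, 2, 3, 4, 5], 78, 59, (fun _ v => v), (fun off v => (stp5 off (stp4 off (stp3 off (stp2 off (stp0 off (stp10 off (stp7 off (stp6 off (stp5 off (stp4 off (stp3 off (stp2 off (stp10 off (stp7 off (stp6 off (stp5 off (stp4 off (stp3 off (stp2 off (stp10 off (stp7 off (stp6 off (stp5 off (stp4 off (stp3 off (stp2 off (stp10 off (stp7 off (stp6 off (stp5 off (stp4 off (stp3 off (stp2 off (stp10 off (stp7 off (stp6 off (stp5 off (stp4 off (stp3 off (stp2 off (stp10 off (stp7 off (stp6 off (stp5 off (stp4 off (stp3 off (stp2 off (stp10 off (stp7 off (stp6 off (stp5 off (stp4 off (stp3 off (stp2 off (stp10 off (stp7 off (stp6 off (stp5 off (stp4 off (stp3 off (stp2 off (stp10 off (stp7 off v)))))))))))))))))))))))))))))))))))))))))))))))))))))))))))))))),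 (fun v _ _ => v), fun _ _ => rfl, fun _ _ => rfl⟩
def lf6_25 : Leaf (walkS st) := ⟨[], [], 4, 0, (fun _ v => v), (fun _ v => v), (fun _ _ _ => 1), fun _ _ => rfl, fun _ _ => rfl⟩
def lf6_26 : Leaf (walkS st) := ⟨[6, 12, 12], [], 6, 0, (fun off v => (stp12 off (stp12 off (stp6 off v)))), (fun _ v => v), (fun _ u _ => u), fun _ _ => rfl, fun _ _ => rfl⟩
def lf6_27 : Leaf (walkS st) := ⟨[], [5, 4, 3, 2, 10, 7, 6, 5, 4, 3, 2, 10, 7, 6, 5, 4, 3, 2, 10, 7, 6, 5, 4, 3, 2, 10, 7, 6, 5, 4, 3, 2, 0, 10, 7, 6, 5, 4, 3, 2, 10, 7, 6, 5, 4, 3, 2, 10, 7, 6, 5, 4, 3, 2, 10, 7, 6, 5, 4, 3, 2, 10, 7], 146, 32, (fun _ v => v), (fun off v => (stp7 off (stp10 off (stp2 off (stp3 off (stp4 off (stp5 off (stp6 off (stp7 off (stp10 off (stp2 off (stp3 off (stp4 off (stp5 off (stp6 off (stp7 off (stp10 off (stp2 off (stp3 off (stp4 off (stp5 off (stp6 off (stp7 off (stp10 off (stp2 off (stp3 off (stp4 off (stp5 off (stp6 off (stp7 off (stp10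 off (stp0 off (stp2 off (stp3 off (stp4 off (stp5 off (stp6 off (stp7 off (stp10 off (stp2 off (stp3 off (stp4 off (stp5 off (stp6 off (stp7 off (stp10 off (stp2 off (stp3 off (stp4 off (stp5 off (stp6 off (stp7 off (stp10 off (stp2 off (stp3 off (stp4 off (stp5 off (stp6 off (stp7 off (stp10 off (stp2 off (stp3 off (stp4 off (stp5 off v)))))))))))))))))))))))))))))))))))))))))))))))))))))))))))))))), (fun v _ _ => v), fun _ _ => rfl, fun _ _ => rfl⟩
def lf6_28 : Leaf (walkS st) := ⟨[], [7, 10, 2, 3, 4, 5, 6, 7, 10, 2, 3, 4, 5, 6, 7, 10, 2, 3, 4, 5, 6, 7, 10, 2, 3, 4, 5, 6, 7, 10, 2, 3, 4, 5, 6, 7, 10, 2, 3, 4, 5, 6, 7, 10, 0, 2, 3, 4, 5, 6, 7, 10, 2, 3, 4, 5, 6, 7, 10, 2, 3, 4, 5], 78, 45, (fun _ v => v), (fun off v => (stp5 off (stp4 off (stp3 off (stp2 off (stp10 off (stp7 off (stp6 off (stp5 off (stp4 off (stp3 off (stp2 off (stp10 off (stp7 off (stp6 off (stp5 off (stp4 off (stp3 off (stp2 off (stp0 off (stp10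 off (stp7 off (stp6 off (stp5 off (stp4 off (stp3 off (stp2 off (stp10 off (stp7 off (stp6 off (stp5 off (stp4 off (stp3 off (stp2 off (stp10 off (stp7 off (stp6 off (stp5 off (stp4 off (stp3 off (stp2 off (stp10 off (stp7 off (stp6 off (stp5 off (stp4 off (stp3 off (stp2 off (stp10 off (stp7 off (stp6 off (stp5 off (stp4 off (stp3 off (stp2 off (stp10 off (stp7 off (stp6 off (stp5 off (stp4 off (stp3 off (stp2 off (stp10 off (stp7 off v)))))))))))))))))))))))))))))))))))))))))))))))))))))))))))))))), (fun v _ _ => v), fun _ _ => rfl, fun _ _ => rfl⟩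
def tree6 : RTree (walkS st) :=
  (.node 1 (.fork lf6_0) (.node 3 (.node 2 .tleaf (.fork lf6_2)) (.node 5 (.node 4 (.fork lf6_3) (.fork lf6_4)) (.node 7 (.node 6 (.fork lf6_5) (.fork lf6_6)) (.node 9 (.node 8 (.fork lf6_7) (.fork lf6_8)) (.node 10 (.fork lf6_9) (.node 11 (.fork lf6_10) (.node 13 (.node 12 (.fork lf6_11) (.fork lf6_12)) (.node 14 (.fork lf6_13) (.node 15 (.fork lf6_14) (.node 16 (.fork lf6_15) (.node 17 (.fork lf6_16) (.node 18 (.fork lf6_17) (.node 19 (.fork lf6_18) (.node 23 (.node 21 (.node 20 (.fork lf6_19) (.fork lf6_20)) (.node 22 (.fork lf6_21) (.fork lf6_22))) (.node 25 (.node 24 (.fork lf6_23) (.fork lf6_24)) (.node 27 (.node 26 (.sub lf6_25) (.fork lf6_26)) (.node 28 (.fork lf6_27) (.fork lf6_28)))))))))))))))))))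
def lf7_0 : Leaf (walkS st) := ⟨[7], [], 7, 0, (fun off v => (stp7 off v)), (fun _ v => v), (fun _ u _ => u), fun _ _ => rfl, fun _ _ => rfl⟩
def lf7_1 : Leaf (walkS st) := ⟨[], [10, 7, 10], 70, 2, (fun _ v => v), (fun off v => (stp10 off (stp7 off (stp10 off v)))), (fun v _ _ => v), fun _ _ => rfl, fun _ _ => rfl⟩
def lf7_2 : Leaf (walkS st) := ⟨[], [11, 7, 11], 71, 2, (fun _ v => v), (fun off v => (stp11 off (stp7 off (stp11 off v)))), (fun v _ _ => v), fun _ _ => rfl, fun _ _ => rfl⟩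
def lf7_4 : Leaf (walkS st) := ⟨[], [5, 7, 5], 58, 1, (fun _ v => v), (fun off v => (stp5 off (stp7 off (stp5 off v)))), (fun v _ _ => v), fun _ _ => rfl, fun _ _ => rfl⟩
def lf7_5 : Leaf (walkS st) := ⟨[], [6, 7, 6, 7, 6], 63, 1, (fun _ v => v), (fun off v => (stp6 off (stp7 off (stp6 off (stp7 off (stp6 off v)))))), (fun v _ _ => v), fun _ _ => rfl, fun _ _ => rfl⟩
def lf7_6 : Leaf (walkS st) := ⟨[], [4, 7, 4], 52, 1, (fun _ v => v), (fun off v => (stp4 off (stp7 off (stp4 off v)))), (fun v _ _ => v), fun _ _ => rfl, fun _ _ => rfl⟩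
def lf7_7 : Leaf (walkS st) := ⟨[], [8, 7, 8, 7, 8], 68, 2, (fun _ v => v), (fun off v => (stp8 off (stp7 off (stp8 off (stp7 off (stp8 off v)))))), (fun v _ _ => v), fun _ _ => rfl, fun _ _ => rfl⟩
def lf7_8 : Leaf (walkS st) := ⟨[], [3, 7, 3], 45, 1, (fun _ v => v), (fun off v => (stp3 off (stp7 off (stp3 off v)))), (fun v _ _ => v), fun _ _ => rfl, fun _ _ => rfl⟩
def lf7_9 : Leaf (walkS st) := ⟨[], [9, 7, 9], 69, 2, (fun _ v => v), (fun off v => (stp9 off (stp7 off (stp9 off v)))), (fun v _ _ => v), fun _ _ => rfl, fun _ _ => rfl⟩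
def lf7_10 : Leaf (walkS st) := ⟨[], [2, 7, 2], 37, 1, (fun _ v => v), (fun off v => (stp2 off (stp7 off (stp2 off v)))), (fun v _ _ => v), fun _ _ => rfl, fun _ _ => rfl⟩
def lf7_11 : Leaf (walkS st) := ⟨[], [1, 7, 1], 28, 1, (fun _ v => v), (fun off v => (stp1 off (stp7 off (stp1 off v)))), (fun v _ _ => v), fun _ _ => rfl, fun _ _ => rfl⟩
def lf7_12 : Leaf (walkS st) := ⟨[], [0, 7, 0], 18, 1, (fun _ v => v), (fun off v => (stp0 off (stp7 off (stp0 off v)))), (fun v _ _ => v), fun _ _ => rfl, fun _ _ => rfl⟩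
def lf7_13 : Leaf (walkS st) := ⟨[12], [7], 7, 0, (fun off v => (stp12 off v)), (fun off v => (stp7 off v)), (fun _ _ p => p), fun _ _ => rfl, fun _ _ => rfl⟩
def lf7_14 : Leaf (walkS st) := ⟨[], [12, 7], 7, 0, (fun _ v => v), (fun off v => (stp7 off (stp12 off v))), (fun v _ _ => v), fun _ _ => rfl, fun _ _ => rfl⟩
def lf7_15 : Leaf (walkS st) := ⟨[7, 12], [], 7, 0, (fun off v => (stp12 off (stp7 off v))), (fun _ v => v), (fun _ u _ => u), fun _ _ => rfl, fun _ _ => rfl⟩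
def lf7_16 : Leaf (walkS st) := ⟨[], [6, 5, 4, 3, 2, 0, 10, 7, 6, 5, 4, 3, 2, 10, 7, 6, 5, 4, 3, 2, 10, 7, 6, 5, 4, 3, 2, 10, 7, 6, 5, 4, 3, 2, 10, 7, 6, 5, 4, 3, 2, 10, 7, 6, 5, 4, 3, 2, 10, 7, 6, 5, 4, 3, 2, 10, 7, 6, 5, 4, 3, 2, 10], 146, 5, (fun _ v => v), (fun off v => (stp10 off (stp2 off (stp3 off (stp4 off (stp5 off (stp6 off (stp7 off (stp10 off (stp2 off (stp3 off (stp4 off (stp5 off (stp6 off (stp7 off (stp10 off (stp2 off (stp3 off (stp4 off (stp5 off (stp6 off (stp7 off (stp10 off (stp2 off (stp3 off (stp4 off (stp5 off (stp6 off (stp7 off (stp10 off (stp2 off (stp3 off (stp4 off (stp5 off (stp6 off (stp7 off (stp10 off (stp2 off (stp3 off (stp4 off (stp5 off (stp6 off (stp7 off (stp10 off (stp2 off (stp3 off (stp4 off (stp5 off (stp6 off (stp7 off (stp10 off (stp2 off (stp3 off (stp4 off (stp5 off (stp6 off (stp7 off (stp10 off (stp0 off (stp2 off (stp3 off (stp4 off (stp5 off (stp6 off v)))))))))))))))))))))))))))))))))))))))))))))))))))))))))))))))),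 (fun v _ _ => v), fun _ _ => rfl, fun _ _ => rfl⟩
def lf7_17 : Leaf (walkS st) := ⟨[], [6, 5, 4, 3, 2, 10, 7, 6, 5, 4, 3, 2, 10, 7, 6, 5, 4, 3, 2, 10, 7, 6, 5, 4, 3, 2, 10, 7, 6, 5, 4, 3, 2, 10, 7, 6, 5, 4, 3, 2, 10, 7, 6, 5, 4, 3, 2, 10, 7, 6, 5, 4, 3, 2, 10, 7, 6, 5, 4, 3, 2, 0, 10], 146, 61, (fun _ v => v), (fun off v => (stp10 off (stp0 off (stp2 off (stp3 off (stp4 off (stp5 off (stp6 off (stp7 off (stp10 off (stp2 off (stp3 off (stp4 off (stp5 off (stp6 off (stp7 off (stp10 off (stp2 off (stp3 off (stp4 off (stp5 off (stp6 off (stp7 off (stp10 off (stp2 off (stp3 off (stp4 off (stp5 off (stp6 off (stp7 off (stp10 off (stp2 off (stp3 off (stp4 off (stp5 off (stp6 off (stp7 off (stp10 off (stp2 off (stp3 off (stp4 off (stp5 off (stp6 off (stp7 off (stp10 off (stp2 off (stp3 off (stp4 off (stp5 off (stp6 off (stp7 off (stp10 off (stp2 off (stp3 off (stp4 off (stp5 off (stp6 off (stp7 off (stp10 off (stp2 off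 (stp3 off (stp4 off (stp5 off (stp6 off v)))))))))))))))))))))))))))))))))))))))))))))))))))))))))))))))), (fun v _ _ => v), fun _ _ => rfl, fun _ _ => rfl⟩
def lf7_18 : Leaf (walkS st) := ⟨[], [6, 5, 0, 1, 2, 3, 4, 5, 11, 10, 5, 9, 8, 7, 6, 5, 0, 1, 2, 3, 4, 5, 11, 10, 5, 9, 8, 7, 6, 5, 0, 1, 2, 3, 4, 5, 11, 10, 5, 9, 8, 7, 6, 5, 0, 1, 2, 3, 4, 5, 11, 10, 5, 9, 8, 7, 6, 5, 0, 1, 2, 3, 4, 5, 11, 10, 5, 9, 8, 7, 6, 5, 0, 1, 2, 3, 4, 5, 11, 10, 5, 9, 8, 7, 6, 5, 0, 1, 2, 3, 4, 5, 11, 10, 5, 9, 8, 7, 6, 5, 0, 1, 2, 3, 4, 5, 11, 10, 5, 9, 8, 7, 6, 5, 0, 1, 2, 3, 4, 5, 11, 10, 5, 9, 8, 7, 6, 5, 0, 1, 2, 3, 4, 5, 11, 10, 5, 9, 8, 7, 6, 5, 0, 1, 2, 3, 4, 5, 11, 10, 5, 9, 8, 7, 6, 5, 0, 1, 2, 3, 4, 5, 11, 10, 5, 9, 8, 7, 6, 5, 0, 1, 2, 3, 4, 5, 11, 10, 5, 9, 8, 7, 6, 5, 0, 1, 2, 3, 4, 5, 11, 10, 5, 9, 8, 7, 6, 5, 0, 1, 2, 3, 4, 5, 11, 10, 5, 9, 8, 7, 6, 5, 0, 1, 2, 3, 4, 5, 11, 10, 5, 9, 8, 7, 6, 5, 0, 1, 2, 3, 4, 5, 11,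 10, 5, 9, 8], 79, 8, (fun _ v => v), (fun off v => (stp8 off (stp9 off (stp5 off (stp10 off (stp11 off (stp5 off (stp4 off (stp3 off (stp2 off (stp1 off (stp0 off (stp5 off (stp6 off (stp7 off (stp8 off (stp9 off (stp5 off (stp10 off (stp11 off (stp5 off (stp4 off (stp3 off (stp2 off (stp1 off (stp0 off (stp5 off (stp6 off (stp7 off (stp8 off (stp9 off (stp5 off (stp10 off (stp11 off (stp5 off (stp4 off (stp3 off (stp2 off (stp1 off (stp0 off (stp5 off (stp6 off (stp7 off (stp8 off (stp9 off (stp5 off (stp10 off (stp11 off (stp5 off (stp4 off (stp3 off (stp2 off (stp1 off (stp0 off (stp5 off (stp6 off (stp7 off (stp8 off (stp9 off (stp5 off (stp10 off (stp11 off (stp5 off (stp4 off (stp3 off (stp2 off (stp1 off (stp0 off (stp5 off (stp6 off (stp7 off (stp8 off (stp9 off (stp5 off (stp10 off (stp11 off (stp5 off (stp4 off (stp3 off (stp2 off (stp1 off (stp0 off (stp5 off (stp6 off (stp7 off (stp8 off (stp9 off (stp5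 off (stp10 off (stp11 off (stp5 off (stp4 off (stp3 off (stp2 off (stp1 off (stp0 off (stp5 off (stp6 off (stp7 off (stp8 off (stp9 off (stp5 off (stp10 off (stp11 off (stp5 off (stp4 off (stp3 off (stp2 off (stp1 off (stp0 off (stp5 off (stp6 off (stp7 off (stp8 off (stp9 off (stp5 off (stp10 off (stp11 off (stp5 off (stp4 off (stp3 off (stp2 off (stp1 off (stp0 off (stp5 off (stp6 off (stp7 off (stp8 off (stp9 off (stp5 off (stp10 off (stp11 off (stp5 off (stp4 off (stp3 off (stp2 off (stp1 off (stp0 off (stp5 off (stp6 off (stp7 off (stp8 off (stp9 off (stp5 off (stp10 off (stp11 off (stp5 off (stp4 off (stp3 off (stp2 off (stp1 off (stp0 off (stp5 off (stp6 off (stp7 off (stp8 off (stp9 off (stp5 off (stp10 off (stp11 off (stp5 off (stp4 off (stp3 off (stp2 off (stp1 off (stp0 off (stp5 off (stp6 off (stp7 off (stp8 off (stp9 off (stp5 off (stp10 off (stp11 off (stp5 off (stp4 off (stp3 off (stp2 off (stp1 off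 (stp0 off (stp5 off (stp6 off (stp7 off (stp8 off (stp9 off (stp5 off (stp10 off (stp11 off (stp5 off (stp4 off (stp3 off (stp2 off (stp1 off (stp0 off (stp5 off (stp6 off (stp7 off (stp8 off (stp9 off (stp5 off (stp10 off (stp11 off (stp5 off (stp4 off (stp3 off (stp2 off (stp1 off (stp0 off (stp5 off (stp6 off (stp7 off (stp8 off (stp9 off (stp5 off (stp10 off (stp11 off (stp5 off (stp4 off (stp3 off (stp2 off (stp1 off (stp0 off (stp5 off (stp6 off (stp7 off (stp8 off (stp9 off (stp5 off (stp10 off (stp11 off (stp5 off (stp4 off (stp3 off (stp2 off (stp1 off (stp0 off (stp5 off (stp6 off v)))))))))))))))))))))))))))))))))))))))))))))))))))))))))))))))))))))))))))))))))))))))))))))))))))))))))))))))))))))))))))))))))))))))))))))))))))))))))))))))))))))))))))))))))))))))))))))))))))))))))))))))))))))))))))))))))))))))))))))), (fun v _ _ => v), fun _ _ => rfl, fun _ _ => rfl⟩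
def lf7_19 : Leaf (walkS st) := ⟨[], [6, 5, 4, 3, 2, 10, 7, 6, 5, 4, 3, 2, 10, 7, 6, 5, 4, 3, 2, 0, 10, 7, 6, 5, 4, 3, 2, 10, 7, 6, 5, 4, 3, 2, 10, 7, 6, 5, 4, 3, 2, 10, 7, 6, 5, 4, 3, 2, 10, 7, 6, 5, 4, 3, 2, 10, 7, 6, 5, 4, 3, 2, 10], 146, 19, (fun _ v => v), (fun off v => (stp10 off (stp2 off (stp3 off (stp4 off (stp5 off (stp6 off (stp7 off (stp10 off (stp2 off (stp3 off (stp4 off (stp5 off (stp6 off (stp7 off (stp10 off (stp2 off (stp3 off (stp4 off (stp5 off (stp6 off (stp7 off (stp10 off (stp2 off (stp3 off (stp4 off (stp5 off (stp6 off (stp7 off (stp10 off (stp2 off (stp3 off (stp4 off (stp5 off (stp6 off (stp7 off (stp10 off (stp2 off (stp3 off (stp4 off (stp5 off (stp6 off (stp7 off (stp10 off (stp0 off (stp2 off (stp3 off (stp4 off (stp5 off (stp6 off (stp7 off (stp10 off (stp2 off (stp3 off (stp4 off (stp5 off (stp6 off (stp7 off (stp10 off (stp2 off (stp3 off (stp4 off (stp5 off (stp6 off v)))))))))))))))))))))))))))))))))))))))))))))))))))))))))))))))),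 (fun v _ _ => v), fun _ _ => rfl, fun _ _ => rfl⟩
def lf7_20 : Leaf (walkS st) := ⟨[], [6, 5, 4, 3, 2, 10, 7, 6, 5, 4, 3, 2, 10, 7, 6, 5, 4, 3, 2, 10, 7, 6, 5, 4, 3, 2, 10, 7, 6, 5, 4, 3, 2, 10, 7, 6, 5, 4, 3, 2, 10, 7, 6, 5, 4, 3, 2, 10, 7, 6, 5, 4, 3, 2, 0, 10, 7, 6, 5, 4, 3, 2, 10], 146, 54, (fun _ v => v), (fun off v => (stp10 off (stp2 off (stp3 off (stp4 off (stp5 off (stp6 off (stp7 off (stp10 off (stp0 off (stp2 off (stp3 off (stp4 off (stp5 off (stp6 off (stp7 off (stp10 off (stp2 off (stp3 off (stp4 off (stp5 off (stp6 off (stp7 off (stp10 off (stp2 off (stp3 off (stp4 off (stp5 off (stp6 off (stp7 off (stp10 off (stp2 off (stp3 off (stp4 off (stp5 off (stp6 off (stp7 off (stp10 off (stp2 off (stp3 off (stp4 off (stp5 off (stp6 off (stp7 off (stp10 off (stp2 off (stp3 off (stp4 off (stp5 off (stp6 off (stp7 off (stp10 off (stp2 off (stp3 off (stp4 off (stp5 off (stp6 off (stp7 off (stp10 off (stp2 off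 (stp3 off (stp4 off (stp5 off (stp6 off v)))))))))))))))))))))))))))))))))))))))))))))))))))))))))))))))), (fun v _ _ => v), fun _ _ => rfl, fun _ _ => rfl⟩
def lf7_21 : Leaf (walkS st) := ⟨[], [10, 0, 2, 3, 4, 5, 6, 7, 10, 2, 3, 4, 5, 6, 7, 10, 2, 3, 4, 5, 6, 7, 10, 2, 3, 4, 5, 6, 7, 10, 2, 3, 4, 5, 6, 7, 10, 2, 3, 4, 5, 6, 7, 10, 2, 3, 4, 5, 6, 7, 10, 2, 3, 4, 5, 6, 7, 10, 2, 3, 4, 5, 6], 78, 2, (fun _ v => v), (fun off v => (stp6 off (stp5 off (stp4 off (stp3 off (stp2 off (stp10 off (stp7 off (stp6 off (stp5 off (stp4 off (stp3 off (stp2 off (stp10 off (stp7 off (stp6 off (stp5 off (stp4 off (stp3 off (stp2 off (stp10 off (stp7 off (stp6 off (stp5 off (stp4 off (stp3 off (stp2 off (stp10 off (stp7 off (stp6 off (stp5 off (stp4 off (stp3 off (stp2 off (stp10 off (stp7 off (stp6 off (stp5 off (stp4 off (stp3 off (stp2 off (stp10 off (stp7 off (stp6 off (stp5 off (stp4 off (stp3 off (stp2 off (stp10 off (stp7 off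 (stp6 off (stp5 off (stp4 off (stp3 off (stp2 off (stp10 off (stp7 off (stp6 off (stp5 off (stp4 off (stp3 off (stp2 off (stp0 off (stp10 off v)))))))))))))))))))))))))))))))))))))))))))))))))))))))))))))))), (fun v _ _ => v), fun _ _ => rfl, fun _ _ => rfl⟩
def lf7_22 : Leaf (walkS st) := ⟨[], [6, 5, 4, 3, 2, 10, 7, 6, 5, 4, 3, 2, 0, 10, 7, 6, 5, 4, 3, 2, 10, 7, 6, 5, 4, 3, 2, 10, 7, 6, 5, 4, 3, 2, 10, 7, 6, 5, 4, 3, 2, 10, 7, 6, 5, 4, 3, 2, 10, 7, 6, 5, 4, 3, 2, 10, 7, 6, 5, 4, 3, 2, 10], 146, 12, (fun _ v => v), (fun off v => (stp10 off (stp2 off (stp3 off (stp4 off (stp5 off (stp6 off (stp7 off (stp10 off (stp2 off (stp3 off (stp4 off (stp5 off (stp6 off (stp7 off (stp10 off (stp2 off (stp3 off (stp4 off (stp5 off (stp6 off (stp7 off (stp10 off (stp2 off (stp3 off (stp4 off (stp5 off (stp6 off (stp7 off (stp10 off (stp2 off (stp3 off (stp4 off (stp5 off (stp6 off (stp7 off (stp10 off (stp2 off (stp3 off (stp4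 off (stp5 off (stp6 off (stp7 off (stp10 off (stp2 off (stp3 off (stp4 off (stp5 off (stp6 off (stp7 off (stp10 off (stp0 off (stp2 off (stp3 off (stp4 off (stp5 off (stp6 off (stp7 off (stp10 off (stp2 off (stp3 off (stp4 off (stp5 off (stp6 off v)))))))))))))))))))))))))))))))))))))))))))))))))))))))))))))))), (fun v _ _ => v), fun _ _ => rfl, fun _ _ => rfl⟩
def lf7_23 : Leaf (walkS st) := ⟨[], [6, 5, 4, 3, 2, 10, 7, 6, 5, 4, 3, 2, 10, 7, 6, 5, 4, 3, 2, 10, 7, 6, 5, 4, 3, 2, 10, 7, 6, 5, 4, 3, 2, 0, 10, 7, 6, 5, 4, 3, 2, 10, 7, 6, 5, 4, 3, 2, 10, 7, 6, 5, 4, 3, 2, 10, 7, 6, 5, 4, 3, 2, 10], 146, 33, (fun _ v => v), (fun off v => (stp10 off (stp2 off (stp3 off (stp4 off (stp5 off (stp6 off (stp7 off (stp10 off (stp2 off (stp3 off (stp4 off (stp5 off (stp6 off (stp7 off (stp10 off (stp2 off (stp3 off (stp4 off (stp5 off (stp6 off (stp7 off (stp10 off (stp2 off (stp3 off (stp4 off (stp5 off (stp6 off (stp7 off (stp10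 off (stp0 off (stp2 off (stp3 off (stp4 off (stp5 off (stp6 off (stp7 off (stp10 off (stp2 off (stp3 off (stp4 off (stp5 off (stp6 off (stp7 off (stp10 off (stp2 off (stp3 off (stp4 off (stp5 off (stp6 off (stp7 off (stp10 off (stp2 off (stp3 off (stp4 off (stp5 off (stp6 off (stp7 off (stp10 off (stp2 off (stp3 off (stp4 off (stp5 off (stp6 off v)))))))))))))))))))))))))))))))))))))))))))))))))))))))))))))))), (fun v _ _ => v), fun _ _ => rfl, fun _ _ => rfl⟩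
def lf7_24 : Leaf (walkS st) := ⟨[], [], 5, 0, (fun _ v => v), (fun _ v => v), (fun _ _ _ => 1), fun _ _ => rfl, fun _ _ => rfl⟩
def lf7_25 : Leaf (walkS st) := ⟨[12, 12], [7], 7, 0, (fun off v => (stp12 off (stp12 off v))), (fun off v => (stp7 off v)), (fun _ _ p => p), fun _ _ => rfl, fun _ _ => rfl⟩
def lf7_26 : Leaf (walkS st) := ⟨[], [10, 2, 3, 4, 5, 6, 7, 10, 0, 2, 3, 4, 5, 6, 7, 10, 2, 3, 4, 5, 6, 7, 10, 2, 3, 4, 5, 6, 7, 10, 2, 3, 4, 5, 6, 7, 10, 2, 3, 4, 5, 6, 7, 10, 2, 3, 4, 5, 6, 7, 10, 2, 3, 4, 5, 6, 7, 10, 2, 3, 4, 5, 6], 78, 9, (fun _ v => v), (fun off v => (stp6 off (stp5 off (stp4 off (stp3 off (stp2 off (stp10 off (stp7 off (stp6 off (stp5 off (stp4 off (stp3 off (stp2 off (stp10 off (stp7 off (stp6 off (stp5 off (stp4 off (stp3 off (stp2 off (stp10 off (stp7 off (stp6 off (stp5 off (stp4 off (stp3 off (stp2 off (stp10 off (stp7 off (stp6 off (stp5 off (stp4 off (stp3 off (stp2 off (stp10 off (stp7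 off (stp6 off (stp5 off (stp4 off (stp3 off (stp2 off (stp10 off (stp7 off (stp6 off (stp5 off (stp4 off (stp3 off (stp2 off (stp10 off (stp7 off (stp6 off (stp5 off (stp4 off (stp3 off (stp2 off (stp0 off (stp10 off (stp7 off (stp6 off (stp5 off (stp4 off (stp3 off (stp2 off (stp10 off v)))))))))))))))))))))))))))))))))))))))))))))))))))))))))))))))), (fun v _ _ => v), fun _ _ => rfl, fun _ _ => rfl⟩
def lf7_27 : Leaf (walkS st) := ⟨[], [6, 5, 4, 3, 2, 10, 7, 6, 5, 4, 3, 2, 10, 7, 6, 5, 4, 3, 2, 10, 7, 6, 5, 4, 3, 2, 10, 7, 6, 5, 4, 3, 2, 10, 7, 6, 5, 4, 3, 2, 10, 7, 6, 5, 4, 3, 2, 0, 10, 7, 6, 5, 4, 3, 2, 10, 7, 6, 5, 4, 3, 2, 10], 146, 47, (fun _ v => v), (fun off v => (stp10 off (stp2 off (stp3 off (stp4 off (stp5 off (stp6 off (stp7 off (stp10 off (stp2 off (stp3 off (stp4 off (stp5 off (stp6 off (stp7 off (stp10 off (stp0 off (stp2 off (stp3 off (stp4 off (stp5 off (stp6 off (stp7 off (stp10 off (stp2 off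 (stp3 off (stp4 off (stp5 off (stp6 off (stp7 off (stp10 off (stp2 off (stp3 off (stp4 off (stp5 off (stp6 off (stp7 off (stp10 off (stp2 off (stp3 off (stp4 off (stp5 off (stp6 off (stp7 off (stp10 off (stp2 off (stp3 off (stp4 off (stp5 off (stp6 off (stp7 off (stp10 off (stp2 off (stp3 off (stp4 off (stp5 off (stp6 off (stp7 off (stp10 off (stp2 off (stp3 off (stp4 off (stp5 off (stp6 off v)))))))))))))))))))))))))))))))))))))))))))))))))))))))))))))))), (fun v _ _ => v), fun _ _ => rfl, fun _ _ => rfl⟩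
def tree7 : RTree (walkS st) :=
  (.node 1 (.fork lf7_0) (.node 4 (.node 2 (.fork lf7_1) (.node 3 (.fork lf7_2) .tleaf)) (.node 6 (.node 5 (.fork lf7_4) (.fork lf7_5)) (.node 8 (.node 7 (.fork lf7_6) (.fork lf7_7)) (.node 9 (.fork lf7_8) (.node 10 (.fork lf7_9) (.node 11 (.fork lf7_10) (.node 12 (.fork lf7_11) (.node 14 (.node 13 (.fork lf7_12) (.fork lf7_13)) (.node 15 (.fork lf7_14) (.node 16 (.fork lf7_15) (.node 17 (.fork lf7_16) (.node 19 (.node 18 (.fork lf7_17) (.fork lf7_18)) (.node 22 (.node 20 (.fork lf7_19) (.node 21 (.fork lf7_20) (.fork lf7_21))) (.node 24 (.node 23 (.fork lf7_22) (.fork lf7_23)) (.node 26 (.node 25 (.sub lf7_24) (.fork lf7_25)) (.node 27 (.fork lf7_26) (.fork lf7_27))))))))))))))))))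
def lf8_0 : Leaf (walkS st) := ⟨[8], [], 8, 0, (fun off v => (stp8 off v)), (fun _ v => v), (fun _ u _ => u), fun _ _ => rfl, fun _ _ => rfl⟩
def lf8_1 : Leaf (walkS st) := ⟨[], [10, 8, 10], 73, 2, (fun _ v => v), (fun off v => (stp10 off (stp8 off (stp10 off v)))), (fun v _ _ => v), fun _ _ => rfl, fun _ _ => rfl⟩
def lf8_2 : Leaf (walkS st) := ⟨[], [11, 8, 11], 74, 2, (fun _ v => v), (fun off v => (stp11 off (stp8 off (stp11 off v)))), (fun v _ _ => v), fun _ _ => rfl, fun _ _ => rfl⟩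
def lf8_3 : Leaf (walkS st) := ⟨[], [5, 8, 5], 59, 1, (fun _ v => v), (fun off v => (stp5 off (stp8 off (stp5 off v)))), (fun v _ _ => v), fun _ _ => rfl, fun _ _ => rfl⟩
def lf8_4 : Leaf (walkS st) := ⟨[], [6, 8, 6], 64, 1, (fun _ v => v), (fun off v => (stp6 off (stp8 off (stp6 off v)))), (fun v _ _ => v), fun _ _ => rfl, fun _ _ => rfl⟩
def lf8_6 : Leaf (walkS st) := ⟨[], [4, 8, 4], 53, 1, (fun _ v => v), (fun off v => (stp4 off (stp8 off (stp4 off v)))), (fun v _ _ => v), fun _ _ => rfl, fun _ _ => rfl⟩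
def lf8_7 : Leaf (walkS st) := ⟨[], [7, 8, 7, 8, 7], 68, 1, (fun _ v => v), (fun off v => (stp7 off (stp8 off (stp7 off (stp8 off (stp7 off v)))))), (fun v _ _ => v), fun _ _ => rfl, fun _ _ => rfl⟩
def lf8_8 : Leaf (walkS st) := ⟨[], [3, 8, 3], 46, 1, (fun _ v => v), (fun off v => (stp3 off (stp8 off (stp3 off v)))), (fun v _ _ => v), fun _ _ => rfl, fun _ _ => rfl⟩
def lf8_9 : Leaf (walkS st) := ⟨[], [9, 8, 9, 8, 9], 72, 2, (fun _ v => v), (fun off v => (stp9 off (stp8 off (stp9 off (stp8 off (stp9 off v)))))), (fun v _ _ => v), fun _ _ => rfl, fun _ _ => rfl⟩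
def lf8_10 : Leaf (walkS st) := ⟨[], [2, 8, 2], 38, 1, (fun _ v => v), (fun off v => (stp2 off (stp8 off (stp2 off v)))), (fun v _ _ => v), fun _ _ => rfl, fun _ _ => rfl⟩
def lf8_11 : Leaf (walkS st) := ⟨[], [1, 8, 1], 29, 1, (fun _ v => v), (fun off v => (stp1 off (stp8 off (stp1 off v)))), (fun v _ _ => v), fun _ _ => rfl, fun _ _ => rfl⟩
def lf8_12 : Leaf (walkS st) := ⟨[], [0, 8, 0], 19, 1, (fun _ v => v), (fun off v => (stp0 off (stp8 off (stp0 off v)))), (fun v _ _ => v), fun _ _ => rfl, fun _ _ => rfl⟩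
def lf8_13 : Leaf (walkS st) := ⟨[12], [8], 8, 0, (fun off v => (stp12 off v)), (fun off v => (stp8 off v)), (fun _ _ p => p), fun _ _ => rfl, fun _ _ => rfl⟩
def lf8_14 : Leaf (walkS st) := ⟨[], [12, 8], 8, 0, (fun _ v => v), (fun off v => (stp8 off (stp12 off v))), (fun v _ _ => v), fun _ _ => rfl, fun _ _ => rfl⟩
def lf8_15 : Leaf (walkS st) := ⟨[8, 12], [], 8, 0, (fun off v => (stp12 off (stp8 off v))), (fun _ v => v), (fun _ u _ => u), fun _ _ => rfl, fun _ _ => rfl⟩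
def lf8_16 : Leaf (walkS st) := ⟨[], [7, 6, 5, 0, 1, 2, 3, 4, 5, 11, 10, 5, 9, 8, 7, 6, 5, 0, 1, 2, 3, 4, 5, 11, 10, 5, 9, 8, 7, 6, 5, 0, 1, 2, 3, 4, 5, 11, 10, 5, 9, 8, 7, 6, 5, 0, 1, 2, 3, 4, 5, 11, 10, 5, 9, 8, 7, 6, 5, 0, 1, 2, 3, 4, 5, 11, 10, 5, 9, 8, 7, 6, 5, 0, 1, 2, 3, 4, 5, 11, 10, 5, 9, 8, 7, 6, 5, 0, 1, 2, 3, 4, 5, 11, 10, 5, 9, 8, 7, 6, 5, 0, 1, 2, 3, 4, 5, 11, 10, 5, 9, 8, 7, 6, 5, 0, 1, 2, 3, 4, 5, 11, 10, 5, 9, 8, 7, 6, 5, 0, 1, 2, 3, 4, 5, 11, 10, 5, 9, 8, 7, 6, 5, 0, 1, 2, 3, 4, 5, 11, 10, 5, 9, 8, 7, 6, 5, 0, 1, 2, 3, 4, 5, 11, 10, 5, 9, 8, 7, 6, 5, 0, 1, 2, 3, 4, 5, 11, 10, 5, 9, 8, 7, 6, 5, 0, 1, 2, 3, 4, 5, 11, 10, 5, 9, 8, 7, 6, 5, 0, 1, 2, 3, 4, 5, 11, 10, 5, 9, 8, 7, 6, 5, 0, 1, 2, 3, 4, 5, 11, 10, 5, 9, 8, 7, 6, 5, 0, 1, 2, 3, 4, 5, 11, 10, 5, 9], 79, 9, (fun _ v => v), (fun off v => (stp9 off (stp5 off (stp10 off (stp11 off (stp5 off (stp4 off (stp3 off (stp2 off (stp1 off (stp0 off (stp5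 off (stp6 off (stp7 off (stp8 off (stp9 off (stp5 off (stp10 off (stp11 off (stp5 off (stp4 off (stp3 off (stp2 off (stp1 off (stp0 off (stp5 off (stp6 off (stp7 off (stp8 off (stp9 off (stp5 off (stp10 off (stp11 off (stp5 off (stp4 off (stp3 off (stp2 off (stp1 off (stp0 off (stp5 off (stp6 off (stp7 off (stp8 off (stp9 off (stp5 off (stp10 off (stp11 off (stp5 off (stp4 off (stp3 off (stp2 off (stp1 off (stp0 off (stp5 off (stp6 off (stp7 off (stp8 off (stp9 off (stp5 off (stp10 off (stp11 off (stp5 off (stp4 off (stp3 off (stp2 off (stp1 off (stp0 off (stp5 off (stp6 off (stp7 off (stp8 off (stp9 off (stp5 off (stp10 off (stp11 off (stp5 off (stp4 off (stp3 off (stp2 off (stp1 off (stp0 off (stp5 off (stp6 off (stp7 off (stp8 off (stp9 off (stp5 off (stp10 off (stp11 off (stp5 off (stp4 off (stp3 off (stp2 off (stp1 off (stp0 off (stp5 off (stp6 off (stp7 off (stp8 off (stp9 off (stp5 off (stp10 off (stp11 off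 (stp5 off (stp4 off (stp3 off (stp2 off (stp1 off (stp0 off (stp5 off (stp6 off (stp7 off (stp8 off (stp9 off (stp5 off (stp10 off (stp11 off (stp5 off (stp4 off (stp3 off (stp2 off (stp1 off (stp0 off (stp5 off (stp6 off (stp7 off (stp8 off (stp9 off (stp5 off (stp10 off (stp11 off (stp5 off (stp4 off (stp3 off (stp2 off (stp1 off (stp0 off (stp5 off (stp6 off (stp7 off (stp8 off (stp9 off (stp5 off (stp10 off (stp11 off (stp5 off (stp4 off (stp3 off (stp2 off (stp1 off (stp0 off (stp5 off (stp6 off (stp7 off (stp8 off (stp9 off (stp5 off (stp10 off (stp11 off (stp5 off (stp4 off (stp3 off (stp2 off (stp1 off (stp0 off (stp5 off (stp6 off (stp7 off (stp8 off (stp9 off (stp5 off (stp10 off (stp11 off (stp5 off (stp4 off (stp3 off (stp2 off (stp1 off (stp0 off (stp5 off (stp6 off (stp7 off (stp8 off (stp9 off (stp5 off (stp10 off (stp11 off (stp5 off (stp4 off (stp3 off (stp2 off (stp1 off (stp0 off (stp5 off (stp6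 off (stp7 off (stp8 off (stp9 off (stp5 off (stp10 off (stp11 off (stp5 off (stp4 off (stp3 off (stp2 off (stp1 off (stp0 off (stp5 off (stp6 off (stp7 off (stp8 off (stp9 off (stp5 off (stp10 off (stp11 off (stp5 off (stp4 off (stp3 off (stp2 off (stp1 off (stp0 off (stp5 off (stp6 off (stp7 off (stp8 off (stp9 off (stp5 off (stp10 off (stp11 off (stp5 off (stp4 off (stp3 off (stp2 off (stp1 off (stp0 off (stp5 off (stp6 off (stp7 off v)))))))))))))))))))))))))))))))))))))))))))))))))))))))))))))))))))))))))))))))))))))))))))))))))))))))))))))))))))))))))))))))))))))))))))))))))))))))))))))))))))))))))))))))))))))))))))))))))))))))))))))))))))))))))))))))))))))))))))))), (fun v _ _ => v), fun _ _ => rfl, fun _ _ => rfl⟩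
def lf8_17 : Leaf (walkS st) := ⟨[12, 12], [8], 8, 0, (fun off v => (stp12 off (stp12 off v))), (fun off v => (stp8 off v)), (fun _ _ p => p), fun _ _ => rfl, fun _ _ => rfl⟩
def lf8_18 : Leaf (walkS st) := ⟨[8, 12, 12], [], 8, 0, (fun off v => (stp12 off (stp12 off (stp8 off v)))), (fun _ v => v), (fun _ u _ => u), fun _ _ => rfl, fun _ _ => rfl⟩
def lf8_19 : Leaf (walkS st) := ⟨[], [], 6, 0, (fun _ v => v), (fun _ v => v), (fun _ _ _ => 1), fun _ _ => rfl, fun _ _ => rfl⟩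
def tree8 : RTree (walkS st) :=
  (.node 1 (.fork lf8_0) (.node 4 (.node 2 (.fork lf8_1) (.node 3 (.fork lf8_2) (.fork lf8_3))) (.node 6 (.node 5 (.fork lf8_4) .tleaf) (.node 8 (.node 7 (.fork lf8_6) (.fork lf8_7)) (.node 9 (.fork lf8_8) (.node 10 (.fork lf8_9) (.node 11 (.fork lf8_10) (.node 12 (.fork lf8_11) (.node 13 (.fork lf8_12) (.node 14 (.fork lf8_13) (.node 15 (.fork lf8_14) (.node 16 (.fork lf8_15) (.node 17 (.fork lf8_16) (.node 18 (.fork lf8_17) (.node 19 (.fork lf8_18) (.sub lf8_19))))))))))))))))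
def lf9_0 : Leaf (walkS st) := ⟨[9], [], 9, 0, (fun off v => (stp9 off v)), (fun _ v => v), (fun _ u _ => u), fun _ _ => rfl, fun _ _ => rfl⟩
def lf9_1 : Leaf (walkS st) := ⟨[], [10, 9, 10], 75, 2, (fun _ v => v), (fun off v => (stp10 off (stp9 off (stp10 off v)))), (fun v _ _ => v), fun _ _ => rfl, fun _ _ => rfl⟩
def lf9_2 : Leaf (walkS st) := ⟨[], [11, 9, 11], 76, 2, (fun _ v => v), (fun off v => (stp11 off (stp9 off (stp11 off v)))), (fun v _ _ => v), fun _ _ => rfl, fun _ _ => rfl⟩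
def lf9_3 : Leaf (walkS st) := ⟨[], [5, 9, 5], 60, 1, (fun _ v => v), (fun off v => (stp5 off (stp9 off (stp5 off v)))), (fun v _ _ => v), fun _ _ => rfl, fun _ _ => rfl⟩
def lf9_4 : Leaf (walkS st) := ⟨[], [6, 9, 6], 65, 1, (fun _ v => v), (fun off v => (stp6 off (stp9 off (stp6 off v)))), (fun v _ _ => v), fun _ _ => rfl, fun _ _ => rfl⟩
def lf9_5 : Leaf (walkS st) := ⟨[], [7, 9, 7], 69, 1, (fun _ v => v), (fun off v => (stp7 off (stp9 off (stp7 off v)))), (fun v _ _ => v), fun _ _ => rfl, fun _ _ => rfl⟩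
def lf9_6 : Leaf (walkS st) := ⟨[], [4, 9, 4], 54, 1, (fun _ v => v), (fun off v => (stp4 off (stp9 off (stp4 off v)))), (fun v _ _ => v), fun _ _ => rfl, fun _ _ => rfl⟩
def lf9_8 : Leaf (walkS st) := ⟨[], [3, 9, 3], 47, 1, (fun _ v => v), (fun off v => (stp3 off (stp9 off (stp3 off v)))), (fun v _ _ => v), fun _ _ => rfl, fun _ _ => rfl⟩
def lf9_9 : Leaf (walkS st) := ⟨[], [8, 9, 8, 9, 8], 72, 1, (fun _ v => v), (fun off v => (stp8 off (stp9 off (stp8 off (stp9 off (stp8 off v)))))), (fun v _ _ => v), fun _ _ => rfl, fun _ _ => rfl⟩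
def lf9_10 : Leaf (walkS st) := ⟨[], [2, 9, 2], 39, 1, (fun _ v => v), (fun off v => (stp2 off (stp9 off (stp2 off v)))), (fun v _ _ => v), fun _ _ => rfl, fun _ _ => rfl⟩
def lf9_11 : Leaf (walkS st) := ⟨[], [1, 9, 1], 30, 1, (fun _ v => v), (fun off v => (stp1 off (stp9 off (stp1 off v)))), (fun v _ _ => v), fun _ _ => rfl, fun _ _ => rfl⟩
def lf9_12 : Leaf (walkS st) := ⟨[], [0, 9, 0], 20, 1, (fun _ v => v), (fun off v => (stp0 off (stp9 off (stp0 off v)))), (fun v _ _ => v), fun _ _ => rfl, fun _ _ => rfl⟩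
def lf9_13 : Leaf (walkS st) := ⟨[12], [9], 9, 0, (fun off v => (stp12 off v)), (fun off v => (stp9 off v)), (fun _ _ p => p), fun _ _ => rfl, fun _ _ => rfl⟩
def lf9_14 : Leaf (walkS st) := ⟨[9, 12], [], 9, 0, (fun off v => (stp12 off (stp9 off v))), (fun _ v => v), (fun _ u _ => u), fun _ _ => rfl, fun _ _ => rfl⟩
def lf9_15 : Leaf (walkS st) := ⟨[], [12, 9], 9, 0, (fun _ v => v), (fun off v => (stp9 off (stp12 off v))), (fun v _ _ => v), fun _ _ => rfl, fun _ _ => rfl⟩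
def lf9_16 : Leaf (walkS st) := ⟨[], [8, 7, 6, 5, 0, 1, 2, 3, 4, 5, 11, 10, 5, 9, 8, 7, 6, 5, 0, 1, 2, 3, 4, 5, 11, 10, 5, 9, 8, 7, 6, 5, 0, 1, 2, 3, 4, 5, 11, 10, 5, 9, 8, 7, 6, 5, 0, 1, 2, 3, 4, 5, 11, 10, 5, 9, 8, 7, 6, 5, 0, 1, 2, 3, 4, 5, 11, 10, 5, 9, 8, 7, 6, 5, 0, 1, 2, 3, 4, 5, 11, 10, 5, 9, 8, 7, 6, 5, 0, 1, 2, 3, 4, 5, 11, 10, 5, 9, 8, 7, 6, 5, 0, 1, 2, 3, 4, 5, 11, 10, 5, 9, 8, 7, 6, 5, 0, 1, 2, 3, 4, 5, 11, 10, 5, 9, 8, 7, 6, 5, 0, 1, 2, 3, 4, 5, 11, 10, 5, 9, 8, 7, 6, 5, 0, 1, 2, 3, 4, 5, 11, 10, 5, 9, 8, 7, 6, 5, 0, 1, 2, 3, 4, 5, 11, 10, 5, 9, 8, 7, 6, 5, 0, 1, 2, 3, 4, 5, 11, 10, 5, 9, 8, 7, 6, 5, 0, 1, 2, 3, 4, 5, 11, 10, 5, 9, 8, 7, 6, 5, 0, 1, 2, 3, 4, 5, 11, 10, 5, 9, 8, 7, 6, 5, 0, 1, 2, 3, 4, 5, 11, 10, 5, 9, 8, 7, 6, 5, 0, 1, 2, 3, 4, 5, 11, 10, 5], 79, 10, (fun _ v => v), (fun off v => (stp5 off (stp10 off (stp11 off (stp5 off (stp4 off (stp3 off (stp2 off (stp1 off (stp0 off (stp5 off (stp6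 off (stp7 off (stp8 off (stp9 off (stp5 off (stp10 off (stp11 off (stp5 off (stp4 off (stp3 off (stp2 off (stp1 off (stp0 off (stp5 off (stp6 off (stp7 off (stp8 off (stp9 off (stp5 off (stp10 off (stp11 off (stp5 off (stp4 off (stp3 off (stp2 off (stp1 off (stp0 off (stp5 off (stp6 off (stp7 off (stp8 off (stp9 off (stp5 off (stp10 off (stp11 off (stp5 off (stp4 off (stp3 off (stp2 off (stp1 off (stp0 off (stp5 off (stp6 off (stp7 off (stp8 off (stp9 off (stp5 off (stp10 off (stp11 off (stp5 off (stp4 off (stp3 off (stp2 off (stp1 off (stp0 off (stp5 off (stp6 off (stp7 off (stp8 off (stp9 off (stp5 off (stp10 off (stp11 off (stp5 off (stp4 off (stp3 off (stp2 off (stp1 off (stp0 off (stp5 off (stp6 off (stp7 off (stp8 off (stp9 off (stp5 off (stp10 off (stp11 off (stp5 off (stp4 off (stp3 off (stp2 off (stp1 off (stp0 off (stp5 off (stp6 off (stp7 off (stp8 off (stp9 off (stp5 off (stp10 off (stp11 off (stp5 off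 (stp4 off (stp3 off (stp2 off (stp1 off (stp0 off (stp5 off (stp6 off (stp7 off (stp8 off (stp9 off (stp5 off (stp10 off (stp11 off (stp5 off (stp4 off (stp3 off (stp2 off (stp1 off (stp0 off (stp5 off (stp6 off (stp7 off (stp8 off (stp9 off (stp5 off (stp10 off (stp11 off (stp5 off (stp4 off (stp3 off (stp2 off (stp1 off (stp0 off (stp5 off (stp6 off (stp7 off (stp8 off (stp9 off (stp5 off (stp10 off (stp11 off (stp5 off (stp4 off (stp3 off (stp2 off (stp1 off (stp0 off (stp5 off (stp6 off (stp7 off (stp8 off (stp9 off (stp5 off (stp10 off (stp11 off (stp5 off (stp4 off (stp3 off (stp2 off (stp1 off (stp0 off (stp5 off (stp6 off (stp7 off (stp8 off (stp9 off (stp5 off (stp10 off (stp11 off (stp5 off (stp4 off (stp3 off (stp2 off (stp1 off (stp0 off (stp5 off (stp6 off (stp7 off (stp8 off (stp9 off (stp5 off (stp10 off (stp11 off (stp5 off (stp4 off (stp3 off (stp2 off (stp1 off (stp0 off (stp5 off (stp6 off (stp7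 off (stp8 off (stp9 off (stp5 off (stp10 off (stp11 off (stp5 off (stp4 off (stp3 off (stp2 off (stp1 off (stp0 off (stp5 off (stp6 off (stp7 off (stp8 off (stp9 off (stp5 off (stp10 off (stp11 off (stp5 off (stp4 off (stp3 off (stp2 off (stp1 off (stp0 off (stp5 off (stp6 off (stp7 off (stp8 off (stp9 off (stp5 off (stp10 off (stp11 off (stp5 off (stp4 off (stp3 off (stp2 off (stp1 off (stp0 off (stp5 off (stp6 off (stp7 off (stp8 off v)))))))))))))))))))))))))))))))))))))))))))))))))))))))))))))))))))))))))))))))))))))))))))))))))))))))))))))))))))))))))))))))))))))))))))))))))))))))))))))))))))))))))))))))))))))))))))))))))))))))))))))))))))))))))))))))))))))))))))))), (fun v _ _ => v), fun _ _ => rfl, fun _ _ => rfl⟩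
def lf9_17 : Leaf (walkS st) := ⟨[9, 12, 12], [], 9, 0, (fun off v => (stp12 off (stp12 off (stp9 off v)))), (fun _ v => v), (fun _ u _ => u), fun _ _ => rfl, fun _ _ => rfl⟩
def lf9_18 : Leaf (walkS st) := ⟨[], [], 9, 0, (fun _ v => v), (fun _ v => v), (fun _ _ _ => 1), fun _ _ => rfl, fun _ _ => rfl⟩
def tree9 : RTree (walkS st) :=
  (.node 1 (.fork lf9_0) (.node 4 (.node 2 (.fork lf9_1) (.node 3 (.fork lf9_2) (.fork lf9_3))) (.node 6 (.node 5 (.fork lf9_4) (.fork lf9_5)) (.node 8 (.node 7 (.fork lf9_6) .tleaf) (.node 9 (.fork lf9_8) (.node 10 (.fork lf9_9) (.node 11 (.fork lf9_10) (.node 12 (.fork lf9_11) (.node 13 (.fork lf9_12) (.node 14 (.fork lf9_13) (.node 15 (.fork lf9_14) (.node 16 (.fork lf9_15) (.node 17 (.fork lf9_16) (.node 18 (.fork lf9_17) (.sub lf9_18)))))))))))))))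
def lf10_0 : Leaf (walkS st) := ⟨[10], [], 10, 0, (fun off v => (stp10 off v)), (fun _ v => v), (fun _ u _ => u), fun _ _ => rfl, fun _ _ => rfl⟩
def lf10_2 : Leaf (walkS st) := ⟨[], [6, 10, 6], 66, 1, (fun _ v => v), (fun off v => (stp6 off (stp10 off (stp6 off v)))), (fun v _ _ => v), fun _ _ => rfl, fun _ _ => rfl⟩
def lf10_3 : Leaf (walkS st) := ⟨[], [5, 10, 5, 10, 5], 61, 1, (fun _ v => v), (fun off v => (stp5 off (stp10 off (stp5 off (stp10 off (stp5 off v)))))), (fun v _ _ => v), fun _ _ => rfl, fun _ _ => rfl⟩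
def lf10_4 : Leaf (walkS st) := ⟨[], [11, 10, 11, 10, 11], 77, 2, (fun _ v => v), (fun off v => (stp11 off (stp10 off (stp11 off (stp10 off (stp11 off v)))))), (fun v _ _ => v), fun _ _ => rfl, fun _ _ => rfl⟩
def lf10_5 : Leaf (walkS st) := ⟨[], [7, 10, 7], 70, 1, (fun _ v => v), (fun off v => (stp7 off (stp10 off (stp7 off v)))), (fun v _ _ => v), fun _ _ => rfl, fun _ _ => rfl⟩
def lf10_6 : Leaf (walkS st) := ⟨[], [4, 10, 4], 55, 1, (fun _ v => v), (fun off v => (stp4 off (stp10 off (stp4 off v)))), (fun v _ _ => v), fun _ _ => rfl, fun _ _ => rfl⟩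
def lf10_7 : Leaf (walkS st) := ⟨[], [8, 10, 8], 73, 1, (fun _ v => v), (fun off v => (stp8 off (stp10 off (stp8 off v)))), (fun v _ _ => v), fun _ _ => rfl, fun _ _ => rfl⟩
def lf10_8 : Leaf (walkS st) := ⟨[], [3, 10, 3], 48, 1, (fun _ v => v), (fun off v => (stp3 off (stp10 off (stp3 off v)))), (fun v _ _ => v), fun _ _ => rfl, fun _ _ => rfl⟩
def lf10_9 : Leaf (walkS st) := ⟨[], [9, 10, 9], 75, 3, (fun _ v => v), (fun off v => (stp9 off (stp10 off (stp9 off v)))), (fun v _ _ => v), fun _ _ => rfl, fun _ _ => rfl⟩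
def lf10_10 : Leaf (walkS st) := ⟨[], [2, 10, 2], 40, 1, (fun _ v => v), (fun off v => (stp2 off (stp10 off (stp2 off v)))), (fun v _ _ => v), fun _ _ => rfl, fun _ _ => rfl⟩
def lf10_11 : Leaf (walkS st) := ⟨[], [1, 10, 1], 31, 1, (fun _ v => v), (fun off v => (stp1 off (stp10 off (stp1 off v)))), (fun v _ _ => v), fun _ _ => rfl, fun _ _ => rfl⟩
def lf10_12 : Leaf (walkS st) := ⟨[], [12, 10], 10, 0, (fun _ v => v), (fun off v => (stp10 off (stp12 off v))), (fun v _ _ => v), fun _ _ => rfl, fun _ _ => rfl⟩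
def lf10_13 : Leaf (walkS st) := ⟨[], [0, 10, 0], 21, 1, (fun _ v => v), (fun off v => (stp0 off (stp10 off (stp0 off v)))), (fun v _ _ => v), fun _ _ => rfl, fun _ _ => rfl⟩
def lf10_14 : Leaf (walkS st) := ⟨[12], [10], 10, 0, (fun off v => (stp12 off v)), (fun off v => (stp10 off v)), (fun _ _ p => p), fun _ _ => rfl, fun _ _ => rfl⟩
def lf10_15 : Leaf (walkS st) := ⟨[10, 12], [], 10, 0, (fun off v => (stp12 off (stp10 off v))), (fun _ v => v), (fun _ u _ => u), fun _ _ => rfl, fun _ _ => rfl⟩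
def lf10_16 : Leaf (walkS st) := ⟨[], [7, 6, 5, 4, 3, 2, 0, 10, 7, 6, 5, 4, 3, 2, 10, 7, 6, 5, 4, 3, 2, 10, 7, 6, 5, 4, 3, 2, 10, 7, 6, 5, 4, 3, 2, 10, 7, 6, 5, 4, 3, 2, 10, 7, 6, 5, 4, 3, 2, 10, 7, 6, 5, 4, 3, 2, 10, 7, 6, 5, 4, 3, 2], 146, 6, (fun _ v => v), (fun off v => (stp2 off (stp3 off (stp4 off (stp5 off (stp6 off (stp7 off (stp10 off (stp2 off (stp3 off (stp4 off (stp5 off (stp6 off (stp7 off (stp10 off (stp2 off (stp3 off (stp4 off (stp5 off (stp6 off (stp7 off (stp10 off (stp2 off (stp3 off (stp4 off (stp5 off (stp6 off (stp7 off (stp10 off (stp2 off (stp3 off (stp4 off (stp5 off (stp6 off (stp7 off (stp10 off (stp2 off (stp3 off (stp4 off (stp5 off (stp6 off (stp7 off (stp10 off (stp2 off (stp3 off (stp4 off (stp5 off (stp6 off (stp7 off (stp10 off (stp2 off (stp3 off (stp4 off (stp5 off (stp6 off (stp7 off (stp10 off (stp0 off (stp2 off (stp3 off (stp4 off (stp5 off (stp6 off (stp7 off v)))))))))))))))))))))))))))))))))))))))))))))))))))))))))))))))),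 (fun v _ _ => v), fun _ _ => rfl, fun _ _ => rfl⟩
def lf10_17 : Leaf (walkS st) := ⟨[], [7, 6, 5, 4, 3, 2, 10, 7, 6, 5, 4, 3, 2, 10, 7, 6, 5, 4, 3, 2, 10, 7, 6, 5, 4, 3, 2, 10, 7, 6, 5, 4, 3, 2, 10, 7, 6, 5, 4, 3, 2, 10, 7, 6, 5, 4, 3, 2, 10, 7, 6, 5, 4, 3, 2, 10, 7, 6, 5, 4, 3, 2, 0], 146, 62, (fun _ v => v), (fun off v => (stp0 off (stp2 off (stp3 off (stp4 off (stp5 off (stp6 off (stp7 off (stp10 off (stp2 off (stp3 off (stp4 off (stp5 off (stp6 off (stp7 off (stp10 off (stp2 off (stp3 off (stp4 off (stp5 off (stp6 off (stp7 off (stp10 off (stp2 off (stp3 off (stp4 off (stp5 off (stp6 off (stp7 off (stp10 off (stp2 off (stp3 off (stp4 off (stp5 off (stp6 off (stp7 off (stp10 off (stp2 off (stp3 off (stp4 off (stp5 off (stp6 off (stp7 off (stp10 off (stp2 off (stp3 off (stp4 off (stp5 off (stp6 off (stp7 off (stp10 off (stp2 off (stp3 off (stp4 off (stp5 off (stp6 off (stp7 off (stp10 off (stp2 off (stp3 off (stp4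 off (stp5 off (stp6 off (stp7 off v)))))))))))))))))))))))))))))))))))))))))))))))))))))))))))))))), (fun v _ _ => v), fun _ _ => rfl, fun _ _ => rfl⟩
def lf10_18 : Leaf (walkS st) := ⟨[], [2, 3, 4, 5, 6, 7, 10, 0, 2, 3, 4, 5, 6, 7, 10, 2, 3, 4, 5, 6, 7, 10, 2, 3, 4, 5, 6, 7, 10, 2, 3, 4, 5, 6, 7, 10, 2, 3, 4, 5, 6, 7, 10, 2, 3, 4, 5, 6, 7, 10, 2, 3, 4, 5, 6, 7, 10, 2, 3, 4, 5, 6, 7], 78, 8, (fun _ v => v), (fun off v => (stp7 off (stp6 off (stp5 off (stp4 off (stp3 off (stp2 off (stp10 off (stp7 off (stp6 off (stp5 off (stp4 off (stp3 off (stp2 off (stp10 off (stp7 off (stp6 off (stp5 off (stp4 off (stp3 off (stp2 off (stp10 off (stp7 off (stp6 off (stp5 off (stp4 off (stp3 off (stp2 off (stp10 off (stp7 off (stp6 off (stp5 off (stp4 off (stp3 off (stp2 off (stp10 off (stp7 off (stp6 off (stp5 off (stp4 off (stp3 off (stp2 off (stp10 off (stp7 off (stp6 off (stp5 off (stp4 off (stp3 off (stp2 off (stp10 off (stp7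 off (stp6 off (stp5 off (stp4 off (stp3 off (stp2 off (stp0 off (stp10 off (stp7 off (stp6 off (stp5 off (stp4 off (stp3 off (stp2 off v)))))))))))))))))))))))))))))))))))))))))))))))))))))))))))))))), (fun v _ _ => v), fun _ _ => rfl, fun _ _ => rfl⟩
def lf10_19 : Leaf (walkS st) := ⟨[], [0, 2, 3, 4, 5, 6, 7, 10, 2, 3, 4, 5, 6, 7, 10, 2, 3, 4, 5, 6, 7, 10, 2, 3, 4, 5, 6, 7, 10, 2, 3, 4, 5, 6, 7, 10, 2, 3, 4, 5, 6, 7, 10, 2, 3, 4, 5, 6, 7, 10, 2, 3, 4, 5, 6, 7, 10, 2, 3, 4, 5, 6, 7], 78, 1, (fun _ v => v), (fun off v => (stp7 off (stp6 off (stp5 off (stp4 off (stp3 off (stp2 off (stp10 off (stp7 off (stp6 off (stp5 off (stp4 off (stp3 off (stp2 off (stp10 off (stp7 off (stp6 off (stp5 off (stp4 off (stp3 off (stp2 off (stp10 off (stp7 off (stp6 off (stp5 off (stp4 off (stp3 off (stp2 off (stp10 off (stp7 off (stp6 off (stp5 off (stp4 off (stp3 off (stp2 off (stp10 off (stp7 off (stp6 off (stp5 off (stp4 off (stp3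 off (stp2 off (stp10 off (stp7 off (stp6 off (stp5 off (stp4 off (stp3 off (stp2 off (stp10 off (stp7 off (stp6 off (stp5 off (stp4 off (stp3 off (stp2 off (stp10 off (stp7 off (stp6 off (stp5 off (stp4 off (stp3 off (stp2 off (stp0 off v)))))))))))))))))))))))))))))))))))))))))))))))))))))))))))))))), (fun v _ _ => v), fun _ _ => rfl, fun _ _ => rfl⟩
def lf10_20 : Leaf (walkS st) := ⟨[], [5, 9, 8, 7, 6, 5, 0, 1, 2, 3, 4, 5, 11, 10, 5, 9, 8, 7, 6, 5, 0, 1, 2, 3, 4, 5, 11, 10, 5, 9, 8, 7, 6, 5, 0, 1, 2, 3, 4, 5, 11, 10, 5, 9, 8, 7, 6, 5, 0, 1, 2, 3, 4, 5, 11, 10, 5, 9, 8, 7, 6, 5, 0, 1, 2, 3, 4, 5, 11, 10, 5, 9, 8, 7, 6, 5, 0, 1, 2, 3, 4, 5, 11, 10, 5, 9, 8, 7, 6, 5, 0, 1, 2, 3, 4, 5, 11, 10, 5, 9, 8, 7, 6, 5, 0, 1, 2, 3, 4, 5, 11, 10, 5, 9, 8, 7, 6, 5, 0, 1, 2, 3, 4, 5, 11, 10, 5, 9, 8, 7, 6, 5, 0, 1, 2, 3, 4, 5, 11, 10, 5, 9, 8, 7, 6, 5, 0, 1, 2, 3, 4, 5, 11, 10, 5, 9, 8, 7, 6, 5, 0, 1, 2, 3, 4, 5, 11, 10, 5, 9,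 8, 7, 6, 5, 0, 1, 2, 3, 4, 5, 11, 10, 5, 9, 8, 7, 6, 5, 0, 1, 2, 3, 4, 5, 11, 10, 5, 9, 8, 7, 6, 5, 0, 1, 2, 3, 4, 5, 11, 10, 5, 9, 8, 7, 6, 5, 0, 1, 2, 3, 4, 5, 11, 10, 5, 9, 8, 7, 6, 5, 0, 1, 2, 3, 4, 5, 11], 79, 12, (fun _ v => v), (fun off v => (stp11 off (stp5 off (stp4 off (stp3 off (stp2 off (stp1 off (stp0 off (stp5 off (stp6 off (stp7 off (stp8 off (stp9 off (stp5 off (stp10 off (stp11 off (stp5 off (stp4 off (stp3 off (stp2 off (stp1 off (stp0 off (stp5 off (stp6 off (stp7 off (stp8 off (stp9 off (stp5 off (stp10 off (stp11 off (stp5 off (stp4 off (stp3 off (stp2 off (stp1 off (stp0 off (stp5 off (stp6 off (stp7 off (stp8 off (stp9 off (stp5 off (stp10 off (stp11 off (stp5 off (stp4 off (stp3 off (stp2 off (stp1 off (stp0 off (stp5 off (stp6 off (stp7 off (stp8 off (stp9 off (stp5 off (stp10 off (stp11 off (stp5 off (stp4 off (stp3 off (stp2 off (stp1 off (stp0 off (stp5 off (stp6 off (stp7 off (stp8 off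 (stp9 off (stp5 off (stp10 off (stp11 off (stp5 off (stp4 off (stp3 off (stp2 off (stp1 off (stp0 off (stp5 off (stp6 off (stp7 off (stp8 off (stp9 off (stp5 off (stp10 off (stp11 off (stp5 off (stp4 off (stp3 off (stp2 off (stp1 off (stp0 off (stp5 off (stp6 off (stp7 off (stp8 off (stp9 off (stp5 off (stp10 off (stp11 off (stp5 off (stp4 off (stp3 off (stp2 off (stp1 off (stp0 off (stp5 off (stp6 off (stp7 off (stp8 off (stp9 off (stp5 off (stp10 off (stp11 off (stp5 off (stp4 off (stp3 off (stp2 off (stp1 off (stp0 off (stp5 off (stp6 off (stp7 off (stp8 off (stp9 off (stp5 off (stp10 off (stp11 off (stp5 off (stp4 off (stp3 off (stp2 off (stp1 off (stp0 off (stp5 off (stp6 off (stp7 off (stp8 off (stp9 off (stp5 off (stp10 off (stp11 off (stp5 off (stp4 off (stp3 off (stp2 off (stp1 off (stp0 off (stp5 off (stp6 off (stp7 off (stp8 off (stp9 off (stp5 off (stp10 off (stp11 off (stp5 off (stp4 off (stp3 off (stp2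 off (stp1 off (stp0 off (stp5 off (stp6 off (stp7 off (stp8 off (stp9 off (stp5 off (stp10 off (stp11 off (stp5 off (stp4 off (stp3 off (stp2 off (stp1 off (stp0 off (stp5 off (stp6 off (stp7 off (stp8 off (stp9 off (stp5 off (stp10 off (stp11 off (stp5 off (stp4 off (stp3 off (stp2 off (stp1 off (stp0 off (stp5 off (stp6 off (stp7 off (stp8 off (stp9 off (stp5 off (stp10 off (stp11 off (stp5 off (stp4 off (stp3 off (stp2 off (stp1 off (stp0 off (stp5 off (stp6 off (stp7 off (stp8 off (stp9 off (stp5 off (stp10 off (stp11 off (stp5 off (stp4 off (stp3 off (stp2 off (stp1 off (stp0 off (stp5 off (stp6 off (stp7 off (stp8 off (stp9 off (stp5 off (stp10 off (stp11 off (stp5 off (stp4 off (stp3 off (stp2 off (stp1 off (stp0 off (stp5 off (stp6 off (stp7 off (stp8 off (stp9 off (stp5 off v)))))))))))))))))))))))))))))))))))))))))))))))))))))))))))))))))))))))))))))))))))))))))))))))))))))))))))))))))))))))))))))))))))))))))))))))))))))))))))))))))))))))))))))))))))))))))))))))))))))))))))))))))))))))))))))))))))))))))))))),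 (fun v _ _ => v), fun _ _ => rfl, fun _ _ => rfl⟩
def lf10_21 : Leaf (walkS st) := ⟨[10, 12, 12], [], 10, 0, (fun off v => (stp12 off (stp12 off (stp10 off v)))), (fun _ v => v), (fun _ u _ => u), fun _ _ => rfl, fun _ _ => rfl⟩
def lf10_22 : Leaf (walkS st) := ⟨[], [], 7, 0, (fun _ v => v), (fun _ v => v), (fun _ _ _ => 1), fun _ _ => rfl, fun _ _ => rfl⟩
def lf10_23 : Leaf (walkS st) := ⟨[12, 12], [10], 10, 0, (fun off v => (stp12 off (stp12 off v))), (fun off v => (stp10 off v)), (fun _ _ p => p), fun _ _ => rfl, fun _ _ => rfl⟩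
def tree10 : RTree (walkS st) :=
  (.node 1 (.fork lf10_0) (.node 3 (.node 2 .tleaf (.fork lf10_2)) (.node 5 (.node 4 (.fork lf10_3) (.fork lf10_4)) (.node 7 (.node 6 (.fork lf10_5) (.fork lf10_6)) (.node 9 (.node 8 (.fork lf10_7) (.fork lf10_8)) (.node 11 (.node 10 (.fork lf10_9) (.fork lf10_10)) (.node 13 (.node 12 (.fork lf10_11) (.fork lf10_12)) (.node 14 (.fork lf10_13) (.node 15 (.fork lf10_14) (.node 16 (.fork lf10_15) (.node 17 (.fork lf10_16) (.node 19 (.node 18 (.fork lf10_17) (.fork lf10_18)) (.node 21 (.node 20 (.fork lf10_19) (.fork lf10_20)) (.node 22 (.fork lf10_21) (.node 23 (.sub lf10_22) (.fork lf10_23))))))))))))))))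
def lf11_0 : Leaf (walkS st) := ⟨[11], [], 11, 0, (fun off v => (stp11 off v)), (fun _ v => v), (fun _ u _ => u), fun _ _ => rfl, fun _ _ => rfl⟩
def lf11_2 : Leaf (walkS st) := ⟨[], [10, 11, 10, 11, 10], 77, 1, (fun _ v => v), (fun off v => (stp10 off (stp11 off (stp10 off (stp11 off (stp10 off v)))))), (fun v _ _ => v), fun _ _ => rfl, fun _ _ => rfl⟩
def lf11_3 : Leaf (walkS st) := ⟨[], [5, 11, 5], 62, 1, (fun _ v => v), (fun off v => (stp5 off (stp11 off (stp5 off v)))), (fun v _ _ => v), fun _ _ => rfl, fun _ _ => rfl⟩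
def lf11_4 : Leaf (walkS st) := ⟨[], [6, 11, 6], 67, 1, (fun _ v => v), (fun off v => (stp6 off (stp11 off (stp6 off v)))), (fun v _ _ => v), fun _ _ => rfl, fun _ _ => rfl⟩
def lf11_5 : Leaf (walkS st) := ⟨[], [7, 11, 7], 71, 1, (fun _ v => v), (fun off v => (stp7 off (stp11 off (stp7 off v)))), (fun v _ _ => v), fun _ _ => rfl, fun _ _ => rfl⟩
def lf11_6 : Leaf (walkS st) := ⟨[], [4, 11, 4], 56, 1, (fun _ v => v), (fun off v => (stp4 off (stp11 off (stp4 off v)))), (fun v _ _ => v), fun _ _ => rfl, fun _ _ => rfl⟩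
def lf11_7 : Leaf (walkS st) := ⟨[], [8, 11, 8], 74, 1, (fun _ v => v), (fun off v => (stp8 off (stp11 off (stp8 off v)))), (fun v _ _ => v), fun _ _ => rfl, fun _ _ => rfl⟩
def lf11_8 : Leaf (walkS st) := ⟨[], [9, 11, 9], 76, 1, (fun _ v => v), (fun off v => (stp9 off (stp11 off (stp9 off v)))), (fun v _ _ => v), fun _ _ => rfl, fun _ _ => rfl⟩
def lf11_9 : Leaf (walkS st) := ⟨[], [3, 11, 3], 49, 1, (fun _ v => v), (fun off v => (stp3 off (stp11 off (stp3 off v)))), (fun v _ _ => v), fun _ _ => rfl, fun _ _ => rfl⟩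
def lf11_10 : Leaf (walkS st) := ⟨[], [2, 11, 2], 41, 1, (fun _ v => v), (fun off v => (stp2 off (stp11 off (stp2 off v)))), (fun v _ _ => v), fun _ _ => rfl, fun _ _ => rfl⟩
def lf11_11 : Leaf (walkS st) := ⟨[], [12, 11], 11, 0, (fun _ v => v), (fun off v => (stp11 off (stp12 off v))), (fun v _ _ => v), fun _ _ => rfl, fun _ _ => rfl⟩
def lf11_12 : Leaf (walkS st) := ⟨[12], [11], 11, 0, (fun off v => (stp12 off v)), (fun off v => (stp11 off v)), (fun _ _ p => p), fun _ _ => rfl, fun _ _ => rfl⟩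
def lf11_13 : Leaf (walkS st) := ⟨[], [1, 11, 1], 32, 1, (fun _ v => v), (fun off v => (stp1 off (stp11 off (stp1 off v)))), (fun v _ _ => v), fun _ _ => rfl, fun _ _ => rfl⟩
def lf11_14 : Leaf (walkS st) := ⟨[], [0, 11, 0], 22, 1, (fun _ v => v), (fun off v => (stp0 off (stp11 off (stp0 off v)))), (fun v _ _ => v), fun _ _ => rfl, fun _ _ => rfl⟩
def lf11_15 : Leaf (walkS st) := ⟨[11, 12], [], 11, 0, (fun off v => (stp12 off (stp11 off v))), (fun _ v => v), (fun _ u _ => u), fun _ _ => rfl, fun _ _ => rfl⟩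
def lf11_16 : Leaf (walkS st) := ⟨[], [10, 5, 9, 8, 7, 6, 5, 0, 1, 2, 3, 4, 5, 11, 10, 5, 9, 8, 7, 6, 5, 0, 1, 2, 3, 4, 5, 11, 10, 5, 9, 8, 7, 6, 5, 0, 1, 2, 3, 4, 5, 11, 10, 5, 9, 8, 7, 6, 5, 0, 1, 2, 3, 4, 5, 11, 10, 5, 9, 8, 7, 6, 5, 0, 1, 2, 3, 4, 5, 11, 10, 5, 9, 8, 7, 6, 5, 0, 1, 2, 3, 4, 5, 11, 10, 5, 9, 8, 7, 6, 5, 0, 1, 2, 3, 4, 5, 11, 10, 5, 9, 8, 7, 6, 5, 0, 1, 2, 3, 4, 5, 11, 10, 5, 9, 8, 7, 6, 5, 0, 1, 2, 3, 4, 5, 11, 10, 5, 9, 8, 7, 6, 5, 0, 1, 2, 3, 4, 5, 11, 10, 5, 9, 8, 7, 6, 5, 0, 1, 2, 3, 4, 5, 11, 10, 5, 9, 8, 7, 6, 5, 0, 1, 2, 3, 4, 5, 11, 10, 5, 9, 8, 7, 6, 5, 0, 1, 2, 3, 4, 5, 11, 10, 5, 9, 8, 7, 6, 5, 0, 1, 2, 3, 4, 5, 11, 10, 5, 9, 8, 7, 6, 5, 0, 1, 2, 3, 4, 5, 11, 10, 5, 9, 8, 7, 6, 5, 0, 1, 2, 3, 4, 5, 11, 10, 5, 9, 8, 7, 6, 5, 0, 1, 2, 3, 4, 5], 79, 13, (fun _ v => v), (fun off v => (stp5 off (stp4 off (stp3 off (stp2 off (stp1 off (stp0 off (stp5 off (stp6 off (stp7 off (stp8 off (stp9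 off (stp5 off (stp10 off (stp11 off (stp5 off (stp4 off (stp3 off (stp2 off (stp1 off (stp0 off (stp5 off (stp6 off (stp7 off (stp8 off (stp9 off (stp5 off (stp10 off (stp11 off (stp5 off (stp4 off (stp3 off (stp2 off (stp1 off (stp0 off (stp5 off (stp6 off (stp7 off (stp8 off (stp9 off (stp5 off (stp10 off (stp11 off (stp5 off (stp4 off (stp3 off (stp2 off (stp1 off (stp0 off (stp5 off (stp6 off (stp7 off (stp8 off (stp9 off (stp5 off (stp10 off (stp11 off (stp5 off (stp4 off (stp3 off (stp2 off (stp1 off (stp0 off (stp5 off (stp6 off (stp7 off (stp8 off (stp9 off (stp5 off (stp10 off (stp11 off (stp5 off (stp4 off (stp3 off (stp2 off (stp1 off (stp0 off (stp5 off (stp6 off (stp7 off (stp8 off (stp9 off (stp5 off (stp10 off (stp11 off (stp5 off (stp4 off (stp3 off (stp2 off (stp1 off (stp0 off (stp5 off (stp6 off (stp7 off (stp8 off (stp9 off (stp5 off (stp10 off (stp11 off (stp5 off (stp4 off (stp3 off (stp2 off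 (stp1 off (stp0 off (stp5 off (stp6 off (stp7 off (stp8 off (stp9 off (stp5 off (stp10 off (stp11 off (stp5 off (stp4 off (stp3 off (stp2 off (stp1 off (stp0 off (stp5 off (stp6 off (stp7 off (stp8 off (stp9 off (stp5 off (stp10 off (stp11 off (stp5 off (stp4 off (stp3 off (stp2 off (stp1 off (stp0 off (stp5 off (stp6 off (stp7 off (stp8 off (stp9 off (stp5 off (stp10 off (stp11 off (stp5 off (stp4 off (stp3 off (stp2 off (stp1 off (stp0 off (stp5 off (stp6 off (stp7 off (stp8 off (stp9 off (stp5 off (stp10 off (stp11 off (stp5 off (stp4 off (stp3 off (stp2 off (stp1 off (stp0 off (stp5 off (stp6 off (stp7 off (stp8 off (stp9 off (stp5 off (stp10 off (stp11 off (stp5 off (stp4 off (stp3 off (stp2 off (stp1 off (stp0 off (stp5 off (stp6 off (stp7 off (stp8 off (stp9 off (stp5 off (stp10 off (stp11 off (stp5 off (stp4 off (stp3 off (stp2 off (stp1 off (stp0 off (stp5 off (stp6 off (stp7 off (stp8 off (stp9 off (stp5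 off (stp10 off (stp11 off (stp5 off (stp4 off (stp3 off (stp2 off (stp1 off (stp0 off (stp5 off (stp6 off (stp7 off (stp8 off (stp9 off (stp5 off (stp10 off (stp11 off (stp5 off (stp4 off (stp3 off (stp2 off (stp1 off (stp0 off (stp5 off (stp6 off (stp7 off (stp8 off (stp9 off (stp5 off (stp10 off (stp11 off (stp5 off (stp4 off (stp3 off (stp2 off (stp1 off (stp0 off (stp5 off (stp6 off (stp7 off (stp8 off (stp9 off (stp5 off (stp10 off v)))))))))))))))))))))))))))))))))))))))))))))))))))))))))))))))))))))))))))))))))))))))))))))))))))))))))))))))))))))))))))))))))))))))))))))))))))))))))))))))))))))))))))))))))))))))))))))))))))))))))))))))))))))))))))))))))))))))))))))), (fun v _ _ => v), fun _ _ => rfl, fun _ _ => rfl⟩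
def lf11_17 : Leaf (walkS st) := ⟨[12, 12], [11], 11, 0, (fun off v => (stp12 off (stp12 off v))), (fun off v => (stp11 off v)), (fun _ _ p => p), fun _ _ => rfl, fun _ _ => rfl⟩
def lf11_18 : Leaf (walkS st) := ⟨[11, 12, 12], [], 11, 0, (fun off v => (stp12 off (stp12 off (stp11 off v)))), (fun _ v => v), (fun _ u _ => u), fun _ _ => rfl, fun _ _ => rfl⟩
def lf11_19 : Leaf (walkS st) := ⟨[], [], 8, 0, (fun _ v => v), (fun _ v => v), (fun _ _ _ => 1), fun _ _ => rfl, fun _ _ => rfl⟩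
def tree11 : RTree (walkS st) :=
  (.node 1 (.fork lf11_0) (.node 3 (.node 2 .tleaf (.fork lf11_2)) (.node 5 (.node 4 (.fork lf11_3) (.fork lf11_4)) (.node 7 (.node 6 (.fork lf11_5) (.fork lf11_6)) (.node 9 (.node 8 (.fork lf11_7) (.fork lf11_8)) (.node 10 (.fork lf11_9) (.node 11 (.fork lf11_10) (.node 13 (.node 12 (.fork lf11_11) (.fork lf11_12)) (.node 14 (.fork lf11_13) (.node 15 (.fork lf11_14) (.node 16 (.fork lf11_15) (.node 17 (.fork lf11_16) (.node 18 (.fork lf11_17) (.node 19 (.fork lf11_18) (.sub lf11_19)))))))))))))))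
def lf12_0 : Leaf (walkS st) := ⟨[10], [12, 10], 10, 0, (fun off v => (stp10 off v)), (fun off v => (stp10 off (stp12 off v))), (fun _ _ p => p), fun _ _ => rfl, fun _ _ => rfl⟩
def lf12_1 : Leaf (walkS st) := ⟨[11], [12, 11], 11, 0, (fun off v => (stp11 off v)), (fun off v => (stp11 off (stp12 off v))), (fun _ _ p => p), fun _ _ => rfl, fun _ _ => rfl⟩
def lf12_2 : Leaf (walkS st) := ⟨[5], [12, 5], 5, 0, (fun off v => (stp5 off v)), (fun off v => (stp5 off (stp12 off v))), (fun _ _ p => p), fun _ _ => rfl, fun _ _ => rfl⟩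
def lf12_3 : Leaf (walkS st) := ⟨[6], [12, 6], 6, 0, (fun off v => (stp6 off v)), (fun off v => (stp6 off (stp12 off v))), (fun _ _ p => p), fun _ _ => rfl, fun _ _ => rfl⟩
def lf12_4 : Leaf (walkS st) := ⟨[7], [12, 7], 7, 0, (fun off v => (stp7 off v)), (fun off v => (stp7 off (stp12 off v))), (fun _ _ p => p), fun _ _ => rfl, fun _ _ => rfl⟩
def lf12_5 : Leaf (walkS st) := ⟨[8], [12, 8], 8, 0, (fun off v => (stp8 off v)), (fun off v => (stp8 off (stp12 off v))), (fun _ _ p => p), fun _ _ => rfl, fun _ _ => rfl⟩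
def lf12_6 : Leaf (walkS st) := ⟨[9], [12, 9], 9, 0, (fun off v => (stp9 off v)), (fun off v => (stp9 off (stp12 off v))), (fun _ _ p => p), fun _ _ => rfl, fun _ _ => rfl⟩
def lf12_7 : Leaf (walkS st) := ⟨[4], [12, 4], 4, 0, (fun off v => (stp4 off v)), (fun off v => (stp4 off (stp12 off v))), (fun _ _ p => p), fun _ _ => rfl, fun _ _ => rfl⟩
def lf12_8 : Leaf (walkS st) := ⟨[12, 10], [10], 10, 0, (fun off v => (stp10 off (stp12 off v))), (fun off v => (stp10 off v)), (fun _ _ p => p), fun _ _ => rfl, fun _ _ => rfl⟩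
def lf12_9 : Leaf (walkS st) := ⟨[12, 11], [11], 11, 0, (fun off v => (stp11 off (stp12 off v))), (fun off v => (stp11 off v)), (fun _ _ p => p), fun _ _ => rfl, fun _ _ => rfl⟩
def lf12_10 : Leaf (walkS st) := ⟨[3], [12, 3], 3, 0, (fun off v => (stp3 off v)), (fun off v => (stp3 off (stp12 off v))), (fun _ _ p => p), fun _ _ => rfl, fun _ _ => rfl⟩
def lf12_11 : Leaf (walkS st) := ⟨[2], [12, 2], 2, 0, (fun off v => (stp2 off v)), (fun off v => (stp2 off (stp12 off v))), (fun _ _ p => p), fun _ _ => rfl, fun _ _ => rfl⟩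
def lf12_12 : Leaf (walkS st) := ⟨[12, 5], [5], 5, 0, (fun off v => (stp5 off (stp12 off v))), (fun off v => (stp5 off v)), (fun _ _ p => p), fun _ _ => rfl, fun _ _ => rfl⟩
def lf12_13 : Leaf (walkS st) := ⟨[11, 12], [12, 11], 11, 0, (fun off v => (stp12 off (stp11 off v))), (fun off v => (stp11 off (stp12 off v))), (fun _ _ p => p), fun _ _ => rfl, fun _ _ => rfl⟩
def lf12_14 : Leaf (walkS st) := ⟨[12, 8], [8], 8, 0, (fun off v => (stp8 off (stp12 off v))), (fun off v => (stp8 off v)), (fun _ _ p => p), fun _ _ => rfl, fun _ _ => rfl⟩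
def lf12_15 : Leaf (walkS st) := ⟨[10, 12], [12, 10], 10, 0, (fun off v => (stp12 off (stp10 off v))), (fun off v => (stp10 off (stp12 off v))), (fun _ _ p => p), fun _ _ => rfl, fun _ _ => rfl⟩
def lf12_16 : Leaf (walkS st) := ⟨[1], [12, 1], 1, 0, (fun off v => (stp1 off v)), (fun off v => (stp1 off (stp12 off v))), (fun _ _ p => p), fun _ _ => rfl, fun _ _ => rfl⟩
def lf12_17 : Leaf (walkS st) := ⟨[9, 12], [12, 12, 9], 9, 0, (fun off v => (stp12 off (stp9 off v))), (fun off v => (stp9 off (stp12 off (stp12 off v)))), (fun _ _ p => p), fun _ _ => rfl, fun _ _ => rfl⟩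
def lf12_18 : Leaf (walkS st) := ⟨[12, 10], [10, 12], 10, 0, (fun off v => (stp10 off (stp12 off v))), (fun off v => (stp12 off (stp10 off v))), (fun _ _ p => p), fun _ _ => rfl, fun _ _ => rfl⟩
def lf12_19 : Leaf (walkS st) := ⟨[12, 4], [4], 4, 0, (fun off v => (stp4 off (stp12 off v))), (fun off v => (stp4 off v)), (fun _ _ p => p), fun _ _ => rfl, fun _ _ => rfl⟩
def lf12_20 : Leaf (walkS st) := ⟨[12, 6], [6], 6, 0, (fun off v => (stp6 off (stp12 off v))), (fun off v => (stp6 off v)), (fun _ _ p => p), fun _ _ => rfl, fun _ _ => rfl⟩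
def lf12_21 : Leaf (walkS st) := ⟨[12, 11], [11, 12], 11, 0, (fun off v => (stp11 off (stp12 off v))), (fun off v => (stp12 off (stp11 off v))), (fun _ _ p => p), fun _ _ => rfl, fun _ _ => rfl⟩
def lf12_22 : Leaf (walkS st) := ⟨[8, 12], [12, 12, 8], 8, 0, (fun off v => (stp12 off (stp8 off v))), (fun off v => (stp8 off (stp12 off (stp12 off v)))), (fun _ _ p => p), fun _ _ => rfl, fun _ _ => rfl⟩
def lf12_23 : Leaf (walkS st) := ⟨[12, 9], [9], 9, 0, (fun off v => (stp9 off (stp12 off v))), (fun off v => (stp9 off v)), (fun _ _ p => p), fun _ _ => rfl, fun _ _ => rfl⟩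
def lf12_24 : Leaf (walkS st) := ⟨[11], [12, 12, 11], 11, 0, (fun off v => (stp11 off v)), (fun off v => (stp11 off (stp12 off (stp12 off v)))), (fun _ _ p => p), fun _ _ => rfl, fun _ _ => rfl⟩
def lf12_25 : Leaf (walkS st) := ⟨[11], [12, 11, 12], 11, 0, (fun off v => (stp11 off v)), (fun off v => (stp12 off (stp11 off (stp12 off v)))), (fun _ _ p => p), fun _ _ => rfl, fun _ _ => rfl⟩
def lf12_26 : Leaf (walkS st) := ⟨[0], [12, 0], 0, 0, (fun off v => (stp0 off v)), (fun off v => (stp0 off (stp12 off v))), (fun _ _ p => p), fun _ _ => rfl, fun _ _ => rfl⟩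
def lf12_27 : Leaf (walkS st) := ⟨[12, 7], [7], 7, 0, (fun off v => (stp7 off (stp12 off v))), (fun off v => (stp7 off v)), (fun _ _ p => p), fun _ _ => rfl, fun _ _ => rfl⟩
def lf12_28 : Leaf (walkS st) := ⟨[7, 12], [12, 12, 7], 7, 0, (fun off v => (stp12 off (stp7 off v))), (fun off v => (stp7 off (stp12 off (stp12 off v)))), (fun _ _ p => p), fun _ _ => rfl, fun _ _ => rfl⟩
def lf12_29 : Leaf (walkS st) := ⟨[5, 12], [12, 5], 5, 0, (fun off v => (stp12 off (stp5 off v))), (fun off v => (stp5 off (stp12 off v))), (fun _ _ p => p), fun _ _ => rfl, fun _ _ => rfl⟩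
def lf12_30 : Leaf (walkS st) := ⟨[12, 5], [5, 12], 5, 0, (fun off v => (stp5 off (stp12 off v))), (fun off v => (stp12 off (stp5 off v))), (fun _ _ p => p), fun _ _ => rfl, fun _ _ => rfl⟩
def lf12_31 : Leaf (walkS st) := ⟨[6, 12], [12, 12, 6], 6, 0, (fun off v => (stp12 off (stp6 off v))), (fun off v => (stp6 off (stp12 off (stp12 off v)))), (fun _ _ p => p), fun _ _ => rfl, fun _ _ => rfl⟩
def lf12_32 : Leaf (walkS st) := ⟨[12, 3], [3], 3, 0, (fun off v => (stp3 off (stp12 off v))), (fun off v => (stp3 off v)), (fun _ _ p => p), fun _ _ => rfl, fun _ _ => rfl⟩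
def lf12_33 : Leaf (walkS st) := ⟨[4, 12], [12, 12, 4], 4, 0, (fun off v => (stp12 off (stp4 off v))), (fun off v => (stp4 off (stp12 off (stp12 off v)))), (fun _ _ p => p), fun _ _ => rfl, fun _ _ => rfl⟩
def lf12_34 : Leaf (walkS st) := ⟨[1, 12], [12, 12, 1], 1, 0, (fun off v => (stp12 off (stp1 off v))), (fun off v => (stp1 off (stp12 off (stp12 off v)))), (fun _ _ p => p), fun _ _ => rfl, fun _ _ => rfl⟩
def lf12_35 : Leaf (walkS st) := ⟨[9], [12, 12, 9], 9, 0, (fun off v => (stp9 off v)), (fun off v => (stp9 off (stp12 off (stp12 off v)))), (fun _ _ p => p), fun _ _ => rfl, fun _ _ => rfl⟩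
def lf12_36 : Leaf (walkS st) := ⟨[2, 12], [12, 12, 2], 2, 0, (fun off v => (stp12 off (stp2 off v))), (fun off v => (stp2 off (stp12 off (stp12 off v)))), (fun _ _ p => p), fun _ _ => rfl, fun _ _ => rfl⟩
def lf12_37 : Leaf (walkS st) := ⟨[5], [12, 12, 5], 5, 0, (fun off v => (stp5 off v)), (fun off v => (stp5 off (stp12 off (stp12 off v)))), (fun _ _ p => p), fun _ _ => rfl, fun _ _ => rfl⟩
def lf12_38 : Leaf (walkS st) := ⟨[10], [12, 10, 12], 10, 0, (fun off v => (stp10 off v)), (fun off v => (stp12 off (stp10 off (stp12 off v)))), (fun _ _ p => p), fun _ _ => rfl, fun _ _ => rfl⟩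
def lf12_39 : Leaf (walkS st) := ⟨[6, 12], [12, 6], 6, 0, (fun off v => (stp12 off (stp6 off v))), (fun off v => (stp6 off (stp12 off v))), (fun _ _ p => p), fun _ _ => rfl, fun _ _ => rfl⟩
def lf12_40 : Leaf (walkS st) := ⟨[12, 2], [2], 2, 0, (fun off v => (stp2 off (stp12 off v))), (fun off v => (stp2 off v)), (fun _ _ p => p), fun _ _ => rfl, fun _ _ => rfl⟩
def lf12_41 : Leaf (walkS st) := ⟨[3, 12], [12, 3], 3, 0, (fun off v => (stp12 off (stp3 off v))), (fun off v => (stp3 off (stp12 off v))), (fun _ _ p => p), fun _ _ => rfl, fun _ _ => rfl⟩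
def lf12_42 : Leaf (walkS st) := ⟨[3, 12], [12, 12, 3], 3, 0, (fun off v => (stp12 off (stp3 off v))), (fun off v => (stp3 off (stp12 off (stp12 off v)))), (fun _ _ p => p), fun _ _ => rfl, fun _ _ => rfl⟩
def lf12_43 : Leaf (walkS st) := ⟨[12, 4], [4, 12], 4, 0, (fun off v => (stp4 off (stp12 off v))), (fun off v => (stp12 off (stp4 off v))), (fun _ _ p => p), fun _ _ => rfl, fun _ _ => rfl⟩
def lf12_44 : Leaf (walkS st) := ⟨[5, 12], [12, 12, 5], 5, 0, (fun off v => (stp12 off (stp5 off v))), (fun off v => (stp5 off (stp12 off (stp12 off v)))), (fun _ _ p => p), fun _ _ => rfl, fun _ _ => rfl⟩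
def lf12_45 : Leaf (walkS st) := ⟨[12, 3], [3, 12], 3, 0, (fun off v => (stp3 off (stp12 off v))), (fun off v => (stp12 off (stp3 off v))), (fun _ _ p => p), fun _ _ => rfl, fun _ _ => rfl⟩
def lf12_46 : Leaf (walkS st) := ⟨[8, 12], [12, 8], 8, 0, (fun off v => (stp12 off (stp8 off v))), (fun off v => (stp8 off (stp12 off v))), (fun _ _ p => p), fun _ _ => rfl, fun _ _ => rfl⟩
def lf12_47 : Leaf (walkS st) := ⟨[7, 12], [12, 7], 7, 0, (fun off v => (stp12 off (stp7 off v))), (fun off v => (stp7 off (stp12 off v))), (fun _ _ p => p), fun _ _ => rfl, fun _ _ => rfl⟩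
def lf12_48 : Leaf (walkS st) := ⟨[10], [12, 12, 10], 10, 0, (fun off v => (stp10 off v)), (fun off v => (stp10 off (stp12 off (stp12 off v)))), (fun _ _ p => p), fun _ _ => rfl, fun _ _ => rfl⟩
def lf12_49 : Leaf (walkS st) := ⟨[4, 12], [12, 4], 4, 0, (fun off v => (stp12 off (stp4 off v))), (fun off v => (stp4 off (stp12 off v))), (fun _ _ p => p), fun _ _ => rfl, fun _ _ => rfl⟩
def lf12_50 : Leaf (walkS st) := ⟨[6], [12, 12, 6], 6, 0, (fun off v => (stp6 off v)), (fun off v => (stp6 off (stp12 off (stp12 off v)))), (fun _ _ p => p), fun _ _ => rfl, fun _ _ => rfl⟩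
def lf12_51 : Leaf (walkS st) := ⟨[12, 6], [6, 12], 6, 0, (fun off v => (stp6 off (stp12 off v))), (fun off v => (stp12 off (stp6 off v))), (fun _ _ p => p), fun _ _ => rfl, fun _ _ => rfl⟩
def lf12_52 : Leaf (walkS st) := ⟨[0, 12], [12, 12, 0], 0, 0, (fun off v => (stp12 off (stp0 off v))), (fun off v => (stp0 off (stp12 off (stp12 off v)))), (fun _ _ p => p), fun _ _ => rfl, fun _ _ => rfl⟩
def lf12_53 : Leaf (walkS st) := ⟨[9, 12], [12, 9], 9, 0, (fun off v => (stp12 off (stp9 off v))), (fun off v => (stp9 off (stp12 off v))), (fun _ _ p => p), fun _ _ => rfl, fun _ _ => rfl⟩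
def lf12_54 : Leaf (walkS st) := ⟨[11, 12], [12, 12, 11], 11, 0, (fun off v => (stp12 off (stp11 off v))), (fun off v => (stp11 off (stp12 off (stp12 off v)))), (fun _ _ p => p), fun _ _ => rfl, fun _ _ => rfl⟩
def lf12_55 : Leaf (walkS st) := ⟨[12, 1], [1], 1, 0, (fun off v => (stp1 off (stp12 off v))), (fun off v => (stp1 off v)), (fun _ _ p => p), fun _ _ => rfl, fun _ _ => rfl⟩
def lf12_56 : Leaf (walkS st) := ⟨[7], [12, 12, 7], 7, 0, (fun off v => (stp7 off v)), (fun off v => (stp7 off (stp12 off (stp12 off v)))), (fun _ _ p => p), fun _ _ => rfl, fun _ _ => rfl⟩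
def lf12_57 : Leaf (walkS st) := ⟨[6], [12, 6, 12], 6, 0, (fun off v => (stp6 off v)), (fun off v => (stp12 off (stp6 off (stp12 off v)))), (fun _ _ p => p), fun _ _ => rfl, fun _ _ => rfl⟩
def lf12_58 : Leaf (walkS st) := ⟨[12, 2], [2, 12], 2, 0, (fun off v => (stp2 off (stp12 off v))), (fun off v => (stp12 off (stp2 off v))), (fun _ _ p => p), fun _ _ => rfl, fun _ _ => rfl⟩
def lf12_59 : Leaf (walkS st) := ⟨[1, 12], [12, 1], 1, 0, (fun off v => (stp12 off (stp1 off v))), (fun off v => (stp1 off (stp12 off v))), (fun _ _ p => p), fun _ _ => rfl, fun _ _ => rfl⟩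
def lf12_60 : Leaf (walkS st) := ⟨[2], [12, 12, 2], 2, 0, (fun off v => (stp2 off v)), (fun off v => (stp2 off (stp12 off (stp12 off v)))), (fun _ _ p => p), fun _ _ => rfl, fun _ _ => rfl⟩
def lf12_61 : Leaf (walkS st) := ⟨[12, 12, 1], [1, 12], 1, 0, (fun off v => (stp1 off (stp12 off (stp12 off v)))), (fun off v => (stp12 off (stp1 off v))), (fun _ _ p => p), fun _ _ => rfl, fun _ _ => rfl⟩
def lf12_62 : Leaf (walkS st) := ⟨[8], [12, 12, 8], 8, 0, (fun off v => (stp8 off v)), (fun off v => (stp8 off (stp12 off (stp12 off v)))), (fun _ _ p => p), fun _ _ => rfl, fun _ _ => rfl⟩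
def lf12_63 : Leaf (walkS st) := ⟨[2, 12], [12, 2], 2, 0, (fun off v => (stp12 off (stp2 off v))), (fun off v => (stp2 off (stp12 off v))), (fun _ _ p => p), fun _ _ => rfl, fun _ _ => rfl⟩
def lf12_64 : Leaf (walkS st) := ⟨[5], [12, 5, 12], 5, 0, (fun off v => (stp5 off v)), (fun off v => (stp12 off (stp5 off (stp12 off v)))), (fun _ _ p => p), fun _ _ => rfl, fun _ _ => rfl⟩
def lf12_65 : Leaf (walkS st) := ⟨[12, 7], [7, 12], 7, 0, (fun off v => (stp7 off (stp12 off v))), (fun off v => (stp12 off (stp7 off v))), (fun _ _ p => p), fun _ _ => rfl, fun _ _ => rfl⟩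
def lf12_66 : Leaf (walkS st) := ⟨[12, 0], [0], 0, 0, (fun off v => (stp0 off (stp12 off v))), (fun off v => (stp0 off v)), (fun _ _ p => p), fun _ _ => rfl, fun _ _ => rfl⟩
def lf12_67 : Leaf (walkS st) := ⟨[4], [12, 12, 4], 4, 0, (fun off v => (stp4 off v)), (fun off v => (stp4 off (stp12 off (stp12 off v)))), (fun _ _ p => p), fun _ _ => rfl, fun _ _ => rfl⟩
def lf12_68 : Leaf (walkS st) := ⟨[7], [12, 7, 12], 7, 0, (fun off v => (stp7 off v)), (fun off v => (stp12 off (stp7 off (stp12 off v)))), (fun _ _ p => p), fun _ _ => rfl, fun _ _ => rfl⟩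
def lf12_69 : Leaf (walkS st) := ⟨[1], [12, 12, 1], 1, 0, (fun off v => (stp1 off v)), (fun off v => (stp1 off (stp12 off (stp12 off v)))), (fun _ _ p => p), fun _ _ => rfl, fun _ _ => rfl⟩
def lf12_70 : Leaf (walkS st) := ⟨[4], [12, 4, 12], 4, 0, (fun off v => (stp4 off v)), (fun off v => (stp12 off (stp4 off (stp12 off v)))), (fun _ _ p => p), fun _ _ => rfl, fun _ _ => rfl⟩
def lf12_71 : Leaf (walkS st) := ⟨[12, 12, 0], [0, 12], 0, 0, (fun off v => (stp0 off (stp12 off (stp12 off v)))), (fun off v => (stp12 off (stp0 off v))), (fun _ _ p => p), fun _ _ => rfl, fun _ _ => rfl⟩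
def lf12_72 : Leaf (walkS st) := ⟨[12, 12, 8], [8, 12], 8, 0, (fun off v => (stp8 off (stp12 off (stp12 off v)))), (fun off v => (stp12 off (stp8 off v))), (fun _ _ p => p), fun _ _ => rfl, fun _ _ => rfl⟩
def lf12_73 : Leaf (walkS st) := ⟨[3], [12, 12, 3], 3, 0, (fun off v => (stp3 off v)), (fun off v => (stp3 off (stp12 off (stp12 off v)))), (fun _ _ p => p), fun _ _ => rfl, fun _ _ => rfl⟩
def lf12_74 : Leaf (walkS st) := ⟨[10, 12], [12, 12, 10], 10, 0, (fun off v => (stp12 off (stp10 off v))), (fun off v => (stp10 off (stp12 off (stp12 off v)))), (fun _ _ p => p), fun _ _ => rfl, fun _ _ => rfl⟩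
def lf12_75 : Leaf (walkS st) := ⟨[12, 12, 2], [2, 12], 2, 0, (fun off v => (stp2 off (stp12 off (stp12 off v)))), (fun off v => (stp12 off (stp2 off v))), (fun _ _ p => p), fun _ _ => rfl, fun _ _ => rfl⟩
def lf12_76 : Leaf (walkS st) := ⟨[12, 12, 9], [9, 12], 9, 0, (fun off v => (stp9 off (stp12 off (stp12 off v)))), (fun off v => (stp12 off (stp9 off v))), (fun _ _ p => p), fun _ _ => rfl, fun _ _ => rfl⟩
def lf12_77 : Leaf (walkS st) := ⟨[3], [12, 3, 12], 3, 0, (fun off v => (stp3 off v)), (fun off v => (stp12 off (stp3 off (stp12 off v)))), (fun _ _ p => p), fun _ _ => rfl, fun _ _ => rfl⟩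
def lf12_78 : Leaf (walkS st) := ⟨[12, 9], [9, 12], 9, 0, (fun off v => (stp9 off (stp12 off v))), (fun off v => (stp12 off (stp9 off v))), (fun _ _ p => p), fun _ _ => rfl, fun _ _ => rfl⟩
def lf12_79 : Leaf (walkS st) := ⟨[2], [12, 2, 12], 2, 0, (fun off v => (stp2 off v)), (fun off v => (stp12 off (stp2 off (stp12 off v)))), (fun _ _ p => p), fun _ _ => rfl, fun _ _ => rfl⟩
def lf12_80 : Leaf (walkS st) := ⟨[12, 12, 4], [4, 12], 4, 0, (fun off v => (stp4 off (stp12 off (stp12 off v)))), (fun off v => (stp12 off (stp4 off v))), (fun _ _ p => p), fun _ _ => rfl, fun _ _ => rfl⟩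
def lf12_81 : Leaf (walkS st) := ⟨[12, 11, 12], [11], 11, 0, (fun off v => (stp12 off (stp11 off (stp12 off v)))), (fun off v => (stp11 off v)), (fun _ _ p => p), fun _ _ => rfl, fun _ _ => rfl⟩
def lf12_82 : Leaf (walkS st) := ⟨[8], [12, 8, 12], 8, 0, (fun off v => (stp8 off v)), (fun off v => (stp12 off (stp8 off (stp12 off v)))), (fun _ _ p => p), fun _ _ => rfl, fun _ _ => rfl⟩
def lf12_83 : Leaf (walkS st) := ⟨[12, 12, 11], [11], 11, 0, (fun off v => (stp11 off (stp12 off (stp12 off v)))), (fun off v => (stp11 off v)), (fun _ _ p => p), fun _ _ => rfl, fun _ _ => rfl⟩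
def lf12_84 : Leaf (walkS st) := ⟨[1], [12, 1, 12], 1, 0, (fun off v => (stp1 off v)), (fun off v => (stp12 off (stp1 off (stp12 off v)))), (fun _ _ p => p), fun _ _ => rfl, fun _ _ => rfl⟩
def lf12_85 : Leaf (walkS st) := ⟨[12, 12, 0], [0], 0, 0, (fun off v => (stp0 off (stp12 off (stp12 off v)))), (fun off v => (stp0 off v)), (fun _ _ p => p), fun _ _ => rfl, fun _ _ => rfl⟩
def lf12_86 : Leaf (walkS st) := ⟨[12, 10, 12], [10], 10, 0, (fun off v => (stp12 off (stp10 off (stp12 off v)))), (fun off v => (stp10 off v)), (fun _ _ p => p), fun _ _ => rfl, fun _ _ => rfl⟩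
def lf12_87 : Leaf (walkS st) := ⟨[9], [12, 9, 12], 9, 0, (fun off v => (stp9 off v)), (fun off v => (stp12 off (stp9 off (stp12 off v)))), (fun _ _ p => p), fun _ _ => rfl, fun _ _ => rfl⟩
def lf12_88 : Leaf (walkS st) := ⟨[12, 8], [8, 12], 8, 0, (fun off v => (stp8 off (stp12 off v))), (fun off v => (stp12 off (stp8 off v))), (fun _ _ p => p), fun _ _ => rfl, fun _ _ => rfl⟩
def lf12_89 : Leaf (walkS st) := ⟨[0, 12], [12, 0], 0, 0, (fun off v => (stp12 off (stp0 off v))), (fun off v => (stp0 off (stp12 off v))), (fun _ _ p => p), fun _ _ => rfl, fun _ _ => rfl⟩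
def lf12_90 : Leaf (walkS st) := ⟨[12, 12, 6], [6, 12], 6, 0, (fun off v => (stp6 off (stp12 off (stp12 off v)))), (fun off v => (stp12 off (stp6 off v))), (fun _ _ p => p), fun _ _ => rfl, fun _ _ => rfl⟩
def lf12_91 : Leaf (walkS st) := ⟨[12, 1], [1, 12], 1, 0, (fun off v => (stp1 off (stp12 off v))), (fun off v => (stp12 off (stp1 off v))), (fun _ _ p => p), fun _ _ => rfl, fun _ _ => rfl⟩
def lf12_92 : Leaf (walkS st) := ⟨[0], [12, 12, 0], 0, 0, (fun off v => (stp0 off v)), (fun off v => (stp0 off (stp12 off (stp12 off v)))), (fun _ _ p => p), fun _ _ => rfl, fun _ _ => rfl⟩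
def lf12_93 : Leaf (walkS st) := ⟨[12, 12, 5], [5], 5, 0, (fun off v => (stp5 off (stp12 off (stp12 off v)))), (fun off v => (stp5 off v)), (fun _ _ p => p), fun _ _ => rfl, fun _ _ => rfl⟩
def lf12_94 : Leaf (walkS st) := ⟨[11, 12], [12, 11, 12], 11, 0, (fun off v => (stp12 off (stp11 off v))), (fun off v => (stp12 off (stp11 off (stp12 off v)))), (fun _ _ p => p), fun _ _ => rfl, fun _ _ => rfl⟩
def lf12_95 : Leaf (walkS st) := ⟨[12, 0], [0, 12], 0, 0, (fun off v => (stp0 off (stp12 off v))), (fun off v => (stp12 off (stp0 off v))), (fun _ _ p => p), fun _ _ => rfl, fun _ _ => rfl⟩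
def lf12_96 : Leaf (walkS st) := ⟨[], [2, 5, 2, 5], 35, 3, (fun _ v => v), (fun off v => (stp5 off (stp2 off (stp5 off (stp2 off v))))), (fun v _ _ => v), fun _ _ => rfl, fun _ _ => rfl⟩
def lf12_97 : Leaf (walkS st) := ⟨[12, 12, 8], [8], 8, 0, (fun off v => (stp8 off (stp12 off (stp12 off v)))), (fun off v => (stp8 off v)), (fun _ _ p => p), fun _ _ => rfl, fun _ _ => rfl⟩
def lf12_98 : Leaf (walkS st) := ⟨[12, 11], [11, 12, 12], 11, 0, (fun off v => (stp11 off (stp12 off v))), (fun off v => (stp12 off (stp12 off (stp11 off v)))), (fun _ _ p => p), fun _ _ => rfl, fun _ _ => rfl⟩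
def lf12_99 : Leaf (walkS st) := ⟨[12, 9, 12], [9], 9, 0, (fun off v => (stp12 off (stp9 off (stp12 off v)))), (fun off v => (stp9 off v)), (fun _ _ p => p), fun _ _ => rfl, fun _ _ => rfl⟩
def lf12_100 : Leaf (walkS st) := ⟨[12, 12, 1], [1], 1, 0, (fun off v => (stp1 off (stp12 off (stp12 off v)))), (fun off v => (stp1 off v)), (fun _ _ p => p), fun _ _ => rfl, fun _ _ => rfl⟩
def lf12_101 : Leaf (walkS st) := ⟨[12, 12, 11], [11, 12], 11, 0, (fun off v => (stp11 off (stp12 off (stp12 off v)))), (fun off v => (stp12 off (stp11 off v))), (fun _ _ p => p), fun _ _ => rfl, fun _ _ => rfl⟩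
def lf12_102 : Leaf (walkS st) := ⟨[12, 12, 4], [4], 4, 0, (fun off v => (stp4 off (stp12 off (stp12 off v)))), (fun off v => (stp4 off v)), (fun _ _ p => p), fun _ _ => rfl, fun _ _ => rfl⟩
def lf12_103 : Leaf (walkS st) := ⟨[11], [12, 12, 11, 12], 11, 0, (fun off v => (stp11 off v)), (fun off v => (stp12 off (stp11 off (stp12 off (stp12 off v))))), (fun _ _ p => p), fun _ _ => rfl, fun _ _ => rfl⟩
def lf12_104 : Leaf (walkS st) := ⟨[12, 12, 10], [10, 12], 10, 0, (fun off v => (stp10 off (stp12 off (stp12 off v)))), (fun off v => (stp12 off (stp10 off v))), (fun _ _ p => p), fun _ _ => rfl, fun _ _ => rfl⟩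
def lf12_105 : Leaf (walkS st) := ⟨[12, 12, 6], [6], 6, 0, (fun off v => (stp6 off (stp12 off (stp12 off v)))), (fun off v => (stp6 off v)), (fun _ _ p => p), fun _ _ => rfl, fun _ _ => rfl⟩
def lf12_106 : Leaf (walkS st) := ⟨[8, 12, 12], [12, 12, 8], 8, 0, (fun off v => (stp12 off (stp12 off (stp8 off v)))), (fun off v => (stp8 off (stp12 off (stp12 off v)))), (fun _ _ p => p), fun _ _ => rfl, fun _ _ => rfl⟩
def lf12_107 : Leaf (walkS st) := ⟨[0], [12, 0, 12], 0, 0, (fun off v => (stp0 off v)), (fun off v => (stp12 off (stp0 off (stp12 off v)))), (fun _ _ p => p), fun _ _ => rfl, fun _ _ => rfl⟩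
def lf12_108 : Leaf (walkS st) := ⟨[12, 3, 12], [3], 3, 0, (fun off v => (stp12 off (stp3 off (stp12 off v)))), (fun off v => (stp3 off v)), (fun _ _ p => p), fun _ _ => rfl, fun _ _ => rfl⟩
def lf12_109 : Leaf (walkS st) := ⟨[12, 12, 2], [2], 2, 0, (fun off v => (stp2 off (stp12 off (stp12 off v)))), (fun off v => (stp2 off v)), (fun _ _ p => p), fun _ _ => rfl, fun _ _ => rfl⟩
def lf12_110 : Leaf (walkS st) := ⟨[12, 8, 12], [8], 8, 0, (fun off v => (stp12 off (stp8 off (stp12 off v)))), (fun off v => (stp8 off v)), (fun _ _ p => p), fun _ _ => rfl, fun _ _ => rfl⟩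
def lf12_111 : Leaf (walkS st) := ⟨[], [4, 1, 4, 1], 25, 0, (fun _ v => v), (fun off v => (stp1 off (stp4 off (stp1 off (stp4 off v))))), (fun v _ _ => v), fun _ _ => rfl, fun _ _ => rfl⟩
def lf12_112 : Leaf (walkS st) := ⟨[12, 5, 12], [5], 5, 0, (fun off v => (stp12 off (stp5 off (stp12 off v)))), (fun off v => (stp5 off v)), (fun _ _ p => p), fun _ _ => rfl, fun _ _ => rfl⟩
def lf12_113 : Leaf (walkS st) := ⟨[1, 12, 12], [12, 12, 1], 1, 0, (fun off v => (stp12 off (stp12 off (stp1 off v)))), (fun off v => (stp1 off (stp12 off (stp12 off v)))), (fun _ _ p => p), fun _ _ => rfl, fun _ _ => rfl⟩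
def lf12_114 : Leaf (walkS st) := ⟨[12, 1, 12], [1], 1, 0, (fun off v => (stp12 off (stp1 off (stp12 off v)))), (fun off v => (stp1 off v)), (fun _ _ p => p), fun _ _ => rfl, fun _ _ => rfl⟩
def lf12_115 : Leaf (walkS st) := ⟨[12, 12, 7], [7, 12], 7, 0, (fun off v => (stp7 off (stp12 off (stp12 off v)))), (fun off v => (stp12 off (stp7 off v))), (fun _ _ p => p), fun _ _ => rfl, fun _ _ => rfl⟩
def lf12_116 : Leaf (walkS st) := ⟨[12, 5], [5, 12, 12], 5, 0, (fun off v => (stp5 off (stp12 off v))), (fun off v => (stp12 off (stp12 off (stp5 off v)))), (fun _ _ p => p), fun _ _ => rfl, fun _ _ => rfl⟩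
def lf12_117 : Leaf (walkS st) := ⟨[], [6, 4, 6, 4], 51, 2, (fun _ v => v), (fun off v => (stp4 off (stp6 off (stp4 off (stp6 off v))))), (fun v _ _ => v), fun _ _ => rfl, fun _ _ => rfl⟩
def lf12_118 : Leaf (walkS st) := ⟨[], [8, 6, 8, 6], 64, 2, (fun _ v => v), (fun off v => (stp6 off (stp8 off (stp6 off (stp8 off v))))), (fun v _ _ => v), fun _ _ => rfl, fun _ _ => rfl⟩
def lf12_119 : Leaf (walkS st) := ⟨[], [8, 1, 8, 1], 97, 1, (fun _ v => v), (fun off v => (stp1 off (stp8 off (stp1 off (stp8 off v))))), (fun v _ _ => v), fun _ _ => rfl, fun _ _ => rfl⟩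
def lf12_120 : Leaf (walkS st) := ⟨[], [4, 7, 4, 7], 52, 3, (fun _ v => v), (fun off v => (stp7 off (stp4 off (stp7 off (stp4 off v))))), (fun v _ _ => v), fun _ _ => rfl, fun _ _ => rfl⟩
def lf12_121 : Leaf (walkS st) := ⟨[], [2, 6, 2, 6], 36, 3, (fun _ v => v), (fun off v => (stp6 off (stp2 off (stp6 off (stp2 off v))))), (fun v _ _ => v), fun _ _ => rfl, fun _ _ => rfl⟩
def lf12_122 : Leaf (walkS st) := ⟨[12, 4, 12], [4], 4, 0, (fun off v => (stp12 off (stp4 off (stp12 off v)))), (fun off v => (stp4 off v)), (fun _ _ p => p), fun _ _ => rfl, fun _ _ => rfl⟩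
def lf12_123 : Leaf (walkS st) := ⟨[7, 12, 12], [12, 12, 7], 7, 0, (fun off v => (stp12 off (stp12 off (stp7 off v)))), (fun off v => (stp7 off (stp12 off (stp12 off v)))), (fun _ _ p => p), fun _ _ => rfl, fun _ _ => rfl⟩
def lf12_124 : Leaf (walkS st) := ⟨[], [10, 3, 10, 3], 116, 1, (fun _ v => v), (fun off v => (stp3 off (stp10 off (stp3 off (stp10 off v))))), (fun v _ _ => v), fun _ _ => rfl, fun _ _ => rfl⟩
def lf12_125 : Leaf (walkS st) := ⟨[], [8, 2, 8, 2], 38, 2, (fun _ v => v), (fun off v => (stp2 off (stp8 off (stp2 off (stp8 off v))))), (fun v _ _ => v), fun _ _ => rfl, fun _ _ => rfl⟩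
def lf12_126 : Leaf (walkS st) := ⟨[], [6, 1, 6, 1], 27, 0, (fun _ v => v), (fun off v => (stp1 off (stp6 off (stp1 off (stp6 off v))))), (fun v _ _ => v), fun _ _ => rfl, fun _ _ => rfl⟩
def lf12_127 : Leaf (walkS st) := ⟨[], [3, 5, 3, 5], 43, 3, (fun _ v => v), (fun off v => (stp5 off (stp3 off (stp5 off (stp3 off v))))), (fun v _ _ => v), fun _ _ => rfl, fun _ _ => rfl⟩
def lf12_128 : Leaf (walkS st) := ⟨[], [5, 8, 5, 8], 59, 3, (fun _ v => v), (fun off v => (stp8 off (stp5 off (stp8 off (stp5 off v))))), (fun v _ _ => v), fun _ _ => rfl, fun _ _ => rfl⟩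
def lf12_129 : Leaf (walkS st) := ⟨[], [8, 5, 8, 5], 59, 2, (fun _ v => v), (fun off v => (stp5 off (stp8 off (stp5 off (stp8 off v))))), (fun v _ _ => v), fun _ _ => rfl, fun _ _ => rfl⟩
def lf12_130 : Leaf (walkS st) := ⟨[], [6, 7, 6, 7, 6, 7], 131, 2, (fun _ v => v), (fun off v => (stp7 off (stp6 off (stp7 off (stp6 off (stp7 off (stp6 off v))))))), (fun v _ _ => v), fun _ _ => rfl, fun _ _ => rfl⟩
def lf12_131 : Leaf (walkS st) := ⟨[], [4, 8, 4, 8], 53, 3, (fun _ v => v), (fun off v => (stp8 off (stp4 off (stp8 off (stp4 off v))))), (fun v _ _ => v), fun _ _ => rfl, fun _ _ => rfl⟩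
def lf12_132 : Leaf (walkS st) := ⟨[], [7, 3, 7, 3], 45, 2, (fun _ v => v), (fun off v => (stp3 off (stp7 off (stp3 off (stp7 off v))))), (fun v _ _ => v), fun _ _ => rfl, fun _ _ => rfl⟩
def lf12_133 : Leaf (walkS st) := ⟨[5, 12, 12], [12, 5], 5, 0, (fun off v => (stp12 off (stp12 off (stp5 off v)))), (fun off v => (stp5 off (stp12 off v))), (fun _ _ p => p), fun _ _ => rfl, fun _ _ => rfl⟩
def lf12_134 : Leaf (walkS st) := ⟨[5], [12, 5, 12, 12], 5, 0, (fun off v => (stp5 off v)), (fun off v => (stp12 off (stp12 off (stp5 off (stp12 off v))))), (fun _ _ p => p), fun _ _ => rfl, fun _ _ => rfl⟩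
def lf12_135 : Leaf (walkS st) := ⟨[12, 12, 10], [10], 10, 0, (fun off v => (stp10 off (stp12 off (stp12 off v)))), (fun off v => (stp10 off v)), (fun _ _ p => p), fun _ _ => rfl, fun _ _ => rfl⟩
def lf12_136 : Leaf (walkS st) := ⟨[4, 12, 12], [12, 12, 4], 4, 0, (fun off v => (stp12 off (stp12 off (stp4 off v)))), (fun off v => (stp4 off (stp12 off (stp12 off v)))), (fun _ _ p => p), fun _ _ => rfl, fun _ _ => rfl⟩
def lf12_137 : Leaf (walkS st) := ⟨[6, 12], [12, 6, 12], 6, 0, (fun off v => (stp12 off (stp6 off v))), (fun off v => (stp12 off (stp6 off (stp12 off v)))), (fun _ _ p => p), fun _ _ => rfl, fun _ _ => rfl⟩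
def lf12_138 : Leaf (walkS st) := ⟨[], [8, 4, 8, 4], 53, 2, (fun _ v => v), (fun off v => (stp4 off (stp8 off (stp4 off (stp8 off v))))), (fun v _ _ => v), fun _ _ => rfl, fun _ _ => rfl⟩
def lf12_139 : Leaf (walkS st) := ⟨[], [1, 5, 1, 5], 26, 3, (fun _ v => v), (fun off v => (stp5 off (stp1 off (stp5 off (stp1 off v))))), (fun v _ _ => v), fun _ _ => rfl, fun _ _ => rfl⟩
def lf12_140 : Leaf (walkS st) := ⟨[], [10, 1, 10, 1], 31, 0, (fun _ v => v), (fun off v => (stp1 off (stp10 off (stp1 off (stp10 off v))))), (fun v _ _ => v), fun _ _ => rfl, fun _ _ => rfl⟩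
def lf12_141 : Leaf (walkS st) := ⟨[], [5, 1, 5, 1], 26, 0, (fun _ v => v), (fun off v => (stp1 off (stp5 off (stp1 off (stp5 off v))))), (fun v _ _ => v), fun _ _ => rfl, fun _ _ => rfl⟩
def lf12_142 : Leaf (walkS st) := ⟨[], [3, 1, 3, 1], 24, 0, (fun _ v => v), (fun off v => (stp1 off (stp3 off (stp1 off (stp3 off v))))), (fun v _ _ => v), fun _ _ => rfl, fun _ _ => rfl⟩
def lf12_143 : Leaf (walkS st) := ⟨[], [2, 9, 2, 9], 39, 3, (fun _ v => v), (fun off v => (stp9 off (stp2 off (stp9 off (stp2 off v))))), (fun v _ _ => v), fun _ _ => rfl, fun _ _ => rfl⟩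
def lf12_144 : Leaf (walkS st) := ⟨[], [4, 6, 4, 6], 51, 3, (fun _ v => v), (fun off v => (stp6 off (stp4 off (stp6 off (stp4 off v))))), (fun v _ _ => v), fun _ _ => rfl, fun _ _ => rfl⟩
def lf12_145 : Leaf (walkS st) := ⟨[], [2, 7, 2, 7], 37, 3, (fun _ v => v), (fun off v => (stp7 off (stp2 off (stp7 off (stp2 off v))))), (fun v _ _ => v), fun _ _ => rfl, fun _ _ => rfl⟩
def lf12_146 : Leaf (walkS st) := ⟨[], [8, 10, 8, 10], 141, 2, (fun _ v => v), (fun off v => (stp10 off (stp8 off (stp10 off (stp8 off v))))), (fun v _ _ => v), fun _ _ => rfl, fun _ _ => rfl⟩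
def lf12_147 : Leaf (walkS st) := ⟨[], [3, 8, 3, 8], 46, 3, (fun _ v => v), (fun off v => (stp8 off (stp3 off (stp8 off (stp3 off v))))), (fun v _ _ => v), fun _ _ => rfl, fun _ _ => rfl⟩
def lf12_148 : Leaf (walkS st) := ⟨[], [7, 1, 7, 1], 96, 1, (fun _ v => v), (fun off v => (stp1 off (stp7 off (stp1 off (stp7 off v))))), (fun v _ _ => v), fun _ _ => rfl, fun _ _ => rfl⟩
def lf12_149 : Leaf (walkS st) := ⟨[], [5, 0, 5, 0], 16, 2, (fun _ v => v), (fun off v => (stp0 off (stp5 off (stp0 off (stp5 off v))))), (fun v _ _ => v), fun _ _ => rfl, fun _ _ => rfl⟩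
def lf12_150 : Leaf (walkS st) := ⟨[], [10, 6, 10, 6], 66, 2, (fun _ v => v), (fun off v => (stp6 off (stp10 off (stp6 off (stp10 off v))))), (fun v _ _ => v), fun _ _ => rfl, fun _ _ => rfl⟩
def lf12_151 : Leaf (walkS st) := ⟨[10], [12, 12, 10, 12], 10, 0, (fun off v => (stp10 off v)), (fun off v => (stp12 off (stp10 off (stp12 off (stp12 off v))))), (fun _ _ p => p), fun _ _ => rfl, fun _ _ => rfl⟩
def lf12_152 : Leaf (walkS st) := ⟨[12, 12, 3], [3, 12], 3, 0, (fun off v => (stp3 off (stp12 off (stp12 off v)))), (fun off v => (stp12 off (stp3 off v))), (fun _ _ p => p), fun _ _ => rfl, fun _ _ => rfl⟩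
def lf12_153 : Leaf (walkS st) := ⟨[8, 12, 12], [12, 8], 8, 0, (fun off v => (stp12 off (stp12 off (stp8 off v)))), (fun off v => (stp8 off (stp12 off v))), (fun _ _ p => p), fun _ _ => rfl, fun _ _ => rfl⟩
def lf12_154 : Leaf (walkS st) := ⟨[12, 12, 5], [5, 12], 5, 0, (fun off v => (stp5 off (stp12 off (stp12 off v)))), (fun off v => (stp12 off (stp5 off v))), (fun _ _ p => p), fun _ _ => rfl, fun _ _ => rfl⟩
def lf12_155 : Leaf (walkS st) := ⟨[12, 6, 12], [6], 6, 0, (fun off v => (stp12 off (stp6 off (stp12 off v)))), (fun off v => (stp6 off v)), (fun _ _ p => p), fun _ _ => rfl, fun _ _ => rfl⟩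
def lf12_156 : Leaf (walkS st) := ⟨[12, 7, 12], [7], 7, 0, (fun off v => (stp12 off (stp7 off (stp12 off v)))), (fun off v => (stp7 off v)), (fun _ _ p => p), fun _ _ => rfl, fun _ _ => rfl⟩
def lf12_157 : Leaf (walkS st) := ⟨[12, 2, 12], [2], 2, 0, (fun off v => (stp12 off (stp2 off (stp12 off v)))), (fun off v => (stp2 off v)), (fun _ _ p => p), fun _ _ => rfl, fun _ _ => rfl⟩
def lf12_158 : Leaf (walkS st) := ⟨[12, 12, 9], [9], 9, 0, (fun off v => (stp9 off (stp12 off (stp12 off v)))), (fun off v => (stp9 off v)), (fun _ _ p => p), fun _ _ => rfl, fun _ _ => rfl⟩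
def lf12_159 : Leaf (walkS st) := ⟨[5, 12], [12, 5, 12], 5, 0, (fun off v => (stp12 off (stp5 off v))), (fun off v => (stp12 off (stp5 off (stp12 off v)))), (fun _ _ p => p), fun _ _ => rfl, fun _ _ => rfl⟩
def lf12_160 : Leaf (walkS st) := ⟨[2], [12, 12, 2, 12], 2, 0, (fun off v => (stp2 off v)), (fun off v => (stp12 off (stp2 off (stp12 off (stp12 off v))))), (fun _ _ p => p), fun _ _ => rfl, fun _ _ => rfl⟩
def lf12_161 : Leaf (walkS st) := ⟨[7, 12], [12, 7, 12], 7, 0, (fun off v => (stp12 off (stp7 off v))), (fun off v => (stp12 off (stp7 off (stp12 off v)))), (fun _ _ p => p), fun _ _ => rfl, fun _ _ => rfl⟩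
def lf12_162 : Leaf (walkS st) := ⟨[2, 12], [12, 2, 12], 2, 0, (fun off v => (stp12 off (stp2 off v))), (fun off v => (stp12 off (stp2 off (stp12 off v)))), (fun _ _ p => p), fun _ _ => rfl, fun _ _ => rfl⟩
def lf12_163 : Leaf (walkS st) := ⟨[1, 12], [12, 1, 12], 1, 0, (fun off v => (stp12 off (stp1 off v))), (fun off v => (stp12 off (stp1 off (stp12 off v)))), (fun _ _ p => p), fun _ _ => rfl, fun _ _ => rfl⟩
def lf12_164 : Leaf (walkS st) := ⟨[10, 12], [12, 10, 12], 10, 0, (fun off v => (stp12 off (stp10 off v))), (fun off v => (stp12 off (stp10 off (stp12 off v)))), (fun _ _ p => p), fun _ _ => rfl, fun _ _ => rfl⟩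
def lf12_165 : Leaf (walkS st) := ⟨[], [1, 10, 1, 10], 31, 3, (fun _ v => v), (fun off v => (stp10 off (stp1 off (stp10 off (stp1 off v))))), (fun v _ _ => v), fun _ _ => rfl, fun _ _ => rfl⟩
def lf12_166 : Leaf (walkS st) := ⟨[], [3, 10, 3, 10], 48, 3, (fun _ v => v), (fun off v => (stp10 off (stp3 off (stp10 off (stp3 off v))))), (fun v _ _ => v), fun _ _ => rfl, fun _ _ => rfl⟩
def lf12_167 : Leaf (walkS st) := ⟨[], [6, 0, 6, 0], 85, 1, (fun _ v => v), (fun off v => (stp0 off (stp6 off (stp0 off (stp6 off v))))), (fun v _ _ => v), fun _ _ => rfl, fun _ _ => rfl⟩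
def lf12_168 : Leaf (walkS st) := ⟨[], [7, 4, 7, 4], 52, 2, (fun _ v => v), (fun off v => (stp4 off (stp7 off (stp4 off (stp7 off v))))), (fun v _ _ => v), fun _ _ => rfl, fun _ _ => rfl⟩
def lf12_169 : Leaf (walkS st) := ⟨[], [10, 8, 10, 8], 73, 2, (fun _ v => v), (fun off v => (stp8 off (stp10 off (stp8 off (stp10 off v))))), (fun v _ _ => v), fun _ _ => rfl, fun _ _ => rfl⟩
def lf12_170 : Leaf (walkS st) := ⟨[], [5, 6, 5, 6, 5, 6], 57, 1, (fun _ v => v), (fun off v => (stp6 off (stp5 off (stp6 off (stp5 off (stp6 off (stp5 off v))))))), (fun v _ _ => v), fun _ _ => rfl, fun _ _ => rfl⟩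
def lf12_171 : Leaf (walkS st) := ⟨[], [0, 8, 0, 8], 19, 1, (fun _ v => v), (fun off v => (stp8 off (stp0 off (stp8 off (stp0 off v))))), (fun v _ _ => v), fun _ _ => rfl, fun _ _ => rfl⟩
def lf12_172 : Leaf (walkS st) := ⟨[], [10, 2, 3, 4, 5, 6, 7, 10, 2, 3, 4, 5, 6, 7, 10, 2, 3, 4, 5, 6, 7, 10, 2, 3, 4, 5, 6, 7, 10, 2, 3, 4, 5, 6, 7, 10, 2, 3, 4, 5, 6, 7, 10, 2, 3, 4, 5, 6, 7, 10, 0, 2, 3, 4, 5, 6, 7, 10, 2, 3, 4, 5, 6, 7], 78, 51, (fun _ v => v), (fun off v => (stp7 off (stp6 off (stp5 off (stp4 off (stp3 off (stp2 off (stp10 off (stp7 off (stp6 off (stp5 off (stp4 off (stp3 off (stp2 off (stp0 off (stp10 off (stp7 off (stp6 off (stp5 off (stp4 off (stp3 off (stp2 off (stp10 off (stp7 off (stp6 off (stp5 off (stp4 off (stp3 off (stp2 off (stp10 off (stp7 off (stp6 off (stp5 off (stp4 off (stp3 off (stp2 off (stp10 off (stp7 off (stp6 off (stp5 off (stp4 off (stp3 off (stp2 off (stp10 off (stp7 off (stp6 off (stp5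 off (stp4 off (stp3 off (stp2 off (stp10 off (stp7 off (stp6 off (stp5 off (stp4 off (stp3 off (stp2 off (stp10 off (stp7 off (stp6 off (stp5 off (stp4 off (stp3 off (stp2 off (stp10 off v))))))))))))))))))))))))))))))))))))))))))))))))))))))))))))))))), (fun v _ _ => v), fun _ _ => rfl, fun _ _ => rfl⟩
def lf12_173 : Leaf (walkS st) := ⟨[7], [12, 12, 7, 12], 7, 0, (fun off v => (stp7 off v)), (fun off v => (stp12 off (stp7 off (stp12 off (stp12 off v))))), (fun _ _ p => p), fun _ _ => rfl, fun _ _ => rfl⟩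
def lf12_174 : Leaf (walkS st) := ⟨[], [4, 0, 4, 0], 83, 1, (fun _ v => v), (fun off v => (stp0 off (stp4 off (stp0 off (stp4 off v))))), (fun v _ _ => v), fun _ _ => rfl, fun _ _ => rfl⟩
def lf12_175 : Leaf (walkS st) := ⟨[], [3, 4, 3, 4, 3, 4], 42, 5, (fun _ v => v), (fun off v => (stp4 off (stp3 off (stp4 off (stp3 off (stp4 off (stp3 off v))))))), (fun v _ _ => v), fun _ _ => rfl, fun _ _ => rfl⟩
def lf12_176 : Leaf (walkS st) := ⟨[], [3, 6, 3, 6], 112, 2, (fun _ v => v), (fun off v => (stp6 off (stp3 off (stp6 off (stp3 off v))))), (fun v _ _ => v), fun _ _ => rfl, fun _ _ => rfl⟩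
def lf12_177 : Leaf (walkS st) := ⟨[], [1, 3, 1, 3], 24, 3, (fun _ v => v), (fun off v => (stp3 off (stp1 off (stp3 off (stp1 off v))))), (fun v _ _ => v), fun _ _ => rfl, fun _ _ => rfl⟩
def lf12_178 : Leaf (walkS st) := ⟨[], [5, 6, 7, 10, 2, 3, 4, 5, 6, 7, 10, 0, 2, 3, 4, 5, 6, 7, 10, 2, 3, 4, 5, 6, 7, 10, 2, 3, 4, 5, 6, 7, 10, 2, 3, 4, 5, 6, 7, 10, 2, 3, 4, 5, 6, 7, 10, 2, 3, 4, 5, 6, 7, 10, 2, 3, 4, 5, 6, 7, 10, 2, 3, 4], 78, 12, (fun _ v => v), (fun off v => (stp4 off (stp3 off (stp2 off (stp10 off (stp7 off (stp6 off (stp5 off (stp4 off (stp3 off (stp2 off (stp10 off (stp7 off (stp6 off (stp5 off (stp4 off (stp3 off (stp2 off (stp10 off (stp7 off (stp6 off (stp5 off (stp4 off (stp3 off (stp2 off (stp10 off (stp7 off (stp6 off (stp5 off (stp4 off (stp3 off (stp2 off (stp10 off (stp7 off (stp6 off (stp5 off (stp4 off (stp3 off (stp2 off (stp10 off (stp7 off (stp6 off (stp5 off (stp4 off (stp3 off (stp2 off (stp10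 off (stp7 off (stp6 off (stp5 off (stp4 off (stp3 off (stp2 off (stp0 off (stp10 off (stp7 off (stp6 off (stp5 off (stp4 off (stp3 off (stp2 off (stp10 off (stp7 off (stp6 off (stp5 off v))))))))))))))))))))))))))))))))))))))))))))))))))))))))))))))))), (fun v _ _ => v), fun _ _ => rfl, fun _ _ => rfl⟩
def lf12_179 : Leaf (walkS st) := ⟨[], [7, 11, 7, 11], 71, 3, (fun _ v => v), (fun off v => (stp11 off (stp7 off (stp11 off (stp7 off v))))), (fun v _ _ => v), fun _ _ => rfl, fun _ _ => rfl⟩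
def lf12_180 : Leaf (walkS st) := ⟨[], [8, 7, 8, 7, 8, 7], 68, 4, (fun _ v => v), (fun off v => (stp7 off (stp8 off (stp7 off (stp8 off (stp7 off (stp8 off v))))))), (fun v _ _ => v), fun _ _ => rfl, fun _ _ => rfl⟩
def lf12_181 : Leaf (walkS st) := ⟨[], [7, 5, 7, 5], 58, 2, (fun _ v => v), (fun off v => (stp5 off (stp7 off (stp5 off (stp7 off v))))), (fun v _ _ => v), fun _ _ => rfl, fun _ _ => rfl⟩
def lf12_182 : Leaf (walkS st) := ⟨[], [10, 5, 10, 5, 10, 5], 61, 2, (fun _ v => v), (fun off v => (stp5 off (stp10 off (stp5 off (stp10 off (stp5 off (stp10 off v))))))), (fun v _ _ => v), fun _ _ => rfl, fun _ _ => rfl⟩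
def lf12_183 : Leaf (walkS st) := ⟨[], [7, 8, 7, 8, 7, 8], 68, 5, (fun _ v => v), (fun off v => (stp8 off (stp7 off (stp8 off (stp7 off (stp8 off (stp7 off v))))))), (fun v _ _ => v), fun _ _ => rfl, fun _ _ => rfl⟩
def lf12_184 : Leaf (walkS st) := ⟨[], [10, 7, 10, 7], 70, 2, (fun _ v => v), (fun off v => (stp7 off (stp10 off (stp7 off (stp10 off v))))), (fun v _ _ => v), fun _ _ => rfl, fun _ _ => rfl⟩
def lf12_185 : Leaf (walkS st) := ⟨[], [6, 5, 6, 5, 6, 5], 57, 2, (fun _ v => v), (fun off v => (stp5 off (stp6 off (stp5 off (stp6 off (stp5 off (stp6 off v))))))), (fun v _ _ => v), fun _ _ => rfl, fun _ _ => rfl⟩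
def lf12_186 : Leaf (walkS st) := ⟨[], [1, 6, 1, 6], 27, 3, (fun _ v => v), (fun off v => (stp6 off (stp1 off (stp6 off (stp1 off v))))), (fun v _ _ => v), fun _ _ => rfl, fun _ _ => rfl⟩
def lf12_187 : Leaf (walkS st) := ⟨[], [0, 7, 0, 7], 18, 3, (fun _ v => v), (fun off v => (stp7 off (stp0 off (stp7 off (stp0 off v))))), (fun v _ _ => v), fun _ _ => rfl, fun _ _ => rfl⟩
def lf12_188 : Leaf (walkS st) := ⟨[], [2, 1, 2, 1, 2, 1], 23, 2, (fun _ v => v), (fun off v => (stp1 off (stp2 off (stp1 off (stp2 off (stp1 off (stp2 off v))))))), (fun v _ _ => v), fun _ _ => rfl, fun _ _ => rfl⟩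
def lf12_189 : Leaf (walkS st) := ⟨[], [6, 8, 6, 8], 64, 3, (fun _ v => v), (fun off v => (stp8 off (stp6 off (stp8 off (stp6 off v))))), (fun v _ _ => v), fun _ _ => rfl, fun _ _ => rfl⟩
def lf12_190 : Leaf (walkS st) := ⟨[], [1, 0, 1, 0, 1, 0], 12, 2, (fun _ v => v), (fun off v => (stp0 off (stp1 off (stp0 off (stp1 off (stp0 off (stp1 off v))))))), (fun v _ _ => v), fun _ _ => rfl, fun _ _ => rfl⟩
def lf12_191 : Leaf (walkS st) := ⟨[], [0, 6, 0, 6], 17, 3, (fun _ v => v), (fun off v => (stp6 off (stp0 off (stp6 off (stp0 off v))))), (fun v _ _ => v), fun _ _ => rfl, fun _ _ => rfl⟩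
def lf12_192 : Leaf (walkS st) := ⟨[], [0, 2, 0, 2], 13, 3, (fun _ v => v), (fun off v => (stp2 off (stp0 off (stp2 off (stp0 off v))))), (fun v _ _ => v), fun _ _ => rfl, fun _ _ => rfl⟩
def lf12_193 : Leaf (walkS st) := ⟨[12, 8], [8, 12, 12], 8, 0, (fun off v => (stp8 off (stp12 off v))), (fun off v => (stp12 off (stp12 off (stp8 off v)))), (fun _ _ p => p), fun _ _ => rfl, fun _ _ => rfl⟩
def lf12_194 : Leaf (walkS st) := ⟨[6, 12, 12], [12, 6], 6, 0, (fun off v => (stp12 off (stp12 off (stp6 off v)))), (fun off v => (stp6 off (stp12 off v))), (fun _ _ p => p), fun _ _ => rfl, fun _ _ => rfl⟩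
def lf12_195 : Leaf (walkS st) := ⟨[5, 12, 12], [12, 12, 5], 5, 0, (fun off v => (stp12 off (stp12 off (stp5 off v)))), (fun off v => (stp5 off (stp12 off (stp12 off v)))), (fun _ _ p => p), fun _ _ => rfl, fun _ _ => rfl⟩
def lf12_196 : Leaf (walkS st) := ⟨[8], [12, 12, 8, 12], 8, 0, (fun off v => (stp8 off v)), (fun off v => (stp12 off (stp8 off (stp12 off (stp12 off v))))), (fun _ _ p => p), fun _ _ => rfl, fun _ _ => rfl⟩
def lf12_197 : Leaf (walkS st) := ⟨[12, 12, 7], [7], 7, 0, (fun off v => (stp7 off (stp12 off (stp12 off v)))), (fun off v => (stp7 off v)), (fun _ _ p => p), fun _ _ => rfl, fun _ _ => rfl⟩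
def lf12_198 : Leaf (walkS st) := ⟨[10, 12, 12], [12, 10], 10, 0, (fun off v => (stp12 off (stp12 off (stp10 off v)))), (fun off v => (stp10 off (stp12 off v))), (fun _ _ p => p), fun _ _ => rfl, fun _ _ => rfl⟩
def lf12_199 : Leaf (walkS st) := ⟨[12, 6, 12], [6, 12], 6, 0, (fun off v => (stp12 off (stp6 off (stp12 off v)))), (fun off v => (stp12 off (stp6 off v))), (fun _ _ p => p), fun _ _ => rfl, fun _ _ => rfl⟩
def lf12_200 : Leaf (walkS st) := ⟨[0], [12, 12, 0, 12], 0, 0, (fun off v => (stp0 off v)), (fun off v => (stp12 off (stp0 off (stp12 off (stp12 off v))))), (fun _ _ p => p), fun _ _ => rfl, fun _ _ => rfl⟩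
def lf12_201 : Leaf (walkS st) := ⟨[8], [12, 8, 12, 12], 8, 0, (fun off v => (stp8 off v)), (fun off v => (stp12 off (stp12 off (stp8 off (stp12 off v))))), (fun _ _ p => p), fun _ _ => rfl, fun _ _ => rfl⟩
def lf12_202 : Leaf (walkS st) := ⟨[12, 4, 12], [4, 12], 4, 0, (fun off v => (stp12 off (stp4 off (stp12 off v)))), (fun off v => (stp12 off (stp4 off v))), (fun _ _ p => p), fun _ _ => rfl, fun _ _ => rfl⟩
def lf12_203 : Leaf (walkS st) := ⟨[12, 12, 10, 12], [10], 10, 0, (fun off v => (stp12 off (stp10 off (stp12 off (stp12 off v))))), (fun off v => (stp10 off v)), (fun _ _ p => p), fun _ _ => rfl, fun _ _ => rfl⟩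
def lf12_204 : Leaf (walkS st) := ⟨[12, 6], [6, 12, 12], 6, 0, (fun off v => (stp6 off (stp12 off v))), (fun off v => (stp12 off (stp12 off (stp6 off v)))), (fun _ _ p => p), fun _ _ => rfl, fun _ _ => rfl⟩
def lf12_205 : Leaf (walkS st) := ⟨[12, 0, 12], [0], 0, 0, (fun off v => (stp12 off (stp0 off (stp12 off v)))), (fun off v => (stp0 off v)), (fun _ _ p => p), fun _ _ => rfl, fun _ _ => rfl⟩
def lf12_206 : Leaf (walkS st) := ⟨[12, 12, 11, 12], [11], 11, 0, (fun off v => (stp12 off (stp11 off (stp12 off (stp12 off v))))), (fun off v => (stp11 off v)), (fun _ _ p => p), fun _ _ => rfl, fun _ _ => rfl⟩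
def lf12_207 : Leaf (walkS st) := ⟨[6], [12, 6, 12, 12], 6, 0, (fun off v => (stp6 off v)), (fun off v => (stp12 off (stp12 off (stp6 off (stp12 off v))))), (fun _ _ p => p), fun _ _ => rfl, fun _ _ => rfl⟩
def lf12_208 : Leaf (walkS st) := ⟨[11], [12, 12, 11, 12, 12], 11, 0, (fun off v => (stp11 off v)), (fun off v => (stp12 off (stp12 off (stp11 off (stp12 off (stp12 off v)))))), (fun _ _ p => p), fun _ _ => rfl, fun _ _ => rfl⟩
def lf12_209 : Leaf (walkS st) := ⟨[9, 12], [12, 9, 12], 9, 0, (fun off v => (stp12 off (stp9 off v))), (fun off v => (stp12 off (stp9 off (stp12 off v)))), (fun _ _ p => p), fun _ _ => rfl, fun _ _ => rfl⟩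
def lf12_210 : Leaf (walkS st) := ⟨[], [5, 4, 3, 2, 10, 7, 6, 5, 4, 3, 2, 10, 7, 6, 5, 4, 3, 2, 10, 7, 6, 5, 4, 3, 2, 10, 7, 6, 5, 4, 3, 2, 10, 7, 6, 5, 4, 3, 2, 10, 7, 6, 5, 4, 3, 2, 10, 7, 6, 5, 4, 3, 2, 10, 7, 6, 5, 4, 3, 2, 0, 10, 7, 6, 12, 12], 146, 60, (fun _ v => v), (fun off v => (stp12 off (stp12 off (stp6 off (stp7 off (stp10 off (stp0 off (stp2 off (stp3 off (stp4 off (stp5 off (stp6 off (stp7 off (stp10 off (stp2 off (stp3 off (stp4 off (stp5 off (stp6 off (stp7 off (stp10 off (stp2 off (stp3 off (stp4 off (stp5 off (stp6 off (stp7 off (stp10 off (stp2 off (stp3 off (stp4 off (stp5 off (stp6 off (stp7 off (stp10 off (stp2 off (stp3 off (stp4 off (stp5 off (stp6 off (stp7 off (stp10 off (stp2 off (stp3 off (stp4 off (stp5 off (stp6 off (stp7 off (stp10 off (stp2 off (stp3 off (stp4 off (stp5 off (stp6 off (stp7 off (stp10 off (stp2 off (stp3 off (stp4 off (stp5 off (stp6 off (stp7 off (stp10 off (stp2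 off (stp3 off (stp4 off (stp5 off v))))))))))))))))))))))))))))))))))))))))))))))))))))))))))))))))))), (fun v _ _ => v), fun _ _ => rfl, fun _ _ => rfl⟩
def lf12_211 : Leaf (walkS st) := ⟨[12, 10], [10, 12, 12], 10, 0, (fun off v => (stp10 off (stp12 off v))), (fun off v => (stp12 off (stp12 off (stp10 off v)))), (fun _ _ p => p), fun _ _ => rfl, fun _ _ => rfl⟩
def lf12_212 : Leaf (walkS st) := ⟨[11, 12, 12], [12, 11], 11, 0, (fun off v => (stp12 off (stp12 off (stp11 off v)))), (fun off v => (stp11 off (stp12 off v))), (fun _ _ p => p), fun _ _ => rfl, fun _ _ => rfl⟩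
def lf12_213 : Leaf (walkS st) := ⟨[], [8, 3, 8, 3], 46, 2, (fun _ v => v), (fun off v => (stp3 off (stp8 off (stp3 off (stp8 off v))))), (fun v _ _ => v), fun _ _ => rfl, fun _ _ => rfl⟩
def lf12_214 : Leaf (walkS st) := ⟨[], [11, 2, 11, 2], 41, 0, (fun _ v => v), (fun off v => (stp2 off (stp11 off (stp2 off (stp11 off v))))), (fun v _ _ => v), fun _ _ => rfl, fun _ _ => rfl⟩
def lf12_215 : Leaf (walkS st) := ⟨[], [2, 11, 2, 11], 41, 3, (fun _ v => v), (fun off v => (stp11 off (stp2 off (stp11 off (stp2 off v))))), (fun v _ _ => v), fun _ _ => rfl, fun _ _ => rfl⟩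
def lf12_216 : Leaf (walkS st) := ⟨[], [4, 10, 4, 10], 55, 3, (fun _ v => v), (fun off v => (stp10 off (stp4 off (stp10 off (stp4 off v))))), (fun v _ _ => v), fun _ _ => rfl, fun _ _ => rfl⟩
def lf12_217 : Leaf (walkS st) := ⟨[], [5, 4, 5, 4, 5, 4, 12], 118, 3, (fun _ v => v), (fun off v => (stp12 off (stp4 off (stp5 off (stp4 off (stp5 off (stp4 off (stp5 off v)))))))), (fun v _ _ => v), fun _ _ => rfl, fun _ _ => rfl⟩
def lf12_218 : Leaf (walkS st) := ⟨[], [4, 3, 4, 3, 4, 3], 42, 2, (fun _ v => v), (fun off v => (stp3 off (stp4 off (stp3 off (stp4 off (stp3 off (stp4 off v))))))), (fun v _ _ => v), fun _ _ => rfl, fun _ _ => rfl⟩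
def lf12_219 : Leaf (walkS st) := ⟨[], [9, 7, 9, 7], 69, 2, (fun _ v => v), (fun off v => (stp7 off (stp9 off (stp7 off (stp9 off v))))), (fun v _ _ => v), fun _ _ => rfl, fun _ _ => rfl⟩
def lf12_220 : Leaf (walkS st) := ⟨[], [3, 0, 3, 0], 82, 1, (fun _ v => v), (fun off v => (stp0 off (stp3 off (stp0 off (stp3 off v))))), (fun v _ _ => v), fun _ _ => rfl, fun _ _ => rfl⟩
def lf12_221 : Leaf (walkS st) := ⟨[], [5, 2, 5, 2], 103, 3, (fun _ v => v), (fun off v => (stp2 off (stp5 off (stp2 off (stp5 off v))))), (fun v _ _ => v), fun _ _ => rfl, fun _ _ => rfl⟩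
def lf12_222 : Leaf (walkS st) := ⟨[], [7, 2, 7, 2, 12], 37, 2, (fun _ v => v), (fun off v => (stp12 off (stp2 off (stp7 off (stp2 off (stp7 off v)))))), (fun v _ _ => v), fun _ _ => rfl, fun _ _ => rfl⟩
def lf12_223 : Leaf (walkS st) := ⟨[], [7, 0, 7, 0], 86, 1, (fun _ v => v), (fun off v => (stp0 off (stp7 off (stp0 off (stp7 off v))))), (fun v _ _ => v), fun _ _ => rfl, fun _ _ => rfl⟩
def lf12_224 : Leaf (walkS st) := ⟨[], [6, 2, 6, 2], 104, 1, (fun _ v => v), (fun off v => (stp2 off (stp6 off (stp2 off (stp6 off v))))), (fun v _ _ => v), fun _ _ => rfl, fun _ _ => rfl⟩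
def lf12_225 : Leaf (walkS st) := ⟨[], [11, 9, 11, 9], 76, 2, (fun _ v => v), (fun off v => (stp9 off (stp11 off (stp9 off (stp11 off v))))), (fun v _ _ => v), fun _ _ => rfl, fun _ _ => rfl⟩
def lf12_226 : Leaf (walkS st) := ⟨[], [11, 7, 11, 7], 71, 2, (fun _ v => v), (fun off v => (stp7 off (stp11 off (stp7 off (stp11 off v))))), (fun v _ _ => v), fun _ _ => rfl, fun _ _ => rfl⟩
def lf12_227 : Leaf (walkS st) := ⟨[], [11, 8, 11, 8], 74, 0, (fun _ v => v), (fun off v => (stp8 off (stp11 off (stp8 off (stp11 off v))))), (fun v _ _ => v), fun _ _ => rfl, fun _ _ => rfl⟩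
def lf12_228 : Leaf (walkS st) := ⟨[], [9, 4, 9, 4], 54, 0, (fun _ v => v), (fun off v => (stp4 off (stp9 off (stp4 off (stp9 off v))))), (fun v _ _ => v), fun _ _ => rfl, fun _ _ => rfl⟩
def lf12_229 : Leaf (walkS st) := ⟨[], [5, 9, 5, 9], 60, 3, (fun _ v => v), (fun off v => (stp9 off (stp5 off (stp9 off (stp5 off v))))), (fun v _ _ => v), fun _ _ => rfl, fun _ _ => rfl⟩
def lf12_230 : Leaf (walkS st) := ⟨[], [4, 9, 4, 9], 54, 3, (fun _ v => v), (fun off v => (stp9 off (stp4 off (stp9 off (stp4 off v))))), (fun v _ _ => v), fun _ _ => rfl, fun _ _ => rfl⟩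
def lf12_231 : Leaf (walkS st) := ⟨[], [3, 9, 3, 9], 47, 3, (fun _ v => v), (fun off v => (stp9 off (stp3 off (stp9 off (stp3 off v))))), (fun v _ _ => v), fun _ _ => rfl, fun _ _ => rfl⟩
def tree12 : RTree (walkS st) :=
  (.node 5 (.node 2 (.node 1 (.fork lf12_0) (.fork lf12_1)) (.node 3 (.fork lf12_2) (.node 4 (.fork lf12_3) (.fork lf12_4)))) (.node 10 (.node 7 (.node 6 (.fork lf12_5) (.fork lf12_6)) (.node 8 (.fork lf12_7) (.node 9 (.fork lf12_8) (.fork lf12_9)))) (.node 26 (.node 15 (.node 12 (.node 11 (.fork lf12_10) (.fork lf12_11)) (.node 13 (.fork lf12_12) (.node 14 (.fork lf12_13) (.fork lf12_14)))) (.node 20 (.node 17 (.node 16 (.fork lf12_15) (.fork lf12_16)) (.node 18 (.fork lf12_17) (.node 19 (.fork lf12_18) (.fork lf12_19)))) (.node 23 (.node 21 (.fork lf12_20) (.node 22 (.fork lf12_21) (.fork lf12_22))) (.node 24 (.fork lf12_23) (.node 25 (.fork lf12_24) (.fork lf12_25)))))) (.node 45 (.node 34 (.node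 30 (.node 28 (.node 27 (.fork lf12_26) (.fork lf12_27)) (.node 29 (.fork lf12_28) (.fork lf12_29))) (.node 32 (.node 31 (.fork lf12_30) (.fork lf12_31)) (.node 33 (.fork lf12_32) (.fork lf12_33)))) (.node 39 (.node 36 (.node 35 (.fork lf12_34) (.fork lf12_35)) (.node 37 (.fork lf12_36) (.node 38 (.fork lf12_37) (.fork lf12_38)))) (.node 42 (.node 40 (.fork lf12_39) (.node 41 (.fork lf12_40) (.fork lf12_41))) (.node 43 (.fork lf12_42) (.node 44 (.fork lf12_43) (.fork lf12_44)))))) (.node 63 (.node 53 (.node 49 (.node 47 (.node 46 (.fork lf12_45) (.fork lf12_46)) (.node 48 (.fork lf12_47) (.fork lf12_48))) (.node 51 (.node 50 (.fork lf12_49) (.fork lf12_50)) (.node 52 (.fork lf12_51) (.fork lf12_52)))) (.node 58 (.node 55 (.node 54 (.fork lf12_53) (.fork lf12_54)) (.node 56 (.fork lf12_55) (.node 57 (.fork lf12_56) (.fork lf12_57)))) (.node 60 (.node 59 (.fork lf12_58) (.fork lf12_59)) (.node 61 (.fork lf12_60) (.node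 62 (.fork lf12_61) (.fork lf12_62)))))) (.node 78 (.node 69 (.node 66 (.node 64 (.fork lf12_63) (.node 65 (.fork lf12_64) (.fork lf12_65))) (.node 67 (.fork lf12_66) (.node 68 (.fork lf12_67) (.fork lf12_68)))) (.node 73 (.node 71 (.node 70 (.fork lf12_69) (.fork lf12_70)) (.node 72 (.fork lf12_71) (.fork lf12_72))) (.node 75 (.node 74 (.fork lf12_73) (.fork lf12_74)) (.node 76 (.fork lf12_75) (.node 77 (.fork lf12_76) (.fork lf12_77)))))) (.node 94 (.node 85 (.node 81 (.node 79 (.fork lf12_78) (.node 80 (.fork lf12_79) (.fork lf12_80))) (.node 83 (.node 82 (.fork lf12_81) (.fork lf12_82)) (.node 84 (.fork lf12_83) (.fork lf12_84)))) (.node 89 (.node 87 (.node 86 (.fork lf12_85) (.fork lf12_86)) (.node 88 (.fork lf12_87) (.fork lf12_88))) (.node 91 (.node 90 (.fork lf12_89) (.fork lf12_90)) (.node 92 (.fork lf12_91) (.node 93 (.fork lf12_92) (.fork lf12_93)))))) (.node 120 (.node 104 (.node 98 (.node 96 (.node 95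 (.fork lf12_94) (.fork lf12_95)) (.node 97 (.fork lf12_96) (.fork lf12_97))) (.node 101 (.node 99 (.fork lf12_98) (.node 100 (.fork lf12_99) (.fork lf12_100))) (.node 102 (.fork lf12_101) (.node 103 (.fork lf12_102) (.fork lf12_103))))) (.node 111 (.node 107 (.node 105 (.fork lf12_104) (.node 106 (.fork lf12_105) (.fork lf12_106))) (.node 109 (.node 108 (.fork lf12_107) (.fork lf12_108)) (.node 110 (.fork lf12_109) (.fork lf12_110)))) (.node 115 (.node 113 (.node 112 (.fork lf12_111) (.fork lf12_112)) (.node 114 (.fork lf12_113) (.fork lf12_114))) (.node 117 (.node 116 (.fork lf12_115) (.fork lf12_116)) (.node 118 (.fork lf12_117) (.node 119 (.fork lf12_118) (.fork lf12_119))))))) (.node 155 (.node 134 (.node 126 (.node 123 (.node 121 (.fork lf12_120) (.node 122 (.fork lf12_121) (.fork lf12_122))) (.node 124 (.fork lf12_123) (.node 125 (.fork lf12_124) (.fork lf12_125)))) (.node 130 (.node 128 (.node 127 (.fork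 lf12_126) (.fork lf12_127)) (.node 129 (.fork lf12_128) (.fork lf12_129))) (.node 132 (.node 131 (.fork lf12_130) (.fork lf12_131)) (.node 133 (.fork lf12_132) (.fork lf12_133))))) (.node 143 (.node 138 (.node 136 (.node 135 (.fork lf12_134) (.fork lf12_135)) (.node 137 (.fork lf12_136) (.fork lf12_137))) (.node 140 (.node 139 (.fork lf12_138) (.fork lf12_139)) (.node 141 (.fork lf12_140) (.node 142 (.fork lf12_141) (.fork lf12_142))))) (.node 149 (.node 146 (.node 144 (.fork lf12_143) (.node 145 (.fork lf12_144) (.fork lf12_145))) (.node 147 (.fork lf12_146) (.node 148 (.fork lf12_147) (.fork lf12_148)))) (.node 152 (.node 150 (.fork lf12_149) (.node 151 (.fork lf12_150) (.fork lf12_151))) (.node 153 (.fork lf12_152) (.node 154 (.fork lf12_153) (.fork lf12_154))))))) (.node 185 (.node 166 (.node 160 (.node 157 (.node 156 (.fork lf12_155) (.fork lf12_156)) (.node 158 (.fork lf12_157) (.node 159 (.fork lf12_158)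 (.fork lf12_159)))) (.node 163 (.node 161 (.fork lf12_160) (.node 162 (.fork lf12_161) (.fork lf12_162))) (.node 164 (.fork lf12_163) (.node 165 (.fork lf12_164) (.fork lf12_165))))) (.node 173 (.node 169 (.node 167 (.fork lf12_166) (.node 168 (.fork lf12_167) (.fork lf12_168))) (.node 170 (.fork lf12_169) (.node 171 (.fork lf12_170) (.node 172 (.fork lf12_171) (.fork lf12_172))))) (.node 179 (.node 176 (.node 174 (.fork lf12_173) (.node 175 (.fork lf12_174) (.fork lf12_175))) (.node 177 (.fork lf12_176) (.node 178 (.fork lf12_177) (.fork lf12_178)))) (.node 182 (.node 180 (.fork lf12_179) (.node 181 (.fork lf12_180) (.fork lf12_181))) (.node 183 (.fork lf12_182) (.node 184 (.fork lf12_183) (.fork lf12_184))))))) (.node 208 (.node 196 (.node 190 (.node 187 (.node 186 (.fork lf12_185) (.fork lf12_186)) (.node 188 (.fork lf12_187) (.node 189 (.fork lf12_188) (.fork lf12_189)))) (.node 193 (.node 191 (.fork lf12_190)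 (.node 192 (.fork lf12_191) (.fork lf12_192))) (.node 194 (.fork lf12_193) (.node 195 (.fork lf12_194) (.fork lf12_195))))) (.node 202 (.node 199 (.node 197 (.fork lf12_196) (.node 198 (.fork lf12_197) (.fork lf12_198))) (.node 200 (.fork lf12_199) (.node 201 (.fork lf12_200) (.fork lf12_201)))) (.node 205 (.node 203 (.fork lf12_202) (.node 204 (.fork lf12_203) (.fork lf12_204))) (.node 206 (.fork lf12_205) (.node 207 (.fork lf12_206) (.fork lf12_207)))))) (.node 220 (.node 214 (.node 211 (.node 209 (.fork lf12_208) (.node 210 (.fork lf12_209) (.fork lf12_210))) (.node 212 (.fork lf12_211) (.node 213 (.fork lf12_212) (.fork lf12_213)))) (.node 217 (.node 215 (.fork lf12_214) (.node 216 (.fork lf12_215) (.fork lf12_216))) (.node 218 (.fork lf12_217) (.node 219 (.fork lf12_218) (.fork lf12_219))))) (.node 226 (.node 223 (.node 221 (.fork lf12_220) (.node 222 (.fork lf12_221) (.fork lf12_222))) (.node 224 (.fork lf12_223)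 (.node 225 (.fork lf12_224) (.fork lf12_225)))) (.node 229 (.node 227 (.fork lf12_226) (.node 228 (.fork lf12_227) (.fork lf12_228))) (.node 230 (.fork lf12_229) (.node 231 (.fork lf12_230) (.fork lf12_231)))))))))))))))))
def trees : Nat → RTree (walkS st)
  | 0 => tree0
  | 1 => tree1
  | 2 => tree2
  | 3 => tree3
  | 4 => tree4
  | 5 => tree5
  | 6 => tree6
  | 7 => tree7
  | 8 => tree8
  | 9 => tree9
  | 10 => tree10
  | 11 => tree11
  | 12 => tree12
  | _ => .tleaf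
noncomputable def fs0 (v : Nat) : Bool := chkSlot par tA0 je0 pe 8 255 16 (deadF par tA12) (fun _ => 357465) tree0 0 v
noncomputable def fs1 (v : Nat) : Bool := chkSlot par tA1 je1 pe 8 255 16 (deadF par tA12) (fun _ => 357465) tree1 1 v
noncomputable def fs2 (v : Nat) : Bool := chkSlot par tA2 je2 pe 8 255 16 (deadF par tA12) (fun _ => 357465) tree2 2 v
noncomputable def fs3 (v : Nat) : Bool := chkSlot par tA3 je3 pe 8 255 16 (deadF par tA12) (fun _ => 357465) tree3 3 v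
noncomputable def fs4 (v : Nat) : Bool := chkSlot par tA4 je4 pe 8 255 16 (deadF par tA12) (fun _ => 357465) tree4 4 v
noncomputable def fs5 (v : Nat) : Bool := chkSlot par tA5 je5 pe 8 255 16 (deadF par tA12) (fun _ => 357465) tree5 5 v
noncomputable def fs6 (v : Nat) : Bool := chkSlot par tA6 je6 pe 8 255 16 (deadF par tA12) (fun _ => 357465) tree6 6 v
noncomputable def fs7 (v : Nat) : Bool := chkSlot par tA7 je7 pe 8 255 16 (deadF par tA12) (fun _ => 357465) tree7 7 v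
noncomputable def fs8 (v : Nat) : Bool := chkSlot par tA8 je8 pe 8 255 16 (deadF par tA12) (fun _ => 357465) tree8 8 v
noncomputable def fs9 (v : Nat) : Bool := chkSlot par tA9 je9 pe 8 255 16 (deadF par tA12) (fun _ => 357465) tree9 9 v
noncomputable def fs10 (v : Nat) : Bool := chkSlot par tA10 je10 pe 8 255 16 (deadF par tA12) (fun _ => 357465) tree10 10 v
noncomputable def fs11 (v : Nat) : Bool := chkSlot par tA11 je11 pe 8 255 16 (deadF par tA12) (fun _ => 357465) tree11 11 v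
noncomputable def fs12 (v : Nat) : Bool := chkSlot par tA12 je12 pe 8 255 16 (fun _ => true) (fun v => Nat.pred v) tree12 12 v
def gl (k : Nat) : Bool := liveF par tA12 (Nat.succ k)

end

end Cfsg.Agent.Lib.Helper35.Fi24a
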